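import Mathlib

set_option autoImplicit false

namespace Cfsg.Agent.Lib.Helper22

/-- the index of the centralizer of `g` is the size of its conjugacy class -/
theorem index_centralizer_eq_ncard_conj {G : Type*} [Group G] (g : G) :
    (Subgroup.centralizer ({g} : Set G)).index = {h : G | IsConj g h}.ncard := by
  have h1 : (Subgroup.centralizer ({g} : Set G)).index =
      (MulAction.stabilizer (ConjAct G) g).index := by
    rw [Subgroup.centralizer_eq_comap_stabilizer]
    exact Subgroup.index_comap_of_surjective (MulAction.stabilizer (ConjAct G) g)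
      (f := (ConjAct.toConjAct (G := G)).toMonoidHom) ConjAct.toConjAct.surjective
  rw [h1, MulAction.index_stabilizer, ConjAct.orbit_eq_carrier_conjClasses]
  congr 1

theorem index_centralizer_conj {G : Type*} [Group G] (g c : G) :
    (Subgroup.centralizer ({c * g * c⁻¹} : Set G)).index =
      (Subgroup.centralizer ({g} : Set G)).index := by
  rw [index_centralizer_eq_ncard_conj, index_centralizer_eq_ncard_conj]
  congr 1
  ext h
  simp only [Set.mem_ofPred_eq]
  have hc : IsConj g (c * g * c⁻¹) := isConj_iff.2 ⟨c, rfl⟩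
  exact ⟨fun h1 => hc.trans h1, fun h1 => hc.symm.trans h1⟩

/-- a subgroup containing a Sylow `r`-subgroup for every prime `r` is everything -/
theorem eq_top_of_sylow_le {G : Type*} [Group G] [Finite G] (S : Subgroup G)
    (h : ∀ (r : ℕ) [Fact r.Prime], ∃ R : Sylow r G, (R : Subgroup G) ≤ S) : S = ⊤ := by
  apply Subgroup.eq_top_of_le_card
  apply Nat.le_of_dvd Nat.card_pos
  refine (Nat.dvd_iff_prime_pow_dvd_dvd _ _).2 fun r k hr hk => ?_
  have : Fact r.Prime := ⟨hr⟩
  obtain ⟨R, hR⟩ := h r
  exact dvd_trans (R.pow_dvd_card_of_pow_dvd_card hk) (Subgroup.card_dvd_of_le hR)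

/-- an element of `p`-power order lies in a normal Sylow `p`-subgroup -/
theorem mem_sylow_of_normal {G : Type*} [Group G] [Finite G] (p : ℕ) [Fact p.Prime]
    (P : Sylow p G) (hP : (P : Subgroup G).Normal) (x : G) (a : ℕ) (hx : orderOf x = p ^ a) :
    x ∈ (P : Subgroup G) := by
  have hpg : IsPGroup p (Subgroup.zpowers x) := by
    apply IsPGroup.of_card (n := a)
    rw [Nat.card_zpowers, hx]
  obtain ⟨P', hP'⟩ := hpg.exists_le_sylow
  have := Sylow.unique_of_normal P hP
  have : P' = P := Subsingleton.elim _ _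
  rw [this] at hP'
  exact hP' (Subgroup.mem_zpowers x)

/-- elements of a `p`-subgroup have `p`-power order (in the ambient group) -/
theorem orderOf_of_mem_pgroup {G : Type*} [Group G] (p : ℕ) [Fact p.Prime]
    (P : Subgroup G) (hP : IsPGroup p P) (x : G) (hx : x ∈ P) : ∃ a : ℕ, orderOf x = p ^ a := by
  obtain ⟨c, hc⟩ := (IsPGroup.iff_orderOf.1 hP) ⟨x, hx⟩
  rw [Subgroup.orderOf_mk] at hc
  exact ⟨c, hc⟩

end Cfsg.Agent.Lib.Helper22
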