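import Mathlib

set_option autoImplicit false

namespace Cfsg.Agent.Lib.Helper22

section
variable {G : Type*} [Group G]

/-- membership in a conjugate Sylow subgroup -/
theorem mem_smul_sylow_iff {p : ℕ} (c x : G) (P : Sylow p G) :
    x ∈ ((c • P : Sylow p G) : Subgroup G) ↔ c⁻¹ * x * c ∈ (P : Subgroup G) := by
  rw [Sylow.coe_subgroup_smul, Subgroup.mem_pointwise_smul_iff_inv_smul_mem]
  simp [MulAut.smul_def, mul_assoc]

/-- `p`-part / `p'`-part decomposition of an element of finite order -/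
theorem exists_p_decomp [Finite G] (p : ℕ) [Fact p.Prime] (g : G) :
    ∃ a b : G, g = a * b ∧ Commute a b ∧ (∃ k : ℕ, orderOf a = p ^ k) ∧
      (orderOf b).Coprime p ∧ a ∈ Subgroup.zpowers g ∧ b ∈ Subgroup.zpowers g := by
  have hp : p.Prime := Fact.out
  obtain ⟨k, m, hm, hkm⟩ := Nat.exists_eq_pow_mul_and_not_dvd (orderOf_pos g).ne' p hp.ne_one
  have hcop : Nat.Coprime (p ^ k) m := Nat.Coprime.pow_left _ ((Nat.Prime.coprime_iff_not_dvd hp).2 hm)
  have hm0 : m ≠ 0 := by
    rintro rfl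
    exact hm (dvd_zero p)
  have hbez : (1 : ℤ) = (p ^ k : ℕ) * Nat.gcdA (p ^ k) m + m * Nat.gcdB (p ^ k) m := by
    have := Nat.gcd_eq_gcd_ab (p ^ k) m
    rw [hcop.gcd_eq_one] at this
    exact_mod_cast this
  have ho1 : orderOf (g ^ m) = p ^ k := by
    rw [orderOf_pow_of_dvd hm0 (by rw [hkm]; exact dvd_mul_left _ _), hkm,
      Nat.mul_div_cancel _ (Nat.pos_of_ne_zero hm0)]
  have ho2 : orderOf (g ^ (p ^ k)) = m := by
    rw [orderOf_pow_of_dvd (pow_ne_zero _ hp.ne_zero) (by rw [hkm]; exact dvd_mul_right _ _), hkm,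
      Nat.mul_div_cancel_left _ (pow_pos hp.pos k)]
  refine ⟨(g ^ m) ^ (Nat.gcdB (p ^ k) m), (g ^ (p ^ k)) ^ (Nat.gcdA (p ^ k) m), ?_, ?_, ?_, ?_, ?_, ?_⟩
  · rw [← zpow_natCast g (p ^ k), ← zpow_natCast g m, ← zpow_mul, ← zpow_mul, ← zpow_add,
      add_comm, ← hbez, zpow_one]
  · exact ((Commute.refl g).pow_pow _ _).zpow_zpow _ _
  · have hd : orderOf ((g ^ m) ^ (Nat.gcdB (p ^ k) m)) ∣ p ^ k := by
      rw [← ho1]; exact orderOf_dvd_of_mem_zpowers ⟨_, rfl⟩
    obtain ⟨j, -, hj⟩ := (Nat.dvd_prime_pow hp).1 hd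
    exact ⟨j, hj⟩
  · have hd : orderOf ((g ^ (p ^ k)) ^ (Nat.gcdA (p ^ k) m)) ∣ m := by
      rw [← ho2]; exact orderOf_dvd_of_mem_zpowers ⟨_, rfl⟩
    exact Nat.Coprime.coprime_dvd_left hd ((Nat.Prime.coprime_iff_not_dvd hp).2 hm).symm
  · exact Subgroup.zpow_mem _ (Subgroup.pow_mem _ (Subgroup.mem_zpowers g) _) _
  · exact Subgroup.zpow_mem _ (Subgroup.pow_mem _ (Subgroup.mem_zpowers g) _) _

/-- a `p`-element of a subgroup `C` of index prime to `p` lies in a Sylow `p`-subgroup of `G`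
contained in `C` -/
theorem exists_sylow_le_of_pelement [Finite G] (p : ℕ) [Fact p.Prime] (C : Subgroup G)
    (hC : ¬ p ∣ C.index) (a : G) (ha : a ∈ C) (k : ℕ) (hk : orderOf a = p ^ k) :
    ∃ R : Sylow p G, (R : Subgroup G) ≤ C ∧ a ∈ (R : Subgroup G) := by
  have hp : p.Prime := Fact.out
  have hpg : IsPGroup p (Subgroup.zpowers (⟨a, ha⟩ : C)) := by
    apply IsPGroup.of_card (n := k)
    rw [Nat.card_zpowers, Subgroup.orderOf_mk, hk]
  obtain ⟨R₀, hR₀⟩ := hpg.exists_le_sylow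
  have hcard : Nat.card ((R₀ : Subgroup C).map C.subtype) =
      p ^ (Nat.card G).factorization p := by
    rw [Nat.card_congr ((R₀ : Subgroup C).equivMapOfInjective C.subtype C.subtype_injective).symm.toEquiv,
      Sylow.card_eq_multiplicity, ← Subgroup.card_mul_index C,
      Nat.factorization_mul Nat.card_pos.ne' (Subgroup.index_ne_zero_of_finite),
      Finsupp.add_apply, Nat.factorization_eq_zero_of_not_dvd hC, add_zero]
  refine ⟨Sylow.ofCard _ hcard, ?_, ?_⟩
  · rw [Sylow.coe_ofCard]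
    exact Subgroup.map_subtype_le _
  · rw [Sylow.coe_ofCard, Subgroup.mem_map]
    exact ⟨⟨a, ha⟩, hR₀ (Subgroup.mem_zpowers _), rfl⟩

/-- a finite group is not the union of the conjugates of a proper subgroup -/
theorem eq_top_of_conj_cover [Finite G] (H : Subgroup G)
    (hH : ∀ g : G, ∃ c : G, c⁻¹ * g * c ∈ H) : H = ⊤ := by
  classical
  set T := (G ⧸ H) × ({h : H | h ≠ 1} : Set H) with hT
  let Ψ : Option T → G := fun o =>
    match o with
    | none => 1
    | some t => t.1.out * ((t.2 : H) : G) * (t.1.out)⁻¹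
  have hΨ : Function.Surjective Ψ := by
    intro g
    by_cases hg : g = 1
    · exact ⟨none, hg.symm⟩
    · obtain ⟨c, hc⟩ := hH g
      obtain ⟨h', hh'⟩ := QuotientGroup.mk_out_eq_mul H c
      have hmem : (h' : G)⁻¹ * (c⁻¹ * g * c) * (h' : G) ∈ H :=
        H.mul_mem (H.mul_mem (H.inv_mem h'.2) hc) h'.2
      have hne : (⟨_, hmem⟩ : H) ≠ 1 := by
        intro h1
        have h2 : (h' : G)⁻¹ * (c⁻¹ * g * c) * (h' : G) = 1 := congrArg Subtype.val h1
        apply hg
        have : g = c * (h' : G) * ((h' : G)⁻¹ * (c⁻¹ * g * c) * (h' : G)) * (c * (h' : G))⁻¹ := by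
          group
        rw [this, h2]; group
      refine ⟨some (QuotientGroup.mk c, ⟨⟨_, hmem⟩, hne⟩), ?_⟩
      simp only [Ψ]
      rw [hh']
      group
  have hcard : Nat.card G ≤ Nat.card T + 1 := by
    rw [← Finite.card_option]
    exact Nat.card_le_card_of_surjective Ψ hΨ
  have hT' : Nat.card T = H.index * (Nat.card H - 1) := by
    rw [hT, Nat.card_prod, Nat.card_coe_set_eq]
    congr 1
    have : ({h : H | h ≠ 1} : Set H) = Set.univ \ {1} := by
      ext h; simp
    rw [this, Set.ncard_sdiff_singleton_of_mem (Set.mem_univ _), Set.ncard_univ]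
  rw [hT', ← Subgroup.index_mul_card H] at hcard
  have hpos : 0 < Nat.card H := Nat.card_pos
  have hidx : H.index ≤ 1 := by
    have h1 : H.index * Nat.card H = H.index * (Nat.card H - 1) + H.index := by
      rw [← Nat.mul_succ]
      congr 1
      omega
    omega
  have hidx0 : H.index ≠ 0 := Subgroup.index_ne_zero_of_finite
  exact Subgroup.index_eq_one.1 (by omega)

end

end Cfsg.Agent.Lib.Helper22
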