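import Mathlib
import Cfsg.Agent.Lib.Helper22.Sylow

set_option autoImplicit false

namespace Cfsg.Agent.Lib.Helper22

section
variable {G : Type*} [Group G]

theorem card_mul_relIndex_of_le {N M : Subgroup G} (h : N ≤ M) :
    Nat.card N * N.relIndex M = Nat.card M := by
  have h1 : (⊥ : Subgroup G).relIndex N * N.relIndex M = (⊥ : Subgroup G).relIndex M :=
    Subgroup.relIndex_mul_relIndex ⊥ N M bot_le h
  simpa [Subgroup.relIndex_bot_left] using h1

/-- `|AN| = |N| * [A : A ∩ N]` for `N` normal -/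
theorem card_sup_normal (A N : Subgroup G) [N.Normal] :
    Nat.card (A ⊔ N : Subgroup G) = Nat.card N * N.relIndex A := by
  rw [← Subgroup.relIndex_sup_right A N]
  exact (card_mul_relIndex_of_le le_sup_right).symm

/-- Sylow conjugacy inside a subgroup `H`: a `p`-element of `H` is `H`-conjugate into any
`p`-subgroup `A ≤ H` with `p ∤ [H : A]`. -/
theorem exists_conj_mem_of_pelement [Finite G] (p : ℕ) [Fact p.Prime] (H A : Subgroup G)
    (hAp : IsPGroup p A) (hidx : ¬ p ∣ A.relIndex H)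
    (u : G) (hu : u ∈ H) (k : ℕ) (hk : orderOf u = p ^ k) :
    ∃ h ∈ H, h⁻¹ * u * h ∈ A := by
  have hA' : IsPGroup p (A.subgroupOf H) := by
    apply hAp.comap_of_injective
    exact Subgroup.subtype_injective H
  have hidx' : ¬ p ∣ (A.subgroupOf H).index := hidx
  set S : Sylow p H := hA'.toSylow hidx' with hS
  have hpg : IsPGroup p (Subgroup.zpowers (⟨u, hu⟩ : H)) := by
    apply IsPGroup.of_card (n := k)
    rw [Nat.card_zpowers, Subgroup.orderOf_mk, hk]
  obtain ⟨Q, hQ⟩ := hpg.exists_le_sylow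
  obtain ⟨h, hh⟩ := MulAction.exists_smul_eq H S Q
  refine ⟨h, h.2, ?_⟩
  have h1 : (⟨u, hu⟩ : H) ∈ ((h • S : Sylow p H) : Subgroup H) := by
    rw [hh]; exact hQ (Subgroup.mem_zpowers _)
  rw [mem_smul_sylow_iff, hS] at h1
  have h2 := (IsPGroup.mem_toSylow hA' hidx').1 h1
  rw [Subgroup.mem_subgroupOf] at h2
  simpa using h2

/-- `⟨x⟩` is a Sylow `p`-subgroup of `⟨x⟩N` if `x` is a `p`-element and `N` is a normal `p'`-group -/
theorem not_dvd_relIndex_zpowers_sup [Finite G] (p : ℕ) [Fact p.Prime] (x : G) (l : ℕ)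
    (hx : orderOf x = p ^ l) (N : Subgroup G) [N.Normal] (hN : ¬ p ∣ Nat.card N) :
    ¬ p ∣ (Subgroup.zpowers x).relIndex (Subgroup.zpowers x ⊔ N) := by
  have hp : p.Prime := Fact.out
  intro hdvd
  have h1 := card_sup_normal (Subgroup.zpowers x) N
  have h2 := card_mul_relIndex_of_le (le_sup_left : Subgroup.zpowers x ≤ Subgroup.zpowers x ⊔ N)
  rw [Nat.card_zpowers, hx] at h2
  have h3 : N.relIndex (Subgroup.zpowers x) ∣ p ^ l := by
    have := Subgroup.relIndex_dvd_card N (Subgroup.zpowers x)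
    rwa [Nat.card_zpowers, hx] at this
  have h4 : p ^ (l + 1) ∣ Nat.card N * N.relIndex (Subgroup.zpowers x) := by
    rw [← h1, ← h2, pow_succ]
    exact Nat.mul_dvd_mul_left _ hdvd
  have hcop : (p ^ (l + 1)).Coprime (Nat.card N) :=
    Nat.Coprime.pow_left _ ((Nat.Prime.coprime_iff_not_dvd hp).2 hN)
  have h5 : p ^ (l + 1) ∣ p ^ l := dvd_trans (hcop.dvd_of_dvd_mul_left h4) h3
  have := (Nat.pow_dvd_pow_iff_le_right hp.one_lt).1 h5
  omega

end

end Cfsg.Agent.Lib.Helper22
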