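import Mathlib

set_option autoImplicit false

namespace Cfsg.Agent.Lib.Helper22

theorem conj_pow_mul_of_comm {G : Type*} [Group G] (h n c : G) (hc : h * c = c * h)
    (hn : h * n * h⁻¹ = n * c) (k : ℕ) : h ^ k * n * (h ^ k)⁻¹ = n * c ^ k := by
  induction k with
  | zero => simp
  | succ k ih =>
    have hck : h * c ^ k * h⁻¹ = c ^ k := by
      have : Commute h (c ^ k) := (show Commute h c from hc).pow_right k
      rw [this.eq, mul_inv_cancel_right]
    calc h ^ (k + 1) * n * (h ^ (k + 1))⁻¹
        = h * (h ^ k * n * (h ^ k)⁻¹) * h⁻¹ := by rw [pow_succ']; group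
      _ = h * (n * c ^ k) * h⁻¹ := by rw [ih]
      _ = (h * n * h⁻¹) * (h * c ^ k * h⁻¹) := by group
      _ = n * c * c ^ k := by rw [hn, hck]
      _ = n * c ^ (k + 1) := by rw [pow_succ', mul_assoc]

theorem thompson_axb {G : Type*} [Group G] (p : ℕ) [Fact p.Prime] (N : Subgroup G) [Finite N]
    (hN : IsPGroup p N) (x : G) (hx : x ∈ N) (h : G) (hnorm : ∀ n ∈ N, h * n * h⁻¹ ∈ N)
    (hcomm : h * x = x * h) (hord : (orderOf h).Coprime p)
    (hcent : ∀ n ∈ N, n * x = x * n → h * n = n * h) :
    ∀ n ∈ N, h * n = n * h := by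
  have hp : p.Prime := Fact.out
  have hnil : Group.IsNilpotent N := hN.isNilpotent
  obtain ⟨r, hr⟩ := hnil.nilpotent
  have key : ∀ i : ℕ, ∀ n : N, n ∈ Subgroup.upperCentralSeries N i → h * (n : G) = (n : G) * h := by
    intro i
    induction i with
    | zero =>
      intro n hn
      rw [Subgroup.upperCentralSeries_zero, Subgroup.mem_bot] at hn
      rw [hn]; simp
    | succ i ih =>
      intro n hn
      rw [Subgroup.mem_upperCentralSeries_succ_iff] at hn
      have h1 := ih _ (hn ⟨x, hx⟩)
      have h1' : h * ((n : G) * x * (n : G)⁻¹ * x⁻¹) = ((n : G) * x * (n : G)⁻¹ * x⁻¹) * h := by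
        simpa [commutatorElement_def] using h1
      set n' := h * (n : G) * h⁻¹ with hn'
      have hn'N : n' ∈ N := hnorm _ n.2
      have hx' : h * x * h⁻¹ = x := by rw [hcomm, mul_inv_cancel_right]
      have h2 : n' * x * n'⁻¹ * x⁻¹ = (n : G) * x * (n : G)⁻¹ * x⁻¹ := by
        have e1 : n' * x * n'⁻¹ * x⁻¹ =
            h * ((n : G) * (h⁻¹ * x * h) * (n : G)⁻¹ * (h⁻¹ * x⁻¹ * h)) * h⁻¹ := by
          rw [hn']; group
        have hx'' : h⁻¹ * x * h = x := by
          rw [mul_assoc, ← hcomm, inv_mul_cancel_left]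
        have hx''' : h⁻¹ * x⁻¹ * h = x⁻¹ := by
          have : h⁻¹ * x⁻¹ * h = (h⁻¹ * x * h)⁻¹ := by group
          rw [this, hx'']
        rw [e1, hx'', hx''', h1', mul_inv_cancel_right]
      have h3 : n' * x * n'⁻¹ = (n : G) * x * (n : G)⁻¹ := mul_right_cancel h2
      set c := (n : G)⁻¹ * n' with hc
      have hcN : c ∈ N := N.mul_mem (N.inv_mem n.2) hn'N
      have hcx : c * x = x * c := by
        have : c * x * c⁻¹ = x := by
          calc c * x * c⁻¹ = (n : G)⁻¹ * (n' * x * n'⁻¹) * (n : G) := by rw [hc]; group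
            _ = x := by rw [h3]; group
        calc c * x = c * x * c⁻¹ * c := by group
          _ = x * c := by rw [this]
      have hhc : h * c = c * h := hcent c hcN hcx
      have hnc : h * (n : G) * h⁻¹ = (n : G) * c := by rw [hc, ← hn']; group
      have h4 := conj_pow_mul_of_comm h (n : G) c hhc hnc (orderOf h)
      rw [pow_orderOf_eq_one] at h4
      have h5 : c ^ orderOf h = 1 := by
        have : (n : G) = (n : G) * c ^ orderOf h := by simpa using h4
        exact (mul_eq_left.1 this.symm)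
      have h6 : orderOf c ∣ orderOf h := orderOf_dvd_of_pow_eq_one h5
      obtain ⟨j, hj⟩ := (IsPGroup.iff_orderOf.1 hN) ⟨c, hcN⟩
      rw [Subgroup.orderOf_mk] at hj
      have h7 : orderOf c = 1 := by
        have h8 : (orderOf c).Coprime (orderOf h) := by
          rw [hj]; exact Nat.Coprime.pow_left _ hord.symm
        exact h8.eq_one_of_dvd h6
      have h9 : c = 1 := orderOf_eq_one_iff.1 h7
      rw [h9, mul_one] at hnc
      calc h * (n : G) = h * (n : G) * h⁻¹ * h := by group
        _ = (n : G) * h := by rw [hnc]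
  intro n hn
  exact key r ⟨n, hn⟩ (by rw [hr]; exact Subgroup.mem_top _)

end Cfsg.Agent.Lib.Helper22
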