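import Mathlib
import Cfsg.Agent.Lib.Helper18.BLK.Defs
import Cfsg.Agent.Lib.helper6.BLKR0
import Cfsg.Agent.Lib.Helper13.BLKR
import Cfsg.Agent.S4210

/-!
# Project BLK, piece A1x : Claim 1 of Lemma A under the induction hypothesis.
-/

set_option autoImplicit false

namespace Cfsg.Agent.Lib.Helper18.BLK

universe u

/-- **A1x**. Claim 1 of Lemma A, under the induction hypothesis. -/
theorem rc_mem_of_pow_mem_aux {P : Type u} [Group P] [Finite P] {p : ℕ} [Fact p.Prime] (hp2 : p ≠ 2)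
    (hP : IsPGroup p P) (E : Subgroup P) (hEc : E ≤ Subgroup.center P)
    (hTE : ∀ x : P, x ^ p = 1 → x ∈ E)
    (ih : ∀ H : Subgroup P, H ≠ ⊤ → Cfsg.IsMetacyclic H)
    (x g : P) (hx : x ^ p ∈ E) : rc x g ∈ E := by
  by_cases htop : Subgroup.zpowers x = ⊤
  · -- `P` is cyclic, generated by `x`
    have hg : g ∈ Subgroup.zpowers x := by rw [htop]; trivial
    obtain ⟨k, rfl⟩ := Subgroup.mem_zpowers_iff.mp hg
    have : rc x (x ^ k) = 1 := by
      rw [rc_eq_one_iff]
      exact (Commute.self_zpow x k).eq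
    rw [this]
    exact E.one_mem
  · -- `⟨x⟩` lies in a maximal subgroup `M`, which is normal
    obtain ⟨M, hM, hxM⟩ := (eq_top_or_exists_le_coatom (Subgroup.zpowers x)).resolve_left htop
    have : Group.IsNilpotent P := hP.isNilpotent
    have hMn : M.Normal :=
      Subgroup.NormalizerCondition.normal_of_coatom M Group.normalizerCondition_of_isNilpotent hM
    have hxM' : x ∈ M := hxM (Subgroup.mem_zpowers x)
    have hyM : g⁻¹ * x * g ∈ M := by
      have := hMn.conj_mem x hxM' g⁻¹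
      rwa [inv_inv] at this
    have hMreg : Cfsg.IsRegularPGroup p M :=
      regular_of_cyclic_commutator hp2 (hP.to_subgroup M)
        (cyclic_commutator_of_metacyclic (ih M hM.1))
    -- `(g⁻¹ x g)^p = x^p`
    have hpow : (g⁻¹ * x * g) ^ p = x ^ p := by
      have h1 : (g⁻¹ * x * g) ^ p = g⁻¹ * x ^ p * g := by
        have := map_pow (MulAut.conj g⁻¹) x p
        simpa [MulAut.conj_apply] using this.symm
      rw [h1]
      have hc := Subgroup.mem_center_iff.mp (hEc hx) g
      rw [mul_assoc, ← hc, ← mul_assoc, inv_mul_cancel, one_mul]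
    have h2 := (Cfsg.Agent.S4210.result hMreg (⟨x, hxM'⟩ : M) ⟨g⁻¹ * x * g, hyM⟩ 1).mp (by
      apply Subtype.ext
      simp only [pow_one, Subgroup.coe_pow]
      exact hpow.symm)
    have h3 : (x * (g⁻¹ * x * g)⁻¹) ^ p = 1 := by
      have := congrArg Subtype.val h2
      simpa using this
    have h4 : x * (g⁻¹ * x * g)⁻¹ ∈ E := hTE _ h3
    have h5 : (x * (g⁻¹ * x * g)⁻¹)⁻¹ ∈ E := E.inv_mem h4
    have h6 : rc x g = (x * (g⁻¹ * x * g)⁻¹)⁻¹ := by
      have hc := Subgroup.mem_center_iff.mp (hEc h5) x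
      -- `x⁻¹ * c * x = c` for the central element `c`
      have h7 : x⁻¹ * (x * (g⁻¹ * x * g)⁻¹)⁻¹ * x = (x * (g⁻¹ * x * g)⁻¹)⁻¹ := by
        rw [mul_assoc, ← hc, ← mul_assoc, inv_mul_cancel, one_mul]
      rw [← h7]
      unfold rc
      group
    rw [h6]
    exact h5

end Cfsg.Agent.Lib.Helper18.BLK
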