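import Mathlib
import Cfsg.Agent.Lib.Helper18.BLK.Defs
import Cfsg.Agent.S4210
import Cfsg.Agent.S0644

/-!
# Project BLK, piece R2a : the `p`-th powers of a regular `p`-group with small `Ω₁`.
-/

set_option autoImplicit false

namespace Cfsg.Agent.Lib.Helper18.BLK

/-- **R2a**. in a regular `p`-group whose elements of order dividing `p` lie in a subgroup of order
`≤ p²`, the `p`-th powers form a normal subgroup of index `≤ p²`. -/
theorem exists_agemo {P : Type*} [Group P] [Finite P] {p : ℕ} [Fact p.Prime]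
    (hreg : Cfsg.IsRegularPGroup p P) (E : Subgroup P)
    (hE : Nat.card E ≤ p ^ 2) (hTE : ∀ x : P, x ^ p = 1 → x ∈ E) :
    ∃ V : Subgroup P, V.Normal ∧ (∀ v ∈ V, ∃ h : P, v = h ^ p) ∧ (∀ h : P, h ^ p ∈ V) ∧
      V.index ≤ p ^ 2 := by
  classical
  set V : Subgroup P := Cfsg.powerClosure p 1 ⊤ with hV
  have hset := (Cfsg.Agent.S0644.result hreg (⊤ : Subgroup P) 1).1
  have hV1 : ∀ v ∈ V, ∃ h : P, v = h ^ p := by
    intro v hv
    have : v ∈ {y : P | ∃ x ∈ (⊤ : Subgroup P), y = x ^ (p ^ 1)} := by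
      rw [hset]; exact hv
    obtain ⟨x, -, hx⟩ := this
    exact ⟨x, by rw [hx, pow_one]⟩
  have hV2 : ∀ h : P, h ^ p ∈ V := by
    intro h
    have : h ^ p ∈ {y : P | ∃ x ∈ (⊤ : Subgroup P), y = x ^ (p ^ 1)} :=
      ⟨h, Subgroup.mem_top h, by rw [pow_one]⟩
    rw [hset] at this
    exact this
  have hVn : V.Normal := by
    refine ⟨fun v hv g => ?_⟩
    obtain ⟨h, rfl⟩ := hV1 v hv
    have : g * h ^ p * g⁻¹ = (g * h * g⁻¹) ^ p := by
      simp
    rw [this]
    exact hV2 _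
  refine ⟨V, hVn, hV1, hV2, ?_⟩
  -- counting
  choose r hr using hV1
  have hmem : ∀ x : P, x * (r (x ^ p) (hV2 x))⁻¹ ∈ E := by
    intro x
    apply hTE
    have h1 : x ^ p ^ 1 = (r (x ^ p) (hV2 x)) ^ p ^ 1 := by
      rw [pow_one]
      exact hr (x ^ p) (hV2 x)
    have := (Cfsg.Agent.S4210.result hreg x (r (x ^ p) (hV2 x)) 1).mp h1
    rwa [pow_one] at this
  let φ : P → V × E := fun x => (⟨x ^ p, hV2 x⟩, ⟨x * (r (x ^ p) (hV2 x))⁻¹, hmem x⟩)
  have hφ : Function.Injective φ := by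
    intro x y hxy
    have h1 : x ^ p = y ^ p := congrArg (fun t : V × E => (t.1 : P)) hxy
    have h2 : x * (r (x ^ p) (hV2 x))⁻¹ = y * (r (y ^ p) (hV2 y))⁻¹ :=
      congrArg (fun t : V × E => (t.2 : P)) hxy
    have h3 : r (x ^ p) (hV2 x) = r (y ^ p) (hV2 y) := by
      congr 1
    rw [h3] at h2
    exact mul_right_cancel h2
  have hcard : Nat.card P ≤ Nat.card V * Nat.card E := by
    rw [← Nat.card_prod]
    exact Nat.card_le_card_of_injective φ hφ
  have hidx := V.card_mul_index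
  have hVpos : 0 < Nat.card V := Nat.card_pos
  have : Nat.card V * V.index ≤ Nat.card V * p ^ 2 := by
    rw [hidx]
    exact hcard.trans (Nat.mul_le_mul_left _ hE)
  exact Nat.le_of_mul_le_mul_left this hVpos

end Cfsg.Agent.Lib.Helper18.BLK
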