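import Mathlib

set_option autoImplicit false

namespace Cfsg.Agent.Lib.Helper22

theorem burnside_type {L : Type*} [Group L] [Finite L] (p : ℕ) [Fact p.Prime] (P : Sylow p L)
    (hNC : Subgroup.normalizer ((P : Subgroup L) : Set L) ≤ Subgroup.centralizer ((P : Subgroup L) : Set L)) :
    ∃ K : Subgroup L, K.Normal ∧ K.IsComplement' (P : Subgroup L) ∧
      ∀ g, g ∈ K ↔ (orderOf g).Coprime p := by
  have hp : p.Prime := Fact.out
  refine ⟨(MonoidHom.transferSylow P hNC).ker, inferInstance,
    MonoidHom.ker_transferSylow_isComplement' P hNC, ?_⟩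
  intro g
  constructor
  · intro hg
    have h1 : orderOf g ∣ Nat.card (MonoidHom.transferSylow P hNC).ker := by
      have := orderOf_dvd_natCard (⟨g, hg⟩ : (MonoidHom.transferSylow P hNC).ker)
      rwa [Subgroup.orderOf_mk] at this
    have h2 : ¬ p ∣ Nat.card (MonoidHom.transferSylow P hNC).ker :=
      MonoidHom.not_dvd_card_ker_transferSylow P hNC
    exact Nat.Coprime.coprime_dvd_left h1 ((Nat.Prime.coprime_iff_not_dvd hp).2 h2).symm
  · intro hg
    rw [MonoidHom.mem_ker]
    have h1 : orderOf (MonoidHom.transferSylow P hNC g) ∣ orderOf g := orderOf_map_dvd _ g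
    obtain ⟨k, hk⟩ := (IsPGroup.iff_orderOf.1 P.2) (MonoidHom.transferSylow P hNC g)
    have h2 : (p ^ k).Coprime (p ^ k) := by
      have h3 : (p ^ k).Coprime p := by
        rw [← hk]; exact Nat.Coprime.coprime_dvd_left h1 hg
      exact h3.pow_right k
    rw [Nat.coprime_self] at h2
    rw [h2] at hk
    exact orderOf_eq_one_iff.1 hk

theorem burnside_sub {G : Type*} [Group G] [Finite G] (p : ℕ) [Fact p.Prime] (P : Sylow p G)
    (L : Subgroup G) (hPL : (P : Subgroup G) ≤ L)
    (hNC : ∀ g ∈ L, g ∈ Subgroup.normalizer ((P : Subgroup G) : Set G) →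
      ∀ y ∈ (P : Subgroup G), g * y = y * g) :
    ∃ K : Subgroup G, K ≤ L ∧ (∀ g, g ∈ K ↔ g ∈ L ∧ (orderOf g).Coprime p) ∧
      Nat.card K * Nat.card (P : Subgroup G) = Nat.card L ∧
      (∀ l ∈ L, ∃ k ∈ K, ∃ y ∈ (P : Subgroup G), l = k * y) := by
  have hcond : Subgroup.normalizer (((P.subtype hPL : Sylow p L) : Subgroup L) : Set L) ≤
      Subgroup.centralizer (((P.subtype hPL : Sylow p L) : Subgroup L) : Set L) := by
    intro g hg
    rw [Subgroup.mem_centralizer_iff]
    intro y hy
    have hy' : (y : G) ∈ (P : Subgroup G) := by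
      have : y ∈ (P : Subgroup G).subgroupOf L := hy
      exact Subgroup.mem_subgroupOf.1 this
    have hgN : (g : G) ∈ Subgroup.normalizer ((P : Subgroup G) : Set G) := by
      apply Subgroup.mem_normalizer_fintype
      intro z hz
      have hz' : z ∈ (P : Subgroup G) := hz
      have h1 : (⟨z, hPL hz'⟩ : L) ∈ ((P.subtype hPL : Sylow p L) : Subgroup L) := by
        show (⟨z, hPL hz'⟩ : L) ∈ (P : Subgroup G).subgroupOf L
        exact Subgroup.mem_subgroupOf.2 hz'
      have h2 := (Subgroup.mem_normalizer_iff.1 hg _).1 h1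
      have h3 : g * ⟨z, hPL hz'⟩ * g⁻¹ ∈ (P : Subgroup G).subgroupOf L := h2
      have h4 := Subgroup.mem_subgroupOf.1 h3
      show (g : G) * z * (g : G)⁻¹ ∈ (P : Subgroup G)
      simpa using h4
    have := hNC (g : G) g.2 hgN (y : G) hy'
    exact Subtype.ext this.symm
  obtain ⟨K, hKn, hKc, hKmem⟩ := burnside_type p (P.subtype hPL) hcond
  have hmemK : ∀ g, g ∈ K.map L.subtype ↔ g ∈ L ∧ (orderOf g).Coprime p := by
    intro g
    rw [Subgroup.mem_map]
    constructor
    · rintro ⟨k, hk, rfl⟩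
      refine ⟨k.2, ?_⟩
      have := (hKmem k).1 hk
      simpa using this
    · rintro ⟨hgL, hgo⟩
      refine ⟨⟨g, hgL⟩, (hKmem _).2 ?_, rfl⟩
      rw [Subgroup.orderOf_mk]; exact hgo
  refine ⟨K.map L.subtype, ?_, hmemK, ?_, ?_⟩
  · intro g hg
    exact ((hmemK g).1 hg).1
  · have h1 := hKc.card_mul_card
    have h2 : Nat.card (K.map L.subtype) = Nat.card K :=
      Subgroup.card_map_of_injective (Subgroup.subtype_injective L)
    have h3 : Nat.card ((P.subtype hPL : Sylow p L) : Subgroup L) = Nat.card (P : Subgroup G) := by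
      rw [Sylow.coe_subtype]
      exact Nat.card_congr (Subgroup.subgroupOfEquivOfLe hPL).toEquiv
    rw [h2, ← h3, h1]
  · intro l hl
    have h1 : (⟨l, hl⟩ : L) ∈ ((K ⊔ ((P.subtype hPL : Sylow p L) : Subgroup L) : Subgroup L) : Set L) := by
      rw [hKc.sup_eq_top]; trivial
    rw [Subgroup.normal_mul, Set.mem_mul] at h1
    obtain ⟨k, hk, y, hy, hky⟩ := h1
    have hy' : (y : G) ∈ (P : Subgroup G) := by
      have : y ∈ (P : Subgroup G).subgroupOf L := hy
      exact Subgroup.mem_subgroupOf.1 this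
    refine ⟨(k : G), Subgroup.mem_map_of_mem L.subtype hk, (y : G), hy', ?_⟩
    have := congrArg Subtype.val hky
    simpa using this.symm

end Cfsg.Agent.Lib.Helper22
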