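import Mathlib
import Cfsg.Agent.Lib.helper7.BD.Defs

/-!
# Project BD, piece IDEM : an equivariant idempotent of a "local" module is projective or
its complement is.
-/

set_option autoImplicit false

namespace Cfsg.Agent.Lib.helper7.BD

universe u v w

section D
variable {F : Type*} [Field F]

/-- IDEM -/
theorem proj_of_idem {H : Type u} [Group H] [Fintype H] {Y : Type v} [AddCommGroup Y] [Module F Y]
    (ρ : Representation F H Y)
    (hloc : ∀ φ : Y →ₗ[F] Y, IsHom ρ ρ φ → ∃ c : F, IsProjHom ρ ρ (φ - c • LinearMap.id))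
    (π : Y →ₗ[F] Y) (hπ : IsHom ρ ρ π) (hidem : π ∘ₗ π = π) :
    IsProjHom ρ ρ π ∨ IsProjHom ρ ρ (LinearMap.id - π) := by
  obtain ⟨c, hT⟩ := hloc π hπ
  set T : Y →ₗ[F] Y := π - c • LinearMap.id with hTdef
  have hTT : IsProjHom ρ ρ (T ∘ₗ T) := hT.comp_left hT.isHom
  -- the key identity
  have key : (c - c * c) • (LinearMap.id : Y →ₗ[F] Y) = T ∘ₗ T - (1 - 2 * c) • T := by
    refine LinearMap.ext fun y => ?_
    have h1 : π (π y) = π y := LinearMap.congr_fun hidem y
    simp only [hTdef, LinearMap.smul_apply, LinearMap.id_apply, LinearMap.sub_apply,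
      LinearMap.comp_apply, map_sub, map_smul, h1]
    module
  have hproj : IsProjHom ρ ρ ((c - c * c) • (LinearMap.id : Y →ₗ[F] Y)) := by
    rw [key]
    exact hTT.sub (hT.smul _)
  by_cases hc : c - c * c = 0
  · have hc' : c * (1 - c) = 0 := by rw [← hc]; ring
    rcases mul_eq_zero.mp hc' with h0 | h1
    · left
      have : π = T := by rw [hTdef, h0, zero_smul, sub_zero]
      rw [this]
      exact hT
    · right
      have h1' : c = 1 := by
        have := sub_eq_zero.mp h1
        exact this.symm
      have : LinearMap.id - π = -T := by rw [hTdef, h1', one_smul, neg_sub]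
      rw [this]
      exact hT.neg
  · left
    have hid : IsProjHom ρ ρ (LinearMap.id : Y →ₗ[F] Y) := by
      have := hproj.smul (c - c * c)⁻¹
      rwa [smul_smul, inv_mul_cancel₀ hc, one_smul] at this
    exact hid.of_id_source hπ

end D

end Cfsg.Agent.Lib.helper7.BD
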