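import Mathlib
import Cfsg.Agent.Lib.helper7.BD.Defs
import Cfsg.Agent.Lib.Helper22.BDIDEM

/-!
# Project BD, piece UNIQ : uniqueness of the simple target of a non-projective map out of a module
with local endomorphism ring (modulo projectives), by induction on the dimension.
-/

set_option autoImplicit false

namespace Cfsg.Agent.Lib.helper7.BD

universe u v w

section D
variable {F : Type*} [Field F]

/-- the restriction of a representation to the kernel of an equivariant endomorphism -/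
noncomputable def bduniq_kerRep {H : Type u} [Group H] {Y : Type v} [AddCommGroup Y] [Module F Y]
    (ρ : Representation F H Y) (π : Y →ₗ[F] Y) (hπ : IsHom ρ ρ π) :
    Representation F H (LinearMap.ker π) where
  toFun h := (ρ h).restrict (p := LinearMap.ker π) (q := LinearMap.ker π) (fun y hy => by
    rw [LinearMap.mem_ker] at hy ⊢
    rw [hπ.apply, hy, map_zero])
  map_one' := by ext; simp
  map_mul' a b := by ext; simp

theorem bduniq_kerRep_coe {H : Type u} [Group H] {Y : Type v} [AddCommGroup Y] [Module F Y]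
    (ρ : Representation F H Y) (π : Y →ₗ[F] Y) (hπ : IsHom ρ ρ π) (h : H) (y : LinearMap.ker π) :
    ((bduniq_kerRep ρ π hπ h y : LinearMap.ker π) : Y) = ρ h (y : Y) := rfl

/-- the induction behind UNIQ -/
theorem bduniq_aux {H : Type u} [Group H] [Fintype H]
    (hsplit : ∀ (Y : Type v) [AddCommGroup Y] [Module F Y] [FiniteDimensional F Y] [Nontrivial Y]
      (ρ : Representation F H Y), ∃ π : Y →ₗ[F] Y, IsHom ρ ρ π ∧ π ∘ₗ π = π ∧ π ≠ 0 ∧
      ∀ (S' : Type w) [AddCommGroup S'] [Module F S'] (S'' : Type w) [AddCommGroup S''] [Module F S'']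
        (σ' : Representation F H S') (σ'' : Representation F H S''), σ'.IsIrreducible → σ''.IsIrreducible →
        ∀ (g' : Y →ₗ[F] S') (g'' : Y →ₗ[F] S''), IsHom ρ σ' g' → IsHom ρ σ'' g'' →
        g' ∘ₗ π ≠ 0 → g'' ∘ₗ π ≠ 0 → IsIso σ' σ'')
    {S' : Type w} [AddCommGroup S'] [Module F S'] {S'' : Type w} [AddCommGroup S''] [Module F S'']
    (σ' : Representation F H S') (σ'' : Representation F H S'') [σ'.IsIrreducible] [σ''.IsIrreducible]
    (n : ℕ) :
    ∀ (Y : Type v) [AddCommGroup Y] [Module F Y] [FiniteDimensional F Y] (ρ : Representation F H Y),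
      Module.finrank F Y = n →
      (∀ φ : Y →ₗ[F] Y, IsHom ρ ρ φ → ∃ c : F, IsProjHom ρ ρ (φ - c • LinearMap.id)) →
      ∀ (f' : Y →ₗ[F] S') (f'' : Y →ₗ[F] S''), IsHom ρ σ' f' → IsHom ρ σ'' f'' →
      ¬ IsProjHom ρ σ' f' → ¬ IsProjHom ρ σ'' f'' → IsIso σ' σ'' := by
  induction n using Nat.strong_induction_on with
  | _ n ih =>
  intro Y _ _ _ ρ hn hloc f' f'' hf' hf'' hnp' hnp''
  -- `Y` is nontrivial
  have : Nontrivial Y := by
    by_contra hnt
    rw [not_nontrivial_iff_subsingleton] at hnt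
    apply hnp'
    have : f' = 0 := LinearMap.ext fun y => by
      rw [Subsingleton.elim y 0, map_zero, map_zero]
    rw [this]
    exact isProjHom_zero ρ σ'
  obtain ⟨π, hπ, hidem, hπ0, hlast⟩ := hsplit Y ρ
  have hdecomp : ∀ {S : Type w} [AddCommGroup S] [Module F S] (f : Y →ₗ[F] S),
      f = f ∘ₗ π + f ∘ₗ (LinearMap.id - π) := by
    intro S _ _ f
    rw [← LinearMap.comp_add, add_sub_cancel, LinearMap.comp_id]
  rcases proj_of_idem ρ hloc π hπ hidem with hproj | hproj
  · -- case (ii): `π` projective, pass to `ker π`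
    set K : Submodule F Y := LinearMap.ker π with hK
    set ρ' : Representation F H K := bduniq_kerRep ρ π hπ with hρ'
    set j : K →ₗ[F] Y := K.subtype with hj
    have hrange : ∀ y : Y, ((LinearMap.id : Y →ₗ[F] Y) - π) y ∈ K := by
      intro y
      rw [hK, LinearMap.mem_ker, LinearMap.sub_apply, LinearMap.id_apply, map_sub]
      have := LinearMap.congr_fun hidem y
      rw [LinearMap.comp_apply] at this
      rw [this, sub_self]
    set r : Y →ₗ[F] K := LinearMap.codRestrict K ((LinearMap.id : Y →ₗ[F] Y) - π) hrange with hr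
    have hjr : j ∘ₗ r = LinearMap.id - π := by
      refine LinearMap.ext fun y => ?_
      rfl
    have hrj : r ∘ₗ j = LinearMap.id := by
      refine LinearMap.ext fun y => ?_
      apply Subtype.ext
      have hy : π (y : Y) = 0 := LinearMap.mem_ker.mp y.2
      show ((LinearMap.id : Y →ₗ[F] Y) - π) (y : Y) = (y : Y)
      rw [LinearMap.sub_apply, LinearMap.id_apply, hy, sub_zero]
    have hjhom : IsHom ρ' ρ j := by
      rw [isHom_iff]
      intro h y
      rfl
    have hidπ : IsHom ρ ρ (LinearMap.id - π) := (isHom_id ρ).sub hπ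
    have hrhom : IsHom ρ ρ' r := by
      rw [isHom_iff]
      intro h y
      apply Subtype.ext
      show ((LinearMap.id : Y →ₗ[F] Y) - π) (ρ h y) = ρ h (((LinearMap.id : Y →ₗ[F] Y) - π) y)
      exact hidπ.apply h y
    have hlt : Module.finrank F K < n := by
      rw [← hn]
      apply Submodule.finrank_lt
      intro htop
      apply hπ0
      refine LinearMap.ext fun y => ?_
      have : y ∈ K := by rw [htop]; trivial
      rw [LinearMap.zero_apply]
      exact LinearMap.mem_ker.mp this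
    have hloc' : ∀ φ : K →ₗ[F] K, IsHom ρ' ρ' φ →
        ∃ c : F, IsProjHom ρ' ρ' (φ - c • LinearMap.id) := by
      intro φ hφ
      have hΦ : IsHom ρ ρ (j ∘ₗ φ ∘ₗ r) := hjhom.comp (hφ.comp hrhom)
      obtain ⟨c, hc⟩ := hloc _ hΦ
      refine ⟨c, ?_⟩
      have h1 : IsProjHom ρ' ρ' (r ∘ₗ (j ∘ₗ φ ∘ₗ r - c • LinearMap.id) ∘ₗ j) :=
        (hc.comp_right hjhom).comp_left hrhom
      have h2 : r ∘ₗ (j ∘ₗ φ ∘ₗ r - c • LinearMap.id) ∘ₗ j = φ - c • LinearMap.id := by
        rw [LinearMap.sub_comp, LinearMap.comp_sub, LinearMap.smul_comp, LinearMap.comp_smul,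
          LinearMap.id_comp, hrj]
        congr 1
        calc r ∘ₗ (j ∘ₗ φ ∘ₗ r) ∘ₗ j = (r ∘ₗ j) ∘ₗ φ ∘ₗ (r ∘ₗ j) := by
              simp only [LinearMap.comp_assoc]
          _ = φ := by rw [hrj, LinearMap.id_comp, LinearMap.comp_id]
      rwa [h2] at h1
    have key : ∀ {S : Type w} [AddCommGroup S] [Module F S] (σ : Representation F H S)
        (f : Y →ₗ[F] S), IsHom ρ σ f → ¬ IsProjHom ρ σ f → ¬ IsProjHom ρ' σ (f ∘ₗ j) := by
      intro S _ _ σ f hf hnp hpj
      apply hnp
      rw [hdecomp f]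
      refine (hproj.comp_left hf).add ?_
      have := hpj.comp_right hrhom
      rwa [LinearMap.comp_assoc, hjr] at this
    exact ih (Module.finrank F K) hlt K ρ' rfl hloc' (f' ∘ₗ j) (f'' ∘ₗ j) (hf'.comp hjhom)
      (hf''.comp hjhom) (key σ' f' hf' hnp') (key σ'' f'' hf'' hnp'')
  · -- case (i): `1 - π` projective
    have key : ∀ {S : Type w} [AddCommGroup S] [Module F S] (σ : Representation F H S)
        (f : Y →ₗ[F] S), IsHom ρ σ f → ¬ IsProjHom ρ σ f → f ∘ₗ π ≠ 0 := by
      intro S _ _ σ f hf hnp h0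
      apply hnp
      rw [hdecomp f, h0, zero_add]
      exact hproj.comp_left hf
    exact hlast S' S'' σ' σ'' inferInstance inferInstance f' f'' hf' hf'' (key σ' f' hf' hnp')
      (key σ'' f'' hf'' hnp'')

/-- UNIQ (induction on the dimension; `hsplit` is SPLIT, to be used together with IDEM) -/
theorem uniq_of_local_end {H : Type u} [Group H] [Fintype H]
    (hsplit : ∀ (Y : Type v) [AddCommGroup Y] [Module F Y] [FiniteDimensional F Y] [Nontrivial Y]
      (ρ : Representation F H Y), ∃ π : Y →ₗ[F] Y, IsHom ρ ρ π ∧ π ∘ₗ π = π ∧ π ≠ 0 ∧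
      ∀ (S' : Type w) [AddCommGroup S'] [Module F S'] (S'' : Type w) [AddCommGroup S''] [Module F S'']
        (σ' : Representation F H S') (σ'' : Representation F H S''), σ'.IsIrreducible → σ''.IsIrreducible →
        ∀ (g' : Y →ₗ[F] S') (g'' : Y →ₗ[F] S''), IsHom ρ σ' g' → IsHom ρ σ'' g'' →
        g' ∘ₗ π ≠ 0 → g'' ∘ₗ π ≠ 0 → IsIso σ' σ'')
    {Y : Type v} [AddCommGroup Y] [Module F Y] [FiniteDimensional F Y] (ρ : Representation F H Y)
    (hloc : ∀ φ : Y →ₗ[F] Y, IsHom ρ ρ φ → ∃ c : F, IsProjHom ρ ρ (φ - c • LinearMap.id))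
    {S' : Type w} [AddCommGroup S'] [Module F S'] {S'' : Type w} [AddCommGroup S''] [Module F S'']
    (σ' : Representation F H S') (σ'' : Representation F H S'') [σ'.IsIrreducible] [σ''.IsIrreducible]
    (f' : Y →ₗ[F] S') (f'' : Y →ₗ[F] S'') (hf' : IsHom ρ σ' f') (hf'' : IsHom ρ σ'' f'')
    (hnp' : ¬ IsProjHom ρ σ' f') (hnp'' : ¬ IsProjHom ρ σ'' f'') : IsIso σ' σ'' :=
  bduniq_aux hsplit σ' σ'' (Module.finrank F Y) Y ρ rfl hloc f' f'' hf' hf'' hnp' hnp''

end D

end Cfsg.Agent.Lib.helper7.BD
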