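import Mathlib
import Cfsg.Agent.Lib.helper7.BD.Defs
import Cfsg.Agent.Lib.helper7.BD.D1Defs
import Cfsg.Agent.Lib.helper7.Rob1

/-!
# Project BD, stage B, piece MUS : `e = |T : C|` linear characters of `N / C` with pairwise different
restrictions to `T`.
-/

set_option autoImplicit false
set_option linter.unusedVariables false
set_option linter.unusedSectionVars false
set_option linter.style.haveILetI false

namespace Cfsg.Agent.Lib.helper7.BD

open Cfsg.Agent.Lib.helper7

universe u v w

/-- a faithful linear character of `N_G(P) / C_G(P)` for `P` cyclic of order `p`, with values in a field of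
characteristic `p` -/
theorem bdmus_exists_faithful {F : Type*} [Field F] {G : Type u} [Group G] {p : ℕ} [Fact p.Prime]
    [CharP F p] (P : Subgroup G) (hP : Nat.card P = p) :
    ∃ χ : ↥(Subgroup.normalizer (P : Set G)) →* Fˣ,
      ∀ c : ↥(Subgroup.normalizer (P : Set G)),
        χ c = 1 ↔ (c : G) ∈ Subgroup.centralizer (P : Set G) := by
  classical
  haveI hcyc : IsCyclic P := isCyclic_of_prime_card hP
  let f := P.normalizerMonoidHom
  have hker : f.ker = (Subgroup.centralizer (P : Set G)).subgroupOf
      (Subgroup.normalizer (P : Set G)) := Subgroup.normalizerMonoidHom_ker _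
  haveI hchar : CharP F (Nat.card P) := by rw [hP]; infer_instance
  let r : ZMod (Nat.card P) →+* F := ZMod.castHom (dvd_refl (Nat.card P)) F
  have hr : Function.Injective r := ZMod.castHom_injective F
  let g : MulAut P →* Fˣ :=
    (Units.map (r : ZMod (Nat.card P) →* F)).comp (hcyc.mulAutMulEquiv P).toMonoidHom
  have hg : Function.Injective g := by
    intro a b hab
    apply (hcyc.mulAutMulEquiv P).injective
    apply Units.ext
    apply hr
    have := congrArg Units.val hab
    simpa [g] using this
  refine ⟨g.comp f, fun c => ?_⟩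
  constructor
  · intro hc
    have h1 : f c = 1 := by
      apply hg
      rw [map_one]
      exact hc
    have h2 : c ∈ f.ker := h1
    rw [hker, Subgroup.mem_subgroupOf] at h2
    exact h2
  · intro hc
    have h2 : c ∈ f.ker := by
      rw [hker, Subgroup.mem_subgroupOf]
      exact hc
    show g (f c) = 1
    rw [show f c = 1 from h2, map_one]

/-- general version of MUS : for `T ≤ N_G(P)`, `P` of order `p`, there are `|T : C_G(P)|` linear characters of
`N_G(P)`, trivial on `C_G(P)`, with pairwise different restrictions to `T` -/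
theorem bdmus_general {F : Type*} [Field F] {G : Type u} [Group G] [Finite G] {p : ℕ} [Fact p.Prime]
    [CharP F p] (P : Subgroup G) (hP : Nat.card P = p) (T : Subgroup G)
    (hTN : T ≤ Subgroup.normalizer (P : Set G)) :
    ∃ μ : Fin ((Subgroup.centralizer (P : Set G)).relIndex T) →
        (↥(Subgroup.normalizer (P : Set G)) →* Fˣ),
      (∀ i, ∀ c : ↥(Subgroup.normalizer (P : Set G)),
        (c : G) ∈ Subgroup.centralizer (P : Set G) → μ i c = 1) ∧
      ∀ i j, i ≠ j → ∃ t : ↥(Subgroup.normalizer (P : Set G)),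
        (t : G) ∈ T ∧ μ i t ≠ μ j t := by
  classical
  obtain ⟨χ, hχ⟩ := bdmus_exists_faithful (F := F) P hP
  let ψ : ↥T →* Fˣ := χ.comp (Subgroup.inclusion hTN)
  have hkerψ : ψ.ker = (Subgroup.centralizer (P : Set G)).subgroupOf T := by
    ext t
    rw [MonoidHom.mem_ker, Subgroup.mem_subgroupOf]
    show χ (Subgroup.inclusion hTN t) = 1 ↔ _
    rw [hχ]
    rfl
  have hcard : Nat.card ψ.range = (Subgroup.centralizer (P : Set G)).relIndex T := by
    rw [← Subgroup.index_ker ψ, hkerψ]
    rfl
  haveI : Finite ψ.range := Finite.of_surjective ψ.rangeRestrict ψ.rangeRestrict_surjective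
  haveI hcycR : IsCyclic ψ.range := inferInstance
  obtain ⟨ζ, hζ⟩ := hcycR.exists_generator
  have hord : orderOf ζ = (Subgroup.centralizer (P : Set G)).relIndex T := by
    rw [orderOf_eq_card_of_forall_mem_zpowers hζ, hcard]
  obtain ⟨t₀, ht₀⟩ := ζ.2
  have hord' : orderOf (ψ t₀) = (Subgroup.centralizer (P : Set G)).relIndex T := by
    rw [ht₀, ← hord]
    exact (Subgroup.orderOf_coe ζ)
  refine ⟨fun i => χ ^ (i : ℕ), ?_, ?_⟩
  · intro i c hc
    rw [MonoidHom.pow_apply, (hχ c).2 hc, one_pow]
  · intro i j hij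
    refine ⟨Subgroup.inclusion hTN t₀, t₀.2, ?_⟩
    rw [MonoidHom.pow_apply, MonoidHom.pow_apply]
    intro heq
    apply hij
    apply Fin.ext
    have hi : (i : ℕ) < orderOf (ψ t₀) := by rw [hord']; exact i.2
    have hj : (j : ℕ) < orderOf (ψ t₀) := by rw [hord']; exact j.2
    exact pow_injOn_Iio_orderOf (Set.mem_Iio.2 hi) (Set.mem_Iio.2 hj) heq

section root

variable {G : Type u} [Group G] [Fintype G] {M : Ideal Cfsg.AlgInt} {p : ℕ} [Fact p.Prime]
  {P : Sylow p G} {B : Set (Cfsg.IrrCharacter G)}
  {b : Set (Cfsg.IrrCharacter (Subgroup.centralizer ((P : Subgroup G) : Set G)))}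
  {θ : Cfsg.IrrCharacter (Subgroup.centralizer ((P : Subgroup G) : Set G))} {T : Subgroup G}

/-- M9 = MUS : `e = |T : C|` linear characters of `N / C` with pairwise different restrictions to `T` -/
theorem root_exists_twists (h : RootHyp p M P B b θ T) (hMp : M.IsPrime) :
    ∃ μ : Fin ((Subgroup.centralizer ((P : Subgroup G) : Set G)).relIndex T) →
        (↥(Subgroup.normalizer ((P : Subgroup G) : Set G)) →* (h7_resRing M hMp)ˣ),
      (∀ i, ∀ c : ↥(Subgroup.normalizer ((P : Subgroup G) : Set G)),
        (c : G) ∈ Subgroup.centralizer ((P : Subgroup G) : Set G) → μ i c = 1) ∧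
      ∀ i j, i ≠ j → ∃ t : ↥(Subgroup.normalizer ((P : Subgroup G) : Set G)),
        (t : G) ∈ T ∧ μ i t ≠ μ j t := by
  haveI : CharP (h7_resRing M hMp) p := h7_resRing_charP h.hM
  have hTN : T ≤ Subgroup.normalizer ((P : Subgroup G) : Set G) := fun g hg => ((h.hT g).1 hg).1
  exact bdmus_general (F := h7_resRing M hMp) (P : Subgroup G) h.card_P T hTN

end root

end Cfsg.Agent.Lib.helper7.BD
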