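import Mathlib
import Cfsg.Agent.Lib.helper15.PSL.Defs
import Cfsg.Agent.Lib.helper15.BH.Main
import Cfsg.Agent.Lib.helper15.PSL.BT4le
import Cfsg.Agent.Lib.Helper1.BD3FACTS
import Cfsg.Agent.Lib.helper23.BD3MULT
import Cfsg.Agent.Lib.Helper24.GaloisNorm
import Cfsg.Agent.Lib.helper7.CharCentral

/-!
# Project PSL (S4504), piece BCHI : the block of `χ` when the normal `p`-complement of `C_G(P)` is central (helper22)

`pslbchi_main` is the statement of `bchi_values` (Skeleton2) with the extra hypothesis `Z(G) ≤ ker π`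
(without it the statement fails for `G = ℤ/3`).
-/

set_option autoImplicit false
set_option linter.unusedVariables false
set_option linter.unusedSectionVars false
set_option linter.style.haveILetI false
open scoped ComplexConjugate
open Classical

namespace Cfsg.Agent.Lib.helper15.PSL

open Cfsg.Agent.Lib.helper7 Cfsg.Agent.Lib.helper7.BD Cfsg.Agent.Lib.helper7.BR Cfsg.Agent.Lib.helper2
  Cfsg.Agent.Lib.Helper25 Cfsg.Agent.Lib.Helper29 Cfsg.Agent.Lib.helper15.BH

universe u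

section concrete

variable {G : Type u} [Group G] [Fintype G] {p : ℕ} [Fact p.Prime]

/-- a linear constituent `ψ` of the restriction of `χ` to `H` has the value `χ(ζ)/χ(1)` at an element `ζ ∈ H` which is
central in `G` -/
theorem pslbchi_central (H : Subgroup G) (χ : Cfsg.IrrCharacter G) (ψ : Cfsg.IrrCharacter ↥H)
    (hψ1 : (ψ : ↥H → ℂ) 1 = 1)
    (hne : Cfsg.classInner (ψ : ↥H → ℂ) (fun c : ↥H => (χ : G → ℂ) (c : G)) ≠ 0)
    (ζ : ↥H) (hζ : (ζ : G) ∈ Subgroup.center G) :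
    (χ : G → ℂ) (ζ : G) = (χ : G → ℂ) 1 * (ψ : ↥H → ℂ) ζ := by
  obtain ⟨c0, hc0⟩ := h7_central_char χ.2 (ζ : G) hζ
  have h1 : (χ : G → ℂ) (ζ : G) = c0 * (χ : G → ℂ) 1 := by
    have := hc0 1
    rwa [mul_one] at this
  set S : ℂ := ∑ c : ↥H, (ψ : ↥H → ℂ) c * conj ((χ : G → ℂ) (c : G)) with hS
  have hS0 : S ≠ 0 := by
    intro h0
    apply hne
    unfold Cfsg.classInner
    rw [← hS, h0, mul_zero]
  have hre : S = (ψ : ↥H → ℂ) ζ * conj c0 * S := by
    have e1 : S = ∑ c : ↥H, (ψ : ↥H → ℂ) (ζ * c) * conj ((χ : G → ℂ) ((ζ * c : ↥H) : G)) := by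
      rw [hS]
      exact (Equiv.sum_comp (Equiv.mulLeft ζ)
        (fun c : ↥H => (ψ : ↥H → ℂ) c * conj ((χ : G → ℂ) (c : G)))).symm
    conv_lhs => rw [e1]
    rw [hS, Finset.mul_sum]
    refine Finset.sum_congr rfl fun c _ => ?_
    rw [irr_linear_mul ψ hψ1, Subgroup.coe_mul, hc0, map_mul]
    ring
  have h2 : (ψ : ↥H → ℂ) ζ * conj c0 = 1 := by
    have h3 : ((ψ : ↥H → ℂ) ζ * conj c0 - 1) * S = 0 := by
      rw [sub_mul, one_mul, ← hre, sub_self]
    rcases mul_eq_zero.mp h3 with h4 | h4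
    · exact sub_eq_zero.mp h4
    · exact absurd h4 hS0
  have h5 := irr_linear_mul_conj ψ hψ1 ζ
  have hψ0 : (ψ : ↥H → ℂ) ζ ≠ 0 := by
    intro h0
    rw [h0, zero_mul] at h5
    exact zero_ne_one h5
  have h6 : conj c0 = conj ((ψ : ↥H → ℂ) ζ) := mul_left_cancel₀ hψ0 (h2.trans h5.symm)
  have h7 : c0 = (ψ : ↥H → ℂ) ζ := by
    have := congrArg conj h6
    rwa [Complex.conj_conj, Complex.conj_conj] at this
  rw [h1, h7, mul_comm]

/-- BCHI (with the extra hypothesis `Z(G) ≤ ker π`) : the block of `χ` -/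
theorem pslbchi_main (P : Sylow p G) (hP : Nat.card ↥(P : Subgroup G) = p) (hstar : LeoStar P)
    (π : ↥(Subgroup.centralizer ((P : Subgroup G) : Set G)) →* ↥(P : Subgroup G))
    (hπ : ∀ x : ↥(P : Subgroup G), π (Subgroup.inclusion (leoc_P_le_C hstar) x) = x)
    (hVZ : kerG π ≤ Subgroup.center G)
    (hZV' : ∀ ζ ∈ Subgroup.center G, ζ ∈ kerG π)
    (χ : Cfsg.IrrCharacter G) (f : ℕ) (hpf : 2 * f + 1 = p) (hχ1 : (χ : G → ℂ) 1 = (f : ℂ))
    (hnt : ∃ x ∈ (P : Subgroup G), (χ : G → ℂ) x ≠ (χ : G → ℂ) 1) :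
    ∃ (X' : Finset (Cfsg.IrrCharacter G)) (a' : Cfsg.IrrCharacter G → ℤ),
      X'.card = (cen P).relIndex (nrm P) ∧ (∀ ξ ∈ X', a' ξ = 1 ∨ a' ξ = -1) ∧
      (∀ ξ ∈ X', ∀ x ∈ (P : Subgroup G), x ≠ 1 → ∀ ζ ∈ Subgroup.center G,
        (f : ℂ) * (ξ : G → ℂ) (x * ζ) = (a' ξ : ℂ) * (χ : G → ℂ) ζ) ∧
      (∀ g : G, ¬ p ∣ orderOf g → (χ : G → ℂ) g = ∑ ξ ∈ X', (a' ξ : ℂ) * (ξ : G → ℂ) g) := by
  have hp : p.Prime := Fact.out
  haveI : Fintype (Cfsg.IrrCharacter G) := Fintype.ofFinite _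
  obtain ⟨M, hM⟩ := exists_isPModular p hp
  set hL := leoc_setup hstar π hπ with hLdef
  have hdp := leoDeg_pos χ
  have hdf : leoDeg χ = f := by
    have h1 := leoDeg_spec χ
    rw [hχ1] at h1
    exact_mod_cast h1.symm
  have hB : Cfsg.IsPBlock M (Cfsg.blockOf M (χ : G → ℂ)) := ⟨χ, rfl⟩
  have hχB : χ ∈ Cfsg.blockOf M (χ : G → ℂ) := h7_sameBlock_refl hM.2.1.isPrime (χ : G → ℂ)
  have hd := bt4_defect_pos hM P hP χ (by omega)
  obtain ⟨b, θ, T, h⟩ := bt4_root_exists_of_sylow hM P hP _ hB hd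
  obtain ⟨t, r, X, y, ε, hr, hBXY, hdisj, hcardX, hyinj, hcardB, hεpm, hεy, hmX, hmY, hdegX, hdegY,
    hreg⟩ := root_main h
  -- the structure of `C = P × V`, `V` central
  have hdec : ∀ c : ↥(Subgroup.centralizer ((P : Subgroup G) : Set G)),
      ∃ v : ↥(Subgroup.centralizer ((P : Subgroup G) : Set G)), π v = 1 ∧
        c = Subgroup.inclusion (leoc_P_le_C hstar) (π c) * v := by
    intro c
    refine ⟨(Subgroup.inclusion (leoc_P_le_C hstar) (π c))⁻¹ * c, ?_, by group⟩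
    rw [map_mul, map_inv, hπ, inv_mul_cancel]
  have hvcen : ∀ v : ↥(Subgroup.centralizer ((P : Subgroup G) : Set G)), π v = 1 →
      (v : G) ∈ Subgroup.center G := fun v hv => hVZ ((mem_kerG _).2 ⟨v, hv, rfl⟩)
  have hcomm : ∀ a c : ↥(Subgroup.centralizer ((P : Subgroup G) : Set G)), a * c = c * a := by
    intro a c
    obtain ⟨v, hv, ha⟩ := hdec a
    have hvc := Subgroup.mem_center_iff.mp (hvcen v hv)
    have hc := Subgroup.mem_centralizer_iff.mp c.2 ((π a : ↥(P : Subgroup G)) : G) (π a).2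
    apply Subtype.ext
    rw [ha]
    simp only [Subgroup.coe_mul, Subgroup.coe_inclusion]
    calc ((π a : ↥(P : Subgroup G)) : G) * (v : G) * (c : G)
        = ((π a : ↥(P : Subgroup G)) : G) * ((c : G) * (v : G)) := by rw [mul_assoc, hvc (c : G)]
      _ = (((π a : ↥(P : Subgroup G)) : G) * (c : G)) * (v : G) := by rw [mul_assoc]
      _ = ((c : G) * ((π a : ↥(P : Subgroup G)) : G)) * (v : G) := by rw [hc]
      _ = (c : G) * (((π a : ↥(P : Subgroup G)) : G) * (v : G)) := by rw [mul_assoc]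
  haveI : IsMulCommutative ↥(Subgroup.centralizer ((P : Subgroup G) : Set G)) := ⟨⟨hcomm⟩⟩
  have hlin : ∀ ψ : Cfsg.IrrCharacter ↥(Subgroup.centralizer ((P : Subgroup G) : Set G)),
      (ψ : ↥(Subgroup.centralizer ((P : Subgroup G) : Set G)) → ℂ) 1 = 1 :=
    fun ψ => Cfsg.Agent.Lib.Helper24.gn_irr_one_of_isMulCommutative ψ
  have hθP1 : ∀ x : ↥(Subgroup.centralizer ((P : Subgroup G) : Set G)), (x : G) ∈ (P : Subgroup G) →
      (θ : ↥(Subgroup.centralizer ((P : Subgroup G) : Set G)) → ℂ) x = 1 := by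
    intro x hx
    rw [h.hθP x hx, hlin θ]
  -- `θ` is `N`-invariant
  have hinv : ∀ n ∈ Subgroup.normalizer ((P : Subgroup G) : Set G),
      ∀ c c' : ↥(Subgroup.centralizer ((P : Subgroup G) : Set G)), (c' : G) = n * (c : G) * n⁻¹ →
      (θ : ↥(Subgroup.centralizer ((P : Subgroup G) : Set G)) → ℂ) c' =
        (θ : ↥(Subgroup.centralizer ((P : Subgroup G) : Set G)) → ℂ) c := by
    intro n hn c c' hcc
    obtain ⟨v, hv, hc⟩ := hdec c
    have hvc := Subgroup.mem_center_iff.mp (hvcen v hv)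
    have hxP : n * ((π c : ↥(P : Subgroup G)) : G) * n⁻¹ ∈ (P : Subgroup G) :=
      (Subgroup.mem_normalizer_iff.mp hn _).mp (π c).2
    have hc' : c' = (⟨n * ((π c : ↥(P : Subgroup G)) : G) * n⁻¹, leoc_P_le_C hstar hxP⟩ :
        ↥(Subgroup.centralizer ((P : Subgroup G) : Set G))) * v := by
      apply Subtype.ext
      rw [hcc]
      conv_lhs => rw [hc]
      simp only [Subgroup.coe_mul, Subgroup.coe_inclusion]
      calc n * (((π c : ↥(P : Subgroup G)) : G) * (v : G)) * n⁻¹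
          = n * ((π c : ↥(P : Subgroup G)) : G) * ((v : G) * n⁻¹) := by simp only [mul_assoc]
        _ = n * ((π c : ↥(P : Subgroup G)) : G) * (n⁻¹ * (v : G)) := by rw [hvc n⁻¹]
        _ = n * ((π c : ↥(P : Subgroup G)) : G) * n⁻¹ * (v : G) := by simp only [mul_assoc]
    rw [hc', irr_linear_mul θ (hlin θ), hθP1 _ hxP]
    conv_rhs => rw [hc, irr_linear_mul θ (hlin θ),
      hθP1 (Subgroup.inclusion (leoc_P_le_C hstar) (π c)) (π c).2]
  have hTN : T = Subgroup.normalizer ((P : Subgroup G) : Set G) := by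
    ext g
    rw [h.hT g]
    constructor
    · exact fun hg => hg.1
    · exact fun hg => ⟨hg, fun c c' hcc => hinv g hg c c' hcc⟩
  -- `χ` is exceptional with sign `+1`
  rw [hBXY] at hχB
  have hχB' : χ ∈ Cfsg.blockOf M (χ : G → ℂ) := h7_sameBlock_refl hM.2.1.isPrime (χ : G → ℂ)
  rcases hχB with hχX | ⟨j, hj⟩
  · exfalso
    obtain ⟨x, hx, hne⟩ := hnt
    exact hne (small_not_X h r hr χ hχB' (ε χ) (hmX χ hχX) (by omega) x hx)
  have hmul : ∀ j',
      Cfsg.classInner (r j' : ↥(Subgroup.centralizer ((P : Subgroup G) : Set G)) → ℂ)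
          (fun c : ↥(Subgroup.centralizer ((P : Subgroup G) : Set G)) => (χ : G → ℂ) (c : G)) -
        Cfsg.classInner (θ : ↥(Subgroup.centralizer ((P : Subgroup G) : Set G)) → ℂ)
          (fun c : ↥(Subgroup.centralizer ((P : Subgroup G) : Set G)) => (χ : G → ℂ) (c : G)) =
        if j = j' then ((ε χ : ℤ) : ℂ) else 0 := by
    intro j'
    have := hmY j j'
    rw [hj] at this
    exact this
  have hε1 : ε χ = 1 := small_Y_sign_le h r hr χ hχB' (ε χ) (hεpm χ) j hmul (by omega) hnt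
  -- `r j` is a constituent of the restriction of `χ`
  have hrne : Cfsg.classInner (r j : ↥(Subgroup.centralizer ((P : Subgroup G) : Set G)) → ℂ)
      (fun c : ↥(Subgroup.centralizer ((P : Subgroup G) : Set G)) => (χ : G → ℂ) (c : G)) ≠ 0 := by
    obtain ⟨m0, -, hm0⟩ := mult_nat (Subgroup.centralizer ((P : Subgroup G) : Set G)) χ θ
    have h1 := hmul j
    rw [if_pos rfl, hε1, hm0, Int.cast_one] at h1
    have h2 : Cfsg.classInner (r j : ↥(Subgroup.centralizer ((P : Subgroup G) : Set G)) → ℂ)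
        (fun c : ↥(Subgroup.centralizer ((P : Subgroup G) : Set G)) => (χ : G → ℂ) (c : G)) =
        ((1 + m0 : ℕ) : ℂ) := by
      push_cast
      linear_combination h1
    rw [h2]
    exact_mod_cast (Nat.succ_ne_zero m0 ∘ fun e => by omega)
  obtain ⟨-, -, hfacts3, -⟩ := root_block_facts h
  -- the set `X'`
  have hXfin : X.Finite := Set.toFinite X
  refine ⟨hXfin.toFinset, fun ξ => - ε ξ, ?_, ?_, ?_, ?_⟩
  · rw [← Set.ncard_eq_toFinset_card X hXfin, ← Nat.card_coe_set_eq, hcardX, hTN]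
  · intro ξ _
    rcases hεpm ξ with h1 | h1
    · right
      show - ε ξ = -1
      rw [h1]
    · left
      show - ε ξ = 1
      rw [h1]
      norm_num
  · intro ξ hξ x hx hx1 ζ hζ
    have hξX : ξ ∈ X := hXfin.mem_toFinset.mp hξ
    obtain ⟨ζc, hζ1, hζe⟩ := (mem_kerG ζ).1 (hZV' ζ hζ)
    set xc : ↥(Subgroup.centralizer ((P : Subgroup G) : Set G)) :=
      Subgroup.inclusion (leoc_P_le_C hstar) ⟨x, hx⟩ with hxc
    have hcG : ((xc * ζc : ↥(Subgroup.centralizer ((P : Subgroup G) : Set G))) : G) = x * ζ := by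
      rw [Subgroup.coe_mul, hζe]
      rfl
    have hπc : π (xc * ζc) ≠ 1 := by
      rw [map_mul, hπ, hζ1, mul_one]
      intro h0
      exact hx1 (congrArg Subtype.val h0)
    have hsing : p ∣ orderOf ((xc * ζc : ↥(Subgroup.centralizer ((P : Subgroup G) : Set G))) : G) :=
      (pi_ne_one_iff P hstar π hπ _).mp hπc
    have hsing' : p ∣ orderOf (xc * ζc) := by
      rw [← Subgroup.orderOf_coe]
      exact hsing
    have hξB : ξ ∈ Cfsg.blockOf M (χ : G → ℂ) := by
      rw [hBXY]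
      exact Or.inl hξX
    have hval := root_value_X h r hr ξ hξB (ε ξ) (hmX ξ hξX) (xc * ζc) hsing'
    have hcj : ∀ n : ↥(Subgroup.normalizer ((P : Subgroup G) : Set G)),
        (cjIrr (Subgroup.centralizer ((P : Subgroup G) : Set G)) (n : G) θ :
          ↥(Subgroup.centralizer ((P : Subgroup G) : Set G)) → ℂ) (xc * ζc) =
        (θ : ↥(Subgroup.centralizer ((P : Subgroup G) : Set G)) → ℂ) (xc * ζc) := by
      intro n
      have hnC : (n : G) ∈ Subgroup.normalizer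
          ((Subgroup.centralizer ((P : Subgroup G) : Set G) : Subgroup G) : Set G) := hL.hN n.2
      have hkC : (n : G)⁻¹ * ((xc * ζc : ↥(Subgroup.centralizer ((P : Subgroup G) : Set G))) : G) *
          ((n : G)⁻¹)⁻¹ ∈ Subgroup.centralizer ((P : Subgroup G) : Set G) :=
        (Subgroup.mem_normalizer_iff.mp (Subgroup.inv_mem _ hnC) _).mp (xc * ζc).2
      rw [cjIrr_conj _ hnC θ ⟨_, hkC⟩ (xc * ζc) (by simp only [inv_inv]; group)]
      exact hinv (n : G)⁻¹ (Subgroup.inv_mem _ n.2) (xc * ζc) ⟨_, hkC⟩ rfl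
    rw [Finset.sum_congr rfl (fun n _ => hcj n), Finset.sum_const, Finset.card_univ,
      nsmul_eq_mul, ← Nat.card_eq_fintype_card, hTN] at hval
    have hN0 : (Nat.card ↥(Subgroup.normalizer ((P : Subgroup G) : Set G)) : ℂ) ≠ 0 := by
      exact_mod_cast Nat.card_pos.ne'
    have hξv : (ξ : G → ℂ) (x * ζ) = - ((ε ξ : ℤ) : ℂ) *
        (θ : ↥(Subgroup.centralizer ((P : Subgroup G) : Set G)) → ℂ) (xc * ζc) := by
      rw [← hcG]
      apply mul_left_cancel₀ hN0
      rw [hval]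
      ring
    have hζreg : ¬ p ∣ orderOf ζc := by
      intro hdvd
      rw [← Subgroup.orderOf_coe] at hdvd
      exact (pi_ne_one_iff P hstar π hπ ζc).mpr hdvd hζ1
    have hθζ : (θ : ↥(Subgroup.centralizer ((P : Subgroup G) : Set G)) → ℂ) (xc * ζc) =
        (r j : ↥(Subgroup.centralizer ((P : Subgroup G) : Set G)) → ℂ) ζc := by
      rw [irr_linear_mul θ (hlin θ), hθP1 xc hx, one_mul, hfacts3 (r j) (hr.mem j) ζc hζreg]
    have hcen := pslbchi_central (Subgroup.centralizer ((P : Subgroup G) : Set G)) χ (r j)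
      (hlin (r j)) hrne ζc (by rw [hζe]; exact hζ)
    rw [hζe, hχ1] at hcen
    rw [hξv, hθζ, hcen]
    push_cast
    ring
  · intro g hg
    have h1 := hreg j g hg
    rw [hj, hε1, Int.cast_one, one_mul, finsum_mem_eq_finite_toFinset_sum _ hXfin] at h1
    have h2 : ∑ ξ ∈ hXfin.toFinset, (((- ε ξ : ℤ) : ℂ)) * (ξ : G → ℂ) g =
        - ∑ ξ ∈ hXfin.toFinset, ((ε ξ : ℤ) : ℂ) * (ξ : G → ℂ) g := by
      rw [← Finset.sum_neg_distrib]
      refine Finset.sum_congr rfl fun ξ _ => ?_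
      push_cast
      ring
    rw [h2]
    linear_combination h1

end concrete

end Cfsg.Agent.Lib.helper15.PSL
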