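import Mathlib
import Cfsg.Prelude.Def_GeometricClasses
import Cfsg.Agent.Lib.Helper27.ASC.Defs
import Cfsg.Agent.Lib.Helper19.ASG.Defs
import Cfsg.Agent.Lib.Helper18.ASP.Defs
import Cfsg.Agent.Lib.Helper18.ASPADJ
import Cfsg.Agent.Lib.helper8.ASPC.Defs

set_option autoImplicit false
set_option linter.unusedVariables false
set_option linter.unusedSectionVars false

/-!
# Project ASP, block C (sub-leader helper8), piece C-ANI2 : the quadratic field `K = {P R((s + t j) ⊗ 1) P⁻¹}` (helper22)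
-/

namespace Cfsg.Agent.Lib.Helper18.ASP

open Cfsg Cfsg.Geo Cfsg.Agent.Lib.Helper27.ASC Cfsg.Agent.Lib.Helper19.ASG
open scoped MatrixGroups Matrix Kronecker

variable {n : ℕ} {F : Type*} [Field F]

/-- the algebra homomorphism `a ↦ P R(a ⊗ 1) P⁻¹` -/
noncomputable def aspcani2Psi {k d : ℕ} (e : Fin n ≃ Fin k × Fin d) (P : GL (Fin n) F) :
    Matrix (Fin k) (Fin k) F →ₐ[F] Matrix (Fin n) (Fin n) F where
  toFun a := (P : Matrix (Fin n) (Fin n) F) *
    Matrix.reindexAlgEquiv F F e.symm (a ⊗ₖ (1 : Matrix (Fin d) (Fin d) F)) *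
    ((P⁻¹ : GL (Fin n) F) : Matrix (Fin n) (Fin n) F)
  map_one' := by
    rw [Matrix.one_kronecker_one, map_one, mul_one, ← Units.val_mul, mul_inv_cancel, Units.val_one]
  map_mul' a b := by
    have h1 : (a * b) ⊗ₖ (1 : Matrix (Fin d) (Fin d) F) =
        (a ⊗ₖ (1 : Matrix (Fin d) (Fin d) F)) * (b ⊗ₖ (1 : Matrix (Fin d) (Fin d) F)) := by
      rw [← Matrix.mul_kronecker_mul, mul_one]
    have h2 : ((P⁻¹ : GL (Fin n) F) : Matrix (Fin n) (Fin n) F) * (P : Matrix (Fin n) (Fin n) F) = 1 := by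
      rw [← Units.val_mul, inv_mul_cancel, Units.val_one]
    rw [h1, map_mul]
    have h3 : ∀ X Y : Matrix (Fin n) (Fin n) F,
        (P : Matrix (Fin n) (Fin n) F) * (X * Y) * ((P⁻¹ : GL (Fin n) F) : Matrix (Fin n) (Fin n) F) =
          (P : Matrix (Fin n) (Fin n) F) * X * ((P⁻¹ : GL (Fin n) F) : Matrix (Fin n) (Fin n) F) *
            ((P : Matrix (Fin n) (Fin n) F) * Y * ((P⁻¹ : GL (Fin n) F) : Matrix (Fin n) (Fin n) F)) := by
      intro X Y
      have h4 : (P : Matrix (Fin n) (Fin n) F) * X * ((P⁻¹ : GL (Fin n) F) : Matrix (Fin n) (Fin n) F) *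
            ((P : Matrix (Fin n) (Fin n) F) * Y * ((P⁻¹ : GL (Fin n) F) : Matrix (Fin n) (Fin n) F)) =
          (P : Matrix (Fin n) (Fin n) F) * X * (((P⁻¹ : GL (Fin n) F) : Matrix (Fin n) (Fin n) F) *
            (P : Matrix (Fin n) (Fin n) F)) * Y * ((P⁻¹ : GL (Fin n) F) : Matrix (Fin n) (Fin n) F) := by
        simp only [mul_assoc]
      rw [h4, h2, mul_one]
      simp only [mul_assoc]
    exact h3 _ _
  map_zero' := by
    rw [Matrix.zero_kronecker, map_zero, mul_zero, zero_mul]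
  map_add' a b := by
    rw [Matrix.add_kronecker, map_add, mul_add, add_mul]
  commutes' r := by
    rw [Algebra.algebraMap_eq_smul_one, Algebra.algebraMap_eq_smul_one, Matrix.smul_kronecker,
      Matrix.one_kronecker_one, map_smul, map_one, mul_smul_comm, smul_mul_assoc, mul_one, ← Units.val_mul,
      mul_inv_cancel, Units.val_one]

theorem aspcani2Psi_apply {k d : ℕ} (e : Fin n ≃ Fin k × Fin d) (P : GL (Fin n) F)
    (a : Matrix (Fin k) (Fin k) F) :
    aspcani2Psi e P a = (P : Matrix (Fin n) (Fin n) F) *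
      Matrix.reindexAlgEquiv F F e.symm (a ⊗ₖ (1 : Matrix (Fin d) (Fin d) F)) *
      ((P⁻¹ : GL (Fin n) F) : Matrix (Fin n) (Fin n) F) := rfl

/-- `a ↦ P R(a ⊗ 1) P⁻¹` is injective when `0 < d` -/
theorem aspcani2Psi_injective {k d : ℕ} (hd : 0 < d) (e : Fin n ≃ Fin k × Fin d) (P : GL (Fin n) F) :
    Function.Injective (aspcani2Psi (F := F) e P) := by
  intro a b hab
  rw [aspcani2Psi_apply, aspcani2Psi_apply] at hab
  have h1 : Matrix.reindexAlgEquiv F F e.symm (a ⊗ₖ (1 : Matrix (Fin d) (Fin d) F)) =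
      Matrix.reindexAlgEquiv F F e.symm (b ⊗ₖ (1 : Matrix (Fin d) (Fin d) F)) := by
    have h2 : ((P⁻¹ : GL (Fin n) F) : Matrix (Fin n) (Fin n) F) * (P : Matrix (Fin n) (Fin n) F) = 1 := by
      rw [← Units.val_mul, inv_mul_cancel, Units.val_one]
    have h3 := congrArg (fun M => ((P⁻¹ : GL (Fin n) F) : Matrix (Fin n) (Fin n) F) * M *
      (P : Matrix (Fin n) (Fin n) F)) hab
    simp only [mul_assoc, h2, mul_one] at h3
    simp only [← mul_assoc, h2, one_mul] at h3
    exact h3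
  have h4 := (Matrix.reindexAlgEquiv F F e.symm).injective h1
  ext i i'
  have h5 := congrFun (congrFun h4 (i, ⟨0, hd⟩)) (i', ⟨0, hd⟩)
  simpa [Matrix.kroneckerMap_apply] using h5

/-- the subalgebra `{s • 1 + t • j}` of the `k × k` matrices, for `j * j = c • 1` -/
def aspcani2K0 {k : ℕ} (j : Matrix (Fin k) (Fin k) F) (c : F) (hj : j * j = c • (1 : Matrix (Fin k) (Fin k) F)) :
    Subalgebra F (Matrix (Fin k) (Fin k) F) where
  carrier := {a | ∃ s t : F, a = s • (1 : Matrix (Fin k) (Fin k) F) + t • j}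
  mul_mem' := by
    rintro a b ⟨s, t, rfl⟩ ⟨s', t', rfl⟩
    refine ⟨s * s' + t * t' * c, s * t' + t * s', ?_⟩
    simp only [add_mul, mul_add, smul_mul_smul_comm, mul_one, one_mul, hj, smul_smul, add_smul]
    abel
  add_mem' := by
    rintro a b ⟨s, t, rfl⟩ ⟨s', t', rfl⟩
    exact ⟨s + s', t + t', by rw [add_smul, add_smul]; abel⟩
  algebraMap_mem' r := ⟨r, 0, by rw [Algebra.algebraMap_eq_smul_one, zero_smul, add_zero]⟩

theorem aspcani2_mem_K0 {k : ℕ} (j : Matrix (Fin k) (Fin k) F) (c : F)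
    (hj : j * j = c • (1 : Matrix (Fin k) (Fin k) F)) (a : Matrix (Fin k) (Fin k) F) :
    a ∈ aspcani2K0 j c hj ↔ ∃ s t : F, a = s • (1 : Matrix (Fin k) (Fin k) F) + t • j := Iff.rfl

/-- the product of two elements of `K0` -/
theorem aspcani2_mul {k : ℕ} (j : Matrix (Fin k) (Fin k) F) (c : F)
    (hj : j * j = c • (1 : Matrix (Fin k) (Fin k) F)) (s t s' t' : F) :
    (s • (1 : Matrix (Fin k) (Fin k) F) + t • j) * (s' • (1 : Matrix (Fin k) (Fin k) F) + t' • j) =
      (s * s' + t * t' * c) • (1 : Matrix (Fin k) (Fin k) F) + (s * t' + t * s') • j := by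
  simp only [add_mul, mul_add, smul_mul_smul_comm, mul_one, one_mul, hj, smul_smul, add_smul]
  abel

/-- `1` and `j` are linearly independent -/
theorem aspcani2_indep {k : ℕ} (hk : 0 < k) (j : Matrix (Fin k) (Fin k) F) (c : F)
    (hj : j * j = c • (1 : Matrix (Fin k) (Fin k) F))
    (hc : ∀ x y : F, x ^ 2 - c * y ^ 2 = 0 → x = 0 ∧ y = 0) (s t : F)
    (h : s • (1 : Matrix (Fin k) (Fin k) F) + t • j = 0) : s = 0 ∧ t = 0 := by
  have hone : ∀ r : F, r • (1 : Matrix (Fin k) (Fin k) F) = 0 → r = 0 := by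
    intro r hr
    have := congrFun (congrFun hr ⟨0, hk⟩) ⟨0, hk⟩
    simpa using this
  have h1 := aspcani2_mul j c hj s t s (-t)
  have h2 : s • (1 : Matrix (Fin k) (Fin k) F) + (-t) • j = 2 • (s • (1 : Matrix (Fin k) (Fin k) F)) -
      (s • (1 : Matrix (Fin k) (Fin k) F) + t • j) := by
    rw [neg_smul, two_smul]
    abel
  rw [h, zero_mul] at h1
  have h3 : s * -t + t * s = 0 := by ring
  rw [h3, zero_smul, add_zero] at h1
  have h4 := hone _ h1.symm
  have h5 := hc s t (by linear_combination h4)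
  exact h5

/-- C-ANI2 (medium-large) : the quadratic field `K = {P R((s + t j) ⊗ 1) P⁻¹}` (`Subalgebra` with this carrier, or the image of
`Algebra.adjoin F {j}`): commutative, `(s + t j)(s - t j) = s² - c t² ≠ 0`, dimension 2 (`1, j` independent as `j` is not a scalar:
`j = s • 1` gives `s² - c = 0`; `a ↦ P R(a ⊗ 1) P⁻¹` is injective as `0 < d`). -/
theorem spc_ani_field {d : ℕ} (hd : 0 < d) (e : Fin n ≃ Fin 2 × Fin d) (P : GL (Fin n) F)
    (j : Matrix (Fin 2) (Fin 2) F) (c : F) (hj : j * j = c • (1 : Matrix (Fin 2) (Fin 2) F))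
    (hc : ∀ x y : F, x ^ 2 - c * y ^ 2 = 0 → x = 0 ∧ y = 0) :
    ∃ K : Subalgebra F (Matrix (Fin n) (Fin n) F), IsFieldSubalgebra 2 K ∧
      ∀ x : Matrix (Fin n) (Fin n) F, x ∈ K ↔ ∃ s t : F, x = (P : Matrix (Fin n) (Fin n) F) *
        Matrix.reindexAlgEquiv F F e.symm
          ((s • (1 : Matrix (Fin 2) (Fin 2) F) + t • j) ⊗ₖ (1 : Matrix (Fin d) (Fin d) F)) *
        ((P⁻¹ : GL (Fin n) F) : Matrix (Fin n) (Fin n) F) := by
  classical
  have hmem : ∀ x : Matrix (Fin n) (Fin n) F, x ∈ (aspcani2K0 j c hj).map (aspcani2Psi e P) ↔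
      ∃ s t : F, x = aspcani2Psi e P (s • (1 : Matrix (Fin 2) (Fin 2) F) + t • j) := by
    intro x
    rw [Subalgebra.mem_map]
    constructor
    · rintro ⟨a, ⟨s, t, rfl⟩, rfl⟩
      exact ⟨s, t, rfl⟩
    · rintro ⟨s, t, rfl⟩
      exact ⟨_, ⟨s, t, rfl⟩, rfl⟩
  refine ⟨(aspcani2K0 j c hj).map (aspcani2Psi e P), ⟨?_, ?_, ?_⟩, hmem⟩
  · -- commutative
    intro x hx y hy
    obtain ⟨s, t, rfl⟩ := (hmem x).mp hx
    obtain ⟨s', t', rfl⟩ := (hmem y).mp hy
    rw [← map_mul, ← map_mul, aspcani2_mul j c hj, aspcani2_mul j c hj]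
    congr 2
    · ring_nf
    · ring_nf
  · -- inverses
    intro x hx hx0
    obtain ⟨s, t, rfl⟩ := (hmem x).mp hx
    have hN : s ^ 2 - c * t ^ 2 ≠ 0 := by
      intro hN
      obtain ⟨rfl, rfl⟩ := hc s t hN
      apply hx0
      rw [zero_smul, zero_smul, add_zero, map_zero]
    refine ⟨aspcani2Psi e P (((s ^ 2 - c * t ^ 2)⁻¹ * s) • (1 : Matrix (Fin 2) (Fin 2) F) +
      (-((s ^ 2 - c * t ^ 2)⁻¹ * t)) • j), (hmem _).mpr ⟨_, _, rfl⟩, ?_⟩
    rw [← map_mul, aspcani2_mul j c hj]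
    have e1 : s * ((s ^ 2 - c * t ^ 2)⁻¹ * s) + t * -((s ^ 2 - c * t ^ 2)⁻¹ * t) * c = 1 := by
      field_simp
      ring
    have e2 : s * -((s ^ 2 - c * t ^ 2)⁻¹ * t) + t * ((s ^ 2 - c * t ^ 2)⁻¹ * s) = 0 := by ring
    rw [e1, e2, zero_smul, add_zero, one_smul, map_one]
  · -- dimension
    let L : (Fin 2 → F) →ₗ[F] Matrix (Fin n) (Fin n) F :=
      { toFun := fun v => aspcani2Psi e P (v 0 • (1 : Matrix (Fin 2) (Fin 2) F) + v 1 • j)
        map_add' := by
          intro v w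
          rw [← map_add]
          congr 1
          simp only [Pi.add_apply, add_smul]
          abel
        map_smul' := by
          intro r v
          rw [RingHom.id_apply, ← map_smul]
          congr 1
          simp only [Pi.smul_apply, smul_eq_mul, smul_add, smul_smul] }
    have hLinj : Function.Injective L := by
      rw [← LinearMap.ker_eq_bot, LinearMap.ker_eq_bot']
      intro v hv
      have h1 : aspcani2Psi e P (v 0 • (1 : Matrix (Fin 2) (Fin 2) F) + v 1 • j) = 0 := hv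
      rw [← map_zero (aspcani2Psi e P)] at h1
      have h2 := aspcani2Psi_injective hd e P h1
      obtain ⟨h3, h4⟩ := aspcani2_indep (by norm_num) j c hj hc _ _ h2
      ext i
      fin_cases i
      · exact h3
      · exact h4
    have hrange : Subalgebra.toSubmodule ((aspcani2K0 j c hj).map (aspcani2Psi e P)) = LinearMap.range L := by
      ext x
      rw [Subalgebra.mem_toSubmodule, hmem, LinearMap.mem_range]
      constructor
      · rintro ⟨s, t, rfl⟩
        exact ⟨![s, t], rfl⟩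
      · rintro ⟨v, rfl⟩
        exact ⟨v 0, v 1, rfl⟩
    rw [← Subalgebra.finrank_toSubmodule, hrange, LinearMap.finrank_range_of_inj hLinj, Module.finrank_fin_fun]

end Cfsg.Agent.Lib.Helper18.ASP
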