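import Mathlib
import Cfsg.Prelude.Def_GeometricClasses
import Cfsg.Agent.Lib.Helper27.ASC.Defs
import Cfsg.Agent.Lib.Helper19.ASG.Defs
import Cfsg.Agent.Lib.Helper18.ASP.Defs
import Cfsg.Agent.Lib.Helper18.ASPADJ
import Cfsg.Agent.Lib.helper8.ASPC.Defs
import Cfsg.Agent.Lib.Helper20.ASPCSIM

set_option autoImplicit false
set_option linter.unusedVariables false
set_option linter.unusedSectionVars false

/-!
# Project ASP, block C (sub-leader helper8), piece C-ANI5 : `H` normalises the quadratic field `K` (helper22)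
-/

namespace Cfsg.Agent.Lib.Helper18.ASP

open Cfsg Cfsg.Geo Cfsg.Agent.Lib.Helper27.ASC Cfsg.Agent.Lib.Helper19.ASG
open scoped MatrixGroups Matrix Kronecker

variable {n : ℕ} {F : Type*} [Field F]

/-- `(x, y) ↦ P R(x ⊗ y) P⁻¹` is multiplicative -/
theorem aspcani5_mul {k d : ℕ} (e : Fin n ≃ Fin k × Fin d) (P : GL (Fin n) F)
    (x x' : Matrix (Fin k) (Fin k) F) (y y' : Matrix (Fin d) (Fin d) F) :
    (P : Matrix (Fin n) (Fin n) F) * Matrix.reindexAlgEquiv F F e.symm (x ⊗ₖ y) *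
        ((P⁻¹ : GL (Fin n) F) : Matrix (Fin n) (Fin n) F) *
      ((P : Matrix (Fin n) (Fin n) F) * Matrix.reindexAlgEquiv F F e.symm (x' ⊗ₖ y') *
        ((P⁻¹ : GL (Fin n) F) : Matrix (Fin n) (Fin n) F)) =
      (P : Matrix (Fin n) (Fin n) F) * Matrix.reindexAlgEquiv F F e.symm ((x * x') ⊗ₖ (y * y')) *
        ((P⁻¹ : GL (Fin n) F) : Matrix (Fin n) (Fin n) F) := by
  have h2 : ((P⁻¹ : GL (Fin n) F) : Matrix (Fin n) (Fin n) F) * (P : Matrix (Fin n) (Fin n) F) = 1 := by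
    rw [← Units.val_mul, inv_mul_cancel, Units.val_one]
  rw [Matrix.mul_kronecker_mul, map_mul]
  have h4 : ∀ X Y : Matrix (Fin n) (Fin n) F,
      (P : Matrix (Fin n) (Fin n) F) * X * ((P⁻¹ : GL (Fin n) F) : Matrix (Fin n) (Fin n) F) *
          ((P : Matrix (Fin n) (Fin n) F) * Y * ((P⁻¹ : GL (Fin n) F) : Matrix (Fin n) (Fin n) F)) =
        (P : Matrix (Fin n) (Fin n) F) * X * (((P⁻¹ : GL (Fin n) F) : Matrix (Fin n) (Fin n) F) *
          (P : Matrix (Fin n) (Fin n) F)) * Y * ((P⁻¹ : GL (Fin n) F) : Matrix (Fin n) (Fin n) F) := by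
    intro X Y
    simp only [mul_assoc]
  rw [h4, h2, mul_one]
  simp only [mul_assoc]

/-- `P R(1 ⊗ 1) P⁻¹ = 1` -/
theorem aspcani5_one {k d : ℕ} (e : Fin n ≃ Fin k × Fin d) (P : GL (Fin n) F) :
    (P : Matrix (Fin n) (Fin n) F) *
        Matrix.reindexAlgEquiv F F e.symm ((1 : Matrix (Fin k) (Fin k) F) ⊗ₖ (1 : Matrix (Fin d) (Fin d) F)) *
        ((P⁻¹ : GL (Fin n) F) : Matrix (Fin n) (Fin n) F) = 1 := by
  rw [Matrix.one_kronecker_one, map_one, mul_one, ← Units.val_mul, mul_inv_cancel, Units.val_one]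

/-- conjugation of `P R(x ⊗ 1) P⁻¹` by `h = P R(a ⊗ b) P⁻¹` -/
theorem aspcani5_conj {k d : ℕ} (e : Fin n ≃ Fin k × Fin d) (P : GL (Fin n) F) (h : GL (Fin n) F)
    (a : GL (Fin k) F) (b : GL (Fin d) F)
    (hh : (h : Matrix (Fin n) (Fin n) F) = (P : Matrix (Fin n) (Fin n) F) *
        Matrix.reindexAlgEquiv F F e.symm ((a : Matrix (Fin k) (Fin k) F) ⊗ₖ (b : Matrix (Fin d) (Fin d) F)) *
        ((P⁻¹ : GL (Fin n) F) : Matrix (Fin n) (Fin n) F))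
    (x : Matrix (Fin k) (Fin k) F) :
    (h : Matrix (Fin n) (Fin n) F) * ((P : Matrix (Fin n) (Fin n) F) *
        Matrix.reindexAlgEquiv F F e.symm (x ⊗ₖ (1 : Matrix (Fin d) (Fin d) F)) *
        ((P⁻¹ : GL (Fin n) F) : Matrix (Fin n) (Fin n) F)) * ((h⁻¹ : GL (Fin n) F) : Matrix (Fin n) (Fin n) F) =
      (P : Matrix (Fin n) (Fin n) F) *
        Matrix.reindexAlgEquiv F F e.symm (((a : Matrix (Fin k) (Fin k) F) * x *
          ((a⁻¹ : GL (Fin k) F) : Matrix (Fin k) (Fin k) F)) ⊗ₖ (1 : Matrix (Fin d) (Fin d) F)) *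
        ((P⁻¹ : GL (Fin n) F) : Matrix (Fin n) (Fin n) F) := by
  have hinv : ((h⁻¹ : GL (Fin n) F) : Matrix (Fin n) (Fin n) F) = (P : Matrix (Fin n) (Fin n) F) *
      Matrix.reindexAlgEquiv F F e.symm (((a⁻¹ : GL (Fin k) F) : Matrix (Fin k) (Fin k) F) ⊗ₖ
        ((b⁻¹ : GL (Fin d) F) : Matrix (Fin d) (Fin d) F)) *
      ((P⁻¹ : GL (Fin n) F) : Matrix (Fin n) (Fin n) F) := by
    apply Units.inv_eq_of_mul_eq_one_right
    rw [hh, aspcani5_mul, ← Units.val_mul, ← Units.val_mul, mul_inv_cancel, mul_inv_cancel, Units.val_one,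
      Units.val_one, aspcani5_one]
  rw [hinv, hh, aspcani5_mul, aspcani5_mul, mul_one, ← Units.val_mul, mul_inv_cancel, Units.val_one]

/-- C-ANI5 (medium) : `H` normalises `K`: `h = P R(a ⊗ b) P⁻¹` with `aᵀ S a = μ S` (C-SIM), `a j = ± j a` (`hsim`), so
`h (P R((s + t j) ⊗ 1) P⁻¹) h⁻¹ = P R((s ± t j) ⊗ 1) P⁻¹` (`Matrix.mul_kronecker_mul`; `h⁻¹ = P R(a⁻¹ ⊗ b⁻¹) P⁻¹`). -/
theorem spc_ani_normalizes (f : (Fin n → F) → (Fin n → F) → F) {H : Subgroup (GL (Fin n) F)} (hI : H ≤ isoGL f) {d : ℕ}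
    (e : Fin n ≃ Fin 2 × Fin d) (P : GL (Fin n) F) (S : Matrix (Fin 2) (Fin 2) F) (Λ : Matrix (Fin d) (Fin d) F)
    (hS0 : S ≠ 0) (hΛ0 : Λ ≠ 0) (hK : KrGram f e P S Λ) (hH : H ≤ tensorProductSubgroup 2 d e P)
    (j : Matrix (Fin 2) (Fin 2) F)
    (hsim : ∀ (a : Matrix (Fin 2) (Fin 2) F) (μ : F), μ ≠ 0 → aᵀ * S * a = μ • S → (a * j = j * a ∨ a * j = -(j * a)))
    (K : Subalgebra F (Matrix (Fin n) (Fin n) F))
    (hKmem : ∀ x : Matrix (Fin n) (Fin n) F, x ∈ K ↔ ∃ s t : F, x = (P : Matrix (Fin n) (Fin n) F) *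
        Matrix.reindexAlgEquiv F F e.symm
          ((s • (1 : Matrix (Fin 2) (Fin 2) F) + t • j) ⊗ₖ (1 : Matrix (Fin d) (Fin d) F)) *
        ((P⁻¹ : GL (Fin n) F) : Matrix (Fin n) (Fin n) F)) :
    H ≤ subalgebraNormalizer K := by
  -- conjugation by an element of `H` maps `K` into `K`
  have key : ∀ h ∈ H, ∀ x ∈ K, (h : Matrix (Fin n) (Fin n) F) * x *
      ((h⁻¹ : GL (Fin n) F) : Matrix (Fin n) (Fin n) F) ∈ K := by
    intro h hh x hx
    obtain ⟨a, b, μ, hμ, hhab, haS, -⟩ := spc_kron_sim f e P S Λ hS0 hΛ0 hK h (hI hh) (hH hh)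
    obtain ⟨s, t, rfl⟩ := (hKmem x).mp hx
    rw [aspcani5_conj e P h a b hhab]
    have hainv : (a : Matrix (Fin 2) (Fin 2) F) * ((a⁻¹ : GL (Fin 2) F) : Matrix (Fin 2) (Fin 2) F) = 1 := by
      rw [← Units.val_mul, mul_inv_cancel, Units.val_one]
    have hexp : (a : Matrix (Fin 2) (Fin 2) F) * (s • (1 : Matrix (Fin 2) (Fin 2) F) + t • j) *
        ((a⁻¹ : GL (Fin 2) F) : Matrix (Fin 2) (Fin 2) F) =
        s • (1 : Matrix (Fin 2) (Fin 2) F) + t • ((a : Matrix (Fin 2) (Fin 2) F) * j *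
          ((a⁻¹ : GL (Fin 2) F) : Matrix (Fin 2) (Fin 2) F)) := by
      rw [mul_add, add_mul, mul_smul_comm, mul_one, smul_mul_assoc, hainv, mul_smul_comm, smul_mul_assoc]
    rw [hexp]
    rcases hsim (a : Matrix (Fin 2) (Fin 2) F) μ hμ haS with hc | hc
    · refine (hKmem _).mpr ⟨s, t, ?_⟩
      rw [hc, mul_assoc j, hainv, mul_one]
    · refine (hKmem _).mpr ⟨s, -t, ?_⟩
      rw [hc, neg_mul, mul_assoc j, hainv, mul_one, smul_neg, neg_smul]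
  intro h hh
  show ∀ k : Matrix (Fin n) (Fin n) F, k ∈ K ↔ (h : Matrix (Fin n) (Fin n) F) * k *
      ((h⁻¹ : GL (Fin n) F) : Matrix (Fin n) (Fin n) F) ∈ K
  intro k
  constructor
  · exact key h hh k
  · intro hk
    have h1 := key h⁻¹ (H.inv_mem hh) _ hk
    rw [inv_inv] at h1
    have h2 : ((h⁻¹ : GL (Fin n) F) : Matrix (Fin n) (Fin n) F) * ((h : Matrix (Fin n) (Fin n) F) * k *
        ((h⁻¹ : GL (Fin n) F) : Matrix (Fin n) (Fin n) F)) * (h : Matrix (Fin n) (Fin n) F) = k := by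
      have e1 : ((h⁻¹ : GL (Fin n) F) : Matrix (Fin n) (Fin n) F) * (h : Matrix (Fin n) (Fin n) F) = 1 := by
        rw [← Units.val_mul, inv_mul_cancel, Units.val_one]
      calc ((h⁻¹ : GL (Fin n) F) : Matrix (Fin n) (Fin n) F) * ((h : Matrix (Fin n) (Fin n) F) * k *
            ((h⁻¹ : GL (Fin n) F) : Matrix (Fin n) (Fin n) F)) * (h : Matrix (Fin n) (Fin n) F)
          = (((h⁻¹ : GL (Fin n) F) : Matrix (Fin n) (Fin n) F) * (h : Matrix (Fin n) (Fin n) F)) * k *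
            (((h⁻¹ : GL (Fin n) F) : Matrix (Fin n) (Fin n) F) * (h : Matrix (Fin n) (Fin n) F)) := by
            simp only [mul_assoc]
        _ = k := by rw [e1, one_mul, mul_one]
    rw [h2] at h1
    exact h1

end Cfsg.Agent.Lib.Helper18.ASP
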