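import Mathlib
import Cfsg.Prelude.Def_GeometricClasses
import Cfsg.Agent.Lib.Helper27.ASC.Defs
import Cfsg.Agent.Lib.Helper19.ASG.Defs
import Cfsg.Agent.Lib.Helper18.ASP.Defs
import Cfsg.Agent.Lib.Helper18.ASPADJ
import Cfsg.Agent.Lib.helper8.ASPC.Defs

set_option autoImplicit false
set_option linter.unusedVariables false
set_option linter.unusedSectionVars false

/-!
# Project ASP, block C (sub-leader helper8), piece C-FG : forms given by a Gram matrix (helper22)
-/

namespace Cfsg.Agent.Lib.Helper18.ASP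

open Cfsg Cfsg.Geo Cfsg.Agent.Lib.Helper27.ASC Cfsg.Agent.Lib.Helper19.ASG
open scoped MatrixGroups Matrix Kronecker

variable {n : ℕ} {F : Type*} [Field F]

/-- C-FG (easy) : `formOfGram id A` in matrix form (unfold, `Finset.mul_sum`). -/
theorem spc_formOfGram_eq_dot {κ : Type} [Fintype κ] (A : Matrix κ κ F) (x y : κ → F) :
    formOfGram id A x y = x ⬝ᵥ (A *ᵥ y) := by
  unfold formOfGram
  simp only [dotProduct, Matrix.mulVec, id, Finset.mul_sum, mul_assoc]

/-- C-FG : the Gram matrix of `formOfGram id A` is `A`. -/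
theorem spc_gram_formOfGram {κ : Type} [Fintype κ] [DecidableEq κ] (A : Matrix κ κ F) :
    gramMatrix (formOfGram id A) = A := by
  ext a b
  unfold gramMatrix
  rw [spc_formOfGram_eq_dot]
  simp

/-- C-FG -/
theorem spc_formOfGram_bilinear {κ : Type} [Fintype κ] [DecidableEq κ] (A : Matrix κ κ F) :
    IsBilinearForm (formOfGram id A) := by
  refine ⟨fun x y v => ?_, fun c x v => ?_, fun v x y => ?_, fun c v x => ?_⟩
  · rw [spc_formOfGram_eq_dot, spc_formOfGram_eq_dot, spc_formOfGram_eq_dot, add_dotProduct]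
  · rw [spc_formOfGram_eq_dot, spc_formOfGram_eq_dot, smul_dotProduct, smul_eq_mul]
  · rw [spc_formOfGram_eq_dot, spc_formOfGram_eq_dot, spc_formOfGram_eq_dot, Matrix.mulVec_add, dotProduct_add]
  · rw [spc_formOfGram_eq_dot, spc_formOfGram_eq_dot, Matrix.mulVec_smul, dotProduct_smul, smul_eq_mul]

/-- C-FG : non-degeneracy from `det A ≠ 0` (`u ⬝ᵥ A *ᵥ v = 0` for all `u` gives `A *ᵥ v = 0`, so `v = 0`; on the other side use
`Aᵀ`). -/
theorem spc_formOfGram_nondegenerate {κ : Type} [Fintype κ] [DecidableEq κ] (A : Matrix κ κ F) (hA : A.det ≠ 0) :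
    IsNondegenerateForm (formOfGram id A) := by
  intro v hv
  constructor
  · have h1 : A *ᵥ v ≠ 0 := fun h => hv (Matrix.eq_zero_of_mulVec_eq_zero hA h)
    obtain ⟨i, hi⟩ := Function.ne_iff.mp h1
    refine ⟨Pi.single i 1, ?_⟩
    rw [spc_formOfGram_eq_dot, single_one_dotProduct]
    exact hi
  · have h1 : v ᵥ* A ≠ 0 := fun h => hv (Matrix.eq_zero_of_vecMul_eq_zero hA h)
    obtain ⟨i, hi⟩ := Function.ne_iff.mp h1
    refine ⟨Pi.single i 1, ?_⟩
    rw [spc_formOfGram_eq_dot, Matrix.dotProduct_mulVec, dotProduct_single_one]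
    exact hi

/-- a skew matrix with zero diagonal gives an alternating form -/
theorem aspcfg_alternating {κ : Type} [Fintype κ] [DecidableEq κ] (A : Matrix κ κ F)
    (hskew : Aᵀ = -A) (hdiag : ∀ i, A i i = 0) (v : κ → F) : formOfGram id A v v = 0 := by
  unfold formOfGram
  rw [← Finset.sum_product']
  refine Finset.sum_involution (fun p _ => p.swap) ?_ ?_ ?_ ?_
  · intro p _
    have h1 : A p.2 p.1 = - A p.1 p.2 := by
      have := congrFun (congrFun hskew p.1) p.2
      rw [Matrix.transpose_apply, Matrix.neg_apply] at this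
      exact this
    simp only [Prod.fst_swap, Prod.snd_swap, id, h1]
    ring
  · intro p _ hne hsw
    apply hne
    have h1 : p.2 = p.1 := by
      have := congrArg Prod.fst hsw
      simpa using this
    simp only [id, h1, hdiag, mul_zero, zero_mul]
  · intro p _
    exact Finset.mem_univ _
  · intro p _
    exact Prod.swap_swap p

/-- C-FG -/
theorem spc_formOfGram_symplectic {κ : Type} [Fintype κ] [DecidableEq κ] (A : Matrix κ κ F) (hA : A.det ≠ 0)
    (hskew : Aᵀ = -A) (hdiag : ∀ i, A i i = 0) : IsSymplecticForm (formOfGram id A) := by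
  refine ⟨spc_formOfGram_bilinear A, fun v w => ?_, aspcfg_alternating A hskew hdiag,
    spc_formOfGram_nondegenerate A hA⟩
  rw [spc_formOfGram_eq_dot, spc_formOfGram_eq_dot, Matrix.dotProduct_mulVec, ← Matrix.mulVec_transpose, hskew,
    Matrix.neg_mulVec, neg_dotProduct, dotProduct_comm]

/-- C-FG -/
theorem spc_formOfGram_symmetric {κ : Type} [Fintype κ] [DecidableEq κ] (A : Matrix κ κ F) (hA : A.det ≠ 0)
    (hsymm : Aᵀ = A) : IsSymmetricForm (formOfGram id A) := by
  refine ⟨spc_formOfGram_bilinear A, fun u v => ?_, spc_formOfGram_nondegenerate A hA⟩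
  rw [spc_formOfGram_eq_dot, spc_formOfGram_eq_dot, Matrix.dotProduct_mulVec, ← Matrix.mulVec_transpose, hsymm,
    dotProduct_comm]

end Cfsg.Agent.Lib.Helper18.ASP
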