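import Mathlib
import Cfsg.Agent.Lib.Helper12.OMB.Defs
import Cfsg.Agent.Lib.helper15.OMBO1

/-!
# Project OMB (designer helper12), row G1 (helper22), verbatim: a subgroup of `GL` containing all Siegel elements
(`u, v` singular, orthogonal) contains `Ω_{2l+1}(F)`.  Wrapper of helper15's Defs-independent `ombo1_omega_le_of_siegel`.
-/

set_option autoImplicit false

namespace Cfsg.Agent.Lib.Helper12.OMB

open Matrix Cfsg.Agent.Lib.helper3.STC Cfsg.Agent.Lib.Lead.STD Cfsg.Agent.Lib.Lead.STB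

universe u w

section G

variable {l : ℕ} {F : Type u} [Field F]

/-- own-name copy of V0 `polar_eq_bB` (= `Helper16.polar_odd`). -/
theorem ombg1_polar_eq_bB (x y : Ix (Fin l) → F) : QuadraticMap.polar (Cfsg.quadFormOdd l F) x y = bB x y :=
  Cfsg.Agent.Lib.Helper16.polar_odd l F x y

/-- G1 [M]  transfer of `Helper28.OGenQ.sgGroupQ_quad … |>.gen` along `e = Fintype.equivFin (Ix (Fin l))`: COPY `Helper28.OMMO1` (82 lines), with `Helper16.qfOdd l F` (`Cfsg.Agent.Lib.Helper16.SpinG2`,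
`qfOdd_coe` is `rfl`), `Helper16.OA.qfOdd_nondeg l h2` (`Cfsg.Agent.Lib.Helper16.OA25`), `polar_eq_bB`; `Fintype.card (Ix (Fin l)) = 2 * l + 1 ≥ 7`. -/
theorem omega_le_of_siegelB [Fintype F] (hl : 3 ≤ l) (h2 : (2 : F) ≠ 0) (M : Subgroup (Matrix.GeneralLinearGroup (Ix (Fin l)) F))
    (hM : ∀ (t : Matrix.GeneralLinearGroup (Ix (Fin l)) F) (u v : Ix (Fin l) → F) (c : F),
      Cfsg.quadFormOdd l F u = 0 → Cfsg.quadFormOdd l F v = 0 → bB u v = 0 → IsSgB t u v c → t ∈ M) :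
    Cfsg.Geo.omegaGL (Cfsg.quadFormOdd l F) ≤ M := by
  apply Cfsg.Agent.Lib.helper15.OMBO1.ombo1_omega_le_of_siegel h2 hl M
  intro t u v c hu hv huv ht
  apply hM t u v c hu hv
  · rw [← ombg1_polar_eq_bB]
    exact huv
  · intro x
    rw [ht x]
    unfold sgActB
    rw [ombg1_polar_eq_bB, ombg1_polar_eq_bB]

end G

end Cfsg.Agent.Lib.Helper12.OMB
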