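import Mathlib
import Cfsg.Agent.Lib.helper17.OMP.Defs
import Cfsg.Agent.Lib.Helper11.OMPE6

/-!
# Project OMP (designer helper17), row A10 (helper22): CORES of the five torus statements
`hE_PP_fst hE_PP_snd hE_PP_ab hE_NN_fst hE_NN_snd`, with the STATEMENTS of the cited rows
A4 `yy_comm_blk`, A6 `PP_indep NN_indep`, A7 `PP_swap NN_swap`, E3 `hE_conj_tv`, E4 `hE_chain hE_swap`
(specialised to the fixed `h4 p Φ y H`) as hypotheses; E6 `Mv1_hE` is cited from main.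
-/

set_option autoImplicit false
set_option linter.unusedSectionVars false
set_option linter.unusedVariables false

namespace Cfsg.Agent.Lib.helper17.OMP

open Matrix Cfsg.Agent.Lib.helper14.CTE Cfsg.Agent.Lib.helper14.CTA Cfsg.Agent.Lib.helper17.SLN

universe u v w

section A

variable {F : Type u} [Field F] {G : Type v} [Group G] {ι : Type w} [Fintype ι] [DecidableEq ι]

/-- an index outside three given ones -/
theorem ompa10_exists_fourth (h4 : 4 ≤ Fintype.card ι) (a b c : ι) : ∃ k : ι, k ≠ a ∧ k ≠ b ∧ k ≠ c := by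
  by_contra hcon0
  have hcon : ∀ k : ι, k ≠ a → k ≠ b → k = c := fun k h1 h2 => by
    by_contra h3
    exact hcon0 ⟨k, h1, h2, h3⟩
  have hsub : (Finset.univ : Finset ι) ⊆ {a, b, c} := by
    intro k _
    by_cases h1 : k = a
    · simp [h1]
    · by_cases h2 : k = b
      · simp [h2]
      · have := hcon k h1 h2
        simp [this]
  have hle := Finset.card_le_card hsub
  rw [Finset.card_univ] at hle
  have h3 : ({a, b, c} : Finset ι).card ≤ 3 := Finset.card_le_three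
  omega

/-- conjugation by an element commuting with the conjugator -/
theorem ompa10_conj_conj {H : Type*} [Group H] (h Y X : H) (hc : Commute Y h) :
    h * (Y * X * Y⁻¹) * h⁻¹ = Y * (h * X * h⁻¹) * Y⁻¹ := by
  have h1 : h * Y = Y * h := hc.eq.symm
  have h2 : Y⁻¹ * h⁻¹ = h⁻¹ * Y⁻¹ := by rw [← _root_.mul_inv_rev, ← _root_.mul_inv_rev, h1]
  calc h * (Y * X * Y⁻¹) * h⁻¹ = (h * Y) * X * (Y⁻¹ * h⁻¹) := by simp only [mul_assoc]
    _ = (Y * h) * X * (h⁻¹ * Y⁻¹) := by rw [h1, h2]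
    _ = _ := by simp only [mul_assoc]

/-- a conjugation fixing `P` is a commutation -/
theorem ompa10_commute_of_conj {H : Type*} [Group H] (g P : H) (h : g * P * g⁻¹ = P) : Commute g P := by
  have := mul_inv_eq_iff_eq_mul.1 h
  exact this

/-- core of `hE_PP_fst` -/
theorem ompa10_PP_fst_core (h4 : 4 ≤ Fintype.card ι) (p : Pts ι) (Φ : Matrix.SpecialLinearGroup ι F →* G) (y : G)
    (hA4 : ∀ (i j : ι), i ≠ j → ∀ g : Matrix.SpecialLinearGroup ι F, Mv g i j i j → Commute (yy p Φ y i j) (Φ g))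
    (hA6 : ∀ (a b k k' : ι), a ≠ b → a ≠ k → b ≠ k → a ≠ k' → b ≠ k' → ∀ t : F,
      PP p Φ y a b k t = PP p Φ y a b k' t)
    (hE3 : ∀ (i j : ι), i ≠ j → ∀ s : F, s ≠ 0 → ∀ (a b : ι), a ≠ b → ∀ t : F,
      (hE i j s : Matrix.SpecialLinearGroup ι F) * tv a b t * (hE i j s)⁻¹ =
        tv a b ((if a = i then s else if a = j then s⁻¹ else 1) *
          (if b = i then s else if b = j then s⁻¹ else 1)⁻¹ * t))
    (a b k m : ι) (hab : a ≠ b) (hak : a ≠ k) (hbk : b ≠ k) (hma : m ≠ a) (hmb : m ≠ b) (s : F) (hs : s ≠ 0) (t : F) :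
    Φ (hE a m s) * PP p Φ y a b k t * (Φ (hE a m s))⁻¹ = PP p Φ y a b k (s * t) := by
  have key : ∀ k : ι, a ≠ k → b ≠ k → k ≠ m →
      Φ (hE a m s) * PP p Φ y a b k t * (Φ (hE a m s))⁻¹ = PP p Φ y a b k (s * t) := by
    intro k hak hbk hkm
    have hMv : Mv (hE a m s : Matrix.SpecialLinearGroup ι F) b k b k :=
      (Mv_iff _ _ _ _ _).2 ⟨Mv1_hE a m b hma.symm hab.symm hmb.symm s hs, Mv1_hE a m k hma.symm hak.symm hkm s hs⟩
    have hc := hA4 b k hbk _ hMv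
    have hconj := hE3 a m hma.symm s hs a k hak t
    have hcoef : (if a = a then s else if a = m then s⁻¹ else 1) *
        (if k = a then s else if k = m then s⁻¹ else 1)⁻¹ * t = s * t := by
      simp [hak.symm, hkm]
    have e1 : Φ (hE a m s) * Φ (tv a k t) * (Φ (hE a m s))⁻¹ = Φ (tv a k (s * t)) := by
      rw [← map_inv, ← map_mul, ← map_mul, hconj, hcoef]
    unfold PP
    rw [ompa10_conj_conj _ _ _ hc, e1]
  by_cases hkm : k = m
  · obtain ⟨k', hk'a, hk'b, hk'm⟩ := ompa10_exists_fourth h4 a b m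
    rw [hA6 a b k k' hab hak hbk hk'a.symm hk'b.symm t, hA6 a b k k' hab hak hbk hk'a.symm hk'b.symm (s * t)]
    exact key k' hk'a.symm hk'b.symm hk'm
  · exact key k hak hbk hkm

/-- core of `hE_NN_fst` -/
theorem ompa10_NN_fst_core (h4 : 4 ≤ Fintype.card ι) (p : Pts ι) (Φ : Matrix.SpecialLinearGroup ι F →* G) (y : G)
    (hA4 : ∀ (i j : ι), i ≠ j → ∀ g : Matrix.SpecialLinearGroup ι F, Mv g i j i j → Commute (yy p Φ y i j) (Φ g))
    (hA6 : ∀ (a b k k' : ι), a ≠ b → a ≠ k → b ≠ k → a ≠ k' → b ≠ k' → ∀ t : F,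
      NN p Φ y a b k t = NN p Φ y a b k' t)
    (hE3 : ∀ (i j : ι), i ≠ j → ∀ s : F, s ≠ 0 → ∀ (a b : ι), a ≠ b → ∀ t : F,
      (hE i j s : Matrix.SpecialLinearGroup ι F) * tv a b t * (hE i j s)⁻¹ =
        tv a b ((if a = i then s else if a = j then s⁻¹ else 1) *
          (if b = i then s else if b = j then s⁻¹ else 1)⁻¹ * t))
    (a b k m : ι) (hab : a ≠ b) (hak : a ≠ k) (hbk : b ≠ k) (hma : m ≠ a) (hmb : m ≠ b) (s : F) (hs : s ≠ 0) (t : F) :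
    Φ (hE a m s) * NN p Φ y a b k t * (Φ (hE a m s))⁻¹ = NN p Φ y a b k (s⁻¹ * t) := by
  have key : ∀ k : ι, a ≠ k → b ≠ k → k ≠ m →
      Φ (hE a m s) * NN p Φ y a b k t * (Φ (hE a m s))⁻¹ = NN p Φ y a b k (s⁻¹ * t) := by
    intro k hak hbk hkm
    have hMv : Mv (hE a m s : Matrix.SpecialLinearGroup ι F) b k b k :=
      (Mv_iff _ _ _ _ _).2 ⟨Mv1_hE a m b hma.symm hab.symm hmb.symm s hs, Mv1_hE a m k hma.symm hak.symm hkm s hs⟩
    have hc := hA4 b k hbk _ hMv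
    have hconj := hE3 a m hma.symm s hs k a hak.symm t
    have hcoef : (if k = a then s else if k = m then s⁻¹ else 1) *
        (if a = a then s else if a = m then s⁻¹ else 1)⁻¹ * t = s⁻¹ * t := by
      simp [hak.symm, hkm]
    have e1 : Φ (hE a m s) * Φ (tv k a t) * (Φ (hE a m s))⁻¹ = Φ (tv k a (s⁻¹ * t)) := by
      rw [← map_inv, ← map_mul, ← map_mul, hconj, hcoef]
    unfold NN
    rw [ompa10_conj_conj _ _ _ hc, e1]
  by_cases hkm : k = m
  · obtain ⟨k', hk'a, hk'b, hk'm⟩ := ompa10_exists_fourth h4 a b m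
    rw [hA6 a b k k' hab hak hbk hk'a.symm hk'b.symm t, hA6 a b k k' hab hak hbk hk'a.symm hk'b.symm (s⁻¹ * t)]
    exact key k' hk'a.symm hk'b.symm hk'm
  · exact key k hak hbk hkm

/-- core of `hE_PP_snd`: from the statement of `hE_PP_fst` and A7 `PP_swap` -/
theorem ompa10_PP_snd_core (p : Pts ι) (Φ : Matrix.SpecialLinearGroup ι F →* G) (y : G)
    (hfst : ∀ (a b k m : ι), a ≠ b → a ≠ k → b ≠ k → m ≠ a → m ≠ b → ∀ s : F, s ≠ 0 → ∀ t : F,
      Φ (hE a m s) * PP p Φ y a b k t * (Φ (hE a m s))⁻¹ = PP p Φ y a b k (s * t))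
    (hA7 : ∀ (a b k : ι), a ≠ b → a ≠ k → b ≠ k → ∀ t : F, PP p Φ y b a k (-t) = PP p Φ y a b k t)
    (a b k m : ι) (hab : a ≠ b) (hak : a ≠ k) (hbk : b ≠ k) (hma : m ≠ a) (hmb : m ≠ b) (s : F) (hs : s ≠ 0) (t : F) :
    Φ (hE b m s) * PP p Φ y a b k t * (Φ (hE b m s))⁻¹ = PP p Φ y a b k (s * t) := by
  rw [← hA7 a b k hab hak hbk t, hfst b a k m hab.symm hbk hak hmb hma s hs (-t), mul_neg,
    hA7 a b k hab hak hbk (s * t)]

/-- core of `hE_NN_snd`: from the statement of `hE_NN_fst` and A7 `NN_swap` -/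
theorem ompa10_NN_snd_core (p : Pts ι) (Φ : Matrix.SpecialLinearGroup ι F →* G) (y : G)
    (hfst : ∀ (a b k m : ι), a ≠ b → a ≠ k → b ≠ k → m ≠ a → m ≠ b → ∀ s : F, s ≠ 0 → ∀ t : F,
      Φ (hE a m s) * NN p Φ y a b k t * (Φ (hE a m s))⁻¹ = NN p Φ y a b k (s⁻¹ * t))
    (hA7 : ∀ (a b k : ι), a ≠ b → a ≠ k → b ≠ k → ∀ t : F, NN p Φ y b a k (-t) = NN p Φ y a b k t)
    (a b k m : ι) (hab : a ≠ b) (hak : a ≠ k) (hbk : b ≠ k) (hma : m ≠ a) (hmb : m ≠ b) (s : F) (hs : s ≠ 0) (t : F) :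
    Φ (hE b m s) * NN p Φ y a b k t * (Φ (hE b m s))⁻¹ = NN p Φ y a b k (s⁻¹ * t) := by
  rw [← hA7 a b k hab hak hbk t, hfst b a k m hab.symm hbk hak hmb hma s hs (-t), mul_neg,
    hA7 a b k hab hak hbk (s⁻¹ * t)]

/-- core of `hE_PP_ab`: from the statements of `hE_PP_fst`, `hE_PP_snd` and E4 `hE_chain`, `hE_swap` -/
theorem ompa10_PP_ab_core (p : Pts ι) (Φ : Matrix.SpecialLinearGroup ι F →* G) (y : G)
    (hfst : ∀ (a b k m : ι), a ≠ b → a ≠ k → b ≠ k → m ≠ a → m ≠ b → ∀ s : F, s ≠ 0 → ∀ t : F,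
      Φ (hE a m s) * PP p Φ y a b k t * (Φ (hE a m s))⁻¹ = PP p Φ y a b k (s * t))
    (hsnd : ∀ (a b k m : ι), a ≠ b → a ≠ k → b ≠ k → m ≠ a → m ≠ b → ∀ s : F, s ≠ 0 → ∀ t : F,
      Φ (hE b m s) * PP p Φ y a b k t * (Φ (hE b m s))⁻¹ = PP p Φ y a b k (s * t))
    (hchain : ∀ (i j m : ι), i ≠ j → i ≠ m → j ≠ m → ∀ s : F, s ≠ 0 →
      (hE i j s : Matrix.SpecialLinearGroup ι F) = hE i m s * hE m j s)
    (hswap : ∀ (i j : ι), i ≠ j → ∀ s : F, s ≠ 0 → (hE j i s : Matrix.SpecialLinearGroup ι F) = hE i j s⁻¹)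
    (a b k : ι) (hab : a ≠ b) (hak : a ≠ k) (hbk : b ≠ k) (s : F) (hs : s ≠ 0) (t : F) :
    Commute (Φ (hE a b s)) (PP p Φ y a b k t) := by
  apply ompa10_commute_of_conj
  have hs' : s⁻¹ ≠ 0 := inv_ne_zero hs
  rw [hchain a b k hab hak hbk s hs, hswap b k hbk s hs, map_mul, _root_.mul_inv_rev]
  have e : Φ (hE a k s) * Φ (hE b k s⁻¹) * PP p Φ y a b k t * ((Φ (hE b k s⁻¹))⁻¹ * (Φ (hE a k s))⁻¹) =
      Φ (hE a k s) * (Φ (hE b k s⁻¹) * PP p Φ y a b k t * (Φ (hE b k s⁻¹))⁻¹) * (Φ (hE a k s))⁻¹ := by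
    simp only [mul_assoc]
  rw [e, hsnd a b k k hab hak hbk hak.symm hbk.symm s⁻¹ hs' t, hfst a b k k hab hak hbk hak.symm hbk.symm s hs,
    mul_inv_cancel_left₀ hs]

end A

end Cfsg.Agent.Lib.helper17.OMP
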