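import Mathlib
import Cfsg.Agent.Lib.helper17.OMP.Defs

/-!
# Project OMP (designer helper17), row A1 `yy_eq` (helper22): `yy` does not depend on the chosen `g`.
VERBATIM statement; the E5 facts (`Mv` closed under products and inverses) are proved here under own names
(`ompa1_Mv1_mul`, `ompa1_Mv1_inv`, `ompa1_Mv_mul`, `ompa1_Mv_inv`), so the file depends only on `Defs`.
-/

set_option autoImplicit false
set_option linter.unusedSectionVars false

namespace Cfsg.Agent.Lib.helper17.OMP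

open Matrix Cfsg.Agent.Lib.helper14.CTE Cfsg.Agent.Lib.helper14.CTA Cfsg.Agent.Lib.helper17.SLN

universe u v w

section A

variable {F : Type u} [Field F] {G : Type v} [Group G] {ι : Type w} [Fintype ι] [DecidableEq ι]

theorem ompa1_Mv1_mul {g g' : Matrix.SpecialLinearGroup ι F} {a c e : ι} (h : Mv1 g a c) (h' : Mv1 g' c e) :
    Mv1 (g' * g) a e := by
  obtain ⟨h1, h2⟩ := h
  obtain ⟨h1', h2'⟩ := h'
  refine ⟨?_, ?_⟩
  · rw [Matrix.SpecialLinearGroup.coe_mul, ← Matrix.mulVec_mulVec, h1, h1']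
  · rw [Matrix.SpecialLinearGroup.coe_mul, ← Matrix.vecMul_vecMul, h2', h2]

theorem ompa1_Mv1_inv {g : Matrix.SpecialLinearGroup ι F} {a c : ι} (h : Mv1 g a c) : Mv1 g⁻¹ c a := by
  obtain ⟨h1, h2⟩ := h
  refine ⟨?_, ?_⟩
  · rw [← h1, Matrix.mulVec_mulVec, ← Matrix.SpecialLinearGroup.coe_mul, inv_mul_cancel,
      Matrix.SpecialLinearGroup.coe_one, Matrix.one_mulVec]
  · rw [← h2, Matrix.vecMul_vecMul, ← Matrix.SpecialLinearGroup.coe_mul, mul_inv_cancel,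
      Matrix.SpecialLinearGroup.coe_one, Matrix.vecMul_one]

theorem ompa1_Mv_mul {g g' : Matrix.SpecialLinearGroup ι F} {a b c d e f : ι} (h : Mv g a b c d)
    (h' : Mv g' c d e f) : Mv (g' * g) a b e f := by
  rw [Mv_iff] at h h' ⊢
  exact ⟨ompa1_Mv1_mul h.1 h'.1, ompa1_Mv1_mul h.2 h'.2⟩

theorem ompa1_Mv_inv {g : Matrix.SpecialLinearGroup ι F} {a b c d : ι} (h : Mv g a b c d) : Mv g⁻¹ c d a b := by
  rw [Mv_iff] at h ⊢
  exact ⟨ompa1_Mv1_inv h.1, ompa1_Mv1_inv h.2⟩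

/-- A1 [S-M]  `yy` does not depend on the chosen `g`. -/
theorem yy_eq (p : Pts ι) (Φ : Matrix.SpecialLinearGroup ι F →* G) (y : G)
    (hB : ∀ g : Matrix.SpecialLinearGroup ι F, Mv g p.o0 p.o1 p.o0 p.o1 → Commute y (Φ g))
    (g : Matrix.SpecialLinearGroup ι F) (i j : ι) (hg : Mv g p.o0 p.o1 i j) : Φ g * y * (Φ g)⁻¹ = yy p Φ y i j := by
  have h : ∃ g : Matrix.SpecialLinearGroup ι F, Mv g p.o0 p.o1 i j := ⟨g, hg⟩
  unfold yy
  rw [dif_pos h]
  have hg₀ : Mv h.choose p.o0 p.o1 i j := h.choose_spec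
  have hc : Commute y (Φ (h.choose⁻¹ * g)) := hB _ (ompa1_Mv_mul hg (ompa1_Mv_inv hg₀))
  have e : Φ g = Φ h.choose * Φ (h.choose⁻¹ * g) := by
    rw [← map_mul, mul_inv_cancel_left]
  rw [e, _root_.mul_inv_rev, mul_assoc (Φ h.choose), ← hc.eq]
  group

end A

end Cfsg.Agent.Lib.helper17.OMP
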