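import Cfsg.Agent.Lib.helper7.SAP.Defs

/-!
Project SAP row ALT1: the 3-cycles `c3 y s t` (action, conjugation, inverse).
-/

namespace Cfsg.Agent.Lib.helper7.SAP

open Equiv

universe u

/-- ALT1 [S]: action and conjugation of `c3`. -/
theorem c3_apply {α : Type*} [DecidableEq α] (y s t : α) (hys : y ≠ s) (hyt : y ≠ t) (hst : s ≠ t) :
    c3 y s t y = s ∧ c3 y s t s = t ∧ c3 y s t t = y ∧ ∀ w, w ≠ y → w ≠ s → w ≠ t → c3 y s t w = w := by
  unfold c3
  refine ⟨?_, ?_, ?_, ?_⟩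
  · rw [Perm.mul_apply, swap_apply_of_ne_of_ne hys hyt, swap_apply_left]
  · rw [Perm.mul_apply, swap_apply_left, swap_apply_of_ne_of_ne hyt.symm hst.symm]
  · rw [Perm.mul_apply, swap_apply_right, swap_apply_right]
  · intro w h1 h2 h3
    rw [Perm.mul_apply, swap_apply_of_ne_of_ne h2 h3, swap_apply_of_ne_of_ne h1 h2]

theorem c3_conj {α : Type*} [DecidableEq α] (σ : Perm α) (y s t : α) :
    σ * c3 y s t * σ⁻¹ = c3 (σ y) (σ s) (σ t) := by
  unfold c3
  rw [swap_apply_apply, swap_apply_apply]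
  group

theorem c3_inv {α : Type*} [DecidableEq α] (y s t : α) (hys : y ≠ s) (hyt : y ≠ t) (hst : s ≠ t) :
    (c3 y s t)⁻¹ = c3 y t s := by
  obtain ⟨a1, a2, a3, a4⟩ := c3_apply y s t hys hyt hst
  obtain ⟨b1, b2, b3, b4⟩ := c3_apply y t s hyt hys hst.symm
  apply inv_eq_of_mul_eq_one_right
  ext w
  rw [Perm.mul_apply, Perm.one_apply]
  by_cases h1 : w = y
  · subst h1; rw [b1, a3]
  by_cases h2 : w = s
  · subst h2; rw [b3, a1]
  by_cases h3 : w = t
  · subst h3; rw [b2, a2]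
  rw [b4 w h1 h3 h2, a4 w h1 h2 h3]

end Cfsg.Agent.Lib.helper7.SAP
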