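import Cfsg.Agent.Lib.helper7.SAP.Defs
import Cfsg.Agent.Lib.Helper22.SAPALT1

/-!
Project SAP row ALT2: Carmichael's relations and the sign of the 3-cycles `c3 y s t`.
-/

namespace Cfsg.Agent.Lib.helper7.SAP

open Equiv

universe u

/-- ALT2 [S-M]: Carmichael's relations hold for the `c3 y s t`. -/
theorem c3_carRel {α : Type*} [DecidableEq α] (s t : α) (hst : s ≠ t) :
    CarRel (fun y : {y : α // y ≠ s ∧ y ≠ t} => c3 (y : α) s t) := by
  refine ⟨?_, ?_⟩
  · rintro ⟨y, hys, hyt⟩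
    obtain ⟨a1, a2, a3, a4⟩ := c3_apply y s t hys hyt hst
    ext w
    simp only [pow_succ, pow_zero, one_mul, Perm.mul_apply, Perm.one_apply]
    by_cases h1 : w = y
    · subst h1; rw [a1, a2, a3]
    by_cases h2 : w = s
    · subst h2; rw [a2, a3, a1]
    by_cases h3 : w = t
    · subst h3; rw [a3, a1, a2]
    rw [a4 w h1 h2 h3, a4 w h1 h2 h3, a4 w h1 h2 h3]
  · rintro ⟨y, hys, hyt⟩ ⟨y', hys', hyt'⟩ hne
    have hyy : y ≠ y' := fun h => hne (Subtype.ext h)
    obtain ⟨a1, a2, a3, a4⟩ := c3_apply y s t hys hyt hst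
    obtain ⟨b1, b2, b3, b4⟩ := c3_apply y' s t hys' hyt' hst
    ext w
    simp only [pow_succ, pow_zero, one_mul, Perm.mul_apply, Perm.one_apply]
    by_cases h1 : w = y
    · subst h1
      rw [b4 w hyy hys hyt, a1, b2, a3]
    by_cases h1' : w = y'
    · subst h1'
      rw [b1, a2, b3, a4 w (Ne.symm hyy) hys' hyt']
    by_cases h2 : w = s
    · subst h2
      rw [b2, a3, b4 y hyy hys hyt, a1]
    by_cases h3 : w = t
    · subst h3
      rw [b3, a4 y' (Ne.symm hyy) hys' hyt', b1, a2]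
    rw [b4 w h1' h2 h3, a4 w h1 h2 h3, b4 w h1' h2 h3, a4 w h1 h2 h3]

theorem c3_sign {α : Type*} [DecidableEq α] [Fintype α] (y s t : α) (hys : y ≠ s) (hst : s ≠ t) :
    Perm.sign (c3 y s t) = 1 := by
  unfold c3
  rw [map_mul, Perm.sign_swap hys, Perm.sign_swap hst]
  rfl

end Cfsg.Agent.Lib.helper7.SAP
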