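import Mathlib
import Cfsg.Agent.Lib.Helper1.SLN.Defs
import Cfsg.Agent.Lib.Helper21.PresQuot

/-!
# SLN F7 (designer helper1, project SLN for S2290): `psl_pres`

`PSL_n(F)` from a presentation of `SL_n(F)` with one more relator.  Proved directly from helper21's
`PresQuot.quot_one_relator` (on main) and an own copy of F6 (`slnf7_center_gen`: the centre of
`SL_n(F)` is the normal closure of one element), so no row of the project is cited.
-/

set_option autoImplicit false

namespace Cfsg.Agent.Lib.Helper1.SLN

open Matrix Equiv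

universe u v

section FF

variable {F : Type u} [Field F]

/-- own copy of F6 (no finiteness needed): the centre of `SL_n(F)`, `n > 0`, is the normal closure of one element. -/
theorem slnf7_center_gen (n : ℕ) (hn : 0 < n) :
    ∃ z : Matrix.SpecialLinearGroup (Fin n) F,
      Subgroup.normalClosure ({z} : Set (Matrix.SpecialLinearGroup (Fin n) F)) =
        Subgroup.center (Matrix.SpecialLinearGroup (Fin n) F) := by
  have : NeZero n := ⟨hn.ne'⟩
  have : NeZero (Fintype.card (Fin n)) := by rw [Fintype.card_fin]; infer_instance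
  let eq := Matrix.SpecialLinearGroup.center_equiv_rootsOfUnity' (R := F) (⟨0, hn⟩ : Fin n)
  have : IsCyclic (rootsOfUnity (Fintype.card (Fin n)) F) := rootsOfUnity.isCyclic F _
  have : IsCyclic (Subgroup.center (Matrix.SpecialLinearGroup (Fin n) F)) :=
    isCyclic_of_surjective eq.symm eq.symm.surjective
  obtain ⟨g, hg⟩ := IsCyclic.exists_generator
    (α := Subgroup.center (Matrix.SpecialLinearGroup (Fin n) F))
  refine ⟨g.1, le_antisymm ?_ ?_⟩
  · apply Subgroup.normalClosure_le_normal
    intro y hy
    rw [Set.mem_singleton_iff] at hy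
    rw [hy]
    exact g.2
  · intro x hx
    obtain ⟨k, hk⟩ := Subgroup.mem_zpowers_iff.mp (hg ⟨x, hx⟩)
    have hx' : x = g.1 ^ k := by
      have := congrArg Subtype.val hk
      simpa using this.symm
    rw [hx']
    exact Subgroup.zpow_mem _ (Subgroup.subset_normalClosure (Set.mem_singleton _)) k

/-- F7 [S]  deps F5 F6.  `Matrix.ProjectiveSpecialLinearGroup (Fin n) F` is `SL ⧸ center` by definition; `QuotientGroup.quotientMulEquivOfEq`. -/
theorem psl_pres [Fintype F] (n : ℕ) (hn : 0 < n) {k : ℕ} (R : Finset (FreeGroup (Fin k)))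
    (e : PresentedGroup (↑R : Set (FreeGroup (Fin k))) ≃* Matrix.SpecialLinearGroup (Fin n) F) :
    ∃ rels : Finset (FreeGroup (Fin k)), rels.card ≤ R.card + 1 ∧
      Nonempty (PresentedGroup (↑rels : Set (FreeGroup (Fin k))) ≃*
        Matrix.ProjectiveSpecialLinearGroup (Fin n) F) := by
  obtain ⟨z, hz⟩ := slnf7_center_gen (F := F) n hn
  obtain ⟨rels, hc, e', _⟩ := Cfsg.Agent.Lib.Helper21.PresQuot.quot_one_relator R e
    (Subgroup.center (Matrix.SpecialLinearGroup (Fin n) F)) z hz.symm
  exact ⟨rels, hc, ⟨e'⟩⟩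

end FF

end Cfsg.Agent.Lib.Helper1.SLN
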