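import Mathlib
import Cfsg.Agent.Lib.helper17.SLP.Defs
import Cfsg.Agent.Lib.helper17.SL3.Defs

set_option autoImplicit false

namespace Cfsg.Agent.Lib.helper17.SL3

open Cfsg.Agent.Lib.helper17.SLP
open Polynomial

universe u v

/-- conjugating a commuting pair -/
theorem sl3a1_commute_conj {G : Type*} [Group G] (a b d : G) (h : Commute a (d⁻¹ * b * d)) :
    Commute (d * a * d⁻¹) b := by
  have h1 : a * (d⁻¹ * b * d) = (d⁻¹ * b * d) * a := h
  show d * a * d⁻¹ * b = b * (d * a * d⁻¹)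
  have h2 : d * (a * (d⁻¹ * b * d)) * d⁻¹ = d * ((d⁻¹ * b * d) * a) * d⁻¹ := by rw [h1]
  simpa [mul_assoc] using h2

theorem a2_of_rel {G : Type*} [Group G] (u d w c : G) (hRu : relRu u w c = 1)
    (hR2 : relR2 u d w c = 1) (hR3 : relR3 u d w c = 1) : Commute u (cj d u 1) := by
  rw [cj_one]
  have h2 : Commute (d * u * d⁻¹) (r02 u w c) :=
    sl3a1_commute_conj u (r02 u w c) d ((cm_eq_one_iff _ _).mp hR2)
  have h3 : Commute (d * u * d⁻¹) (r21 u w c) :=
    sl3a1_commute_conj u (r21 u w c) d ((cm_eq_one_iff _ _).mp hR3)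
  have hu : u = cm (r02 u w c) (r21 u w c) := by
    unfold relRu at hRu
    exact (mul_inv_eq_one.mp hRu).symm
  have h4 : Commute (d * u * d⁻¹) (cm (r02 u w c) (r21 u w c)) := by
    unfold cm
    exact ((h2.mul_right h3).mul_right h2.inv_right).mul_right h3.inv_right
  rw [← hu] at h4
  exact h4.symm

end Cfsg.Agent.Lib.helper17.SL3
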