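import Mathlib
import Cfsg.Agent.Lib.Helper1.SLN.Defs
import Cfsg.Agent.Lib.Lead.SLn

/-!
# SL7 G7 core (designer helper1, Skel `Helper1/SLN/Skel.lean.txt`, for S2290): `gX_gen`

The root maps generate `closure (range α ∪ range β)`.  The cited rows P4 (`normalClosure_c3`), G3 (`gX_frame`),
G6 (`gX_conj`) enter as hypotheses with their exact statements; the verbatim wrapper is
`gX_gen M α β H := sl7g7_core M α β H (normalClosure_c3 M) (gX_frame M α β H) (gX_conj M α β H)`.
-/

set_option autoImplicit false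

namespace Cfsg.Agent.Lib.Helper1.SLN

open Matrix Equiv

universe u v

section G

variable {F : Type u} [Field F] {G : Type v} [Group G]

theorem sl7g7_core (M : ℕ) (α : alternatingGroup (Fin (M + 4)) →* G)
    (β : Matrix.SpecialLinearGroup (Fin 3) F →* G) (H : Glue M α β)
    (hP4 : Subgroup.normalClosure ({c3 M} : Set (alternatingGroup (Fin (M + 4)))) = ⊤)
    (hG3 : ∀ (σ : alternatingGroup (Fin (M + 4))) (a b : Fin 3) (hab : a ≠ b) (t : F),
      gX M α β ((σ : Equiv.Perm (Fin (M + 4))) (inc M a)) ((σ : Equiv.Perm (Fin (M + 4))) (inc M b)) t =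
        α σ * β (Matrix.SpecialLinearGroup.transvection hab t) * (α σ)⁻¹)
    (hG6 : ∀ (π : alternatingGroup (Fin (M + 4))) (i j : Fin (M + 4)) (_hij : i ≠ j) (t : F),
      α π * gX M α β i j t * (α π)⁻¹ =
        gX M α β ((π : Equiv.Perm (Fin (M + 4))) i) ((π : Equiv.Perm (Fin (M + 4))) j) t) :
    Subgroup.closure (Set.range α ∪ Set.range β) ≤
      Subgroup.closure {g : G | ∃ (i j : Fin (M + 4)) (t : F), i ≠ j ∧ g = gX M α β i j t} := by
  set K : Subgroup G :=
    Subgroup.closure {g : G | ∃ (i j : Fin (M + 4)) (t : F), i ≠ j ∧ g = gX M α β i j t} with hK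
  -- (a) the image of `β`
  have hβ : ∀ A : Matrix.SpecialLinearGroup (Fin 3) F, β A ∈ K := by
    intro A
    refine Cfsg.Agent.Lib.Lead.SL_transvection_induction (fun A => β A ∈ K) ?_ ?_ A
    · intro a b hab t
      have h := hG3 1 a b hab t
      rw [map_one, one_mul, inv_one, mul_one] at h
      show β (Matrix.SpecialLinearGroup.transvection hab t) ∈ K
      rw [← h]
      apply Subgroup.subset_closure
      refine ⟨_, _, t, ?_, rfl⟩
      simp only [OneMemClass.coe_one, Equiv.Perm.coe_one, id_eq]
      exact fun e => hab (inc_injective M e)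
    · intro A B hA hB
      show β (A * B) ∈ K
      rw [map_mul]
      exact K.mul_mem hA hB
  -- (b) `α π` normalises `K`
  have hnorm : ∀ (π : alternatingGroup (Fin (M + 4))) (k : G), k ∈ K → α π * k * (α π)⁻¹ ∈ K := by
    intro π k hk
    induction hk using Subgroup.closure_induction with
    | mem x hx =>
      obtain ⟨i, j, t, hij, rfl⟩ := hx
      rw [hG6 π i j hij t]
      apply Subgroup.subset_closure
      exact ⟨_, _, t, fun e => hij ((π : Equiv.Perm (Fin (M + 4))).injective e), rfl⟩
    | one => simp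
    | mul x y _ _ hx hy =>
      have : α π * (x * y) * (α π)⁻¹ = (α π * x * (α π)⁻¹) * (α π * y * (α π)⁻¹) := by group
      rw [this]
      exact K.mul_mem hx hy
    | inv x _ hx =>
      have : α π * x⁻¹ * (α π)⁻¹ = (α π * x * (α π)⁻¹)⁻¹ := by group
      rw [this]
      exact K.inv_mem hx
  -- (c) the image of `α`
  have hNn : (K.comap α).Normal := by
    constructor
    intro n hn π
    rw [Subgroup.mem_comap] at hn ⊢
    rw [map_mul, map_mul, map_inv]
    exact hnorm π _ hn
  have hc3 : c3 M ∈ K.comap α := by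
    rw [Subgroup.mem_comap, H.g2]
    exact hβ _
  have hle : Subgroup.normalClosure ({c3 M} : Set (alternatingGroup (Fin (M + 4)))) ≤ K.comap α := by
    apply Subgroup.normalClosure_le_normal
    intro x hx
    rw [Set.mem_singleton_iff] at hx
    rw [hx]
    exact hc3
  rw [hP4] at hle
  have hα : ∀ σ : alternatingGroup (Fin (M + 4)), α σ ∈ K := fun σ => hle (Subgroup.mem_top σ)
  rw [Subgroup.closure_le]
  rintro x (⟨σ, rfl⟩ | ⟨A, rfl⟩)
  · exact hα σ
  · exact hβ A

end G

end Cfsg.Agent.Lib.Helper1.SLN
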