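import Mathlib
import Cfsg.Agent.Lib.Helper1.SLN.Defs
import Cfsg.Agent.Lib.Helper22.SL7G7core
import Cfsg.Agent.Lib.Helper11.SLNP4
import Cfsg.Agent.Lib.Helper16.SLNG3
import Cfsg.Agent.Lib.Helper29.SL7G6

/-!
# SL7 G7 (designer helper1, Skel `Helper1/SLN/Skel.lean.txt`, for S2290): `gX_gen`, verbatim wrapper of `sl7g7_core`
on P4 (`Helper11.SLNP4`), G3 (`Helper16.SLNG3`), G6 (`Helper29.SL7G6`).
-/

set_option autoImplicit false

namespace Cfsg.Agent.Lib.Helper1.SLN

open Matrix Equiv

universe u v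

section G

variable {F : Type u} [Field F] {G : Type v} [Group G]

/-- G7 [M]  deps P4 G3 G6.  `K` := the right side.  `β A ∈ K`: transvection induction on `A : SL₃(F)` (`Lead.SL_transvection_induction`), G3 with `σ = 1`.  `α σ ∈ K`: `N := K.comap α` contains `c3 M`
(`H.g2`) and is normal in `A_(M+4)` because `α π` normalises `K` (G6 on the generators; `Subgroup.closure_induction`); `Subgroup.normalClosure_le_normal` and P4. -/
theorem gX_gen (M : ℕ) (α : alternatingGroup (Fin (M + 4)) →* G)
    (β : Matrix.SpecialLinearGroup (Fin 3) F →* G) (H : Glue M α β) :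
    Subgroup.closure (Set.range α ∪ Set.range β) ≤
      Subgroup.closure {g : G | ∃ (i j : Fin (M + 4)) (t : F), i ≠ j ∧ g = gX M α β i j t} :=
  sl7g7_core M α β H (normalClosure_c3 M) (gX_frame M α β H) (gX_conj M α β H)

end G

end Cfsg.Agent.Lib.Helper1.SLN
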