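import Mathlib
import Cfsg.Agent.Lib.Helper1.SLN.Defs

/-!
# SL7 G8 core (designer helper1, Skel `Helper1/SLN/Skel.lean.txt`, for S2290): `glue_hom`

`SL_(M+4)(F)` maps onto a glued group.  The cited rows S1 (`st_hom`, at `n = M + 4`), G5 (`gX_sys`), G7 (`gX_gen`) enter as
hypotheses with their exact statements; the verbatim wrapper is
`glue_hom M α β H hgen := sl7g8_core M α β H hgen (fun X HX => st_hom (by omega) X HX) (gX_sys M α β H) (gX_gen M α β H)`.
-/

set_option autoImplicit false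

namespace Cfsg.Agent.Lib.Helper1.SLN

open Matrix Equiv

universe u v

section G

variable {F : Type u} [Field F] {G : Type v} [Group G]

theorem sl7g8_core (M : ℕ) (α : alternatingGroup (Fin (M + 4)) →* G)
    (β : Matrix.SpecialLinearGroup (Fin 3) F →* G) (_H : Glue M α β)
    (hgen : Subgroup.closure (Set.range α ∪ Set.range β) = ⊤)
    (hS1 : ∀ (X : Fin (M + 4) → Fin (M + 4) → F → G), StSys X →
      ∃ Φ : Matrix.SpecialLinearGroup (Fin (M + 4)) F →* G, ∀ (i j : Fin (M + 4)) (h : i ≠ j) (t : F),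
        Φ (Matrix.SpecialLinearGroup.transvection h t) = X i j t)
    (hG5 : StSys (gX M α β))
    (hG7 : Subgroup.closure (Set.range α ∪ Set.range β) ≤
      Subgroup.closure {g : G | ∃ (i j : Fin (M + 4)) (t : F), i ≠ j ∧ g = gX M α β i j t}) :
    ∃ Φ : Matrix.SpecialLinearGroup (Fin (M + 4)) F →* G, Function.Surjective Φ := by
  obtain ⟨Φ, hΦ⟩ := hS1 (gX M α β) hG5
  refine ⟨Φ, ?_⟩
  rw [← MonoidHom.range_eq_top, eq_top_iff, ← hgen]
  refine hG7.trans ?_
  rw [Subgroup.closure_le]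
  rintro g ⟨i, j, t, hij, rfl⟩
  exact ⟨_, hΦ i j hij t⟩

end G

end Cfsg.Agent.Lib.Helper1.SLN
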