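import Mathlib
import Cfsg.Agent.Lib.Helper1.SLN.Defs
import Cfsg.Agent.Lib.Helper22.SL7G8core
import Cfsg.Agent.Lib.Helper22.SL7G7
import Cfsg.Agent.Lib.Helper12.SL7S1
import Cfsg.Agent.Lib.Helper29.SL7G5

/-!
# SL7 G8 (designer helper1, Skel `Helper1/SLN/Skel.lean.txt`, for S2290): `glue_hom`, verbatim wrapper of `sl7g8_core`
on S1 (`Helper12.SL7S1`), G5 (`Helper29.SL7G5`), G7 (`Helper22.SL7G7`).
-/

set_option autoImplicit false

namespace Cfsg.Agent.Lib.Helper1.SLN

open Matrix Equiv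

universe u v

section G

variable {F : Type u} [Field F] {G : Type v} [Group G]

/-- G8 [S-M]  deps S1 G5 G7.  `Φ` from S1 (`n = M + 4 ≥ 3`); its range contains every `gX i j t`, hence (G7, `hgen`) everything. -/
theorem glue_hom [Finite F] (M : ℕ) (α : alternatingGroup (Fin (M + 4)) →* G)
    (β : Matrix.SpecialLinearGroup (Fin 3) F →* G) (H : Glue M α β)
    (hgen : Subgroup.closure (Set.range α ∪ Set.range β) = ⊤) :
    ∃ Φ : Matrix.SpecialLinearGroup (Fin (M + 4)) F →* G, Function.Surjective Φ :=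
  sl7g8_core M α β H hgen (fun X HX => st_hom (by omega) X HX) (gX_sys M α β H) (gX_gen M α β H)

end G

end Cfsg.Agent.Lib.Helper1.SLN
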