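import Mathlib
import Cfsg.Agent.Lib.Helper1.SLN.Defs
import Cfsg.Agent.Lib.Helper1.SLN.Defs2

/-!
# Project SL7 (designer helper1), skeleton 2, row Z0b: `ν * c3 * ν⁻¹ = c3⁻¹`.
-/

set_option autoImplicit false

namespace Cfsg.Agent.Lib.Helper1.SLN

open Matrix Equiv

/-- the inverse of the 3-cycle `a ↦ b ↦ c ↦ a` written as a product of two transpositions. -/
theorem sl7z0b_three {α : Type*} [DecidableEq α] (a b c : α) (hab : a ≠ b) (hbc : b ≠ c) (hac : a ≠ c) :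
    Equiv.swap b a * Equiv.swap a c = (Equiv.swap a b * Equiv.swap b c)⁻¹ := by
  rw [_root_.mul_inv_rev, Equiv.swap_inv, Equiv.swap_inv]
  ext x
  simp only [Equiv.Perm.mul_apply]
  by_cases hxa : x = a
  · subst hxa
    rw [Equiv.swap_apply_left, Equiv.swap_apply_of_ne_of_ne hbc.symm hac.symm,
      Equiv.swap_apply_left, Equiv.swap_apply_left]
  by_cases hxb : x = b
  · subst hxb
    rw [Equiv.swap_apply_of_ne_of_ne hab.symm hbc, Equiv.swap_apply_left,
      Equiv.swap_apply_right, Equiv.swap_apply_of_ne_of_ne hab hac]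
  by_cases hxc : x = c
  · subst hxc
    rw [Equiv.swap_apply_right, Equiv.swap_apply_right,
      Equiv.swap_apply_of_ne_of_ne hac.symm hbc.symm, Equiv.swap_apply_right]
  rw [Equiv.swap_apply_of_ne_of_ne hxa hxc, Equiv.swap_apply_of_ne_of_ne hxb hxa,
    Equiv.swap_apply_of_ne_of_ne hxa hxb, Equiv.swap_apply_of_ne_of_ne hxb hxc]

/-- Z0b [S-M]  `Subtype.ext`, `Equiv.ext`: `c3` is `0 ↦ 1 ↦ 2 ↦ 0` and fixes the other points, `ν` maps `{0, 1, 2}` to itself (`h0 h1 h2`), so both sides agree on `0, 1, 2` and fix the rest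
(`Equiv.swap_apply_def`, `Equiv.Perm.inv_eq_iff_eq`). -/
theorem nu_conj_c3 (M : ℕ) (ν : alternatingGroup (Fin (M + 4)))
    (h0 : (ν : Equiv.Perm (Fin (M + 4))) (i0 M) = i1 M) (h1 : (ν : Equiv.Perm (Fin (M + 4))) (i1 M) = i0 M)
    (h2 : (ν : Equiv.Perm (Fin (M + 4))) (i2 M) = i2 M) : ν * c3 M * ν⁻¹ = (c3 M)⁻¹ := by
  apply Subtype.ext
  rw [Subgroup.coe_mul, Subgroup.coe_mul, Subgroup.coe_inv, Subgroup.coe_inv, c3_coe]
  have key : ∀ (π : Equiv.Perm (Fin (M + 4))) (a b c : Fin (M + 4)),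
      π * (Equiv.swap a b * Equiv.swap b c) * π⁻¹ = Equiv.swap (π a) (π b) * Equiv.swap (π b) (π c) := by
    intro π a b c
    rw [Equiv.swap_apply_apply, Equiv.swap_apply_apply]
    group
  rw [key, h0, h1, h2]
  exact sl7z0b_three (i0 M) (i1 M) (i2 M) (i01 M) (i12 M) (i02 M)

end Cfsg.Agent.Lib.Helper1.SLN
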