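import Cfsg.Agent.Lib.Helper1.SLK.Defs

set_option autoImplicit false

namespace Cfsg.Agent.Lib.Helper1.SLK

open Polynomial
open Cfsg.Agent.Lib.Helper29.GLK

universe u

theorem det_eq_det_sm {F : Type u} [Field F] {n : ℕ} (x : Matrix.GeneralLinearGroup (Fin n) F) :
    (x : Matrix (Fin n) (Fin n) F).det = LinearMap.det (sm (X : F[X]) (gMod x)) := by
  let e : gMod x ≃ₗ[F] (Fin n → F) :=
    (Module.AEval'.of (Matrix.toLin' (x : Matrix (Fin n) (Fin n) F))).symm
  have hconj : (e : gMod x →ₗ[F] (Fin n → F)) ∘ₗ (sm (X : F[X]) (gMod x)) ∘ₗ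
      (e.symm : (Fin n → F) →ₗ[F] gMod x) = Matrix.toLin' (x : Matrix (Fin n) (Fin n) F) := by
    refine LinearMap.ext fun v => ?_
    change (Module.AEval'.of (Matrix.toLin' (x : Matrix (Fin n) (Fin n) F))).symm
        ((X : F[X]) • (Module.AEval'.of (Matrix.toLin' (x : Matrix (Fin n) (Fin n) F)) v)) =
      Matrix.toLin' (x : Matrix (Fin n) (Fin n) F) v
    rw [Module.AEval'.of_symm_X_smul]
    simp
  rw [← LinearMap.det_conj (sm (X : F[X]) (gMod x)) e, hconj, LinearMap.det_toLin']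

end Cfsg.Agent.Lib.Helper1.SLK
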