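import Cfsg.Agent.Lib.Helper1.SLK.Defs
import Cfsg.Agent.Lib.Helper22.SLKA2

set_option autoImplicit false

namespace Cfsg.Agent.Lib.Helper1.SLK

open Polynomial
open Cfsg.Agent.Lib.Helper29.GLK

universe u

/-- componentwise multiplication by the constant family `a` is scalar multiplication by `a` -/
theorem slka4_dmul_const {F : Type u} [Field F] {ι : Type*} (g : ι → F[X]) (a : F[X])
    (y : DirectSum ι fun j => F[X] ⧸ Ideal.span {g j}) :
    dmul g (fun _ => a) y = a • y := by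
  refine DFinsupp.ext fun j => ?_
  unfold dmul
  rw [DirectSum.lmap_apply]
  rfl

/-- Row A4 (`det_decomp`) on the statements of rows A3 (`det_conj_dmul`), D3 (`norm_quot_pow`),
D4 (`norm_quot_X`). -/
theorem slka4_core {F : Type u} [Field F] [DecidableEq F] {n : ℕ}
    (x : Matrix.GeneralLinearGroup (Fin n) F) {ι : Type u} [Fintype ι]
    (hA3 : ∀ [DecidableEq ι] (g a : ι → F[X]) (_ : ∀ j, g j ≠ 0)
      (Φ : gMod x ≃ₗ[F[X]] DirectSum ι fun j => F[X] ⧸ Ideal.span {g j}),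
      LinearMap.det (((Φ.symm.toLinearMap ∘ₗ dmul g a) ∘ₗ Φ.toLinearMap).restrictScalars F) =
        ∏ j, Algebra.norm F (Ideal.Quotient.mk (Ideal.span {g j}) (a j)))
    (hD3 : ∀ (p a : F[X]) (_ : p ≠ 0) (e : ℕ),
      Algebra.norm F (Ideal.Quotient.mk (Ideal.span {p ^ e}) a) =
        Algebra.norm F (Ideal.Quotient.mk (Ideal.span {p}) a) ^ e)
    (hD4 : ∀ (p : F[X]) (_ : p ≠ 0),
      Algebra.norm F (Ideal.Quotient.mk (Ideal.span {p}) (X : F[X])) =
        (-1) ^ p.natDegree * (normalize p).coeff 0)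
    (p : ι → F[X]) (e : ι → ℕ)
    (hp : ∀ j, Irreducible (p j))
    (Φ : gMod x ≃ₗ[F[X]] DirectSum ι fun j => F[X] ⧸ Ideal.span {p j ^ e j}) :
    (x : Matrix (Fin n) (Fin n) F).det =
      ∏ j, ((-1) ^ (p j).natDegree * (normalize (p j)).coeff 0) ^ e j := by
  classical
  have hne : ∀ j, p j ≠ 0 := fun j => (hp j).ne_zero
  have hsm : sm (X : F[X]) (gMod x) =
      ((Φ.symm.toLinearMap ∘ₗ dmul (fun j => p j ^ e j) (fun _ => (X : F[X]))) ∘ₗ
        Φ.toLinearMap).restrictScalars F := by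
    refine LinearMap.ext fun m => ?_
    change (X : F[X]) • m = Φ.symm (dmul (fun j => p j ^ e j) (fun _ => (X : F[X])) (Φ m))
    rw [slka4_dmul_const, ← map_smul, LinearEquiv.symm_apply_apply]
  rw [det_eq_det_sm, hsm, hA3 (fun j => p j ^ e j) (fun _ => X) (fun j => pow_ne_zero _ (hne j)) Φ]
  refine Finset.prod_congr rfl fun j _ => ?_
  rw [hD3 (p j) X (hne j) (e j), hD4 (p j) (hne j)]

end Cfsg.Agent.Lib.Helper1.SLK
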