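import Cfsg.Agent.Lib.Helper1.SLK.Defs

set_option autoImplicit false

namespace Cfsg.Agent.Lib.Helper1.SLK

open Polynomial
open Cfsg.Agent.Lib.Helper29.GLK

universe u

theorem slka5_natDegree_normalize {F : Type u} [Field F] [DecidableEq F] (p : F[X]) :
    (normalize p).natDegree = p.natDegree := by
  unfold natDegree
  rw [degree_normalize]

theorem tdet_regroup {F : Type u} [Field F] [DecidableEq F] {n : ℕ} {ι : Type u} [Fintype ι]
    (p : ι → F[X]) (e : ι → ℕ) (G : ℕ → F[X]) (hp : ∀ j, p j ≠ 0)
    (he : ∀ j, e j ≠ 0 ∧ e j ≤ n)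
    (hG : ∀ i : ℕ, G i = ∏ j ∈ Finset.univ.filter (fun j => e j = i + 1), normalize (p j)) :
    ∏ j, ((-1) ^ (p j).natDegree * (normalize (p j)).coeff 0) ^ e j =
      tdet (fun i : Fin n => G i) := by
  classical
  unfold tdet
  -- the block-size map
  let g : ι → Fin n := fun j => ⟨e j - 1, by have := he j; omega⟩
  have hg : ∀ (j : ι) (i : Fin n), g j = i ↔ e j = (i : ℕ) + 1 := by
    intro j i
    have := he j
    simp only [g, Fin.ext_iff]
    omega
  rw [← Finset.prod_fiberwise Finset.univ g]
  refine Finset.prod_congr rfl fun i _ => ?_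
  have hfil : (Finset.univ.filter fun j => g j = i) =
      Finset.univ.filter (fun j => e j = (i : ℕ) + 1) := by
    ext j
    simp only [Finset.mem_filter, Finset.mem_univ, true_and]
    exact hg j i
  rw [hfil]
  simp only []
  rw [hG (i : ℕ)]
  have hmonic : ∀ j ∈ Finset.univ.filter (fun j => e j = (i : ℕ) + 1),
      (normalize (p j)).Monic := fun j _ => monic_normalize (hp j)
  rw [natDegree_prod_of_monic _ _ hmonic, coeff_zero_prod, ← Finset.prod_pow_eq_pow_sum,
    ← Finset.prod_mul_distrib, ← Finset.prod_pow]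
  refine Finset.prod_congr rfl fun j hj => ?_
  rw [Finset.mem_filter] at hj
  rw [hj.2, slka5_natDegree_normalize]

end Cfsg.Agent.Lib.Helper1.SLK
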