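import Cfsg.Agent.Lib.Helper1.SLK.Defs
import Cfsg.Agent.Lib.Helper13.SLKE6
import Cfsg.Agent.Lib.helper2.SLKG3

set_option autoImplicit false

namespace Cfsg.Agent.Lib.Helper1.SLK

open Polynomial
open Cfsg.Agent.Lib.Helper29.GLK

universe u

theorem tchi_fiber {F : Type u} [Field F] [Fintype F] {n : ℕ} (T : Fin n → F[X]) (ζ : Fˣ) :
    Nat.card {c : Fin n → Fˣ // tchi T c = ζ} * (Fintype.card F - 1) ≤
      (Fintype.card F - 1) ^ n * tg (Fintype.card F) T := by
  classical
  have hB : Nat.card Fˣ = Fintype.card F - 1 := by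
    rw [Nat.card_units, Nat.card_eq_fintype_card]
  have hA : Nat.card (Fin n → Fˣ) = (Fintype.card F - 1) ^ n := by
    rw [Nat.card_fun, hB, Nat.card_eq_fintype_card, Fintype.card_fin]
  have h1 := fiber_card_mul_le (tchi T) ζ
  rw [hB, hA] at h1
  have hq : 1 < Fintype.card F := Fintype.one_lt_card
  have htg : 0 < tg (Fintype.card F) T := by
    unfold tg
    exact Nat.gcd_pos_of_pos_right _ (by omega)
  have h2 : (tchi T).range.index ≤ tg (Fintype.card F) T :=
    Nat.le_of_dvd htg (tchi_range_index T)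
  exact h1.trans (Nat.mul_le_mul_left _ h2)

end Cfsg.Agent.Lib.Helper1.SLK
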