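import Cfsg.Agent.Lib.Helper1.SLK.Defs

set_option autoImplicit false

namespace Cfsg.Agent.Lib.Helper1.SLK

open Polynomial
open Cfsg.Agent.Lib.Helper29.GLK

universe u

theorem exists_gl_of_end {F : Type u} [Field F] {n : ℕ} (x : Matrix.GeneralLinearGroup (Fin n) F)
    (ψ : gMod x →ₗ[F[X]] gMod x) (c : Fˣ)
    (hψ : LinearMap.det (ψ.restrictScalars F) = (c : F)) :
    ∃ h : Matrix.GeneralLinearGroup (Fin n) F,
      Commute h x ∧ Matrix.GeneralLinearGroup.det h = c := by
  let e : gMod x ≃ₗ[F] (Fin n → F) :=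
    (Module.AEval'.of (Matrix.toLin' (x : Matrix (Fin n) (Fin n) F))).symm
  let L : (Fin n → F) →ₗ[F] (Fin n → F) :=
    (e : gMod x →ₗ[F] (Fin n → F)) ∘ₗ (ψ.restrictScalars F) ∘ₗ (e.symm : (Fin n → F) →ₗ[F] gMod x)
  have hdetL : LinearMap.det L = (c : F) := by
    rw [← hψ]
    exact LinearMap.det_conj (ψ.restrictScalars F) e
  have hL : ∀ v, L (Matrix.toLin' (x : Matrix (Fin n) (Fin n) F) v) =
      Matrix.toLin' (x : Matrix (Fin n) (Fin n) F) (L v) := by
    intro v
    change (Module.AEval'.of (Matrix.toLin' (x : Matrix (Fin n) (Fin n) F))).symm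
        (ψ (Module.AEval'.of (Matrix.toLin' (x : Matrix (Fin n) (Fin n) F))
          (Matrix.toLin' (x : Matrix (Fin n) (Fin n) F) v))) =
      Matrix.toLin' (x : Matrix (Fin n) (Fin n) F)
        ((Module.AEval'.of (Matrix.toLin' (x : Matrix (Fin n) (Fin n) F))).symm
          (ψ (Module.AEval'.of (Matrix.toLin' (x : Matrix (Fin n) (Fin n) F)) v)))
    rw [← Module.AEval'.X_smul_of, map_smul, Module.AEval'.of_symm_X_smul]
  have hcomp : L ∘ₗ Matrix.toLin' (x : Matrix (Fin n) (Fin n) F) =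
      Matrix.toLin' (x : Matrix (Fin n) (Fin n) F) ∘ₗ L := LinearMap.ext fun v => hL v
  have hdetP : (LinearMap.toMatrix' L).det = (c : F) := by
    rw [LinearMap.det_toMatrix', hdetL]
  have hPx : LinearMap.toMatrix' L * (x : Matrix (Fin n) (Fin n) F) =
      (x : Matrix (Fin n) (Fin n) F) * LinearMap.toMatrix' L := by
    have h1 : LinearMap.toMatrix' (L ∘ₗ Matrix.toLin' (x : Matrix (Fin n) (Fin n) F)) =
        LinearMap.toMatrix' L * (x : Matrix (Fin n) (Fin n) F) := by
      rw [LinearMap.toMatrix'_comp, LinearMap.toMatrix'_toLin']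
    have h2 : LinearMap.toMatrix' (Matrix.toLin' (x : Matrix (Fin n) (Fin n) F) ∘ₗ L) =
        (x : Matrix (Fin n) (Fin n) F) * LinearMap.toMatrix' L := by
      rw [LinearMap.toMatrix'_comp, LinearMap.toMatrix'_toLin']
    rw [← h1, ← h2, hcomp]
  have hne : (LinearMap.toMatrix' L).det ≠ 0 := by rw [hdetP]; exact c.ne_zero
  refine ⟨Matrix.GeneralLinearGroup.mkOfDetNeZero (LinearMap.toMatrix' L) hne, ?_, ?_⟩
  · apply Units.ext
    simpa using hPx
  · apply Units.ext
    rw [Matrix.GeneralLinearGroup.val_det_apply]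
    simpa using hdetP

end Cfsg.Agent.Lib.Helper1.SLK
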