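import Cfsg.Agent.Lib.Helper1.PLK.Defs

/-!
# Project PLK (S2480), row C2 (`fix_ncard_le_ubd`): core on the statements of rows C1 and T5.
-/

set_option autoImplicit false

namespace Cfsg.Agent.Lib.Helper1.PLK

open Polynomial
open Cfsg.Agent.Lib.Helper29.GLK
open Cfsg.Agent.Lib.Helper1.SLK

universe u

theorem plkc2_core {F : Type u} [Field F] [Fintype F] (n : ℕ) (hn : 1 ≤ n)
    (hC1 : ∀ [DecidableEq F] (z : Matrix.SpecialLinearGroup (Fin n) F)
      (_ : z ∈ Subgroup.center (Matrix.SpecialLinearGroup (Fin n) F)) (ζ : Fˣ)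
      (_ : (z : Matrix (Fin n) (Fin n) F) = (ζ : F) • (1 : Matrix (Fin n) (Fin n) F)),
      (czFix z).ncard ≤
        ∑ T ∈ (tupTw F n (orderOf ζ)).filter (fun T => tdet T = 1), tg (Fintype.card F) T)
    (hT5 : ∀ [DecidableEq F] (m : ℕ) (_ : m ≠ 0) (_ : m ∣ n),
      (Fintype.card F - 1) *
          ∑ T ∈ (tupTw F n m).filter (fun T => tdet T = 1), tg (Fintype.card F) T ≤
        (tupFin F (n / m)).card +
          ∑ d ∈ (Nat.divisors (Nat.gcd (n / m) (Fintype.card F - 1))).filter (fun d => 1 < d),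
            (d ^ 2 - 1) * (tupFin F (n / m / d)).card)
    (z : Matrix.SpecialLinearGroup (Fin n) F)
    (hz : z ∈ Subgroup.center (Matrix.SpecialLinearGroup (Fin n) F)) (ζ : Fˣ) (hζn : ζ ^ n = 1)
    (hζ : (z : Matrix (Fin n) (Fin n) F) = (ζ : F) • (1 : Matrix (Fin n) (Fin n) F)) :
    (czFix z).ncard ≤ ubd F (n / orderOf ζ) := by
  classical
  have hm0 : orderOf ζ ≠ 0 := (orderOf_pos ζ).ne'
  have hmn : orderOf ζ ∣ n := orderOf_dvd_of_pow_eq_one hζn
  have hq : 0 < Fintype.card F - 1 := by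
    have : 1 < Fintype.card F := Fintype.one_lt_card
    omega
  have h1 := hC1 z hz ζ hζ
  have h2 := hT5 (orderOf ζ) hm0 hmn
  unfold ubd ubdN
  rw [Nat.le_div_iff_mul_le hq]
  calc (czFix z).ncard * (Fintype.card F - 1)
      ≤ (∑ T ∈ (tupTw F n (orderOf ζ)).filter (fun T => tdet T = 1), tg (Fintype.card F) T) *
          (Fintype.card F - 1) := Nat.mul_le_mul_right _ h1
    _ = (Fintype.card F - 1) *
          ∑ T ∈ (tupTw F n (orderOf ζ)).filter (fun T => tdet T = 1), tg (Fintype.card F) T :=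
        Nat.mul_comm _ _
    _ ≤ _ := h2

end Cfsg.Agent.Lib.Helper1.PLK
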