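import Mathlib
import Cfsg.Prelude.Def_Characters
import Cfsg.Agent.Lib.helper7.PM2.Defs
import Cfsg.Agent.Lib.Helper25.PM2ROOTS1

/-!
# Project PM2 (S4705), piece AGR : cores (the lower pieces UNIQ, POW, SI1, TI1, SINGVAL, BAS as hypotheses) (helper22)
-/

set_option autoImplicit false
set_option linter.unusedVariables false
set_option linter.unusedSectionVars false

namespace Cfsg.Agent.Lib.helper7.PM2

open scoped ComplexConjugate

universe u

section setting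

variable {G : Type u} [Group G] [Fintype G] {p : ℕ} {ζ : G → ℂ} {x : G} {ω : ℂ}

/-- `ω^a + ω^-a` depends only on `± a mod p` -/
theorem pm2agr_root_eq (hω : IsPrimitiveRoot ω p) (a b : ℕ)
    (h : a ≡ b [MOD p] ∨ a + b ≡ 0 [MOD p]) : ω ^ a + ω⁻¹ ^ a = ω ^ b + ω⁻¹ ^ b := by
  have hpow : ∀ c d : ℕ, c ≡ d [MOD p] → ω ^ c = ω ^ d := by
    intro c d hcd
    rw [← pow_mod_orderOf ω c, ← pow_mod_orderOf ω d, ← hω.eq_orderOf]
    exact congrArg _ hcd
  have hinv : ∀ c : ℕ, ω⁻¹ ^ c = (ω ^ c)⁻¹ := fun c => inv_pow ω c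
  rcases h with h | h
  · rw [hinv, hinv, hpow a b h]
  · have h1 : ω ^ a * ω ^ b = 1 := by
      rw [← pow_add, hpow (a + b) 0 h, pow_zero]
    have h2 : (ω ^ a)⁻¹ = ω ^ b := by
      rw [inv_eq_iff_eq_inv]
      exact eq_inv_of_mul_eq_one_left h1
    have h3 : (ω ^ b)⁻¹ = ω ^ a := inv_eq_of_mul_eq_one_left h1
    rw [hinv, hinv, h2, h3, add_comm]

/-- `p` divides `|G|` -/
theorem pm2agr_p_dvd (S : Setting p ζ x ω) : p ∣ Nat.card G := by
  rw [← S.ordx]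
  exact orderOf_dvd_natCard x

/-- a number prime to `|G|` is prime to `p` -/
theorem pm2agr_not_dvd (S : Setting p ζ x ω) (k : ℕ) (hk : Nat.Coprime k (Nat.card G)) : ¬ p ∣ k := by
  intro h
  have h1 : p ∣ Nat.gcd k (Nat.card G) := Nat.dvd_gcd h (pm2agr_p_dvd S)
  rw [hk] at h1
  exact S.hp.one_lt.ne' (Nat.dvd_one.mp h1)

/-- AGR, core -/
theorem pm2agr_eq_core (S : Setting p ζ x ω)
    (hUNIQ : ∀ {χ χ' : G → ℂ}, Cfsg.IsIrrCharacter G χ → Cfsg.IsIrrCharacter G χ' →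
      ∀ T : Finset G, (∀ g ∈ T, χ g = χ' g) →
      (Nat.card G : ℝ) / 2 < ∑ g ∈ T, ‖χ g‖ ^ 2 → χ = χ')
    (hirr : ∀ k : ℕ, Nat.Coprime k (Nat.card G) → Cfsg.IsIrrCharacter G (pw ζ k))
    (hcl : ∀ k : ℕ, Cfsg.IsClassFunction G (pw ζ k))
    (hSI1 : ∀ k k' : ℕ, ¬ p ∣ k → ¬ p ∣ k' → k ≡ k' [MOD Nat.card (Subgroup.center G)] →
      ∑ g ∈ sing p G, pw ζ k g * conj (pw ζ k' g) =
        (Nat.card G : ℂ) * ((if k ≡ k' [MOD p] ∨ k + k' ≡ 0 [MOD p] then 1 else 0) - 2 / (p : ℂ)))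
    (hTI1 : ∀ g : G, p ∣ orderOf g →
      ∃ h : G, ∃ m ∈ Finset.Ico 1 p, ∃ c ∈ Subgroup.center G, g = h * (x ^ m * c) * h⁻¹)
    (hval : ∀ k : ℕ, ¬ p ∣ k → ∀ m : ℕ, ¬ p ∣ m → ∀ {c : G}, c ∈ Subgroup.center G →
      pw ζ k (x ^ m * c) = -(ω ^ (k * m) + ω⁻¹ ^ (k * m)) * nu ζ c ^ k)
    (hnupow : ∀ {c : G}, c ∈ Subgroup.center G → ∀ k : ℕ, nu ζ (c ^ k) = nu ζ c ^ k)
    (hnu1 : nu ζ 1 = 1)
    (k k' : ℕ) (hk : Nat.Coprime k (Nat.card G))
    (hk' : Nat.Coprime k' (Nat.card G)) (hp : k ≡ k' [MOD p] ∨ k + k' ≡ 0 [MOD p])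
    (ho : k ≡ k' [MOD Nat.card (Subgroup.center G)]) : pw ζ k = pw ζ k' := by
  have hpk := pm2agr_not_dvd S k hk
  have hpk' := pm2agr_not_dvd S k' hk'
  have hp5 := S.hp5
  -- `ν(c)^k` only depends on `k mod o`
  have hnu : ∀ {c : G}, c ∈ Subgroup.center G → nu ζ c ^ k = nu ζ c ^ k' := by
    intro c hc
    have hco : c ^ Nat.card (Subgroup.center G) = 1 := by
      have h1 : (⟨c, hc⟩ : Subgroup.center G) ^ Nat.card (Subgroup.center G) = 1 := pow_card_eq_one'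
      have h2 := congrArg Subtype.val h1
      rw [Subgroup.coe_pow, Subgroup.coe_one] at h2
      exact h2
    have hone : nu ζ c ^ Nat.card (Subgroup.center G) = 1 := by
      rw [← hnupow hc, hco, hnu1]
    have hmod : ∀ j : ℕ, nu ζ c ^ j = nu ζ c ^ (j % Nat.card (Subgroup.center G)) := by
      intro j
      conv_lhs => rw [← Nat.div_add_mod j (Nat.card (Subgroup.center G)), pow_add, pow_mul, hone,
        one_pow, one_mul]
    rw [hmod k, hmod k', ho]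
  -- agreement on the singular elements
  have hagree : ∀ g ∈ sing p G, pw ζ k g = pw ζ k' g := by
    intro g hg
    rw [mem_sing] at hg
    obtain ⟨h, m, hm, c, hc, rfl⟩ := hTI1 g hg
    rw [hcl k, hcl k']
    have hpm : ¬ p ∣ m := by
      rw [Finset.mem_Ico] at hm
      intro hd
      have := Nat.le_of_dvd (by omega) hd
      omega
    rw [hval k hpk m hpm hc, hval k' hpk' m hpm hc, hnu hc]
    congr 2
    apply pm2agr_root_eq S.prim
    rcases hp with h1 | h1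
    · left
      exact Nat.ModEq.mul_right m h1
    · right
      have := Nat.ModEq.mul_right m h1
      rw [zero_mul, add_mul] at this
      exact this
  -- more than half of the norm
  have hbig : (Nat.card G : ℝ) / 2 < ∑ g ∈ sing p G, ‖pw ζ k g‖ ^ 2 := by
    have h1 := hSI1 k k hpk hpk rfl
    rw [if_pos (Or.inl (Nat.ModEq.refl k))] at h1
    have h2 : ∑ g ∈ sing p G, pw ζ k g * conj (pw ζ k g) =
        ((∑ g ∈ sing p G, ‖pw ζ k g‖ ^ 2 : ℝ) : ℂ) := by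
      push_cast
      refine Finset.sum_congr rfl fun g _ => ?_
      rw [Complex.mul_conj, Complex.normSq_eq_norm_sq]
      push_cast
      rfl
    rw [h2] at h1
    have hpR : (5 : ℝ) < (p : ℝ) := by exact_mod_cast hp5
    have h3 : (Nat.card G : ℂ) * (1 - 2 / (p : ℂ)) =
        (((Nat.card G : ℝ) * (1 - 2 / (p : ℝ)) : ℝ) : ℂ) := by
      push_cast
      rfl
    rw [h3] at h1
    have h4 : ∑ g ∈ sing p G, ‖pw ζ k g‖ ^ 2 = (Nat.card G : ℝ) * (1 - 2 / (p : ℝ)) := by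
      exact_mod_cast h1
    rw [h4]
    have hn : (0 : ℝ) < (Nat.card G : ℝ) := by exact_mod_cast Nat.card_pos
    have h5 : (2 : ℝ) / (p : ℝ) < 1 / 2 := by
      rw [div_lt_div_iff₀ (by linarith) (by norm_num)]
      linarith
    nlinarith
  exact hUNIQ (hirr k hk) (hirr k' hk') (sing p G) hagree hbig

/-- AGR : the converse at `x`, core -/
theorem pm2agr_ne_core (S : Setting p ζ x ω)
    (hval : ∀ k : ℕ, ¬ p ∣ k → ∀ m : ℕ, ¬ p ∣ m → ∀ {c : G}, c ∈ Subgroup.center G →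
      pw ζ k (x ^ m * c) = -(ω ^ (k * m) + ω⁻¹ ^ (k * m)) * nu ζ c ^ k)
    (hnu1 : nu ζ 1 = 1)
    (k k' : ℕ) (hk : ¬ p ∣ k) (hk' : ¬ p ∣ k')
    (hp : ¬ (k ≡ k' [MOD p] ∨ k + k' ≡ 0 [MOD p])) : pw ζ k ≠ pw ζ k' := by
  intro heq
  apply hp
  have h1 : ¬ p ∣ 1 := fun h => S.hp.one_lt.ne' (Nat.dvd_one.mp h)
  have e1 := hval k hk 1 h1 (Subgroup.one_mem _)
  have e2 := hval k' hk' 1 h1 (Subgroup.one_mem _)
  rw [heq, e2, hnu1, one_pow, one_pow, mul_one, mul_one, mul_one, mul_one] at e1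
  exact root_pair_inj S.hp S.prim k k' (neg_injective e1).symm

/-- GI : Galois invariance, core -/
theorem pm2agr_gal_core (S : Setting p ζ x ω)
    (hEQ : ∀ k k' : ℕ, Nat.Coprime k (Nat.card G) → Nat.Coprime k' (Nat.card G) →
      (k ≡ k' [MOD p] ∨ k + k' ≡ 0 [MOD p]) → k ≡ k' [MOD Nat.card (Subgroup.center G)] →
      pw ζ k = pw ζ k')
    (u : ℕ) (hu : Nat.Coprime u (Nat.card G)) (hup : u ≡ 1 [MOD p])
    (huo : u ≡ 1 [MOD Nat.card (Subgroup.center G)]) (g : G) : ζ (g ^ u) = ζ g := by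
  have h1 := hEQ u 1 hu (Nat.coprime_one_left _) (Or.inl hup) huo
  have h2 := congrFun h1 g
  rw [pw_apply, pw_apply, pow_one] at h2
  exact h2

end setting

end Cfsg.Agent.Lib.helper7.PM2
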