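import Mathlib
import Cfsg.Prelude.Def_Characters
import Cfsg.Agent.Lib.helper7.PM2.Defs
import Cfsg.Agent.Lib.Helper22.PM2AGRcore
import Cfsg.Agent.Lib.Helper20.PM2UNIQ
import Cfsg.Agent.Lib.Helper20.PM2POW
import Cfsg.Agent.Lib.helper14.PM2TI1
import Cfsg.Agent.Lib.Helper9.PM2SI1
import Cfsg.Agent.Lib.helper23.PM2SINGVAL
import Cfsg.Agent.Lib.Helper19.PM2BAS
import Cfsg.Agent.Lib.Helper25.CharOrth

/-!
# Project PM2 (S4705), piece AGR : `pw_eq_of_cong`, `pw_ne_of_not_cong`, `gal_inv` (verbatim wrappers)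
-/

set_option autoImplicit false
set_option linter.unusedVariables false
set_option linter.unusedSectionVars false

namespace Cfsg.Agent.Lib.helper7.PM2

open scoped ComplexConjugate

universe u

section setting

variable {G : Type u} [Group G] [Fintype G] {p : ℕ} {ζ : G → ℂ} {x : G} {ω : ℂ}

/-- AGR -/
theorem pw_eq_of_cong (S : Setting p ζ x ω) (k k' : ℕ) (hk : Nat.Coprime k (Nat.card G))
    (hk' : Nat.Coprime k' (Nat.card G)) (hp : k ≡ k' [MOD p] ∨ k + k' ≡ 0 [MOD p])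
    (ho : k ≡ k' [MOD Nat.card (Subgroup.center G)]) : pw ζ k = pw ζ k' := by
  have hcf : Cfsg.IsClassFunction G ζ := fun g h =>
    Cfsg.Agent.Lib.Helper25.irr_conj_invariant (⟨ζ, S.irr⟩ : Cfsg.IrrCharacter G) g h
  exact pm2agr_eq_core S (fun hχ hχ' T hT hbig => uniq_of_agree hχ hχ' T hT hbig)
    (fun k hk => pw_irr S.irr k hk) (fun k => pw_classFunction hcf k)
    (sing_pw_pw S) (sing_conj S) (fun k hk m hm _ hc => pw_val S k hk m hm hc)
    (fun hc k => nu_pow S hc k) (nu_one S) k k' hk hk' hp ho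

/-- AGR : the converse at `x` -/
theorem pw_ne_of_not_cong (S : Setting p ζ x ω) (k k' : ℕ) (hk : ¬ p ∣ k) (hk' : ¬ p ∣ k')
    (hp : ¬ (k ≡ k' [MOD p] ∨ k + k' ≡ 0 [MOD p])) : pw ζ k ≠ pw ζ k' :=
  pm2agr_ne_core S (fun k hk m hm _ hc => pw_val S k hk m hm hc) (nu_one S) k k' hk hk' hp

/-- GI : Galois invariance -/
theorem gal_inv (S : Setting p ζ x ω) (u : ℕ) (hu : Nat.Coprime u (Nat.card G)) (hup : u ≡ 1 [MOD p])
    (huo : u ≡ 1 [MOD Nat.card (Subgroup.center G)]) (g : G) : ζ (g ^ u) = ζ g :=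
  pm2agr_gal_core S (pw_eq_of_cong S) u hu hup huo g

end setting

end Cfsg.Agent.Lib.helper7.PM2
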