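import Mathlib
import Cfsg.Agent.Lib.helper7.REE.Defs

/-!
# Project REE, row ARC (helper22): `ar_ord_six`, verbatim from `helper7/REE/Skel1.lean.txt`.
Extras: `reearc_dvd_iff`, `reearc_zmod` (the statement for any `x : ZMod l` with `x^2 - x + 1 = 0`, `x = 3 x'`).
-/

set_option autoImplicit false

namespace Cfsg.Agent.Lib.helper7.REE

open Matrix Polynomial Cfsg.Agent.Lib.helper8

/-- `l ∣ a ^ i - 1` in `ℕ` as an equation in `ZMod l` -/
theorem reearc_dvd_iff (l a i : ℕ) (ha : 1 ≤ a) : l ∣ a ^ i - 1 ↔ ((a : ZMod l)) ^ i = 1 := by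
  have h1 : 1 ≤ a ^ i := Nat.one_le_pow _ _ ha
  rw [← ZMod.natCast_eq_zero_iff, Nat.cast_sub h1, Nat.cast_pow, Nat.cast_one, sub_eq_zero]

/-- the statement in `ZMod l`: a root `x = 3 x'` of `X^2 - X + 1` has order exactly `6`, and `l ≥ 7` -/
theorem reearc_zmod (l : ℕ) [hl : Fact l.Prime] (x x' : ZMod l) (h : x ^ 2 - x + 1 = 0) (h3 : x = 3 * x') :
    x ^ 6 = 1 ∧ x ≠ 0 ∧ (∀ i, 0 < i → i < 6 → x ^ i ≠ 1) ∧ 7 ≤ l := by
  have hx2 : x ^ 2 = x - 1 := by linear_combination h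
  have hx3 : x ^ 3 = -1 := by linear_combination (x + 1) * h
  have hx0 : x ≠ 0 := by
    intro h0
    rw [h0] at h
    simp at h
  have h30 : (3 : ZMod l) ≠ 0 := by
    intro h30
    apply hx0
    rw [h3, h30, zero_mul]
  have h20 : (2 : ZMod l) ≠ 0 := by
    intro h20
    have hd : l ∣ 2 := by
      rw [← ZMod.natCast_eq_zero_iff]
      exact_mod_cast h20
    have hl2 : l = 2 := (Nat.prime_dvd_prime_iff_eq hl.out Nat.prime_two).1 hd
    subst hl2
    have hfer : x ^ 2 = x := ZMod.pow_card x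
    rw [hfer, sub_self, zero_add] at h
    exact one_ne_zero h
  have hmin : ∀ i, 0 < i → i < 6 → x ^ i ≠ 1 := by
    intro i hi0 hi6 hxi
    interval_cases i
    · -- x = 1
      rw [pow_one] at hxi
      rw [hxi] at h
      norm_num at h
    · -- x^2 = 1
      apply h30
      have hx : x = 2 := by linear_combination hxi - hx2
      rw [hx] at hxi
      linear_combination hxi
    · -- x^3 = 1
      apply h20
      linear_combination hx3 - hxi
    · -- x^4 = 1
      apply h30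
      have hx : x = -1 := by linear_combination (-1 : ZMod l) * hxi + x * hx3
      rw [hx] at h
      linear_combination h
    · -- x^5 = 1
      apply hx0
      linear_combination (-1 : ZMod l) * hxi + x ^ 2 * hx3 + (-1 : ZMod l) * hx2
  refine ⟨by linear_combination (x ^ 3 - 1) * hx3, hx0, hmin, ?_⟩
  by_contra hlt
  push Not at hlt
  have hfer : x ^ (l - 1) = 1 := ZMod.pow_card_sub_one_eq_one hx0
  have h2l : 2 ≤ l := hl.out.two_le
  exact hmin (l - 1) (by omega) (by omega) hfer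

/-- ARC. Every prime divisor `ℓ` of `N₀` has `ord_ℓ(q) = 6`, and `ℓ ≥ 7`. -/
theorem ar_ord_six (m : ℕ) (l : ℕ) (hl : l.Prime) (hd : l ∣ nn m) :
    l ∣ qq m ^ 6 - 1 ∧ (∀ i, 0 < i → i < 6 → ¬ l ∣ qq m ^ i - 1) ∧ 7 ≤ l ∧ ¬ l ∣ qq m := by
  have : Fact l.Prime := ⟨hl⟩
  have hq1 : 1 ≤ qq m := Nat.one_le_pow _ _ (by norm_num)
  have hq3 : qq m = 3 * 3 ^ (2 * m) := by
    unfold qq
    rw [pow_succ, mul_comm]
  have hle : qq m ≤ qq m ^ 2 := by
    rw [pow_two]
    exact Nat.le_mul_of_pos_left _ hq1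
  have h : ((qq m : ℕ) : ZMod l) ^ 2 - ((qq m : ℕ) : ZMod l) + 1 = 0 := by
    have := (ZMod.natCast_eq_zero_iff (nn m) l).2 hd
    unfold nn at this
    rw [Nat.cast_add, Nat.cast_sub hle, Nat.cast_pow, Nat.cast_one] at this
    exact this
  have h3 : ((qq m : ℕ) : ZMod l) = 3 * ((3 ^ (2 * m) : ℕ) : ZMod l) := by
    rw [hq3]
    push_cast
    ring
  obtain ⟨h6, hx0, hmin, h7⟩ := reearc_zmod l _ _ h h3
  refine ⟨(reearc_dvd_iff l _ 6 hq1).2 h6, ?_, h7, ?_⟩
  · intro i hi0 hi6 hdvd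
    exact hmin i hi0 hi6 ((reearc_dvd_iff l _ i hq1).1 hdvd)
  · intro hdvd
    exact hx0 ((ZMod.natCast_eq_zero_iff _ _).2 hdvd)

end Cfsg.Agent.Lib.helper7.REE
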