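import Mathlib
import Cfsg.Agent.Lib.helper7.REE.Defs
import Cfsg.Agent.Lib.Helper20.REEGENA

/-!
# Project REE, rows G2G (`B_count_sing`) and G3D (`three_counts`) (helper22): the CORES, with the cited rows'
statements as hypotheses (G2D, G2E, G2F; G1A, G3B, G3C).
-/

set_option autoImplicit false

namespace Cfsg.Agent.Lib.helper7.REE

open Matrix Cfsg.Agent.Lib.helper8

universe u v

/-- conjugation preserves the order -/
theorem reeg2g_orderOf_conj {G : Type*} [Group G] (g d : G) : orderOf (g * d * g⁻¹) = orderOf d := by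
  have := orderOf_injective (MulAut.conj g).toMonoidHom (MulAut.conj g).injective d
  simpa [MulAut.conj_apply] using this

namespace ReeAx

variable {G : Type u} [Group G] [Finite G] {K : Type v} [Field K] [Fintype K] {m : ℕ}

/-- G2G core: from the second clause of G2D and the counts G2E, G2F -/
theorem reeg2g_core (R : ReeAx G K m)
    (hD : ∀ b ∈ R.B, 3 ∣ orderOf b → b ∈ R.U ∨ orderOf b = 6)
    (h3 : Nat.card ({b : G | b ∈ R.B ∧ orderOf b = 3} : Set G) = qq m ^ 2 - 1)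
    (h9 : Nat.card ({b : G | b ∈ R.B ∧ orderOf b = 9} : Set G) = qq m ^ 3 - qq m ^ 2)
    (h6 : Nat.card ({b : G | b ∈ R.B ∧ orderOf b = 6} : Set G) = qq m ^ 2 * (qq m - 1)) :
    Nat.card ({b : G | b ∈ R.B ∧ 3 ∣ orderOf b} : Set G) = 2 * qq m ^ 3 - qq m ^ 2 - 1 := by
  classical
  have hset : ({b : G | b ∈ R.B ∧ 3 ∣ orderOf b} : Set G) =
      {b : G | b ∈ R.B ∧ orderOf b = 3} ∪ ({b : G | b ∈ R.B ∧ orderOf b = 9} ∪ {b : G | b ∈ R.B ∧ orderOf b = 6}) := by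
    ext b
    simp only [Set.mem_ofPred_eq, Set.mem_union]
    constructor
    · rintro ⟨hb, h3b⟩
      rcases hD b hb h3b with hU | h6b
      · have h9b : orderOf b ∣ 3 ^ 2 := orderOf_dvd_of_pow_eq_one (R.U_exp b hU)
        obtain ⟨k, hk, hbk⟩ := (Nat.dvd_prime_pow Nat.prime_three).1 h9b
        interval_cases k
        · rw [hbk] at h3b
          norm_num at h3b
        · exact Or.inl ⟨hb, by rw [hbk]; norm_num⟩
        · exact Or.inr (Or.inl ⟨hb, by rw [hbk]; norm_num⟩)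
      · exact Or.inr (Or.inr ⟨hb, h6b⟩)
    · rintro (⟨hb, h⟩ | ⟨hb, h⟩ | ⟨hb, h⟩)
      · exact ⟨hb, by rw [h]⟩
      · exact ⟨hb, by rw [h]; norm_num⟩
      · exact ⟨hb, by rw [h]; norm_num⟩
  have hd1 : Disjoint ({b : G | b ∈ R.B ∧ orderOf b = 9} : Set G) {b : G | b ∈ R.B ∧ orderOf b = 6} := by
    rw [Set.disjoint_left]
    rintro b ⟨-, h1⟩ ⟨-, h2⟩
    omega
  have hd2 : Disjoint ({b : G | b ∈ R.B ∧ orderOf b = 3} : Set G)
      ({b : G | b ∈ R.B ∧ orderOf b = 9} ∪ {b : G | b ∈ R.B ∧ orderOf b = 6}) := by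
    rw [Set.disjoint_left]
    rintro b ⟨-, h1⟩ (⟨-, h2⟩ | ⟨-, h2⟩) <;> omega
  rw [hset, Nat.card_coe_set_eq, Set.ncard_union_eq hd2 (Set.toFinite _) (Set.toFinite _),
    Set.ncard_union_eq hd1 (Set.toFinite _) (Set.toFinite _), ← Nat.card_coe_set_eq, ← Nat.card_coe_set_eq,
    ← Nat.card_coe_set_eq, h3, h9, h6]
  have hq1 : 1 ≤ qq m := Nat.one_le_pow _ _ (by norm_num)
  have h23 : qq m ^ 2 ≤ qq m ^ 3 := Nat.pow_le_pow_right hq1 (by norm_num)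
  have h12 : 1 ≤ qq m ^ 2 := Nat.one_le_pow _ _ hq1
  have hmul : qq m ^ 2 * (qq m - 1) = qq m ^ 3 - qq m ^ 2 := by
    rw [Nat.mul_sub, mul_one, ← pow_succ]
  rw [hmul]
  omega

/-- generic global count: for a property `P` of orders implying `3 ∣ ·` -/
theorem reeg3d_count (R : ReeAx G K m)
    (hcard : Nat.card G = (qq m ^ 3 + 1) * Nat.card R.B)
    (hconj : ∀ g : G, 3 ∣ orderOf g → ∃ x : G, x * g * x⁻¹ ∈ R.B)
    (hTI : ∀ g d : G, d ∈ R.B → 3 ∣ orderOf d → g * d * g⁻¹ ∈ R.B → g ∈ R.B)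
    (P : ℕ → Prop) (hP : ∀ k, P k → 3 ∣ k) :
    Nat.card {g : G // P (orderOf g)} =
      (qq m ^ 3 + 1) * Nat.card ({b : G | b ∈ R.B ∧ P (orderOf b)} : Set G) := by
  have hBpos : 0 < Nat.card R.B := Nat.card_pos
  have hdiv : Nat.card G / Nat.card R.B = qq m ^ 3 + 1 := by
    rw [hcard, Nat.mul_div_cancel _ hBpos]
  have h := ti_count R.B ({b : G | b ∈ R.B ∧ P (orderOf b)} : Set G)
    (by
      rintro n hn d ⟨hd, hPd⟩
      refine ⟨R.B.mul_mem (R.B.mul_mem hn hd) (R.B.inv_mem hn), ?_⟩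
      rw [reeg2g_orderOf_conj]
      exact hPd)
    (by
      rintro g d ⟨hd, hPd⟩ ⟨hgd, -⟩
      exact hTI g d hd (hP _ hPd) hgd)
  rw [hdiv] at h
  rw [← h]
  apply Nat.card_congr
  apply Equiv.subtypeEquivRight
  intro x
  constructor
  · intro hx
    obtain ⟨y, hy⟩ := hconj x (hP _ hx)
    refine ⟨y⁻¹, y * x * y⁻¹, ⟨hy, by rw [reeg2g_orderOf_conj]; exact hx⟩, ?_⟩
    group
  · rintro ⟨g, d, ⟨-, hPd⟩, rfl⟩
    rw [reeg2g_orderOf_conj]
    exact hPd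

/-- G3D core -/
theorem reeg3d_core (R : ReeAx G K m)
    (hcard : Nat.card G = (qq m ^ 3 + 1) * Nat.card R.B)
    (hconj : ∀ g : G, 3 ∣ orderOf g → ∃ x : G, x * g * x⁻¹ ∈ R.B)
    (hTI : ∀ g d : G, d ∈ R.B → 3 ∣ orderOf d → g * d * g⁻¹ ∈ R.B → g ∈ R.B)
    (h3 : Nat.card ({b : G | b ∈ R.B ∧ orderOf b = 3} : Set G) = qq m ^ 2 - 1)
    (h9 : Nat.card ({b : G | b ∈ R.B ∧ orderOf b = 9} : Set G) = qq m ^ 3 - qq m ^ 2)
    (h6 : Nat.card ({b : G | b ∈ R.B ∧ orderOf b = 6} : Set G) = qq m ^ 2 * (qq m - 1))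
    (hs : Nat.card ({b : G | b ∈ R.B ∧ 3 ∣ orderOf b} : Set G) = 2 * qq m ^ 3 - qq m ^ 2 - 1) :
    Nat.card {g : G // orderOf g = 3} = (qq m ^ 2 - 1) * (qq m ^ 3 + 1) ∧
    Nat.card {g : G // orderOf g = 9} = (qq m ^ 3 - qq m ^ 2) * (qq m ^ 3 + 1) ∧
    Nat.card {g : G // orderOf g = 6} = qq m ^ 2 * (qq m - 1) * (qq m ^ 3 + 1) ∧
    Nat.card {g : G // 3 ∣ orderOf g} = (qq m ^ 3 + 1) * (2 * qq m ^ 3 - qq m ^ 2 - 1) := by
  refine ⟨?_, ?_, ?_, ?_⟩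
  · rw [reeg3d_count R hcard hconj hTI (fun k => k = 3) (fun k hk => by rw [hk]), h3, mul_comm]
  · rw [reeg3d_count R hcard hconj hTI (fun k => k = 9) (fun k hk => by rw [hk]; norm_num), h9, mul_comm]
  · rw [reeg3d_count R hcard hconj hTI (fun k => k = 6) (fun k hk => by rw [hk]; norm_num), h6, mul_comm]
  · rw [reeg3d_count R hcard hconj hTI (fun k => 3 ∣ k) (fun k hk => hk), hs]

end ReeAx

end Cfsg.Agent.Lib.helper7.REE
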