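import Mathlib
import Cfsg.Agent.Lib.helper7.REE.Defs
import Cfsg.Agent.Lib.Helper20.REEGENA
import Cfsg.Agent.Lib.Helper22.REEG2Gcore

/-!
# Project REE, row G7E (helper22): the CORE `ReeAx.reeg7e_core` of `tor_count`
(hypotheses = clauses of G7A `tor_pi`, G7B `tor_cyclic`, G7D `tor_hall`; cites GENA `ti_count`).
-/

set_option autoImplicit false

namespace Cfsg.Agent.Lib.helper7.REE

open Matrix Cfsg.Agent.Lib.helper8

universe u v

/-- the centraliser of a conjugate -/
theorem reeg7e_cent_conj {G : Type*} [Group G] (g d : G) :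
    Subgroup.centralizer {g * d * g⁻¹} = (Subgroup.centralizer {d}).map (MulAut.conj g).toMonoidHom := by
  ext y
  simp only [Subgroup.mem_centralizer_iff, Set.mem_singleton_iff, forall_eq, Subgroup.mem_map,
    MulEquiv.coe_toMonoidHom, MulAut.conj_apply]
  constructor
  · intro h
    refine ⟨g⁻¹ * y * g, ?_, by group⟩
    have : g⁻¹ * (g * d * g⁻¹ * y) * g = g⁻¹ * (y * (g * d * g⁻¹)) * g := by rw [h]
    calc d * (g⁻¹ * y * g) = g⁻¹ * (g * d * g⁻¹ * y) * g := by group
      _ = g⁻¹ * (y * (g * d * g⁻¹)) * g := this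
      _ = g⁻¹ * y * g * d := by group
  · rintro ⟨z, hz, rfl⟩
    calc g * d * g⁻¹ * (g * z * g⁻¹) = g * (d * z) * g⁻¹ := by group
      _ = g * (z * d) * g⁻¹ := by rw [hz]
      _ = g * z * g⁻¹ * (g * d * g⁻¹) := by group

/-- the cardinality of a conjugate subgroup -/
theorem reeg7e_card_map_conj {G : Type*} [Group G] (A : Subgroup G) (g : G) :
    Nat.card (A.map (MulAut.conj g).toMonoidHom) = Nat.card A :=
  Subgroup.card_map_of_injective (MulAut.conj g).injective

namespace ReeAx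

variable {G : Type u} [Group G] [Finite G] {K : Type v} [Field K] [Fintype K] {m : ℕ}

/-- G7E core, from the statements of G7A (first clause), G7B (second clause), G7D (clauses 2, 4) -/
theorem reeg7e_core (R : ReeAx G K m) (A : Subgroup G) (hA : R.IsTor A)
    (hpi : ∀ c ∈ A, c ^ nn m = 1) (h2A : 2 ≤ Nat.card A)
    (hcent : ∀ a ∈ A, a ≠ 1 → Subgroup.centralizer {a} = A)
    (hTI : ∀ g : G, ∀ a ∈ A, a ≠ 1 → g * a * g⁻¹ ∈ A → g ∈ Subgroup.normalizer (A : Set G))
    (hconj : ∀ A' : Subgroup G, R.IsTor A' → ¬ (Nat.card A).Coprime (Nat.card A') →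
      ∃ g : G, A' = A.map (MulAut.conj g).toMonoidHom) :
    Nat.card {x : G // R.IsPi x ∧ Nat.card (Subgroup.centralizer {x}) = Nat.card A} =
      gg m / Nat.card (Subgroup.normalizer (A : Set G)) * (Nat.card A - 1) := by
  classical
  have h := ti_count (Subgroup.normalizer (A : Set G)) ({a : G | a ∈ A ∧ a ≠ 1} : Set G)
    (by
      rintro n hn d ⟨hd, hd1⟩
      refine ⟨(Subgroup.mem_normalizer_iff.1 hn d).1 hd, ?_⟩
      intro h1
      apply hd1
      have : d = n⁻¹ * (n * d * n⁻¹) * n := by group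
      rw [this, h1]
      group)
    (by
      rintro g d ⟨hd, hd1⟩ ⟨hgd, -⟩
      exact hTI g d hd hd1 hgd)
  rw [R.card] at h
  have hΔ : Nat.card ({a : G | a ∈ A ∧ a ≠ 1} : Set G) = Nat.card A - 1 := by
    have e : ({a : G | a ∈ A ∧ a ≠ 1} : Set G) = (A : Set G) \ {1} := by
      ext a
      simp
    rw [e, Nat.card_coe_set_eq, Set.ncard_sdiff_singleton_of_mem (A.one_mem), ← Nat.card_coe_set_eq]
    rfl
  rw [hΔ] at h
  rw [← h]
  apply Nat.card_congr
  apply Equiv.subtypeEquivRight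
  intro x
  constructor
  · rintro ⟨hx, hcx⟩
    have hT : R.IsTor (Subgroup.centralizer {x}) := ⟨x, hx, rfl⟩
    have hnc : ¬ (Nat.card A).Coprime (Nat.card (Subgroup.centralizer {x})) := by
      rw [hcx, Nat.coprime_self]
      omega
    obtain ⟨g, hg⟩ := hconj _ hT hnc
    have hxC : x ∈ Subgroup.centralizer {x} := by
      rw [Subgroup.mem_centralizer_iff]
      intro y hy
      rw [Set.mem_singleton_iff] at hy
      rw [hy]
    rw [hg] at hxC
    obtain ⟨d, hd, hdx⟩ := Subgroup.mem_map.1 hxC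
    rw [MulEquiv.coe_toMonoidHom, MulAut.conj_apply] at hdx
    refine ⟨g, d, ⟨hd, ?_⟩, hdx.symm⟩
    intro hd1
    apply hx.1
    rw [← hdx, hd1]
    group
  · rintro ⟨g, d, ⟨hd, hd1⟩, rfl⟩
    refine ⟨⟨?_, ?_⟩, ?_⟩
    · intro h1
      apply hd1
      have : d = g⁻¹ * (g * d * g⁻¹) * g := by group
      rw [this, h1]
      group
    · rw [conj_pow, hpi d hd]
      group
    · rw [reeg7e_cent_conj, reeg7e_card_map_conj, hcent d hd hd1]

end ReeAx

end Cfsg.Agent.Lib.helper7.REE
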