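import Mathlib
import Cfsg.Agent.Lib.helper7.REE.Defs

/-!
# Project REE, row ARD (helper22): `ar_count`, verbatim from `helper7/REE/Skel1.lean.txt`.
Extras: `reeard_q` (`q = 6 t + 3`), `reeard_core`.
-/

set_option autoImplicit false

namespace Cfsg.Agent.Lib.helper7.REE

open Matrix Polynomial Cfsg.Agent.Lib.helper8

/-- `q = 3^(2m+1) = 6 t + 3` -/
theorem reeard_q (m : ℕ) : ∃ t, qq m = 6 * t + 3 := by
  have hodd : Odd (9 ^ m) := Odd.pow (by decide)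
  obtain ⟨t, ht⟩ := hodd
  refine ⟨t, ?_⟩
  unfold qq
  rw [pow_succ, pow_mul, show (3 : ℕ) ^ 2 = 9 by norm_num, ht]
  ring

/-- the class equation as an identity in `t`, `q = 6 t + 3` -/
theorem reeard_core (t q N g : ℕ) (hq : q = 6 * t + 3) (hN : N = q ^ 2 - q + 1)
    (hg : g = q ^ 3 * (q - 1) * (q ^ 3 + 1)) :
    6 * (q + 1) ∣ g ∧ 2 * (q - 1) ∣ g ∧
    g = 1 + (q ^ 3 + 1) * (2 * q ^ 3 - q ^ 2 - 1) + q ^ 2 * N
      + (g / (2 * (q - 1))) * (q - 3)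
      + (g / (6 * (q + 1))) * (q - 3)
      + q ^ 3 * (q / 3) * (q ^ 2 - 1) * (q - 2) := by
  subst hq
  have h1 : 6 * t + 3 - 1 = 6 * t + 2 := by omega
  have h2 : 6 * t + 3 - 2 = 6 * t + 1 := by omega
  have h3 : 6 * t + 3 - 3 = 6 * t := by omega
  have hd3 : (6 * t + 3) / 3 = 2 * t + 1 := by omega
  have hN' : N = 36 * t ^ 2 + 30 * t + 7 := by
    rw [hN]
    have : (6 * t + 3) ^ 2 = 36 * t ^ 2 + 30 * t + 6 + (6 * t + 3) := by ring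
    rw [this, Nat.add_sub_cancel]
  have hsq : (6 * t + 3) ^ 2 - 1 = 36 * t ^ 2 + 36 * t + 8 := by
    have : (6 * t + 3) ^ 2 = 36 * t ^ 2 + 36 * t + 8 + 1 := by ring
    rw [this, Nat.add_sub_cancel]
  have hcube : 2 * (6 * t + 3) ^ 3 - (6 * t + 3) ^ 2 - 1 = 432 * t ^ 3 + 612 * t ^ 2 + 288 * t + 44 := by
    have : 2 * (6 * t + 3) ^ 3 = 432 * t ^ 3 + 612 * t ^ 2 + 288 * t + 44 + 1 + (6 * t + 3) ^ 2 := by ring
    rw [this, Nat.add_sub_cancel, Nat.add_sub_cancel]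
  have hg' : g = (6 * t + 3) ^ 3 * (6 * t + 2) * ((6 * t + 3) ^ 3 + 1) := by
    rw [hg, h1]
  have hcf : (6 * t + 3) ^ 3 + 1 = (6 * t + 4) * (36 * t ^ 2 + 30 * t + 7) := by ring
  have hA : g = (6 * t + 3) ^ 3 * (3 * t + 2) * (36 * t ^ 2 + 30 * t + 7) * (2 * (6 * t + 2)) := by
    rw [hg', hcf]; ring
  have hB : g = 9 * (2 * t + 1) ^ 3 * (3 * t + 1) * (36 * t ^ 2 + 30 * t + 7) * (6 * (6 * t + 3 + 1)) := by
    rw [hg', hcf]; ring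
  have hdA : g / (2 * (6 * t + 2)) = (6 * t + 3) ^ 3 * (3 * t + 2) * (36 * t ^ 2 + 30 * t + 7) :=
    Nat.div_eq_of_eq_mul_left (by omega) hA
  have hdB : g / (6 * (6 * t + 3 + 1)) = 9 * (2 * t + 1) ^ 3 * (3 * t + 1) * (36 * t ^ 2 + 30 * t + 7) :=
    Nat.div_eq_of_eq_mul_left (by omega) hB
  refine ⟨?_, ?_, ?_⟩
  · exact Dvd.intro_left _ hB.symm
  · rw [h1]
    exact Dvd.intro_left _ hA.symm
  · rw [h1, h2, h3, hd3, hsq, hcube, hdA, hdB, hN', hg']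
    ring

/-- ARD. The class equation: with `F' = q³ (q/3) (q²-1) (q-2)` the number of π-elements. -/
theorem ar_count (m : ℕ) (hm : 1 ≤ m) :
    6 * (qq m + 1) ∣ gg m ∧ 2 * (qq m - 1) ∣ gg m ∧
    gg m = 1 + (qq m ^ 3 + 1) * (2 * qq m ^ 3 - qq m ^ 2 - 1) + qq m ^ 2 * nn m
      + (gg m / (2 * (qq m - 1))) * (qq m - 3)
      + (gg m / (6 * (qq m + 1))) * (qq m - 3)
      + qq m ^ 3 * (qq m / 3) * (qq m ^ 2 - 1) * (qq m - 2) := by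
  obtain ⟨t, ht⟩ := reeard_q m
  exact reeard_core t (qq m) (nn m) (gg m) ht rfl rfl

end Cfsg.Agent.Lib.helper7.REE
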