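import Mathlib
import Cfsg.Agent.Lib.helper7.REE.Defs
import Cfsg.Agent.Lib.Helper22.REEG2Gcore
import Cfsg.Agent.Lib.Helper16.REEG2D
import Cfsg.Agent.Lib.helper17.REEG2E
import Cfsg.Agent.Lib.Helper16.REEG2F

/-!
# Project REE, row G2G (helper22): `ReeAx.B_count_sing`, verbatim from `helper7/REE/Skel2.lean.txt`
(= `reeg2g_core` applied to the rows G2D, G2E, G2F).
-/

set_option autoImplicit false

namespace Cfsg.Agent.Lib.helper7.REE

open Matrix Cfsg.Agent.Lib.helper8

universe u v

namespace ReeAx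

variable {G : Type u} [Group G] [Finite G] {K : Type v} [Field K] [Fintype K] {m : ℕ}

/-- G2G. The number of 3-singular elements of `B`. -/
theorem B_count_sing (R : ReeAx G K m) :
    Nat.card ({b : G | b ∈ R.B ∧ 3 ∣ orderOf b} : Set G) =
      2 * qq m ^ 3 - qq m ^ 2 - 1 :=
  reeg2g_core R (fun b hb => (R.B_orders b hb).2.1) R.B_count_39.1 R.B_count_39.2 R.B_count_6

end ReeAx

end Cfsg.Agent.Lib.helper7.REE
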