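import Mathlib
import Cfsg.Agent.Lib.helper7.REE.Defs
import Cfsg.Agent.Lib.Helper22.REEG2Gcore
import Cfsg.Agent.Lib.Helper22.REEG2G
import Cfsg.Agent.Lib.helper4.REEG1A
import Cfsg.Agent.Lib.Helper29.REEG3A

/-!
# Project REE, row G3D (helper22): `ReeAx.three_counts`, verbatim from `helper7/REE/Skel2.lean.txt`
(= `reeg3d_core` applied to the rows G1A, G2E, G2F, G2G, G3B, G3C and `ti_count`).
-/

set_option autoImplicit false

namespace Cfsg.Agent.Lib.helper7.REE

open Matrix Cfsg.Agent.Lib.helper8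

universe u v

namespace ReeAx

variable {G : Type u} [Group G] [Finite G] {K : Type v} [Field K] [Fintype K] {m : ℕ}

/-- G3D. Global counts of 3-singular elements (`ti_count` with `N = B`). -/
theorem three_counts (R : ReeAx G K m) :
    Nat.card {g : G // orderOf g = 3} = (qq m ^ 2 - 1) * (qq m ^ 3 + 1) ∧
    Nat.card {g : G // orderOf g = 9} = (qq m ^ 3 - qq m ^ 2) * (qq m ^ 3 + 1) ∧
    Nat.card {g : G // orderOf g = 6} = qq m ^ 2 * (qq m - 1) * (qq m ^ 3 + 1) ∧
    Nat.card {g : G // 3 ∣ orderOf g} = (qq m ^ 3 + 1) * (2 * qq m ^ 3 - qq m ^ 2 - 1) :=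
  reeg3d_core R R.B_basic.2.2.2.2.1 (fun g hg => R.three_sing_conj g hg)
    (fun g d hd h3 hg => R.three_TI g d hd h3 hg) R.B_count_39.1 R.B_count_39.2 R.B_count_6 R.B_count_sing

end ReeAx

end Cfsg.Agent.Lib.helper7.REE
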