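import Mathlib
import Cfsg.Prelude
import Cfsg.Agent.S3744

namespace Cfsg.Agent.Lib.Helper22.SpanOrbit

theorem exists_mul_of_coprime {H : Type*} [Group H] [Finite H] (K A : Subgroup H)
    (h : K.index.Coprime A.index) (g : H) : ∃ x ∈ K, ∃ α ∈ A, g = x * α := by
  have h1 : A.relIndex K * K.index = (A ⊓ K).index := by
    rw [← Subgroup.inf_relIndex_right A K]
    exact Subgroup.relIndex_mul_index inf_le_right
  have h2 : K.relIndex A * A.index = (A ⊓ K).index := by
    rw [← Subgroup.inf_relIndex_left A K]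
    exact Subgroup.relIndex_mul_index inf_le_left
  have hK0 : K.index ≠ 0 := Subgroup.index_ne_zero_of_finite
  have hdvd : A.index ∣ A.relIndex K := by
    have : A.index ∣ A.relIndex K * K.index := by
      rw [h1, ← h2]; exact dvd_mul_left _ _
    exact (Nat.Coprime.symm h).dvd_of_dvd_mul_right this
  have hle : A.relIndex K ≤ A.index := by
    have h3 := Subgroup.index_inf_le (H := A) (K := K)
    rw [← h1] at h3
    exact Nat.le_of_mul_le_mul_right h3 (Nat.pos_of_ne_zero hK0)
  have hrel0 : A.relIndex K ≠ 0 := by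
    rw [Subgroup.relIndex]; exact Subgroup.index_ne_zero_of_finite
  have heq : A.relIndex K = A.index := le_antisymm hle (Nat.le_of_dvd (Nat.pos_of_ne_zero hrel0) hdvd)
  have hstab : MulAction.stabilizer K (QuotientGroup.mk 1 : H ⧸ A) = A.subgroupOf K := by
    ext a
    rw [MulAction.mem_stabilizer_iff, Subgroup.mem_subgroupOf]
    have e : a • (QuotientGroup.mk 1 : H ⧸ A) = QuotientGroup.mk ((a : H) * 1) := rfl
    rw [e, QuotientGroup.eq]
    simp
  have hcard : (MulAction.orbit K (QuotientGroup.mk 1 : H ⧸ A)).ncard = A.index := by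
    rw [← heq, Subgroup.relIndex, ← hstab, MulAction.index_stabilizer]
  have huniv : MulAction.orbit K (QuotientGroup.mk 1 : H ⧸ A) = Set.univ := by
    apply Set.eq_of_subset_of_ncard_le (Set.subset_univ _)
    rw [hcard, Set.ncard_univ, Subgroup.index_eq_card]
  have hg : (QuotientGroup.mk g : H ⧸ A) ∈ MulAction.orbit K (QuotientGroup.mk 1 : H ⧸ A) := by
    rw [huniv]; trivial
  obtain ⟨a, ha⟩ := hg
  have ha' : (QuotientGroup.mk ((a : H) * 1) : H ⧸ A) = QuotientGroup.mk g := ha
  rw [QuotientGroup.eq] at ha'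
  refine ⟨a, a.2, ((a : H) * 1)⁻¹ * g, ha', ?_⟩
  group

theorem relIndex_dvd_of_le {G : Type*} [Group G] (N K L : Subgroup G) [N.Normal]
    (hKL : K ≤ L) : N.relIndex K ∣ N.relIndex L := by
  rw [← Subgroup.relIndex_sup_right K N, ← Subgroup.relIndex_sup_right L N]
  rw [← Subgroup.relIndex_mul_relIndex N (K ⊔ N) (L ⊔ N) le_sup_right (sup_le_sup_right hKL N)]
  exact dvd_mul_right _ _

theorem pSolvable_subgroup {G : Type*} [Group G] {p : ℕ} [hp : Fact p.Prime]
    (h : Cfsg.IsPSolvable p G) (M : Subgroup G) : Cfsg.IsPSolvable p ↥M := by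
  obtain ⟨n, H, h0, hlast, hmono, hnorm, hfac⟩ := h
  refine ⟨n, fun i => (H i).subgroupOf M, ?_, ?_, ?_, ?_, ?_⟩
  · change (H 0).subgroupOf M = ⊥
    rw [h0, Subgroup.bot_subgroupOf]
  · change (H (Fin.last n)).subgroupOf M = ⊤
    rw [hlast, Subgroup.top_subgroupOf]
  · intro i j hij
    exact Subgroup.comap_mono (hmono hij)
  · intro i
    have := hnorm i
    infer_instance
  · intro i
    have hN := hnorm i.castSucc
    have key : ((H i.castSucc).subgroupOf M).relIndex ((H i.succ).subgroupOf M) ∣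
        (H i.castSucc).relIndex (H i.succ) := by
      have e1 : (H i.succ).subgroupOf M = ((H i.succ) ⊓ M).subgroupOf M :=
        (Subgroup.inf_subgroupOf_right _ _).symm
      rw [e1, Subgroup.relIndex_subgroupOf inf_le_right]
      exact relIndex_dvd_of_le _ _ _ inf_le_left
    rcases hfac i with ⟨m, hm⟩ | hc
    · left
      rw [hm] at key
      obtain ⟨m', _, hm'⟩ := (Nat.dvd_prime_pow hp.out).mp key
      exact ⟨m', hm'⟩
    · right
      exact Nat.Coprime.coprime_dvd_left key hc

section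

variable {k V H : Type*} [Field k] [AddCommGroup V] [Module k V] [Group H]

def stab (ρ : Representation k H V) (a : V) : Subgroup H where
  carrier := {h | ρ h a = a}
  one_mem' := by simp
  mul_mem' := fun {x y} hx hy => by
    change ρ (x * y) a = a
    have hx' : ρ x a = a := hx
    have hy' : ρ y a = a := hy
    rw [map_mul, Module.End.mul_apply, hy', hx']
  inv_mem' := fun {x} hx => by
    change ρ x⁻¹ a = a
    have hx' : ρ x a = a := hx
    have h1 : ρ x⁻¹ (ρ x a) = a := by
      rw [← Module.End.mul_apply, ← map_mul, inv_mul_cancel, map_one, Module.End.one_apply]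
    rw [hx'] at h1
    exact h1

theorem mem_stab (ρ : Representation k H V) (a : V) (h : H) : h ∈ stab ρ a ↔ ρ h a = a := Iff.rfl

theorem orbit_card_eq_index [Finite H] (ρ : Representation k H V) (a : V) :
    Nat.card {u : V | ∃ h : H, ρ h a = u} = (stab ρ a).index := by
  let act : MulAction H V := MulAction.compHom V (ρ : H →* Module.End k V)
  have h1 : stab ρ a = MulAction.stabilizer H a := by
    ext h
    rw [mem_stab, MulAction.mem_stabilizer_iff]
    rfl
  rw [h1, MulAction.index_stabilizer, ← Nat.card_coe_set_eq]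
  rfl


noncomputable def orbSum [Finite H] (ρ : Representation k H V) (a : V) : V := by
  classical
  exact ∑ u ∈ (Set.toFinite {u : V | ∃ h : H, ρ h a = u}).toFinset, u

theorem orbSum_fixed [Finite H] (ρ : Representation k H V) (a : V) (g : H) :
    ρ g (orbSum ρ a) = orbSum ρ a := by
  classical
  unfold orbSum
  rw [map_sum]
  apply Finset.sum_nbij (fun u => ρ g u)
  · intro u hu
    rw [Set.Finite.mem_toFinset] at hu ⊢
    obtain ⟨h, rfl⟩ := hu
    exact ⟨g * h, by rw [map_mul, Module.End.mul_apply]⟩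
  · intro u _ v _ huv
    have := congrArg (ρ g⁻¹) huv
    simpa [← Module.End.mul_apply, ← map_mul] using this
  · intro u hu
    rw [Finset.mem_coe, Set.Finite.mem_toFinset] at hu
    obtain ⟨h, rfl⟩ := hu
    refine ⟨ρ (g⁻¹ * h) a, ?_, ?_⟩
    · rw [Finset.mem_coe, Set.Finite.mem_toFinset]
      exact ⟨g⁻¹ * h, rfl⟩
    · change ρ g (ρ (g⁻¹ * h) a) = ρ h a
      rw [← Module.End.mul_apply, ← map_mul, mul_inv_cancel_left]
  · intro u _
    rfl

theorem avg_main [Finite H] (ρ : Representation k H V) (a : V) (K : Subgroup H)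
    (hK : ((Nat.card K : ℕ) : k) ≠ 0)
    (hO : ((Nat.card {u : V | ∃ h : H, ρ h a = u} : ℕ) : k) ≠ 0)
    (htrans : ∀ h : H, ∃ x ∈ K, ρ h a = ρ x a)
    (hspan : Submodule.span k {u : V | ∃ h : H, ρ h a = u} = ⊤)
    (v : V) (hv : ∀ x ∈ K, ρ x v = v) :
    v ∈ Submodule.span k {orbSum ρ a} := by
  classical
  have : Fintype K := Fintype.ofFinite K
  let E : V →ₗ[k] V := ∑ x : K, ρ (x : H)
  let s : V := ∑ x : K, ρ (x : H) a
  have hE1 : ∀ h : H, E (ρ h a) = s := by
    intro h
    obtain ⟨y, hy, hya⟩ := htrans h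
    rw [hya]
    change (∑ x : K, ρ (x : H)) (ρ y a) = ∑ x : K, ρ (x : H) a
    rw [LinearMap.sum_apply]
    apply Fintype.sum_equiv (Equiv.mulRight (⟨y, hy⟩ : K))
    intro x
    change ρ (x : H) (ρ y a) = ρ ((x * ⟨y, hy⟩ : K) : H) a
    rw [Subgroup.coe_mul, map_mul, Module.End.mul_apply]
  have hE2 : ∀ w : V, (∀ x ∈ K, ρ x w = w) → E w = ((Nat.card K : ℕ) : k) • w := by
    intro w hw
    change (∑ x : K, ρ (x : H)) w = _
    rw [LinearMap.sum_apply]
    have : ∀ x : K, ρ (x : H) w = w := fun x => hw x x.2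
    rw [Finset.sum_congr rfl (fun x _ => this x), Finset.sum_const, Finset.card_univ,
      Nat.card_eq_fintype_card, Nat.cast_smul_eq_nsmul]
  have hES : E (orbSum ρ a) = ((Nat.card {u : V | ∃ h : H, ρ h a = u} : ℕ) : k) • s := by
    unfold orbSum
    rw [map_sum]
    have : ∀ u ∈ (Set.toFinite {u : V | ∃ h : H, ρ h a = u}).toFinset, E u = s := by
      intro u hu
      rw [Set.Finite.mem_toFinset] at hu
      obtain ⟨h, rfl⟩ := hu
      exact hE1 h
    rw [Finset.sum_congr rfl this, Finset.sum_const, ← Nat.cast_smul_eq_nsmul k]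
    congr 2
    rw [Nat.card_eq_card_finite_toFinset (Set.toFinite _)]
  have hES2 : E (orbSum ρ a) = ((Nat.card K : ℕ) : k) • orbSum ρ a :=
    hE2 _ (fun x _ => orbSum_fixed ρ a x)
  have hs : s ∈ Submodule.span k {orbSum ρ a} := by
    have h1 : s = (((Nat.card {u : V | ∃ h : H, ρ h a = u} : ℕ) : k)⁻¹ * ((Nat.card K : ℕ) : k)) •
        orbSum ρ a := by
      rw [mul_smul, ← hES2, hES, smul_smul, inv_mul_cancel₀ hO, one_smul]
    rw [h1]
    exact Submodule.smul_mem _ _ (Submodule.mem_span_singleton_self _)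
  have hall : ∀ w : V, E w ∈ Submodule.span k {orbSum ρ a} := by
    intro w
    have hw : w ∈ Submodule.span k {u : V | ∃ h : H, ρ h a = u} := by rw [hspan]; trivial
    induction hw using Submodule.span_induction with
    | mem u hu =>
      obtain ⟨h, rfl⟩ := hu
      rw [hE1]; exact hs
    | zero => rw [map_zero]; exact Submodule.zero_mem _
    | add x y _ _ hx hy => rw [map_add]; exact Submodule.add_mem _ hx hy
    | smul c x _ hx => rw [map_smul]; exact Submodule.smul_mem _ _ hx
  have h2 := hall v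
  rw [hE2 v hv] at h2
  have h3 : v = (((Nat.card K : ℕ) : k))⁻¹ • (((Nat.card K : ℕ) : k) • v) := by
    rw [smul_smul, inv_mul_cancel₀ hK, one_smul]
  rw [h3]
  exact Submodule.smul_mem _ _ h2


theorem main (p : ℕ) [hp : Fact p.Prime] [CharP k p] [Finite H]
    (hsol : Cfsg.IsPSolvable p H) (ρ : Representation k H V) (a : V)
    (hfix : ∃ P : Sylow p H, ∀ x : H, x ∈ (P : Subgroup H) → ρ x a = a)
    (hspan : Submodule.span k {u : V | ∃ h : H, ρ h a = u} = ⊤) :
    Module.finrank k ρ.invariants ≤ 1 ∧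
    ∀ b : V, (Nat.card {u : V | ∃ h : H, ρ h a = u}).Coprime
      (Nat.card {u : V | ∃ h : H, ρ h b = u}) → ∀ h : H, ρ h b = b := by
  classical
  obtain ⟨P, hP⟩ := hfix
  have hPA : (P : Subgroup H) ≤ stab ρ a := fun x hx => (mem_stab ρ a x).mpr (hP x hx)
  have hAidx : ¬ p ∣ (stab ρ a).index := by
    intro h
    exact P.not_dvd_index (h.trans (Subgroup.index_dvd_of_le hPA))
  have hO : ((Nat.card {u : V | ∃ h : H, ρ h a = u} : ℕ) : k) ≠ 0 := by
    rw [orbit_card_eq_index]
    exact fun h => hAidx ((CharP.cast_eq_zero_iff k p _).mp h)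
  have hgen : ∀ K : Subgroup H, (Nat.card K).Coprime p → K.index.Coprime (stab ρ a).index →
      ∀ v : V, (∀ x ∈ K, ρ x v = v) → v ∈ Submodule.span k {orbSum ρ a} := by
    intro K hKc hKi v hv
    apply avg_main ρ a K _ hO _ hspan v hv
    · intro h
      have h1 := (CharP.cast_eq_zero_iff k p _).mp h
      exact (Nat.Prime.coprime_iff_not_dvd hp.out).mp hKc.symm h1
    · intro h
      obtain ⟨x, hx, α, hα, rfl⟩ := exists_mul_of_coprime K (stab ρ a) hKi h
      refine ⟨x, hx, ?_⟩
      rw [map_mul, Module.End.mul_apply, (mem_stab ρ a α).mp hα]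
  have hfixS : ∀ v ∈ Submodule.span k {orbSum ρ a}, ∀ h : H, ρ h v = v := by
    intro v hv h
    obtain ⟨c, rfl⟩ := Submodule.mem_span_singleton.mp hv
    rw [map_smul, orbSum_fixed]
  constructor
  · obtain ⟨⟨K, hKc, n, hKi⟩, _, _⟩ := Cfsg.Agent.S3744.result hsol
    have hle : ρ.invariants ≤ Submodule.span k {orbSum ρ a} := by
      intro v hv
      apply hgen K hKc _ v (fun x _ => (Representation.mem_invariants ρ v).mp hv x)
      rw [hKi]
      exact Nat.Coprime.pow_left n ((Nat.Prime.coprime_iff_not_dvd hp.out).mpr hAidx)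
    calc Module.finrank k ρ.invariants ≤ Module.finrank k (Submodule.span k {orbSum ρ a}) :=
          Submodule.finrank_mono hle
      _ ≤ 1 := by
        have := finrank_span_le_card (R := k) ({orbSum ρ a} : Set V)
        simpa using this
  · intro b hcop h
    rw [orbit_card_eq_index, orbit_card_eq_index] at hcop
    have hsolB := pSolvable_subgroup hsol (stab ρ b)
    obtain ⟨⟨K₀, hK₀c, j, hK₀i⟩, _, _⟩ := Cfsg.Agent.S3744.result hsolB
    apply hfixS b _ h
    apply hgen (K₀.map (stab ρ b).subtype)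
    · rw [Subgroup.card_map_of_injective (Subgroup.subtype_injective _)]
      exact hK₀c
    · rw [Subgroup.index_map_subtype, hK₀i]
      apply Nat.Coprime.mul_left
      · exact Nat.Coprime.pow_left j ((Nat.Prime.coprime_iff_not_dvd hp.out).mpr hAidx)
      · exact hcop.symm
    · intro x hx
      obtain ⟨y, _, rfl⟩ := Subgroup.mem_map.mp hx
      exact (mem_stab ρ b y).mp y.2

end

end Cfsg.Agent.Lib.Helper22.SpanOrbit
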