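import Mathlib
import Cfsg.Agent.Lib.Lead.STB.Defs
import Cfsg.Agent.Lib.Lead.STB.Defs3
import Cfsg.Agent.Lib.Helper1.STBX1

/-!
# Project STB (designer lead), part 2, rows N1 + N1b (helper22), verbatim: membership of the generators, inclusions.
-/

set_option autoImplicit false

namespace Cfsg.Agent.Lib.Lead.STB

open Cfsg.Agent.Lib.helper15.St2 Cfsg.Agent.Lib.helper3.STC Cfsg.Agent.Lib.Lead.STD

universe v w

namespace SysB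

variable {K : Type*} [Field K] {ι : Type*} [DecidableEq ι] {G : Type*} [Group G] (S : SysB K ι G)

/-! ## Block N: normalisations and decompositions relative to a signed index `o` (model: STD N1–N7) -/

section N
variable (o : ι ⊕ ι)

omit [DecidableEq ι] in
/-- N1 [S]  membership of the generators (`x_mem_XQ`, `x_mem_XQ'`, `xs_mem_XQ` of X1; model STD N1 `Helper26.STDN1`).  `ng (ng o) = o` by cases. -/
theorem x_mem_Yg (a : ι ⊕ ι) (t : K) : S.x a o t ∈ S.Yg o :=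
  S.x_mem_XQ (Q := fun _ b => b = o) rfl t

omit [DecidableEq ι] in
theorem x_mem_Yg' (b : ι ⊕ ι) (t : K) : S.x (ng o) b t ∈ S.Yg o :=
  S.x_mem_XQ' (Q := fun _ b => b = o) (ng_ng o) t

omit [DecidableEq ι] in
theorem xs_mem_Yg (t : K) : S.xs (ng o) t ∈ S.Yg o :=
  S.xs_mem_XQ (Qs := fun a => a = ng o) rfl t

omit [DecidableEq ι] in
theorem x_mem_Ag (b : ι ⊕ ι) (t : K) : S.x o b t ∈ S.Ag o :=
  S.x_mem_XQ (Q := fun a _ => a = o) rfl t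

omit [DecidableEq ι] in
theorem x_mem_Ag' (a : ι ⊕ ι) (t : K) : S.x a (ng o) t ∈ S.Ag o :=
  S.x_mem_XQ' (Q := fun a _ => a = o) (ng_ng o) t

omit [DecidableEq ι] in
theorem xs_mem_Ag (t : K) : S.xs o t ∈ S.Ag o :=
  S.xs_mem_XQ (Qs := fun a => a = o) rfl t

omit [DecidableEq ι] in
theorem x_mem_Pg {a b : ι ⊕ ι} (hb : b ≠ o) (ha : a ≠ ng o) (t : K) : S.x a b t ∈ S.Pg o :=
  S.x_mem_XQ (Q := fun a b => b ≠ o ∧ a ≠ ng o) ⟨hb, ha⟩ t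

omit [DecidableEq ι] in
theorem xs_mem_Pg {a : ι ⊕ ι} (ha : a ≠ ng o) (t : K) : S.xs a t ∈ S.Pg o :=
  S.xs_mem_XQ (Qs := fun a => a ≠ ng o) ha t

omit [DecidableEq ι] in
theorem x_mem_Lg {a b : ι ⊕ ι} (ha : a ≠ o) (ha' : a ≠ ng o) (hb : b ≠ o) (hb' : b ≠ ng o) (t : K) : S.x a b t ∈ S.Lg o :=
  S.x_mem_XQ (Q := fun a b => (a ≠ o ∧ a ≠ ng o) ∧ (b ≠ o ∧ b ≠ ng o)) ⟨⟨ha, ha'⟩, ⟨hb, hb'⟩⟩ t

omit [DecidableEq ι] in
theorem xs_mem_Lg {a : ι ⊕ ι} (ha : a ≠ o) (ha' : a ≠ ng o) (t : K) : S.xs a t ∈ S.Lg o :=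
  S.xs_mem_XQ (Qs := fun a => a ≠ o ∧ a ≠ ng o) ⟨ha, ha'⟩ t

omit [DecidableEq ι] in
/-- N1b [S]  inclusions (`XQ_mono`, `XQ_le`, `le_sup_left`; for `Ag_le_Pg`: `a = o ≠ ng o`, and `b ≠ o` as `a ≠ b`). -/
theorem Ag_le_Pg : S.Ag o ≤ S.Pg o := by
  apply S.XQ_mono
  · rintro a b hab - rfl
    exact ⟨fun h => hab h.symm, ne_ng a⟩
  · rintro a rfl
    exact ne_ng a

omit [DecidableEq ι] in
theorem Lg_le_Pg : S.Lg o ≤ S.Pg o := by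
  apply S.XQ_mono
  · rintro a b - - ⟨⟨-, ha'⟩, ⟨hb, -⟩⟩
    exact ⟨hb, ha'⟩
  · rintro a ⟨-, ha'⟩
    exact ha'

omit [DecidableEq ι] in
theorem Pg_le_Phat : S.Pg o ≤ S.Phat o := le_sup_left

omit [DecidableEq ι] in
theorem Ys_le_Yg : S.Ys o ≤ S.Yg o := by
  apply S.XQ_mono
  · rintro a b - - h
    exact h
  · rintro a h
    exact h.elim

omit [DecidableEq ι] in
theorem Yj_le_Yg (j : ι ⊕ ι) : S.Yj o j ≤ S.Yg o := by
  apply S.XQ_mono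
  · rintro a b - - ⟨h, -⟩
    exact h
  · rintro a h
    exact h

omit [DecidableEq ι] in
theorem Yjj_le_Yg (o' : ι ⊕ ι) : S.Yjj o o' ≤ S.Yg o := by
  apply S.XQ_mono
  · rintro a b - - ⟨h, -⟩
    exact h
  · rintro a h
    exact h

omit [DecidableEq ι] in
/-- (`x a o` with `a ∉ {o', ng o'}` and `o ∉ {o', ng o'}`; `xs (ng o)` with `ng o ∉ {o', ng o'}`) -/
theorem Yjj_le_Lg {o' : ι ⊕ ι} (ho' : o' ≠ o) (ho'' : o' ≠ ng o) : S.Yjj o o' ≤ S.Lg o' := by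
  apply S.XQ_mono
  · rintro a b - - ⟨rfl, ha⟩
    refine ⟨ha, fun h => ho' h.symm, fun h => ho'' ?_⟩
    rw [h, ng_ng]
  · rintro a rfl
    exact ⟨fun h => ho'' h.symm, fun h => ho' (ng_inj.1 h).symm⟩

omit [DecidableEq ι] in
/-- (`Yj j (ng o) = ⟨x c j (c ≠ ng o), xs (ng j)⟩`; `j ≠ o`, `ng j ≠ ng o`) -/
theorem Yj_le_Pg {j : ι ⊕ ι} (hj : j ≠ o) (hj' : j ≠ ng o) : S.Yj j (ng o) ≤ S.Pg o := by
  apply S.XQ_mono
  · rintro a b - - ⟨rfl, ha⟩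
    exact ⟨hj, ha⟩
  · rintro a rfl
    exact fun h => hj (ng_inj.1 h)

end N

end SysB

end Cfsg.Agent.Lib.Lead.STB
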