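import Mathlib
import Cfsg.Agent.Lib.helper17.STM.Defs
import Cfsg.Agent.Lib.helper17.STM.Defs2
import Cfsg.Agent.Lib.helper7.StC
import Cfsg.Agent.Lib.helper4.STMX1

/-!
# Project STM (designer helper17), part 2, row F18b CORE (helper22): `InD_all` with the statements of F18 `InD_mul`, `InD_mul_s` as hypotheses
(`closure_left_induction'` of `helper7.StC`, `XQ_gens_inv` of helper4's X1).  Port of `helper4.STBF18core`.
-/

set_option autoImplicit false

namespace Cfsg.Agent.Lib.helper17.STM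

open Cfsg.Agent.Lib.helper15.St2 Cfsg.Agent.Lib.helper3.STC Cfsg.Agent.Lib.Lead.STD Cfsg.Agent.Lib.helper7.St

universe v w

namespace SysM

variable {F : Type*} [Field F] {A B : F} [Fact (∀ r : F, r ^ 2 ≠ -B + A * r)] {ι : Type*} {G : Type*} [Group G] (S : SysM F A B ι G)

section F
variable (o : ι ⊕ ι)

/-- the statement of F18 `InD_one` -/
theorem stmf18b_one : S.InD o 1 :=
  Or.inl ⟨1, one_mem _, 1, one_mem _, by group⟩

/-- core of F18b `InD_all` -/
theorem stmf18b_core
    (hmul : ∀ (a b : ι ⊕ ι) (t : F) {g : G}, S.InD o g → S.InD o (S.x a b t * g))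
    (hmuls : ∀ (a : ι ⊕ ι) (t : Kq F A B) {g : G}, S.InD o g → S.InD o (S.xs a t * g))
    (hgen : S.XQ (fun _ _ => True) (fun _ => True) = ⊤) (g : G) : S.InD o g := by
  have hg : g ∈ S.XQ (fun _ _ => True) (fun _ => True) := by rw [hgen]; exact Subgroup.mem_top g
  revert g
  refine closure_left_induction' (p := fun g => S.InD o g) (S.XQ_gens_inv _ _) (S.stmf18b_one o) ?_
  rintro _ (⟨a, b, t, -, -, -, rfl⟩ | ⟨a, t, -, rfl⟩) g hg
  · exact hmul a b t hg
  · exact hmuls a t hg

end F

end SysM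

end Cfsg.Agent.Lib.helper17.STM
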