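import Cfsg.Agent.Lib.Helper19.MOD.Basic
import Cfsg.Agent.Lib.helper15.WB.EFrameEx
import Cfsg.Agent.Lib.Helper21.SUnP7

/-!
Project MOD (designer helper19; block of PSU, S2291) row G14 `mod_gen`: CORE.  The verbatim row is
`theorem mod_gen [Fintype F] (hF : Fintype.card F = q ^ 2) (hn4 : 4 ≤ n) : Hgen C = ⊤ := modg14_core C hF hn4 (iso_mem_dd C)`
(`Hgen`, `iso_mem_dd` = row G13 live in the module of block G).
-/

set_option autoImplicit false

namespace Cfsg.Agent.Lib.Helper19.MOD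

open Matrix Cfsg.Agent.Lib.helper15.SUn Cfsg.Agent.Lib.helper3.STC Cfsg.Agent.Lib.Helper27.STU
  Cfsg.Agent.Lib.helper15.St2

section rows

variable {F : Type*} [Field F] [StarRing F] {n q m : ℕ} {od : Prop} (C : Ctx F n q m od)

/-- core of G14: a subgroup of `SU_n(q)` (`n ≥ 4`) all of whose isotropic vectors are in `DD` is everything
(`helper2.SUnP2.top_of_dd` in the context `C`) -/
theorem modg14_core [Fintype F] (hF : Fintype.card F = q ^ 2) (hn4 : 4 ≤ n) {H : Subgroup ↥(Cfsg.SU n F q)}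
    (h : ∀ y : Fin n → F, Cfsg.hermForm n F q y y = 0 → y ∈ DD C.σ H) : H = ⊤ :=
  Cfsg.Agent.Lib.helper2.SUnP2.top_of_dd hF C.hσ C.hf (by omega) (fun h => by omega) h

end rows

end Cfsg.Agent.Lib.Helper19.MOD
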