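import Mathlib
import Cfsg.Prelude.Def_ChevStructure
import Cfsg.Agent.Lib.helper8.TD4.Defs
import Cfsg.Agent.Lib.helper8.ChevTwH1
import Cfsg.Agent.S1026
import Cfsg.Agent.S1024

/-!
# Project TD4 (helper8, S2376), row R1 (`U_fixed`), verbatim.

`td4r1_gen`: for any of the seven data, a diagonal element none of whose characters is `1`
centralises no non-trivial element of `U`.
-/

set_option autoImplicit false

namespace Cfsg.Agent.Lib.helper8.TD4

open Cfsg.Lie Cfsg.Lie.ChevalleyDatum Cfsg.Agent.Lib.helper8 Matrix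

universe u v

/-- moving `h` through a word in root elements multiplies the parameters by `χ` -/
theorem td4r1_word_conj {E : Type u} [Field E] (D : ChevalleyDatum)
    (h : Matrix D.Idx D.Idx E) (χ : ℕ → E)
    (hact : ∀ r < D.nroots, ∀ t : E, h * D.x E r t = D.x E r (χ r * t) * h)
    (w : List (ℕ × E)) (hw : ∀ p ∈ w, p.1 < D.nroots) :
    h * D.wordMat E w = D.wordMat E (w.map fun p => (p.1, χ p.1 * p.2)) * h := by
  induction w with
  | nil => simp [wordMat]
  | cons p w ih =>
    have ih' := ih (fun q hq => hw q (List.mem_cons_of_mem _ hq))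
    unfold wordMat at ih' ⊢
    simp only [List.map_cons, List.prod_cons]
    rw [← mul_assoc, hact p.1 (hw p List.mem_cons_self) p.2, mul_assoc, ih', ← mul_assoc]

/-- the positive roots are below `nroots` -/
theorem td4r1_pos_lt (D : ChevalleyDatum) {r : ℕ} (hr : r ∈ D.posRoots) : r < D.nroots := by
  unfold posRoots at hr
  rw [List.mem_filter, List.mem_range] at hr
  exact hr.1

/-- a word with all parameters zero is the identity -/
theorem td4r1_word_zero {E : Type u} [Field E] (D : ChevalleyDatum)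
    (hD : D ∈ [chevG2, chevB2, chevD4, chevF4, chevE6, chevE7, chevE8])
    (l : List ℕ) (hl : ∀ r ∈ l, r < D.nroots) :
    D.wordMat E (l.map fun r => (r, (0 : E))) = 1 := by
  unfold wordMat
  apply List.prod_eq_one
  intro m hm
  rw [List.map_map, List.mem_map] at hm
  obtain ⟨r, hr, rfl⟩ := hm
  exact (Cfsg.Agent.S1024.result (F := E) D hD r (hl r hr) 0).2 rfl

theorem td4r1_gen_chi {E : Type u} [Field E] (D : ChevalleyDatum)
    (hD : D ∈ [chevG2, chevB2, chevD4, chevF4, chevE6, chevE7, chevE8])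
    (h : GL D.Idx E) (χ : ℕ → E)
    (hact : ∀ r < D.nroots, ∀ t : E, (h : Matrix D.Idx D.Idx E) * D.x E r t =
      D.x E r (χ r * t) * (h : Matrix D.Idx D.Idx E))
    (hχ1 : ∀ r < D.nroots, χ r ≠ 1) (u : GL D.Idx E) (hu : u ∈ D.posUnipotent E)
    (hcomm : h * u = u * h) : u = 1 := by
  obtain ⟨t, ⟨ht0, htu⟩, huniq⟩ := (Cfsg.Agent.S1026.result (F := E) D hD).1 u hu
  have hconj := td4r1_word_conj D (h : Matrix D.Idx D.Idx E) χ hact
    (D.posRoots.map fun r => (r, t r)) (by
      intro p hp
      rw [List.mem_map] at hp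
      obtain ⟨r, hr, rfl⟩ := hp
      exact td4r1_pos_lt D hr)
  rw [List.map_map] at hconj
  have hc : (h : Matrix D.Idx D.Idx E) * (u : Matrix D.Idx D.Idx E) =
      (u : Matrix D.Idx D.Idx E) * (h : Matrix D.Idx D.Idx E) := by
    have := congrArg (fun g : GL D.Idx E => (g : Matrix D.Idx D.Idx E)) hcomm
    simpa using this
  have hinv : (h : Matrix D.Idx D.Idx E) *
      ((h⁻¹ : GL D.Idx E) : Matrix D.Idx D.Idx E) = 1 := by
    rw [← Units.val_mul, mul_inv_cancel, Units.val_one]
  have hu' : (u : Matrix D.Idx D.Idx E) =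
      D.wordMat E (D.posRoots.map fun r => (r, χ r * t r)) := by
    have e1 : (u : Matrix D.Idx D.Idx E) * (h : Matrix D.Idx D.Idx E) =
        D.wordMat E (D.posRoots.map fun r => (r, χ r * t r)) *
          (h : Matrix D.Idx D.Idx E) := by
      rw [← hc, htu]
      exact hconj
    calc (u : Matrix D.Idx D.Idx E)
        = (u : Matrix D.Idx D.Idx E) * ((h : Matrix D.Idx D.Idx E) *
            ((h⁻¹ : GL D.Idx E) : Matrix D.Idx D.Idx E)) := by
          rw [hinv, mul_one]
      _ = D.wordMat E (D.posRoots.map fun r => (r, χ r * t r)) *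
            (h : Matrix D.Idx D.Idx E) *
            ((h⁻¹ : GL D.Idx E) : Matrix D.Idx D.Idx E) := by
          rw [← mul_assoc, e1]
      _ = D.wordMat E (D.posRoots.map fun r => (r, χ r * t r)) := by
          rw [mul_assoc, hinv, mul_one]
  have ht' : (fun r => χ r * t r) = t := by
    apply huniq
    refine ⟨fun r hr => ?_, hu'⟩
    rw [ht0 r hr, mul_zero]
  have htz : ∀ r, t r = 0 := by
    intro r
    by_cases hr : D.IsPosRoot r
    · have hr12 : r < D.nroots := hr.1
      have e : χ r * t r = t r := congrFun ht' r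
      have e2 : (χ r - 1) * t r = 0 := by rw [sub_mul, e, one_mul, sub_self]
      rcases mul_eq_zero.1 e2 with h0 | h0
      · exact absurd (sub_eq_zero.1 h0) (hχ1 r hr12)
      · exact h0
    · exact ht0 r hr
  have ht_eq : t = fun _ => 0 := funext htz
  apply Units.ext
  rw [htu, ht_eq, Units.val_one]
  exact td4r1_word_zero D hD D.posRoots (fun r hr => td4r1_pos_lt D hr)

/-- the generic version of R1 -/
theorem td4r1_gen {E : Type u} [Field E] (D : ChevalleyDatum)
    (hD : D ∈ [chevG2, chevB2, chevD4, chevF4, chevE6, chevE7, chevE8]) (hB : H8Base.{u} D)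
    (h : GL D.Idx E) (hh : h ∈ D.diagonalSubgroup E)
    (h1 : ∀ r < D.nroots, h8chi D hB h r ≠ 1) (u : GL D.Idx E)
    (hu : u ∈ D.posUnipotent E) (hc : h * u = u * h) : u = 1 := by
  refine td4r1_gen_chi D hD h (fun r => h8chi D hB h r) ?_ h1 u hu hc
  intro r hr t
  have hs := (h8chi_spec D hB h hh r hr).2 t
  have e : h * h8xU D hB r t = h8xU D hB r (h8chi D hB h r * t) * h := by
    rw [← hs]
    group
  have := congrArg (fun g : GL D.Idx E => (g : Matrix D.Idx D.Idx E)) e
  simpa [h8xU_val] using this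

section R

variable {F : Type u} [Field F] (hB : H8Base.{u} chevD4)

/-- R1 [M]. Copy `Helper21/G2TB5.lean` (`U_fixed` for `G₂`) with `chevD4`, `24` and `χ r = h8chi chevD4 hB h r` (`hact` from `h8chi_spec`: `h * x_r(t) = x_r(χ t) * h`): `Cfsg.Agent.S1026.result` (unique expression of `u ∈ U` as an ordered product over the positive roots) and `Cfsg.Agent.S1024.result`. -/
theorem U_fixed (h : GL chevD4.Idx F) (hh : h ∈ chevD4.diagonalSubgroup F)
    (h1 : ∀ r < 24, h8chi chevD4 hB h r ≠ 1) (u : GL chevD4.Idx F)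
    (hu : u ∈ chevD4.posUnipotent F) (hc : h * u = u * h) : u = 1 := by
  have hD : chevD4 ∈ [chevG2, chevB2, chevD4, chevF4, chevE6, chevE7, chevE8] := by simp
  exact td4r1_gen chevD4 hD hB h hh h1 u hu hc

end R

end Cfsg.Agent.Lib.helper8.TD4
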