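import Mathlib
import Cfsg.Prelude.Def_ChevStructure
import Cfsg.Agent.Lib.helper8.TD4.Defs

/-!
# Project TD4 (helper8, S2376), row R4 (`chi_orbit_unique`): core version.

`td4r4_core` is `chi_orbit_unique` with the conclusions of A6 (`zpow_kZ_eq_self`, for
`v = χ 18`) and B8 (`chi_table`, for the given `h`) as hypotheses.
-/

set_option autoImplicit false

namespace Cfsg.Agent.Lib.helper8.TD4

open Cfsg.Lie Cfsg.Lie.ChevalleyDatum Cfsg.Agent.Lib.helper8 Matrix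

universe u v

theorem td4r4_rho_lt : ∀ r < 24, rho r < 24 := by decide +kernel

theorem td4r4_rho_six : ∀ r < 24, rho^[6] r = r := by decide +kernel

theorem td4r4_rho_orbit : rho^[2] 13 = 18 ∧ rho^[4] 12 = 18 ∧ rho^[3] 19 = 18 ∧
    rho^[4] 18 = 13 ∧ rho^[2] 18 = 12 ∧ rho^[3] 18 = 19 := by decide +kernel

/-- iterating the twisting relation -/
theorem td4r4_iter {F : Type u} [Monoid F] (χ : ℕ → F) (q : ℕ)
    (hrel : ∀ r < 24, χ (rho r) = χ r ^ q) (k : ℕ) :
    ∀ r < 24, rho^[k] r < 24 ∧ χ (rho^[k] r) = χ r ^ (q ^ k) := by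
  induction k with
  | zero =>
    intro r hr
    refine ⟨hr, ?_⟩
    rw [pow_zero, pow_one]
    rfl
  | succ k ih =>
    intro r hr
    obtain ⟨h1, h2⟩ := ih r hr
    rw [Function.iterate_succ_apply']
    refine ⟨td4r4_rho_lt _ h1, ?_⟩
    rw [hrel _ h1, h2, ← pow_mul, pow_succ]

/-- one root of the `ρ`-orbit of `18` -/
theorem td4r4_step {F : Type u} [Monoid F] (χ : ℕ → F) (q : ℕ)
    (hrel : ∀ r < 24, χ (rho r) = χ r ^ q)
    (h18 : ∀ r < 24, χ r = χ 18 → r = 18) (j i k : ℕ) (hj : j < 24)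
    (hk : rho^[k] j = 18) (hi : rho^[i] 18 = j) (hik : i + k = 6) :
    ∀ r < 24, χ r = χ j → r = j := by
  intro r hr e
  obtain ⟨hlt, h1⟩ := td4r4_iter χ q hrel k r hr
  obtain ⟨_, h2⟩ := td4r4_iter χ q hrel k j hj
  have h3 : χ (rho^[k] r) = χ 18 := by rw [h1, e, ← h2, hk]
  have h4 := h18 _ hlt h3
  have h5 : rho^[6] r = r := td4r4_rho_six r hr
  rw [← hik, Function.iterate_add_apply, h4, hi] at h5
  exact h5.symm

/-- abstract form of R4 -/
theorem td4r4_abs {F : Type u} [Monoid F] (χ : ℕ → F) (q : ℕ)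
    (hrel : ∀ r < 24, χ (rho r) = χ r ^ q)
    (h18 : ∀ r < 24, χ r = χ 18 → r = 18) :
    ∀ j ∈ [18, 13, 12, 19], ∀ r < 24, χ r = χ j → r = j := by
  obtain ⟨o1, o2, o3, o4, o5, o6⟩ := td4r4_rho_orbit
  intro j hj
  simp only [List.mem_cons, List.not_mem_nil, or_false] at hj
  rcases hj with rfl | rfl | rfl | rfl
  · exact h18
  · exact td4r4_step χ q hrel h18 13 4 2 (by norm_num) o1 o4 rfl
  · exact td4r4_step χ q hrel h18 12 2 4 (by norm_num) o2 o5 rfl
  · exact td4r4_step χ q hrel h18 19 3 3 (by norm_num) o3 o6 rfl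

section R

variable {F : Type u} [Field F] (hB : H8Base.{u} chevD4)

/-- R4 core: `chi_orbit_unique` with the conclusions of A6 (at `v = χ 18`) and B8 (for `h`) as
hypotheses -/
theorem td4r4_core (q : ℕ) (h : GL chevD4.Idx F)
    (hrel : ∀ r < 24, h8chi chevD4 hB h (rho r) = h8chi chevD4 hB h r ^ q)
    (hA6 : ∀ r < 24, h8chi chevD4 hB h 18 ^ kZ q r = h8chi chevD4 hB h 18 → r = 18)
    (hB8 : ∀ r < 24, h8chi chevD4 hB h r = h8chi chevD4 hB h 18 ^ kZ q r) :
    ∀ j ∈ [18, 13, 12, 19], ∀ r < 24, h8chi chevD4 hB h r = h8chi chevD4 hB h j → r = j := by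
  refine td4r4_abs (fun r => h8chi chevD4 hB h r) q hrel ?_
  intro r hr e
  apply hA6 r hr
  rw [← hB8 r hr]
  exact e

end R

end Cfsg.Agent.Lib.helper8.TD4
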