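import Mathlib
import Cfsg.Prelude.Def_ChevStructure
import Cfsg.Agent.Lib.helper8.TD4.Defs
import Cfsg.Agent.Lib.helper8.ChevBr4
import Cfsg.Agent.Lib.helper8.ChevBNAll
import Cfsg.Agent.Lib.helper8.ChevBNAll2
import Cfsg.Agent.Lib.helper8.ChevBaseAll
import Cfsg.Agent.Lib.helper8.ChevCommAll
import Cfsg.Agent.Lib.helper8.ChevOrdAll
import Cfsg.Agent.Lib.helper8.ChevReflAll

/-!
# Project TD4 (helper8, S2376), row R5 (`cent_regular`): core version.

`td4r5_gen` is the statement for an arbitrary datum with the toolkit hypotheses and with the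
conclusions of R1 (`U_fixed`) and R3 (`N_fixed`) for the given `h` taken as hypotheses `hU`, `hN`;
`td4r5_core` is its `chevD4` instance.
-/

set_option autoImplicit false

namespace Cfsg.Agent.Lib.helper8.TD4

open Cfsg.Lie Cfsg.Lie.ChevalleyDatum Cfsg.Agent.Lib.helper8 Matrix

universe u v

theorem td4r5_gen {F : Type u} [Field F] (D : ChevalleyDatum) (hB : H8Base.{u} D)
    (hA : H8ReflAll D) (hC : H8CommAll.{u} D) (hBN : H8BN D) (hW : H8BN2 D) (hO : H8Ord D)
    (h : GL D.Idx F) (hh' : h ∈ D.diagonalSubgroup F)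
    (hU : ∀ u : GL D.Idx F, u ∈ D.posUnipotent F → h * u = u * h → u = 1)
    (hN : ∀ n : GL D.Idx F, n ∈ D.monomialSubgroup F → h * n = n * h →
      n ∈ D.diagonalSubgroup F)
    (g : GL D.Idx F) (hg : g ∈ D.group F) (hcomm : h * g = g * h) :
    g ∈ D.diagonalSubgroup F := by
  have hHN : D.diagonalSubgroup F ≤ D.monomialSubgroup F := by
    unfold ChevalleyDatum.monomialSubgroup
    exact le_sup_left
  obtain ⟨b, hb, n, hn, u, hu, rfl⟩ := h8normal_exists D hB hA hC hBN hW hO g hg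
  have hmemB : b ∈ ((D.posUnipotent F ⊔ D.diagonalSubgroup F :
      Subgroup (GL D.Idx F)) : Set (GL D.Idx F)) := hb
  rw [Subgroup.coe_mul_of_right_le_normalizer_left _ _ (h8_H_le_normalizer_U D hB)] at hmemB
  obtain ⟨u1, hu1, t, ht, rfl⟩ := hmemB
  have e : u1 * (t * n * 1) * u = (h * u1 * h⁻¹) * ((h * t) * n * h⁻¹) * (h * u * h⁻¹) := by
    have e1 : (h * u1 * h⁻¹) * ((h * t) * n * h⁻¹) * (h * u * h⁻¹) =
        h * (u1 * t * n * u) * h⁻¹ := by group
    rw [e1, hcomm]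
    group
  have huL : u ∈ Subgroup.closure (h8UmSet D F (t * n * 1)) :=
    Subgroup.closure_mono (h8UmSet_mono_H D hB n t 1 ht (Subgroup.one_mem _)) hu
  have hinv : h⁻¹ ∈ D.diagonalSubgroup F := Subgroup.inv_mem _ hh'
  have huR : h * u * h⁻¹ ∈ Subgroup.closure (h8UmSet D F ((h * t) * n * h⁻¹)) :=
    Subgroup.closure_mono
      (h8UmSet_mono_H D hB n (h * t) h⁻¹ (Subgroup.mul_mem _ hh' ht) hinv)
      (h8Um_conj_H D hB n h hh' u hu)
  have hu1R : h * u1 * h⁻¹ ∈ D.posUnipotent F :=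
    (Subgroup.mem_normalizer_iff.mp (h8_H_le_normalizer_U D hB hh') u1).mp hu1
  obtain ⟨hnn, hu1e, hue⟩ := h8normal_unique_strong D hB hA hC hBN u1 (h * u1 * h⁻¹)
    (t * n * 1) ((h * t) * n * h⁻¹) u (h * u * h⁻¹) hu1 hu1R
    (Subgroup.mul_mem _ (Subgroup.mul_mem _ (hHN ht) hn) (Subgroup.one_mem _))
    (Subgroup.mul_mem _ (Subgroup.mul_mem _ (Subgroup.mul_mem _ (hHN hh') (hHN ht)) hn)
      (hHN hinv))
    huL huR e
  have c1 : h * u1 = u1 * h := by
    have : h * u1 = (h * u1 * h⁻¹) * h := by group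
    rw [this, ← hu1e]
  have c2 : h * u = u * h := by
    have : h * u = (h * u * h⁻¹) * h := by group
    rw [this, ← hue]
  have c3 : h * (t * n) = (t * n) * h := by
    have : h * (t * n) = ((h * t) * n * h⁻¹) * h := by group
    rw [this, ← hnn]
    group
  have h1 : u1 = 1 := hU u1 hu1 c1
  have h2 : u = 1 := hU u (h8Um_le_U D n hu) c2
  have h3 : t * n ∈ D.diagonalSubgroup F :=
    hN (t * n) (Subgroup.mul_mem _ (hHN ht) hn) c3
  have : u1 * t * n * u = t * n := by rw [h1, h2]; group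
  rw [this]
  exact h3

/-- R5 core: `cent_regular` with the conclusions of R1 (`U_fixed`) and R3 (`N_fixed`) for the
given `h` as hypotheses -/
theorem td4r5_core {F : Type u} [Field F] (h : GL chevD4.Idx F)
    (hh : h ∈ chevD4.diagonalSubgroup F)
    (hU : ∀ u : GL chevD4.Idx F, u ∈ chevD4.posUnipotent F → h * u = u * h → u = 1)
    (hN : ∀ n : GL chevD4.Idx F, n ∈ chevD4.monomialSubgroup F → h * n = n * h →
      n ∈ chevD4.diagonalSubgroup F)
    (g : GL chevD4.Idx F) (hg : g ∈ chevD4.group F) (hc : h * g = g * h) :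
    g ∈ chevD4.diagonalSubgroup F := by
  have hD : chevD4 ∈ [chevG2, chevB2, chevD4, chevF4, chevE6, chevE7, chevE8] := by simp
  exact td4r5_gen chevD4 (h8base_all.{u} chevD4 hD) (h8reflAll chevD4 hD)
    (h8commAll.{u} chevD4 hD) (h8bn_all chevD4 hD) (h8bn2_all chevD4 hD)
    (h8ord_all chevD4 hD).1 h hh hU hN g hg hc

end Cfsg.Agent.Lib.helper8.TD4
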