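import Cfsg.Agent.Lib.helper7.TO.Basic

/-!
# Project TO (S5704, leader helper7), piece COMMA (helper22) : `commA` VERBATIM vs `helper7/TO/Skel`.
-/

set_option autoImplicit false
set_option linter.unusedVariables false
set_option linter.unusedSectionVars false

namespace Cfsg.Agent.Lib.helper7.TO

open Matrix Cfsg.Agent.Lib.helper7.TP Cfsg.Agent.Lib.Helper28.SympAbs
open scoped Kronecker

variable {a b : ℕ} {F : Type*} [Field F]

theorem tocomma_ctrA_sub (φ : Fin a → F) (v v' : Fin a × Fin b → F) :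
    ctrA φ (v - v') = ctrA φ v - ctrA φ v' := by
  funext j
  simp [ctrA, sub_mul, Finset.sum_sub_distrib]

/-- the action of `τ_u(c) ⊗ 1` on an arbitrary vector. -/
theorem tocomma_tvA_mulVec (C : Ctx a b F) (u : Fin a → F) (c : F) (X : Fin a × Fin b → F) :
    ((C.tvA u c : Matrix.GeneralLinearGroup (Fin a × Fin b) F) :
      Matrix (Fin a × Fin b) (Fin a × Fin b) F) *ᵥ X = X + c • ten u (ctrA (C.fl₁ u) X) := by
  rw [Ctx.tvA, ER_coe, ERm_mulVec, Matrix.smul_mulVec, Matrix.one_mulVec, ten_smul_right]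

/-- the action of `(τ_u(c) ⊗ 1)⁻¹` on an arbitrary vector. -/
theorem tocomma_tvA_inv_mulVec (C : Ctx a b F) (u : Fin a → F) (c : F) (X : Fin a × Fin b → F) :
    (((C.tvA u c)⁻¹ : Matrix.GeneralLinearGroup (Fin a × Fin b) F) :
      Matrix (Fin a × Fin b) (Fin a × Fin b) F) *ᵥ X = X - c • ten u (ctrA (C.fl₁ u) X) := by
  have : (((C.tvA u c)⁻¹ : Matrix.GeneralLinearGroup (Fin a × Fin b) F) :
      Matrix (Fin a × Fin b) (Fin a × Fin b) F) =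
      ERm (-(c • (1 : Matrix (Fin b) (Fin b) F))) u (C.fl₁ u) := rfl
  rw [this, ERm_mulVec, Matrix.neg_mulVec, Matrix.smul_mulVec, Matrix.one_mulVec, ten_neg_right,
    ten_smul_right, sub_eq_add_neg]

/-- two vectors of `B` with the same `f₂`-products are equal. -/
theorem tocomma_ext₂ (C : Ctx a b F) (t t' : Fin b → F)
    (h : ∀ y' : Fin b → F, C.f₂ t y' = C.f₂ t' y') : t = t' := by
  by_contra hne
  have hne' : t - t' ≠ 0 := sub_ne_zero.mpr hne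
  obtain ⟨y', hy'⟩ := (C.hf₂.nondegenerate _ hne').2
  apply hy'
  rw [f_sub_left C.hf₂, h, sub_self]

/-- `f₂ s (ζ y') = f₂ (adj₂ ζ s) y'`. -/
theorem tocomma_adj_right (C : Ctx a b F) (ζ : Matrix (Fin b) (Fin b) F) (s y' : Fin b → F) :
    C.f₂ s (ζ *ᵥ y') = C.f₂ (C.adj₂ ζ *ᵥ s) y' := by
  rw [C.hf₂.skew, C.f₂_adj, C.hf₂.skew, neg_neg]

/-- the contraction of `h⁻¹ X` along `x₁`, for an isometry `h` with `h (x₁ ⊗ y) = x₁ ⊗ y + u ⊗ ζ y`. -/
theorem tocomma_t (C : Ctx a b F) (h : Matrix.GeneralLinearGroup (Fin a × Fin b) F) (hh : h ∈ C.G)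
    (u x₁ : Fin a → F) (ζ : Matrix (Fin b) (Fin b) F)
    (hζ : ∀ y : Fin b → F,
      (h : Matrix (Fin a × Fin b) (Fin a × Fin b) F) *ᵥ ten x₁ y = ten x₁ y + ten u (ζ *ᵥ y))
    (X : Fin a × Fin b → F) :
    ctrA (C.fl₁ x₁) (((h⁻¹ : Matrix.GeneralLinearGroup (Fin a × Fin b) F) :
      Matrix (Fin a × Fin b) (Fin a × Fin b) F) *ᵥ X) =
      ctrA (C.fl₁ x₁) X + C.adj₂ ζ *ᵥ ctrA (C.fl₁ u) X := by
  apply tocomma_ext₂ C
  intro y'
  rw [← C.f_ten_right_A, C.G_f_inv hh, hζ, C.hf.add_right, C.f_ten_right_A, C.f_ten_right_A,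
    C.hf₂.bilinear.add_left, tocomma_adj_right]

/-- NTSA1: the commutator of an element of `Q_{u ⊗ B}` with `τ_{x₁} ⊗ 1`. -/
theorem commA (C : Ctx a b F) (h : Matrix.GeneralLinearGroup (Fin a × Fin b) F) (hh : h ∈ C.G)
    (u x₁ : Fin a → F) (hx₁ : C.f₁ x₁ u = 0) (ζ : Matrix (Fin b) (Fin b) F)
    (hζ : ∀ y : Fin b → F,
      (h : Matrix (Fin a × Fin b) (Fin a × Fin b) F) *ᵥ ten x₁ y = ten x₁ y + ten u (ζ *ᵥ y))
    (c : F) :
    C.IsHA (h * C.tvA x₁ c * h⁻¹ * (C.tvA x₁ c)⁻¹) (c • ζ) (c • C.adj₂ ζ) (c • (ζ * C.adj₂ ζ))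
      u x₁ := by
  intro x y
  rw [Units.val_mul, Units.val_mul, Units.val_mul, ← Matrix.mulVec_mulVec, ← Matrix.mulVec_mulVec,
    ← Matrix.mulVec_mulVec]
  -- `X = τ⁻¹ (x ⊗ y)`
  have hX : (((C.tvA x₁ c)⁻¹ : Matrix.GeneralLinearGroup (Fin a × Fin b) F) :
      Matrix (Fin a × Fin b) (Fin a × Fin b) F) *ᵥ ten x y =
      ten x y - (c * C.f₁ x x₁) • ten x₁ y := by
    rw [tocomma_tvA_inv_mulVec, C.ctrA_fl₁_ten, ten_smul_right, smul_smul]
  rw [hX]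
  set X := ten x y - (c * C.f₁ x x₁) • ten x₁ y with hXdef
  have h1 : ctrA (C.fl₁ x₁) X = C.f₁ x x₁ • y := by
    rw [hXdef, tocomma_ctrA_sub, ctrA_smul, C.ctrA_fl₁_ten, C.ctrA_fl₁_ten, C.hf₁.alternating,
      zero_smul, smul_zero, sub_zero]
  have h2 : ctrA (C.fl₁ u) X = C.f₁ x u • y := by
    rw [hXdef, tocomma_ctrA_sub, ctrA_smul, C.ctrA_fl₁_ten, C.ctrA_fl₁_ten, hx₁,
      zero_smul, smul_zero, sub_zero]
  rw [tocomma_tvA_mulVec, tocomma_t C h hh u x₁ ζ hζ X, h1, h2, Matrix.mulVec_add,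
    Matrix.mulVec_smul, Ctx.mulVec_inv_mulVec, hζ, hXdef]
  simp only [Matrix.mulVec_add, Matrix.mulVec_smul, Matrix.smul_mulVec, Matrix.mulVec_mulVec,
    ten_add_right, ten_smul_right, smul_add, smul_smul]
  module

end Cfsg.Agent.Lib.helper7.TO
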