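import Mathlib
import Cfsg.Prelude.Def_GeometricClasses
import Cfsg.Agent.Lib.Helper27.ASC.Defs
import Cfsg.Agent.Lib.helper23.ASCO.Defs
import Cfsg.Agent.Lib.Lead.Reindex

/-!
# Project ASCO, piece DESC : descent for a semilinear involution
-/

set_option autoImplicit false
set_option linter.unusedVariables false
set_option linter.unusedSectionVars false
set_option linter.style.haveILetI false

namespace Cfsg.Agent.Lib.helper23.ASCO

open Cfsg Cfsg.Geo Cfsg.Agent.Lib.Helper27.ASC
open scoped MatrixGroups Matrix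

variable {n : ℕ} {F : Type*} [Field F] [Fintype F]

/-- DESC : descent for a semilinear involution: `S σ(S) = 1` (σ of order two) gives an invertible `M` with `S σ(M) = M`. -/
theorem semilinear_descent (σ : F ≃+* F) (hσ1 : σ ≠ RingEquiv.refl F) (hσ : ∀ a : F, σ (σ a) = a)
    (S : Matrix (Fin n) (Fin n) F) (hS : S * S.map σ = 1) :
    ∃ M : GL (Fin n) F, S * (M : Matrix (Fin n) (Fin n) F).map σ = (M : Matrix (Fin n) (Fin n) F) := by
  classical
  obtain ⟨ε, hε⟩ : ∃ ε : F, σ ε ≠ ε := by
    by_contra h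
    apply hσ1
    apply RingEquiv.ext
    intro x
    by_contra hx
    exact h ⟨x, hx⟩
  have hδ : σ ε - ε ≠ 0 := fun h => hε (sub_eq_zero.mp h)
  -- the semilinear involution
  let T : (Fin n → F) → (Fin n → F) := fun v => S *ᵥ (σ ∘ v)
  have hTadd : ∀ v w, T (v + w) = T v + T w := by
    intro v w
    have : σ ∘ (v + w) = σ ∘ v + σ ∘ w := by
      ext i
      simp
    show S *ᵥ (σ ∘ (v + w)) = S *ᵥ (σ ∘ v) + S *ᵥ (σ ∘ w)
    rw [this, Matrix.mulVec_add]
  have hTsmul : ∀ (a : F) v, T (a • v) = σ a • T v := by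
    intro a v
    have : σ ∘ (a • v) = σ a • (σ ∘ v) := by
      ext i
      simp
    show S *ᵥ (σ ∘ (a • v)) = σ a • (S *ᵥ (σ ∘ v))
    rw [this, Matrix.mulVec_smul]
  have hTT : ∀ v, T (T v) = v := by
    intro v
    have h1 : σ ∘ (S *ᵥ (σ ∘ v)) = S.map σ *ᵥ (σ ∘ (σ ∘ v)) := by
      ext i
      exact RingHom.map_mulVec (σ : F →+* F) S (σ ∘ v) i
    have h2 : σ ∘ (σ ∘ v) = v := by
      ext i
      exact hσ (v i)
    show S *ᵥ (σ ∘ (S *ᵥ (σ ∘ v))) = v
    rw [h1, h2, Matrix.mulVec_mulVec, hS, Matrix.one_mulVec]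
  -- the fixed vectors span
  have hspan : ⊤ ≤ Submodule.span F {v : Fin n → F | T v = v} := by
    intro v _
    have h1 : v + T v ∈ {v : Fin n → F | T v = v} := by
      show T (v + T v) = v + T v
      rw [hTadd, hTT, add_comm]
    have h2 : ε • v + T (ε • v) ∈ {v : Fin n → F | T v = v} := by
      show T (ε • v + T (ε • v)) = ε • v + T (ε • v)
      rw [hTadd, hTT, add_comm]
    have e : v = (σ ε - ε)⁻¹ • (σ ε • (v + T v) - (ε • v + T (ε • v))) := by
      have : σ ε • (v + T v) - (ε • v + T (ε • v)) = (σ ε - ε) • v := by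
        rw [hTsmul, smul_add, sub_smul]
        abel
      rw [this, smul_smul, inv_mul_cancel₀ hδ, one_smul]
    rw [e]
    exact Submodule.smul_mem _ _ (Submodule.sub_mem _
      (Submodule.smul_mem _ _ (Submodule.subset_span h1)) (Submodule.subset_span h2))
  -- a basis of fixed vectors
  let b := Module.Basis.ofSpan hspan
  have hb : ∀ x, T (b x) = b x := fun x => Module.Basis.ofSpan_subset hspan ⟨x, rfl⟩
  haveI : Fintype ↑((linearIndepOn_empty F id).extend
      (Set.empty_subset {v : Fin n → F | T v = v})) := FiniteDimensional.fintypeBasisIndex b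
  have hcard : Fintype.card ↑((linearIndepOn_empty F id).extend
      (Set.empty_subset {v : Fin n → F | T v = v})) = n := by
    rw [← Module.finrank_eq_card_basis b]
    simp
  let b' := b.reindex (Fintype.equivFinOfCardEq hcard)
  have hb' : ∀ j, T (b' j) = b' j := by
    intro j
    show T (b.reindex (Fintype.equivFinOfCardEq hcard) j) = b.reindex (Fintype.equivFinOfCardEq hcard) j
    rw [Module.Basis.reindex_apply]
    exact hb _
  have hunit : IsUnit ((Pi.basisFun F (Fin n)).toMatrix b') := by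
    rw [Matrix.isUnit_iff_isUnit_det, ← Module.Basis.det_apply]
    exact Module.Basis.isUnit_det _ b'
  refine ⟨hunit.unit, ?_⟩
  rw [IsUnit.unit_spec]
  ext i j
  have h1 := congrFun (hb' j) i
  rw [Matrix.mul_apply]
  simp only [Matrix.map_apply, Module.Basis.toMatrix_apply, Pi.basisFun_repr]
  exact h1

end Cfsg.Agent.Lib.helper23.ASCO
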