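import Mathlib
import Cfsg.Prelude.Def_GeometricClasses
import Cfsg.Agent.Lib.Helper27.ASC.Defs
import Cfsg.Agent.Lib.helper23.ASCO.Defs
import Cfsg.Agent.Lib.Lead.Reindex

/-!
# Project ASCO, piece NORMS : the norm of a quadratic extension of finite fields is onto the fixed field
-/

set_option autoImplicit false
set_option linter.unusedVariables false
set_option linter.unusedSectionVars false
set_option linter.style.haveILetI false

namespace Cfsg.Agent.Lib.helper23.ASCO

open Cfsg Cfsg.Geo Cfsg.Agent.Lib.Helper27.ASC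
open scoped MatrixGroups Matrix

variable {n : ℕ} {F : Type*} [Field F] [Fintype F]

/-- the fixed field of a field automorphism -/
def asconormsFix (σ : F ≃+* F) : Subfield F where
  carrier := {x | σ x = x}
  mul_mem' := fun {a b} (ha : σ a = a) (hb : σ b = b) => by
    change σ (a * b) = a * b
    rw [map_mul, ha, hb]
  one_mem' := map_one σ
  add_mem' := fun {a b} (ha : σ a = a) (hb : σ b = b) => by
    change σ (a + b) = a + b
    rw [map_add, ha, hb]
  zero_mem' := map_zero σ
  neg_mem' := fun {a} (ha : σ a = a) => by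
    change σ (-a) = -a
    rw [map_neg, ha]
  inv_mem' := fun a (ha : σ a = a) => by
    change σ a⁻¹ = a⁻¹
    rw [map_inv₀, ha]

theorem asconorms_mem_fix (σ : F ≃+* F) (x : F) : x ∈ asconormsFix σ ↔ σ x = x := Iff.rfl

/-- `F = F₀ ⊕ F₀ ε` for the fixed field `F₀` of an involution `σ` with `σ ε ≠ ε` -/
theorem asconorms_decomp (σ : F ≃+* F) (hσ : ∀ a : F, σ (σ a) = a) (ε : F) (hε : σ ε ≠ ε) (x : F) :
    ∃ a ∈ asconormsFix σ, ∃ b ∈ asconormsFix σ, x = b + a * ε := by
  have hδ : ε - σ ε ≠ 0 := fun h => hε (sub_eq_zero.mp h).symm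
  have hδ' : σ ε - ε ≠ 0 := fun h => hε (sub_eq_zero.mp h)
  refine ⟨(x - σ x) / (ε - σ ε), ?_, x - (x - σ x) / (ε - σ ε) * ε, ?_, by ring⟩
  · rw [asconorms_mem_fix, map_div₀, map_sub, map_sub, hσ, hσ]
    rw [div_eq_div_iff hδ' hδ]
    ring
  · have ha : σ ((x - σ x) / (ε - σ ε)) = (x - σ x) / (ε - σ ε) := by
      rw [map_div₀, map_sub, map_sub, hσ, hσ, div_eq_div_iff hδ' hδ]
      ring
    rw [asconorms_mem_fix, map_sub, map_mul, ha]
    field_simp
    ring

/-- the cardinality of `F` is the square of that of the fixed field -/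
theorem asconorms_card (σ : F ≃+* F) (hσ1 : σ ≠ RingEquiv.refl F) (hσ : ∀ a : F, σ (σ a) = a) :
    Nat.card F = Nat.card ↥(asconormsFix σ) ^ 2 := by
  obtain ⟨ε, hε⟩ : ∃ ε : F, σ ε ≠ ε := by
    by_contra h
    apply hσ1
    apply RingEquiv.ext
    intro x
    by_contra hx
    exact h ⟨x, hx⟩
  have hbij : Function.Bijective
      (fun pr : ↥(asconormsFix σ) × ↥(asconormsFix σ) => (pr.2 : F) + (pr.1 : F) * ε) := by
    constructor
    · rintro ⟨⟨a, ha⟩, ⟨b, hb⟩⟩ ⟨⟨a', ha'⟩, ⟨b', hb'⟩⟩ h
      simp only at h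
      have haa : a = a' := by
        by_contra hne
        have hne' : a - a' ≠ 0 := sub_ne_zero.mpr hne
        have e : ε = (b' - b) / (a - a') := by
          rw [eq_div_iff hne']
          linear_combination h
        apply hε
        have hmem : (b' - b) / (a - a') ∈ asconormsFix σ :=
          Subfield.div_mem _ (Subfield.sub_mem _ hb' hb) (Subfield.sub_mem _ ha ha')
        rw [e]
        exact hmem
      subst haa
      have hbb : b = b' := by
        have := h
        simpa using this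
      subst hbb
      rfl
    · intro x
      obtain ⟨a, ha, b, hb, e⟩ := asconorms_decomp σ hσ ε hε x
      exact ⟨(⟨a, ha⟩, ⟨b, hb⟩), e.symm⟩
  rw [← Nat.card_congr (Equiv.ofBijective _ hbij), Nat.card_prod, sq]

/-- an involution of a finite field is the Frobenius of its fixed field -/
theorem asconorms_frob (σ : F ≃+* F) (hσ1 : σ ≠ RingEquiv.refl F) (hσ : ∀ a : F, σ (σ a) = a)
    (x : F) : σ x = x ^ Nat.card ↥(asconormsFix σ) := by
  classical
  letI : Fintype ↥(asconormsFix σ) := Fintype.ofFinite _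
  have hcard := asconorms_card σ hσ1 hσ
  have hq2 : 2 ≤ Nat.card ↥(asconormsFix σ) := by
    rw [← Fintype.card_eq_nat_card]
    exact Fintype.one_lt_card
  -- the degree is two
  have hfr : Module.finrank ↥(asconormsFix σ) F = 2 := by
    have h1 := Module.card_eq_pow_finrank (K := ↥(asconormsFix σ)) (V := F)
    rw [Fintype.card_eq_nat_card, Fintype.card_eq_nat_card, hcard] at h1
    exact (Nat.pow_right_injective hq2 h1).symm
  -- `σ` as an automorphism over the fixed field
  let τ : F ≃ₐ[↥(asconormsFix σ)] F := AlgEquiv.ofRingEquiv (f := σ) (fun a => a.2)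
  obtain ⟨i, hi⟩ := (FiniteField.bijective_frobeniusAlgEquivOfAlgebraic_pow ↥(asconormsFix σ) F).2 τ
  have hi' : ∀ y : F, σ y = y ^ (Fintype.card ↥(asconormsFix σ) ^ i.1) := by
    intro y
    have h2 := congrArg (fun f : F ≃ₐ[↥(asconormsFix σ)] F => f y) hi
    simp only at h2
    rw [AlgEquiv.coe_pow, FiniteField.coe_frobeniusAlgEquivOfAlgebraic_iterate] at h2
    exact h2.symm
  have hi2 : i.1 < 2 := by
    have := i.2
    omega
  have hi0 : i.1 ≠ 0 := by
    intro h0
    apply hσ1
    apply RingEquiv.ext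
    intro y
    rw [hi' y, h0, pow_zero, pow_one]
    rfl
  have hi1 : i.1 = 1 := by omega
  rw [hi' x, hi1, pow_one, Fintype.card_eq_nat_card]

/-- NORMS : the norm of a quadratic extension of finite fields is onto the fixed field. -/
theorem norm_surjective_of_involution (σ : F ≃+* F) (hσ1 : σ ≠ RingEquiv.refl F)
    (hσ : ∀ a : F, σ (σ a) = a) (c : F) (hc : σ c = c) : ∃ d : F, d * σ d = c := by
  classical
  have hcard := asconorms_card σ hσ1 hσ
  have hq2 : 2 ≤ Nat.card ↥(asconormsFix σ) := by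
    letI : Fintype ↥(asconormsFix σ) := Fintype.ofFinite _
    rw [← Fintype.card_eq_nat_card]
    exact Fintype.one_lt_card
  obtain ⟨x, hx⟩ := FiniteField.norm_surjective ↥(asconormsFix σ) F ⟨c, hc⟩
  have h1 := FiniteField.algebraMap_norm_eq_pow (K := ↥(asconormsFix σ)) (K' := F) (x := x)
  rw [hx, hcard] at h1
  have hdiv : (Nat.card ↥(asconormsFix σ) ^ 2 - 1) / (Nat.card ↥(asconormsFix σ) - 1) =
      Nat.card ↥(asconormsFix σ) + 1 := by
    obtain ⟨k, hk⟩ : ∃ k, Nat.card ↥(asconormsFix σ) = k + 2 := ⟨_, (Nat.sub_add_cancel hq2).symm⟩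
    rw [hk]
    apply Nat.div_eq_of_eq_mul_left (by omega)
    have : (k + 2) ^ 2 - 1 = (k + 2 + 1) * (k + 2 - 1) := by
      have h3 : k + 2 - 1 = k + 1 := by omega
      rw [h3]
      have h4 : (k + 2) ^ 2 = (k + 2 + 1) * (k + 1) + 1 := by ring
      rw [h4]
      rfl
    exact this
  rw [hdiv] at h1
  refine ⟨x, ?_⟩
  rw [asconorms_frob σ hσ1 hσ x, ← pow_succ', ← h1]
  rfl

end Cfsg.Agent.Lib.helper23.ASCO
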