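import Mathlib
import Cfsg.Prelude.Def_ChevStructure
import Cfsg.Agent.Lib.helper8.BTT.Defs

/-!
Project BTT row GEN3: `Par` and `Lev` contain `1` and are closed under products; `Lev ℓ ℓ ⊆ Par ℓ`.
-/

set_option autoImplicit false

namespace Cfsg.Agent.Lib.helper8.BTT

open Cfsg.Lie Cfsg.Lie.ChevalleyDatum

universe u

section gen
variable {ι : Type*} [Fintype ι] [DecidableEq ι] {F : Type*} [Field F]

/-- a non-zero entry of a product comes from a pair of non-zero entries -/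
theorem bttgen3_mul_entry (M M' : Matrix ι ι F) (i j : ι) (h : (M * M') i j ≠ 0) :
    ∃ k, M i k ≠ 0 ∧ M' k j ≠ 0 := by
  rw [Matrix.mul_apply] at h
  obtain ⟨k, -, hk⟩ := Finset.exists_ne_zero_of_sum_ne_zero h
  exact ⟨k, left_ne_zero_of_mul hk, right_ne_zero_of_mul hk⟩

/-- GEN3 [S] -/
theorem par_one (ℓ : ι → ℝ) : Par ℓ (1 : Matrix ι ι F) := by
  intro i j h
  by_cases hij : i = j
  · rw [hij]
  · exact absurd (Matrix.one_apply_ne hij) h

theorem par_mul (ℓ : ι → ℝ) (M M' : Matrix ι ι F) (h : Par ℓ M) (h' : Par ℓ M') :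
    Par ℓ (M * M') := by
  intro i j hij
  obtain ⟨k, h1, h2⟩ := bttgen3_mul_entry M M' i j hij
  exact (h' k j h2).trans (h i k h1)

theorem lev_one (ℓ : ι → ℝ) : Lev ℓ ℓ (1 : Matrix ι ι F) := by
  intro i j h
  by_cases hij : i = j
  · rw [hij]
  · exact absurd (Matrix.one_apply_ne hij) h

theorem lev_mul (ℓ ℓ' ℓ'' : ι → ℝ) (M M' : Matrix ι ι F) (h : Lev ℓ ℓ' M) (h' : Lev ℓ' ℓ'' M') :
    Lev ℓ ℓ'' (M' * M) := by
  intro i j hij
  obtain ⟨k, h1, h2⟩ := bttgen3_mul_entry M' M i j hij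
  exact (h' i k h1).trans (h k j h2)

theorem lev_par (ℓ : ι → ℝ) (M : Matrix ι ι F) (h : Lev ℓ ℓ M) : Par ℓ M := by
  intro i j hij
  exact (h i j hij).ge

end gen

end Cfsg.Agent.Lib.helper8.BTT
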