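import Mathlib
import Cfsg.Agent.Lib.Helper10.BGL.FldDefs
import Cfsg.Agent.Lib.helper8.ChevK
import Cfsg.Agent.Lib.helper8.ChevW0
import Cfsg.Agent.Lib.helper8.ChevTwP1
import Cfsg.Agent.Lib.helper8.ChevReflAll
import Cfsg.Agent.Lib.helper8.ChevCent2
import Cfsg.Agent.Lib.helper8.ChevOrbAll
import Cfsg.Agent.Lib.helper8.ChevNgen

/-!
# Project BGL (designer helper10), block FLD, rows FL2 (`aset_refl`, `aset_word`) and FL3 (`aset_simple`), VERBATIM (helper22)
-/

set_option autoImplicit false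
set_option linter.unusedSectionVars false

namespace Cfsg.Agent.Lib.Helper10.BGL

open Cfsg.Lie Cfsg.Lie.ChevalleyDatum Cfsg.Agent.Lib.helper8

universe u

variable {K : Type u} [Field K] [Finite K]

omit [Finite K] in
/-- the Weyl element `n_{p_i}(1)` lies in `L(k)` -/
theorem bglfl2_n_mem (p : ℕ) [Fact p.Prime] [CharP K p] (D : ChevalleyDatum) (hB : H8Base.{u} D) (a : ℕ) (r : ℕ) :
    h8nU D hB r (1 : K) ∈ Lq D K (p ^ a) := by
  unfold h8nU
  apply h8wordU_mem_of
  intro pr hpr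
  apply x_mem_Lq D (p ^ a) pr.1 pr.2 _ _ (h8xU_val D hB pr.1 pr.2)
  unfold ChevalleyDatum.nWord at hpr
  simp only [List.mem_cons, List.not_mem_nil, or_false] at hpr
  rcases hpr with rfl | rfl | rfl
  · exact one_pow _
  · show (-(1 : K)⁻¹) ^ (p ^ a) = -(1 : K)⁻¹
    rw [inv_one, neg_one_pow_char_pow]
  · exact one_pow _

omit [Finite K] in
/-- one inclusion of FL2 -/
theorem bglfl2_sub (p : ℕ) [Fact p.Prime] [CharP K p] (D : ChevalleyDatum)
    (hD : D ∈ [chevG2, chevB2, chevD4, chevF4, chevE6, chevE7, chevE8]) (a : ℕ)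
    (H : Subgroup (GL D.Idx K)) (hL : Lq D K (p ^ a) ≤ H) (i s : ℕ) (hi : i < D.rank)
    (hs : s < D.nroots) : Aset D H s ⊆ Aset D H (D.reflectRoot i s) := by
  have hB : H8Base.{u} D := h8base_all D hD
  have hA : H8ReflAll D := h8reflAll D hD
  intro t ht
  rw [aset_iff D hB] at ht
  obtain ⟨η, hη, hconj⟩ := h8n_simple_conj_all (F := K) D hA i s hi hs
  have hn : h8nU D hB (D.simple i) (1 : K) ∈ H := hL (bglfl2_n_mem p D hB a _)
  have h1 : h8nU D hB (D.simple i) (1 : K) * h8xU D hB s t * (h8nU D hB (D.simple i) (1 : K))⁻¹ =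
      h8xU D hB (D.reflectRoot i s) ((η : K) * t) := by
    rw [mul_inv_eq_iff_eq_mul]
    apply Units.ext
    rw [Units.val_mul, Units.val_mul, h8nU_val, h8xU_val, h8xU_val]
    exact hconj t
  have h2 : h8xU D hB (D.reflectRoot i s) ((η : K) * t) ∈ H := by
    rw [← h1]
    exact H.mul_mem (H.mul_mem hn ht) (H.inv_mem hn)
  rw [← aset_iff D hB] at h2
  rcases hη with rfl | rfl
  · simpa using h2
  · have h3 := aset_neg D hB H _ _ h2
    simpa using h3

/-- FL2 [S-M]. -/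
theorem aset_refl (p : ℕ) [Fact p.Prime] [CharP K p] (D : ChevalleyDatum)
    (hD : D ∈ [chevG2, chevB2, chevD4, chevF4, chevE6, chevE7, chevE8]) (a : ℕ)
    (H : Subgroup (GL D.Idx K)) (hL : Lq D K (p ^ a) ≤ H) (i s : ℕ) (hi : i < D.rank)
    (hs : s < D.nroots) : Aset D H (D.reflectRoot i s) = Aset D H s := by
  have hA : H8ReflAll D := h8reflAll D hD
  obtain ⟨η, hR⟩ := h8reflAll_spec D hA i hi
  apply Set.Subset.antisymm
  · have h := bglfl2_sub p D hD a H hL i (D.reflectRoot i s) hi (hR.lt s hs)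
    rwa [hR.invol s hs] at h
  · exact bglfl2_sub p D hD a H hL i s hi hs

theorem aset_word (p : ℕ) [Fact p.Prime] [CharP K p] (D : ChevalleyDatum)
    (hD : D ∈ [chevG2, chevB2, chevD4, chevF4, chevE6, chevE7, chevE8]) (a : ℕ)
    (H : Subgroup (GL D.Idx K)) (hL : Lq D K (p ^ a) ≤ H) (w : List ℕ) (hw : ∀ i ∈ w, i < D.rank)
    (s : ℕ) (hs : s < D.nroots) : Aset D H (h8sW D w s) = Aset D H s := by
  have hA : H8ReflAll D := h8reflAll D hD
  induction w with
  | nil => rfl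
  | cons i w ih =>
    have hw' : ∀ j ∈ w, j < D.rank := fun j hj => hw j (List.mem_cons_of_mem _ hj)
    have h1 : h8sW D (i :: w) s = D.reflectRoot i (h8sW D w s) := rfl
    rw [h1, aset_refl p D hD a H hL i _ (hw i List.mem_cons_self) (h8sW_lt D hA w hw' s hs), ih hw']

/-- FL3 [S-M]. -/
theorem aset_simple (p : ℕ) [Fact p.Prime] [CharP K p] (D : ChevalleyDatum)
    (hD : D ∈ [chevG2, chevB2, chevD4, chevF4, chevE6, chevE7, chevE8]) (a : ℕ)
    (H : Subgroup (GL D.Idx K)) (hL : Lq D K (p ^ a) ≤ H) (s : ℕ) (hs : s < D.nroots) :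
    ∃ j < D.rank, Aset D H s = Aset D H (D.simple j) := by
  have hA : H8ReflAll D := h8reflAll D hD
  obtain ⟨dep, par, h⟩ := h8orb_chk_all D hD
  unfold h8orbChk at h
  simp only [Bool.and_eq_true, Bool.or_eq_true, decide_eq_true_eq, List.all_eq_true,
    List.any_eq_true, List.mem_range] at h
  obtain ⟨h256, h⟩ := h
  have key : ∀ n : ℕ, ∀ r < D.nroots, dep.getD r 0 = n → ∃ j < D.rank, Aset D H r = Aset D H (D.simple j) := by
    intro n
    induction n using Nat.strong_induction_on with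
    | _ n ih =>
      intro r hr hn
      rcases h r hr with ⟨_, j, hj, hjr⟩ | ⟨i, hp, _, hd⟩
      · exact ⟨j, hj, by rw [hjr]⟩
      · obtain ⟨η, hR⟩ := h8reflAll_spec D hA _ hp
        rw [h8sg_eq D _ hR.lt h256 r hr] at hd
        obtain ⟨j, hj, hj'⟩ := ih _ (hn ▸ hd) _ (hR.lt r hr) rfl
        exact ⟨j, hj, by rw [← hj', aset_refl p D hD a H hL _ r hp hr]⟩
  exact key _ s hs rfl

end Cfsg.Agent.Lib.Helper10.BGL
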