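import Mathlib
import Cfsg.Agent.Lib.helper14.BGL.SPDefs
import Cfsg.Agent.Lib.helper14.BGL.SPDefs2
import Cfsg.Agent.Lib.Helper10.BGL.Defs
import Cfsg.Agent.Lib.Helper10.BGL.Bridge
import Cfsg.Agent.Lib.helper8.ChevBaseAll
import Cfsg.Agent.Lib.helper8.ChevBNAll
import Cfsg.Agent.Lib.helper8.ChevReflAll
import Cfsg.Agent.Lib.helper8.ChevNM
import Cfsg.Agent.Lib.helper8.ChevNgen
import Cfsg.Agent.Lib.helper8.ChevFix1
import Cfsg.Agent.Lib.helper8.ChevTits5
import Cfsg.Agent.Lib.helper14.BGLSPX0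
import Cfsg.Agent.Lib.Helper1.BGLSPC2
import Cfsg.Agent.Lib.helper8.BGLSPM3

/-!
# Project BGL (designer helper10), block SP (designer helper14), row M2 (`col_all_zero`), VERBATIM (helper22)
-/

set_option autoImplicit false
set_option linter.unusedSectionVars false

namespace Cfsg.Agent.Lib.helper14.BGLSP

open Cfsg.Lie Cfsg.Lie.ChevalleyDatum Cfsg.Agent.Lib.helper8 Cfsg.Agent.Lib.Helper10.BGL Matrix

universe u

variable {K : Type u} [Field K] (D : ChevalleyDatum)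

section M
variable [Finite K] (p : ℕ) [Fact p.Prime] [CharP K p]

/-- M2 [M]  the span `W` of the `m' e_ρ` (`m' ∈ Lq`) is a submodule with `StabP` (`x_s(±1) = h8xU … ∈ Lq`: `x_mem_Lq`; `Submodule.span_induction`), `col_top`; the linear form
`v ↦ rc D ((m * Δ) *ᵥ v) 0` vanishes on the generators. -/
theorem col_all_zero (hB : H8Base.{u} D) {lam : List ℕ} (hT : SPTab D lam) {ys : List ℕ} {Y : List (List ℤ)}
    (hY : spYChk D lam ys Y = true) (h2 : (2 : K) ≠ 0) (q : ℕ) (hq2 : (-1 : K) ^ q = -1)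
    (Δ : Matrix D.Idx D.Idx K)
    (h : ∀ m ∈ Lq D K q, ∀ m' ∈ Lq D K q,
      rc D (((m : Matrix D.Idx D.Idx K) * Δ) *ᵥ ((m' : Matrix D.Idx D.Idx K) *ᵥ re D K (D.nroots - 1))) 0 = 0) :
    ∀ m ∈ Lq D K q, ∀ v : D.Idx → K, rc D (((m : Matrix D.Idx D.Idx K) * Δ) *ᵥ v) 0 = 0 := by
  classical
  set gens : Set (D.Idx → K) :=
    {w | ∃ m' ∈ Lq D K q, w = (m' : Matrix D.Idx D.Idx K) *ᵥ re D K (D.nroots - 1)} with hgens
  set W : Submodule K (D.Idx → K) := Submodule.span K gens with hWdef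
  have hstab : ∀ (s : ℕ) (t : K), t ^ q = t → ∀ w ∈ W, D.x K s t *ᵥ w ∈ W := by
    intro s t ht w hw
    have hle : W ≤ W.comap (Matrix.mulVecLin (D.x K s t)) := by
      rw [hWdef, Submodule.span_le]
      rintro _ ⟨m', hm', rfl⟩
      show Matrix.mulVecLin (D.x K s t) ((m' : Matrix D.Idx D.Idx K) *ᵥ re D K (D.nroots - 1)) ∈ W
      rw [Matrix.mulVecLin_apply, Matrix.mulVec_mulVec, ← h8xU_val D hB s t, ← Units.val_mul]
      exact Submodule.subset_span ⟨h8xU D hB s t * m', mul_mem (bglspm3_x_mem D hB q s t ht) hm', rfl⟩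
    exact hle hw
  have hW : StabP D (· ∈ W) := fun s _ w hw => ⟨hstab s 1 (one_pow q) w hw, hstab s (-1) hq2 w hw⟩
  have htop : re D K (D.nroots - 1) ∈ W := by
    apply Submodule.subset_span
    exact ⟨1, one_mem _, by rw [Units.val_one, Matrix.one_mulVec]⟩
  have hWtop : W = ⊤ := col_top hT W hW htop hY h2
  intro m hm v
  have hv : v ∈ W := by rw [hWtop]; exact Submodule.mem_top
  rw [hWdef] at hv
  induction hv using Submodule.span_induction with
  | mem w hw =>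
    obtain ⟨m', hm', rfl⟩ := hw
    exact h m hm m' hm'
  | zero =>
    rw [Matrix.mulVec_zero]
    unfold rc
    split_ifs <;> rfl
  | add x y _ _ hx hy =>
    rw [Matrix.mulVec_add, rc_add, hx, hy, add_zero]
  | smul c x _ hx =>
    rw [Matrix.mulVec_smul, rc_smul, hx, mul_zero]

end M

end Cfsg.Agent.Lib.helper14.BGLSP
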