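import Mathlib
import Cfsg.Agent.Lib.Helper22.C3L.Defs
import Cfsg.Agent.Lib.helper8.C3S.Defs

set_option autoImplicit false
set_option linter.unusedVariables false
set_option linter.unusedSectionVars false

/-!
# Project C3S, piece STRICT: an `F`-transvection of `f = Tr ∘ B` is not `K`-semilinear (`[K : F] ≥ 2`).
-/

namespace Cfsg.Agent.Lib.helper8.C3S

open Module Cfsg.Agent.Lib.Helper22.C3L

variable {F K V : Type*} [Field F] [Field K] [Algebra F K] [AddCommGroup V] [Module F V] [Module K V]
  [IsScalarTower F K V]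

/-- `B (·, v)` is onto `K` for `v ≠ 0`. -/
theorem c3sstrict_onto (B : V →ₗ[K] V →ₗ[K] K) (hB0 : ∀ x, B x x = 0)
    (hBn : ∀ x, x ≠ 0 → ∃ y, B x y ≠ 0) {v : V} (hv : v ≠ 0) (s : K) : ∃ x : V, B x v = s := by
  obtain ⟨y, hy⟩ := hBn v hv
  have hskew : B y v = - B v y := by
    have h := hB0 (y + v)
    simp only [map_add, LinearMap.add_apply, hB0, zero_add, add_zero] at h
    exact eq_neg_of_add_eq_zero_left ((add_comm _ _).trans h)
  have hyv : B y v ≠ 0 := by
    rw [hskew]
    exact neg_ne_zero.2 hy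
  refine ⟨(s / B y v) • y, ?_⟩
  rw [map_smul, LinearMap.smul_apply, smul_eq_mul, div_mul_cancel₀ _ hyv]

theorem sp_strict [Finite K] (hr : 2 ≤ finrank F K) (B : V →ₗ[K] V →ₗ[K] K) (hB0 : ∀ x, B x x = 0)
    (hBn : ∀ x, x ≠ 0 → ∃ y, B x y ≠ 0) {v : V} (hv : v ≠ 0) {g : V ≃ₗ[F] V}
    (hg : ∀ x : V, g x = x + (Algebra.trace F K (B x v)) • v) :
    ¬ ∃ σ : K → K, ∀ (a : K) (x : V), g (a • x) = σ a • g x := by
  rintro ⟨σ, hσ⟩
  have : FiniteDimensional F K := FiniteDimensional.of_finrank_pos (by omega)
  have : Finite F := Finite.of_injective (algebraMap F K) (algebraMap F K).injective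
  -- `g` fixes `K v` pointwise
  have hfix : ∀ a : K, g (a • v) = a • v := by
    intro a
    rw [hg, map_smul, LinearMap.smul_apply, hB0, smul_zero, map_zero, zero_smul, add_zero]
  -- `σ = id`
  have hσid : ∀ a : K, σ a = a := by
    intro a
    have h1 := hσ a v
    have h2 := hfix 1
    rw [one_smul] at h2
    rw [hfix a, h2] at h1
    have h3 : (a - σ a) • v = 0 := by
      rw [sub_smul, ← h1, sub_self]
    rcases smul_eq_zero.1 h3 with h | h
    · exact (sub_eq_zero.1 h).symm
    · exact absurd h hv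
  -- the key identity
  have hkey : ∀ (a s : K), algebraMap F K (Algebra.trace F K (a * s)) = a * algebraMap F K (Algebra.trace F K s) := by
    intro a s
    obtain ⟨x, hx⟩ := c3sstrict_onto B hB0 hBn hv s
    have h1 := hσ a x
    rw [hσid a, hg, hg, map_smul, LinearMap.smul_apply, hx, smul_eq_mul, smul_add] at h1
    have h2 := add_left_cancel h1
    rw [← algebraMap_smul K (Algebra.trace F K (a * s)) v,
      ← algebraMap_smul K (Algebra.trace F K s) v, smul_smul] at h2
    have h3 : (algebraMap F K (Algebra.trace F K (a * s)) - a * algebraMap F K (Algebra.trace F K s)) • v = 0 := by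
      rw [sub_smul, h2, sub_self]
    rcases smul_eq_zero.1 h3 with h | h
    · exact sub_eq_zero.1 h
    · exact absurd h hv
  obtain ⟨s, hs⟩ := Algebra.trace_surjective F K 1
  -- every `a` lies in `F`
  have hall : ∀ a : K, a ∈ (⊥ : Subalgebra F K) := by
    intro a
    have h := hkey a s
    rw [hs, map_one, mul_one] at h
    rw [← h]
    exact Subalgebra.algebraMap_mem _ _
  have htop : (⊥ : Subalgebra F K) = ⊤ := by
    apply le_antisymm le_top
    intro a _
    exact hall a
  have h1 : finrank F K = 1 := by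
    have := Subalgebra.finrank_bot (F := F) (E := K)
    rw [htop] at this
    rw [← this]
    exact (finrank_top F K).symm
  omega

end Cfsg.Agent.Lib.helper8.C3S
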