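import Mathlib
import Cfsg.Agent.Lib.Helper22.C3L.Defs

set_option autoImplicit false
set_option linter.unusedVariables false
set_option linter.unusedSectionVars false

/-! # Project C3L, piece KER (helper22) : the kernel of the spread -/

namespace Cfsg.Agent.Lib.Helper22.C3L

open Module

variable {F K V : Type*} [Field F] [Field K] [Algebra F K] [AddCommGroup V] [Module F V] [Module K V]
  [IsScalarTower F K V]

/-- the scalars at two `K`-independent vectors agree -/
theorem c3lker_indep (T : V →ₗ[F] V) (lam : V → K) (hlam : ∀ x, T x = lam x • x) {x y : V}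
    (hxy : LinearIndependent K ![x, y]) : lam x = lam y := by
  have h1 := hlam (x + y)
  rw [map_add, hlam x, hlam y, smul_add] at h1
  have h2 : (lam x - lam (x + y)) • x + (lam y - lam (x + y)) • y = 0 := by
    rw [sub_smul, sub_smul]
    have : lam x • x + lam y • y - (lam (x + y) • x + lam (x + y) • y) = 0 := by rw [h1]; exact sub_self _
    rw [← this]
    abel
  obtain ⟨h3, h4⟩ := LinearIndependent.pair_iff.mp hxy _ _ h2
  rw [sub_eq_zero] at h3 h4
  rw [h3, h4]

/-- KER -/
theorem ker_lemma (hm : 2 ≤ finrank K V) (T : V →ₗ[F] V) (hT : ∀ x, ∃ a : K, T x = a • x) :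
    ∃ a : K, ∀ x, T x = a • x := by
  classical
  choose lam hlam using hT
  have hnt : Nontrivial V := Module.nontrivial_of_finrank_pos (R := K) (by omega)
  obtain ⟨e₁, he₁⟩ := exists_ne (0 : V)
  obtain ⟨e₂, he₁₂⟩ := exists_linearIndependent_pair_of_one_lt_finrank (R := K) (by omega) he₁
  have he₂ : e₂ ≠ 0 := by
    have := he₁₂.ne_zero 1
    simpa using this
  have h12 : lam e₁ = lam e₂ := c3lker_indep T lam hlam he₁₂
  refine ⟨lam e₁, fun x => ?_⟩
  by_cases hx : x = 0
  · subst hx
    simp
  rw [hlam x]
  congr 1
  by_cases hind : LinearIndependent K ![e₁, x]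
  · exact (c3lker_indep T lam hlam hind).symm
  · -- x ∈ K e₁, so x, e₂ independent
    rw [LinearIndependent.pair_iff' he₁] at hind
    push Not at hind
    obtain ⟨c, hc⟩ := hind
    have hc0 : c ≠ 0 := by
      intro h0
      rw [h0, zero_smul] at hc
      exact hx hc.symm
    have hind2 : LinearIndependent K ![e₂, x] := by
      rw [LinearIndependent.pair_iff' he₂]
      intro a ha
      have h5 := (LinearIndependent.pair_iff' he₁).mp he₁₂ (a⁻¹ * c)
      apply h5
      have ha0 : a ≠ 0 := by
        intro h0
        rw [h0, zero_smul] at ha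
        exact hx ha.symm
      rw [mul_smul, hc, ← ha, smul_smul, inv_mul_cancel₀ ha0, one_smul]
    rw [← c3lker_indep T lam hlam hind2, h12]

end Cfsg.Agent.Lib.Helper22.C3L
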