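import Mathlib
import Cfsg.Agent.Lib.Helper10.C3E.Defs

set_option autoImplicit false
set_option linter.unusedVariables false
set_option linter.unusedSectionVars false

namespace Cfsg.Agent.Lib.Helper10.C3E

open Module

variable {F K V : Type*} [Field F] [Field K] [Algebra F K] [AddCommGroup V] [Module F V] [Module K V]
  [IsScalarTower F K V]

/-- the semilinearity map of an element normalising `K` is an `F`-algebra endomorphism of `K` (when `V ≠ 0`) -/
theorem c3ecases_algHom (g : V ≃ₗ[F] V) (σ : K → K) (hσ : ∀ (a : K) (x : V), g (a • x) = σ a • g x)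
    (x₀ : V) (hx₀ : x₀ ≠ 0) : ∃ τ : K →ₐ[F] K, ∀ a, τ a = σ a := by
  have hgx₀ : g x₀ ≠ 0 := fun h => hx₀ (g.map_eq_zero_iff.1 h)
  have hinj : ∀ a b : K, a • g x₀ = b • g x₀ → a = b := fun a b h =>
    smul_left_injective K hgx₀ h
  have h1 : σ 1 = 1 := by
    apply hinj
    rw [← hσ, one_smul, one_smul]
  have hmul : ∀ a b, σ (a * b) = σ a * σ b := by
    intro a b
    apply hinj
    rw [← hσ, mul_smul, hσ, hσ, mul_smul]
  have hadd : ∀ a b, σ (a + b) = σ a + σ b := by
    intro a b
    apply hinj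
    rw [← hσ, add_smul, map_add, hσ, hσ, add_smul]
  have h0 : σ 0 = 0 := by
    apply hinj
    rw [← hσ, zero_smul, zero_smul, map_zero]
  have halg : ∀ c : F, σ (algebraMap F K c) = algebraMap F K c := by
    intro c
    apply hinj
    rw [← hσ, algebraMap_smul, algebraMap_smul, map_smul]
  exact ⟨{ toFun := σ, map_one' := h1, map_mul' := hmul, map_zero' := h0, map_add' := hadd,
           commutes' := halg }, fun a => rfl⟩

/-- CASES : an element normalising `K` is `K`-linear or semilinear for a non-trivial `F`-automorphism of `K`.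
(`V = 0`: `Lin`.  Else fix `x₀ ≠ 0`; `σ a` is determined by `g (a • x₀) = σ a • g x₀`, hence additive, multiplicative, `σ (algebraMap c) = algebraMap c`;
an `F`-algebra endomorphism of a finite-dimensional field extension is bijective.) -/
theorem c3e_nrm_cases [FiniteDimensional F K] (g : V ≃ₗ[F] V) (h : Nrm K g) :
    Lin K g ∨ ∃ σ : K ≃ₐ[F] K, σ ≠ 1 ∧ ∀ (a : K) (x : V), g (a • x) = σ a • g x := by
  obtain ⟨σ, hσ⟩ := h
  by_cases hV : ∃ x₀ : V, x₀ ≠ 0
  · obtain ⟨x₀, hx₀⟩ := hV
    obtain ⟨τ, hτ⟩ := c3ecases_algHom g σ hσ x₀ hx₀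
    set τ' : K ≃ₐ[F] K := AlgEquiv.ofBijective τ (Algebra.IsAlgebraic.algHom_bijective τ) with hτ'
    have hτ'a : ∀ a, τ' a = σ a := fun a => hτ a
    by_cases h1 : τ' = 1
    · left
      intro a x
      rw [hσ, ← hτ'a, h1]; rfl
    · right
      exact ⟨τ', h1, fun a x => by rw [hσ, hτ'a]⟩
  · left
    push Not at hV
    intro a x
    rw [hV (g (a • x)), hV (g x), smul_zero]

end Cfsg.Agent.Lib.Helper10.C3E
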