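import Mathlib
import Cfsg.Agent.Lib.Helper10.C3E.Defs

set_option autoImplicit false
set_option linter.unusedVariables false
set_option linter.unusedSectionVars false

namespace Cfsg.Agent.Lib.Helper10.C3E

open Module

variable {F K V : Type*} [Field F] [Field K] [Algebra F K] [AddCommGroup V] [Module F V] [Module K V]
  [IsScalarTower F K V]

/-- powers of a `σ`-semilinear map are `σ ^ n`-semilinear -/
theorem c3eords_pow (g : V ≃ₗ[F] V) (σ : K ≃ₐ[F] K) (hσ : ∀ (a : K) (x : V), g (a • x) = σ a • g x)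
    (n : ℕ) : ∀ (a : K) (x : V), (g ^ n) (a • x) = (σ ^ n) a • (g ^ n) x := by
  induction n with
  | zero => intro a x; simp
  | succ n ih =>
    intro a x
    rw [pow_succ', pow_succ', LinearEquiv.mul_apply, LinearEquiv.mul_apply, ih, hσ, AlgEquiv.mul_apply]

/-- a `σ`-semilinear map with a scalar `r`-th power has `σ ^ r = 1` -/
theorem c3eords_pow_eq_one [Nontrivial V] {r : ℕ}
    (g : V ≃ₗ[F] V) (σ : K ≃ₐ[F] K) (hσ : ∀ (a : K) (x : V), g (a • x) = σ a • g x)
    (z : F) (hz : ∀ x : V, (g ^ r) x = z • x) : σ ^ r = 1 := by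
  obtain ⟨x₀, hx₀⟩ := exists_ne (0 : V)
  have hz0 : z ≠ 0 := by
    rintro rfl
    have := hz x₀
    rw [zero_smul] at this
    exact hx₀ ((g ^ r).map_eq_zero_iff.1 this)
  ext a
  have h1 := c3eords_pow g σ hσ r a x₀
  rw [hz, hz, smul_comm ((σ ^ r) a) z x₀] at h1
  have h2 : a • x₀ = (σ ^ r) a • x₀ := smul_right_injective V hz0 h1
  exact (smul_left_injective K hx₀ h2).symm

/-- ORDS : if `g` is `σ`-semilinear, `σ ≠ 1`, and `g ^ r` is a scalar, then `σ ^ r = 1`, so `r = orderOf σ` divides `|Aut_F K| = k`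
(`IsGalois.card_aut_eq_finrank`; finite fields: instance `IsGalois F K`), and `r = k`. -/
theorem c3e_semi_order [Finite K] [Nontrivial V] {r : ℕ} (hr : r.Prime) (hk : (finrank F K).Prime)
    (g : V ≃ₗ[F] V) (σ : K ≃ₐ[F] K) (hσ1 : σ ≠ 1) (hσ : ∀ (a : K) (x : V), g (a • x) = σ a • g x)
    (z : F) (hz : ∀ x : V, (g ^ r) x = z • x) : r = finrank F K := by
  have hpow := c3eords_pow_eq_one g σ hσ z hz
  have hord : orderOf σ = r := by
    have hd := orderOf_dvd_of_pow_eq_one hpow
    rcases (Nat.dvd_prime hr).1 hd with h | h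
    · exact absurd (orderOf_eq_one_iff.1 h) hσ1
    · exact h
  have : FiniteDimensional F K := inferInstance
  have hcard : Nat.card (K ≃ₐ[F] K) = finrank F K := IsGalois.card_aut_eq_finrank F K
  have hdvd : r ∣ finrank F K := by
    rw [← hord, ← hcard]
    exact orderOf_dvd_natCard σ
  rcases (Nat.dvd_prime hk).1 hdvd with h | h
  · exact absurd h hr.one_lt.ne'
  · exact h

end Cfsg.Agent.Lib.Helper10.C3E
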