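import Mathlib
import Cfsg.Agent.Lib.Helper10.C3E.Defs

set_option autoImplicit false
set_option linter.unusedVariables false
set_option linter.unusedSectionVars false

namespace Cfsg.Agent.Lib.Helper10.C3E

open Module

variable {F K V : Type*} [Field F] [Field K] [Algebra F K] [AddCommGroup V] [Module F V] [Module K V]
  [IsScalarTower F K V]

/-- multiplication by `a : K` as an `F`-linear map of `V` -/
def c3esemi_mul (a : K) : V →ₗ[F] V where
  toFun x := a • x
  map_add' x y := smul_add a x y
  map_smul' c x := by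
    simp only [RingHom.id_apply]
    exact smul_comm a c x

theorem c3esemi_mul_apply (a : K) (x : V) : c3esemi_mul (F := F) a x = a • x := rfl

theorem c3esemi_mul_inj (a : K) (ha : a ≠ 0) : Function.Injective (c3esemi_mul (F := F) (V := V) a) := by
  intro x y h
  simp only [c3esemi_mul_apply] at h
  exact smul_right_injective V ha h

/-- SEMI : a properly semilinear map has small eigenspaces.  (`E := fixc g c`; if `x ∈ E` and `a • x ∈ E` then
`c • (σ a - a) • x = 0`; so (`c ≠ 0`, else `E = 0`) `E ⊓ a • E = ⊥`, and `a • E` has the `F`-dimension of `E`; note `a ≠ 0` unless `V = 0`.) -/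
theorem c3e_semi_fix [FiniteDimensional F V] (g : V ≃ₗ[F] V) (σ : K → K)
    (hσ : ∀ (a : K) (x : V), g (a • x) = σ a • g x) (a : K) (ha : σ a ≠ a) (c : F) :
    2 * finrank F (fixc g c) ≤ finrank F V := by
  by_cases hE : fixc g c = ⊥
  · rw [hE, finrank_bot]; omega
  -- some nonzero vector in `E`
  obtain ⟨x₀, hx₀E, hx₀⟩ := (Submodule.ne_bot_iff _).1 hE
  have hgx₀ : g x₀ ≠ 0 := fun h => hx₀ (g.map_eq_zero_iff.1 h)
  have hc : c ≠ 0 := by
    rintro rfl
    rw [mem_fixc, zero_smul] at hx₀E
    exact hgx₀ hx₀E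
  have ha0 : a ≠ 0 := by
    rintro rfl
    have := hσ 0 x₀
    rw [zero_smul, map_zero] at this
    have h0 : σ 0 = 0 := by
      rcases smul_eq_zero.1 this.symm with h | h
      · exact h
      · exact absurd h hgx₀
    exact ha h0
  have hdisj : Disjoint (fixc g c) ((fixc g c).map (c3esemi_mul (F := F) a)) := by
    rw [Submodule.disjoint_def]
    rintro x hx ⟨x', hx', rfl⟩
    rw [SetLike.mem_coe, mem_fixc] at hx'
    rw [mem_fixc, c3esemi_mul_apply, hσ, hx'] at hx
    -- σ a • c • x' = c • a • x'
    have h1 : c • ((σ a - a) • x') = 0 := by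
      rw [sub_smul, smul_sub, smul_comm c (σ a) x', hx, sub_self]
    have h2 : (σ a - a) • x' = 0 := (smul_eq_zero.1 h1).resolve_left hc
    have h3 : x' = 0 := (smul_eq_zero.1 h2).resolve_left (sub_ne_zero.2 ha)
    rw [h3, map_zero]
  have hdim : finrank F ((fixc g c).map (c3esemi_mul (F := F) a)) = finrank F (fixc g c) :=
    (Submodule.equivMapOfInjective _ (c3esemi_mul_inj a ha0) _).finrank_eq.symm
  have := Submodule.finrank_add_finrank_le_of_disjoint hdisj
  omega

end Cfsg.Agent.Lib.Helper10.C3E
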