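import Mathlib
import Cfsg.Agent.Lib.Helper10.C3E.Defs
import Cfsg.Agent.Lib.helper8.C3S.Transfer

set_option autoImplicit false
set_option linter.unusedVariables false
set_option linter.unusedSectionVars false

namespace Cfsg.Agent.Lib.Helper10.C3E

open Module Cfsg.Agent.Lib.helper8.C3S

variable {F K V : Type*} [Field F] [Field K] [Algebra F K] [AddCommGroup V] [Module F V] [Module K V]
  [IsScalarTower F K V]

/-! ### generic facts on an endomorphism `T` with `T ^ r = 1` -/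

theorem c3erngnd_end_pow (g : V ≃ₗ[F] V) (r : ℕ) (hgr : g ^ r = 1) :
    ((g : V →ₗ[F] V) : Module.End F V) ^ r = 1 := by
  have := congrArg (LinearEquiv.automorphismGroup.toLinearMapMonoidHom (R := F) (M := V)) hgr
  rw [map_pow, map_one] at this
  exact this

theorem c3erngnd_sub_eq (g : V ≃ₗ[F] V) :
    ((g : V →ₗ[F] V) - (1 : F) • LinearMap.id) = ((g : V →ₗ[F] V) : Module.End F V) - 1 := by
  rw [one_smul]; rfl

theorem c3erngnd_disjoint (r : ℕ) (hrF : (r : F) ≠ 0) (y : Module.End F V) (hy : y ^ r = 1) :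
    LinearMap.range (y - 1) ⊓ LinearMap.ker (y - 1) = ⊥ := by
  rw [eq_bot_iff]
  rintro v ⟨hv2, hv1⟩
  rw [SetLike.mem_coe, LinearMap.mem_ker, LinearMap.sub_apply, Module.End.one_apply, sub_eq_zero] at hv1
  obtain ⟨w, rfl⟩ := hv2
  have hN : (∑ k ∈ Finset.range r, y ^ k) * (y - 1) = 0 := by
    rw [geom_sum_mul, hy, sub_self]
  have hpow : ∀ k : ℕ, (y ^ k) ((y - 1) w) = (y - 1) w := by
    intro k
    induction k with
    | zero => simp
    | succ k ih => rw [pow_succ, Module.End.mul_apply, hv1, ih]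
  have h1 : (∑ k ∈ Finset.range r, y ^ k) ((y - 1) w) = (r : F) • ((y - 1) w) := by
    rw [LinearMap.sum_apply, Finset.sum_congr rfl (fun k _ => hpow k), Finset.sum_const,
      Finset.card_range, Nat.cast_smul_eq_nsmul]
  have h2 : (∑ k ∈ Finset.range r, y ^ k) ((y - 1) w) = 0 := by
    rw [← Module.End.mul_apply, hN, LinearMap.zero_apply]
  rw [h1] at h2
  exact (Submodule.mem_bot F).2 ((smul_eq_zero.1 h2).resolve_left hrF)

/-- `y ^ k v - v ∈ range (y - 1)` -/
theorem c3erngnd_pow_sub_mem (y : Module.End F V) (k : ℕ) (v : V) :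
    (y ^ k) v - v ∈ LinearMap.range (y - 1) := by
  induction k with
  | zero => simp
  | succ k ih =>
    have : (y ^ (k + 1)) v - v = (y - 1) ((y ^ k) v) + ((y ^ k) v - v) := by
      rw [pow_succ', Module.End.mul_apply, LinearMap.sub_apply, Module.End.one_apply]; abel
    rw [this]
    exact Submodule.add_mem _ ⟨_, rfl⟩ ih

theorem c3erngnd_sup (r : ℕ) (hrF : (r : F) ≠ 0) (y : Module.End F V) (hy : y ^ r = 1) :
    LinearMap.range (y - 1) ⊔ LinearMap.ker (y - 1) = ⊤ := by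
  rw [eq_top_iff]
  intro v _
  set N : Module.End F V := ∑ k ∈ Finset.range r, y ^ k with hN
  have hNfix : N v ∈ LinearMap.ker (y - 1) := by
    rw [LinearMap.mem_ker, ← Module.End.mul_apply]
    have : (y - 1) * N = 0 := by
      rw [hN, mul_geom_sum, hy, sub_self]
    rw [this, LinearMap.zero_apply]
  have hdiff : N v - (r : F) • v ∈ LinearMap.range (y - 1) := by
    have : N v - (r : F) • v = ∑ k ∈ Finset.range r, ((y ^ k) v - v) := by
      rw [Finset.sum_sub_distrib, Finset.sum_const, Finset.card_range, hN, LinearMap.sum_apply,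
        Nat.cast_smul_eq_nsmul]
    rw [this]
    exact Submodule.sum_mem _ (fun k _ => c3erngnd_pow_sub_mem y k v)
  have hv : v = (-(r : F)⁻¹) • (N v - (r : F) • v) + (r : F)⁻¹ • N v := by
    rw [smul_sub, smul_smul, neg_mul, inv_mul_cancel₀ hrF, neg_smul, neg_smul, one_smul]; abel
  rw [hv]
  exact Submodule.add_mem_sup (Submodule.smul_mem _ _ hdiff) (Submodule.smul_mem _ _ hNfix)

/-! ### the row -/

/-- RNGND (three statements, one row) : `g ^ r = 1`, `r ≠ 0` in `F`.  With `N = 1 + g + … + g^(r-1)` : `N (g - 1) = 0`, `N = r` on `ker (g - 1)`,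
`r - N = (1 - g) (…)`.  So `V = ker (g - 1) ⊕ range (g - 1)`. -/
theorem c3e_range_inf_fix {r : ℕ} (hrF : (r : F) ≠ 0) (g : V ≃ₗ[F] V) (hgr : g ^ r = 1) :
    LinearMap.range ((g : V →ₗ[F] V) - (1 : F) • LinearMap.id) ⊓ fixc g 1 = ⊥ := by
  rw [fixc, c3erngnd_sub_eq]
  exact c3erngnd_disjoint r hrF _ (c3erngnd_end_pow g r hgr)

theorem c3e_range_sup_fix {r : ℕ} (hrF : (r : F) ≠ 0) (g : V ≃ₗ[F] V) (hgr : g ^ r = 1) :
    LinearMap.range ((g : V →ₗ[F] V) - (1 : F) • LinearMap.id) ⊔ fixc g 1 = ⊤ := by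
  rw [fixc, c3erngnd_sub_eq]
  exact c3erngnd_sup r hrF _ (c3erngnd_end_pow g r hgr)

/-- … and `range (g - 1) ⊥ ker (g - 1)` for an isometry `g`, so `f` is non-degenerate on `range (g - 1)`. -/
theorem c3e_range_nondeg (B : V →ₗ[K] V →ₗ[K] K) (hfn : ∀ x : V, (∀ y : V, Algebra.trace F K (B x y) = 0) → x = 0)
    {r : ℕ} (hrF : (r : F) ≠ 0) (g : V ≃ₗ[F] V) (hg : g ∈ Spf F B) (hgr : g ^ r = 1) :
    ∀ x ∈ LinearMap.range ((g : V →ₗ[F] V) - (1 : F) • LinearMap.id),
      (∀ y ∈ LinearMap.range ((g : V →ₗ[F] V) - (1 : F) • LinearMap.id), Algebra.trace F K (B x y) = 0) → x = 0 := by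
  intro x hx hxy
  apply hfn
  intro y
  have hy : y ∈ LinearMap.range ((g : V →ₗ[F] V) - (1 : F) • LinearMap.id) ⊔ fixc g 1 := by
    rw [c3e_range_sup_fix hrF g hgr]; trivial
  obtain ⟨y1, hy1, y2, hy2, rfl⟩ := Submodule.mem_sup.1 hy
  rw [map_add, map_add, hxy y1 hy1, zero_add]
  obtain ⟨w, rfl⟩ := hx
  rw [mem_fixc, one_smul] at hy2
  simp only [LinearMap.sub_apply, LinearMap.id_apply, one_smul,
    LinearEquiv.coe_coe, map_sub]
  have := mem_Spf.1 hg w y2
  rw [hy2] at this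
  rw [this, sub_self]

end Cfsg.Agent.Lib.Helper10.C3E
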