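import Mathlib
import Cfsg.Agent.Lib.Helper22.C3L.Defs
import Cfsg.Agent.Lib.Helper22.C3LKER
import Cfsg.Agent.Lib.helper8.C3LSTEPAcore
import Cfsg.Agent.Lib.Helper18.C3LUTR
import Cfsg.Agent.Lib.Helper18.C3LD1core
import Cfsg.Agent.Lib.Helper1.C3LD1A
import Cfsg.Agent.Lib.Helper1.C3LD1B
import Cfsg.Agent.Lib.Helper1.C3LD2
import Cfsg.Agent.Lib.Helper10.C3LR2M3
import Cfsg.Agent.Lib.Helper24.C3LSTEPC

set_option autoImplicit false
set_option linter.unusedVariables false
set_option linter.unusedSectionVars false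
set_option linter.style.haveILetI false

/-! # Project C3L : the abstract assembly (Theorem T), with the statements of STEPB and R2M2 as hypotheses -/

namespace Cfsg.Agent.Lib.Helper22.C3L

open Module

variable {F K V : Type*} [Field F] [Field K] [Algebra F K] [AddCommGroup V] [Module F V] [Module K V]
  [IsScalarTower F K V]

/-- units of a field with two elements -/
theorem c3l_units_eq_one (hF : Nat.card F = 2) (u : Fˣ) : u = 1 := by
  classical
  haveI : Finite F := Nat.finite_of_card_ne_zero (by omega)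
  have h1 : Nat.card Fˣ = 1 := by
    rw [Nat.card_units, hF]
  have : Subsingleton Fˣ := (Nat.card_eq_one_iff_unique.mp h1).1
  exact Subsingleton.elim _ _

/-- **Theorem T** (abstract form), modulo the statements of STEPB and R2M2. -/
theorem main_abs_core [Finite K] [FiniteDimensional K V] (hr : (finrank F K).Prime) (hm : 2 ≤ finrank K V)
    (H : Subgroup (V ≃ₗ[F] V)) (hS : ∀ g : V ≃ₗ[F] V, IsSemi K g → LinearEquiv.det g = 1 → g ∈ H)
    (hN : NotNorm K H)
    (hstepB : ¬ (Nat.card F = 2 ∧ finrank F K = 2) → C1 F K V ≤ H → MovesOut K H →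
      ∃ g ∈ H, ∃ v : V, v ≠ 0 ∧ (∀ a : K, ∃ b : K, g (a • v) = b • v) ∧
        ∃ a : K, ∀ b : K, ∃ c : K, g (a • c • v) ≠ b • g (c • v))
    (hr2m2 : Nat.card F = 2 → finrank F K = 2 → finrank K V = 2 → (∀ g : V ≃ₗ[F] V, IsSemi K g → g ∈ H) →
      MovesOut K H → HasTv2 K H) : AllTv H := by
  haveI : FiniteDimensional F K := Module.Finite.of_finite
  have hC : C1 F K V ≤ H := by
    intro g hg
    exact hS g ⟨RingEquiv.refl K, fun a x => hg.1 a x⟩ hg.2
  have hA : MovesOut K H := c3lstepa_core hr hm (fun v w hv hw => c1_trans hm hv hw) H hC hN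
  have hT : HasTv2 K H := by
    by_cases hq : Nat.card F = 2 ∧ finrank F K = 2
    · by_cases h3 : 3 ≤ finrank K V
      · exact r2m3 hq.2 h3 H hC hA
      · have hm2 : finrank K V = 2 := by omega
        exact hr2m2 hq.1 hq.2 hm2 (fun g hg => hS g hg (c3l_units_eq_one hq.1 _)) hA
    · obtain ⟨g, hg, v, hv, hgv, hgn⟩ := hstepB hq hC hA
      exact stepC hr hm H hC hg hv hgv hgn
  have hD1 : AllTv2 K H := by
    refine c3ld1_core H hC (fun hv hw => c1_trans hm hv hw) ?_ hT
    intro φ₀ z h0 hz hφ hK0 hmem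
    by_cases h3 : 3 ≤ finrank K V
    · exact d1a h3 H hC h0 hz hφ hK0 hmem
    · exact d1b hr.two_le (by omega) H hC h0 hz hφ hK0 hmem
  exact d2 hm H hD1

end Cfsg.Agent.Lib.Helper22.C3L
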