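import Mathlib

open Polynomial
open scoped IsMulCommutative

namespace Cfsg.Agent.Lib.Helper22.AutOrb1

theorem cyclo_zero (p q : ℕ) [hp : Fact p.Prime] [hq : Fact q.Prime]
    {V : Type*} [AddCommGroup V] [Module (ZMod p) V] [Finite V]
    (T : Module.End (ZMod p) V) (hTq : T ^ q = 1) (hfpf : ∀ v, T v = v → v = 0) :
    aeval T (cyclotomic q (ZMod p)) = 0 := by
  have h1 : aeval T (cyclotomic q (ZMod p)) * (T - 1) = 0 := by
    have := congrArg (aeval T) (cyclotomic_prime_mul_X_sub_one (ZMod p) q)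
    simpa [hTq] using this
  have hinj : Function.Injective ((T - 1 : Module.End (ZMod p) V) : V → V) := by
    rw [injective_iff_map_eq_zero]
    intro v hv
    apply hfpf
    have : T v - v = 0 := by simpa using hv
    exact sub_eq_zero.mp this
  have hsurj : Function.Surjective ((T - 1 : Module.End (ZMod p) V) : V → V) := Finite.injective_iff_surjective.mp hinj
  ext v
  obtain ⟨u, rfl⟩ := hsurj v
  have := congrArg (fun f : Module.End (ZMod p) V => f u) h1
  simpa using this

theorem conj_T (p : ℕ) [hp : Fact p.Prime]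
    {V : Type*} [AddCommGroup V] [Module (ZMod p) V]
    (T : Module.End (ZMod p) V) (ν : V ≃ₗ[ZMod p] V) (e : ℕ)
    (hν : ∀ u, ν (T u) = (T ^ e) (ν u)) : ν.conjAlgEquiv (ZMod p) T = T ^ e := by
  ext u
  rw [LinearEquiv.conjAlgEquiv_apply]
  simp only [LinearMap.coe_comp, LinearEquiv.coe_coe, Function.comp_apply]
  rw [hν]
  simp

theorem conj_mem (p : ℕ) [hp : Fact p.Prime]
    {V : Type*} [AddCommGroup V] [Module (ZMod p) V]
    (T : Module.End (ZMod p) V) (ν : V ≃ₗ[ZMod p] V) (e : ℕ)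
    (hν : ∀ u, ν (T u) = (T ^ e) (ν u)) (s : Module.End (ZMod p) V)
    (hs : s ∈ Algebra.adjoin (ZMod p) {T}) :
    ν.conjAlgEquiv (ZMod p) s ∈ Algebra.adjoin (ZMod p) {T} := by
  have hT : ν.conjAlgEquiv (ZMod p) T = T ^ e := by
    ext u
    rw [LinearEquiv.conjAlgEquiv_apply]
    simp only [LinearMap.coe_comp, LinearEquiv.coe_coe, Function.comp_apply]
    rw [hν]
    simp
  have hmap : (Algebra.adjoin (ZMod p) {T}).map (ν.conjAlgEquiv (ZMod p)).toAlgHom
      = Algebra.adjoin (ZMod p) {T ^ e} := by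
    rw [AlgHom.map_adjoin]
    simp [hT]
  have hle : Algebra.adjoin (ZMod p) {T ^ e} ≤ Algebra.adjoin (ZMod p) {T} := by
    apply Algebra.adjoin_le
    intro x hx
    rw [Set.mem_singleton_iff] at hx
    subst hx
    exact Subalgebra.pow_mem _ (Algebra.self_mem_adjoin_singleton _ T) e
  apply hle
  rw [← hmap]
  exact ⟨s, hs, rfl⟩

theorem adj_comm (p : ℕ) [hp : Fact p.Prime]
    {V : Type*} [AddCommGroup V] [Module (ZMod p) V]
    (T : Module.End (ZMod p) V) (a b : Module.End (ZMod p) V)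
    (ha : a ∈ Algebra.adjoin (ZMod p) {T}) (hb : b ∈ Algebra.adjoin (ZMod p) {T}) : a * b = b * a := by
  have := mul_comm (⟨a, ha⟩ : Algebra.adjoin (ZMod p) {T}) ⟨b, hb⟩
  exact congrArg Subtype.val this

theorem adj_noZeroDiv (p : ℕ) [hp : Fact p.Prime]
    {V : Type*} [AddCommGroup V] [Module (ZMod p) V] [Finite V]
    (T : Module.End (ZMod p) V)
    (h1 : ∀ v w : V, v ≠ 0 → w ≠ 0 → ∃ (ν : V ≃ₗ[ZMod p] V) (e : ℕ),
      (∀ u, ν (T u) = (T ^ e) (ν u)) ∧ ν v = w)
    (a b : Module.End (ZMod p) V)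
    (ha : a ∈ Algebra.adjoin (ZMod p) {T}) (hb : b ∈ Algebra.adjoin (ZMod p) {T})
    (hab : a * b = 0) : a = 0 ∨ b = 0 := by
  classical
  by_contra hcon
  push Not at hcon
  obtain ⟨ha0, hb0⟩ := hcon
  set S : Set (Module.End (ZMod p) V) := (Algebra.adjoin (ZMod p) {T} : Set (Module.End (ZMod p) V)) with hS
  have : Finite (Module.End (ZMod p) V) :=
    Finite.of_injective (fun f : Module.End (ZMod p) V => (f : V → V)) DFunLike.coe_injective
  -- pick v with a v ≠ 0 and b v ≠ 0
  obtain ⟨v, hav, hbv⟩ : ∃ v, a v ≠ 0 ∧ b v ≠ 0 := by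
    obtain ⟨v1, hv1⟩ : ∃ v, a v ≠ 0 := by
      by_contra h
      push Not at h
      exact ha0 (LinearMap.ext h)
    obtain ⟨v2, hv2⟩ : ∃ v, b v ≠ 0 := by
      by_contra h
      push Not at h
      exact hb0 (LinearMap.ext h)
    by_cases h3 : b v1 = 0
    · by_cases h4 : a v2 = 0
      · refine ⟨v1 + v2, ?_, ?_⟩
        · rw [map_add, h4, add_zero]; exact hv1
        · rw [map_add, h3, zero_add]; exact hv2
      · exact ⟨v2, h4, hv2⟩
    · exact ⟨v1, hv1, h3⟩
  have hv0 : v ≠ 0 := by
    intro h; rw [h, map_zero] at hav; exact hav rfl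
  set w := b v with hw
  obtain ⟨ν, e, hν, hνv⟩ := h1 v w hv0 hbv
  let Ann : V → Set (Module.End (ZMod p) V) := fun x => {s | s ∈ S ∧ s x = 0}
  have hsub : Ann v ⊂ Ann w := by
    constructor
    · intro s hs
      refine ⟨hs.1, ?_⟩
      have hc : s * b = b * s := adj_comm p T s b hs.1 hb
      have : s (b v) = b (s v) := by
        have := congrArg (fun f : Module.End (ZMod p) V => f v) hc
        simpa using this
      rw [hw, this, hs.2, map_zero]
    · intro hcon
      have haw : a ∈ Ann w := by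
        refine ⟨ha, ?_⟩
        have := congrArg (fun f : Module.End (ZMod p) V => f v) hab
        simpa using this
      exact hav (hcon haw).2
  have hfin : ∀ x, (Ann x).Finite := fun x => Set.toFinite _
  have hlt : (Ann v).ncard < (Ann w).ncard := Set.ncard_lt_ncard hsub (hfin w)
  -- the conjugation map
  let c := ν.conjAlgEquiv (ZMod p)
  have hcS : ∀ s ∈ S, c s ∈ S := fun s hs => conj_mem p T ν e hν s hs
  have hSfin : S.Finite := Set.toFinite _
  have himg : c '' S = S := by
    apply Set.eq_of_subset_of_ncard_le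
    · rintro _ ⟨s, hs, rfl⟩; exact hcS s hs
    · rw [Set.ncard_image_of_injective _ c.injective]
    · exact hSfin
  have hle : Ann w ⊆ c '' (Ann v) := by
    intro s' hs'
    have : s' ∈ c '' S := by rw [himg]; exact hs'.1
    obtain ⟨s, hs, rfl⟩ := this
    refine ⟨s, ⟨hs, ?_⟩, rfl⟩
    have h2 := hs'.2
    change (ν.conjAlgEquiv (ZMod p) s) w = 0 at h2
    rw [LinearEquiv.conjAlgEquiv_apply] at h2
    simp only [LinearMap.coe_comp, LinearEquiv.coe_coe, Function.comp_apply] at h2
    have h3 : ν.symm w = v := by rw [← hνv]; simp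
    rw [h3] at h2
    simpa using h2
  have hle2 : (Ann w).ncard ≤ (Ann v).ncard := by
    calc (Ann w).ncard ≤ (c '' (Ann v)).ncard := Set.ncard_le_ncard hle (Set.toFinite _)
      _ ≤ (Ann v).ncard := Set.ncard_image_le (hfin v)
  omega

theorem core_prim_root (p q : ℕ) [hp : Fact p.Prime] [hq : Fact q.Prime] (hpq : p ≠ q)
    {V : Type*} [AddCommGroup V] [Module (ZMod p) V] [Finite V] [Nontrivial V]
    (T : Module.End (ZMod p) V) (hTq : T ^ q = 1) (hfpf : ∀ v, T v = v → v = 0)
    (h1 : ∀ v w : V, v ≠ 0 → w ≠ 0 → ∃ (ν : V ≃ₗ[ZMod p] V) (e : ℕ),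
      (∀ u, ν (T u) = (T ^ e) (ν u)) ∧ ν v = w)
    (h2 : ∀ j : ℕ, 0 < j → j < q → ∃ ψ : V ≃ₗ[ZMod p] V, ∀ u, ψ (T u) = (T ^ j) (ψ u)) :
    orderOf (p : ZMod q) = q - 1 := by
  classical
  have hfinE : Finite (Module.End (ZMod p) V) :=
    Finite.of_injective (fun f : Module.End (ZMod p) V => (f : V → V)) DFunLike.coe_injective
  let S : Subalgebra (ZMod p) (Module.End (ZMod p) V) := Algebra.adjoin (ZMod p) {T}
  have hTS : T ∈ S := Algebra.self_mem_adjoin_singleton _ T
  let t : S := ⟨T, hTS⟩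
  have hnzd : NoZeroDivisors S := by
    constructor
    intro a b hab
    have := adj_noZeroDiv p T h1 a.1 b.1 a.2 b.2 (by
      have := congrArg Subtype.val hab
      simpa using this)
    rcases this with h | h
    · left; exact Subtype.ext h
    · right; exact Subtype.ext h
  have hdom : IsDomain S := NoZeroDivisors.to_isDomain S
  -- t has order q
  have htq : t ^ q = 1 := Subtype.ext (by simpa using hTq)
  have ht1 : t ≠ 1 := by
    intro h
    have hT1 : T = 1 := congrArg Subtype.val h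
    obtain ⟨v, hv⟩ := exists_ne (0 : V)
    exact hv (hfpf v (by rw [hT1]; rfl))
  have hord : orderOf t = q := orderOf_eq_prime htq ht1
  -- minimal polynomial
  have hcyc : aeval t (cyclotomic q (ZMod p)) = 0 := by
    rw [← Subalgebra.coe_eq_zero, aeval_subalgebra_coe]
    exact cyclo_zero p q T hTq hfpf
  have hint : IsIntegral (ZMod p) t := Algebra.IsIntegral.isIntegral t
  have hirr : Irreducible (minpoly (ZMod p) t) := minpoly.irreducible hint
  have hdvd : minpoly (ZMod p) t ∣ cyclotomic q (ZMod p) := minpoly.dvd (ZMod p) t hcyc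
  have hcop : p.Coprime q := (Nat.coprime_primes hp.out hq.out).mpr hpq
  have hdeg := natDegree_of_dvd_cyclotomic_of_irreducible (K := ZMod p) (p := p) (f := 1) (n := q)
    (by simp [ZMod.card]) hcop hdvd hirr
  -- roots
  have hroot : ∀ j : ℕ, 0 < j → j < q → aeval (t ^ j) (minpoly (ZMod p) t) = 0 := by
    intro j hj0 hjq
    obtain ⟨ψ, hψ⟩ := h2 j hj0 hjq
    let c := ψ.conjAlgEquiv (ZMod p)
    let α : S →ₐ[ZMod p] S := (c.toAlgHom.comp S.val).codRestrict S
      (fun s => conj_mem p T ψ j hψ s.1 s.2)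
    have hαt : α t = t ^ j := by
      apply Subtype.ext
      change c T = _
      rw [conj_T p T ψ j hψ]
      rfl
    rw [← hαt, aeval_algHom_apply, minpoly.aeval, map_zero]
  have hm0 : minpoly (ZMod p) t ≠ 0 := minpoly.ne_zero hint
  have hsub : (Finset.Ico 1 q).image (fun j => t ^ j) ⊆ ((minpoly (ZMod p) t).aroots S).toFinset := by
    intro x hx
    rw [Finset.mem_image] at hx
    obtain ⟨j, hj, rfl⟩ := hx
    rw [Finset.mem_Ico] at hj
    rw [Multiset.mem_toFinset, mem_aroots]
    exact ⟨hm0, hroot j (by omega) hj.2⟩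
  have hcard1 : ((Finset.Ico 1 q).image (fun j => t ^ j)).card = q - 1 := by
    rw [Finset.card_image_of_injOn]
    · simp
    · intro a ha b hb hab
      apply pow_injOn_Iio_orderOf (x := t)
      · rw [hord]; simp at ha ⊢; omega
      · rw [hord]; simp at hb ⊢; omega
      · exact hab
  have hcard2 : ((minpoly (ZMod p) t).aroots S).toFinset.card ≤ (minpoly (ZMod p) t).natDegree := by
    calc ((minpoly (ZMod p) t).aroots S).toFinset.card
        ≤ Multiset.card ((minpoly (ZMod p) t).aroots S) := Multiset.toFinset_card_le _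
      _ ≤ ((minpoly (ZMod p) t).map (algebraMap (ZMod p) S)).natDegree := card_roots' _
      _ ≤ (minpoly (ZMod p) t).natDegree := natDegree_map_le
  have hge : q - 1 ≤ (minpoly (ZMod p) t).natDegree := by
    rw [← hcard1]
    exact le_trans (Finset.card_le_card hsub) hcard2
  rw [hdeg] at hge
  have hle : orderOf (ZMod.unitOfCoprime (p ^ 1) (hcop.pow_left 1)) ≤ q - 1 := by
    have h := orderOf_le_card_univ (x := ZMod.unitOfCoprime (p ^ 1) (hcop.pow_left 1))
    rwa [ZMod.card_units_eq_totient, Nat.totient_prime hq.out] at h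
  have heq : orderOf (ZMod.unitOfCoprime (p ^ 1) (hcop.pow_left 1)) = q - 1 := le_antisymm hle hge
  rw [← heq, ← orderOf_units]
  simp

end Cfsg.Agent.Lib.Helper22.AutOrb1
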