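import Mathlib
import Cfsg.Agent.Lib.Helper22.AutOrb1

open Polynomial
open scoped IsMulCommutative

namespace Cfsg.Agent.Lib.Helper22.AutOrb2

open Cfsg.Agent.Lib.Helper22.AutOrb1

theorem cyclo_irred (p q : ℕ) [hp : Fact p.Prime] [hq : Fact q.Prime] (hpq : p ≠ q)
    (hprim : orderOf (p : ZMod q) = q - 1) : Irreducible (cyclotomic q (ZMod p)) := by
  have hpn : ¬ p ∣ q := by
    intro h
    exact hpq ((Nat.prime_dvd_prime_iff_eq hp.out hq.out).mp h)
  apply ZMod.irreducible_of_dvd_cyclotomic_of_natDegree hpn dvd_rfl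
  rw [natDegree_cyclotomic, Nat.totient_prime hq.out, ← hprim, ← orderOf_units]
  simp

def toZLin (p : ℕ) {V : Type*} [AddCommGroup V] [Module (ZMod p) V] (g : V ≃+ V) : V ≃ₗ[ZMod p] V :=
  { g with map_smul' := fun c x => ZMod.map_smul g c x }

theorem toZLin_apply (p : ℕ) {V : Type*} [AddCommGroup V] [Module (ZMod p) V] (g : V ≃+ V) (v : V) :
    toZLin p g v = g v := rfl

theorem core_transitive (p q : ℕ) [hp : Fact p.Prime] [hq : Fact q.Prime] (hpq : p ≠ q)
    {V : Type*} [AddCommGroup V] [Module (ZMod p) V] [Finite V]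
    (T : Module.End (ZMod p) V) (hTq : T ^ q = 1) (hfpf : ∀ v, T v = v → v = 0)
    (hprim : orderOf (p : ZMod q) = q - 1) :
    (∀ v w : V, v ≠ 0 → w ≠ 0 → ∃ f : V ≃ₗ[ZMod p] V, (∀ u, f (T u) = T (f u)) ∧ f v = w) ∧
    (∃ ψ : V ≃ₗ[ZMod p] V, ∀ u, ψ (T u) = (T ^ p) (ψ u)) := by
  classical
  have hirr : Irreducible (cyclotomic q (ZMod p)) := cyclo_irred p q hpq hprim
  have : Fact (Irreducible (cyclotomic q (ZMod p))) := ⟨hirr⟩
  let K := AdjoinRoot (cyclotomic q (ZMod p))
  let S : Subalgebra (ZMod p) (Module.End (ZMod p) V) := Algebra.adjoin (ZMod p) {T}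
  have hTS : T ∈ S := Algebra.self_mem_adjoin_singleton _ T
  let t : S := ⟨T, hTS⟩
  have hcyc : aeval t (cyclotomic q (ZMod p)) = 0 := by
    rw [← Subalgebra.coe_eq_zero, aeval_subalgebra_coe]
    exact cyclo_zero p q T hTq hfpf
  let φ₀ : K →+* S := AdjoinRoot.lift (algebraMap (ZMod p) S) t (by rw [← aeval_def]; exact hcyc)
  let φ : K →+* Module.End (ZMod p) V := S.val.toRingHom.comp φ₀
  have hφroot : φ (AdjoinRoot.root _) = T := by
    change ((φ₀ (AdjoinRoot.root _) : S) : Module.End (ZMod p) V) = T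
    rw [AdjoinRoot.lift_root]
  let _ : Module K V := Module.compHom V φ
  have hsmul : ∀ (k : K) (v : V), k • v = φ k v := fun k v => rfl
  have hrootT : ∀ v : V, (AdjoinRoot.root (cyclotomic q (ZMod p))) • v = T v := by
    intro v; rw [hsmul, hφroot]
  refine ⟨?_, ?_⟩
  · intro v w hv hw
    let f₀ : (K ∙ v) ≃ₗ[K] (K ∙ w) :=
      (LinearEquiv.toSpanNonzeroSingleton K V v hv).symm ≪≫ₗ LinearEquiv.toSpanNonzeroSingleton K V w hw
    obtain ⟨g, hg⟩ := Submodule.exists_linearEquiv_restrict_eq f₀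
    refine ⟨toZLin p g.toAddEquiv, ?_, ?_⟩
    · intro u
      rw [toZLin_apply, toZLin_apply]
      change g (T u) = T (g u)
      rw [← hrootT, ← hrootT, map_smul]
    · rw [toZLin_apply]
      change g v = w
      have := hg ⟨v, Submodule.mem_span_singleton_self v⟩
      rw [← this]
      simp only [f₀, LinearEquiv.trans_apply, LinearEquiv.toSpanNonzeroSingleton_apply]
      rw [show (LinearEquiv.toSpanNonzeroSingleton K V v hv).symm
        ⟨v, Submodule.mem_span_singleton_self v⟩ = 1 from LinearEquiv.coord_self K V v hv, one_smul]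
  · have hmonic : (cyclotomic q (ZMod p)).Monic := cyclotomic.monic q (ZMod p)
    have hfinK0 : Module.Finite (ZMod p) K := hmonic.finite_adjoinRoot
    have hfinK : Finite K := Module.finite_of_finite (ZMod p)
    have hchar : CharP K p := charP_of_injective_algebraMap (algebraMap (ZMod p) K).injective p
    have hbij : Function.Bijective (frobenius K p) :=
      Finite.injective_iff_bijective.mp (frobenius K p).injective
    let Fr : K ≃+* K := RingEquiv.ofBijective (frobenius K p) hbij
    let b := Module.finBasis K V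
    let e : V ≃ₗ[K] (Fin (Module.finrank K V) → K) := b.equivFun
    let F : (Fin (Module.finrank K V) → K) ≃+ (Fin (Module.finrank K V) → K) :=
      AddEquiv.piCongrRight (fun _ => Fr.toAddEquiv)
    let ψ₀ : V ≃+ V := e.toAddEquiv.trans (F.trans e.symm.toAddEquiv)
    have hψ : ∀ (a : K) (v : V), ψ₀ (a • v) = (a ^ p) • ψ₀ v := by
      intro a v
      change e.symm (F (e (a • v))) = (a ^ p) • e.symm (F (e v))
      have h1 : F (a • e v) = (a ^ p) • F (e v) := by
        ext i
        change frobenius K p ((a • e v) i) = (a ^ p) • frobenius K p (e v i)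
        rw [Pi.smul_apply, smul_eq_mul, map_mul, frobenius_def, smul_eq_mul]
      rw [map_smul, h1, map_smul]
    refine ⟨toZLin p ψ₀, ?_⟩
    intro u
    rw [toZLin_apply, toZLin_apply, ← hrootT, hψ, hsmul, map_pow, hφroot]

end Cfsg.Agent.Lib.Helper22.AutOrb2
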