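import Mathlib
import Cfsg.Agent.Lib.Helper22.AutOrb2

namespace Cfsg.Agent.Lib.Helper22.AutOrb3

open Cfsg.Agent.Lib.Helper22.AutOrb1 Cfsg.Agent.Lib.Helper22.AutOrb2

def lin (p : ℕ) (A : Type*) [CommGroup A] [Module (ZMod p) (Additive A)] (f : MulAut A) :
    Module.End (ZMod p) (Additive A) :=
  (MulEquiv.toAdditive f).toAddMonoidHom.toZModLinearMap p

theorem lin_apply (p : ℕ) (A : Type*) [CommGroup A] [Module (ZMod p) (Additive A)] (f : MulAut A)
    (a : A) : lin p A f (Additive.ofMul a) = Additive.ofMul (f a) := rfl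

theorem lin_pow (p : ℕ) (A : Type*) [CommGroup A] [Module (ZMod p) (Additive A)] (f : MulAut A)
    (e : ℕ) : lin p A (f ^ e) = (lin p A f) ^ e := by
  induction e with
  | zero => rfl
  | succ n ih => rw [pow_succ, pow_succ, ← ih]; rfl

def linE (p : ℕ) (A : Type*) [CommGroup A] [Module (ZMod p) (Additive A)] (f : MulAut A) :
    Additive A ≃ₗ[ZMod p] Additive A := toZLin p (MulEquiv.toAdditive f)

theorem linE_apply (p : ℕ) (A : Type*) [CommGroup A] [Module (ZMod p) (Additive A)] (f : MulAut A)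
    (a : A) : linE p A f (Additive.ofMul a) = Additive.ofMul (f a) := rfl

def unlinE (p : ℕ) (A : Type*) [CommGroup A] [Module (ZMod p) (Additive A)]
    (g : Additive A ≃ₗ[ZMod p] Additive A) : MulAut A := MulEquiv.toAdditive.symm g.toAddEquiv

theorem unlinE_apply (p : ℕ) (A : Type*) [CommGroup A] [Module (ZMod p) (Additive A)]
    (g : Additive A ≃ₗ[ZMod p] Additive A) (a : A) :
    unlinE p A g a = Additive.toMul (g (Additive.ofMul a)) := rfl

theorem mul_prim_root {A : Type*} [CommGroup A] [Finite A] [Nontrivial A] (p q : ℕ)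
    [hp : Fact p.Prime] [hq : Fact q.Prime] (hpq : p ≠ q)
    (hexp : ∀ a : A, a ^ p = 1) (σ : MulAut A) (hσq : σ ^ q = 1) (hfpf : ∀ a : A, σ a = a → a = 1)
    (h1 : ∀ a b : A, a ≠ 1 → b ≠ 1 → ∃ (ν : MulAut A) (e : ℕ),
      (∀ u, ν (σ u) = (σ ^ e) (ν u)) ∧ ν a = b)
    (h2 : ∀ j : ℕ, 0 < j → j < q → ∃ ψ : MulAut A, ∀ u, ψ (σ u) = (σ ^ j) (ψ u)) :
    orderOf (p : ZMod q) = q - 1 := by
  let inst : Module (ZMod p) (Additive A) := AddCommGroup.zmodModule (n := p) (fun x => by
    change Additive.ofMul (Additive.toMul x ^ p) = 0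
    rw [hexp]; rfl)
  apply core_prim_root p q hpq (V := Additive A) (lin p A σ)
  · rw [← lin_pow, hσq]; rfl
  · intro v hv
    have := hfpf (Additive.toMul v) (by
      have := congrArg Additive.toMul hv
      exact this)
    exact congrArg Additive.ofMul this
  · intro v w hv hw
    obtain ⟨ν, e, hν, hνvw⟩ := h1 (Additive.toMul v) (Additive.toMul w)
      (fun h => hv (congrArg Additive.ofMul h)) (fun h => hw (congrArg Additive.ofMul h))
    refine ⟨linE p A ν, e, ?_, ?_⟩
    · intro u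
      rw [← lin_pow]
      exact congrArg Additive.ofMul (hν (Additive.toMul u))
    · exact congrArg Additive.ofMul hνvw
  · intro j hj0 hjq
    obtain ⟨ψ, hψ⟩ := h2 j hj0 hjq
    refine ⟨linE p A ψ, ?_⟩
    intro u
    rw [← lin_pow]
    exact congrArg Additive.ofMul (hψ (Additive.toMul u))

theorem mul_transitive {A : Type*} [CommGroup A] [Finite A] (p q : ℕ)
    [hp : Fact p.Prime] [hq : Fact q.Prime] (hpq : p ≠ q)
    (hexp : ∀ a : A, a ^ p = 1) (σ : MulAut A) (hσq : σ ^ q = 1) (hfpf : ∀ a : A, σ a = a → a = 1)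
    (hprim : orderOf (p : ZMod q) = q - 1) :
    (∀ a b : A, a ≠ 1 → b ≠ 1 → ∃ f : MulAut A, (∀ u, f (σ u) = σ (f u)) ∧ f a = b) ∧
    (∃ ψ : MulAut A, ∀ u, ψ (σ u) = (σ ^ p) (ψ u)) := by
  let inst : Module (ZMod p) (Additive A) := AddCommGroup.zmodModule (n := p) (fun x => by
    change Additive.ofMul (Additive.toMul x ^ p) = 0
    rw [hexp]; rfl)
  obtain ⟨hA, ψ, hψ⟩ := core_transitive p q hpq (V := Additive A) (lin p A σ)
    (by rw [← lin_pow, hσq]; rfl)
    (by
      intro v hv
      have := hfpf (Additive.toMul v) (by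
        have := congrArg Additive.toMul hv
        exact this)
      exact congrArg Additive.ofMul this) hprim
  refine ⟨?_, ?_⟩
  · intro a b ha hb
    obtain ⟨f, hf, hfab⟩ := hA (Additive.ofMul a) (Additive.ofMul b)
      (fun h => ha (congrArg Additive.toMul h)) (fun h => hb (congrArg Additive.toMul h))
    refine ⟨unlinE p A f, ?_, ?_⟩
    · intro u
      exact congrArg Additive.toMul (hf (Additive.ofMul u))
    · exact congrArg Additive.toMul hfab
  · refine ⟨unlinE p A ψ, ?_⟩
    intro u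
    have := hψ (Additive.ofMul u)
    rw [← lin_pow] at this
    exact congrArg Additive.toMul this

end Cfsg.Agent.Lib.Helper22.AutOrb3
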