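import Mathlib

open scoped IsMulCommutative

namespace Cfsg.Agent.Lib.Helper22.AutOrb4

theorem mk_eq_iff {G : Type*} [Group G] (x y : G) :
    (Quotient.mk'' x : MulAction.orbitRel.Quotient (MulAut G) G) = Quotient.mk'' y ↔
      ∃ φ : MulAut G, φ y = x := by
  rw [Quotient.eq'']
  change x ∈ MulAction.orbit (MulAut G) y ↔ _
  rw [MulAction.mem_orbit_iff]
  rfl

theorem orbit_cases {G : Type*} [Group G] [Finite G]
    (h3 : Nat.card (MulAction.orbitRel.Quotient (MulAut G) G) = 3)
    (a b : G) (ha1 : a ≠ 1) (hb1 : b ≠ 1) (hab : orderOf a ≠ orderOf b) (g : G) :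
    g = 1 ∨ (∃ φ : MulAut G, φ a = g) ∨ (∃ φ : MulAut G, φ b = g) := by
  let Q := MulAction.orbitRel.Quotient (MulAut G) G
  let mk : G → Q := fun x => Quotient.mk'' x
  let f : Fin 3 → Q := ![mk 1, mk a, mk b]
  have h1a : mk 1 ≠ mk a := by
    intro h
    obtain ⟨φ, hφ⟩ := (mk_eq_iff 1 a).mp h
    exact ha1 (by simpa using hφ)
  have h1b : mk 1 ≠ mk b := by
    intro h
    obtain ⟨φ, hφ⟩ := (mk_eq_iff 1 b).mp h
    exact hb1 (by simpa using hφ)
  have hab' : mk a ≠ mk b := by
    intro h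
    obtain ⟨φ, hφ⟩ := (mk_eq_iff a b).mp h
    apply hab
    rw [← hφ, MulEquiv.orderOf_eq]
  have hinj : Function.Injective f := by
    intro i j hij
    fin_cases i <;> fin_cases j <;> simp [f] at hij ⊢
    · exact h1a hij
    · exact h1b hij
    · exact h1a hij.symm
    · exact hab' hij
    · exact h1b hij.symm
    · exact hab' hij.symm
  have hfinQ : Finite Q := Quotient.finite _
  have hbij : Function.Bijective f := hinj.bijective_of_nat_card_le (by
    rw [h3]; simp)
  obtain ⟨i, hi⟩ := hbij.2 (mk g)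
  fin_cases i
  · left
    obtain ⟨φ, hφ⟩ := (mk_eq_iff 1 g).mp hi
    have : g = φ⁻¹ 1 := by rw [← hφ]; simp
    simpa using this
  · right; left
    obtain ⟨φ, hφ⟩ := (mk_eq_iff a g).mp hi
    exact ⟨φ⁻¹, by rw [← hφ]; simp⟩
  · right; right
    obtain ⟨φ, hφ⟩ := (mk_eq_iff b g).mp hi
    exact ⟨φ⁻¹, by rw [← hφ]; simp⟩


noncomputable def powEquiv (K : Type*) [CommGroup K] [Finite K] (m : ℕ) (h : (Nat.card K).Coprime m) : K ≃* K :=
  MulEquiv.ofBijective (powMonoidHom m) (powCoprime h).bijective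

theorem powEquiv_apply (K : Type*) [CommGroup K] [Finite K] (m : ℕ) (h : (Nat.card K).Coprime m) (k : K) :
    powEquiv K m h k = k ^ m := rfl

theorem conj_pow_compat {G : Type*} [Group G] (A : Subgroup G) [hA : A.Normal] (x : G)
    (f : A ≃* A) (m : ℕ)
    (hf : ∀ w : A, f (MulAut.conjNormal x w) = MulAut.conjNormal (x ^ m) (f w)) (i : ℕ) (w : A) :
    f (MulAut.conjNormal (x ^ i) w) = MulAut.conjNormal ((x ^ m) ^ i) (f w) := by
  induction i generalizing w with
  | zero => simp
  | succ i ih =>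
    rw [pow_succ, pow_succ, map_mul, map_mul, MulAut.mul_apply, MulAut.mul_apply, ih, hf]

theorem ext_aut {G : Type*} [Group G] [Finite G] (A : Subgroup G) [hA : A.Normal] (x : G)
    (hcompl : A.IsComplement' (Subgroup.zpowers x))
    (f : A ≃* A) (m : ℕ) (hm : (orderOf x).Coprime m)
    (hf : ∀ w : A, f (MulAut.conjNormal x w) = MulAut.conjNormal (x ^ m) (f w)) :
    ∃ Φ : MulAut G, (∀ w : A, Φ w = f w) ∧ Φ x = x ^ m := by
  classical
  let K := Subgroup.zpowers x
  have hcardK : (Nat.card K).Coprime m := by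
    rw [Nat.card_zpowers]; exact hm
  let fg : K ≃* K := powEquiv K m hcardK
  let act : K →* MulAut A := (A.normalizerMonoidHom).comp (Subgroup.inclusion (A.normalizer_eq_top ▸ le_top))
  have hact : ∀ (k : K) (w : A), ((act k w : A) : G) = k * w * (k : G)⁻¹ := by
    intro k w
    rfl
  have hcompat : ∀ k : K, (act k).trans f = f.trans (act (fg k)) := by
    intro k
    ext w
    simp only [MulEquiv.trans_apply]
    obtain ⟨i, hi⟩ : ∃ i : ℕ, x ^ i = (k : G) := by
      have := k.2
      rw [← mem_powers_iff_mem_zpowers] at this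
      exact this
    have h1 : act k w = MulAut.conjNormal (x ^ i) w := by
      apply Subtype.ext
      rw [hact, MulAut.conjNormal_apply, hi]
    have h2 : act (fg k) (f w) = MulAut.conjNormal ((x ^ m) ^ i) (f w) := by
      apply Subtype.ext
      rw [hact, MulAut.conjNormal_apply, powEquiv_apply]
      have : ((k ^ m : K) : G) = (x ^ m) ^ i := by
        rw [Subgroup.coe_pow, ← hi, ← pow_mul, ← pow_mul, mul_comm]
      rw [this]
    rw [h1, h2, conj_pow_compat A x f m hf i w]
  let e := SemidirectProduct.mulEquivSubgroup hcompl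
  let Φ : MulAut G := e.symm.trans ((SemidirectProduct.congr f fg hcompat).trans e)
  refine ⟨Φ, ?_, ?_⟩
  · intro w
    have h1 : e.symm (w : G) = SemidirectProduct.inl w := by
      rw [MulEquiv.symm_apply_eq]
      simp [e]
    change e ((SemidirectProduct.congr f fg hcompat) (e.symm (w : G))) = _
    rw [h1]
    simp [e]
  · have hxK : x ∈ K := Subgroup.mem_zpowers x
    have h1 : e.symm x = SemidirectProduct.inr (⟨x, hxK⟩ : K) := by
      rw [MulEquiv.symm_apply_eq]
      simp [e]
    change e ((SemidirectProduct.congr f fg hcompat) (e.symm x)) = _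
    rw [h1]
    simp [e, fg, powEquiv_apply]

theorem conj_to_power {G : Type*} [Group G] [Finite G] (A : Subgroup G) [hA : A.Normal]
    (hAcomm : ∀ u ∈ A, ∀ v ∈ A, u * v = v * u)
    (x : G) (hsup : ∀ g : G, ∃ u ∈ A, ∃ i : ℕ, g = u * x ^ i)
    (hfpf : ∀ c : G, c ∈ Subgroup.zpowers x → c ≠ 1 → ∀ w ∈ A, c * w * c⁻¹ = w → w = 1)
    (y : G) (hy : y ∉ A) :
    ∃ u₀ ∈ A, ∃ e : ℕ, y = u₀ * x ^ e * u₀⁻¹ ∧ x ^ e ≠ 1 := by
  classical
  obtain ⟨u, hu, e, hye⟩ := hsup y
  have hc1 : x ^ e ≠ 1 := by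
    intro h
    rw [h, mul_one] at hye
    exact hy (hye ▸ hu)
  set c := x ^ e with hc
  have hcK : c ∈ Subgroup.zpowers x := Subgroup.npow_mem_zpowers x e
  let inst : CommGroup A := { (inferInstance : Group A) with
    mul_comm := fun a b => Subtype.ext (hAcomm a a.2 b b.2) }
  let τ : A →* A := (MulAut.conjNormal c : MulAut A).toMonoidHom
  let L : A →* A := (MonoidHom.id A) * τ⁻¹
  have hL : ∀ w : A, L w = w * (MulAut.conjNormal c w)⁻¹ := fun w => rfl
  have hinj : Function.Injective L := by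
    rw [injective_iff_map_eq_one]
    intro w hw
    rw [hL, mul_inv_eq_one] at hw
    have h1 : c * (w : G) * c⁻¹ = w := by
      have := congrArg Subtype.val hw
      rw [MulAut.conjNormal_apply] at this
      exact this.symm
    exact Subtype.ext (hfpf c hcK hc1 w w.2 h1)
  have hsurj : Function.Surjective L := Finite.injective_iff_surjective.mp hinj
  obtain ⟨u₀, hu₀⟩ := hsurj ⟨u, hu⟩
  refine ⟨u₀, u₀.2, e, ?_, hc1⟩
  have h2 : (u₀ : G) * (c * u₀ * c⁻¹)⁻¹ = u := by
    have := congrArg Subtype.val hu₀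
    rw [hL] at this
    simpa [MulAut.conjNormal_apply] using this
  rw [hye, ← h2, ← hc]
  group

end Cfsg.Agent.Lib.Helper22.AutOrb4
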