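import Mathlib
import Cfsg.Prelude
import Cfsg.Agent.Lib.Helper22.AutOrb3
import Cfsg.Agent.Lib.Helper22.AutOrb4
import Cfsg.Agent.Lib.Helper1.FpfAction

namespace Cfsg.Agent.Lib.Helper22.AutOrb5

open Cfsg.Agent.Lib.Helper22.AutOrb3 Cfsg.Agent.Lib.Helper22.AutOrb4

theorem no_pq {G : Type*} [Group G] (p q : ℕ) [hp : Fact p.Prime] [hq : Fact q.Prime] (hpq : p ≠ q)
    (hord : ∀ g : G, orderOf g = 1 ∨ orderOf g = p ∨ orderOf g = q)
    (a b : G) (hab : Commute a b) (ha : orderOf a = q) (hb : orderOf b = p) : False := by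
  have hcop : (orderOf a).Coprime (orderOf b) := by
    rw [ha, hb]; exact (Nat.coprime_primes hq.out hp.out).mpr (Ne.symm hpq)
  have h := hab.orderOf_mul_eq_mul_orderOf_of_coprime hcop
  rw [ha, hb] at h
  have hp2 := hp.out.two_le
  have hq2 := hq.out.two_le
  rcases hord (a * b) with h1 | h1 | h1
  · rw [h1] at h; nlinarith
  · rw [h1] at h; nlinarith
  · rw [h1] at h; nlinarith

theorem mem_char_of_aut {G : Type*} [Group G] (A : Subgroup G) [hAc : A.Characteristic]
    (φ : MulAut G) (z : G) (hz : z ∈ A) : φ z ∈ A := by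
  have := Subgroup.characteristic_iff_comap_eq.mp hAc φ
  rw [← this] at hz
  exact hz

theorem sylow_eq {G : Type*} [Group G] [Finite G] (p q : ℕ) [hp : Fact p.Prime] [hq : Fact q.Prime]
    (hpq : p ≠ q)
    (hord : ∀ g : G, orderOf g = 1 ∨ orderOf g = p ∨ orderOf g = q)
    (htp : ∀ g g' : G, orderOf g = p → orderOf g' = p → ∃ φ : MulAut G, φ g = g')
    (A : Subgroup G) [hAc : A.Characteristic] (hAcomm : ∀ u ∈ A, ∀ v ∈ A, u * v = v * u)
    (z : G) (hzA : z ∈ A) (hz : orderOf z = p) :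
    (∀ g : G, orderOf g = p → g ∈ A) ∧ (∀ g ∈ A, g ^ p = 1) ∧
    ∀ P : Sylow p G, (P : Subgroup G) = A := by
  have h1 : ∀ g : G, orderOf g = p → g ∈ A := by
    intro g hg
    obtain ⟨φ, hφ⟩ := htp z g hz hg
    rw [← hφ]
    exact mem_char_of_aut A φ z hzA
  have h2 : ∀ g ∈ A, g ^ p = 1 := by
    intro g hg
    rcases hord g with h | h | h
    · rw [orderOf_eq_one_iff] at h; rw [h, one_pow]
    · rw [← h]; exact pow_orderOf_eq_one g
    · exact (no_pq p q hpq hord g z (hAcomm g hg z hzA) h hz).elim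
  refine ⟨h1, h2, ?_⟩
  intro P
  have hApg : IsPGroup p A := by
    intro g
    refine ⟨1, ?_⟩
    rw [pow_one]
    exact Subtype.ext (h2 g g.2)
  have hle : (P : Subgroup G) ≤ A := by
    intro g hg
    obtain ⟨k, hk⟩ := IsPGroup.iff_orderOf.mp P.2 ⟨g, hg⟩
    rw [Subgroup.orderOf_mk] at hk
    rcases hord g with h | h | h
    · rw [orderOf_eq_one_iff] at h; rw [h]; exact A.one_mem
    · exact h1 g h
    · exfalso
      rw [h] at hk
      have hk0 : k ≠ 0 := by
        intro h0; rw [h0, pow_zero] at hk; exact hq.out.one_lt.ne' hk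
      have : p ∣ q := by rw [hk]; exact dvd_pow_self p hk0
      exact hpq ((Nat.prime_dvd_prime_iff_eq hp.out hq.out).mp this)
  exact (P.is_maximal' hApg hle).symm

theorem no_q_sq {G : Type*} [Group G] [Finite G] (p q : ℕ) [hp : Fact p.Prime] [hq : Fact q.Prime]
    (hpq : p ≠ q)
    (hord : ∀ g : G, orderOf g = 1 ∨ orderOf g = p ∨ orderOf g = q)
    (A : Subgroup G) [hAn : A.Normal] (hAcomm : ∀ u ∈ A, ∀ v ∈ A, u * v = v * u)
    (hAexp : ∀ g ∈ A, g ^ p = 1) (hAbot : A ≠ ⊥) : ¬ q ^ 2 ∣ Nat.card G := by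
  intro hdvd
  obtain ⟨K, hK⟩ := Sylow.exists_subgroup_card_pow_prime q hdvd
  have hKc : IsMulCommutative K := IsPGroup.isMulCommutative_of_card_eq_prime_sq (p := q) hK
  have hAc : IsMulCommutative A := ⟨⟨fun a b => Subtype.ext (hAcomm a a.2 b b.2)⟩⟩
  have hp2 := hp.out.two_le
  have hq2 := hq.out.two_le
  have hcyc : IsCyclic K := by
    apply Cfsg.Agent.Lib.Helper1.isCyclic_of_fpf_abelian K A hAbot
    · rw [Subgroup.normalizer_eq_top]; exact le_top
    · intro a ha ha1
      rw [eq_bot_iff]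
      intro w hw
      rw [Subgroup.mem_inf, Subgroup.mem_centralizer_iff] at hw
      rw [Subgroup.mem_bot]
      by_contra hw1
      have hwp : orderOf w = p := orderOf_eq_prime (hAexp w hw.1) hw1
      have haq : orderOf a = q := by
        have h1 : orderOf a ∣ q ^ 2 := by
          rw [← hK]
          have := orderOf_dvd_natCard (⟨a, ha⟩ : K)
          rwa [Subgroup.orderOf_mk] at this
        rcases hord a with h | h | h
        · rw [orderOf_eq_one_iff] at h; exact (ha1 h).elim
        · exfalso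
          rw [h] at h1
          have := hp.out.dvd_of_dvd_pow h1
          exact hpq ((Nat.prime_dvd_prime_iff_eq hp.out hq.out).mp this)
        · exact h
      have hcomm : Commute a w := (hw.2 a (Set.mem_singleton a))
      exact no_pq p q hpq hord a w hcomm haq hwp
  obtain ⟨g, hg⟩ := IsCyclic.exists_ofOrder_eq_natCard (α := K)
  rw [hK, ← Subgroup.orderOf_coe] at hg
  rcases hord (g : G) with h | h | h
  · rw [h] at hg; nlinarith
  · rw [h] at hg
    have : q ∣ p := by rw [hg]; exact dvd_pow_self q two_ne_zero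
    exact hpq ((Nat.prime_dvd_prime_iff_eq hq.out hp.out).mp this).symm
  · rw [h] at hg; nlinarith

theorem card_eq {G : Type*} [Group G] [Finite G] (p q : ℕ) [hp : Fact p.Prime] [hq : Fact q.Prime]
    (hpq : p ≠ q)
    (hord : ∀ g : G, orderOf g = 1 ∨ orderOf g = p ∨ orderOf g = q)
    (A : Subgroup G) [hAn : A.Normal] (hAcomm : ∀ u ∈ A, ∀ v ∈ A, u * v = v * u)
    (hAexp : ∀ g ∈ A, g ^ p = 1) (hAbot : A ≠ ⊥)
    (hsyl : ∀ P : Sylow p G, (P : Subgroup G) = A) (x : G) (hx : orderOf x = q) :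
    ∃ n : ℕ, 1 ≤ n ∧ Nat.card A = p ^ n ∧ A.index = q := by
  have hApg : IsPGroup p A := by
    intro g
    refine ⟨1, ?_⟩
    rw [pow_one]
    exact Subtype.ext (hAexp g g.2)
  obtain ⟨n, hn⟩ := IsPGroup.iff_card.mp hApg
  have hn1 : 1 ≤ n := by
    rcases Nat.eq_zero_or_pos n with h | h
    · exfalso
      rw [h, pow_zero] at hn
      exact hAbot (Subgroup.card_eq_one.mp hn)
    · exact h
  refine ⟨n, hn1, hn, ?_⟩
  have hm : ¬ p ∣ A.index := by
    have := (default : Sylow p G).not_dvd_index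
    rwa [hsyl] at this
  have hcard : Nat.card G = Nat.card A * A.index := (Subgroup.card_mul_index A).symm
  have hprime : ∀ {r : ℕ}, r.Prime → r ∣ A.index → r = q := by
    intro r hr hrm
    have : Fact r.Prime := ⟨hr⟩
    have hrG : r ∣ Nat.card G := hrm.trans (Subgroup.index_dvd_card A)
    obtain ⟨g, hg⟩ := exists_prime_orderOf_dvd_card' r hrG
    rcases hord g with h | h | h
    · rw [h] at hg; exact (hr.one_lt.ne hg).elim
    · rw [h] at hg; rw [← hg] at hrm; exact (hm hrm).elim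
    · rw [← hg, h]
  have hidx0 : A.index ≠ 0 := Subgroup.index_ne_zero_of_finite
  have hpow := Nat.eq_prime_pow_of_unique_prime_dvd hidx0 hprime
  set b := A.index.primeFactorsList.length with hb
  have hqG : q ∣ Nat.card G := by rw [← hx]; exact orderOf_dvd_natCard x
  have hqm : q ∣ A.index := by
    rw [hcard, hn] at hqG
    have hcop : q.Coprime (p ^ n) := ((Nat.coprime_primes hq.out hp.out).mpr (Ne.symm hpq)).pow_right n
    exact hcop.dvd_of_dvd_mul_left hqG
  have hb1 : b ≠ 0 := by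
    intro h0
    rw [hpow, h0, pow_zero] at hqm
    exact hq.out.one_lt.ne' (Nat.dvd_one.mp hqm)
  have hb2 : b < 2 := by
    by_contra hcon
    push Not at hcon
    apply no_q_sq p q hpq hord A hAcomm hAexp hAbot
    calc q ^ 2 ∣ q ^ b := pow_dvd_pow q hcon
      _ = A.index := hpow.symm
      _ ∣ Nat.card G := Subgroup.index_dvd_card A
  have hb3 : b = 1 := by omega
  rw [hpow, hb3, pow_one]

noncomputable def resA {G : Type*} [Group G] (A : Subgroup G) [hAc : A.Characteristic] (φ : MulAut G) : MulAut A :=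
  (φ.subgroupMap A).trans (MulEquiv.subgroupCongr (Subgroup.characteristic_iff_map_eq.mp hAc φ))

theorem resA_apply {G : Type*} [Group G] (A : Subgroup G) [hAc : A.Characteristic] (φ : MulAut G) (w : A) :
    ((resA A φ w : A) : G) = φ w := rfl

theorem conjNormal_pow {G : Type*} [Group G] (A : Subgroup G) [hA : A.Normal] (x : G) (e : ℕ) :
    (MulAut.conjNormal x : MulAut A) ^ e = MulAut.conjNormal (x ^ e) := by
  rw [map_pow]

theorem exists_decomp {G : Type*} [Group G] [Finite G] (A : Subgroup G) [hA : A.Normal] (x : G)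
    (hcard : Nat.card A * orderOf x = Nat.card G) (hcop : (Nat.card A).Coprime (orderOf x)) :
    A.IsComplement' (Subgroup.zpowers x) ∧ ∀ g : G, ∃ u ∈ A, ∃ i : ℕ, g = u * x ^ i := by
  have hc : A.IsComplement' (Subgroup.zpowers x) := by
    apply Subgroup.isComplement'_of_coprime
    · rw [Nat.card_zpowers]; exact hcard
    · rw [Nat.card_zpowers]; exact hcop
  refine ⟨hc, ?_⟩
  intro g
  have hsup : A ⊔ Subgroup.zpowers x = ⊤ := hc.sup_eq_top
  have hg : g ∈ ((A ⊔ Subgroup.zpowers x : Subgroup G) : Set G) := by rw [hsup]; trivial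
  rw [Subgroup.normal_mul] at hg
  obtain ⟨u, hu, k, hk, rfl⟩ := hg
  rw [SetLike.mem_coe, ← mem_powers_iff_mem_zpowers] at hk
  obtain ⟨i, rfl⟩ := hk
  exact ⟨u, hu, i, rfl⟩

theorem prim_root_of_orbits {G : Type*} [Group G] [Finite G] (p q : ℕ) [hp : Fact p.Prime]
    [hq : Fact q.Prime] (hpq : p ≠ q)
    (hord : ∀ g : G, orderOf g = 1 ∨ orderOf g = p ∨ orderOf g = q)
    (htp : ∀ g g' : G, orderOf g = p → orderOf g' = p → ∃ φ : MulAut G, φ g = g')
    (htq : ∀ g g' : G, orderOf g = q → orderOf g' = q → ∃ φ : MulAut G, φ g = g')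
    (A : Subgroup G) [hAc : A.Characteristic] (hAcomm : ∀ u ∈ A, ∀ v ∈ A, u * v = v * u)
    (hAexp : ∀ g ∈ A, g ^ p = 1) (hAbot : A ≠ ⊥) (n : ℕ) (hAcard : Nat.card A = p ^ n)
    (hidx : A.index = q) (x : G) (hx : orderOf x = q) :
    orderOf (p : ZMod q) = q - 1 := by
  classical
  have hAn : A.Normal := Subgroup.normal_of_characteristic A
  let inst : CommGroup A := { (inferInstance : Group A) with
    mul_comm := fun a b => Subtype.ext (hAcomm a a.2 b b.2) }
  have hnt : Nontrivial A := (Subgroup.nontrivial_iff_ne_bot A).mpr hAbot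
  have hcop : (Nat.card A).Coprime (orderOf x) := by
    rw [hAcard, hx]
    exact ((Nat.coprime_primes hp.out hq.out).mpr hpq).pow_left n
  have hcard : Nat.card A * orderOf x = Nat.card G := by
    rw [hx, ← hidx, Subgroup.card_mul_index]
  obtain ⟨hcompl, hsup⟩ := exists_decomp A x hcard hcop
  have hordA : ∀ w : G, w ∈ A → w ≠ 1 → orderOf w = p := fun w hw hw1 =>
    orderOf_eq_prime (hAexp w hw) hw1
  have hfix : ∀ c : G, c ∈ Subgroup.zpowers x → c ≠ 1 → ∀ w ∈ A, c * w * c⁻¹ = w → w = 1 := by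
    intro c hc hc1 w hw hcw
    by_contra hw1
    have hcq : orderOf c = q := by
      have h1 : orderOf c ∣ q := by
        rw [← hx]
        exact orderOf_dvd_of_mem_zpowers hc
      rcases (Nat.dvd_prime hq.out).mp h1 with h | h
      · rw [orderOf_eq_one_iff] at h; exact (hc1 h).elim
      · exact h
    have hcomm : Commute c w := by
      have : c * w = w * c := by
        calc c * w = c * w * c⁻¹ * c := by group
          _ = w * c := by rw [hcw]
      exact this
    exact no_pq p q hpq hord c w hcomm hcq (hordA w hw hw1)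
  let σ : MulAut A := MulAut.conjNormal x
  apply mul_prim_root (A := A) p q hpq (fun a => Subtype.ext (hAexp a a.2)) σ
  · rw [conjNormal_pow, ← hx, pow_orderOf_eq_one, map_one]
  · intro a ha
    have h1 : x * (a : G) * x⁻¹ = a := by
      have := congrArg Subtype.val ha
      rwa [MulAut.conjNormal_apply] at this
    have hx1 : x ≠ 1 := by
      intro h; rw [h, orderOf_one] at hx; exact hq.out.one_lt.ne hx
    exact Subtype.ext (hfix x (Subgroup.mem_zpowers x) hx1 a a.2 h1)
  · intro a b ha hb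
    have ha1 : (a : G) ≠ 1 := fun h => ha (Subtype.ext h)
    have hb1 : (b : G) ≠ 1 := fun h => hb (Subtype.ext h)
    obtain ⟨φ, hφ⟩ := htp a b (hordA a a.2 ha1) (hordA b b.2 hb1)
    have hy : orderOf (φ x) = q := by rw [MulEquiv.orderOf_eq, hx]
    have hyA : φ x ∉ A := by
      intro h
      have h1 : orderOf (φ x) ∣ p := orderOf_dvd_of_pow_eq_one (hAexp _ h)
      rw [hy] at h1
      exact hpq ((Nat.prime_dvd_prime_iff_eq hq.out hp.out).mp h1).symm
    obtain ⟨u₀, hu₀, e, hye, hxe⟩ := conj_to_power A hAcomm x hsup hfix (φ x) hyA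
    let φ' : MulAut G := MulAut.conj u₀⁻¹ * φ
    have hφ'x : φ' x = x ^ e := by
      change u₀⁻¹ * φ x * u₀⁻¹⁻¹ = x ^ e
      rw [hye]; group
    have hφ'a : φ' a = b := by
      change u₀⁻¹ * φ a * u₀⁻¹⁻¹ = b
      rw [hφ, inv_inv, hAcomm u₀⁻¹ (A.inv_mem hu₀) b b.2]
      group
    refine ⟨resA A φ', e, ?_, ?_⟩
    · intro w
      apply Subtype.ext
      rw [conjNormal_pow, resA_apply, MulAut.conjNormal_apply, MulAut.conjNormal_apply, resA_apply,
        map_mul, map_mul, map_inv, hφ'x]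
    · apply Subtype.ext
      rw [resA_apply, hφ'a]
  · intro j hj0 hjq
    have hxj : orderOf (x ^ j) = q := by
      apply orderOf_eq_prime
      · rw [← pow_mul, mul_comm, pow_mul, ← hx, pow_orderOf_eq_one, one_pow]
      · exact pow_ne_one_of_lt_orderOf hj0.ne' (by rw [hx]; exact hjq)
    obtain ⟨φ, hφ⟩ := htq x (x ^ j) hx hxj
    refine ⟨resA A φ, ?_⟩
    intro w
    apply Subtype.ext
    rw [conjNormal_pow, resA_apply, MulAut.conjNormal_apply, MulAut.conjNormal_apply, resA_apply,
      map_mul, map_mul, map_inv, hφ]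

end Cfsg.Agent.Lib.Helper22.AutOrb5
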