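import Mathlib
import Cfsg.Prelude
import Cfsg.Agent.Lib.Helper22.AutOrb5
import Cfsg.Agent.Lib.helper2.Burnside2

namespace Cfsg.Agent.Lib.Helper22.AutOrb6

open Cfsg.Agent.Lib.Helper22.AutOrb3 Cfsg.Agent.Lib.Helper22.AutOrb4 Cfsg.Agent.Lib.Helper22.AutOrb5

theorem main_of_char {G : Type*} [Group G] [Finite G] (p q : ℕ) [hp : Fact p.Prime]
    [hq : Fact q.Prime] (hpq : p ≠ q)
    (hord : ∀ g : G, orderOf g = 1 ∨ orderOf g = p ∨ orderOf g = q)
    (htp : ∀ g g' : G, orderOf g = p → orderOf g' = p → ∃ φ : MulAut G, φ g = g')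
    (htq : ∀ g g' : G, orderOf g = q → orderOf g' = q → ∃ φ : MulAut G, φ g = g')
    (A : Subgroup G) [hAc : A.Characteristic] (hAcomm : ∀ u ∈ A, ∀ v ∈ A, u * v = v * u)
    (z : G) (hzA : z ∈ A) (hz : orderOf z = p) (x : G) (hx : orderOf x = q) :
    ∃ n : ℕ, 1 ≤ n ∧ Nat.card G = p ^ n * q ∧
      (∀ P : Sylow p G, (P : Subgroup G).Normal ∧ Cfsg.IsElementaryAbelian p (P : Subgroup G)) ∧
      orderOf (p : ZMod q) = q - 1 ∧
      ∀ x y : G, orderOf x = q → orderOf y = p → x * y * x⁻¹ ≠ y := by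
  obtain ⟨h1, h2, h3⟩ := sylow_eq p q hpq hord htp A hAcomm z hzA hz
  have hAn : A.Normal := Subgroup.normal_of_characteristic A
  have hAbot : A ≠ ⊥ := by
    intro h
    rw [h, Subgroup.mem_bot] at hzA
    rw [hzA, orderOf_one] at hz
    exact hp.out.one_lt.ne hz
  obtain ⟨n, hn1, hAcard, hidx⟩ := card_eq p q hpq hord A hAcomm h2 hAbot h3 x hx
  refine ⟨n, hn1, ?_, ?_, ?_, ?_⟩
  · rw [← Subgroup.card_mul_index A, hAcard, hidx]
  · intro P
    rw [h3 P]
    exact ⟨hAn, ⟨⟨fun a b => Subtype.ext (hAcomm a a.2 b b.2)⟩⟩, h2⟩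
  · exact prim_root_of_orbits p q hpq hord htp htq A hAcomm h2 hAbot n hAcard hidx x hx
  · intro x' y' hx' hy' hcon
    have hcomm : Commute x' y' := by
      have : x' * y' = y' * x' := by
        calc x' * y' = x' * y' * x'⁻¹ * x' := by group
          _ = y' * x' := by rw [hcon]
      exact this
    exact no_pq p q hpq hord x' y' hcomm hx' hy'

theorem exists_char_abelian {G : Type*} [Group G] [Nontrivial G] (hs : Group.IsSolvable G) :
    ∃ A : Subgroup G, A.Characteristic ∧ A ≠ ⊥ ∧ ∀ u ∈ A, ∀ v ∈ A, u * v = v * u := by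
  classical
  have hex : ∃ n : ℕ, derivedSeries G n = ⊥ := hs.solvable
  have hk0 : Nat.find hex ≠ 0 := by
    intro h0
    have := Nat.find_spec hex
    rw [h0, derivedSeries_zero] at this
    exact top_ne_bot this
  obtain ⟨j, hj⟩ := Nat.exists_eq_succ_of_ne_zero hk0
  have hjlt : j < Nat.find hex := by rw [hj]; exact Nat.lt_succ_self j
  have hA : derivedSeries G j ≠ ⊥ := Nat.find_min hex hjlt
  have hA' : derivedSeries G (j + 1) = ⊥ := by
    have := Nat.find_spec hex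
    rwa [hj] at this
  refine ⟨derivedSeries G j, derivedSeries_characteristic G j, hA, ?_⟩
  intro u hu v hv
  rw [derivedSeries_succ, Subgroup.commutator_eq_bot_iff_le_centralizer] at hA'
  have := hA' hu
  rw [Subgroup.mem_centralizer_iff] at this
  exact (this v hv).symm

theorem two_primes (N : ℕ) (hnpp : ¬ IsPrimePow N) (hN0 : N ≠ 0) (hnt : N ≠ 1) :
    ∃ p q : ℕ, p.Prime ∧ q.Prime ∧ p ≠ q ∧ p ∣ N ∧ q ∣ N := by
  have hp : N.minFac.Prime := Nat.minFac_prime hnt
  by_contra hcon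
  push Not at hcon
  have hall : ∀ {r : ℕ}, r.Prime → r ∣ N → r = N.minFac := by
    intro r hr hrN
    by_contra hne
    exact hcon N.minFac r hp hr (Ne.symm hne) (Nat.minFac_dvd N) hrN
  have hpow := Nat.eq_prime_pow_of_unique_prime_dvd hN0 hall
  apply hnpp
  rw [isPrimePow_nat_iff]
  refine ⟨N.minFac, N.primeFactorsList.length, hp, ?_, hpow.symm⟩
  rcases Nat.eq_zero_or_pos N.primeFactorsList.length with h | h
  · rw [h, pow_zero] at hpow; exact (hnt hpow).elim
  · exact h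

theorem card_pq (N p q : ℕ) (hp : p.Prime) (hN0 : N ≠ 0)
    (hall : ∀ r : ℕ, r.Prime → r ∣ N → r = p ∨ r = q) : ∃ a b : ℕ, N = p ^ a * q ^ b := by
  have h1 := Nat.ordProj_mul_ordCompl_eq_self N p
  have hm0 : N / p ^ N.factorization p ≠ 0 := (Nat.ordCompl_pos p hN0).ne'
  have hall' : ∀ {r : ℕ}, r.Prime → r ∣ N / p ^ N.factorization p → r = q := by
    intro r hr hrm
    have hrN : r ∣ N := hrm.trans (Nat.ordCompl_dvd N p)
    rcases hall r hr hrN with h | h
    · exfalso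
      rw [h] at hrm
      exact Nat.not_dvd_ordCompl hp hN0 hrm
    · exact h
  have hpow := Nat.eq_prime_pow_of_unique_prime_dvd hm0 hall'
  refine ⟨N.factorization p, (N / p ^ N.factorization p).primeFactorsList.length, ?_⟩
  rw [← hpow, h1]

theorem forward {G : Type*} [Group G] [Finite G] (hnpp : ¬ IsPrimePow (Nat.card G))
    (hnt : Nat.card G ≠ 1)
    (h3 : Nat.card (MulAction.orbitRel.Quotient (MulAut G) G) = 3) :
    ∃ (p q n : ℕ) (_ : Fact p.Prime) (_ : Fact q.Prime), p ≠ q ∧ 1 ≤ n ∧ Nat.card G = p ^ n * q ∧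
      (∀ P : Sylow p G, (P : Subgroup G).Normal ∧ Cfsg.IsElementaryAbelian p (P : Subgroup G)) ∧
      orderOf (p : ZMod q) = q - 1 ∧
      ∀ x y : G, orderOf x = q → orderOf y = p → x * y * x⁻¹ ≠ y := by
  have hN0 : Nat.card G ≠ 0 := Nat.card_pos.ne'
  obtain ⟨p, q, hp, hq, hpq, hpN, hqN⟩ := two_primes (Nat.card G) hnpp hN0 hnt
  have hpF : Fact p.Prime := ⟨hp⟩
  have hqF : Fact q.Prime := ⟨hq⟩
  obtain ⟨a, ha⟩ := exists_prime_orderOf_dvd_card' p hpN
  obtain ⟨b, hb⟩ := exists_prime_orderOf_dvd_card' q hqN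
  have ha1 : a ≠ 1 := by
    intro h; rw [h, orderOf_one] at ha; exact hp.one_lt.ne ha
  have hb1 : b ≠ 1 := by
    intro h; rw [h, orderOf_one] at hb; exact hq.one_lt.ne hb
  have hab : orderOf a ≠ orderOf b := by rw [ha, hb]; exact hpq
  have hcases := orbit_cases h3 a b ha1 hb1 hab
  have hord : ∀ g : G, orderOf g = 1 ∨ orderOf g = p ∨ orderOf g = q := by
    intro g
    rcases hcases g with h | ⟨φ, h⟩ | ⟨φ, h⟩
    · left; rw [h, orderOf_one]
    · right; left; rw [← h, MulEquiv.orderOf_eq, ha]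
    · right; right; rw [← h, MulEquiv.orderOf_eq, hb]
  have hofp : ∀ g : G, orderOf g = p → ∃ φ : MulAut G, φ a = g := by
    intro g hg
    rcases hcases g with h | h | ⟨φ, h⟩
    · rw [h, orderOf_one] at hg; exact (hp.one_lt.ne hg).elim
    · exact h
    · rw [← h, MulEquiv.orderOf_eq, hb] at hg; exact (hpq hg.symm).elim
  have hofq : ∀ g : G, orderOf g = q → ∃ φ : MulAut G, φ b = g := by
    intro g hg
    rcases hcases g with h | ⟨φ, h⟩ | h
    · rw [h, orderOf_one] at hg; exact (hq.one_lt.ne hg).elim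
    · rw [← h, MulEquiv.orderOf_eq, ha] at hg; exact (hpq hg).elim
    · exact h
  have htp : ∀ g g' : G, orderOf g = p → orderOf g' = p → ∃ φ : MulAut G, φ g = g' := by
    intro g g' hg hg'
    obtain ⟨φ1, h1⟩ := hofp g hg
    obtain ⟨φ2, h2⟩ := hofp g' hg'
    refine ⟨φ2 * φ1⁻¹, ?_⟩
    rw [MulAut.mul_apply, ← h1, MulAut.inv_apply_self, h2]
  have htq : ∀ g g' : G, orderOf g = q → orderOf g' = q → ∃ φ : MulAut G, φ g = g' := by
    intro g g' hg hg'
    obtain ⟨φ1, h1⟩ := hofq g hg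
    obtain ⟨φ2, h2⟩ := hofq g' hg'
    refine ⟨φ2 * φ1⁻¹, ?_⟩
    rw [MulAut.mul_apply, ← h1, MulAut.inv_apply_self, h2]
  have hall : ∀ r : ℕ, r.Prime → r ∣ Nat.card G → r = p ∨ r = q := by
    intro r hr hrN
    have : Fact r.Prime := ⟨hr⟩
    obtain ⟨g, hg⟩ := exists_prime_orderOf_dvd_card' r hrN
    rcases hord g with h | h | h
    · rw [h] at hg; exact (hr.one_lt.ne hg).elim
    · left; rw [← hg, h]
    · right; rw [← hg, h]
  obtain ⟨ea, eb, hcard⟩ := card_pq (Nat.card G) p q hp hN0 hall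
  have hsolv : Group.IsSolvable G := Cfsg.Agent.Lib.helper2.burnside_pq p q ea eb hp hq hcard
  have hntG : Nontrivial G := by
    rw [← Finite.one_lt_card_iff_nontrivial]
    omega
  obtain ⟨A, hAc, hAbot, hAcomm⟩ := exists_char_abelian hsolv
  obtain ⟨z, hz1⟩ := (Subgroup.ne_bot_iff_exists_ne_one).mp hAbot
  have hz1' : (z : G) ≠ 1 := fun h => hz1 (Subtype.ext h)
  rcases hord (z : G) with h | h | h
  · rw [orderOf_eq_one_iff] at h; exact (hz1' h).elim
  · obtain ⟨n, hn⟩ := main_of_char p q hpq hord htp htq A hAcomm z z.2 h b hb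
    exact ⟨p, q, n, hpF, hqF, hpq, hn⟩
  · have hord' : ∀ g : G, orderOf g = 1 ∨ orderOf g = q ∨ orderOf g = p := by
      intro g
      rcases hord g with h | h | h
      · exact Or.inl h
      · exact Or.inr (Or.inr h)
      · exact Or.inr (Or.inl h)
    obtain ⟨n, hn⟩ := main_of_char q p (Ne.symm hpq) hord' htq htp A hAcomm z z.2 h a ha
    exact ⟨q, p, n, hqF, hpF, Ne.symm hpq, hn⟩

theorem card_three_of_cases {G : Type*} [Group G] [Finite G]
    (a b : G) (ha1 : a ≠ 1) (hb1 : b ≠ 1) (hab : orderOf a ≠ orderOf b)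
    (hcases : ∀ g : G, g = 1 ∨ (∃ φ : MulAut G, φ a = g) ∨ (∃ φ : MulAut G, φ b = g)) :
    Nat.card (MulAction.orbitRel.Quotient (MulAut G) G) = 3 := by
  let Q := MulAction.orbitRel.Quotient (MulAut G) G
  let mk : G → Q := fun x => Quotient.mk'' x
  let f : Fin 3 → Q := ![mk 1, mk a, mk b]
  have h1a : mk 1 ≠ mk a := by
    intro h
    obtain ⟨φ, hφ⟩ := (mk_eq_iff 1 a).mp h
    exact ha1 (by simpa using hφ)
  have h1b : mk 1 ≠ mk b := by
    intro h
    obtain ⟨φ, hφ⟩ := (mk_eq_iff 1 b).mp h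
    exact hb1 (by simpa using hφ)
  have hab' : mk a ≠ mk b := by
    intro h
    obtain ⟨φ, hφ⟩ := (mk_eq_iff a b).mp h
    apply hab
    rw [← hφ, MulEquiv.orderOf_eq]
  have hinj : Function.Injective f := by
    intro i j hij
    fin_cases i <;> fin_cases j <;> simp [f] at hij ⊢
    · exact h1a hij
    · exact h1b hij
    · exact h1a hij.symm
    · exact hab' hij
    · exact h1b hij.symm
    · exact hab' hij.symm
  have hsurj : Function.Surjective f := by
    intro c
    induction c using Quotient.inductionOn' with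
    | h g =>
      rcases hcases g with h | ⟨φ, h⟩ | ⟨φ, h⟩
      · refine ⟨0, ?_⟩
        rw [h]; rfl
      · refine ⟨1, ?_⟩
        exact ((mk_eq_iff g a).mpr ⟨φ, h⟩).symm
      · refine ⟨2, ?_⟩
        exact ((mk_eq_iff g b).mpr ⟨φ, h⟩).symm
  have := Nat.card_eq_of_bijective f ⟨hinj, hsurj⟩
  rw [← this]
  simp

theorem psi_pow {M : Type*} [Group M] (ψ σ : M) (m : ℕ) (h : ψ * σ * ψ⁻¹ = σ ^ m) (k : ℕ) :
    ψ ^ k * σ * (ψ ^ k)⁻¹ = σ ^ (m ^ k) := by
  induction k with
  | zero => simp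
  | succ k ih =>
    calc ψ ^ (k+1) * σ * (ψ ^ (k+1))⁻¹ = ψ * (ψ ^ k * σ * (ψ ^ k)⁻¹) * ψ⁻¹ := by
          rw [pow_succ']; group
      _ = ψ * σ ^ (m ^ k) * ψ⁻¹ := by rw [ih]
      _ = (ψ * σ * ψ⁻¹) ^ (m ^ k) := by rw [conj_pow]
      _ = σ ^ (m ^ (k+1)) := by rw [h, ← pow_mul, pow_succ']

theorem exists_pow_mod (p q : ℕ) [hp : Fact p.Prime] [hq : Fact q.Prime] (hpq : p ≠ q)
    (hprim : orderOf (p : ZMod q) = q - 1) (e : ℕ) (he : ¬ q ∣ e) : ∃ k : ℕ, p ^ k ≡ e [MOD q] := by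
  have hp0 : (p : ZMod q) ≠ 0 := by
    intro h
    rw [ZMod.natCast_eq_zero_iff] at h
    exact hpq ((Nat.prime_dvd_prime_iff_eq hq.out hp.out).mp h).symm
  have he0 : (e : ZMod q) ≠ 0 := by
    intro h; rw [ZMod.natCast_eq_zero_iff] at h; exact he h
  let u : (ZMod q)ˣ := Units.mk0 _ hp0
  let v : (ZMod q)ˣ := Units.mk0 _ he0
  have hu : orderOf u = q - 1 := by
    rw [← hprim, ← orderOf_units]
    rfl
  have hcard : Nat.card (ZMod q)ˣ = q - 1 := by
    rw [Nat.card_eq_fintype_card, ZMod.card_units_eq_totient, Nat.totient_prime hq.out]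
  have htop : Subgroup.zpowers u = ⊤ := by
    apply Subgroup.eq_top_of_card_eq
    rw [Nat.card_zpowers, hu, hcard]
  have hv : v ∈ Subgroup.zpowers u := by rw [htop]; trivial
  rw [← mem_powers_iff_mem_zpowers] at hv
  obtain ⟨k, hk⟩ := hv
  refine ⟨k, ?_⟩
  rw [← ZMod.natCast_eq_natCast_iff]
  push_cast
  have := congrArg Units.val hk
  simpa [u, v] using this

theorem backward {G : Type*} [Group G] [Finite G] (p q n : ℕ) [hp : Fact p.Prime] [hq : Fact q.Prime]
    (hpq : p ≠ q) (hn : 1 ≤ n) (hcard : Nat.card G = p ^ n * q)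
    (hsyl : ∀ P : Sylow p G, (P : Subgroup G).Normal ∧ Cfsg.IsElementaryAbelian p (P : Subgroup G))
    (hprim : orderOf (p : ZMod q) = q - 1)
    (hfpf : ∀ x y : G, orderOf x = q → orderOf y = p → x * y * x⁻¹ ≠ y) :
    Nat.card (MulAction.orbitRel.Quotient (MulAut G) G) = 3 := by
  classical
  obtain ⟨P⟩ : Nonempty (Sylow p G) := inferInstance
  obtain ⟨hAn, hAmc, hAexp⟩ := hsyl P
  have hAcomm : ∀ u ∈ (P : Subgroup G), ∀ v ∈ (P : Subgroup G), u * v = v * u := fun u hu v hv => by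
    have := hAmc.is_comm.comm ⟨u, hu⟩ ⟨v, hv⟩
    exact congrArg Subtype.val this
  have hpq' : ¬ p ∣ q := fun h => hpq ((Nat.prime_dvd_prime_iff_eq hp.out hq.out).mp h)
  have hAcard : Nat.card (P : Subgroup G) = p ^ n := by
    rw [Sylow.card_eq_multiplicity, hcard]
    congr 1
    rw [Nat.factorization_mul (pow_ne_zero n hp.out.ne_zero) hq.out.ne_zero]
    simp [hp.out.factorization_pow, Nat.factorization_eq_zero_of_not_dvd hpq']
  have hidx : (P : Subgroup G).index = q := by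
    have := Subgroup.card_mul_index (P : Subgroup G)
    rw [hAcard, hcard] at this
    exact Nat.eq_of_mul_eq_mul_left (pow_pos hp.out.pos n) this
  obtain ⟨x, hx⟩ := exists_prime_orderOf_dvd_card' q (by rw [hcard]; exact dvd_mul_left q _)
  have hcop : (Nat.card (P : Subgroup G)).Coprime (orderOf x) := by
    rw [hAcard, hx]
    exact ((Nat.coprime_primes hp.out hq.out).mpr hpq).pow_left n
  have hcard' : Nat.card (P : Subgroup G) * orderOf x = Nat.card G := by
    rw [hAcard, hx, hcard]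
  obtain ⟨hcompl, hsup⟩ := exists_decomp (P : Subgroup G) x hcard' hcop
  have hordA : ∀ w ∈ (P : Subgroup G), w ≠ 1 → orderOf w = p := fun w hw hw1 =>
    orderOf_eq_prime (hAexp w hw) hw1
  have hfix : ∀ c : G, c ∈ Subgroup.zpowers x → c ≠ 1 → ∀ w ∈ (P : Subgroup G),
      c * w * c⁻¹ = w → w = 1 := by
    intro c hc hc1 w hw hcw
    by_contra hw1
    have hcq : orderOf c = q := by
      have h1 : orderOf c ∣ q := by
        rw [← hx]
        exact orderOf_dvd_of_mem_zpowers hc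
      rcases (Nat.dvd_prime hq.out).mp h1 with h | h
      · rw [orderOf_eq_one_iff] at h; exact (hc1 h).elim
      · exact h
    exact hfpf c w hcq (hordA w hw hw1) hcw
  have hx1 : x ≠ 1 := by
    intro h; rw [h, orderOf_one] at hx; exact hq.out.one_lt.ne hx
  let inst : CommGroup (P : Subgroup G) := { (inferInstance : Group (P : Subgroup G)) with
    mul_comm := fun a b => Subtype.ext (hAcomm a a.2 b b.2) }
  have hntA : Nontrivial (P : Subgroup G) := by
    rw [← Finite.one_lt_card_iff_nontrivial, hAcard]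
    exact Nat.one_lt_pow (by omega) hp.out.one_lt
  let σ : MulAut (P : Subgroup G) := MulAut.conjNormal x
  have hσq : σ ^ q = 1 := by
    rw [conjNormal_pow, ← hx, pow_orderOf_eq_one, map_one]
  have hσfpf : ∀ a : (P : Subgroup G), σ a = a → a = 1 := by
    intro a ha
    have h1 : x * (a : G) * x⁻¹ = a := by
      have := congrArg Subtype.val ha
      rwa [MulAut.conjNormal_apply] at this
    exact Subtype.ext (hfix x (Subgroup.mem_zpowers x) hx1 a a.2 h1)
  obtain ⟨hT1, ψ, hψ⟩ := mul_transitive p q hpq (fun a => Subtype.ext (hAexp a a.2)) σ hσq hσfpf hprim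
  obtain ⟨a₀, ha₀⟩ := exists_ne (1 : (P : Subgroup G))
  have ha₀' : (a₀ : G) ≠ 1 := fun h => ha₀ (Subtype.ext h)
  apply card_three_of_cases (a₀ : G) x ha₀' hx1
  · rw [hx, hordA a₀ a₀.2 ha₀']; exact hpq
  · intro g
    by_cases hgA : g ∈ (P : Subgroup G)
    · by_cases hg1 : g = 1
      · left; exact hg1
      · right; left
        obtain ⟨f, hf, hfa⟩ := hT1 a₀ ⟨g, hgA⟩ ha₀ (fun h => hg1 (congrArg Subtype.val h))
        obtain ⟨Φ, hΦ, _⟩ := ext_aut (P : Subgroup G) x hcompl f 1 (Nat.coprime_one_right _) (by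
          intro w; rw [pow_one]; exact hf w)
        exact ⟨Φ, by rw [hΦ a₀, hfa]⟩
    · right; right
      obtain ⟨u₀, hu₀, e, hge, hxe⟩ := conj_to_power (P : Subgroup G) hAcomm x hsup hfix g hgA
      have hqe : ¬ q ∣ e := by
        intro h; apply hxe; rw [← hx] at h; exact orderOf_dvd_iff_pow_eq_one.mp h
      obtain ⟨k, hk⟩ := exists_pow_mod p q hpq hprim e hqe
      have hxk : x ^ (p ^ k) = x ^ e := by
        rw [← hx] at hk
        exact pow_eq_pow_iff_modEq.mpr hk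
      have hψ' : ψ * σ * ψ⁻¹ = σ ^ p := by
        ext u
        rw [MulAut.mul_apply, MulAut.mul_apply, hψ, MulAut.apply_inv_self]
      have hψk := psi_pow ψ σ p hψ' k
      obtain ⟨Φ, _, hΦx⟩ := ext_aut (P : Subgroup G) x hcompl (ψ ^ k) (p ^ k) (by
          rw [hx]
          exact ((Nat.coprime_primes hq.out hp.out).mpr (Ne.symm hpq)).pow_right k) (by
        intro w
        have h1 : ψ ^ k * σ = σ ^ (p ^ k) * ψ ^ k := by rw [← hψk]; group
        have h2 := DFunLike.congr_fun h1 w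
        rw [MulAut.mul_apply, MulAut.mul_apply, conjNormal_pow] at h2
        exact h2)
      refine ⟨MulAut.conj u₀ * Φ, ?_⟩
      rw [MulAut.mul_apply, hΦx, hxk, MulAut.conj_apply, hge]

end Cfsg.Agent.Lib.Helper22.AutOrb6
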