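import Mathlib
import Cfsg.Agent.Lib.Helper22.AutOrb6
import Cfsg.Agent.Lib.helper2.Burnside2

set_option autoImplicit false

namespace Cfsg.Agent.Lib.Helper22.Ord4A

/-- All element orders are at most 4. -/
def Ord4 (G : Type*) [Group G] : Prop := ∀ g : G, orderOf g ≤ 4

section
variable {G : Type*} [Group G] [Finite G]

theorem ord_cases (h : Ord4 G) (g : G) :
    orderOf g = 1 ∨ orderOf g = 2 ∨ orderOf g = 3 ∨ orderOf g = 4 := by
  have h1 := h g
  have h2 := orderOf_pos g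
  omega

theorem pow4_or_pow3 (h : Ord4 G) (g : G) : g ^ 4 = 1 ∨ g ^ 3 = 1 := by
  have hp := pow_orderOf_eq_one g
  rcases ord_cases h g with e | e | e | e
  · left; rw [orderOf_eq_one_iff] at e; rw [e, one_pow]
  · left; rw [e] at hp; rw [show 4 = 2 * 2 from rfl, pow_mul, hp, one_pow]
  · right; rwa [e] at hp
  · left; rwa [e] at hp

theorem pow12 (h : Ord4 G) (g : G) : g ^ 12 = 1 := by
  rcases pow4_or_pow3 h g with e | e
  · rw [show 12 = 4 * 3 from rfl, pow_mul, e, one_pow]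
  · rw [show 12 = 3 * 4 from rfl, pow_mul, e, one_pow]

theorem no_comm (h : Ord4 G) (x y : G) (hx : x ^ 4 = 1) (hy : y ^ 3 = 1) (hc : Commute x y) :
    x = 1 ∨ y = 1 := by
  have hy3 : orderOf y ∣ 3 := orderOf_dvd_of_pow_eq_one hy
  have hx4 : orderOf x ∣ 2 ^ 2 := orderOf_dvd_of_pow_eq_one hx
  rcases (Nat.dvd_prime Nat.prime_three).mp hy3 with e | e
  · right; exact orderOf_eq_one_iff.mp e
  · left
    obtain ⟨k, hk, hk2⟩ := (Nat.dvd_prime_pow Nat.prime_two).mp hx4
    have hco : (orderOf x).Coprime (orderOf y) := by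
      rw [e, hk2]
      exact Nat.Coprime.pow_left k (by decide)
    have := hc.orderOf_mul_eq_mul_orderOf_of_coprime hco
    have h4 := h (x * y)
    rw [this, e] at h4
    have hpos := orderOf_pos x
    have : orderOf x = 1 := by omega
    exact orderOf_eq_one_iff.mp this

theorem ord4_subgroup (h : Ord4 G) (H : Subgroup G) : Ord4 H := fun g => by
  rw [← Subgroup.orderOf_coe]; exact h _

theorem ord4_quotient (h : Ord4 G) (N : Subgroup G) [N.Normal] : Ord4 (G ⧸ N) := by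
  intro q
  obtain ⟨g, rfl⟩ := QuotientGroup.mk_surjective q
  have : orderOf (QuotientGroup.mk' N g) ∣ orderOf g := orderOf_map_dvd _ g
  exact (Nat.le_of_dvd (orderOf_pos g) this).trans (h g)

theorem card_eq (h : Ord4 G) : ∃ a b : ℕ, Nat.card G = 2 ^ a * 3 ^ b := by
  apply Cfsg.Agent.Lib.Helper22.AutOrb6.card_pq (Nat.card G) 2 3 Nat.prime_two Nat.card_pos.ne'
  intro r hr hrd
  haveI : Fact r.Prime := ⟨hr⟩
  obtain ⟨g, hg⟩ := exists_prime_orderOf_dvd_card' (G := G) r hrd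
  have h4 := h g
  rw [hg] at h4
  have h2 := hr.two_le
  interval_cases r
  · left; rfl
  · right; rfl
  · exact absurd hr (by decide)

theorem solvable (h : Ord4 G) : Group.IsSolvable G := by
  obtain ⟨a, b, hab⟩ := card_eq h
  exact Cfsg.Agent.Lib.helper2.burnside_pq 2 3 a b Nat.prime_two Nat.prime_three hab

/-- An element with `g^4 = 1` and `g^3 = 1` is trivial. -/
theorem eq_one_of_pow4_pow3 (g : G) (h4 : g ^ 4 = 1) (h3 : g ^ 3 = 1) : g = 1 := by
  have : g ^ 4 = g ^ 3 * g := pow_succ g 3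
  rw [h4, h3, one_mul] at this
  exact this.symm

/-- A subgroup all of whose elements satisfy `x^4 = 1` is a 2-group. -/
theorem isPGroup_two_of_pow4 (H : Subgroup G) (hH : ∀ x ∈ H, x ^ 4 = 1) : IsPGroup 2 H := by
  intro x
  refine ⟨2, ?_⟩
  apply Subtype.ext
  rw [Subgroup.coe_pow]
  exact hH x x.2

theorem isPGroup_three_of_pow3 (H : Subgroup G) (hH : ∀ x ∈ H, x ^ 3 = 1) : IsPGroup 3 H := by
  intro x
  refine ⟨1, ?_⟩
  apply Subtype.ext
  rw [Subgroup.coe_pow, pow_one]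
  exact hH x x.2

theorem pow4_of_isPGroup_two (h : Ord4 G) (H : Subgroup G) (hH : IsPGroup 2 H) (x : G) (hx : x ∈ H) :
    x ^ 4 = 1 := by
  rcases pow4_or_pow3 h x with e | e
  · exact e
  · obtain ⟨k, hk⟩ := hH ⟨x, hx⟩
    have hk' : x ^ (2 ^ k) = 1 := by
      have := congrArg Subtype.val hk
      simpa using this
    have h1 : orderOf x ∣ 2 ^ k := orderOf_dvd_of_pow_eq_one hk'
    have h2 : orderOf x ∣ 3 := orderOf_dvd_of_pow_eq_one e
    have h3 : orderOf x ∣ Nat.gcd (2 ^ k) 3 := Nat.dvd_gcd h1 h2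
    have h4 : Nat.gcd (2 ^ k) 3 = 1 := Nat.Coprime.pow_left k (by decide)
    rw [h4, Nat.dvd_one, orderOf_eq_one_iff] at h3
    rw [h3, one_pow]

theorem pow3_of_isPGroup_three (h : Ord4 G) (H : Subgroup G) (hH : IsPGroup 3 H) (x : G) (hx : x ∈ H) :
    x ^ 3 = 1 := by
  rcases pow4_or_pow3 h x with e | e
  · obtain ⟨k, hk⟩ := hH ⟨x, hx⟩
    have hk' : x ^ (3 ^ k) = 1 := by
      have := congrArg Subtype.val hk
      simpa using this
    have h1 : orderOf x ∣ 3 ^ k := orderOf_dvd_of_pow_eq_one hk'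
    have h2 : orderOf x ∣ 4 := orderOf_dvd_of_pow_eq_one e
    have h3 : orderOf x ∣ Nat.gcd (3 ^ k) 4 := Nat.dvd_gcd h1 h2
    have h4 : Nat.gcd (3 ^ k) 4 = 1 := Nat.Coprime.pow_left k (by decide)
    rw [h4, Nat.dvd_one, orderOf_eq_one_iff] at h3
    rw [h3, one_pow]
  · exact e

end

end Cfsg.Agent.Lib.Helper22.Ord4A
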