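import Mathlib

set_option autoImplicit false

namespace Cfsg.Agent.Lib.Helper22.Fpf3

universe u

open scoped commutatorElement

section basic
variable {N : Type u} [Group N]

/-- the law `x x^φ x^{φ²} = 1` -/
def TLaw (φ : N ≃* N) : Prop := ∀ x : N, x * φ x * φ (φ x) = 1

variable {φ : N ≃* N}

theorem tl_rev (h : TLaw φ) (x : N) : φ (φ x) * φ x * x = 1 := by
  have h1 := h x⁻¹
  simp only [map_inv] at h1
  have h2 : (φ (φ x) * φ x * x)⁻¹ = 1 := by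
    rw [← h1]; group
  exact inv_eq_one.1 h2

theorem tl_phi2 (h : TLaw φ) (x : N) : φ (φ x) = (φ x)⁻¹ * x⁻¹ := by
  have h1 := h x
  calc φ (φ x) = (x * φ x)⁻¹ * (x * φ x * φ (φ x)) := by group
    _ = (φ x)⁻¹ * x⁻¹ := by rw [h1]; group

theorem tl_comm (h : TLaw φ) (x : N) : x * φ x = φ x * x := by
  have h1 := h x
  have h2 := tl_rev h x
  have e1 : φ (φ x) = (x * φ x)⁻¹ := by
    calc φ (φ x) = (x * φ x)⁻¹ * (x * φ x * φ (φ x)) := by group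
      _ = (x * φ x)⁻¹ := by rw [h1, mul_one]
  have e2 : φ (φ x) = (φ x * x)⁻¹ := by
    calc φ (φ x) = (φ (φ x) * φ x * x) * (φ x * x)⁻¹ := by group
      _ = (φ x * x)⁻¹ := by rw [h2, one_mul]
  have := e1.symm.trans e2
  exact inv_injective this

theorem tl_phi3 (h : TLaw φ) (x : N) : φ (φ (φ x)) = x := by
  have h1 := h x
  have h2 := h (φ x)
  have e : φ x * φ (φ x) = x⁻¹ := by
    calc φ x * φ (φ x) = x⁻¹ * (x * φ x * φ (φ x)) := by group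
      _ = x⁻¹ := by rw [h1, mul_one]
  calc φ (φ (φ x)) = (φ x * φ (φ x))⁻¹ * (φ x * φ (φ x) * φ (φ (φ x))) := by group
    _ = x := by rw [h2, e]; group

theorem tl_fixed (h : TLaw φ) (x : N) (hx : φ x = x) : x ^ 3 = 1 := by
  have h1 := h x
  rw [hx, hx] at h1
  rw [pow_succ, pow_two]
  exact h1

theorem tl_fixed_two [Finite N] (hN : IsPGroup 2 N) (h : TLaw φ) (x : N) (hx : φ x = x) : x = 1 := by
  have h3 := tl_fixed h x hx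
  obtain ⟨k, hk⟩ := hN x
  have hd1 : orderOf x ∣ 3 := orderOf_dvd_of_pow_eq_one h3
  have hd2 : orderOf x ∣ 2 ^ k := orderOf_dvd_of_pow_eq_one hk
  have hc : Nat.Coprime 3 (2 ^ k) := Nat.Coprime.pow_right k (by norm_num)
  have : orderOf x = 1 := Nat.eq_one_of_dvd_coprimes hc hd1 hd2
  exact orderOf_eq_one_iff.1 this

/-- the expansion of `⁅xy, x'y'⁆ = 1` -/
theorem tl_S2 (h : TLaw φ) (x y : N) :
    x * ⁅y, φ x⁆ * x⁻¹ * (φ x * ⁅x, φ y⁆ * (φ x)⁻¹) = 1 := by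
  have hx := tl_comm h x
  have hy := tl_comm h y
  have hxy := tl_comm h (x * y)
  rw [map_mul] at hxy
  have e1 : x⁻¹ * φ x * x = φ x := by
    calc x⁻¹ * φ x * x = x⁻¹ * (φ x * x) := by group
      _ = x⁻¹ * (x * φ x) := by rw [hx]
      _ = φ x := by group
  have e2 : y⁻¹ * φ y = φ y * y⁻¹ := by
    calc y⁻¹ * φ y = y⁻¹ * (φ y * y) * y⁻¹ := by group
      _ = y⁻¹ * (y * φ y) * y⁻¹ := by rw [hy]
      _ = φ y * y⁻¹ := by group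
  rw [commutatorElement_def, commutatorElement_def]
  calc x * (y * φ x * y⁻¹ * (φ x)⁻¹) * x⁻¹ * (φ x * (x * φ y * x⁻¹ * (φ y)⁻¹) * (φ x)⁻¹)
      = x * y * φ x * y⁻¹ * (φ x)⁻¹ * (x⁻¹ * φ x * x) * φ y * x⁻¹ * (φ y)⁻¹ * (φ x)⁻¹ := by group
    _ = x * y * φ x * y⁻¹ * (φ x)⁻¹ * φ x * φ y * x⁻¹ * (φ y)⁻¹ * (φ x)⁻¹ := by rw [e1]
    _ = x * y * φ x * (y⁻¹ * φ y) * x⁻¹ * (φ y)⁻¹ * (φ x)⁻¹ := by group
    _ = x * y * φ x * (φ y * y⁻¹) * x⁻¹ * (φ y)⁻¹ * (φ x)⁻¹ := by rw [e2]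
    _ = (x * y * (φ x * φ y)) * (x * y)⁻¹ * (φ x * φ y)⁻¹ := by group
    _ = (φ x * φ y * (x * y)) * (x * y)⁻¹ * (φ x * φ y)⁻¹ := by rw [hxy]
    _ = 1 := by group

end basic

section class2
variable {Q : Type u} [Group Q] {ψ : Q ≃* Q}

theorem cl2_central (hc : ∀ a b c : Q, ⁅⁅a, b⁆, c⁆ = 1) (a b g : Q) : g * ⁅a, b⁆ = ⁅a, b⁆ * g :=
  ((commutatorElement_eq_one_iff_mul_comm).1 (hc a b g)).symm

theorem cl2_mul_left (hc : ∀ a b c : Q, ⁅⁅a, b⁆, c⁆ = 1) (a a₂ b : Q) :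
    ⁅a * a₂, b⁆ = ⁅a, b⁆ * ⁅a₂, b⁆ := by
  have h1 := cl2_central hc a₂ b a
  calc ⁅a * a₂, b⁆ = (a * ⁅a₂, b⁆) * a⁻¹ * ⁅a, b⁆ := by
        simp only [commutatorElement_def]; group
    _ = (⁅a₂, b⁆ * a) * a⁻¹ * ⁅a, b⁆ := by rw [h1]
    _ = ⁅a₂, b⁆ * ⁅a, b⁆ := by group
    _ = ⁅a, b⁆ * ⁅a₂, b⁆ := cl2_central hc a b _

theorem cl2_swap (hc : ∀ a b c : Q, ⁅⁅a, b⁆, c⁆ = 1) (h : TLaw ψ) (x y : Q) :
    ⁅y, ψ x⁆ = ⁅ψ y, x⁆ := by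
  have h1 := tl_S2 h x y
  have e1 : x * ⁅y, ψ x⁆ * x⁻¹ = ⁅y, ψ x⁆ := by
    rw [cl2_central hc y (ψ x) x]; group
  have e2 : ψ x * ⁅x, ψ y⁆ * (ψ x)⁻¹ = ⁅x, ψ y⁆ := by
    rw [cl2_central hc x (ψ y) (ψ x)]; group
  rw [e1, e2] at h1
  rw [← commutatorElement_inv x (ψ y)]
  exact eq_inv_of_mul_eq_one_left h1

theorem cl2_main (hc : ∀ a b c : Q, ⁅⁅a, b⁆, c⁆ = 1) (h : TLaw ψ) (a b : Q) :
    ⁅ψ a, b⁆ = ψ (ψ ⁅a, b⁆) := by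
  set w := ⁅a, b⁆ with hw
  have q3 : ψ w = ⁅ψ (ψ a), b⁆ := by
    rw [hw, map_commutatorElement]
    exact cl2_swap hc h b (ψ a)
  have q4 : w * ⁅ψ a, b⁆ * ψ w = 1 := by
    rw [q3, hw, ← cl2_mul_left hc, ← cl2_mul_left hc, h a, commutatorElement_one_left]
  have hT := h w
  have hcomm := tl_comm h w
  have e1 : ⁅ψ a, b⁆ = w⁻¹ * (ψ w)⁻¹ := by
    calc ⁅ψ a, b⁆ = w⁻¹ * (w * ⁅ψ a, b⁆ * ψ w) * (ψ w)⁻¹ := by group
      _ = w⁻¹ * (ψ w)⁻¹ := by rw [q4, mul_one]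
  have e2 : ψ (ψ w) = (ψ w)⁻¹ * w⁻¹ := tl_phi2 h w
  rw [e1, e2]
  calc w⁻¹ * (ψ w)⁻¹ = (ψ w * w)⁻¹ := by group
    _ = (w * ψ w)⁻¹ := by rw [hcomm]
    _ = (ψ w)⁻¹ * w⁻¹ := by group

end class2

section class3
variable {N : Type u} [Group N] {φ : N ≃* N}

theorem conj_central {z : N} (hz : z ∈ Subgroup.center N) (g : N) : g * z * g⁻¹ = z := by
  rw [Subgroup.mem_center_iff.1 hz g]; group

theorem comm_mul_central_left (u ζ c : N) (hζ : ζ ∈ Subgroup.center N) :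
    ⁅ζ * u, c⁆ = ⁅u, c⁆ := by
  have h1 := Subgroup.mem_center_iff.1 hζ (u * c * u⁻¹)
  simp only [commutatorElement_def]
  calc ζ * u * c * (ζ * u)⁻¹ * c⁻¹ = ζ * (u * c * u⁻¹) * ζ⁻¹ * c⁻¹ := by group
    _ = (u * c * u⁻¹) * ζ * ζ⁻¹ * c⁻¹ := by rw [← h1]
    _ = u * c * u⁻¹ * c⁻¹ := by group

theorem comm_mul_central_right (u ζ c : N) (hζ : ζ ∈ Subgroup.center N) :
    ⁅u * ζ, c⁆ = ⁅u, c⁆ := by
  have h1 := Subgroup.mem_center_iff.1 hζ u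
  rw [h1]
  exact comm_mul_central_left u ζ c hζ

theorem comm_mul_expand (u v c : N) (hv : ⁅v, c⁆ ∈ Subgroup.center N) :
    ⁅u * v, c⁆ = ⁅v, c⁆ * ⁅u, c⁆ := by
  have h1 := conj_central hv u
  calc ⁅u * v, c⁆ = (u * ⁅v, c⁆ * u⁻¹) * ⁅u, c⁆ := by
        simp only [commutatorElement_def]; group
    _ = ⁅v, c⁆ * ⁅u, c⁆ := by rw [h1]

theorem hall_witt (x y z : N) :
    ⁅z, ⁅x, y⁆⁆ = x * z * ⁅y, ⁅z⁻¹, x⁻¹⁆⁆⁻¹ * z⁻¹ * y * ⁅x⁻¹, ⁅y⁻¹, z⁆⁆⁻¹ * y⁻¹ * x⁻¹ := by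
  simp only [commutatorElement_def]
  group

theorem cl3_main [Finite N] (hN : IsPGroup 2 N) (h : TLaw φ)
    (hJ : ∀ a b c : N, ⁅⁅a, b⁆, c⁆ ∈ Subgroup.center N)
    (hR : ∀ a b : N, ∃ ζ ∈ Subgroup.center N, ⁅φ a, b⁆ = φ (φ ⁅a, b⁆) * ζ) :
    ∀ a b c : N, ⁅⁅a, b⁆, c⁆ = 1 := by
  -- (m1)
  have m1 : ∀ a b x : N, ⁅⁅a, b⁆, φ x⁆ = ⁅φ ⁅a, b⁆, x⁆ := by
    intro a b x
    set w := ⁅a, b⁆ with hw
    have h1 := tl_S2 h x w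
    have c1 : ⁅w, φ x⁆ ∈ Subgroup.center N := hJ a b (φ x)
    have c2 : ⁅φ w, x⁆ ∈ Subgroup.center N := by
      rw [hw, map_commutatorElement]; exact hJ _ _ _
    have c3 : ⁅x, φ w⁆ ∈ Subgroup.center N := by
      rw [← commutatorElement_inv]; exact Subgroup.inv_mem _ c2
    rw [conj_central c1 x, conj_central c3 (φ x)] at h1
    rw [← commutatorElement_inv x (φ w)]
    exact eq_inv_of_mul_eq_one_left h1
  -- (m2)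
  have m2a : ∀ a b c : N, φ ⁅⁅a, b⁆, c⁆ = ⁅φ (φ ⁅a, b⁆), c⁆ := by
    intro a b c
    rw [map_commutatorElement, map_commutatorElement, m1 (φ a) (φ b) c]
  have m2c : ∀ a b c : N, ⁅φ ⁅a, b⁆, c⁆ = φ (φ ⁅⁅a, b⁆, c⁆) := by
    intro a b c
    set w := ⁅a, b⁆ with hw
    set m := ⁅w, c⁆ with hm
    have hφw : φ w = ⁅φ a, φ b⁆ := by rw [hw, map_commutatorElement]
    have hφφw : φ (φ w) = ⁅φ (φ a), φ (φ b)⁆ := by rw [hφw, map_commutatorElement]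
    have c1 : ⁅φ (φ w), c⁆ ∈ Subgroup.center N := by rw [hφφw]; exact hJ _ _ _
    have c2 : ⁅φ w, c⁆ ∈ Subgroup.center N := by rw [hφw]; exact hJ _ _ _
    have hprod : ⁅φ (φ w), c⁆ * ⁅φ w, c⁆ * ⁅w, c⁆ = 1 := by
      have e1 : ⁅(w * φ w) * φ (φ w), c⁆ = ⁅φ (φ w), c⁆ * ⁅w * φ w, c⁆ :=
        comm_mul_expand _ _ _ c1
      have e2 : ⁅w * φ w, c⁆ = ⁅φ w, c⁆ * ⁅w, c⁆ := comm_mul_expand _ _ _ c2
      rw [h w, commutatorElement_one_left, e2, ← mul_assoc] at e1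
      exact e1.symm
    have hφm : φ m = ⁅φ (φ w), c⁆ := m2a a b c
    rw [← hφm] at hprod
    rw [tl_phi2 h m]
    calc ⁅φ w, c⁆ = (φ m)⁻¹ * (φ m * ⁅φ w, c⁆ * ⁅w, c⁆) * (⁅w, c⁆)⁻¹ := by group
      _ = (φ m)⁻¹ * m⁻¹ := by rw [hprod, mul_one]
  have R3 : ∀ a b c : N, ⁅⁅a, b⁆, φ c⁆ = φ (φ ⁅⁅a, b⁆, c⁆) := by
    intro a b c
    rw [m1, m2c]
  have R1 : ∀ a b c : N, ⁅⁅φ a, b⁆, c⁆ = φ ⁅⁅a, b⁆, c⁆ := by
    intro a b c
    obtain ⟨ζ, hζ, he⟩ := hR a b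
    rw [he, comm_mul_central_right _ _ _ hζ, m2a]
  have R2 : ∀ a b c : N, ⁅⁅a, φ b⁆, c⁆ = φ ⁅⁅a, b⁆, c⁆ := by
    intro a b c
    obtain ⟨ζ, hζ, he⟩ := hR b a
    have e1 : ⁅a, φ b⁆ = ζ⁻¹ * φ (φ ⁅a, b⁆) := by
      rw [← commutatorElement_inv (φ b) a, he, mul_inv_rev, ← map_inv, ← map_inv,
        commutatorElement_inv]
    rw [e1, comm_mul_central_left _ _ _ (Subgroup.inv_mem _ hζ), m2a]
  -- Hall–Witt with central triple commutators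
  have HW : ∀ x y z : N, (⁅⁅x, y⁆, z⁆)⁻¹ = ⁅⁅z⁻¹, x⁻¹⁆, y⁆ * ⁅⁅y⁻¹, z⁆, x⁻¹⁆ := by
    intro x y z
    have h1 := hall_witt x y z
    rw [commutatorElement_inv y, commutatorElement_inv x⁻¹, ← commutatorElement_inv] at h1
    have cA : ⁅⁅z⁻¹, x⁻¹⁆, y⁆ ∈ Subgroup.center N := hJ _ _ _
    have cB : ⁅⁅y⁻¹, z⁆, x⁻¹⁆ ∈ Subgroup.center N := hJ _ _ _
    rw [h1]
    have hA := Subgroup.mem_center_iff.1 cA
    have hB := Subgroup.mem_center_iff.1 cB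
    calc x * z * ⁅⁅z⁻¹, x⁻¹⁆, y⁆ * z⁻¹ * y * ⁅⁅y⁻¹, z⁆, x⁻¹⁆ * y⁻¹ * x⁻¹
        = (x * z * ⁅⁅z⁻¹, x⁻¹⁆, y⁆) * z⁻¹ * (y * ⁅⁅y⁻¹, z⁆, x⁻¹⁆) * y⁻¹ * x⁻¹ := by group
      _ = (⁅⁅z⁻¹, x⁻¹⁆, y⁆ * (x * z)) * z⁻¹ * (⁅⁅y⁻¹, z⁆, x⁻¹⁆ * y) * y⁻¹ * x⁻¹ := by
          rw [hA (x * z), hB y]
      _ = ⁅⁅z⁻¹, x⁻¹⁆, y⁆ * (x * ⁅⁅y⁻¹, z⁆, x⁻¹⁆) * x⁻¹ := by group
      _ = ⁅⁅z⁻¹, x⁻¹⁆, y⁆ * (⁅⁅y⁻¹, z⁆, x⁻¹⁆ * x) * x⁻¹ := by rw [hB x]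
      _ = ⁅⁅z⁻¹, x⁻¹⁆, y⁆ * ⁅⁅y⁻¹, z⁆, x⁻¹⁆ := by group
  -- conclusion
  have key : ∀ x y z : N, ⁅⁅y⁻¹, z⁆, x⁻¹⁆ = 1 := by
    intro x y z
    have h1 := HW (φ x) y z
    rw [R1, ← map_inv φ x, R2, R3, ← map_inv, HW x y z, map_mul] at h1
    have h2 : φ ⁅⁅y⁻¹, z⁆, x⁻¹⁆ = φ (φ ⁅⁅y⁻¹, z⁆, x⁻¹⁆) := mul_left_cancel h1
    have h3 := tl_fixed_two hN h (φ ⁅⁅y⁻¹, z⁆, x⁻¹⁆) h2.symm
    exact (map_eq_one_iff φ φ.injective).1 h3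
  intro a b c
  have := key c⁻¹ a⁻¹ b
  rwa [inv_inv, inv_inv] at this

end class3

section induction

theorem class_two_of_tlaw : ∀ (n : ℕ) (N : Type u) [Group N] [Finite N], Nat.card N ≤ n →
    IsPGroup 2 N → ∀ φ : N ≃* N, TLaw φ → ∀ a b c : N, ⁅⁅a, b⁆, c⁆ = 1 := by
  intro n
  induction n with
  | zero =>
    intro N _ _ hcard
    have : 0 < Nat.card N := Nat.card_pos
    omega
  | succ n ih =>
    intro N _ _ hcard hN φ hT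
    have : Fact (Nat.Prime 2) := ⟨Nat.prime_two⟩
    by_cases hsub : Subsingleton N
    · intro a b c
      exact Subsingleton.elim _ _
    · have hnt : Nontrivial N := not_subsingleton_iff_nontrivial.1 hsub
      set Z := Subgroup.center N with hZ
      have hZnt : Nontrivial Z := hN.center_nontrivial
      have hZcard : 2 ≤ Nat.card Z := Finite.one_lt_card
      have hQcard : Nat.card (N ⧸ Z) ≤ n := by
        have h1 := Subgroup.card_eq_card_quotient_mul_card_subgroup Z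
        have h2 : 0 < Nat.card (N ⧸ Z) := Nat.card_pos
        nlinarith
      have hmap : Z.map (φ : N →* N) = Z :=
        (Subgroup.characteristic_iff_map_eq.1 (inferInstance : Z.Characteristic)) φ
      let ψ : (N ⧸ Z) ≃* (N ⧸ Z) := QuotientGroup.congr Z Z φ hmap
      have hψ : ∀ x : N, ψ (QuotientGroup.mk x) = QuotientGroup.mk (φ x) := fun x => rfl
      have hTψ : TLaw ψ := by
        intro q
        induction q using QuotientGroup.induction_on with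
        | H x =>
          rw [hψ, hψ, ← QuotientGroup.mk_mul, ← QuotientGroup.mk_mul, hT x]
          rfl
      have hcQ := ih (N ⧸ Z) hQcard (hN.to_quotient Z) ψ hTψ
      have hJ : ∀ a b c : N, ⁅⁅a, b⁆, c⁆ ∈ Z := by
        intro a b c
        rw [← QuotientGroup.eq_one_iff]
        have e0 : (QuotientGroup.mk ⁅⁅a, b⁆, c⁆ : N ⧸ Z) =
            ⁅⁅(QuotientGroup.mk a : N ⧸ Z), (QuotientGroup.mk b : N ⧸ Z)⁆,
              (QuotientGroup.mk c : N ⧸ Z)⁆ := by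
          have e1 := map_commutatorElement (QuotientGroup.mk' Z) ⁅a, b⁆ c
          have e2 := map_commutatorElement (QuotientGroup.mk' Z) a b
          rw [e2] at e1
          exact e1
        rw [e0]
        exact hcQ _ _ _
      have hR : ∀ a b : N, ∃ ζ ∈ Z, ⁅φ a, b⁆ = φ (φ ⁅a, b⁆) * ζ := by
        intro a b
        have h1 := cl2_main hcQ hTψ (QuotientGroup.mk a) (QuotientGroup.mk b)
        rw [hψ] at h1
        have h2 : (QuotientGroup.mk ⁅φ a, b⁆ : N ⧸ Z) = QuotientGroup.mk (φ (φ ⁅a, b⁆)) := by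
          rw [← hψ, ← hψ]
          have e1 : (QuotientGroup.mk ⁅φ a, b⁆ : N ⧸ Z) =
              ⁅(QuotientGroup.mk (φ a) : N ⧸ Z), (QuotientGroup.mk b : N ⧸ Z)⁆ :=
            map_commutatorElement (QuotientGroup.mk' Z) (φ a) b
          have e2 : (QuotientGroup.mk ⁅a, b⁆ : N ⧸ Z) =
              ⁅(QuotientGroup.mk a : N ⧸ Z), (QuotientGroup.mk b : N ⧸ Z)⁆ :=
            map_commutatorElement (QuotientGroup.mk' Z) a b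
          rw [e1, e2]
          exact h1
        refine ⟨(φ (φ ⁅a, b⁆))⁻¹ * ⁅φ a, b⁆, ?_, by group⟩
        exact QuotientGroup.eq.1 h2.symm
      exact cl3_main hN hT hJ hR

end induction

end Cfsg.Agent.Lib.Helper22.Fpf3
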