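import Mathlib
import Cfsg.Agent.Lib.Helper22.Fpf3
import Cfsg.Agent.Lib.Helper22.TwoRank

set_option autoImplicit false

namespace Cfsg.Agent.Lib.Helper22.Ord4C

open Cfsg.Agent.Lib.Helper22.Fpf3
open Cfsg.Agent.Lib.Helper22
open scoped commutatorElement

universe u

theorem tlaw_conj {G : Type u} [Group G] (N : Subgroup G) [hN : N.Normal] (σ : G) (hσ : σ ^ 3 = 1)
    (h : ∀ x ∈ N, (x * σ) ^ 3 = 1) : TLaw (MulAut.conjNormal σ : N ≃* N) := by
  intro x
  apply Subtype.ext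
  simp only [Subgroup.coe_mul, MulAut.conjNormal_apply, Subgroup.coe_one]
  have h1 := h x x.2
  have e3 : ((x : G) * σ) ^ 3 = x * σ * (x * σ) * (x * σ) := by simp [pow_succ]
  have s3 : σ ^ 3 = σ * σ * σ := by simp [pow_succ]
  have e : (x : G) * (σ * x * σ⁻¹) * (σ * (σ * x * σ⁻¹) * σ⁻¹) =
      (x * σ * (x * σ) * (x * σ)) * (σ * σ * σ)⁻¹ := by
    group
  rw [e, ← e3, ← s3, h1, hσ]; simp

theorem central_comm_of_tlaw {N : Type u} [Group N] [Finite N] (hN : IsPGroup 2 N) (φ : N ≃* N)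
    (hφ : TLaw φ) (a b : N) : a * b * a⁻¹ * b⁻¹ ∈ Subgroup.center N := by
  rw [Subgroup.mem_center_iff]
  intro g
  have hc := class_two_of_tlaw (Nat.card N) N le_rfl hN φ hφ
  have := cl2_central hc a b g
  rwa [commutatorElement_def] at this

theorem sq_eq_one_of_three {N : Type u} [Group N]
    (hcc : ∀ a b : N, a * b * a⁻¹ * b⁻¹ ∈ Subgroup.center N) (h4 : ∀ z : N, z * z * (z * z) = 1)
    (v a b c : N) (hab : Commute a b) (hac : Commute a c) (hbc : Commute b c) (habc : a * b * c = 1)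
    (ha : (v * a) * (v * a) = 1) (hb : (v * b) * (v * b) = 1) (hc : (v * c) * (v * c) = 1) :
    v * v = 1 := by
  have he : ∀ x : N, x⁻¹ * v⁻¹ * x * v ∈ Subgroup.center N := by
    intro x
    have := hcc x⁻¹ v⁻¹
    simpa using this
  have hemul : ∀ x y : N, (x * y)⁻¹ * v⁻¹ * (x * y) * v =
      (x⁻¹ * v⁻¹ * x * v) * (y⁻¹ * v⁻¹ * y * v) := by
    intro x y
    have hcomm := Subgroup.mem_center_iff.mp (he x) y⁻¹
    calc (x * y)⁻¹ * v⁻¹ * (x * y) * v = y⁻¹ * (x⁻¹ * v⁻¹ * x * v) * (v⁻¹ * y * v) := by group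
      _ = (x⁻¹ * v⁻¹ * x * v) * y⁻¹ * (v⁻¹ * y * v) := by rw [hcomm]
      _ = (x⁻¹ * v⁻¹ * x * v) * (y⁻¹ * v⁻¹ * y * v) := by group
  have hsq : ∀ x : N, (v * x) * (v * x) = (v * v) * (x * x) * (x⁻¹ * v⁻¹ * x * v) := by
    intro x
    exact TwoRank.mul_sq v x _ (he x) (by group)
  let A : Subgroup.center N := ⟨v * v, TwoRank.sq_mem_center v hcc h4⟩
  let X : N → Subgroup.center N := fun x => ⟨x * x, TwoRank.sq_mem_center x hcc h4⟩
  let E : N → Subgroup.center N := fun x => ⟨x⁻¹ * v⁻¹ * x * v, he x⟩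
  have hA : ∀ x, (v * x) * (v * x) = 1 → A * X x * E x = 1 := by
    intro x hx
    apply Subtype.ext
    show (v * v) * (x * x) * (x⁻¹ * v⁻¹ * x * v) = 1
    rw [← hsq x]; exact hx
  have hX : X a * X b * X c = 1 := by
    apply Subtype.ext
    show a * a * (b * b) * (c * c) = 1
    have h1 : Commute a (b * c) := hab.mul_right hac
    have h2 : (a * (b * c)) ^ 2 = a ^ 2 * (b ^ 2 * c ^ 2) := by rw [h1.mul_pow, hbc.mul_pow]
    rw [← mul_assoc, habc, one_pow] at h2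
    simp only [pow_two] at h2
    rw [mul_assoc (a * a)]; exact h2.symm
  have hE : E a * E b * E c = 1 := by
    apply Subtype.ext
    show (a⁻¹ * v⁻¹ * a * v) * (b⁻¹ * v⁻¹ * b * v) * (c⁻¹ * v⁻¹ * c * v) = 1
    rw [← hemul, ← hemul, habc]; group
  have h3 : A ^ 3 = 1 := by
    calc A ^ 3 = A ^ 3 * (X a * X b * X c) * (E a * E b * E c) := by rw [hX, hE, mul_one, mul_one]
      _ = (A * X a * E a) * (A * X b * E b) * (A * X c * E c) := by
          rw [pow_succ, pow_two]; ac_rfl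
      _ = 1 := by rw [hA a ha, hA b hb, hA c hc, one_mul, one_mul]
  have h3' : (v * v) ^ 3 = 1 := by
    have := congrArg Subtype.val h3
    simpa using this
  have h2' : (v * v) ^ 2 = 1 := by rw [pow_two]; exact h4 v
  calc v * v = (v * v) ^ 3 * ((v * v) ^ 2)⁻¹ := by group
    _ = 1 := by rw [h3', h2']; simp

theorem sq_eq_one_of_S3 {N : Type u} [Group N]
    (hcc : ∀ a b : N, a * b * a⁻¹ * b⁻¹ ∈ Subgroup.center N) (h4 : ∀ z : N, z * z * (z * z) = 1)
    (φ θ : N ≃* N) (hφ : TLaw φ) (v : N)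
    (h0 : (v * θ v) * (v * θ v) = 1) (h1 : (v * θ (φ v)) * (v * θ (φ v)) = 1)
    (h2 : (v * θ (φ (φ v))) * (v * θ (φ (φ v))) = 1) : v * v = 1 := by
  have c01 : Commute v (φ v) := tl_comm hφ v
  have c12 : Commute (φ v) (φ (φ v)) := tl_comm hφ (φ v)
  have c02 : Commute v (φ (φ v)) := by
    rw [tl_phi2 hφ v]
    exact (c01.inv_right).mul_right (Commute.refl v).inv_right
  apply sq_eq_one_of_three hcc h4 v (θ v) (θ (φ v)) (θ (φ (φ v))) (c01.map θ) (c02.map θ)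
    (c12.map θ) _ h0 h1 h2
  rw [← map_mul, ← map_mul, hφ v, map_one]

end Cfsg.Agent.Lib.Helper22.Ord4C
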