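import Mathlib
import Cfsg.Agent.Lib.Helper22.Ord4A
import Cfsg.Agent.Lib.Helper1.FpfAction

set_option autoImplicit false

namespace Cfsg.Agent.Lib.Helper22.Ord4D

open Cfsg.Agent.Lib.Helper22.Ord4A

/-- a 2-element has fourth power one -/
theorem two_elt {G : Type*} [Group G] [Finite G] (h : Ord4 G) (g : G) (k : ℕ)
    (hk : g ^ (2 ^ k) = 1) : g ^ 4 = 1 := by
  rcases pow4_or_pow3 h g with e | e
  · exact e
  · have h1 : orderOf g ∣ 2 ^ k := orderOf_dvd_of_pow_eq_one hk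
    have h2 : orderOf g ∣ 3 := orderOf_dvd_of_pow_eq_one e
    have h3 : orderOf g ∣ Nat.gcd (2 ^ k) 3 := Nat.dvd_gcd h1 h2
    have h4 : Nat.gcd (2 ^ k) 3 = 1 := Nat.Coprime.pow_left k (by decide)
    rw [h4, Nat.dvd_one, orderOf_eq_one_iff] at h3
    rw [h3, one_pow]

/-- a 3-element has third power one -/
theorem three_elt {G : Type*} [Group G] [Finite G] (h : Ord4 G) (g : G) (k : ℕ)
    (hk : g ^ (3 ^ k) = 1) : g ^ 3 = 1 := by
  rcases pow4_or_pow3 h g with e | e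
  · have h1 : orderOf g ∣ 3 ^ k := orderOf_dvd_of_pow_eq_one hk
    have h2 : orderOf g ∣ 4 := orderOf_dvd_of_pow_eq_one e
    have h3 : orderOf g ∣ Nat.gcd (3 ^ k) 4 := Nat.dvd_gcd h1 h2
    have h4 : Nat.gcd (3 ^ k) 4 = 1 := Nat.Coprime.pow_left k (by decide)
    rw [h4, Nat.dvd_one, orderOf_eq_one_iff] at h3
    rw [h3, one_pow]
  · exact e

open scoped IsMulCommutative in
theorem nine_not_dvd {G : Type*} [Group G] [Finite G] (h : Ord4 G) (M : Subgroup G)
    [hMn : M.Normal] (hM : M ≠ ⊥) (hM4 : ∀ x ∈ M, x ^ 4 = 1) : ¬ 9 ∣ Nat.card G := by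
  intro h9
  have : Fact (Nat.Prime 3) := ⟨Nat.prime_three⟩
  have : Fact (Nat.Prime 2) := ⟨Nat.prime_two⟩
  obtain ⟨A, hA⟩ := Sylow.exists_subgroup_card_pow_prime (G := G) 3 (n := 2) (by norm_num; exact h9)
  have hAc : IsMulCommutative A := IsPGroup.isMulCommutative_of_card_eq_prime_sq (p := 3) hA
  have hM2 : IsPGroup 2 M := isPGroup_two_of_pow4 M hM4
  have hMnt : Nontrivial M := (Subgroup.nontrivial_iff_ne_bot M).mpr hM
  have hcnt : Nontrivial (Subgroup.center M) := hM2.center_nontrivial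
  obtain ⟨V, hVdef⟩ : ∃ V : Subgroup G, V = (Subgroup.center M).map M.subtype := ⟨_, rfl⟩
  have hVn : V.Normal := by rw [hVdef]; infer_instance
  have hVM : V ≤ M := by rw [hVdef]; exact Subgroup.map_subtype_le _
  have hVbot : V ≠ ⊥ := by
    rw [hVdef]
    intro hbot
    rw [Subgroup.map_eq_bot_iff_of_injective _ M.subtype_injective] at hbot
    rw [hbot] at hcnt
    exact not_nontrivial _ hcnt
  have hVc : IsMulCommutative V := by
    refine ⟨⟨fun a b => ?_⟩⟩
    obtain ⟨a, ha⟩ := a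
    obtain ⟨b, hb⟩ := b
    rw [hVdef, Subgroup.mem_map] at ha hb
    obtain ⟨a', ha', rfl⟩ := ha
    obtain ⟨b', hb', rfl⟩ := hb
    apply Subtype.ext
    show M.subtype a' * M.subtype b' = M.subtype b' * M.subtype a'
    rw [← map_mul, ← map_mul, (Subgroup.mem_center_iff.mp ha' b').symm]
  have hAV : A ≤ Subgroup.normalizer (V : Set G) := by
    rw [Subgroup.normalizer_eq_top]; exact le_top
  have hfpf : ∀ a ∈ A, a ≠ 1 → V ⊓ Subgroup.centralizer {a} = ⊥ := by
    intro a haA ha1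
    rw [eq_bot_iff]
    intro x hx
    rw [Subgroup.mem_bot]
    obtain ⟨hxV, hxa⟩ := Subgroup.mem_inf.mp hx
    rw [Subgroup.mem_centralizer_singleton_iff] at hxa
    have ha9 : a ^ (3 ^ 2) = 1 := by
      have h1 : (⟨a, haA⟩ : A) ^ Nat.card A = 1 := pow_card_eq_one'
      rw [hA] at h1
      have := congrArg Subtype.val h1
      simpa using this
    have ha3 := three_elt h a 2 ha9
    rcases no_comm h x a (hM4 x (hVM hxV)) ha3 hxa with r | r
    · exact r
    · exact absurd r ha1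
  have hcyc := Cfsg.Agent.Lib.Helper1.isCyclic_of_fpf_abelian A V hVbot hAV hfpf
  obtain ⟨g, hg⟩ := hcyc.exists_generator
  have hord : orderOf g = Nat.card A := orderOf_eq_card_of_forall_mem_zpowers hg
  rw [hA, ← Subgroup.orderOf_coe] at hord
  have := h (g : G)
  rw [hord] at this
  norm_num at this

theorem mem_zpowers_three {Q : Type*} [Group Q] (a x : Q) (ha : a ^ 3 = 1)
    (hx : x ∈ Subgroup.zpowers a) : x = 1 ∨ x = a ∨ x = a⁻¹ := by
  obtain ⟨k, rfl⟩ := Subgroup.mem_zpowers_iff.mp hx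
  have h3 : a ^ (3 : ℤ) = 1 := by
    have : a ^ ((3 : ℕ) : ℤ) = 1 := by rw [zpow_natCast]; exact ha
    simpa using this
  have hk : k = 3 * (k / 3) + k % 3 := (Int.mul_ediv_add_emod k 3).symm
  have hr : k % 3 = 0 ∨ k % 3 = 1 ∨ k % 3 = 2 := by omega
  rw [hk, zpow_add, zpow_mul, h3, one_zpow, one_mul]
  rcases hr with r | r | r
  · left; rw [r, zpow_zero]
  · right; left; rw [r, zpow_one]
  · right; right
    rw [r]
    have : a ^ (2 : ℤ) * a = 1 := by
      have e : a ^ (2 : ℤ) * a = a ^ (3 : ℤ) := by group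
      rw [e, h3]
    exact eq_inv_of_mul_eq_one_left this

theorem qstruct {Q : Type*} [Group Q] [Finite Q] (h : Ord4 Q) (h9 : ¬ 9 ∣ Nat.card Q)
    (A : Subgroup Q) [hAn : A.Normal] (hA : A ≠ ⊥) (hA3 : ∀ x ∈ A, x ^ 3 = 1) :
    ∃ a : Q, a ≠ 1 ∧ a ^ 3 = 1 ∧ A = Subgroup.zpowers a ∧ (∀ q, q ∉ A → q * a * q⁻¹ = a⁻¹) ∧
      (∀ q q', q ∉ A → q' ∉ A → q * q' ∈ A) := by
  have : Fact (Nat.Prime 3) := ⟨Nat.prime_three⟩
  obtain ⟨a, haA, ha1⟩ : ∃ a ∈ A, a ≠ 1 := by
    by_contra hcon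
    push Not at hcon
    exact hA ((Subgroup.eq_bot_iff_forall _).mpr hcon)
  have ha3 := hA3 a haA
  have hord : orderOf a = 3 := by
    have h1 : orderOf a ∣ 3 := orderOf_dvd_of_pow_eq_one ha3
    rcases (Nat.dvd_prime Nat.prime_three).mp h1 with e | e
    · exact absurd (orderOf_eq_one_iff.mp e) ha1
    · exact e
  have h3sub : ∀ K : Subgroup Q, (∀ x ∈ K, x ^ 3 = 1) → Nat.card K ≤ 3 := by
    intro K hK
    have hKp : IsPGroup 3 K := isPGroup_three_of_pow3 K hK
    obtain ⟨n, hn⟩ := hKp.exists_card_eq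
    have hdvd : Nat.card K ∣ Nat.card Q := Subgroup.card_subgroup_dvd_card K
    rw [hn] at hdvd ⊢
    by_contra hlt
    push Not at hlt
    have hn2 : 2 ≤ n := by
      by_contra hn2
      push Not at hn2
      interval_cases n <;> omega
    apply h9
    exact dvd_trans (pow_dvd_pow 3 hn2) hdvd
  have hzA : Subgroup.zpowers a ≤ A := Subgroup.zpowers_le.mpr haA
  have hcz : Nat.card (Subgroup.zpowers a) = 3 := by rw [Nat.card_zpowers, hord]
  have hAeq : A = Subgroup.zpowers a := by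
    symm
    apply Subgroup.eq_of_le_of_card_ge hzA
    rw [hcz]; exact h3sub A hA3
  obtain ⟨Z, hZdef⟩ : ∃ Z : Subgroup Q, Z = Subgroup.centralizer ({a} : Set Q) := ⟨_, rfl⟩
  have hmemZ : ∀ x : Q, x ∈ Z ↔ x * a = a * x := by
    intro x; rw [hZdef, Subgroup.mem_centralizer_singleton_iff]
  have hZ3 : ∀ z ∈ Z, z ^ 3 = 1 := by
    intro z hz
    rcases pow4_or_pow3 h z with e | e
    · rcases no_comm h z a e ha3 ((hmemZ z).mp hz) with r | r
      · rw [r, one_pow]
      · exact absurd r ha1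
    · exact e
  have hzZ : Subgroup.zpowers a ≤ Z := by
    rw [Subgroup.zpowers_le, hmemZ]
  have hZeq : Z = Subgroup.zpowers a := by
    symm
    apply Subgroup.eq_of_le_of_card_ge hzZ
    rw [hcz]; exact h3sub Z hZ3
  have hinv : ∀ q, q ∉ A → q * a * q⁻¹ = a⁻¹ := by
    intro q hq
    have h1 : q * a * q⁻¹ ∈ A := hAn.conj_mem a haA q
    rw [hAeq] at h1
    rcases mem_zpowers_three a _ ha3 h1 with r | r | r
    · exfalso
      apply ha1
      have e : a = q⁻¹ * (q * a * q⁻¹) * q := by group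
      rw [e, r]; group
    · exfalso
      apply hq
      rw [hAeq, ← hZeq, hmemZ]
      have e : q * a = (q * a * q⁻¹) * q := by group
      rw [e, r]
    · exact r
  refine ⟨a, ha1, ha3, hAeq, hinv, ?_⟩
  intro q q' hq hq'
  rw [hAeq, ← hZeq, hmemZ]
  have h1 := hinv q hq
  have h2 := hinv q' hq'
  have e : q * q' * a = q * (q' * a * q'⁻¹) * q⁻¹ * (q * q') := by group
  rw [e, h2]
  have e2 : q * a⁻¹ * q⁻¹ = (q * a * q⁻¹)⁻¹ := by group
  rw [e2, h1, inv_inv]

end Cfsg.Agent.Lib.Helper22.Ord4D
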