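import Mathlib
import Cfsg.Prelude.Def_Transfer
import Cfsg.Agent.Lib.Helper22.Ord4A
import Cfsg.Agent.Lib.Helper22.Ord4C
import Cfsg.Agent.Lib.Helper22.Ord4D
import Cfsg.Agent.Lib.Helper22.Sylow2
import Cfsg.Agent.Lib.Helper1.MinNormal

set_option autoImplicit false

namespace Cfsg.Agent.Lib.Helper22.Ord4E

open Cfsg.Agent.Lib.Helper22.Ord4A Cfsg.Agent.Lib.Helper22.Ord4C Cfsg.Agent.Lib.Helper22.Ord4D
open Cfsg.Agent.Lib.Helper22

theorem s3_of_card_six' {Q : Type*} [Group Q] [Finite Q] (hQ : Nat.card Q = 6) (y t : Q)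
    (ht : orderOf t = 2) (htc : t * y ≠ y * t) : Nonempty (Q ≃* Equiv.Perm (Fin 3)) := by
  classical
  have ht1 : t ≠ 1 := by
    rintro rfl
    rw [orderOf_one] at ht
    norm_num at ht
  let H := Subgroup.zpowers t
  have hmem : ∀ u ∈ H, u = 1 ∨ u = t := by
    intro u hu
    obtain ⟨k, rfl⟩ := Subgroup.mem_zpowers_iff.mp hu
    rw [← zpow_mod_orderOf, ht, Nat.cast_ofNat]
    rcases Int.emod_two_eq_zero_or_one k with h0 | h0
    · left; rw [h0]; exact zpow_zero t
    · right; rw [h0]; exact zpow_one t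
  have hcore : H.normalCore = ⊥ := by
    rw [eq_bot_iff]
    intro u hu
    rw [Subgroup.mem_bot]
    have h1 : ∀ b : Q, b * u * b⁻¹ ∈ H := hu
    have h2 := h1 1
    rw [one_mul, inv_one, mul_one] at h2
    rcases hmem u h2 with e | e
    · exact e
    · exfalso
      rw [e] at h1
      rcases hmem _ (h1 y) with e2 | e2
      · apply ht1
        have : t = y⁻¹ * (y * t * y⁻¹) * y := by group
        rw [this, e2]; group
      · apply htc
        have : y * t = (y * t * y⁻¹) * y := by group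
        rw [this, e2]
  have hH : Nat.card H = 2 := by rw [Nat.card_zpowers, ht]
  have hidx : H.index = 3 := by
    have := Subgroup.card_mul_index H
    rw [hH, hQ] at this
    omega
  let f : Q →* Equiv.Perm (Q ⧸ H) := MulAction.toPermHom Q (Q ⧸ H)
  have hf : Function.Injective f := by
    rw [← MonoidHom.ker_eq_bot_iff, ← Subgroup.normalCore_eq_ker]
    exact hcore
  have hc3 : Nat.card (Q ⧸ H) = 3 := by rw [← Subgroup.index_eq_card, hidx]
  let e : (Q ⧸ H) ≃ Fin 3 := Finite.equivFinOfCardEq hc3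
  let F : Q →* Equiv.Perm (Fin 3) := e.permCongrHom.toMonoidHom.comp f
  have hF : Function.Injective F := by
    intro a b hab
    exact hf (e.permCongrHom.injective hab)
  have hbij : Function.Bijective F := by
    apply Function.Injective.bijective_of_nat_card_le hF
    rw [Nat.card_perm, hQ, Nat.card_fin]
    decide
  exact ⟨MulEquiv.ofBijective F hbij⟩

theorem orderOf_eq_three {Q : Type*} [Group Q] (a : Q) (ha1 : a ≠ 1) (ha3 : a ^ 3 = 1) :
    orderOf a = 3 := by
  have h1 : orderOf a ∣ 3 := orderOf_dvd_of_pow_eq_one ha3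
  rcases (Nat.dvd_prime Nat.prime_three).mp h1 with e | e
  · exact absurd (orderOf_eq_one_iff.mp e) ha1
  · exact e

theorem pow4_eq {Q : Type*} [Group Q] (x : Q) : x ^ 4 = x * x * (x * x) := by
  simp [pow_succ, mul_assoc]

theorem case2 {G : Type*} [Group G] [Finite G] (h : Ord4 G) (g4 g3 : G) (hg4 : orderOf g4 = 4)
    (hg3 : orderOf g3 = 3) (M : Subgroup G) [hMn : M.Normal] (hM : M ≠ ⊥)
    (hM4 : ∀ x ∈ M, x ^ 4 = 1) :
    ∃ (N : Subgroup G) (_ : N.Normal),
      (IsPGroup 2 ↥N ∧ Monoid.exponent ↥N = 4 ∧ Group.nilpotencyClass ↥N ≤ 2 ∧ N.index = 3) ∨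
      (Cfsg.IsElementaryAbelian 2 N ∧ Nonempty (G ⧸ N ≃* Equiv.Perm (Fin 3))) := by
  classical
  have : Fact (Nat.Prime 2) := ⟨Nat.prime_two⟩
  have : Fact (Nat.Prime 3) := ⟨Nat.prime_three⟩
  have h9 := nine_not_dvd h M hM hM4
  obtain ⟨N, hMN, hNmax⟩ := Finite.exists_le_maximal
    (p := fun K : Subgroup G => K.Normal ∧ ∀ x ∈ K, x ^ 4 = 1) (a := M) ⟨hMn, hM4⟩
  obtain ⟨⟨hNn, hN4⟩, hNmax'⟩ := hNmax
  have hN2 : IsPGroup 2 N := isPGroup_two_of_pow4 N hN4
  have hg33 : g3 ^ 3 = 1 := by rw [← hg3]; exact pow_orderOf_eq_one g3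
  have hg44 : g4 ^ 4 = 1 := by rw [← hg4]; exact pow_orderOf_eq_one g4
  have hg3N : g3 ∉ N := by
    intro hm
    have e := eq_one_of_pow4_pow3 g3 (hN4 g3 hm) hg33
    rw [e, orderOf_one] at hg3
    norm_num at hg3
  have hQ : Ord4 (G ⧸ N) := ord4_quotient h N
  have hQs : Group.IsSolvable (G ⧸ N) := solvable hQ
  have hmk1 : ∀ g : G, (QuotientGroup.mk' N g = 1) ↔ g ∈ N := fun g => by
    rw [QuotientGroup.mk'_apply, QuotientGroup.eq_one_iff]
  have hQnt : Nontrivial (G ⧸ N) :=
    ⟨⟨QuotientGroup.mk' N g3, 1, fun e => hg3N ((hmk1 g3).mp e)⟩⟩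
  obtain ⟨A, hAn, hAbot, hAmin⟩ := Cfsg.Agent.Lib.Helper1.exists_minimal_normal (G := G ⧸ N)
  obtain ⟨hAab, p, hp, hexp⟩ := Cfsg.Agent.Lib.Helper1.minimal_normal_of_solvable A hAbot hAmin
  obtain ⟨x₀, hx₀A, hx₀1⟩ : ∃ x ∈ A, x ≠ 1 := by
    by_contra hcon
    push Not at hcon
    exact hAbot ((Subgroup.eq_bot_iff_forall _).mpr hcon)
  have hpf : Fact p.Prime := ⟨hp⟩
  have hordx : orderOf x₀ = p := orderOf_eq_prime (hexp x₀ hx₀A) hx₀1
  have hp4 : p ≤ 4 := hordx ▸ hQ x₀
  have hp3 : p = 3 := by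
    have hp2 : p ≠ 2 := by
      intro e
      have hN'n : (A.comap (QuotientGroup.mk' N)).Normal := inferInstance
      have hN'4 : ∀ g ∈ A.comap (QuotientGroup.mk' N), g ^ 4 = 1 := by
        intro g hg
        have h1 : (QuotientGroup.mk' N g) ^ 2 = 1 := by rw [← e]; exact hexp _ hg
        rw [← map_pow, hmk1] at h1
        have h2 := hN4 _ h1
        apply two_elt h g 3
        rw [← h2, ← pow_mul]
        norm_num
      have hle : N ≤ A.comap (QuotientGroup.mk' N) := by
        intro g hg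
        show QuotientGroup.mk' N g ∈ A
        rw [(hmk1 g).mpr hg]; exact A.one_mem
      have hN'le := hNmax' ⟨hN'n, hN'4⟩ hle
      obtain ⟨g, rfl⟩ := QuotientGroup.mk'_surjective N x₀
      exact hx₀1 ((hmk1 g).mpr (hN'le hx₀A))
    have h2 := hp.two_le
    interval_cases p
    · exact absurd rfl hp2
    · rfl
    · exact absurd hp (by decide)
  subst hp3
  have hA3 : ∀ x ∈ A, x ^ 3 = 1 := hexp
  have h9Q : ¬ 9 ∣ Nat.card (G ⧸ N) := fun hd =>
    h9 (dvd_trans hd (Subgroup.card_quotient_dvd_card N))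
  obtain ⟨a, ha1, ha3, hAeq, hinv, hprod⟩ := qstruct hQ h9Q A hAbot hA3
  have haA : a ∈ A := by rw [hAeq]; exact Subgroup.mem_zpowers a
  have horda : orderOf a = 3 := orderOf_eq_three a ha1 ha3
  have hcardA : Nat.card A = 3 := by rw [hAeq, Nat.card_zpowers, horda]
  have hcube : ∀ g : G, g ∉ N → QuotientGroup.mk' N g ∈ A → g ^ 3 = 1 := by
    intro g hgN hgA
    rcases pow4_or_pow3 h g with e | e
    · exfalso
      apply hgN
      rw [← hmk1]
      exact eq_one_of_pow4_pow3 _ (by rw [← map_pow, e, map_one]) (hA3 _ hgA)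
    · exact e
  have hfour : ∀ g : G, QuotientGroup.mk' N g ∉ A → g ^ 4 = 1 := by
    intro g hg
    rcases pow4_or_pow3 h g with e | e
    · exact e
    · exfalso
      apply hg
      have h1 := hprod _ _ hg hg
      have h2 : (QuotientGroup.mk' N g) ^ 3 = 1 := by rw [← map_pow, e, map_one]
      have h3 : QuotientGroup.mk' N g = (QuotientGroup.mk' N g * QuotientGroup.mk' N g)⁻¹ := by
        have e2 : QuotientGroup.mk' N g =
            (QuotientGroup.mk' N g * QuotientGroup.mk' N g)⁻¹ * (QuotientGroup.mk' N g) ^ 3 := by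
          group
        rw [h2, mul_one] at e2
        exact e2
      rw [h3]
      exact A.inv_mem h1
  by_cases hall : ∀ q : G ⧸ N, q ∈ A
  · refine ⟨N, hNn, Or.inl ?_⟩
    have hcardQ : Nat.card (G ⧸ N) = 3 := by
      have hAtop : A = ⊤ := (Subgroup.eq_top_iff' A).mpr hall
      rw [← Subgroup.card_top (G := G ⧸ N), ← hAtop, hcardA]
    have hidx : N.index = 3 := by rw [Subgroup.index_eq_card, hcardQ]
    have hg4N : g4 ∈ N := by
      by_contra hcon
      have e := eq_one_of_pow4_pow3 g4 hg44 (hcube g4 hcon (hall _))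
      rw [e, orderOf_one] at hg4
      norm_num at hg4
    have hexp4 : Monoid.exponent N = 4 := by
      apply Nat.dvd_antisymm
      · apply Monoid.exponent_dvd_of_forall_pow_eq_one
        intro x
        apply Subtype.ext
        rw [Subgroup.coe_pow]
        exact hN4 x x.2
      · have := Monoid.order_dvd_exponent (⟨g4, hg4N⟩ : N)
        rwa [Subgroup.orderOf_mk, hg4] at this
    have hφ := tlaw_conj N g3 hg33 (fun x hx => hcube (x * g3)
      (fun hm => hg3N (by simpa using N.mul_mem (N.inv_mem hx) hm)) (hall _))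
    have hcc := central_comm_of_tlaw hN2 _ hφ
    have hnil : Group.IsNilpotent N := hN2.isNilpotent
    have hclass : Group.nilpotencyClass N ≤ 2 := by
      rw [← Subgroup.upperCentralSeries_eq_top_iff_nilpotencyClass_le, eq_top_iff]
      intro x _
      rw [show (2 : ℕ) = 1 + 1 from rfl, Subgroup.mem_upperCentralSeries_succ_iff]
      intro y
      rw [Subgroup.upperCentralSeries_one, commutatorElement_def]
      exact hcc x y
    exact ⟨hN2, hexp4, hclass, hidx⟩
  · refine ⟨N, hNn, Or.inr ?_⟩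
    push Not at hall
    obtain ⟨q₀, hq₀⟩ := hall
    have hidx : A.index = 2 := by
      rw [Subgroup.index_eq_two_iff]
      refine ⟨q₀, fun b => ?_⟩
      by_cases hb : b ∈ A
      · right
        refine ⟨hb, fun hm => hq₀ ?_⟩
        have := A.mul_mem (A.inv_mem hb) hm
        simpa using this
      · left
        exact ⟨hprod b q₀ hb hq₀, hb⟩
    have hcardQ : Nat.card (G ⧸ N) = 6 := by
      rw [← Subgroup.card_mul_index A, hcardA, hidx]
    obtain ⟨σ, hσ⟩ := QuotientGroup.mk'_surjective N a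
    have hσN : σ ∉ N := fun hm => ha1 (by rw [← hσ]; exact (hmk1 σ).mpr hm)
    have hσ3 : σ ^ 3 = 1 := hcube σ hσN (by rw [hσ]; exact haA)
    have hordσ : orderOf σ = 3 :=
      orderOf_eq_three σ (fun e => hσN (e ▸ N.one_mem)) hσ3
    obtain ⟨T, hTdef⟩ : ∃ T : Subgroup G, T = A.comap (QuotientGroup.mk' N) := ⟨_, rfl⟩
    have hT : ∀ g : G, g ∈ T ↔ QuotientGroup.mk' N g ∈ A := fun g => by
      rw [hTdef, Subgroup.mem_comap]
    have hTn : T.Normal := by rw [hTdef]; infer_instance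
    have hNT : N ≤ T := by
      intro g hg
      rw [hT, (hmk1 g).mpr hg]; exact A.one_mem
    have hσT : σ ∈ T := by rw [hT, hσ]; exact haA
    obtain ⟨τ₀, hτ₀⟩ := QuotientGroup.mk'_surjective N q₀
    have hτ₀T : τ₀ ∉ T := by rw [hT, hτ₀]; exact hq₀
    have huT : τ₀ * σ * τ₀⁻¹ ∈ T := hTn.conj_mem σ hσT τ₀
    have hordu : orderOf (τ₀ * σ * τ₀⁻¹) = 3 := by
      have := MulEquiv.orderOf_eq (MulAut.conj τ₀) σ
      rw [MulAut.conj_apply] at this
      rw [this, hordσ]
    have hzT : Subgroup.zpowers σ ≤ T := Subgroup.zpowers_le.mpr hσT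
    have hidx3 : ¬ 3 ∣ (Subgroup.zpowers σ).relIndex T := by
      intro hd
      have h1 := card_mul_relIndex_of_le hzT
      rw [Nat.card_zpowers, hordσ] at h1
      apply h9
      have h2 : 9 ∣ Nat.card T := by
        rw [← h1]
        obtain ⟨k, hk⟩ := hd
        rw [hk]
        exact ⟨k, by ring⟩
      exact dvd_trans h2 (Subgroup.card_subgroup_dvd_card T)
    obtain ⟨m, hmT, hm⟩ := exists_conj_mem_of_pelement 3 T (Subgroup.zpowers σ)
      (IsPGroup.of_card (n := 1) (by rw [Nat.card_zpowers, hordσ, pow_one])) hidx3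
      (τ₀ * σ * τ₀⁻¹) huT 1 (by rw [hordu, pow_one])
    obtain ⟨τ, hτdef⟩ : ∃ τ : G, τ = m⁻¹ * τ₀ := ⟨_, rfl⟩
    have hτT : τ ∉ T := by
      intro hm2
      apply hτ₀T
      have e : τ₀ = m * τ := by rw [hτdef]; group
      rw [e]
      exact T.mul_mem hmT hm2
    have hτσ : τ * σ * τ⁻¹ ∈ Subgroup.zpowers σ := by
      have e : τ * σ * τ⁻¹ = m⁻¹ * (τ₀ * σ * τ₀⁻¹) * m := by rw [hτdef]; group
      rw [e]; exact hm
    have hτA : QuotientGroup.mk' N τ ∉ A := fun hm2 => hτT ((hT τ).mpr hm2)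
    have hτ4 : τ ^ 4 = 1 := hfour τ hτA
    have hσ1 : σ ≠ 1 := fun e => hσN (e ▸ N.one_mem)
    have hτ1 : τ ≠ 1 := fun e => hτT (e ▸ T.one_mem)
    have hinvσ : τ * σ * τ⁻¹ = σ⁻¹ := by
      rcases mem_zpowers_three σ _ hσ3 hτσ with r | r | r
      · exfalso
        apply hσ1
        have e : σ = τ⁻¹ * (τ * σ * τ⁻¹) * τ := by group
        rw [e, r]; group
      · exfalso
        have hc : Commute τ σ := by
          have e : τ * σ = (τ * σ * τ⁻¹) * τ := by group
          show τ * σ = σ * τ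
          rw [e, r]
        rcases no_comm h τ σ hτ4 hσ3 hc with r2 | r2
        · exact hτ1 r2
        · exact hσ1 r2
      · exact r
    have e1 : τ * σ = σ⁻¹ * τ := by rw [← hinvσ]; group
    have e2 : τ * σ⁻¹ = σ * τ := by
      have e3 : τ * σ⁻¹ * τ⁻¹ = σ := by
        have e4 : τ * σ⁻¹ * τ⁻¹ = (τ * σ * τ⁻¹)⁻¹ := by group
        rw [e4, hinvσ, inv_inv]
      calc τ * σ⁻¹ = (τ * σ⁻¹ * τ⁻¹) * τ := by group
        _ = σ * τ := by rw [e3]
    have hττ : τ * τ = 1 := by
      have h4 : (τ * τ) ^ 4 = 1 := by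
        rw [← pow_two, ← pow_mul, mul_comm, pow_mul, hτ4, one_pow]
      have hc : Commute (τ * τ) σ := by
        show τ * τ * σ = σ * (τ * τ)
        calc τ * τ * σ = τ * (τ * σ) := mul_assoc _ _ _
          _ = τ * (σ⁻¹ * τ) := by rw [e1]
          _ = (τ * σ⁻¹) * τ := (mul_assoc _ _ _).symm
          _ = σ * τ * τ := by rw [e2]
          _ = σ * (τ * τ) := mul_assoc _ _ _
      rcases no_comm h (τ * τ) σ h4 hσ3 hc with r | r
      · exact r
      · exact absurd r hσ1
    have hτinv : τ⁻¹ = τ := inv_eq_of_mul_eq_one_left hττ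
    have hinvol : ∀ s : G, s * s = 1 → s ∉ T → ∀ v ∈ N,
        (v * (s * v * s⁻¹)) * (v * (s * v * s⁻¹)) = 1 := by
      intro s hs hsT v hv
      have hs' : s⁻¹ = s := inv_eq_of_mul_eq_one_left hs
      have hvs : v * s ∉ T := by
        intro hm2
        apply hsT
        have e : s = v⁻¹ * (v * s) := by group
        rw [e]
        exact T.mul_mem (T.inv_mem (hNT hv)) hm2
      have h4 := hfour (v * s) (fun hm2 => hvs ((hT _).mpr hm2))
      rw [hs', ← h4, pow4_eq]
      group
    have hs1 : (τ * σ) * (τ * σ) = 1 := by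
      have e : (τ * σ) * (τ * σ) = (τ * σ * τ⁻¹) * (τ * τ) * σ := by group
      rw [e, hinvσ, hττ]; group
    have hs2 : (τ * σ * σ) * (τ * σ * σ) = 1 := by
      have e : (τ * σ * σ) * (τ * σ * σ) = (τ * σ * τ⁻¹) * (τ * σ * τ⁻¹) * (τ * τ) * σ * σ := by
        group
      rw [e, hinvσ, hττ]; group
    have hs1T : τ * σ ∉ T := by
      intro hm2
      apply hτT
      have e : τ = τ * σ * σ⁻¹ := by group
      rw [e]
      exact T.mul_mem hm2 (T.inv_mem hσT)
    have hs2T : τ * σ * σ ∉ T := by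
      intro hm2
      apply hs1T
      have e : τ * σ = τ * σ * σ * σ⁻¹ := by group
      rw [e]
      exact T.mul_mem hm2 (T.inv_mem hσT)
    have hφ : Fpf3.TLaw (MulAut.conjNormal σ : N ≃* N) := tlaw_conj N σ hσ3 (fun x hx => by
      apply hcube (x * σ)
      · intro hm2
        apply hσN
        have := N.mul_mem (N.inv_mem hx) hm2
        simpa using this
      · rw [← hT]
        exact T.mul_mem (hNT hx) hσT)
    have hcc := central_comm_of_tlaw hN2 _ hφ
    have h4' : ∀ z : N, z * z * (z * z) = 1 := by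
      intro z
      apply Subtype.ext
      have := hN4 z z.2
      rw [pow4_eq] at this
      simpa using this
    have hsq : ∀ v : N, v * v = 1 := by
      intro v
      apply sq_eq_one_of_S3 hcc h4' (MulAut.conjNormal σ : N ≃* N) (MulAut.conjNormal τ : N ≃* N)
        hφ v
      · apply Subtype.ext
        simp only [Subgroup.coe_mul, MulAut.conjNormal_apply, Subgroup.coe_one]
        exact hinvol τ hττ hτT v v.2
      · apply Subtype.ext
        simp only [Subgroup.coe_mul, MulAut.conjNormal_apply, Subgroup.coe_one]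
        have e : τ * (σ * (v : G) * σ⁻¹) * τ⁻¹ = (τ * σ) * v * (τ * σ)⁻¹ := by group
        rw [e]
        exact hinvol (τ * σ) hs1 hs1T v v.2
      · apply Subtype.ext
        simp only [Subgroup.coe_mul, MulAut.conjNormal_apply, Subgroup.coe_one]
        have e : τ * (σ * (σ * (v : G) * σ⁻¹) * σ⁻¹) * τ⁻¹ =
            (τ * σ * σ) * v * (τ * σ * σ)⁻¹ := by group
        rw [e]
        exact hinvol (τ * σ * σ) hs2 hs2T v v.2
    have hcomm : ∀ x y : N, x * y = y * x := by
      intro x y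
      have h1 := hsq (x * y)
      have h2 := hsq x
      have h3 := hsq y
      calc x * y = (y * y) * (x * y) * (x * x) := by rw [h2, h3, one_mul, mul_one]
        _ = y * (y * x) * (y * x) * x := by group
        _ = y * ((y * x) * (y * x)) * x := by group
        _ = y * x := by rw [hsq (y * x), mul_one]
    have hEA : Cfsg.IsElementaryAbelian 2 N := by
      refine ⟨⟨⟨hcomm⟩⟩, ?_⟩
      intro x hx
      have := congrArg Subtype.val (hsq ⟨x, hx⟩)
      rw [pow_two]
      simpa using this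
    refine ⟨hEA, ?_⟩
    have hmkτ1 : QuotientGroup.mk' N τ ≠ 1 := fun e => hτT (hNT ((hmk1 τ).mp e))
    have hmkτ2 : (QuotientGroup.mk' N τ) ^ 2 = 1 := by
      rw [← map_pow, pow_two, hττ, map_one]
    have hordτ : orderOf (QuotientGroup.mk' N τ) = 2 := orderOf_eq_prime hmkτ2 hmkτ1
    apply s3_of_card_six' hcardQ a (QuotientGroup.mk' N τ) hordτ
    intro hc
    have h1 := hinv _ hτA
    rw [hc, mul_assoc, mul_inv_cancel, mul_one] at h1
    apply ha1
    have h2 : a * a = 1 := by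
      nth_rewrite 2 [h1]
      exact mul_inv_cancel a
    have : a ^ 3 = a * a * a := by simp [pow_succ]
    rw [this, h2, one_mul] at ha3
    exact ha3

end Cfsg.Agent.Lib.Helper22.Ord4E
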