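import Mathlib

set_option autoImplicit false
set_option linter.unusedSectionVars false

namespace Cfsg.Agent.Lib.Helper22.ExtPrimA

/-- the characteristic of a finite field of order `p ^ d`. -/
theorem charP_of_card (K : Type*) [Field K] [Finite K] (p d : ℕ) (hp : p.Prime)
    (hK : Nat.card K = p ^ d) : CharP K p := by
  have := Fintype.ofFinite K
  obtain ⟨c, hc⟩ := CharP.exists K
  obtain ⟨n, hcp, hn⟩ := FiniteField.card K c
  rw [← Nat.card_eq_fintype_card, hK] at hn
  have hd : d ≠ 0 := by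
    intro h
    rw [h, pow_zero] at hK
    have : 1 < Nat.card K := Finite.one_lt_card
    omega
  have hdvd : p ∣ c ^ (n : ℕ) := by
    rw [← hn]; exact dvd_pow_self p hd
  have : p = c := (Nat.prime_dvd_prime_iff_eq hp hcp).1 (hp.dvd_of_dvd_pow hdvd)
  rw [this]; exact hc

/-- Automorphism group of a finite field of order `p ^ d` is cyclic of order `d`. -/
theorem card_ringAut (K : Type*) [Field K] [Finite K] (p d : ℕ) (hp : p.Prime)
    (hK : Nat.card K = p ^ d) :
    Nat.card (K ≃+* K) = d ∧ IsCyclic (K ≃+* K) := by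
  have : Fact p.Prime := ⟨hp⟩
  have : CharP K p := charP_of_card K p d hp hK
  let _ : Algebra (ZMod p) K := ZMod.algebra K p
  let e : (K ≃ₐ[ZMod p] K) ≃* (K ≃+* K) :=
    { toFun := fun f => f.toRingEquiv
      invFun := fun g => AlgEquiv.ofRingEquiv (f := g) (fun x => by
        have := RingHom.ext_zmod ((g : K →+* K).comp (algebraMap (ZMod p) K))
          (algebraMap (ZMod p) K)
        exact congrFun (congrArg DFunLike.coe this) x)
      left_inv := fun f => by ext; rfl
      right_inv := fun g => by ext; rfl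
      map_mul' := fun f g => by ext; rfl }
  constructor
  · rw [← Nat.card_congr e.toEquiv, IsGalois.card_aut_eq_finrank]
    have h := FiniteField.pow_finrank_eq_natCard p K
    rw [hK] at h
    exact Nat.pow_right_injective hp.two_le h
  · exact isCyclic_of_surjective e e.surjective


theorem card_le_of_forall_pow_eq (K : Type*) [Field K] [Finite K] (n : ℕ) (hn : 1 < n)
    (h : ∀ r : K, r ^ n = r) : Nat.card K ≤ n := by
  classical
  have := Fintype.ofFinite K
  have h0 : (Polynomial.X ^ n - Polynomial.X : Polynomial K) ≠ 0 :=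
    FiniteField.X_pow_card_sub_X_ne_zero K hn
  have hsub : (Finset.univ : Finset K)
      ⊆ (Polynomial.X ^ n - Polynomial.X : Polynomial K).roots.toFinset := by
    intro r _
    rw [Multiset.mem_toFinset, Polynomial.mem_roots h0]
    simp [Polynomial.IsRoot, h r]
  calc Nat.card K = (Finset.univ : Finset K).card := by rw [Nat.card_eq_fintype_card]; rfl
    _ ≤ _ := Finset.card_le_card hsub
    _ ≤ Multiset.card (Polynomial.X ^ n - Polynomial.X : Polynomial K).roots :=
        Multiset.toFinset_card_le _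
    _ ≤ (Polynomial.X ^ n - Polynomial.X : Polynomial K).natDegree := Polynomial.card_roots' _
    _ = n := FiniteField.X_pow_card_sub_X_natDegree_eq K hn

section main

variable {A : Type*} [AddCommGroup A] [Finite A] {H : Type*} [Group H] [Finite H]

/-- hypotheses of the abstract theorem. -/
structure Hyp (ρ : H →* AddMonoid.End A) (M : Subgroup H) (p d q : ℕ) : Prop where
  hp : p.Prime
  hq : q.Prime
  card : Nat.card A = p ^ d
  exp : ∀ x : A, p • x = 0
  faithful : Function.Injective ρ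
  normal : M.Normal
  comm : ∀ m ∈ M, ∀ m' ∈ M, m * m' = m' * m
  expM : ∀ m ∈ M, m ^ q = 1
  ne : M ≠ ⊥
  irred : ∀ B : AddSubgroup A, (∀ m ∈ M, ∀ x ∈ B, ρ m x ∈ B) → B = ⊥ ∨ B = ⊤
  orbits : ∀ (h : H) (x : A), ∃ m ∈ M, ρ h x = ρ m x

/-- the ring generated by `M`. -/
def ringR (ρ : H →* AddMonoid.End A) (M : Subgroup H) : Subring (AddMonoid.End A) :=
  Subring.closure (ρ '' (M : Set H))

variable {ρ : H →* AddMonoid.End A} {M : Subgroup H} {p d q : ℕ}

omit [Finite A] [Finite H] in
lemma rho_mem {m : H} (hm : m ∈ M) : ρ m ∈ ringR ρ M :=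
  Subring.subset_closure ⟨m, hm, rfl⟩

omit [Finite A] [Finite H] in
lemma gens_comm (hc : ∀ m ∈ M, ∀ m' ∈ M, m * m' = m' * m) :
    ∀ x ∈ ρ '' (M : Set H), ∀ y ∈ ρ '' (M : Set H), x * y = y * x := by
  rintro _ ⟨m, hm, rfl⟩ _ ⟨m', hm', rfl⟩
  rw [← map_mul, ← map_mul, hc m hm m' hm']

omit [Finite A] [Finite H] in
lemma R_comm (hc : ∀ m ∈ M, ∀ m' ∈ M, m * m' = m' * m) {r s : AddMonoid.End A}
    (hr : r ∈ ringR ρ M) (hs : s ∈ ringR ρ M) : r * s = s * r := by
  have h := Subring.closure_le_centralizer_centralizer (ρ '' (M : Set H))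
  exact Set.centralizer_centralizer_comm_of_comm (gens_comm hc) _ (h hr) _ (h hs)

lemma Hyp.bij (hyp : Hyp ρ M p d q) {r : AddMonoid.End A} (hr : r ∈ ringR ρ M) (h0 : r ≠ 0) :
    Function.Bijective r := by
  let B : AddSubgroup A :=
    { carrier := {x | r x = 0}
      zero_mem' := map_zero r
      add_mem' := by
        intro a b ha hb
        show r (a + b) = 0
        rw [map_add, ha, hb, add_zero]
      neg_mem' := by
        intro a ha
        show r (-a) = 0
        rw [map_neg, ha, neg_zero] }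
  have hinj : Function.Injective r := by
    rw [injective_iff_map_eq_zero]
    suffices hk : B = ⊥ by
      intro a ha
      have : a ∈ B := ha
      rw [hk, AddSubgroup.mem_bot] at this
      exact this
    rcases hyp.irred B (by
      intro m hm x hx
      have hx' : r x = 0 := hx
      show r (ρ m x) = 0
      have h1 : r (ρ m x) = (r * ρ m) x := rfl
      rw [h1, R_comm hyp.comm hr (rho_mem hm)]
      show ρ m (r x) = 0
      rw [hx', map_zero]) with h | h
    · exact h
    · exfalso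
      apply h0
      ext x
      have : x ∈ B := by rw [h]; trivial
      exact this
  exact ⟨hinj, Finite.injective_iff_surjective.1 hinj⟩

lemma Hyp.eval_bij (hyp : Hyp ρ M p d q) {x : A} (hx : x ≠ 0) :
    Function.Bijective (fun r : ringR ρ M => r.1 x) := by
  constructor
  · intro r s hrs
    by_contra hne
    have h1 : r.1 - s.1 ∈ ringR ρ M := sub_mem r.2 s.2
    have h2 : r.1 - s.1 ≠ 0 := fun h => hne (Subtype.ext (sub_eq_zero.1 h))
    have h3 := (hyp.bij h1 h2).1
    have h4 : (r.1 - s.1) x = (r.1 - s.1) 0 := by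
      rw [map_zero]
      show r.1 x - s.1 x = 0
      rw [sub_eq_zero]; exact hrs
    exact hx (h3 h4)
  · -- range is an M-invariant subgroup
    let B : AddSubgroup A :=
      { carrier := {y | ∃ r ∈ ringR ρ M, r x = y}
        zero_mem' := ⟨0, zero_mem _, rfl⟩
        add_mem' := by
          rintro _ _ ⟨r, hr, rfl⟩ ⟨s, hs, rfl⟩
          exact ⟨r + s, add_mem hr hs, rfl⟩
        neg_mem' := by
          rintro _ ⟨r, hr, rfl⟩
          exact ⟨-r, neg_mem hr, rfl⟩ }
    have hB : B = ⊤ := by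
      rcases hyp.irred B (by
        rintro m hm _ ⟨r, hr, rfl⟩
        exact ⟨ρ m * r, mul_mem (rho_mem hm) hr, rfl⟩) with h | h
      · exfalso
        have : x ∈ B := ⟨1, one_mem _, rfl⟩
        rw [h, AddSubgroup.mem_bot] at this
        exact hx this
      · exact h
    intro y
    have : y ∈ B := by rw [hB]; trivial
    obtain ⟨r, hr, hry⟩ := this
    exact ⟨⟨r, hr⟩, hry⟩


lemma Hyp.exists_ne_zero (hyp : Hyp ρ M p d q) : ∃ x : A, x ≠ 0 := by
  by_contra hcon
  push Not at hcon
  apply hyp.ne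
  rw [Subgroup.eq_bot_iff_forall]
  intro m _
  apply hyp.faithful
  ext x
  rw [hcon x, map_zero, hcon ((ρ 1) 0)]

lemma Hyp.card_R (hyp : Hyp ρ M p d q) : Nat.card (ringR ρ M) = p ^ d := by
  obtain ⟨x, hx⟩ := hyp.exists_ne_zero
  rw [← hyp.card]
  exact Nat.card_congr (Equiv.ofBijective _ (hyp.eval_bij hx))

lemma Hyp.d_pos (hyp : Hyp ρ M p d q) : 0 < d := by
  rcases Nat.eq_zero_or_pos d with h | h
  · exfalso
    obtain ⟨x, hx⟩ := hyp.exists_ne_zero
    have h1 := hyp.card
    rw [h, pow_zero, Nat.card_eq_one_iff_unique] at h1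
    exact hx (h1.1.elim x 0)
  · exact h

lemma Hyp.isDomain (hyp : Hyp ρ M p d q) : IsDomain (ringR ρ M) := by
  obtain ⟨x, hx⟩ := hyp.exists_ne_zero
  have : Nontrivial (ringR ρ M) := by
    refine ⟨⟨0, 1, ?_⟩⟩
    intro h
    have h1 := congrArg Subtype.val h
    have h2 : (0 : AddMonoid.End A) x = (1 : AddMonoid.End A) x := by
      have h1' : (0 : AddMonoid.End A) = 1 := h1
      rw [h1']
    exact hx h2.symm
  have : NoZeroDivisors (ringR ρ M) := by
    refine ⟨fun {r s} hrs => ?_⟩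
    by_contra hcon
    push Not at hcon
    have hr0 : r.1 ≠ 0 := fun h => hcon.1 (Subtype.ext h)
    have hs0 : s.1 ≠ 0 := fun h => hcon.2 (Subtype.ext h)
    have hb := hyp.bij r.2 hr0
    apply hs0
    ext y
    apply hb.1
    have h1 : r.1 (s.1 y) = (r.1 * s.1) y := rfl
    rw [h1]
    have h2 : r.1 * s.1 = 0 := congrArg Subtype.val hrs
    rw [h2]
    simp
  exact NoZeroDivisors.to_isDomain _

open scoped IsMulCommutative in
/-- `M` is cyclic of order `q`. -/
lemma Hyp.card_M (hyp : Hyp ρ M p d q) : Nat.card M = q := by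
  have hcomm := Subring.isMulCommutative_closure (gens_comm (ρ := ρ) hyp.comm)
  have hdom : IsDomain (ringR ρ M) := hyp.isDomain
  have hcomm' : IsMulCommutative (ringR ρ M) := hcomm
  let f : M →* (ringR ρ M) :=
    { toFun := fun m => ⟨ρ m.1, rho_mem m.2⟩
      map_one' := by apply Subtype.ext; simp
      map_mul' := fun a b => by apply Subtype.ext; simp }
  have hf : Function.Injective f := by
    intro a b hab
    have := congrArg Subtype.val hab
    exact Subtype.ext (hyp.faithful this)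
  have hcyc : IsCyclic M := isCyclic_of_injective_ringHom f hf
  obtain ⟨g, hg⟩ := hcyc.exists_generator
  have hg1 : g ≠ 1 := by
    intro h
    apply hyp.ne
    rw [Subgroup.eq_bot_iff_forall]
    intro m hm
    obtain ⟨k, hk⟩ := Subgroup.mem_zpowers_iff.1 (hg ⟨m, hm⟩)
    rw [h, one_zpow] at hk
    exact (congrArg Subtype.val hk).symm
  have hgq : g ^ q = 1 := Subtype.ext (by simpa using hyp.expM g.1 g.2)
  have : Fact q.Prime := ⟨hyp.hq⟩
  have ho : orderOf g = q := orderOf_eq_prime hgq hg1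
  rw [← ho]
  exact (orderOf_eq_card_of_forall_mem_zpowers hg).symm

/-- `M` acts semiregularly. -/
lemma Hyp.semiregular (hyp : Hyp ρ M p d q) {m : H} (hm : m ∈ M) (hm1 : m ≠ 1) {x : A}
    (hx : x ≠ 0) : ρ m x ≠ x := by
  intro hfix
  have h1 : ρ m - 1 ∈ ringR ρ M := sub_mem (rho_mem hm) (one_mem _)
  have h2 : ρ m - 1 ≠ 0 := by
    intro h
    apply hm1
    apply hyp.faithful
    rw [map_one]
    exact sub_eq_zero.1 h
  have h3 := (hyp.bij h1 h2).1
  apply hx
  apply h3
  rw [map_zero]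
  show ρ m x - x = 0
  rw [hfix, sub_self]


lemma Hyp.natCast_eq_zero (hyp : Hyp ρ M p d q) : ((p : ℕ) : ringR ρ M) = 0 := by
  apply Subtype.ext
  rw [Subring.coe_natCast]
  ext x
  rw [AddMonoid.End.natCast_apply]
  exact hyp.exp x

open scoped IsMulCommutative in
/-- the order of `p` modulo `q` is `d`, and `q ∣ p ^ d - 1`. -/
lemma Hyp.ord (hyp : Hyp ρ M p d q) :
    q ∣ p ^ d - 1 ∧ ∀ i : ℕ, 0 < i → i < d → ¬ q ∣ p ^ i - 1 := by
  classical
  have hcomm : IsMulCommutative (ringR ρ M) :=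
    Subring.isMulCommutative_closure (gens_comm (ρ := ρ) hyp.comm)
  have hdom : IsDomain (ringR ρ M) := hyp.isDomain
  have hfin : Finite (ringR ρ M) := Nat.finite_of_card_ne_zero (by
    rw [hyp.card_R]; exact (pow_pos hyp.hp.pos d).ne')
  have := Fintype.ofFinite (ringR ρ M)
  let _ : Field (ringR ρ M) := Fintype.fieldOfDomain (ringR ρ M)
  -- a nontrivial element of M
  obtain ⟨m, hm⟩ := Subgroup.ne_bot_iff_exists_ne_one.1 hyp.ne
  have hm1 : (m : H) ≠ 1 := fun h => hm (Subtype.ext h)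
  set r : ringR ρ M := ⟨ρ m.1, rho_mem m.2⟩ with hr
  have hrq : r ^ q = 1 := by
    apply Subtype.ext
    show (ρ m.1) ^ q = 1
    rw [← map_pow, hyp.expM m.1 m.2, map_one]
  have hr1 : r ≠ 1 := by
    intro h
    apply hm1
    apply hyp.faithful
    rw [map_one]
    exact congrArg Subtype.val h
  have hr0 : r ≠ 0 := by
    intro h
    rw [h, zero_pow hyp.hq.ne_zero] at hrq
    exact zero_ne_one hrq
  have : Fact q.Prime := ⟨hyp.hq⟩
  have ho : orderOf r = q := orderOf_eq_prime hrq hr1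
  constructor
  · rw [← ho]
    apply orderOf_dvd_of_pow_eq_one
    have := FiniteField.pow_card_sub_one_eq_one r hr0
    rwa [← Nat.card_eq_fintype_card, hyp.card_R] at this
  · intro i hi hid hq
    have hall : ∀ s : ringR ρ M, s ^ (p ^ i) = s := by
      have hch : CharP (ringR ρ M) p := by
        have h1 : ringChar (ringR ρ M) ∣ p := ringChar.dvd hyp.natCast_eq_zero
        have h2 : ringChar (ringR ρ M) ≠ 1 := CharP.ringChar_ne_one
        have h3 : ringChar (ringR ρ M) = p := (Nat.dvd_prime hyp.hp).1 h1 |>.resolve_left h2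
        rw [← h3]; exact ringChar.charP _
      have : ExpChar (ringR ρ M) p := ExpChar.prime hyp.hp
      have key : ∀ (x : AddMonoid.End A) (hx : x ∈ ringR ρ M),
          iterateFrobenius (ringR ρ M) p i ⟨x, hx⟩ = ⟨x, hx⟩ := by
        intro x hx
        induction hx using Subring.closure_induction with
        | mem x hx =>
          obtain ⟨m', hm', rfl⟩ := hx
          rw [iterateFrobenius_def]
          apply Subtype.ext
          show (ρ m') ^ (p ^ i) = ρ m'
          rw [← map_pow]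
          congr 1
          obtain ⟨k, hk⟩ := hq
          have : p ^ i = q * k + 1 := by
            have : 0 < p ^ i := pow_pos hyp.hp.pos i
            omega
          rw [this, pow_succ, pow_mul, hyp.expM m' hm', one_pow, one_mul]
        | zero => exact map_zero _
        | one => exact map_one _
        | add x y hx hy ihx ihy =>
          have : (⟨x + y, add_mem hx hy⟩ : ringR ρ M) = ⟨x, hx⟩ + ⟨y, hy⟩ := rfl
          rw [this, map_add, ihx, ihy]
        | neg x hx ih =>
          have : (⟨-x, neg_mem hx⟩ : ringR ρ M) = -⟨x, hx⟩ := rfl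
          rw [this, map_neg, ih]
        | mul x y hx hy ihx ihy =>
          have : (⟨x * y, mul_mem hx hy⟩ : ringR ρ M) = ⟨x, hx⟩ * ⟨y, hy⟩ := rfl
          rw [this, map_mul, ihx, ihy]
      intro s
      have := key s.1 s.2
      rwa [iterateFrobenius_def] at this
    have hle := card_le_of_forall_pow_eq (ringR ρ M) (p ^ i)
      (Nat.one_lt_pow hi.ne' hyp.hp.one_lt) hall
    rw [hyp.card_R] at hle
    have := (Nat.pow_le_pow_iff_right hyp.hp.one_lt).1 hle
    omega


omit [Finite A] [Finite H] in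
lemma rho_mul_inv (h : H) : ρ h * ρ h⁻¹ = 1 := by
  rw [← map_mul, mul_inv_cancel, map_one]

omit [Finite A] [Finite H] in
lemma rho_inv_mul (h : H) : ρ h⁻¹ * ρ h = 1 := by
  rw [← map_mul, inv_mul_cancel, map_one]

omit [Finite A] [Finite H] in
lemma conj_mem (hn : M.Normal) (h : H) {r : AddMonoid.End A} (hr : r ∈ ringR ρ M) :
    ρ h * r * ρ h⁻¹ ∈ ringR ρ M := by
  induction hr using Subring.closure_induction with
  | mem x hx =>
    obtain ⟨m, hm, rfl⟩ := hx
    have : ρ h * ρ m * ρ h⁻¹ = ρ (h * m * h⁻¹) := by rw [map_mul, map_mul]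
    rw [this]
    exact rho_mem (hn.conj_mem m hm h)
  | zero => rw [mul_zero, zero_mul]; exact zero_mem _
  | one => rw [mul_one, rho_mul_inv]; exact one_mem _
  | add x y hx hy ihx ihy => rw [mul_add, add_mul]; exact add_mem ihx ihy
  | neg x hx ih => rw [mul_neg, neg_mul]; exact neg_mem ih
  | mul x y hx hy ihx ihy =>
    have : ρ h * (x * y) * ρ h⁻¹ = (ρ h * x * ρ h⁻¹) * (ρ h * y * ρ h⁻¹) := by
      calc ρ h * (x * y) * ρ h⁻¹ = ρ h * x * 1 * y * ρ h⁻¹ := by
            rw [mul_one]; simp only [mul_assoc]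
        _ = ρ h * x * (ρ h⁻¹ * ρ h) * y * ρ h⁻¹ := by rw [rho_inv_mul]
        _ = _ := by simp only [mul_assoc]
    rw [this]
    exact mul_mem ihx ihy

/-- conjugation by `h` as a ring automorphism of `R`. -/
def sigmaFun (hn : M.Normal) (h : H) : ringR ρ M ≃+* ringR ρ M where
  toFun r := ⟨ρ h * r.1 * ρ h⁻¹, conj_mem hn h r.2⟩
  invFun r := ⟨ρ h⁻¹ * r.1 * ρ h, by
    have := conj_mem (ρ := ρ) hn h⁻¹ r.2
    rwa [inv_inv] at this⟩
  left_inv r := by
    apply Subtype.ext
    show ρ h⁻¹ * (ρ h * r.1 * ρ h⁻¹) * ρ h = r.1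
    calc ρ h⁻¹ * (ρ h * r.1 * ρ h⁻¹) * ρ h = (ρ h⁻¹ * ρ h) * r.1 * (ρ h⁻¹ * ρ h) := by
          simp only [mul_assoc]
      _ = r.1 := by rw [rho_inv_mul, one_mul, mul_one]
  right_inv r := by
    apply Subtype.ext
    show ρ h * (ρ h⁻¹ * r.1 * ρ h) * ρ h⁻¹ = r.1
    calc ρ h * (ρ h⁻¹ * r.1 * ρ h) * ρ h⁻¹ = (ρ h * ρ h⁻¹) * r.1 * (ρ h * ρ h⁻¹) := by
          simp only [mul_assoc]
      _ = r.1 := by rw [rho_mul_inv, one_mul, mul_one]
  map_mul' r s := by
    apply Subtype.ext
    show ρ h * (r.1 * s.1) * ρ h⁻¹ = (ρ h * r.1 * ρ h⁻¹) * (ρ h * s.1 * ρ h⁻¹)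
    calc ρ h * (r.1 * s.1) * ρ h⁻¹ = ρ h * r.1 * 1 * s.1 * ρ h⁻¹ := by
          rw [mul_one]; simp only [mul_assoc]
      _ = ρ h * r.1 * (ρ h⁻¹ * ρ h) * s.1 * ρ h⁻¹ := by rw [rho_inv_mul]
      _ = _ := by simp only [mul_assoc]
  map_add' r s := by
    apply Subtype.ext
    show ρ h * (r.1 + s.1) * ρ h⁻¹ = (ρ h * r.1 * ρ h⁻¹) + (ρ h * s.1 * ρ h⁻¹)
    rw [mul_add, add_mul]

omit [Finite A] [Finite H] in
lemma sigmaFun_apply (hn : M.Normal) (h : H) (r : ringR ρ M) :
    ((sigmaFun hn h r : ringR ρ M) : AddMonoid.End A) = ρ h * r.1 * ρ h⁻¹ := rfl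

/-- the conjugation action as a group homomorphism. -/
def sigma (hn : M.Normal) : H →* RingAut (ringR ρ M) where
  toFun h := sigmaFun hn h
  map_one' := by
    apply RingEquiv.ext
    intro r
    apply Subtype.ext
    rw [sigmaFun_apply]
    simp
  map_mul' h h' := by
    apply RingEquiv.ext
    intro r
    apply Subtype.ext
    rw [RingAut.mul_apply, sigmaFun_apply, sigmaFun_apply, sigmaFun_apply]
    rw [map_mul, mul_inv_rev, map_mul]
    simp only [mul_assoc]

omit [Finite A] [Finite H] in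
lemma mem_ker_sigma (hn : M.Normal) (h : H) :
    h ∈ (sigma (ρ := ρ) hn).ker ↔ ∀ r ∈ ringR ρ M, ρ h * r = r * ρ h := by
  rw [MonoidHom.mem_ker]
  constructor
  · intro hs r hr
    have h1 : sigmaFun hn h ⟨r, hr⟩ = ⟨r, hr⟩ := by
      have : sigma (ρ := ρ) hn h ⟨r, hr⟩ = (1 : RingAut (ringR ρ M)) ⟨r, hr⟩ := by rw [hs]
      exact this
    have h2 := congrArg Subtype.val h1
    rw [sigmaFun_apply] at h2
    calc ρ h * r = ρ h * r * (ρ h⁻¹ * ρ h) := by rw [rho_inv_mul, mul_one]
      _ = (ρ h * r * ρ h⁻¹) * ρ h := by simp only [mul_assoc]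
      _ = r * ρ h := by rw [h2]
  · intro hc
    apply RingEquiv.ext
    intro r
    apply Subtype.ext
    show ρ h * r.1 * ρ h⁻¹ = r.1
    rw [hc r.1 r.2, mul_assoc, rho_mul_inv, mul_one]

lemma Hyp.ker_sigma (hyp : Hyp ρ M p d q) : (sigma (ρ := ρ) hyp.normal).ker = M := by
  ext h
  rw [mem_ker_sigma]
  constructor
  · intro hc
    obtain ⟨x, hx⟩ := hyp.exists_ne_zero
    obtain ⟨m, hm, hmx⟩ := hyp.orbits h x
    -- c = m⁻¹ * h fixes x and commutes with R
    have hcx : ρ (m⁻¹ * h) x = x := by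
      rw [map_mul]
      show ρ m⁻¹ (ρ h x) = x
      rw [hmx]
      show (ρ m⁻¹ * ρ m) x = x
      rw [rho_inv_mul]; rfl
    have hcc : ∀ r ∈ ringR ρ M, ρ (m⁻¹ * h) * r = r * ρ (m⁻¹ * h) := by
      intro r hr
      rw [map_mul, mul_assoc, hc r hr, ← mul_assoc, ← mul_assoc,
        R_comm hyp.comm (rho_mem (inv_mem hm)) hr]
    have hone : m⁻¹ * h = 1 := by
      apply hyp.faithful
      rw [map_one]
      ext y
      obtain ⟨r, hr⟩ := (hyp.eval_bij hx).2 y
      have hr' : r.1 x = y := hr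
      rw [← hr']
      show (ρ (m⁻¹ * h) * r.1) x = r.1 x
      rw [hcc r.1 r.2]
      show r.1 (ρ (m⁻¹ * h) x) = r.1 x
      rw [hcx]
    have : h = m := by
      have : h = m * (m⁻¹ * h) := by group
      rw [this, hone, mul_one]
    rw [this]; exact hm
  · intro hm r hr
    exact R_comm hyp.comm (rho_mem hm) hr

open scoped IsMulCommutative in
/-- `|H|` divides `q * d` and `H = M ⟨h⟩`. -/
lemma Hyp.card_H (hyp : Hyp ρ M p d q) :
    Nat.card H ∣ q * d ∧ ∃ h : H, (⊤ : Subgroup H) = M ⊔ Subgroup.zpowers h := by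
  classical
  have hcomm : IsMulCommutative (ringR ρ M) :=
    Subring.isMulCommutative_closure (gens_comm (ρ := ρ) hyp.comm)
  have hdom : IsDomain (ringR ρ M) := hyp.isDomain
  have hfin : Finite (ringR ρ M) := Nat.finite_of_card_ne_zero (by
    rw [hyp.card_R]; exact (pow_pos hyp.hp.pos d).ne')
  have := Fintype.ofFinite (ringR ρ M)
  let _ : Field (ringR ρ M) := Fintype.fieldOfDomain (ringR ρ M)
  obtain ⟨hcard, hcyc⟩ := card_ringAut (ringR ρ M) p d hyp.hp hyp.card_R
  set σ := sigma (ρ := ρ) hyp.normal with hσ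
  have hker : σ.ker = M := hyp.ker_sigma
  constructor
  · have h1 := Subgroup.card_mul_index σ.ker
    rw [Subgroup.index_ker, hker, hyp.card_M] at h1
    rw [← h1]
    apply Nat.mul_dvd_mul_left
    have h2 : Nat.card σ.range ∣ Nat.card (RingAut (ringR ρ M)) :=
      Subgroup.card_subgroup_dvd_card _
    have h3 : Nat.card (RingAut (ringR ρ M)) = d := hcard
    rwa [h3] at h2
  · have hcyc' : IsCyclic (RingAut (ringR ρ M)) := hcyc
    have hrc : IsCyclic σ.range := Subgroup.isCyclic _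
    obtain ⟨g, hg⟩ := hrc.exists_generator
    obtain ⟨h0, hh0⟩ := g.2
    refine ⟨h0, ?_⟩
    symm
    rw [eq_top_iff]
    intro h _
    obtain ⟨k, hk⟩ := Subgroup.mem_zpowers_iff.1 (hg ⟨σ h, ⟨h, rfl⟩⟩)
    have hk' : σ h0 ^ k = σ h := by
      have := congrArg Subtype.val hk
      rw [Subgroup.coe_zpow, ← hh0] at this
      exact this
    have hmem : h * (h0 ^ k)⁻¹ ∈ M := by
      rw [← hker, MonoidHom.mem_ker, map_mul, map_inv, map_zpow, hk', mul_inv_cancel]
    have : h = (h * (h0 ^ k)⁻¹) * h0 ^ k := by group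
    rw [this]
    exact mul_mem (Subgroup.mem_sup_left hmem)
      (Subgroup.mem_sup_right (Subgroup.zpow_mem_zpowers h0 k))

end main

end Cfsg.Agent.Lib.Helper22.ExtPrimA
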