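import Mathlib
import Cfsg.Agent.Lib.Helper22.ExtPrimA

set_option autoImplicit false
set_option linter.unusedSectionVars false

namespace Cfsg.Agent.Lib.Helper22.NearA

open Cfsg.Agent.Lib.Helper22.ExtPrimA

variable {V : Type*} [AddCommGroup V] [Finite V] {H : Type*} [Group H] [Finite H]

/-- a group acting regularly on the nonzero elements of an elementary abelian `p`-group. -/
structure Reg (ρ : H →* AddMonoid.End V) (p : ℕ) : Prop where
  hp : p.Prime
  exp : ∀ v : V, p • v = 0
  inj : Function.Injective ρ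
  trans : ∀ v w : V, v ≠ 0 → w ≠ 0 → ∃ h : H, ρ h v = w
  semi : ∀ h : H, ∀ v : V, v ≠ 0 → ρ h v = v → h = 1
  nontriv : ∃ v : V, v ≠ 0

lemma finite_end : Finite (AddMonoid.End V) :=
  Finite.of_injective (fun f : AddMonoid.End V => (f : V → V)) DFunLike.coe_injective

variable {ρ : H →* AddMonoid.End V} {p : ℕ}

omit [Finite V] [Finite H] in
lemma rho_inv_apply (h : H) (v : V) : ρ h⁻¹ (ρ h v) = v := by
  have : (ρ h⁻¹ * ρ h) v = v := by rw [rho_inv_mul]; rfl
  exact this

omit [Finite V] [Finite H] in
lemma rho_apply_inv (h : H) (v : V) : ρ h (ρ h⁻¹ v) = v := by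
  have : (ρ h * ρ h⁻¹) v = v := by rw [rho_mul_inv]; rfl
  exact this

/-- **Lemma F**: a commutative subring of `End V` normalized by a group transitive on the nonzero
vectors consists of injective maps (and zero). -/
theorem injective_of_transitive (htr : ∀ v w : V, v ≠ 0 → w ≠ 0 → ∃ h : H, ρ h v = w)
    (R : Subring (AddMonoid.End V)) (hcomm : ∀ r ∈ R, ∀ s ∈ R, r * s = s * r)
    (hnorm : ∀ h : H, ∀ r ∈ R, ρ h * r * ρ h⁻¹ ∈ R) {r : AddMonoid.End V} (hr : r ∈ R)
    (hr0 : r ≠ 0) : Function.Injective r := by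
  have hfin := finite_end (V := V)
  let ann : V → Set (AddMonoid.End V) := fun v => {r | r ∈ R ∧ r v = 0}
  have hle : ∀ (h : H) (v : V), (ann v).ncard ≤ (ann (ρ h v)).ncard := by
    intro h v
    apply Set.ncard_le_ncard_of_injOn (fun r => ρ h * r * ρ h⁻¹)
    · rintro r ⟨hrR, hrv⟩
      refine ⟨hnorm h r hrR, ?_⟩
      show ρ h (r (ρ h⁻¹ (ρ h v))) = 0
      rw [rho_inv_apply, hrv, map_zero]
    · intro r _ s _ hrs
      have hrs' : ρ h * r * ρ h⁻¹ = ρ h * s * ρ h⁻¹ := hrs
      calc r = ρ h⁻¹ * (ρ h * r * ρ h⁻¹) * ρ h := by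
            simp only [← mul_assoc]; rw [rho_inv_mul, one_mul, mul_assoc, rho_inv_mul, mul_one]
        _ = ρ h⁻¹ * (ρ h * s * ρ h⁻¹) * ρ h := by rw [hrs']
        _ = s := by
            simp only [← mul_assoc]; rw [rho_inv_mul, one_mul, mul_assoc, rho_inv_mul, mul_one]
  have hcard : ∀ v w : V, v ≠ 0 → w ≠ 0 → (ann v).ncard = (ann w).ncard := by
    intro v w hv hw
    obtain ⟨h, rfl⟩ := htr v w hv hw
    apply le_antisymm (hle h v)
    have := hle h⁻¹ (ρ h v)
    rwa [rho_inv_apply] at this
  -- Claim 1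
  have hc1 : ∀ (v : V) (s : AddMonoid.End V), s ∈ R → v ≠ 0 → s v ≠ 0 → ann (s v) = ann v := by
    intro v s hs hv hsv
    symm
    apply Set.eq_of_subset_of_ncard_le
    · rintro t ⟨htR, htv⟩
      refine ⟨htR, ?_⟩
      show (t * s) v = 0
      rw [hcomm t htR s hs]
      show s (t v) = 0
      rw [htv, map_zero]
    · exact (hcard v (s v) hv hsv).symm.le
    · exact Set.toFinite _
  -- Claim 3
  have hc3 : ∀ v w : V, v ≠ 0 → w ≠ 0 → ann v = ann w := by
    intro v w hv hw
    by_contra hne
    have hu : v + w ≠ 0 := by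
      intro h
      apply hne
      have hw' : w = -v := by rw [eq_neg_iff_add_eq_zero, add_comm]; exact h
      rw [hw']
      ext t
      constructor
      · rintro ⟨h1, h2⟩; exact ⟨h1, by rw [map_neg, h2, neg_zero]⟩
      · rintro ⟨h1, h2⟩
        refine ⟨h1, ?_⟩
        rw [map_neg, neg_eq_zero] at h2
        exact h2
    have hsub : ann (v + w) ⊆ ann v ∩ ann w := by
      rintro s ⟨hsR, hsu⟩
      have hsv : s v = -(s w) := by
        rw [map_add] at hsu
        exact eq_neg_of_add_eq_zero_left hsu
      by_cases h0 : s v = 0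
      · refine ⟨⟨hsR, h0⟩, hsR, ?_⟩
        rw [h0] at hsv
        have : s w = 0 := by
          have := congrArg Neg.neg hsv
          rw [neg_neg, neg_zero] at this
          exact this.symm
        exact this
      · exfalso
        apply hne
        have hsw0 : s w ≠ 0 := by
          intro h
          rw [h, neg_zero] at hsv
          exact h0 hsv
        rw [← hc1 v s hsR hv h0, ← hc1 w s hsR hw hsw0, hsv]
        ext t
        constructor
        · rintro ⟨h1, h2⟩
          refine ⟨h1, ?_⟩
          rw [map_neg, neg_eq_zero] at h2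
          exact h2
        · rintro ⟨h1, h2⟩; exact ⟨h1, by rw [map_neg, h2, neg_zero]⟩
    have e1 : ann (v + w) = ann v := by
      apply Set.eq_of_subset_of_ncard_le (hsub.trans Set.inter_subset_left)
      · exact (hcard (v + w) v hu hv).symm.le
    have e2 : ann (v + w) = ann w := by
      apply Set.eq_of_subset_of_ncard_le (hsub.trans Set.inter_subset_right)
      · exact (hcard (v + w) w hu hw).symm.le
    exact hne (e1.symm.trans e2)
  rw [injective_iff_map_eq_zero]
  intro v hv
  by_contra hv0
  apply hr0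
  ext w
  by_cases hw : w = 0
  · rw [hw, map_zero, map_zero]
  · have : r ∈ ann w := by rw [← hc3 v w hv0 hw]; exact ⟨hr, hv⟩
    exact this.2


section field

variable {Z : Subgroup H}

lemma Reg.inj_of_mem (reg : Reg ρ p) (hn : Z.Normal) (hc : ∀ a ∈ Z, ∀ b ∈ Z, a * b = b * a)
    {r : AddMonoid.End V} (hr : r ∈ ringR ρ Z) (h0 : r ≠ 0) : Function.Injective r :=
  injective_of_transitive reg.trans (ringR ρ Z) (fun _ hr _ hs => R_comm hc hr hs)
    (fun h _ hr => conj_mem hn h hr) hr h0

lemma Reg.isDomain (reg : Reg ρ p) (hn : Z.Normal) (hc : ∀ a ∈ Z, ∀ b ∈ Z, a * b = b * a) :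
    IsDomain (ringR ρ Z) := by
  obtain ⟨x, hx⟩ := reg.nontriv
  have : Nontrivial (ringR ρ Z) := by
    refine ⟨⟨0, 1, ?_⟩⟩
    intro h
    have h1 := congrArg Subtype.val h
    have h2 : (0 : AddMonoid.End V) x = (1 : AddMonoid.End V) x := by
      have h1' : (0 : AddMonoid.End V) = 1 := h1
      rw [h1']
    exact hx h2.symm
  have : NoZeroDivisors (ringR ρ Z) := by
    refine ⟨fun {r s} hrs => ?_⟩
    by_contra hcon
    push Not at hcon
    have hr0 : r.1 ≠ 0 := fun h => hcon.1 (Subtype.ext h)
    have hs0 : s.1 ≠ 0 := fun h => hcon.2 (Subtype.ext h)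
    have hb := reg.inj_of_mem hn hc r.2 hr0
    apply hs0
    ext y
    apply hb
    have h1 : r.1 (s.1 y) = (r.1 * s.1) y := rfl
    rw [h1]
    have h2 : r.1 * s.1 = 0 := congrArg Subtype.val hrs
    rw [h2]
    simp
  exact NoZeroDivisors.to_isDomain _

omit [Finite V] [Finite H] in
/-- an additive subgroup invariant under `Z` is invariant under the ring generated by `Z`. -/
lemma invariant_ring (W : AddSubgroup V) (hW : ∀ z ∈ Z, ∀ w ∈ W, ρ z w ∈ W)
    {r : AddMonoid.End V} (hr : r ∈ ringR ρ Z) : ∀ w ∈ W, r w ∈ W := by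
  induction hr using Subring.closure_induction with
  | mem x hx =>
    obtain ⟨m, hm, rfl⟩ := hx
    exact hW m hm
  | zero => intro w _; exact W.zero_mem
  | one => intro w hw; exact hw
  | add x y hx hy ihx ihy => intro w hw; exact W.add_mem (ihx w hw) (ihy w hw)
  | neg x hx ih => intro w hw; exact W.neg_mem (ih w hw)
  | mul x y hx hy ihx ihy => intro w hw; exact ihx _ (ihy w hw)

omit [Finite V] [Finite H] in
/-- an element centralizing `Z` commutes with the ring generated by `Z`. -/
lemma commute_ring {h : H} (hh : ∀ z ∈ Z, z * h = h * z)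
    {r : AddMonoid.End V} (hr : r ∈ ringR ρ Z) : ρ h * r = r * ρ h := by
  induction hr using Subring.closure_induction with
  | mem x hx =>
    obtain ⟨m, hm, rfl⟩ := hx
    rw [← map_mul, ← map_mul, hh m hm]
  | zero => rw [mul_zero, zero_mul]
  | one => rw [mul_one, one_mul]
  | add x y hx hy ihx ihy => rw [mul_add, add_mul, ihx, ihy]
  | neg x hx ih => rw [mul_neg, neg_mul, ih]
  | mul x y hx hy ihx ihy => rw [← mul_assoc, ihx, mul_assoc, ihy, mul_assoc]

open scoped IsMulCommutative in
/-- **Field data** attached to a normal abelian subgroup of a group regular on nonzero vectors. -/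
theorem Reg.field_data (reg : Reg ρ p) (hn : Z.Normal) (hc : ∀ a ∈ Z, ∀ b ∈ Z, a * b = b * a) :
    ∃ f m : ℕ, 0 < f ∧ 0 < m ∧ Nat.card V = (p ^ f) ^ m ∧ IsCyclic Z ∧ Nat.card Z ∣ p ^ f - 1 ∧
      (∃ t, t ∣ f ∧ Nat.card H = t * Nat.card (Subgroup.centralizer (Z : Set H))) ∧
      (m = 1 → ∀ W : AddSubgroup V, (∀ z ∈ Z, ∀ w ∈ W, ρ z w ∈ W) → W = ⊥ ∨ W = ⊤) := by
  classical
  have hp := reg.hp
  have hcomm : IsMulCommutative (ringR ρ Z) :=
    Subring.isMulCommutative_closure (gens_comm (ρ := ρ) hc)
  have hdom : IsDomain (ringR ρ Z) := reg.isDomain hn hc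
  have hfinE := finite_end (V := V)
  have hfin : Finite (ringR ρ Z) := Finite.of_injective Subtype.val Subtype.val_injective
  have := Fintype.ofFinite (ringR ρ Z)
  let _ : Field (ringR ρ Z) := Fintype.fieldOfDomain (ringR ρ Z)
  have hp0 : ((p : ℕ) : ringR ρ Z) = 0 := by
    apply Subtype.ext
    rw [Subring.coe_natCast]
    ext x
    rw [AddMonoid.End.natCast_apply]
    exact reg.exp x
  have hchar : CharP (ringR ρ Z) p := (CharP.charP_iff_prime_eq_zero hp).2 hp0
  obtain ⟨f, -, hf⟩ := FiniteField.card (ringR ρ Z) p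
  rw [← Nat.card_eq_fintype_card] at hf
  have hmf : Module.Finite (ringR ρ Z) V := Module.Finite.of_finite
  have hV := Module.natCard_eq_pow_finrank (K := ringR ρ Z) (V := V)
  rw [hf] at hV
  set m := Module.finrank (ringR ρ Z) V with hm
  have hm0 : 0 < m := by
    rcases Nat.eq_zero_or_pos m with h | h
    · exfalso
      rw [h, pow_zero, Nat.card_eq_one_iff_unique] at hV
      obtain ⟨x, hx⟩ := reg.nontriv
      exact hx (hV.1.elim x 0)
    · exact h
  -- the embedding of Z
  let φ : Z →* (ringR ρ Z) :=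
    { toFun := fun z => ⟨ρ z.1, rho_mem z.2⟩
      map_one' := by apply Subtype.ext; simp
      map_mul' := fun a b => by apply Subtype.ext; simp }
  have hφ : Function.Injective φ := by
    intro a b hab
    have := congrArg Subtype.val hab
    exact Subtype.ext (reg.inj this)
  have hcyc : IsCyclic Z := isCyclic_of_injective_ringHom φ hφ
  have hdvd : Nat.card Z ∣ p ^ (f : ℕ) - 1 := by
    let ψ : Z →* (ringR ρ Z)ˣ := (Units.map φ).comp (toUnits (G := Z)).toMonoidHom
    have hψ : Function.Injective ψ := by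
      intro a b hab
      apply hφ
      have := congrArg Units.val hab
      exact this
    have := Subgroup.card_dvd_of_injective ψ hψ
    rwa [Nat.card_units, hf] at this
  refine ⟨f, m, f.pos, hm0, hV, hcyc, hdvd, ?_, ?_⟩
  · -- the Galois action
    obtain ⟨hcard, -⟩ := card_ringAut (ringR ρ Z) p f hp hf
    set σ := sigma (ρ := ρ) hn with hσ
    have hker : σ.ker = Subgroup.centralizer (Z : Set H) := by
      ext h
      rw [mem_ker_sigma, Subgroup.mem_centralizer_iff]
      constructor
      · intro hr z hz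
        have := hr (ρ z) (rho_mem hz)
        rw [← map_mul, ← map_mul] at this
        exact (reg.inj this).symm
      · intro hz r hr
        exact commute_ring hz hr
    refine ⟨Nat.card σ.range, ?_, ?_⟩
    · have h2 : Nat.card σ.range ∣ Nat.card (RingAut (ringR ρ Z)) :=
        Subgroup.card_subgroup_dvd_card _
      have h3 : Nat.card (RingAut (ringR ρ Z)) = f := hcard
      rwa [h3] at h2
    · have h1 := Subgroup.card_mul_index σ.ker
      rw [Subgroup.index_ker, hker] at h1
      rw [← h1, mul_comm]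
  · intro hm1 W hW
    by_cases hWb : W = ⊥
    · exact Or.inl hWb
    right
    obtain ⟨w, hwW, hw0⟩ : ∃ w ∈ W, w ≠ 0 := by
      by_contra hcon
      push Not at hcon
      apply hWb
      rw [eq_bot_iff]
      intro x hx
      rw [AddSubgroup.mem_bot]
      exact hcon x hx
    rw [hm1, pow_one] at hV
    let ev : ringR ρ Z → W := fun r => ⟨r.1 w, invariant_ring W hW r.2 w hwW⟩
    have hev : Function.Injective ev := by
      intro r s hrs
      have h1 : r.1 w = s.1 w := congrArg Subtype.val hrs
      by_contra hne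
      have h2 : r.1 - s.1 ≠ 0 := fun h => hne (Subtype.ext (sub_eq_zero.1 h))
      have h3 := reg.inj_of_mem hn hc (sub_mem r.2 s.2) h2
      apply hw0
      apply h3
      rw [map_zero]
      show r.1 w - s.1 w = 0
      rw [h1, sub_self]
    have h4 : Nat.card (ringR ρ Z) ≤ Nat.card W := Nat.card_le_card_of_injective ev hev
    rw [hf, ← hV] at h4
    have h5 : (W : Set V) = Set.univ := by
      apply Set.eq_of_subset_of_ncard_le (Set.subset_univ _)
      · rw [Set.ncard_univ]
        have : Nat.card W = (W : Set V).ncard := Nat.card_coe_set_eq _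
        rw [← this]
        exact h4
    rw [eq_top_iff]
    intro x _
    have : x ∈ (W : Set V) := by rw [h5]; exact Set.mem_univ x
    exact this

end field

end Cfsg.Agent.Lib.Helper22.NearA
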