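import Mathlib
import Cfsg.Agent.Lib.Helper22.ExtPrimA
import Cfsg.Agent.Lib.Helper22.NearA

set_option autoImplicit false
set_option linter.unusedSectionVars false
set_option linter.unusedVariables false

namespace Cfsg.Agent.Lib.Helper22.HupA

open Cfsg.Agent.Lib.Helper22.ExtPrimA Cfsg.Agent.Lib.Helper22.NearA

variable {V : Type*} [AddCommGroup V] [Finite V] {G : Type*} [Group G] [Finite G]

/-- a group acting faithfully on an elementary abelian `q`-group, transitively on the nonzero
elements. -/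
structure Tr (ρ : G →* AddMonoid.End V) (q : ℕ) : Prop where
  hq : q.Prime
  exp : ∀ v : V, q • v = 0
  inj : Function.Injective ρ
  trans : ∀ v w : V, v ≠ 0 → w ≠ 0 → ∃ h : G, ρ h v = w
  nontriv : ∃ v : V, v ≠ 0

variable {ρ : G →* AddMonoid.End V} {q : ℕ} {Z : Subgroup G}

lemma Tr.inj_of_mem (tr : Tr ρ q) (hn : Z.Normal) (hc : ∀ a ∈ Z, ∀ b ∈ Z, a * b = b * a)
    {r : AddMonoid.End V} (hr : r ∈ ringR ρ Z) (h0 : r ≠ 0) : Function.Injective r :=
  injective_of_transitive tr.trans (ringR ρ Z) (fun _ hr _ hs => R_comm hc hr hs)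
    (fun h _ hr => conj_mem hn h hr) hr h0

lemma Tr.isDomain (tr : Tr ρ q) (hn : Z.Normal) (hc : ∀ a ∈ Z, ∀ b ∈ Z, a * b = b * a) :
    IsDomain (ringR ρ Z) := by
  obtain ⟨x, hx⟩ := tr.nontriv
  have : Nontrivial (ringR ρ Z) := by
    refine ⟨⟨0, 1, ?_⟩⟩
    intro h
    have h1 := congrArg Subtype.val h
    have h2 : (0 : AddMonoid.End V) x = (1 : AddMonoid.End V) x := by
      have h1' : (0 : AddMonoid.End V) = 1 := h1
      rw [h1']
    exact hx h2.symm
  have : NoZeroDivisors (ringR ρ Z) := by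
    refine ⟨fun {r s} hrs => ?_⟩
    by_contra hcon
    push Not at hcon
    have hr0 : r.1 ≠ 0 := fun h => hcon.1 (Subtype.ext h)
    have hs0 : s.1 ≠ 0 := fun h => hcon.2 (Subtype.ext h)
    have hb := tr.inj_of_mem hn hc r.2 hr0
    apply hs0
    ext y
    apply hb
    have h1 : r.1 (s.1 y) = (r.1 * s.1) y := rfl
    rw [h1]
    have h2 : r.1 * s.1 = 0 := congrArg Subtype.val hrs
    rw [h2]
    simp
  exact NoZeroDivisors.to_isDomain _

/-- elements of a normal abelian subgroup act without fixed points. -/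
lemma Tr.semireg (tr : Tr ρ q) (hn : Z.Normal) (hc : ∀ a ∈ Z, ∀ b ∈ Z, a * b = b * a)
    {z : G} (hz : z ∈ Z) {v : V} (hv : v ≠ 0) (hfix : ρ z v = v) : z = 1 := by
  by_contra hz1
  have h0 : ρ z - 1 ≠ 0 := by
    intro h
    apply hz1
    apply tr.inj
    rw [map_one]
    exact sub_eq_zero.1 h
  have hinj := tr.inj_of_mem hn hc (sub_mem (rho_mem hz) (one_mem _)) h0
  apply hv
  apply hinj
  rw [map_zero]
  show ρ z v - v = 0
  rw [hfix, sub_self]

open scoped IsMulCommutative in
open Classical in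
/-- the field structure on the ring generated by a normal abelian subgroup. -/
@[reducible] noncomputable def Tr.field (tr : Tr ρ q) (hn : Z.Normal) (hc : ∀ a ∈ Z, ∀ b ∈ Z, a * b = b * a) :
    Field (ringR ρ Z) :=
  have hcomm : IsMulCommutative (ringR ρ Z) :=
    Subring.isMulCommutative_closure (gens_comm (ρ := ρ) hc)
  have hdom : IsDomain (ringR ρ Z) := tr.isDomain hn hc
  have _hfinE := finite_end (V := V)
  have hfin : Finite (ringR ρ Z) := Finite.of_injective Subtype.val Subtype.val_injective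
  have := Fintype.ofFinite (ringR ρ Z)
  Fintype.fieldOfDomain (ringR ρ Z)

lemma finite_ringR : Finite (ringR ρ Z) :=
  have hfinE := finite_end (V := V)
  Finite.of_injective Subtype.val Subtype.val_injective

/-- **Field data** attached to a normal abelian subgroup of a group transitive on nonzero
vectors. -/
theorem Tr.field_data (tr : Tr ρ q) (hn : Z.Normal) (hc : ∀ a ∈ Z, ∀ b ∈ Z, a * b = b * a) :
    ∃ a : ℕ, 0 < a ∧ Nat.card (ringR ρ Z) = q ^ a ∧
      Nat.card V = (q ^ a) ^ (Module.finrank (ringR ρ Z) V) ∧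
      0 < Module.finrank (ringR ρ Z) V ∧ IsCyclic Z ∧ Nat.card Z ∣ q ^ a - 1 ∧
      (∃ t, t ∣ a ∧ Nat.card G = t * Nat.card (Subgroup.centralizer (Z : Set G))) := by
  classical
  have hp := tr.hq
  have hfin : Finite (ringR ρ Z) := finite_ringR
  have := Fintype.ofFinite (ringR ρ Z)
  let _ : Field (ringR ρ Z) := tr.field hn hc
  have hp0 : ((q : ℕ) : ringR ρ Z) = 0 := by
    apply Subtype.ext
    rw [Subring.coe_natCast]
    ext x
    rw [AddMonoid.End.natCast_apply]
    exact tr.exp x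
  have hchar : CharP (ringR ρ Z) q := (CharP.charP_iff_prime_eq_zero hp).2 hp0
  obtain ⟨f, -, hf⟩ := FiniteField.card (ringR ρ Z) q
  rw [← Nat.card_eq_fintype_card] at hf
  have hmf : Module.Finite (ringR ρ Z) V := Module.Finite.of_finite
  have hV := Module.natCard_eq_pow_finrank (K := ringR ρ Z) (V := V)
  rw [hf] at hV
  have hm0 : 0 < Module.finrank (ringR ρ Z) V := by
    rcases Nat.eq_zero_or_pos (Module.finrank (ringR ρ Z) V) with h | h
    · exfalso
      rw [h, pow_zero, Nat.card_eq_one_iff_unique] at hV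
      obtain ⟨x, hx⟩ := tr.nontriv
      exact hx (hV.1.elim x 0)
    · exact h
  -- the embedding of Z
  let φ : Z →* (ringR ρ Z) :=
    { toFun := fun z => ⟨ρ z.1, rho_mem z.2⟩
      map_one' := by apply Subtype.ext; simp
      map_mul' := fun a b => by apply Subtype.ext; simp }
  have hφ : Function.Injective φ := by
    intro a b hab
    have := congrArg Subtype.val hab
    exact Subtype.ext (tr.inj this)
  have hcyc : IsCyclic Z := isCyclic_of_injective_ringHom φ hφ
  have hdvd : Nat.card Z ∣ q ^ (f : ℕ) - 1 := by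
    let ψ : Z →* (ringR ρ Z)ˣ := (Units.map φ).comp (toUnits (G := Z)).toMonoidHom
    have hψ : Function.Injective ψ := by
      intro a b hab
      apply hφ
      have := congrArg Units.val hab
      exact this
    have := Subgroup.card_dvd_of_injective ψ hψ
    rwa [Nat.card_units, hf] at this
  refine ⟨f, f.pos, hf, hV, hm0, hcyc, hdvd, ?_⟩
  -- the Galois action
  obtain ⟨hcard, -⟩ := card_ringAut (ringR ρ Z) q f hp hf
  set σ := sigma (ρ := ρ) hn with hσ
  have hker : σ.ker = Subgroup.centralizer (Z : Set G) := by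
    ext h
    rw [mem_ker_sigma, Subgroup.mem_centralizer_iff]
    constructor
    · intro hr z hz
      have := hr (ρ z) (rho_mem hz)
      rw [← map_mul, ← map_mul] at this
      exact (tr.inj this).symm
    · intro hz r hr
      exact commute_ring hz hr
  refine ⟨Nat.card σ.range, ?_, ?_⟩
  · have h2 : Nat.card σ.range ∣ Nat.card (RingAut (ringR ρ Z)) :=
      Subgroup.card_subgroup_dvd_card _
    have h3 : Nat.card (RingAut (ringR ρ Z)) = f := hcard
    rwa [h3] at h2
  · have h1 := Subgroup.card_mul_index σ.ker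
    rw [Subgroup.index_ker, hker] at h1
    rw [← h1, mul_comm]

/-- a wrapper around `Fin n` carrying no algebraic instances. -/
structure FWrap (n : ℕ) : Type where
  /-- the underlying element -/
  val : Fin n

/-- `FWrap n` is equivalent to `Fin n`. -/
def FWrap.equiv (n : ℕ) : FWrap n ≃ Fin n := ⟨FWrap.val, FWrap.mk, fun _ => rfl, fun _ => rfl⟩

/-- **The one-dimensional case**: the group consists of semilinear maps of a field. -/
theorem Tr.semilinear (tr : Tr ρ q) (hn : Z.Normal) (hc : ∀ a ∈ Z, ∀ b ∈ Z, a * b = b * a)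
    (hd : Module.finrank (ringR ρ Z) V = 1) :
    ∃ (F : Type) (_ : Field F) (_ : Fintype F) (e : V ≃+ F),
      ∀ g : G, ∃ (a : F) (σ : F ≃+* F), ∀ v : V, e (ρ g v) = a * σ (e v) := by
  classical
  obtain ⟨a, ha, hK, hV, -, -, -, -⟩ := tr.field_data hn hc
  rw [hd, pow_one, ← hK] at hV
  have hfin : Finite (ringR ρ Z) := finite_ringR
  let _ : Field (ringR ρ Z) := tr.field hn hc
  obtain ⟨v₀, hv₀⟩ := tr.nontriv
  let ev : ringR ρ Z →+ V :=
    { toFun := fun r => r.1 v₀
      map_zero' := rfl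
      map_add' := fun r s => rfl }
  have hev : Function.Injective ev := by
    intro r s hrs
    have h1 : r.1 v₀ = s.1 v₀ := hrs
    by_contra hne
    have h2 : r.1 - s.1 ≠ 0 := fun h => hne (Subtype.ext (sub_eq_zero.1 h))
    have h3 := tr.inj_of_mem hn hc (sub_mem r.2 s.2) h2
    apply hv₀
    apply h3
    rw [map_zero]
    show r.1 v₀ - s.1 v₀ = 0
    rw [h1, sub_self]
  have hbij : Function.Bijective ev := by
    rw [Nat.bijective_iff_injective_and_card]
    exact ⟨hev, hV.symm⟩
  let e₀ : ringR ρ Z ≃+ V := AddEquiv.ofBijective ev hbij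
  have he₀ : ∀ r : ringR ρ Z, e₀ r = r.1 v₀ := fun r => rfl
  set n := Nat.card (ringR ρ Z) with hn'
  let ψ : FWrap n ≃ ringR ρ Z := (FWrap.equiv n).trans (Finite.equivFin (ringR ρ Z)).symm
  let instF : Field (FWrap n) := ψ.field
  let ψR : FWrap n ≃+* ringR ρ Z := ψ.ringEquiv
  have instFin : Fintype (FWrap n) := Fintype.ofEquiv (Fin n) (FWrap.equiv n).symm
  refine ⟨FWrap n, instF, instFin, e₀.symm.trans ψR.symm.toAddEquiv, ?_⟩
  intro g
  refine ⟨ψR.symm (e₀.symm (ρ g v₀)), ψR.trans ((sigma (ρ := ρ) hn g).trans ψR.symm), ?_⟩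
  intro v
  obtain ⟨r, rfl⟩ := e₀.surjective v
  have key : e₀.symm (ρ g (e₀ r)) = e₀.symm (ρ g v₀) * (sigma (ρ := ρ) hn g) r := by
    apply e₀.injective
    rw [AddEquiv.apply_symm_apply, he₀, he₀]
    set b := e₀.symm (ρ g v₀) with hb
    have hb' : b.1 v₀ = ρ g v₀ := by
      rw [← he₀, hb, AddEquiv.apply_symm_apply]
    have hcomm : b * (sigma (ρ := ρ) hn g) r = (sigma (ρ := ρ) hn g) r * b := mul_comm _ _
    rw [hcomm]
    show ρ g (r.1 v₀) = (ρ g * r.1 * ρ g⁻¹) (b.1 v₀)
    rw [hb']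
    show ρ g (r.1 v₀) = ρ g (r.1 (ρ g⁻¹ (ρ g v₀)))
    rw [rho_inv_apply]
  show ψR.symm (e₀.symm (ρ g (e₀ r))) = _
  rw [key, map_mul]
  congr 1
  show _ = ψR.symm ((sigma (ρ := ρ) hn g) (ψR (ψR.symm (e₀.symm (e₀ r)))))
  rw [RingEquiv.apply_symm_apply, AddEquiv.symm_apply_apply]

end Cfsg.Agent.Lib.Helper22.HupA
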