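import Mathlib

set_option autoImplicit false
set_option linter.unusedSectionVars false
set_option linter.unusedVariables false

namespace Cfsg.Agent.Lib.Helper22.HupB

open scoped commutatorElement

variable {G : Type*} [Group G]

/-- the subgroup of elements whose commutators with `K` lie in the normal subgroup `A`. -/
def commSub (A K : Subgroup G) [A.Normal] : Subgroup G where
  carrier := {x | ∀ y ∈ K, ⁅x, y⁆ ∈ A}
  one_mem' := by
    intro y _
    rw [commutatorElement_one_left]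
    exact A.one_mem
  mul_mem' := by
    intro a b ha hb y hy
    rw [commutatorElement_mul_left_eq_conj_mul]
    exact A.mul_mem (Subgroup.Normal.conj_mem inferInstance _ (hb y hy) a) (ha y hy)
  inv_mem' := by
    intro a ha y hy
    rw [commutatorElement_inv_left]
    have h1 : ⁅y, a⁆ ∈ A := by
      rw [← commutatorElement_inv]
      exact A.inv_mem (ha y hy)
    have := Subgroup.Normal.conj_mem (inferInstance : A.Normal) _ h1 a⁻¹
    rwa [inv_inv] at this

lemma commutator_sup_le (A H₁ H₂ K : Subgroup G) [A.Normal] (h₁ : ⁅H₁, K⁆ ≤ A)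
    (h₂ : ⁅H₂, K⁆ ≤ A) : ⁅H₁ ⊔ H₂, K⁆ ≤ A := by
  have h : H₁ ⊔ H₂ ≤ commSub A K := by
    apply sup_le
    · intro x hx y hy
      exact h₁ (Subgroup.commutator_mem_commutator hx hy)
    · intro x hx y hy
      exact h₂ (Subgroup.commutator_mem_commutator hx hy)
  rw [Subgroup.commutator_le]
  intro x hx y hy
  exact h hx y hy

lemma commutator_sup_sup_le (A H₁ H₂ : Subgroup G) [A.Normal] (h₁ : ⁅H₁, H₁⁆ ≤ A)
    (h₂ : ⁅H₂, H₂⁆ ≤ A) (h₁₂ : ⁅H₁, H₂⁆ ≤ A) : ⁅H₁ ⊔ H₂, H₁ ⊔ H₂⁆ ≤ A := by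
  apply commutator_sup_le
  · rw [Subgroup.commutator_comm]
    apply commutator_sup_le
    · exact h₁
    · rw [Subgroup.commutator_comm]; exact h₁₂
  · rw [Subgroup.commutator_comm]
    apply commutator_sup_le
    · exact h₁₂
    · exact h₂

/-- iterated commutator subgroups of a subgroup. -/
def dser (D : Subgroup G) : ℕ → Subgroup G
  | 0 => D
  | (n + 1) => ⁅dser D n, dser D n⁆

lemma dser_normal (D : Subgroup G) [D.Normal] : ∀ n, (dser D n).Normal
  | 0 => by show D.Normal; infer_instance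
  | (n + 1) => by
    have := dser_normal D n
    show (⁅dser D n, dser D n⁆).Normal
    infer_instance

lemma dser_le_derivedSeries (D : Subgroup G) : ∀ n, dser D n ≤ derivedSeries G n
  | 0 => le_top
  | (n + 1) => Subgroup.commutator_mono (dser_le_derivedSeries D n) (dser_le_derivedSeries D n)

lemma commutator_self_le (H : Subgroup G) : ⁅H, H⁆ ≤ H := by
  rw [Subgroup.commutator_le]
  intro x hx y hy
  rw [commutatorElement_def]
  exact H.mul_mem (H.mul_mem (H.mul_mem hx hy) (H.inv_mem hx)) (H.inv_mem hy)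

lemma dser_le (D : Subgroup G) : ∀ n, dser D n ≤ D
  | 0 => le_rfl
  | (n + 1) => (commutator_self_le _).trans (dser_le D n)

/-- in a solvable group, a normal subgroup `D` not contained in the normal subgroup `A` yields a
normal subgroup `M` with `A < M ≤ DA` and `M/A` abelian. -/
lemma exists_abelian_over (hsolv : Group.IsSolvable G) (A D : Subgroup G) [A.Normal] [D.Normal]
    (hne : ¬ D ≤ A) :
    ∃ M : Subgroup G, M.Normal ∧ A ≤ M ∧ M ≤ D ⊔ A ∧ ¬ M ≤ A ∧ ⁅M, M⁆ ≤ A := by
  classical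
  obtain ⟨n, hn⟩ := hsolv.solvable
  have hex : ∃ k, dser D k ≤ A := ⟨n, by
    have := dser_le_derivedSeries D n
    rw [hn] at this
    exact this.trans bot_le⟩
  have hk0 : Nat.find hex ≠ 0 := by
    intro h0
    have := Nat.find_spec hex
    rw [h0] at this
    exact hne this
  obtain ⟨k, hk⟩ := Nat.exists_eq_succ_of_ne_zero hk0
  have hkA : ¬ dser D k ≤ A := Nat.find_min hex (by omega)
  have hk1 : dser D (k + 1) ≤ A := by
    have := Nat.find_spec hex
    rwa [hk] at this
  have hnk : (dser D k).Normal := dser_normal D k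
  refine ⟨dser D k ⊔ A, inferInstance, le_sup_right, sup_le_sup_right (dser_le D k) A, ?_, ?_⟩
  · intro h
    exact hkA (le_sup_left.trans h)
  · apply commutator_sup_sup_le
    · exact hk1
    · exact commutator_self_le A
    · exact Subgroup.commutator_le_right _ _

variable [Finite G]

theorem exists_max_normal_abelian : ∃ A : Subgroup G, A.Normal ∧
    (∀ a ∈ A, ∀ b ∈ A, a * b = b * a) ∧
    ∀ B : Subgroup G, B.Normal → (∀ a ∈ B, ∀ b ∈ B, a * b = b * a) → A ≤ B → B = A := by
  classical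
  let S : Set (Subgroup G) := {B | B.Normal ∧ ∀ a ∈ B, ∀ b ∈ B, a * b = b * a}
  have hS : S.Nonempty := ⟨⊥, inferInstance, by
    intro a ha b hb
    rw [Subgroup.mem_bot] at ha hb
    rw [ha, hb]⟩
  obtain ⟨A, hA⟩ := (Set.toFinite S).exists_maximal hS
  exact ⟨A, hA.prop.1, hA.prop.2, fun B hBn hBc hAB =>
    le_antisymm (hA.le_of_ge ⟨hBn, hBc⟩ hAB) hAB⟩

/-- the configuration: `A` a maximal normal abelian subgroup, `E` a maximal normal subgroup with
`A ≤ E ≤ C(A)` and `E/A` abelian. -/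
structure Cfg (A E : Subgroup G) : Prop where
  A_normal : A.Normal
  A_comm : ∀ a ∈ A, ∀ b ∈ A, a * b = b * a
  A_max : ∀ B : Subgroup G, B.Normal → (∀ a ∈ B, ∀ b ∈ B, a * b = b * a) → A ≤ B → B = A
  E_normal : E.Normal
  A_le_E : A ≤ E
  E_le_C : E ≤ Subgroup.centralizer (A : Set G)
  comm_le : ⁅E, E⁆ ≤ A
  cent_E : Subgroup.centralizer (E : Set G) ≤ A

theorem exists_cfg (hsolv : Group.IsSolvable G) : ∃ A E : Subgroup G, Cfg A E := by
  classical
  obtain ⟨A, hAn, hAc, hAmax⟩ := exists_max_normal_abelian (G := G)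
  have hAcent : A ≤ Subgroup.centralizer (A : Set G) := by
    intro a ha
    rw [Subgroup.mem_centralizer_iff]
    intro b hb
    exact hAc b hb a ha
  let S : Set (Subgroup G) := {N | N.Normal ∧ A ≤ N ∧ N ≤ Subgroup.centralizer (A : Set G) ∧
    ⁅N, N⁆ ≤ A}
  have hS : S.Nonempty := ⟨A, hAn, le_rfl, hAcent, commutator_self_le A⟩
  obtain ⟨E, hE⟩ := (Set.toFinite S).exists_maximal hS
  obtain ⟨hEn, hAE, hEC, hEE⟩ := hE.prop
  refine ⟨A, E, hAn, hAc, hAmax, hEn, hAE, hEC, hEE, ?_⟩
  by_contra hcon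
  set D := Subgroup.centralizer (E : Set G) with hD
  have hDn : D.Normal := Subgroup.normal_centralizer
  have hAD : A ≤ D := by
    rw [hD, Subgroup.le_centralizer_iff]
    exact hEC
  have hDC : D ≤ Subgroup.centralizer (A : Set G) := Subgroup.centralizer_le hAE
  obtain ⟨M, hMn, hAM, hMD, hMA, hMM⟩ := exists_abelian_over hsolv A D hcon
  rw [sup_eq_left.2 hAD] at hMD
  have hME : ⁅M, E⁆ = ⊥ := by
    rw [Subgroup.commutator_eq_bot_iff_le_centralizer]
    exact hMD
  have hN : E ⊔ M ∈ S := by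
    refine ⟨inferInstance, hAE.trans le_sup_left, sup_le hEC (hMD.trans hDC), ?_⟩
    apply commutator_sup_sup_le _ _ _ hEE hMM
    rw [Subgroup.commutator_comm, hME]
    exact bot_le
  have hMleE : M ≤ E := le_sup_right.trans (hE.le_of_ge hN le_sup_left)
  -- the centre of `E`
  have hZn : (E ⊓ D).Normal := inferInstance
  have hZc : ∀ a ∈ E ⊓ D, ∀ b ∈ E ⊓ D, a * b = b * a := by
    intro a ha b hb
    have h1 : b ∈ Subgroup.centralizer (E : Set G) := (Subgroup.mem_inf.1 hb).2
    rw [Subgroup.mem_centralizer_iff] at h1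
    exact h1 a (Subgroup.mem_inf.1 ha).1
  have hZ := hAmax (E ⊓ D) hZn hZc (le_inf hAE hAD)
  apply hMA
  rw [← hZ]
  exact le_inf hMleE hMD

namespace Cfg

variable {A E : Subgroup G} (c : Cfg A E)

include c

lemma comm_mem {x y : G} (hx : x ∈ E) (hy : y ∈ E) : ⁅x, y⁆ ∈ A :=
  c.comm_le (Subgroup.commutator_mem_commutator hx hy)

lemma A_central {a x : G} (ha : a ∈ A) (hx : x ∈ E) : a * x = x * a := by
  have := c.E_le_C hx
  rw [Subgroup.mem_centralizer_iff] at this
  exact this a ha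

lemma conj_A {a x : G} (ha : a ∈ A) (hx : x ∈ E) : x * a * x⁻¹ = a := by
  rw [← c.A_central ha hx, mul_inv_cancel_right]

lemma comm_mul_left {x x' y : G} (hx : x ∈ E) (hx' : x' ∈ E) (hy : y ∈ E) :
    ⁅x * x', y⁆ = ⁅x, y⁆ * ⁅x', y⁆ := by
  rw [commutatorElement_mul_left_eq_conj_mul, c.conj_A (c.comm_mem hx' hy) hx]
  exact c.A_comm _ (c.comm_mem hx' hy) _ (c.comm_mem hx hy)

lemma comm_mul_right {x y y' : G} (hx : x ∈ E) (hy : y ∈ E) (hy' : y' ∈ E) :
    ⁅x, y * y'⁆ = ⁅x, y⁆ * ⁅x, y'⁆ := by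
  rw [commutatorElement_mul_right_eq_mul_conj, mul_assoc, mul_assoc,
    ← mul_assoc y, c.conj_A (c.comm_mem hx hy') hy]

lemma comm_pow_left {x y : G} (hx : x ∈ E) (hy : y ∈ E) (n : ℕ) :
    ⁅x ^ n, y⁆ = ⁅x, y⁆ ^ n := by
  induction n with
  | zero => rw [pow_zero, pow_zero, commutatorElement_one_left]
  | succ n ih =>
    rw [pow_succ, pow_succ, c.comm_mul_left (E.pow_mem hx n) hx hy, ih]

lemma comm_pow_right {x y : G} (hx : x ∈ E) (hy : y ∈ E) (n : ℕ) :
    ⁅x, y ^ n⁆ = ⁅x, y⁆ ^ n := by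
  induction n with
  | zero => rw [pow_zero, pow_zero, commutatorElement_one_right]
  | succ n ih =>
    rw [pow_succ, pow_succ, c.comm_mul_right hx (E.pow_mem hy n) hy, ih]

lemma exists_noncomm {x : G} (hx : x ∈ E) (hxA : x ∉ A) : ∃ y ∈ E, ⁅x, y⁆ ≠ 1 := by
  by_contra hcon
  push Not at hcon
  apply hxA
  apply c.cent_E
  rw [Subgroup.mem_centralizer_iff]
  intro y hy
  have := hcon y hy
  rw [commutatorElement_eq_one_iff_mul_comm] at this
  exact this.symm

lemma conj_eq (x y : G) : y * x * y⁻¹ = ⁅y, x⁆ * x := by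
  rw [commutatorElement_def, inv_mul_cancel_right]

/-- every prime dividing `|E|` divides `|A|`. -/
lemma prime_dvd_card_A {r : ℕ} (hr : r.Prime) (hrE : r ∣ Nat.card E) :
    r ∣ Nat.card A := by
  have : Fact r.Prime := ⟨hr⟩
  obtain ⟨x, hx⟩ := exists_prime_orderOf_dvd_card' r hrE
  have hxo : orderOf (x : G) = r := by rw [Subgroup.orderOf_coe]; exact hx
  by_cases hxA : (x : G) ∈ A
  · have h1 : orderOf (⟨x, hxA⟩ : A) = r := by
      rw [← hxo, ← Subgroup.orderOf_coe]
    rw [← h1]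
    exact orderOf_dvd_natCard _
  · obtain ⟨y, hy, hxy⟩ := c.exists_noncomm x.2 hxA
    have hz : ⁅(x : G), y⁆ ∈ A := c.comm_mem x.2 hy
    have hzr : ⁅(x : G), y⁆ ^ r = 1 := by
      rw [← c.comm_pow_left x.2 hy, ← hxo, pow_orderOf_eq_one, commutatorElement_one_left]
    have h1 : orderOf (⟨_, hz⟩ : A) = r := by
      rw [← Subgroup.orderOf_coe]
      exact orderOf_eq_prime hzr hxy
    rw [← h1]
    exact orderOf_dvd_natCard _

end Cfg

/-- an element `g` of prime order `ℓ` centralizing `A`, with `ℓ ∤ |A|`: its centralizer in `E` is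
a proper subgroup `F ⊇ A` of `E` with `|F| ≡ |E| (mod ℓ)`. -/
lemma Cfg.ell_excl {A E : Subgroup G} (c : Cfg A E) {ℓ : ℕ} (hℓ : ℓ.Prime) {g : G}
    (hg : orderOf g = ℓ) (hgC : g ∈ Subgroup.centralizer (A : Set G))
    (hℓA : ¬ ℓ ∣ Nat.card A) :
    ∃ F : Subgroup G, A ≤ F ∧ F ≤ E ∧ F ≠ E ∧ (Nat.card E ≡ Nat.card F [MOD ℓ]) := by
  classical
  have : Fact ℓ.Prime := ⟨hℓ⟩
  have hEn := c.E_normal
  set F := E ⊓ Subgroup.centralizer (Subgroup.zpowers g : Set G) with hF
  have hzA : Subgroup.zpowers g ≤ Subgroup.centralizer (A : Set G) :=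
    (Subgroup.zpowers_le).2 hgC
  refine ⟨F, le_inf c.A_le_E (Subgroup.le_centralizer_iff.1 hzA), inf_le_left, ?_, ?_⟩
  · intro hFE
    have hE : E ≤ Subgroup.centralizer (Subgroup.zpowers g : Set G) := by
      rw [← hFE]; exact inf_le_right
    have hgA : g ∈ A := by
      apply c.cent_E
      rw [Subgroup.mem_centralizer_iff]
      intro x hx
      have := hE hx
      rw [Subgroup.mem_centralizer_iff] at this
      exact (this g (Subgroup.mem_zpowers g)).symm
    apply hℓA
    have h1 : orderOf (⟨g, hgA⟩ : A) = ℓ := by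
      rw [← hg, ← Subgroup.orderOf_coe]
    rw [← h1]
    exact orderOf_dvd_natCard _
  · let φ : Subgroup.zpowers g →* MulAut E :=
      (MulAut.conjNormal (H := E)).comp (Subgroup.zpowers g).subtype
    let _ : MulAction (Subgroup.zpowers g) E := MulAction.compHom E φ
    have hsmul : ∀ (k : Subgroup.zpowers g) (x : E), ((k • x : E) : G) = k.1 * x.1 * k.1⁻¹ := by
      intro k x
      rfl
    have hP : IsPGroup ℓ (Subgroup.zpowers g) :=
      IsPGroup.of_card (n := 1) (by rw [Nat.card_zpowers, hg, pow_one])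
    have hmod := hP.card_modEq_card_fixedPoints E
    have hfix : Nat.card (MulAction.fixedPoints (Subgroup.zpowers g) E) = Nat.card F := by
      apply Nat.card_congr
      refine
        { toFun := fun x => ⟨x.1.1, ?_⟩
          invFun := fun y => ⟨⟨y.1, (Subgroup.mem_inf.1 y.2).1⟩, ?_⟩
          left_inv := fun x => rfl
          right_inv := fun y => rfl }
      · rw [hF, Subgroup.mem_inf]
        refine ⟨x.1.2, ?_⟩
        rw [Subgroup.mem_centralizer_iff]
        intro k hk
        have h1 := x.2 ⟨k, hk⟩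
        have h2 := congrArg Subtype.val h1
        rw [hsmul] at h2
        calc k * x.1.1 = k * x.1.1 * k⁻¹ * k := by rw [inv_mul_cancel_right]
          _ = x.1.1 * k := by rw [h2]
      · intro k
        apply Subtype.ext
        rw [hsmul]
        have h1 := (Subgroup.mem_inf.1 y.2).2
        rw [Subgroup.mem_centralizer_iff] at h1
        have h2 := h1 k.1 k.2
        show k.1 * y.1 * k.1⁻¹ = y.1
        rw [h2, mul_inv_cancel_right]
    rw [hfix] at hmod
    exact hmod

end Cfsg.Agent.Lib.Helper22.HupB
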