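import Mathlib

set_option autoImplicit false
set_option linter.unusedSectionVars false
set_option linter.unusedVariables false

namespace Cfsg.Agent.Lib.Helper22.HupC

open Finset

variable {V : Type*} [AddCommGroup V]

section eigen

variable (X ζ : AddMonoid.End V) (r : ℕ)

/-- the `k`-th eigenspace (as a set) of `X` with respect to the root of unity `ζ`. -/
def Eig (k : ℕ) : Set V := {v | X v = (ζ ^ k) v}

/-- the `k`-th (unnormalized) projection. -/
noncomputable def Pr (k : ℕ) : AddMonoid.End V := ∑ j ∈ range r, (ζ ^ ((r - 1) * k) * X) ^ j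

variable {X ζ r}

lemma end_mul_apply (f g : AddMonoid.End V) (v : V) : (f * g) v = f (g v) := rfl

lemma end_one_apply (v : V) : (1 : AddMonoid.End V) v = v := rfl

lemma end_sum_apply {ι : Type*} (s : Finset ι) (f : ι → AddMonoid.End V) (v : V) :
    (∑ i ∈ s, f i) v = ∑ i ∈ s, f i v := by
  classical
  induction s using Finset.induction_on with
  | empty => simp
  | insert a s ha ih =>
    rw [Finset.sum_insert ha, Finset.sum_insert ha]
    show f a v + (∑ i ∈ s, f i) v = _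
    rw [ih]

lemma zeta_mul_xi (hr : 0 < r) (hζ : ζ ^ r = 1) (k : ℕ) : ζ ^ k * ζ ^ ((r - 1) * k) = 1 := by
  rw [← pow_add]
  have : k + (r - 1) * k = r * k := by
    obtain ⟨s, rfl⟩ : ∃ s, r = s + 1 := ⟨r - 1, by omega⟩
    simp only [Nat.add_sub_cancel]
    ring
  rw [this, pow_mul, hζ, one_pow]

/-- a geometric sum of a root of unity different from one kills everything. -/
lemma geom_zero (hζ : ζ ^ r = 1)
    (hinj : ∀ i : ℕ, ¬ r ∣ i → ∀ v, (ζ ^ i) v = v → v = 0) {i : ℕ} (hi : ¬ r ∣ i) (v : V) :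
    ∑ j ∈ range r, ((ζ ^ i) ^ j) v = 0 := by
  apply hinj i hi
  have h1 := mul_geom_sum (ζ ^ i) r
  have h2 : (ζ ^ i) ^ r = 1 := by rw [← pow_mul, mul_comm, pow_mul, hζ, one_pow]
  rw [h2, sub_self, sub_mul, one_mul, sub_eq_zero] at h1
  rw [← end_sum_apply, ← end_mul_apply, h1]

lemma commute_pow_mul (hXζ : X * ζ = ζ * X) (n : ℕ) : Commute (ζ ^ n) X := by
  have : Commute ζ X := hXζ.symm
  exact this.pow_left n

/-- the image of the projection lies in the eigenspace. -/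
lemma Pr_mem (hr : 0 < r) (hX : X ^ r = 1) (hζ : ζ ^ r = 1) (hXζ : X * ζ = ζ * X) (k : ℕ) (v : V) :
    Pr X ζ r k v ∈ Eig X ζ k := by
  show X (Pr X ζ r k v) = (ζ ^ k) (Pr X ζ r k v)
  set Yk := ζ ^ ((r - 1) * k) * X with hYk
  have hc : Commute (ζ ^ ((r - 1) * k)) X := commute_pow_mul hXζ _
  have h2 : Yk ^ r = 1 := by
    rw [hYk, hc.mul_pow, hX, mul_one, ← pow_mul, mul_comm, pow_mul, hζ, one_pow]
  have h1 := mul_geom_sum Yk r
  rw [h2, sub_self, sub_mul, one_mul, sub_eq_zero] at h1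
  have h3 : Yk * Pr X ζ r k = Pr X ζ r k := h1
  have h4 : X * Pr X ζ r k = ζ ^ k * Pr X ζ r k := by
    calc X * Pr X ζ r k = (ζ ^ k * ζ ^ ((r - 1) * k)) * X * Pr X ζ r k := by
          rw [zeta_mul_xi hr hζ, one_mul]
      _ = ζ ^ k * (Yk * Pr X ζ r k) := by rw [hYk]; simp only [mul_assoc]
      _ = ζ ^ k * Pr X ζ r k := by rw [h3]
  have := congrArg (fun f : AddMonoid.End V => f v) h4
  exact this

lemma Eig_pow_apply (hXζ : X * ζ = ζ * X) {m : ℕ} {u : V} (hu : u ∈ Eig X ζ m) (n : ℕ) :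
    (ζ ^ n) u ∈ Eig X ζ m := by
  show X ((ζ ^ n) u) = (ζ ^ m) ((ζ ^ n) u)
  have hc := (commute_pow_mul (X := X) hXζ n).eq
  have h1 : X ((ζ ^ n) u) = (ζ ^ n) (X u) := by
    rw [← end_mul_apply, ← hc, end_mul_apply]
  rw [h1, hu, ← end_mul_apply, ← end_mul_apply, ← pow_add, ← pow_add, add_comm]

lemma Yk_pow_apply (hXζ : X * ζ = ζ * X) {m : ℕ} {u : V} (hu : u ∈ Eig X ζ m) (n j : ℕ) :
    ((ζ ^ n * X) ^ j) u = ((ζ ^ (n + m)) ^ j) u := by
  induction j with
  | zero => rw [pow_zero, pow_zero]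
  | succ j ih =>
    rw [pow_succ', pow_succ', end_mul_apply, end_mul_apply, ih]
    have h1 : ((ζ ^ (n + m)) ^ j) u ∈ Eig X ζ m := by
      rw [← pow_mul]; exact Eig_pow_apply hXζ hu _
    rw [end_mul_apply, h1, ← end_mul_apply, ← pow_add]

/-- the projection on an eigenvector. -/
lemma Pr_apply_eig (hr : 0 < r) (hζ : ζ ^ r = 1) (hXζ : X * ζ = ζ * X)
    (hinj : ∀ i : ℕ, ¬ r ∣ i → ∀ v, (ζ ^ i) v = v → v = 0) {k m : ℕ} (hk : k < r) (hm : m < r)
    {u : V} (hu : u ∈ Eig X ζ m) : Pr X ζ r k u = if m = k then r • u else 0 := by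
  rw [Pr, end_sum_apply]
  have h1 : ∀ j ∈ range r, ((ζ ^ ((r - 1) * k) * X) ^ j) u = ((ζ ^ ((r - 1) * k + m)) ^ j) u :=
    fun j _ => Yk_pow_apply hXζ hu _ j
  rw [Finset.sum_congr rfl h1]
  split_ifs with hmk
  · subst hmk
    have h2 : ζ ^ ((r - 1) * m + m) = 1 := by
      rw [add_comm, pow_add, zeta_mul_xi hr hζ]
    rw [h2]
    simp
  · apply geom_zero hζ hinj
    intro hdvd
    apply hmk
    obtain ⟨s, rfl⟩ : ∃ s, r = s + 1 := ⟨r - 1, by omega⟩
    simp only [Nat.add_sub_cancel] at hdvd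
    have h3 : ((s + 1 : ℕ) : ℤ) ∣ (m : ℤ) - k := by
      have h4 : ((s + 1 : ℕ) : ℤ) ∣ ((s * k + m : ℕ) : ℤ) := Int.natCast_dvd_natCast.2 hdvd
      have h5 : (m : ℤ) - k = ((s * k + m : ℕ) : ℤ) - ((s + 1 : ℕ) : ℤ) * k := by
        push_cast; ring
      rw [h5]
      exact dvd_sub h4 (dvd_mul_right _ _)
    have h6 : (m : ℤ) - k = 0 := by
      apply Int.eq_zero_of_abs_lt_dvd h3
      rw [abs_lt]
      constructor <;> push_cast <;> omega
    omega

/-- the projections sum to `r`. -/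
lemma sum_Pr (hr : 0 < r) (hζ : ζ ^ r = 1) (hXζ : X * ζ = ζ * X)
    (hinj : ∀ i : ℕ, ¬ r ∣ i → ∀ v, (ζ ^ i) v = v → v = 0) (v : V) :
    ∑ k ∈ range r, Pr X ζ r k v = r • v := by
  simp only [Pr, end_sum_apply]
  rw [Finset.sum_comm]
  have h1 : ∀ j ∈ range r, ∑ k ∈ range r, ((ζ ^ ((r - 1) * k) * X) ^ j) v =
      if j = 0 then r • v else 0 := by
    intro j hj
    have h2 : ∀ k ∈ range r, ((ζ ^ ((r - 1) * k) * X) ^ j) v =
        ((ζ ^ ((r - 1) * j)) ^ k) ((X ^ j) v) := by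
      intro k _
      rw [(commute_pow_mul hXζ _).mul_pow, end_mul_apply, ← pow_mul, ← pow_mul]
      have : (r - 1) * k * j = (r - 1) * j * k := by ring
      rw [this]
    rw [Finset.sum_congr rfl h2]
    split_ifs with hj0
    · subst hj0
      simp
    · apply geom_zero hζ hinj
      intro hdvd
      apply hj0
      rw [Finset.mem_range] at hj
      obtain ⟨s, rfl⟩ : ∃ s, r = s + 1 := ⟨r - 1, by omega⟩
      simp only [Nat.add_sub_cancel] at hdvd
      have h3 : (s + 1) ∣ j := by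
        have h4 : (s + 1) ∣ (s + 1) * j := dvd_mul_right _ _
        have h5 : (s + 1) * j = s * j + j := by ring
        rw [h5] at h4
        exact (Nat.dvd_add_right hdvd).1 h4
      exact Nat.eq_zero_of_dvd_of_lt h3 hj
  rw [Finset.sum_congr rfl h1, Finset.sum_ite_eq' (range r) 0 (fun _ => r • v)]
  rw [if_pos (Finset.mem_range.2 hr)]

/-- the eigenspace decomposition, as an equality of cardinalities. -/
theorem card_eq_prod [Finite V] (hr : 0 < r) (hX : X ^ r = 1) (hζ : ζ ^ r = 1)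
    (hXζ : X * ζ = ζ * X) (hinj : ∀ i : ℕ, ¬ r ∣ i → ∀ v, (ζ ^ i) v = v → v = 0)
    (hrV : ∀ v : V, r • v = 0 → v = 0) :
    Nat.card V = ∏ k : Fin r, Nat.card (Eig X ζ (k : ℕ)) := by
  classical
  let Θ : (∀ k : Fin r, Eig X ζ (k : ℕ)) → V := fun w => ∑ k : Fin r, (w k : V)
  have hPΘ : ∀ (w : ∀ k : Fin r, Eig X ζ (k : ℕ)) (m : Fin r),
      Pr X ζ r m (Θ w) = r • (w m : V) := by
    intro w m
    show Pr X ζ r m (∑ k : Fin r, (w k : V)) = _
    rw [map_sum]
    have h1 : ∀ k ∈ (Finset.univ : Finset (Fin r)), Pr X ζ r m (w k : V) =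
        if k = m then r • (w m : V) else 0 := by
      intro k _
      rw [Pr_apply_eig hr hζ hXζ hinj m.2 k.2 (w k).2]
      by_cases hkm : k = m
      · subst hkm; simp
      · rw [if_neg hkm, if_neg (fun h => hkm (Fin.ext h))]
    rw [Finset.sum_congr rfl h1, Finset.sum_ite_eq' Finset.univ m (fun _ => r • (w m : V))]
    simp
  have hinjΘ : Function.Injective Θ := by
    intro w w' hww
    funext m
    apply Subtype.ext
    have h1 := hPΘ w m
    have h2 := hPΘ w' m
    rw [hww, h2] at h1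
    have h3 : r • ((w m : V) - (w' m : V)) = 0 := by rw [smul_sub, h1, sub_self]
    exact sub_eq_zero.1 (hrV _ h3)
  have hsurjr : Function.Surjective (fun v : V => r • v) := by
    apply Finite.surjective_of_injective
    intro v v' hvv
    have h3 : r • (v - v') = 0 := by
      rw [smul_sub]; exact sub_eq_zero.2 hvv
    exact sub_eq_zero.1 (hrV _ h3)
  have hsurjΘ : Function.Surjective Θ := by
    intro v
    obtain ⟨v', hv'⟩ := hsurjr v
    refine ⟨fun k => ⟨Pr X ζ r (k : ℕ) v', Pr_mem hr hX hζ hXζ _ _⟩, ?_⟩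
    show ∑ k : Fin r, Pr X ζ r (k : ℕ) v' = v
    rw [Fin.sum_univ_eq_sum_range (fun k => Pr X ζ r k v') r, sum_Pr hr hζ hXζ hinj]
    exact hv'
  rw [← Nat.card_congr (Equiv.ofBijective Θ ⟨hinjΘ, hsurjΘ⟩), Nat.card_pi]

/-- a twisting element permutes the eigenspaces cyclically. -/
lemma card_Eig_succ (hr : 0 < r) (hζ : ζ ^ r = 1) (Y Y' : AddMonoid.End V)
    (hXY : X * Y = Y * ζ * X) (hYζ : Y * ζ = ζ * Y) (hYY' : Y * Y' = 1) (hY'Y : Y' * Y = 1)
    (k : ℕ) : Nat.card (Eig X ζ (k + 1)) = Nat.card (Eig X ζ k) := by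
  have hYc : ∀ n : ℕ, Y * ζ ^ n = ζ ^ n * Y := fun n => ((show Commute Y ζ from hYζ).pow_right n).eq
  have hYinj : Function.Injective Y := by
    intro a b hab
    have := congrArg Y' hab
    rwa [← end_mul_apply, ← end_mul_apply, hY'Y] at this
  have hζinj : Function.Injective ζ := by
    intro a b hab
    have h1 := zeta_mul_xi hr hζ 1
    rw [pow_one, mul_one] at h1
    have h2 : ζ ^ (r - 1) * ζ = 1 := by
      rw [← pow_succ]
      have : r - 1 + 1 = r := by omega
      rw [this, hζ]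
    have := congrArg (ζ ^ (r - 1)) hab
    rwa [← end_mul_apply, ← end_mul_apply, h2] at this
  have hfwd : ∀ u : V, u ∈ Eig X ζ k → Y u ∈ Eig X ζ (k + 1) := by
    intro u hu
    show X (Y u) = (ζ ^ (k + 1)) (Y u)
    have hu' : X u = (ζ ^ k) u := hu
    rw [← end_mul_apply X Y, hXY, end_mul_apply, end_mul_apply, hu', ← end_mul_apply ζ,
      ← pow_succ', ← end_mul_apply Y, hYc, end_mul_apply]
  have hbwd : ∀ w : V, w ∈ Eig X ζ (k + 1) → Y' w ∈ Eig X ζ k := by
    intro w hw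
    show X (Y' w) = (ζ ^ k) (Y' w)
    set u := Y' w with hu
    have hw' : w = Y u := by
      rw [hu, ← end_mul_apply, hYY', end_one_apply]
    have h1 : X (Y u) = (ζ ^ (k + 1)) (Y u) := by rw [← hw']; exact hw
    rw [← end_mul_apply X Y, hXY, end_mul_apply, end_mul_apply, ← end_mul_apply _ Y, ← hYc,
      end_mul_apply] at h1
    have h2 := hYinj h1
    rw [pow_succ', end_mul_apply] at h2
    exact hζinj h2
  apply Nat.card_congr
  exact
    { toFun := fun w => ⟨Y' w.1, hbwd w.1 w.2⟩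
      invFun := fun u => ⟨Y u.1, hfwd u.1 u.2⟩
      left_inv := fun w => by
        apply Subtype.ext
        show Y (Y' w.1) = w.1
        rw [← end_mul_apply, hYY', end_one_apply]
      right_inv := fun u => by
        apply Subtype.ext
        show Y' (Y u.1) = u.1
        rw [← end_mul_apply, hY'Y, end_one_apply] }

/-- **Fixed points of a twisted element of order `r`**: `|C_V(X)| ^ r = |V|`. -/
theorem card_fix_pow [Finite V] (hr : 0 < r) (hX : X ^ r = 1) (hζ : ζ ^ r = 1)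
    (hXζ : X * ζ = ζ * X) (hinj : ∀ i : ℕ, ¬ r ∣ i → ∀ v, (ζ ^ i) v = v → v = 0)
    (hrV : ∀ v : V, r • v = 0 → v = 0) (Y Y' : AddMonoid.End V)
    (hXY : X * Y = Y * ζ * X) (hYζ : Y * ζ = ζ * Y) (hYY' : Y * Y' = 1) (hY'Y : Y' * Y = 1) :
    Nat.card {v : V // X v = v} ^ r = Nat.card V := by
  have h0 : ∀ k : ℕ, Nat.card (Eig X ζ k) = Nat.card {v : V // X v = v} := by
    intro k
    induction k with
    | zero =>
      apply Nat.card_congr
      apply Equiv.subtypeEquivRight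
      intro v
      show X v = (ζ ^ 0) v ↔ X v = v
      rw [pow_zero, end_one_apply]
    | succ k ih => rw [card_Eig_succ hr hζ Y Y' hXY hYζ hYY' hY'Y, ih]
  rw [card_eq_prod hr hX hζ hXζ hinj hrV]
  simp only [h0]
  rw [Finset.prod_const, Finset.card_univ, Fintype.card_fin]

end eigen

end Cfsg.Agent.Lib.Helper22.HupC
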