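import Mathlib
import Cfsg.Agent.Lib.Helper22.HupA
import Cfsg.Agent.Lib.Helper22.HupB
import Cfsg.Agent.Lib.Helper22.HupC

set_option autoImplicit false
set_option linter.unusedSectionVars false
set_option linter.unusedVariables false

namespace Cfsg.Agent.Lib.Helper22.HupD

open Cfsg.Agent.Lib.Helper22.ExtPrimA Cfsg.Agent.Lib.Helper22.NearA
open Cfsg.Agent.Lib.Helper22.HupA Cfsg.Agent.Lib.Helper22.HupB Cfsg.Agent.Lib.Helper22.HupC
open scoped commutatorElement

/-- vector-valued independence of characters. -/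
lemma dedekind_vec {K M W ι : Type*} [Field K] [Monoid M] [AddCommGroup W] [Module K W]
    [Fintype ι] (χ : ι → M →* K) (hχ : Function.Injective χ) (w : ι → W)
    (h : ∀ y : M, ∑ i, χ i y • w i = 0) : ∀ i, w i = 0 := by
  intro i₀
  by_contra hne
  obtain ⟨φ, hφ⟩ : ∃ φ : Module.Dual K W, φ (w i₀) ≠ 0 := by
    by_contra hcon
    push Not at hcon
    exact hne ((Module.forall_dual_apply_eq_zero_iff K (w i₀)).1 hcon)
  have hli : LinearIndependent K (fun i => (χ i : M → K)) :=
    (linearIndependent_monoidHom M K).comp χ hχ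
  rw [Fintype.linearIndependent_iff] at hli
  have := hli (fun i => φ (w i)) (by
    funext y
    simp only [Finset.sum_apply, Pi.smul_apply, smul_eq_mul, Pi.zero_apply]
    have := congrArg φ (h y)
    rw [map_sum, map_zero] at this
    simp only [map_smul, smul_eq_mul] at this
    rw [← this]
    apply Finset.sum_congr rfl
    intro i _
    exact mul_comm _ _)
  exact hφ (this i₀)

variable {V : Type*} [AddCommGroup V] [Finite V] {G : Type*} [Group G] [Finite G]
variable {ρ : G →* AddMonoid.End V} {q : ℕ} {A E : Subgroup G}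

/-- **Dimension bound**: `|E : A| ≤ d²`. -/
theorem card_E_le (tr : Tr ρ q) (c : Cfg A E) :
    Nat.card E ≤ Nat.card A * (Module.finrank (ringR ρ A) V) ^ 2 := by
  classical
  have hAn := c.A_normal
  have hfinK : Finite (ringR ρ A) := finite_ringR
  let _ : Field (ringR ρ A) := tr.field c.A_normal c.A_comm
  obtain ⟨v₀, hv₀⟩ := tr.nontriv
  -- elements of `E` as `K`-linear maps
  have hcommK : ∀ x ∈ E, ∀ r ∈ ringR ρ A, ρ x * r = r * ρ x := by
    intro x hx r hr
    have hxC := c.E_le_C hx
    rw [Subgroup.mem_centralizer_iff] at hxC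
    exact commute_ring hxC hr
  let lin : E → (V →ₗ[ringR ρ A] V) := fun x =>
    { toFun := fun v => ρ x.1 v
      map_add' := fun v w => map_add _ v w
      map_smul' := fun k v => by
        show ρ x.1 (k.1 v) = k.1 (ρ x.1 v)
        have := congrArg (fun f : AddMonoid.End V => f v) (hcommK x.1 x.2 k.1 k.2)
        exact this }
  have hlin_apply : ∀ (x : E) (v : V), lin x v = ρ x.1 v := fun x v => rfl
  have hlin_mul : ∀ x y : E, lin (x * y) = lin x * lin y := by
    intro x y
    apply LinearMap.ext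
    intro v
    show ρ (x.1 * y.1) v = ρ x.1 (ρ y.1 v)
    rw [map_mul]; rfl
  have hlin_one : lin 1 = 1 := by
    apply LinearMap.ext
    intro v
    show ρ 1 v = v
    rw [map_one]; rfl
  -- coset representatives
  let A' : Subgroup E := A.subgroupOf E
  let ι := E ⧸ A'
  have : Fintype ι := Fintype.ofFinite ι
  let rep : ι → E := fun i => Quotient.out i
  have hrep : ∀ i : ι, (QuotientGroup.mk (rep i) : ι) = i := fun i => Quotient.out_eq i
  -- the characters
  let χ : ι → E →* ringR ρ A := fun i =>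
    { toFun := fun y => ⟨ρ ⁅(y : G), ((rep i : E) : G)⁆, rho_mem (c.comm_mem y.2 (rep i).2)⟩
      map_one' := by
        apply Subtype.ext
        show ρ ⁅((1 : E) : G), ((rep i : E) : G)⁆ = 1
        rw [Subgroup.coe_one, commutatorElement_one_left, map_one]
      map_mul' := fun y y' => by
        apply Subtype.ext
        show ρ ⁅((y * y' : E) : G), ((rep i : E) : G)⁆ = ρ ⁅(y : G), _⁆ * ρ ⁅(y' : G), _⁆
        rw [Subgroup.coe_mul, c.comm_mul_left y.2 y'.2 (rep i).2, map_mul] }
  have hχ_apply : ∀ i (y : E), ((χ i y : ringR ρ A) : AddMonoid.End V) =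
      ρ ⁅(y : G), ((rep i : E) : G)⁆ := fun i y => rfl
  have hχinj : Function.Injective χ := by
    intro i j hij
    rw [← hrep i, ← hrep j, QuotientGroup.eq]
    show ((rep i)⁻¹ * rep j : E).1 ∈ A
    apply c.cent_E
    rw [Subgroup.mem_centralizer_iff]
    intro y hy
    have h1 := congrArg (fun f : E →* ringR ρ A => ((f ⟨y, hy⟩ : ringR ρ A) : AddMonoid.End V)) hij
    simp only [hχ_apply] at h1
    have h2 : ⁅y, ((rep i : E) : G)⁆ = ⁅y, ((rep j : E) : G)⁆ := tr.inj h1
    have h3 : ⁅y, (((rep i)⁻¹ * rep j : E) : G)⁆ = 1 := by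
      rw [Subgroup.coe_mul, Subgroup.coe_inv,
        c.comm_mul_right hy (E.inv_mem (rep i).2) (rep j).2, ← h2,
        ← c.comm_mul_right hy (E.inv_mem (rep i).2) (rep i).2, inv_mul_cancel,
        commutatorElement_one_right]
    rw [commutatorElement_eq_one_iff_mul_comm] at h3
    exact h3
  -- conjugation
  have hconj : ∀ (y : E) (i : ι), lin y * lin (rep i) * lin y⁻¹ = χ i y • lin (rep i) := by
    intro y i
    apply LinearMap.ext
    intro v
    show ρ y.1 (ρ (rep i).1 (ρ (y⁻¹ : E).1 v)) = (χ i y).1 (ρ (rep i).1 v)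
    rw [hχ_apply]
    have h1 : y.1 * (rep i).1 * (y.1)⁻¹ = ⁅y.1, (rep i).1⁆ * (rep i).1 := c.conj_eq _ _
    have h2 : ρ y.1 (ρ (rep i).1 (ρ (y⁻¹ : E).1 v)) = ρ (y.1 * (rep i).1 * (y.1)⁻¹) v := by
      rw [map_mul, map_mul]; rfl
    rw [h2, h1, map_mul]; rfl
  -- linear independence
  have hli : LinearIndependent (ringR ρ A) (fun i => lin (rep i)) := by
    rw [Fintype.linearIndependent_iff]
    intro g hg
    have hkey : ∀ y : E, ∑ i, χ i y • (g i • lin (rep i)) = 0 := by
      intro y
      have h1 : lin y * (∑ i, g i • lin (rep i)) * lin y⁻¹ = 0 := by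
        rw [hg, mul_zero, zero_mul]
      rw [Finset.mul_sum, Finset.sum_mul] at h1
      rw [← h1]
      apply Finset.sum_congr rfl
      intro i _
      rw [mul_smul_comm, smul_mul_assoc, hconj, smul_comm]
    have h0 := dedekind_vec χ hχinj (fun i => g i • lin (rep i)) hkey
    intro i
    by_contra hgi
    have h1 := h0 i
    have h2 : lin (rep i) = 0 := by
      rcases smul_eq_zero.1 h1 with h | h
      · exact absurd h hgi
      · exact h
    have h3 : ρ (rep i).1 v₀ = 0 := by
      rw [← hlin_apply, h2]; rfl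
    apply hv₀
    have h4 := congrArg (ρ ((rep i).1)⁻¹) h3
    rwa [rho_inv_apply, map_zero] at h4
  have hfd : Module.Finite (ringR ρ A) V := Module.Finite.of_finite
  have hle := hli.fintype_card_le_finrank
  rw [Module.finrank_linearMap, ← Nat.card_eq_fintype_card] at hle
  have hidx : Nat.card E = Nat.card ι * Nat.card A' := Subgroup.card_eq_card_quotient_mul_card_subgroup A'
  have hA' : Nat.card A' = Nat.card A :=
    Nat.card_congr (Subgroup.subgroupOfEquivOfLe c.A_le_E).toEquiv
  rw [hidx, hA', mul_comm, pow_two]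
  exact Nat.mul_le_mul_left _ hle

/-- coprime torsion kills a vector. -/
lemma eq_zero_of_coprime_smul {r q : ℕ} (hrq : Nat.Coprime r q) {v : V} (hr : r • v = 0)
    (hq : q • v = 0) : v = 0 := by
  have h1 := addOrderOf_dvd_of_nsmul_eq_zero hr
  have h2 := addOrderOf_dvd_of_nsmul_eq_zero hq
  have h3 : addOrderOf v ∣ 1 := by
    have := Nat.dvd_gcd h1 h2
    rwa [hrq] at this
  exact AddMonoid.addOrderOf_eq_one_iff.1 (Nat.dvd_one.1 h3)

/-- **Fixed points of a noncentral element of prime order** of `E`. -/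
theorem fix_pow (tr : Tr ρ q) (c : Cfg A E) {x : G} (hx : x ∈ E) (hxA : x ∉ A) {r : ℕ}
    (hr : r.Prime) (hxr : x ^ r = 1) :
    Nat.card {v : V // ρ x v = v} ^ r = Nat.card V := by
  obtain ⟨y, hy, hz1⟩ := c.exists_noncomm hx hxA
  set z := ⁅x, y⁆ with hz
  have hzA : z ∈ A := c.comm_mem hx hy
  have hzr : z ^ r = 1 := by
    rw [hz, ← c.comm_pow_left hx hy, hxr, commutatorElement_one_left]
  have : Fact r.Prime := ⟨hr⟩
  have hzo : orderOf z = r := orderOf_eq_prime hzr hz1
  -- `r ≠ q`
  obtain ⟨a, ha, -, -, -, -, hAdvd, -⟩ := tr.field_data c.A_normal c.A_comm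
  have hrA : r ∣ Nat.card A := by
    have h1 : orderOf (⟨z, hzA⟩ : A) = r := by rw [← hzo, ← Subgroup.orderOf_coe]
    rw [← h1]
    exact orderOf_dvd_natCard _
  have hrq : Nat.Coprime r q := by
    rw [Nat.coprime_primes hr tr.hq]
    intro hrq
    have h1 : q ∣ q ^ a - 1 := by
      have := hrA.trans hAdvd
      rwa [hrq] at this
    have h2 : q ∣ q ^ a := dvd_pow_self q (by omega)
    have h3 : 1 ≤ q ^ a := Nat.one_le_pow _ _ tr.hq.pos
    have h4 : q ∣ q ^ a - (q ^ a - 1) := Nat.dvd_sub h2 h1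
    have h5 : q ^ a - (q ^ a - 1) = 1 := by omega
    rw [h5] at h4
    exact tr.hq.one_lt.ne' (Nat.dvd_one.1 h4)
  have hzy : z * y = y * z := c.A_central hzA hy
  have hzx : z * x = x * z := c.A_central hzA hx
  apply card_fix_pow (X := ρ x) (ζ := ρ z) hr.pos
  · rw [← map_pow, hxr, map_one]
  · rw [← map_pow, hzr, map_one]
  · rw [← map_mul, ← map_mul, hzx]
  · intro i hi v hv
    by_contra hv0
    rw [← map_pow] at hv
    have h1 := tr.semireg c.A_normal c.A_comm (A.pow_mem hzA i) hv0 hv
    apply hi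
    rw [← hzo]
    exact orderOf_dvd_of_pow_eq_one h1
  · intro v hv
    exact eq_zero_of_coprime_smul hrq hv (tr.exp v)
  · show ρ x * ρ y = ρ y * ρ z * ρ x
    rw [← map_mul, ← map_mul, ← map_mul]
    congr 1
    rw [← hzy, hz, commutatorElement_def]
    group
  · show ρ y * ρ z = ρ z * ρ y
    rw [← map_mul, ← map_mul, hzy]
  · exact rho_mul_inv y
  · exact rho_inv_mul y

end Cfsg.Agent.Lib.Helper22.HupD
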