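import Mathlib
import Cfsg.Agent.Lib.Helper22.HupD

set_option autoImplicit false
set_option linter.unusedSectionVars false
set_option linter.unusedVariables false

namespace Cfsg.Agent.Lib.Helper22.HupE

open Cfsg.Agent.Lib.Helper22.ExtPrimA Cfsg.Agent.Lib.Helper22.NearA
open Cfsg.Agent.Lib.Helper22.HupA Cfsg.Agent.Lib.Helper22.HupB Cfsg.Agent.Lib.Helper22.HupD
open scoped commutatorElement
open Finset

variable {V : Type*} [AddCommGroup V] [Finite V] {G : Type*} [Group G] [Finite G]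
variable {ρ : G →* AddMonoid.End V} {q : ℕ} {A E : Subgroup G}

lemma natCard_subtype {α : Type*} [Fintype α] (p : α → Prop) [DecidablePred p] :
    Nat.card {x // p x} = (univ.filter p).card := by
  rw [Nat.card_eq_fintype_card, Fintype.card_subtype]

omit [Finite V] [Finite G] in
lemma rho_pow_fix {x : G} {v : V} (h : ρ x v = v) (j : ℕ) : ρ (x ^ j) v = v := by
  induction j with
  | zero => rw [pow_zero, map_one]; rfl
  | succ j ih =>
    rw [pow_succ, map_mul]
    show ρ (x ^ j) (ρ x v) = v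
    rw [h, ih]

/-- the number of noncentral elements of order dividing `r` in `E`. -/
lemma card_S_mul_le [Fintype G] [DecidableEq G] (c : Cfg A E) (hcyc : IsCyclic A) {r : ℕ}
    (hr : 0 < r) [DecidablePred (· ∈ A)] [DecidablePred (· ∈ E)] :
    (univ.filter (fun x : G => x ∈ E ∧ x ∉ A ∧ x ^ r = 1)).card * Nat.card A ≤
      r * (Nat.card E - Nat.card A) := by
  classical
  set S := univ.filter (fun x : G => x ∈ E ∧ x ∉ A ∧ x ^ r = 1) with hS
  set Af := univ.filter (fun x : G => x ∈ A) with hAf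
  set Ef := univ.filter (fun x : G => x ∈ E) with hEf
  set T := univ.filter (fun x : G => x ∈ E ∧ x ∉ A) with hT
  have hAcard : Nat.card A = Af.card := natCard_subtype (fun x : G => x ∈ A)
  have hEcard : Nat.card E = Ef.card := natCard_subtype (fun x : G => x ∈ E)
  have hTcard : T.card = Nat.card E - Nat.card A := by
    have h1 : T = Ef \ Af := by
      ext x
      simp [hT, hEf, hAf]
    have h2 : Af ⊆ Ef := by
      intro x hx
      rw [hAf, mem_filter] at hx
      rw [hEf, mem_filter]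
      exact ⟨mem_univ _, c.A_le_E hx.2⟩
    rw [h1, card_sdiff_of_subset h2, hEcard, hAcard]
  have hmaps : ∀ p ∈ S ×ˢ Af, p.1 * p.2 ∈ T := by
    intro p hp
    rw [mem_product, hS, hAf, mem_filter, mem_filter] at hp
    rw [hT, mem_filter]
    refine ⟨mem_univ _, E.mul_mem hp.1.2.1 (c.A_le_E hp.2.2), ?_⟩
    intro h
    apply hp.1.2.2.1
    have := A.mul_mem h (A.inv_mem hp.2.2)
    rwa [mul_inv_cancel_right] at this
  have hfib : ∀ g ∈ T, ((S ×ˢ Af).filter (fun p => p.1 * p.2 = g)).card ≤ r := by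
    intro g hg
    by_cases hne : ((S ×ˢ Af).filter (fun p => p.1 * p.2 = g)).Nonempty
    · obtain ⟨p₀, hp₀⟩ := hne
      rw [mem_filter, mem_product, hS, hAf, mem_filter, mem_filter] at hp₀
      obtain ⟨⟨⟨-, hs₀E, hs₀A, hs₀r⟩, -, ha₀⟩, hp₀g⟩ := hp₀
      have hle := IsCyclic.card_pow_eq_one_le (α := A) hr
      refine le_trans ?_ hle
      have hmem : ∀ p ∈ (S ×ˢ Af).filter (fun p => p.1 * p.2 = g), p₀.1⁻¹ * p.1 ∈ A := by
        intro p hp
        rw [mem_filter, mem_product, hS, hAf, mem_filter, mem_filter] at hp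
        obtain ⟨⟨⟨-, hsE, hsA, hsr⟩, -, ha⟩, hpg⟩ := hp
        have : p₀.1⁻¹ * p.1 = p₀.2 * p.2⁻¹ := by
          rw [inv_mul_eq_iff_eq_mul, ← mul_assoc, hp₀g, ← hpg, mul_inv_cancel_right]
        rw [this]
        exact A.mul_mem ha₀ (A.inv_mem ha)
      apply Finset.card_le_card_of_injOn
        (fun p => if h : p₀.1⁻¹ * p.1 ∈ A then (⟨p₀.1⁻¹ * p.1, h⟩ : A) else 1)
      · intro p hp
        have hpA := hmem p hp
        rw [Finset.mem_coe, mem_filter, mem_product, hS, hAf, mem_filter, mem_filter] at hp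
        obtain ⟨⟨⟨-, hsE, hsA, hsr⟩, -, ha⟩, hpg⟩ := hp
        rw [Finset.mem_coe, mem_filter]
        refine ⟨mem_univ _, ?_⟩
        show (if h : p₀.1⁻¹ * p.1 ∈ A then (⟨p₀.1⁻¹ * p.1, h⟩ : A) else 1) ^ r = 1
        rw [dif_pos hpA]
        apply Subtype.ext
        show (p₀.1⁻¹ * p.1) ^ r = 1
        have hcomm : Commute p₀.1 (p₀.1⁻¹ * p.1) := (c.A_central hpA hs₀E).symm
        have h1 : p.1 = p₀.1 * (p₀.1⁻¹ * p.1) := by rw [mul_inv_cancel_left]
        have h2 : p.1 ^ r = p₀.1 ^ r * (p₀.1⁻¹ * p.1) ^ r := by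
          rw [← hcomm.mul_pow, ← h1]
        rw [hsr, hs₀r, one_mul] at h2
        exact h2.symm
      · intro p hp p' hp' hpp
        have hpA := hmem p hp
        have hpA' := hmem p' hp'
        simp only [dif_pos hpA, dif_pos hpA'] at hpp
        have h1 : p₀.1⁻¹ * p.1 = p₀.1⁻¹ * p'.1 := congrArg Subtype.val hpp
        have h2 : p.1 = p'.1 := mul_left_cancel h1
        rw [Finset.mem_coe, mem_filter] at hp hp'
        have h3 : p.1 * p.2 = p'.1 * p'.2 := by rw [hp.2, hp'.2]
        rw [h2] at h3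
        exact Prod.ext h2 (mul_left_cancel h3)
    · rw [not_nonempty_iff_eq_empty] at hne
      rw [hne, card_empty]
      exact Nat.zero_le _
  have h1 := Finset.card_le_mul_card_image_of_maps_to hmaps r hfib
  rw [card_product, ← hAcard, hTcard] at h1
  exact h1

/-- **The counting inequality** in the non-semiregular case. -/
theorem count_ineq (tr : Tr ρ q) (c : Cfg A E) {x₀ : G} (hx₀ : x₀ ∈ E) {r : ℕ} (hr : r.Prime)
    (hor : orderOf x₀ = r) {v₀ : V} (hv₀ : v₀ ≠ 0) (hfix : ρ x₀ v₀ = v₀) :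
    ∃ W : ℕ, W ^ r = Nat.card V ∧
      (Nat.card V - 1) * (r - 1) * Nat.card A ≤ r * (Nat.card E - Nat.card A) * (W - 1) := by
  classical
  have := Fintype.ofFinite G
  have := Fintype.ofFinite V
  obtain ⟨a, ha, -, -, -, hcyc, -, -⟩ := tr.field_data c.A_normal c.A_comm
  have hsemi : ∀ z ∈ A, ∀ v : V, v ≠ 0 → ρ z v = v → z = 1 :=
    fun z hz v hv h => tr.semireg c.A_normal c.A_comm hz hv h
  have hx₀1 : x₀ ≠ 1 := by
    intro h
    rw [h, orderOf_one] at hor
    exact hr.one_lt.ne hor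
  have hx₀A : x₀ ∉ A := fun h => hx₀1 (hsemi x₀ h v₀ hv₀ hfix)
  have hx₀r : x₀ ^ r = 1 := by rw [← hor]; exact pow_orderOf_eq_one x₀
  set W := Nat.card {v : V // ρ x₀ v = v} with hW
  have hWr : W ^ r = Nat.card V := fix_pow tr c hx₀ hx₀A hr hx₀r
  refine ⟨W, hWr, ?_⟩
  set S := univ.filter (fun x : G => x ∈ E ∧ x ∉ A ∧ x ^ r = 1) with hS
  set Vne := univ.filter (fun v : V => v ≠ 0) with hVne
  have hVne_card : Vne.card = Nat.card V - 1 := by
    rw [hVne, Finset.filter_ne' univ (0 : V), card_erase_of_mem (mem_univ _), card_univ,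
      Nat.card_eq_fintype_card]
  have hdc := Finset.sum_card_bipartiteAbove_eq_sum_card_bipartiteBelow
    (s := Vne) (t := S) (fun (v : V) (x : G) => ρ x v = v)
  -- lower bound
  have hlow : ∀ v ∈ Vne, r - 1 ≤ (S.bipartiteAbove (fun (v : V) (x : G) => ρ x v = v) v).card := by
    intro v hv
    rw [hVne, mem_filter] at hv
    obtain ⟨g, hg⟩ := tr.trans v₀ v hv₀ hv.2
    set x' := g * x₀ * g⁻¹ with hx'
    have hx'E : x' ∈ E := c.E_normal.conj_mem x₀ hx₀ g
    have hx'o : orderOf x' = r := by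
      rw [← hor]
      exact (MulAut.conj g).orderOf_eq x₀
    have hx'fix : ρ x' v = v := by
      rw [hx', map_mul, map_mul, ← hg]
      show ρ g (ρ x₀ (ρ g⁻¹ (ρ g v₀))) = ρ g v₀
      rw [rho_inv_apply, hfix]
    have hcard : (Finset.Icc 1 (r - 1)).card = r - 1 := by simp
    rw [← hcard]
    apply Finset.card_le_card_of_injOn (fun j => x' ^ j)
    · intro j hj
      rw [Finset.mem_coe, Finset.mem_Icc] at hj
      rw [Finset.mem_coe, Finset.bipartiteAbove, mem_filter, hS, mem_filter]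
      have hjfix := rho_pow_fix hx'fix j
      have hj1 : x' ^ j ≠ 1 := pow_ne_one_of_lt_orderOf (by omega) (by rw [hx'o]; omega)
      refine ⟨⟨mem_univ _, E.pow_mem hx'E j, fun h => hj1 (hsemi _ h v hv.2 hjfix), ?_⟩, hjfix⟩
      rw [← pow_mul, mul_comm, pow_mul, ← hx'o, pow_orderOf_eq_one, one_pow]
    · intro j hj j' hj' hjj
      rw [Finset.mem_coe, Finset.mem_Icc] at hj hj'
      apply pow_injOn_Iio_orderOf (x := x')
      · rw [Set.mem_Iio, hx'o]; omega
      · rw [Set.mem_Iio, hx'o]; omega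
      · exact hjj
  -- upper bound
  have hup : ∀ x ∈ S, (Vne.bipartiteBelow (fun (v : V) (x : G) => ρ x v = v) x).card = W - 1 := by
    intro x hx
    rw [hS, mem_filter] at hx
    obtain ⟨-, hxE, hxA, hxr⟩ := hx
    have h1 := fix_pow tr c hxE hxA hr hxr
    rw [← hWr] at h1
    have h2 : Nat.card {v : V // ρ x v = v} = W := Nat.pow_left_injective hr.ne_zero h1
    rw [natCard_subtype] at h2
    rw [← h2, Finset.bipartiteBelow, hVne, Finset.filter_filter]
    have h3 : univ.filter (fun v : V => v ≠ 0 ∧ ρ x v = v) =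
        (univ.filter (fun v : V => ρ x v = v)).erase 0 := by
      ext v
      simp
    rw [h3, card_erase_of_mem]
    rw [mem_filter]
    exact ⟨mem_univ _, map_zero _⟩
  have h1 : Vne.card * (r - 1) ≤ S.card * (W - 1) := by
    calc Vne.card * (r - 1) = ∑ v ∈ Vne, (r - 1) := by rw [sum_const, smul_eq_mul]
      _ ≤ ∑ v ∈ Vne, (S.bipartiteAbove (fun (v : V) (x : G) => ρ x v = v) v).card :=
          sum_le_sum hlow
      _ = ∑ x ∈ S, (Vne.bipartiteBelow (fun (v : V) (x : G) => ρ x v = v) x).card := hdc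
      _ = ∑ x ∈ S, (W - 1) := sum_congr rfl hup
      _ = S.card * (W - 1) := by rw [sum_const, smul_eq_mul]
  have h2 := card_S_mul_le (r := r) c hcyc hr.pos
  rw [← hS] at h2
  rw [hVne_card] at h1
  calc (Nat.card V - 1) * (r - 1) * Nat.card A ≤ S.card * (W - 1) * Nat.card A :=
        Nat.mul_le_mul_right _ h1
    _ = S.card * Nat.card A * (W - 1) := by ring
    _ ≤ r * (Nat.card E - Nat.card A) * (W - 1) := Nat.mul_le_mul_right _ h2

end Cfsg.Agent.Lib.Helper22.HupE
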