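import Mathlib
import Cfsg.Agent.Lib.Helper22.HupD

set_option autoImplicit false
set_option linter.unusedSectionVars false
set_option linter.unusedVariables false

namespace Cfsg.Agent.Lib.Helper22.HupF

open Cfsg.Agent.Lib.Helper22.ExtPrimA Cfsg.Agent.Lib.Helper22.NearA
open Cfsg.Agent.Lib.Helper22.HupA Cfsg.Agent.Lib.Helper22.HupB Cfsg.Agent.Lib.Helper22.HupC
open Cfsg.Agent.Lib.Helper22.HupD
open scoped commutatorElement
open Finset

variable {V : Type*} [AddCommGroup V] [Finite V] {G : Type*} [Group G] [Finite G]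
variable {ρ : G →* AddMonoid.End V} {q : ℕ} {A E : Subgroup G}

/-- a fixed-point-free element of order dividing `ℓ` has vanishing "trace". -/
lemma geom_sum_eq_zero (hsr : ∀ x ∈ E, ∀ v : V, v ≠ 0 → ρ x v = v → x = 1) {g : G} (hg : g ∈ E)
    (hg1 : g ≠ 1) {ℓ : ℕ} (hgl : g ^ ℓ = 1) : ∑ i ∈ range ℓ, (ρ g) ^ i = 0 := by
  ext v
  by_contra hne
  apply hg1
  apply hsr g hg _ hne
  have h1 := mul_geom_sum (ρ g) ℓ
  rw [← map_pow, hgl, map_one, sub_self, sub_mul, one_mul, sub_eq_zero] at h1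
  have := congrArg (fun f : AddMonoid.End V => f v) h1
  exact this

/-- no element of order `q` acts semiregularly. -/
lemma no_q_torsion (tr : Tr ρ q) (hsr : ∀ x ∈ E, ∀ v : V, v ≠ 0 → ρ x v = v → x = 1) {g : G}
    (hg : g ∈ E) (hgq : g ^ q = 1) : g = 1 := by
  by_contra hg1
  have h0 := geom_sum_eq_zero hsr hg hg1 hgq
  -- `(ρ g - 1)^(q-1) = ∑ ...`; simpler: use a `q`-group fixed point argument
  have hq := tr.hq
  have : Fact q.Prime := ⟨hq⟩
  have hord : orderOf g = q := orderOf_eq_prime hgq hg1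
  let φ : Subgroup.zpowers g →* AddMonoid.End V := ρ.comp (Subgroup.zpowers g).subtype
  let _ : MulAction (Subgroup.zpowers g) V := MulAction.compHom V φ
  have hsmul : ∀ (k : Subgroup.zpowers g) (v : V), k • v = ρ k.1 v := fun k v => rfl
  have hP : IsPGroup q (Subgroup.zpowers g) :=
    IsPGroup.of_card (n := 1) (by rw [Nat.card_zpowers, hord, pow_one])
  have hmod := hP.card_modEq_card_fixedPoints V
  obtain ⟨a, ha, -, hV, hd, -, -, -⟩ := tr.field_data (Z := (⊥ : Subgroup G)) inferInstance (by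
    intro x hx y hy
    rw [Subgroup.mem_bot] at hx hy
    rw [hx, hy])
  have hqV : q ∣ Nat.card V := by
    rw [hV, ← pow_mul]
    exact dvd_pow_self q (by positivity)
  have hqF : q ∣ Nat.card (MulAction.fixedPoints (Subgroup.zpowers g) V) :=
    (Nat.modEq_zero_iff_dvd.1 ((hmod.symm).trans (Nat.modEq_zero_iff_dvd.2 hqV)))
  have hfin : Finite (MulAction.fixedPoints (Subgroup.zpowers g) V) := inferInstance
  have h2 : 1 < Nat.card (MulAction.fixedPoints (Subgroup.zpowers g) V) := by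
    have hpos : 0 < Nat.card (MulAction.fixedPoints (Subgroup.zpowers g) V) := by
      have : Nonempty (MulAction.fixedPoints (Subgroup.zpowers g) V) :=
        ⟨⟨0, fun k => by rw [hsmul, map_zero]⟩⟩
      exact Nat.card_pos
    have := Nat.le_of_dvd hpos hqF
    have := hq.two_le
    omega
  rw [Finite.one_lt_card_iff_nontrivial] at h2
  obtain ⟨v, w, hvw⟩ := h2
  have hex : ∃ u : V, u ≠ 0 ∧ ρ g u = u := by
    by_cases hv : v.1 = 0
    · refine ⟨w.1, ?_, ?_⟩
      · intro hw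
        apply hvw
        apply Subtype.ext
        rw [hv, hw]
      · have := w.2 ⟨g, Subgroup.mem_zpowers g⟩
        rwa [hsmul] at this
    · refine ⟨v.1, hv, ?_⟩
      have := v.2 ⟨g, Subgroup.mem_zpowers g⟩
      rwa [hsmul] at this
  obtain ⟨u, hu, hfix⟩ := hex
  exact hg1 (hsr g hg u hu hfix)

/-- **Uniqueness of subgroups of prime order** in a semiregular group: two commuting elements of
prime order `ℓ` generate the same subgroup. -/
lemma mem_zpowers_of_commute (tr : Tr ρ q)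
    (hsr : ∀ x ∈ E, ∀ v : V, v ≠ 0 → ρ x v = v → x = 1) {a b : G} (ha : a ∈ E) (hb : b ∈ E)
    {ℓ : ℕ} (hℓ : ℓ.Prime) (hal : a ^ ℓ = 1) (hbl : b ^ ℓ = 1) (hab : a * b = b * a)
    (ha1 : a ≠ 1) : b ∈ Subgroup.zpowers a := by
  by_contra hbz
  have : Fact ℓ.Prime := ⟨hℓ⟩
  have hb1 : b ≠ 1 := fun h => hbz (h ▸ Subgroup.one_mem _)
  have hbo : orderOf b = ℓ := orderOf_eq_prime hbl hb1
  have hℓq : Nat.Coprime ℓ q := by
    rw [Nat.coprime_primes hℓ tr.hq]
    intro h
    rw [h] at hal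
    exact ha1 (no_q_torsion tr hsr ha hal)
  have hcomm : Commute a b := hab
  -- `a * b ^ k ≠ 1`
  have hne : ∀ k : ℕ, a * b ^ k ≠ 1 := by
    intro k hk
    have hak : a = (b ^ k)⁻¹ := eq_inv_of_mul_eq_one_left hk
    by_cases hdk : ℓ ∣ k
    · obtain ⟨m, rfl⟩ := hdk
      rw [pow_mul, hbl, one_pow, inv_one] at hak
      exact ha1 hak
    · have hcop : Nat.Coprime k (orderOf b) := by
        rw [hbo]
        exact ((Nat.Prime.coprime_iff_not_dvd hℓ).2 hdk).symm
      obtain ⟨m, hm⟩ := exists_pow_eq_self_of_coprime hcop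
      apply hbz
      rw [← hm]
      have : b ^ k = a⁻¹ := by rw [hak, inv_inv]
      rw [this]
      exact Subgroup.pow_mem _ (Subgroup.inv_mem _ (Subgroup.mem_zpowers a)) m
  have hS : ∀ k : ℕ, ∑ i ∈ range ℓ, (ρ (a * b ^ k)) ^ i = 0 := by
    intro k
    apply geom_sum_eq_zero hsr (E.mul_mem ha (E.pow_mem hb k)) (hne k)
    rw [(hcomm.pow_right k).mul_pow, hal, one_mul, ← pow_mul, mul_comm, pow_mul, hbl, one_pow]
  have hT : ∀ i : ℕ, ¬ ℓ ∣ i → ∑ k ∈ range ℓ, (ρ (b ^ i)) ^ k = 0 := by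
    intro i hi
    apply geom_sum_eq_zero hsr (E.pow_mem hb i)
    · intro h
      apply hi
      rw [← hbo]
      exact orderOf_dvd_of_pow_eq_one h
    · rw [← pow_mul, mul_comm, pow_mul, hbl, one_pow]
  have hexp : ∀ k i : ℕ, (ρ (a * b ^ k)) ^ i = (ρ a) ^ i * (ρ (b ^ i)) ^ k := by
    intro k i
    rw [← map_pow, ← map_pow, ← map_pow, ← map_mul, (hcomm.pow_right k).mul_pow, ← pow_mul,
      ← pow_mul, mul_comm k i]
  have htot : ∑ k ∈ range ℓ, ∑ i ∈ range ℓ, (ρ (a * b ^ k)) ^ i = 0 :=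
    Finset.sum_eq_zero (fun k _ => hS k)
  rw [Finset.sum_comm] at htot
  have h1 : ∀ i ∈ range ℓ, ∑ k ∈ range ℓ, (ρ (a * b ^ k)) ^ i =
      if i = 0 then (ℓ : AddMonoid.End V) else 0 := by
    intro i hi
    rw [Finset.mem_range] at hi
    simp only [hexp]
    rw [← Finset.mul_sum]
    split_ifs with hi0
    · subst hi0
      simp
    · rw [hT i, mul_zero]
      intro hd
      exact hi0 (Nat.eq_zero_of_dvd_of_lt hd hi)
  rw [Finset.sum_congr rfl h1, Finset.sum_ite_eq' (range ℓ) 0 (fun _ => (ℓ : AddMonoid.End V)),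
    if_pos (Finset.mem_range.2 hℓ.pos)] at htot
  obtain ⟨v, hv⟩ := tr.nontriv
  apply hv
  apply eq_zero_of_coprime_smul hℓq _ (tr.exp v)
  have := congrArg (fun f : AddMonoid.End V => f v) htot
  simpa using this

/-- in the semiregular case, elements of prime order dividing `|A|` lie in `A`. -/
lemma mem_A_of_pow_eq_one (tr : Tr ρ q) (c : Cfg A E)
    (hsr : ∀ x ∈ E, ∀ v : V, v ≠ 0 → ρ x v = v → x = 1) {ℓ : ℕ} (hℓ : ℓ.Prime)
    (hℓA : ℓ ∣ Nat.card A) {w : G} (hw : w ∈ E) (hwl : w ^ ℓ = 1) : w ∈ A := by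
  have : Fact ℓ.Prime := ⟨hℓ⟩
  obtain ⟨a, ha⟩ := exists_prime_orderOf_dvd_card' ℓ hℓA
  have hao : orderOf (a : G) = ℓ := by rw [Subgroup.orderOf_coe]; exact ha
  have ha1 : (a : G) ≠ 1 := by
    intro h
    rw [h, orderOf_one] at hao
    exact hℓ.one_lt.ne hao
  have hal : (a : G) ^ ℓ = 1 := by rw [← hao]; exact pow_orderOf_eq_one _
  have := mem_zpowers_of_commute tr hsr (c.A_le_E a.2) hw hℓ hal hwl (c.A_central a.2 hw) ha1
  exact (Subgroup.zpowers_le.2 a.2) this

end Cfsg.Agent.Lib.Helper22.HupF
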