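import Mathlib
import Cfsg.Agent.Lib.Helper22.HupB

set_option autoImplicit false
set_option linter.unusedSectionVars false
set_option linter.unusedVariables false

namespace Cfsg.Agent.Lib.Helper22.HupG

open Cfsg.Agent.Lib.Helper22.HupB
open scoped commutatorElement
open Finset

/-- in a cyclic group, modulo `r`-th powers everything is a power of a given non-`r`-th power. -/
lemma cyclic_pow_decomp {A : Type*} [Group A] [IsCyclic A] {r : ℕ} (hr : r.Prime) {a₁ : A}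
    (a₂ : A) (h : ∀ b : A, a₁ ≠ b ^ r) : ∃ (i : ℕ) (b : A), a₂ = a₁ ^ i * b ^ r := by
  have : Fact r.Prime := ⟨hr⟩
  obtain ⟨g, hg⟩ := IsCyclic.exists_generator (α := A)
  obtain ⟨m₁, hm₁⟩ := Subgroup.mem_zpowers_iff.1 (hg a₁)
  obtain ⟨m₂, hm₂⟩ := Subgroup.mem_zpowers_iff.1 (hg a₂)
  have hm₁r : ((m₁ : ℤ) : ZMod r) ≠ 0 := by
    intro h0
    rw [ZMod.intCast_zmod_eq_zero_iff_dvd] at h0
    obtain ⟨t, ht⟩ := h0
    apply h (g ^ t)
    rw [← hm₁, ht, mul_comm, zpow_mul, zpow_natCast]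
  set i := ((m₂ : ZMod r) * ((m₁ : ℤ) : ZMod r)⁻¹).val with hi
  have h1 : (((m₂ - i * m₁ : ℤ)) : ZMod r) = 0 := by
    push_cast
    rw [hi, ZMod.natCast_val, ZMod.cast_id', id, mul_assoc, inv_mul_cancel₀ hm₁r, mul_one,
      sub_self]
  rw [ZMod.intCast_zmod_eq_zero_iff_dvd] at h1
  obtain ⟨t, ht⟩ := h1
  refine ⟨i, g ^ t, ?_⟩
  have h2 : m₂ = m₁ * i + t * r := by linarith
  rw [← hm₂, ← hm₁, h2, zpow_add, zpow_mul, zpow_mul, zpow_natCast, zpow_natCast]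

variable {G : Type*} [Group G] [Finite G] {A E : Subgroup G}

/-- the triangular numbers. -/
def tri (n : ℕ) : ℕ := ∑ i ∈ range n, i

lemma tri_succ (n : ℕ) : tri (n + 1) = tri n + n := by
  rw [tri, tri, sum_range_succ]

lemma dvd_tri_of_odd {r : ℕ} (hr : r.Prime) (h2 : r ≠ 2) : r ∣ tri r := by
  have h1 : tri r * 2 = r * (r - 1) := Finset.sum_range_id_mul_two r
  have hcop : Nat.Coprime r 2 := by
    rw [Nat.coprime_primes hr Nat.prime_two]; exact h2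
  have : r ∣ tri r * 2 := by rw [h1]; exact dvd_mul_right _ _
  exact hcop.dvd_of_dvd_mul_right this

variable (c : Cfg A E)
include c

lemma pow_mul_comm' {u v : G} (hu : u ∈ E) (hv : v ∈ E) (n : ℕ) :
    v ^ n * u = ⁅v, u⁆ ^ n * u * v ^ n := by
  have hc : ⁅v, u⁆ ∈ A := c.comm_mem hv hu
  induction n with
  | zero => simp
  | succ n ih =>
    have h1 : v * u = ⁅v, u⁆ * u * v := by
      rw [commutatorElement_def]; group
    have h2 : v ^ n * ⁅v, u⁆ = ⁅v, u⁆ * v ^ n := (c.A_central hc (E.pow_mem hv n)).symm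
    calc v ^ (n + 1) * u = v ^ n * (v * u) := by rw [pow_succ, mul_assoc]
      _ = v ^ n * ⁅v, u⁆ * u * v := by rw [h1]; simp only [mul_assoc]
      _ = ⁅v, u⁆ * (v ^ n * u) * v := by rw [h2]; simp only [mul_assoc]
      _ = ⁅v, u⁆ * (⁅v, u⁆ ^ n * u * v ^ n) * v := by rw [ih]
      _ = ⁅v, u⁆ ^ (n + 1) * u * v ^ (n + 1) := by
          rw [pow_succ' ⁅v, u⁆ n, pow_succ v n]; simp only [mul_assoc]

/-- the power formula in class two. -/
lemma mul_pow_class2 {u v : G} (hu : u ∈ E) (hv : v ∈ E) (n : ℕ) :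
    (u * v) ^ n = ⁅v, u⁆ ^ tri n * u ^ n * v ^ n := by
  have hc : ⁅v, u⁆ ∈ A := c.comm_mem hv hu
  induction n with
  | zero => simp [tri]
  | succ n ih =>
    have h1 := pow_mul_comm' c hu hv n
    have h2 : u ^ n * ⁅v, u⁆ ^ n = ⁅v, u⁆ ^ n * u ^ n :=
      (c.A_central (A.pow_mem hc n) (E.pow_mem hu n)).symm
    calc (u * v) ^ (n + 1) = (u * v) ^ n * (u * v) := pow_succ _ _
      _ = ⁅v, u⁆ ^ tri n * u ^ n * (v ^ n * u) * v := by rw [ih]; simp only [mul_assoc]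
      _ = ⁅v, u⁆ ^ tri n * (u ^ n * ⁅v, u⁆ ^ n) * u * v ^ n * v := by
          rw [h1]; simp only [mul_assoc]
      _ = ⁅v, u⁆ ^ tri n * (⁅v, u⁆ ^ n * u ^ n) * u * v ^ n * v := by rw [h2]
      _ = ⁅v, u⁆ ^ tri (n + 1) * u ^ (n + 1) * v ^ (n + 1) := by
          rw [tri_succ, pow_add, pow_succ u n, pow_succ v n]; simp only [mul_assoc]

omit c in
/-- `x` is an element of `E` of prime order `r` modulo `A`. -/
def Lev (A E : Subgroup G) (r : ℕ) (x : G) : Prop := x ∈ E ∧ x ∉ A ∧ x ^ r ∈ A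

lemma comm_A_left {a y : G} (ha : a ∈ A) (hy : y ∈ E) : ⁅a, y⁆ = 1 := by
  rw [commutatorElement_eq_one_iff_mul_comm]
  exact c.A_central ha hy

lemma comm_A_right {a y : G} (ha : a ∈ A) (hy : y ∈ E) : ⁅y, a⁆ = 1 := by
  rw [commutatorElement_eq_one_iff_mul_comm]
  exact (c.A_central ha hy).symm

lemma lev_pair {r : ℕ} {x : G} (hL : Lev A E r x) :
    ∃ y ∈ E, ⁅x, y⁆ ≠ 1 ∧ ⁅x, y⁆ ^ r = 1 := by
  obtain ⟨y, hy, hxy⟩ := c.exists_noncomm hL.1 hL.2.1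
  refine ⟨y, hy, hxy, ?_⟩
  rw [← c.comm_pow_left hL.1 hy, comm_A_left c hL.2.2 hy]

lemma lev_dvd {r : ℕ} (hr : r.Prime) {x : G} (hL : Lev A E r x) : r ∣ Nat.card A := by
  obtain ⟨y, hy, hxy, hr1⟩ := lev_pair c hL
  have hz : ⁅x, y⁆ ∈ A := c.comm_mem hL.1 hy
  have : Fact r.Prime := ⟨hr⟩
  have h1 : orderOf (⟨_, hz⟩ : A) = r := by
    rw [← Subgroup.orderOf_coe]
    exact orderOf_eq_prime hr1 hxy
  rw [← h1]
  exact orderOf_dvd_natCard _

variable (hU : ∀ ℓ : ℕ, ℓ.Prime → ℓ ∣ Nat.card A → ∀ w ∈ E, w ^ ℓ = 1 → w ∈ A)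
include hU

lemma lev_not_pow {r : ℕ} (hr : r.Prime) {x : G} (hL : Lev A E r x) {b : G} (hb : b ∈ A) :
    x ^ r ≠ b ^ r := by
  intro h
  apply hL.2.1
  have hcomm : Commute x b⁻¹ := (c.A_central (A.inv_mem hb) hL.1).symm
  have h1 : (x * b⁻¹) ^ r = 1 := by
    rw [hcomm.mul_pow, h, inv_pow, mul_inv_cancel]
  have h2 := hU r hr (lev_dvd c hr hL) (x * b⁻¹) (E.mul_mem hL.1 (E.inv_mem (c.A_le_E hb))) h1
  have := A.mul_mem h2 hb
  rwa [inv_mul_cancel_right] at this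

variable (hcyc : IsCyclic A)
include hcyc

lemma pow_decomp {r : ℕ} (hr : r.Prime) {x : G} (hL : Lev A E r x) {g : G} (hg : g ∈ A) :
    ∃ (i : ℕ) (b : G), b ∈ A ∧ g = (x ^ r) ^ i * b ^ r := by
  obtain ⟨i, b, hib⟩ := cyclic_pow_decomp (A := A) hr (a₁ := ⟨x ^ r, hL.2.2⟩) ⟨g, hg⟩ (by
    intro b hb
    have := congrArg Subtype.val hb
    exact lev_not_pow c hU hr hL b.2 this)
  refine ⟨i, b.1, b.2, ?_⟩
  have := congrArg Subtype.val hib
  exact this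

lemma lev_commute {r : ℕ} (hr : r.Prime) {x₁ x₂ : G} (hL₁ : Lev A E r x₁) (hL₂ : Lev A E r x₂)
    (hcomm : x₁ * x₂ = x₂ * x₁) : ∃ (i : ℕ) (a : G), a ∈ A ∧ x₂ = x₁ ^ i * a := by
  obtain ⟨i, b, hb, hib⟩ := pow_decomp c hU hcyc hr hL₁ hL₂.2.2
  have hc12 : Commute x₂ (x₁ ^ i)⁻¹ := ((show Commute x₁ x₂ from hcomm).symm.pow_right i).inv_right
  have hbE : b ∈ E := c.A_le_E hb
  have hcb : Commute (x₂ * (x₁ ^ i)⁻¹) b⁻¹ :=
    (c.A_central (A.inv_mem hb) (E.mul_mem hL₂.1 (E.inv_mem (E.pow_mem hL₁.1 i)))).symm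
  have hw : (x₂ * (x₁ ^ i)⁻¹ * b⁻¹) ^ r = 1 := by
    rw [hcb.mul_pow, hc12.mul_pow, hib, inv_pow, inv_pow, ← pow_mul, ← pow_mul, mul_comm i r]
    have h1 : Commute (x₁ ^ (r * i)) (b ^ r) :=
      (c.A_central (A.pow_mem hb r) (E.pow_mem hL₁.1 _)).symm
    rw [h1.eq]
    group
  have hwA := hU r hr (lev_dvd c hr hL₁) _
    (E.mul_mem (E.mul_mem hL₂.1 (E.inv_mem (E.pow_mem hL₁.1 i))) (E.inv_mem hbE)) hw
  refine ⟨i, x₂ * (x₁ ^ i)⁻¹ * b⁻¹ * b, A.mul_mem hwA hb, ?_⟩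
  have h2 : Commute (x₁ ^ i) (x₂ * (x₁ ^ i)⁻¹ * b⁻¹ * b) :=
    (c.A_central (A.mul_mem hwA hb) (E.pow_mem hL₁.1 i)).symm
  rw [h2.eq]
  group

omit hU hcyc in
/-- the order of an element modulo `A`. -/
lemma min_pow {g : G} (hg : g ∈ E) (hgA : g ∉ A) :
    ∃ n : ℕ, 1 < n ∧ g ^ n ∈ A ∧ ∀ m : ℕ, 0 < m → m < n → g ^ m ∉ A := by
  classical
  have hex : ∃ n : ℕ, 0 < n ∧ g ^ n ∈ A :=
    ⟨orderOf g, orderOf_pos g, by rw [pow_orderOf_eq_one]; exact A.one_mem⟩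
  refine ⟨Nat.find hex, ?_, (Nat.find_spec hex).2, ?_⟩
  · have h1 := (Nat.find_spec hex).1
    by_contra h
    have h2 : Nat.find hex = 1 := by omega
    have h3 := (Nat.find_spec hex).2
    rw [h2, pow_one] at h3
    exact hgA h3
  · intro m hm hmn hmA
    exact Nat.find_min hex hmn ⟨hm, hmA⟩

lemma lev_partner {r : ℕ} (hr : r.Prime) {x : G} (hL : Lev A E r x) :
    ∃ y : G, Lev A E r y ∧ ⁅x, y⁆ ≠ 1 := by
  have : Fact r.Prime := ⟨hr⟩
  obtain ⟨y₀, hy₀, hz1, hzr⟩ := lev_pair c hL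
  have hzo : orderOf ⁅x, y₀⁆ = r := orderOf_eq_prime hzr hz1
  have hy₀A : y₀ ∉ A := by
    intro h
    exact hz1 (comm_A_right c h hL.1)
  obtain ⟨n, hn1, hnA, hnmin⟩ := min_pow c hy₀ hy₀A
  have hzn : ⁅x, y₀⁆ ^ n = 1 := by
    rw [← c.comm_pow_right hL.1 hy₀, comm_A_right c hnA hL.1]
  have hrn : r ∣ n := by rw [← hzo]; exact orderOf_dvd_of_pow_eq_one hzn
  obtain ⟨m, rfl⟩ := hrn
  have hm0 : 0 < m := by
    rcases Nat.eq_zero_or_pos m with h | h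
    · rw [h] at hn1; omega
    · exact h
  have hmn : m < r * m := by
    have := hr.two_le
    nlinarith
  have hy₁ : Lev A E r (y₀ ^ m) := by
    refine ⟨E.pow_mem hy₀ m, hnmin m hm0 hmn, ?_⟩
    rw [← pow_mul, mul_comm]
    exact hnA
  by_cases hzm : ⁅x, y₀ ^ m⁆ = 1
  · exfalso
    rw [commutatorElement_eq_one_iff_mul_comm] at hzm
    obtain ⟨i, a, ha, hia⟩ := lev_commute c hU hcyc hr hL hy₁ hzm
    have h1 : ⁅x ^ i * a, y₀⁆ = 1 := by
      rw [← hia, commutatorElement_eq_one_iff_mul_comm]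
      exact ((Commute.refl y₀).pow_left m).eq
    rw [c.comm_mul_left (E.pow_mem hL.1 i) (c.A_le_E ha) hy₀, comm_A_left c ha hy₀, mul_one,
      c.comm_pow_left hL.1 hy₀] at h1
    have hri : r ∣ i := by rw [← hzo]; exact orderOf_dvd_of_pow_eq_one h1
    obtain ⟨j, rfl⟩ := hri
    apply hy₁.2.1
    rw [hia, pow_mul]
    exact A.mul_mem (A.pow_mem hL.2.2 j) ha
  · exact ⟨y₀ ^ m, hy₁, hzm⟩

/-- **the prime is two**. -/
lemma lev_two {r : ℕ} (hr : r.Prime) {x : G} (hL : Lev A E r x) : r = 2 := by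
  by_contra hr2
  obtain ⟨y, hLy, hxy⟩ := lev_partner c hU hcyc hr hL
  obtain ⟨i, b, hb, hib⟩ := pow_decomp c hU hcyc hr hL hLy.2.2
  have hvE : (x ^ i)⁻¹ ∈ E := E.inv_mem (E.pow_mem hL.1 i)
  have hvr : ((x ^ i)⁻¹) ^ r ∈ A := by
    rw [inv_pow, ← pow_mul, mul_comm, pow_mul]
    exact A.inv_mem (A.pow_mem hL.2.2 i)
  have hc0 : ⁅(x ^ i)⁻¹, y⁆ ^ r = 1 := by
    rw [← c.comm_pow_left hvE hLy.1, comm_A_left c hvr hLy.1]
  have hc1 : ⁅(x ^ i)⁻¹, y⁆ ^ tri r = 1 := by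
    obtain ⟨k, hk⟩ := dvd_tri_of_odd hr hr2
    rw [hk, pow_mul, hc0, one_pow]
  have h1 : (y * (x ^ i)⁻¹) ^ r = b ^ r := by
    rw [mul_pow_class2 c hLy.1 hvE, hc1, one_mul, hib, inv_pow, ← pow_mul, ← pow_mul,
      mul_comm i r]
    have h2 : Commute (x ^ (r * i)) (b ^ r) :=
      (c.A_central (A.pow_mem hb r) (E.pow_mem hL.1 _)).symm
    rw [h2.eq, mul_inv_cancel_right]
  have hcb : Commute (y * (x ^ i)⁻¹) b⁻¹ :=
    (c.A_central (A.inv_mem hb) (E.mul_mem hLy.1 hvE)).symm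
  have hw : (y * (x ^ i)⁻¹ * b⁻¹) ^ r = 1 := by
    rw [hcb.mul_pow, h1, inv_pow, mul_inv_cancel]
  have hwA := hU r hr (lev_dvd c hr hL) _
    (E.mul_mem (E.mul_mem hLy.1 hvE) (E.inv_mem (c.A_le_E hb))) hw
  apply hxy
  have hy : y = (y * (x ^ i)⁻¹ * b⁻¹ * b) * x ^ i := by group
  rw [hy, c.comm_mul_right hL.1 (c.A_le_E (A.mul_mem hwA hb)) (E.pow_mem hL.1 i),
    comm_A_right c (A.mul_mem hwA hb) hL.1, one_mul, c.comm_pow_right hL.1 hL.1,
    commutatorElement_self, one_pow]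

omit hU hcyc in
lemma exists_lev {g : G} (hg : g ∈ E) (hgA : g ∉ A) :
    ∃ (r m : ℕ), r.Prime ∧ Lev A E r (g ^ m) := by
  obtain ⟨n, hn1, hnA, hnmin⟩ := min_pow c hg hgA
  have hrp : n.minFac.Prime := Nat.minFac_prime (by omega)
  obtain ⟨m, hm⟩ := Nat.minFac_dvd n
  have hm0 : 0 < m := by
    rcases Nat.eq_zero_or_pos m with h | h
    · rw [h, mul_zero] at hm; omega
    · exact h
  have hmn : m < n := by
    have := hrp.two_le
    nlinarith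
  refine ⟨n.minFac, m, hrp, E.pow_mem hg m, hnmin m hm0 hmn, ?_⟩
  rw [← pow_mul, mul_comm, ← hm]
  exact hnA

lemma central_pair {x y : G} (hLx : Lev A E 2 x) (hLy : Lev A E 2 y) (hxy : ⁅x, y⁆ ≠ 1) {g : G}
    (hg : g ∈ E) (hgx : g * x = x * g) (hgy : g * y = y * g) : g ∈ A := by
  by_contra hgA
  obtain ⟨r, m, hr, hL⟩ := exists_lev c hg hgA
  have hr2 : r = 2 := lev_two c hU hcyc hr hL
  subst hr2
  have hcx : x * g ^ m = g ^ m * x := ((show Commute g x from hgx).pow_left m).eq.symm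
  obtain ⟨i, a, ha, hia⟩ := lev_commute c hU hcyc Nat.prime_two hLx hL hcx
  have hz2 : ⁅x, y⁆ ^ 2 = 1 := by
    rw [← c.comm_pow_left hLx.1 hLy.1, comm_A_left c hLx.2.2 hLy.1]
  have hzo : orderOf ⁅x, y⁆ = 2 := orderOf_eq_prime hz2 hxy
  have h1 : ⁅x ^ i * a, y⁆ = 1 := by
    rw [← hia, commutatorElement_eq_one_iff_mul_comm]
    exact ((show Commute g y from hgy).pow_left m).eq
  rw [c.comm_mul_left (E.pow_mem hLx.1 i) (c.A_le_E ha) hLy.1, comm_A_left c ha hLy.1, mul_one,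
    c.comm_pow_left hLx.1 hLy.1] at h1
  have h2i : 2 ∣ i := by rw [← hzo]; exact orderOf_dvd_of_pow_eq_one h1
  obtain ⟨j, rfl⟩ := h2i
  apply hL.2.1
  rw [hia, pow_mul]
  exact A.mul_mem (A.pow_mem hLx.2.2 j) ha

omit c hU in
/-- involutions of a cyclic group. -/
lemma sq_eq_one_cases {z : G} (hz : z ∈ A) (hz1 : z ≠ 1) (hz2 : z ^ 2 = 1) {b : G} (hb : b ∈ A)
    (hb2 : b ^ 2 = 1) : b = 1 ∨ b = z := by
  classical
  by_contra hcon
  push Not at hcon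
  have := Fintype.ofFinite A
  have hle := IsCyclic.card_pow_eq_one_le (α := A) (n := 2) (by norm_num)
  have hsub : ({(1 : A), ⟨z, hz⟩, ⟨b, hb⟩} : Finset A) ⊆ univ.filter (fun a : A => a ^ 2 = 1) := by
    intro t ht
    rw [mem_filter]
    refine ⟨mem_univ _, ?_⟩
    simp only [mem_insert, mem_singleton] at ht
    rcases ht with rfl | rfl | rfl
    · exact one_pow 2
    · apply Subtype.ext; exact hz2
    · apply Subtype.ext; exact hb2
  have hcard : ({(1 : A), ⟨z, hz⟩, ⟨b, hb⟩} : Finset A).card = 3 := by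
    rw [card_insert_of_notMem, card_insert_of_notMem, card_singleton]
    · rw [mem_singleton]
      intro h
      exact hcon.2 (congrArg Subtype.val h).symm
    · simp only [mem_insert, mem_singleton]
      rintro (h | h)
      · exact hz1 (congrArg Subtype.val h).symm
      · exact hcon.1 (congrArg Subtype.val h).symm
  have := card_le_card hsub
  omega

/-- **Structure in the semiregular case**: `E/A` is a four-group. -/
theorem structure_four (hne : ¬ E ≤ A) :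
    ∃ x y : G, Lev A E 2 x ∧ Lev A E 2 y ∧ ⁅x, y⁆ ≠ 1 ∧ ⁅x, y⁆ ^ 2 = 1 ∧
      (∀ g ∈ E, ∃ a ∈ A, ∃ e d : ℕ, g = a * x ^ e * y ^ d) ∧ Nat.card E = 4 * Nat.card A := by
  classical
  obtain ⟨g₀, hg₀, hg₀A⟩ : ∃ g ∈ E, g ∉ A := by
    by_contra h
    push Not at h
    exact hne h
  obtain ⟨r, m, hr, hLx⟩ := exists_lev c hg₀ hg₀A
  have hr2 : r = 2 := lev_two c hU hcyc hr hLx
  subst hr2
  set x := g₀ ^ m with hx
  obtain ⟨y, hLy, hxy⟩ := lev_partner c hU hcyc Nat.prime_two hLx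
  set z := ⁅x, y⁆ with hz
  have hzA : z ∈ A := c.comm_mem hLx.1 hLy.1
  have hz2 : z ^ 2 = 1 := by
    rw [hz, ← c.comm_pow_left hLx.1 hLy.1, comm_A_left c hLx.2.2 hLy.1]
  have hzinv : z⁻¹ = z := by
    rw [inv_eq_iff_mul_eq_one, ← pow_two, hz2]
  have hyx : ⁅y, x⁆ = z := by rw [← commutatorElement_inv, ← hz, hzinv]
  -- commutators with `x` and `y` of a general element
  have hcx : ∀ g ∈ E, ⁅g, x⁆ = 1 ∨ ⁅g, x⁆ = z := by
    intro g hg
    apply sq_eq_one_cases hcyc hzA hxy hz2 (c.comm_mem hg hLx.1)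
    rw [← c.comm_pow_right hg hLx.1, comm_A_right c hLx.2.2 hg]
  have hcy : ∀ g ∈ E, ⁅g, y⁆ = 1 ∨ ⁅g, y⁆ = z := by
    intro g hg
    apply sq_eq_one_cases hcyc hzA hxy hz2 (c.comm_mem hg hLy.1)
    rw [← c.comm_pow_right hg hLy.1, comm_A_right c hLy.2.2 hg]
  -- commutators of the normal form
  have hnf_x : ∀ (a : G) (ha : a ∈ A) (e d : ℕ), ⁅a * x ^ e * y ^ d, x⁆ = z ^ d := by
    intro a ha e d
    rw [c.comm_mul_left (E.mul_mem (c.A_le_E ha) (E.pow_mem hLx.1 e)) (E.pow_mem hLy.1 d) hLx.1,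
      c.comm_mul_left (c.A_le_E ha) (E.pow_mem hLx.1 e) hLx.1, comm_A_left c ha hLx.1,
      c.comm_pow_left hLx.1 hLx.1, commutatorElement_self, one_pow, one_mul, one_mul,
      c.comm_pow_left hLy.1 hLx.1, hyx]
  have hnf_y : ∀ (a : G) (ha : a ∈ A) (e d : ℕ), ⁅a * x ^ e * y ^ d, y⁆ = z ^ e := by
    intro a ha e d
    rw [c.comm_mul_left (E.mul_mem (c.A_le_E ha) (E.pow_mem hLx.1 e)) (E.pow_mem hLy.1 d) hLy.1,
      c.comm_mul_left (c.A_le_E ha) (E.pow_mem hLx.1 e) hLy.1, comm_A_left c ha hLy.1,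
      c.comm_pow_left hLy.1 hLy.1, commutatorElement_self, one_pow, mul_one, one_mul,
      c.comm_pow_left hLx.1 hLy.1]
  -- surjectivity of the normal form
  have hsurj : ∀ g ∈ E, ∃ a ∈ A, ∃ e d : ℕ, e < 2 ∧ d < 2 ∧ g = a * x ^ e * y ^ d := by
    intro g hg
    obtain ⟨d, hd2, hd⟩ : ∃ d : ℕ, d < 2 ∧ ⁅g, x⁆ = z ^ d := by
      rcases hcx g hg with h | h
      · exact ⟨0, by norm_num, by rw [h, pow_zero]⟩
      · exact ⟨1, by norm_num, by rw [h, pow_one]⟩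
    obtain ⟨e, he2, he⟩ : ∃ e : ℕ, e < 2 ∧ ⁅g, y⁆ = z ^ e := by
      rcases hcy g hg with h | h
      · exact ⟨0, by norm_num, by rw [h, pow_zero]⟩
      · exact ⟨1, by norm_num, by rw [h, pow_one]⟩
    have hhE : x ^ e * y ^ d ∈ E := E.mul_mem (E.pow_mem hLx.1 e) (E.pow_mem hLy.1 d)
    have hg'E : g * (x ^ e * y ^ d)⁻¹ ∈ E := E.mul_mem hg (E.inv_mem hhE)
    have hinvx : ⁅(x ^ e * y ^ d)⁻¹, x⁆ = z ^ d := by
      have h1 : ⁅(x ^ e * y ^ d)⁻¹, x⁆ * ⁅x ^ e * y ^ d, x⁆ = 1 := by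
        rw [← c.comm_mul_left (E.inv_mem hhE) hhE hLx.1, inv_mul_cancel,
          commutatorElement_one_left]
      have h2 := hnf_x 1 A.one_mem e d
      rw [one_mul] at h2
      rw [h2] at h1
      have h3 : (z ^ d) * (z ^ d) = 1 := by rw [← pow_add, ← two_mul, pow_mul, hz2, one_pow]
      exact mul_right_cancel (h1.trans h3.symm)
    have hinvy : ⁅(x ^ e * y ^ d)⁻¹, y⁆ = z ^ e := by
      have h1 : ⁅(x ^ e * y ^ d)⁻¹, y⁆ * ⁅x ^ e * y ^ d, y⁆ = 1 := by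
        rw [← c.comm_mul_left (E.inv_mem hhE) hhE hLy.1, inv_mul_cancel,
          commutatorElement_one_left]
      have h2 := hnf_y 1 A.one_mem e d
      rw [one_mul] at h2
      rw [h2] at h1
      have h3 : (z ^ e) * (z ^ e) = 1 := by rw [← pow_add, ← two_mul, pow_mul, hz2, one_pow]
      exact mul_right_cancel (h1.trans h3.symm)
    have hg'x : ⁅g * (x ^ e * y ^ d)⁻¹, x⁆ = 1 := by
      rw [c.comm_mul_left hg (E.inv_mem hhE) hLx.1, hd, hinvx, ← pow_add, ← two_mul, pow_mul, hz2,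
        one_pow]
    have hg'y : ⁅g * (x ^ e * y ^ d)⁻¹, y⁆ = 1 := by
      rw [c.comm_mul_left hg (E.inv_mem hhE) hLy.1, he, hinvy, ← pow_add, ← two_mul, pow_mul, hz2,
        one_pow]
    rw [commutatorElement_eq_one_iff_mul_comm] at hg'x hg'y
    have hg'A := central_pair c hU hcyc hLx hLy hxy hg'E hg'x hg'y
    refine ⟨g * (x ^ e * y ^ d)⁻¹, hg'A, e, d, he2, hd2, ?_⟩
    group
  refine ⟨x, y, hLx, hLy, hxy, hz2, ?_, ?_⟩
  · intro g hg
    obtain ⟨a, ha, e, d, -, -, h⟩ := hsurj g hg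
    exact ⟨a, ha, e, d, h⟩
  · -- the count
    let Ψ : A × (Fin 2 × Fin 2) → E := fun t =>
      ⟨t.1.1 * x ^ (t.2.1 : ℕ) * y ^ (t.2.2 : ℕ),
        E.mul_mem (E.mul_mem (c.A_le_E t.1.2) (E.pow_mem hLx.1 _)) (E.pow_mem hLy.1 _)⟩
    have hzpow : ∀ i j : ℕ, i < 2 → j < 2 → z ^ i = z ^ j → i = j := by
      intro i j hi hj hij
      interval_cases i <;> interval_cases j
      · rfl
      · exfalso; rw [pow_zero, pow_one] at hij; exact hxy hij.symm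
      · exfalso; rw [pow_zero, pow_one] at hij; exact hxy hij
      · rfl
    have hΨinj : Function.Injective Ψ := by
      rintro ⟨a, e, d⟩ ⟨a', e', d'⟩ h
      have h0 : a.1 * x ^ (e : ℕ) * y ^ (d : ℕ) = a'.1 * x ^ (e' : ℕ) * y ^ (d' : ℕ) :=
        congrArg Subtype.val h
      have h1 : z ^ (d : ℕ) = z ^ (d' : ℕ) := by
        rw [← hnf_x a.1 a.2 e d, ← hnf_x a'.1 a'.2 e' d', h0]
      have h2 : z ^ (e : ℕ) = z ^ (e' : ℕ) := by
        rw [← hnf_y a.1 a.2 e d, ← hnf_y a'.1 a'.2 e' d', h0]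
      have hd : d = d' := Fin.ext (hzpow _ _ d.2 d'.2 h1)
      have he : e = e' := Fin.ext (hzpow _ _ e.2 e'.2 h2)
      subst hd he
      have h3 : a.1 = a'.1 := mul_right_cancel (mul_right_cancel h0)
      rw [Subtype.ext h3]
    have hΨsurj : Function.Surjective Ψ := by
      intro g
      obtain ⟨a, ha, e, d, he, hd, h⟩ := hsurj g.1 g.2
      exact ⟨⟨⟨a, ha⟩, ⟨e, he⟩, ⟨d, hd⟩⟩, Subtype.ext h.symm⟩
    rw [← Nat.card_congr (Equiv.ofBijective Ψ ⟨hΨinj, hΨsurj⟩), Nat.card_prod, Nat.card_prod,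
      Nat.card_fin, mul_comm]

omit hU hcyc in
lemma nf_comm_x {x y : G} (hx : x ∈ E) (hy : y ∈ E) {a : G} (ha : a ∈ A) (e d : ℕ) :
    ⁅a * x ^ e * y ^ d, x⁆ = ⁅y, x⁆ ^ d := by
  rw [c.comm_mul_left (E.mul_mem (c.A_le_E ha) (E.pow_mem hx e)) (E.pow_mem hy d) hx,
    c.comm_mul_left (c.A_le_E ha) (E.pow_mem hx e) hx, comm_A_left c ha hx,
    c.comm_pow_left hx hx, commutatorElement_self, one_pow, one_mul, one_mul,
    c.comm_pow_left hy hx]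

omit hU hcyc in
lemma nf_comm_y {x y : G} (hx : x ∈ E) (hy : y ∈ E) {a : G} (ha : a ∈ A) (e d : ℕ) :
    ⁅a * x ^ e * y ^ d, y⁆ = ⁅x, y⁆ ^ e := by
  rw [c.comm_mul_left (E.mul_mem (c.A_le_E ha) (E.pow_mem hx e)) (E.pow_mem hy d) hy,
    c.comm_mul_left (c.A_le_E ha) (E.pow_mem hx e) hy, comm_A_left c ha hy,
    c.comm_pow_left hy hy, commutatorElement_self, one_pow, mul_one, one_mul,
    c.comm_pow_left hx hy]

end Cfsg.Agent.Lib.Helper22.HupG
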