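import Mathlib
import Cfsg.Agent.Lib.Helper22.HupG

set_option autoImplicit false
set_option linter.unusedSectionVars false
set_option linter.unusedVariables false

namespace Cfsg.Agent.Lib.Helper22.HupH

open Cfsg.Agent.Lib.Helper22.HupB Cfsg.Agent.Lib.Helper22.HupG
open scoped commutatorElement
open Finset

variable {G : Type*} [Group G] [Finite G] {A E : Subgroup G}

/-- an element of `C(A)` stabilizing the cosets `xA` and `yA` lies in `E`. -/
lemma mem_E_of_stab (c : Cfg A E) (hcyc : IsCyclic A) {x y : G} (hLx : Lev A E 2 x)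
    (hLy : Lev A E 2 y) (hxy : ⁅x, y⁆ ≠ 1) (hz2 : ⁅x, y⁆ ^ 2 = 1)
    (hnf : ∀ g ∈ E, ∃ a ∈ A, ∃ e d : ℕ, g = a * x ^ e * y ^ d) {g : G}
    (hgC : g ∈ Subgroup.centralizer (A : Set G)) (hgx : x⁻¹ * (g * x * g⁻¹) ∈ A)
    (hgy : y⁻¹ * (g * y * g⁻¹) ∈ A) : g ∈ E := by
  have hAn := c.A_normal
  set z := ⁅x, y⁆ with hz
  have hzA : z ∈ A := c.comm_mem hLx.1 hLy.1
  have hzinv : z⁻¹ = z := by rw [inv_eq_iff_mul_eq_one, ← pow_two, hz2]
  have hyx : ⁅y, x⁆ = z := by rw [← commutatorElement_inv, ← hz, hzinv]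
  have hgA : ∀ a ∈ A, g * a * g⁻¹ = a := by
    intro a ha
    rw [Subgroup.mem_centralizer_iff] at hgC
    rw [← hgC a ha, mul_inv_cancel_right]
  -- the twists are involutions of `A`
  have htw : ∀ u : G, u ∈ E → u ^ 2 ∈ A → u⁻¹ * (g * u * g⁻¹) ∈ A →
      u⁻¹ * (g * u * g⁻¹) = 1 ∨ u⁻¹ * (g * u * g⁻¹) = z := by
    intro u hu hu2 hua
    apply sq_eq_one_cases hcyc hzA hxy hz2 hua
    set a₁ := u⁻¹ * (g * u * g⁻¹) with ha₁
    have h1 : g * u * g⁻¹ = u * a₁ := by rw [ha₁, mul_inv_cancel_left]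
    have h2 : (g * u * g⁻¹) ^ 2 = u ^ 2 := by
      rw [conj_pow, hgA _ hu2]
    have hcomm : Commute u a₁ := (c.A_central hua hu).symm
    rw [h1, hcomm.mul_pow] at h2
    exact mul_left_cancel (h2.trans (mul_one _).symm)
  obtain ⟨d, hd⟩ : ∃ d : ℕ, x⁻¹ * (g * x * g⁻¹) = z ^ d := by
    rcases htw x hLx.1 hLx.2.2 hgx with h | h
    · exact ⟨0, by rw [h, pow_zero]⟩
    · exact ⟨1, by rw [h, pow_one]⟩
  obtain ⟨e, he⟩ : ∃ e : ℕ, y⁻¹ * (g * y * g⁻¹) = z ^ e := by
    rcases htw y hLy.1 hLy.2.2 hgy with h | h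
    · exact ⟨0, by rw [h, pow_zero]⟩
    · exact ⟨1, by rw [h, pow_one]⟩
  have hhE : x ^ e * y ^ d ∈ E := E.mul_mem (E.pow_mem hLx.1 e) (E.pow_mem hLy.1 d)
  -- conjugation by `h = x^e y^d`
  have hhx : (x ^ e * y ^ d) * x * (x ^ e * y ^ d)⁻¹ = z ^ d * x := by
    rw [c.conj_eq]
    have := nf_comm_x c hLx.1 hLy.1 A.one_mem e d
    rw [one_mul] at this
    rw [this, hyx]
  have hhy : (x ^ e * y ^ d) * y * (x ^ e * y ^ d)⁻¹ = z ^ e * y := by
    rw [c.conj_eq]
    have := nf_comm_y c hLx.1 hLy.1 A.one_mem e d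
    rw [one_mul] at this
    rw [this]
  have hzz : ∀ n : ℕ, z ^ n * z ^ n = 1 := by
    intro n
    rw [← pow_add, ← two_mul, pow_mul, hz2, one_pow]
  set g' := g * (x ^ e * y ^ d) with hg'
  have hg'x : g' * x * g'⁻¹ = x := by
    have h1 : g' * x * g'⁻¹ = g * ((x ^ e * y ^ d) * x * (x ^ e * y ^ d)⁻¹) * g⁻¹ := by
      rw [hg']; group
    rw [h1, hhx]
    have h2 : g * (z ^ d * x) * g⁻¹ = (g * z ^ d * g⁻¹) * (g * x * g⁻¹) := by group
    rw [h2, hgA _ (A.pow_mem hzA d)]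
    have h3 : g * x * g⁻¹ = x * z ^ d := by rw [← hd, mul_inv_cancel_left]
    rw [h3, ← mul_assoc, (c.A_central (A.pow_mem hzA d) hLx.1), mul_assoc, hzz, mul_one]
  have hg'y : g' * y * g'⁻¹ = y := by
    have h1 : g' * y * g'⁻¹ = g * ((x ^ e * y ^ d) * y * (x ^ e * y ^ d)⁻¹) * g⁻¹ := by
      rw [hg']; group
    rw [h1, hhy]
    have h2 : g * (z ^ e * y) * g⁻¹ = (g * z ^ e * g⁻¹) * (g * y * g⁻¹) := by group
    rw [h2, hgA _ (A.pow_mem hzA e)]
    have h3 : g * y * g⁻¹ = y * z ^ e := by rw [← he, mul_inv_cancel_left]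
    rw [h3, ← mul_assoc, (c.A_central (A.pow_mem hzA e) hLy.1), mul_assoc, hzz, mul_one]
  have hg'C : g' ∈ Subgroup.centralizer (A : Set G) :=
    Subgroup.mul_mem _ hgC (c.E_le_C hhE)
  have hcx : Commute g' x := mul_inv_eq_iff_eq_mul.1 hg'x
  have hcy : Commute g' y := mul_inv_eq_iff_eq_mul.1 hg'y
  have hg'A : g' ∈ A := by
    apply c.cent_E
    rw [Subgroup.mem_centralizer_iff]
    intro u hu
    obtain ⟨a, ha, e', d', rfl⟩ := hnf u hu
    have hca : Commute g' a := by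
      rw [Subgroup.mem_centralizer_iff] at hg'C
      exact (hg'C a ha).symm
    exact (((hca.mul_right (hcx.pow_right e')).mul_right (hcy.pow_right d'))).eq.symm
  have : g = g' * (x ^ e * y ^ d)⁻¹ := by rw [hg', mul_inv_cancel_right]
  rw [this]
  exact E.mul_mem (c.A_le_E hg'A) (E.inv_mem hhE)

/-- **`C(A)/E` embeds in `S₃`.** -/
theorem card_C (c : Cfg A E) (hcyc : IsCyclic A) {x y : G} (hLx : Lev A E 2 x)
    (hLy : Lev A E 2 y) (hxy : ⁅x, y⁆ ≠ 1) (hz2 : ⁅x, y⁆ ^ 2 = 1)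
    (hnf : ∀ g ∈ E, ∃ a ∈ A, ∃ e d : ℕ, g = a * x ^ e * y ^ d)
    (hcard : Nat.card E = 4 * Nat.card A) :
    ∃ k, k ∣ 6 ∧ Nat.card (Subgroup.centralizer (A : Set G)) = k * Nat.card E := by
  classical
  have hAn := c.A_normal
  have hEn := c.E_normal
  set C := Subgroup.centralizer (A : Set G) with hC
  let A' : Subgroup E := A.subgroupOf E
  -- the conjugation action of `C` on `E`
  let ψ : C →* MulAut E := (MulAut.conjNormal (H := E)).comp C.subtype
  let _ : MulAction C E := MulAction.compHom E ψ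
  have hsmul : ∀ (g : C) (u : E), ((g • u : E) : G) = g.1 * u.1 * g.1⁻¹ := fun g u => rfl
  have hQA : MulAction.QuotientAction C A' := by
    refine ⟨fun b a a' h => ?_⟩
    show ((b • a)⁻¹ * b • a' : E).1 ∈ A
    rw [Subgroup.coe_mul, Subgroup.coe_inv, hsmul, hsmul]
    have h1 : (a⁻¹ * a' : E).1 ∈ A := h
    rw [Subgroup.coe_mul, Subgroup.coe_inv] at h1
    have h2 := hAn.conj_mem _ h1 b.1
    have h3 : (b.1 * a.1 * b.1⁻¹)⁻¹ * (b.1 * a'.1 * b.1⁻¹) = b.1 * (a.1⁻¹ * a'.1) * b.1⁻¹ := by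
      group
    rw [h3]
    exact h2
  -- the nontrivial cosets
  let T : SubMulAction C (E ⧸ A') :=
    { carrier := {i | i ≠ 1}
      smul_mem' := by
        intro g i hi h
        apply hi
        have h1 : g • (1 : E ⧸ A') = 1 := by
          show g • ((1 : E) : E ⧸ A') = ((1 : E) : E ⧸ A')
          rw [MulAction.Quotient.smul_coe]
          congr 1
          apply Subtype.ext
          rw [hsmul]
          simp
        rw [← h1] at h
        exact MulAction.injective g h }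
  let φ : C →* Equiv.Perm T := MulAction.toPermHom C T
  -- cardinalities
  have hA' : Nat.card A' = Nat.card A :=
    Nat.card_congr (Subgroup.subgroupOfEquivOfLe c.A_le_E).toEquiv
  have hQ : Nat.card (E ⧸ A') = 4 := by
    have h1 := Subgroup.card_eq_card_quotient_mul_card_subgroup A'
    rw [hA', hcard] at h1
    exact (Nat.eq_of_mul_eq_mul_right Nat.card_pos h1).symm
  have := Fintype.ofFinite (E ⧸ A')
  have := Fintype.ofFinite T
  have hT : Fintype.card T = 3 := by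
    have h1 : Fintype.card {i : E ⧸ A' | i ≠ 1} = Fintype.card (E ⧸ A') - 1 := Set.card_ne_eq _
    rw [← Nat.card_eq_fintype_card, ← Nat.card_eq_fintype_card, hQ] at h1
    rw [← Nat.card_eq_fintype_card]
    exact h1
  have hperm : Nat.card (Equiv.Perm T) = 6 := by
    rw [Nat.card_eq_fintype_card, Fintype.card_perm, hT]
    rfl
  -- the kernel
  have hxT : ((⟨x, hLx.1⟩ : E) : E ⧸ A') ≠ 1 := by
    intro h
    rw [QuotientGroup.eq_one_iff] at h
    exact hLx.2.1 h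
  have hyT : ((⟨y, hLy.1⟩ : E) : E ⧸ A') ≠ 1 := by
    intro h
    rw [QuotientGroup.eq_one_iff] at h
    exact hLy.2.1 h
  have hker : φ.ker = E.subgroupOf C := by
    ext g
    rw [MonoidHom.mem_ker, Subgroup.mem_subgroupOf]
    constructor
    · intro hg
      have hfix : ∀ t : T, g • t = t := by
        intro t
        have := congrArg (fun σ : Equiv.Perm T => σ t) hg
        exact this
      have hstab : ∀ u : E, (u : E ⧸ A') ≠ 1 → u.1⁻¹ * (g.1 * u.1 * g.1⁻¹) ∈ A := by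
        intro u hu
        have h1 := hfix ⟨(u : E ⧸ A'), hu⟩
        have h2 : g • (u : E ⧸ A') = (u : E ⧸ A') := congrArg Subtype.val h1
        rw [MulAction.Quotient.smul_coe, eq_comm, QuotientGroup.eq] at h2
        have h3 : (u⁻¹ * g • u : E).1 ∈ A := h2
        rw [Subgroup.coe_mul, Subgroup.coe_inv, hsmul] at h3
        exact h3
      exact mem_E_of_stab c hcyc hLx hLy hxy hz2 hnf g.2 (hstab _ hxT) (hstab _ hyT)
    · intro hg
      apply Equiv.ext
      intro t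
      apply Subtype.ext
      show g • (t : E ⧸ A') = (t : E ⧸ A')
      obtain ⟨u, hu⟩ := QuotientGroup.mk_surjective (t : E ⧸ A')
      rw [← hu, MulAction.Quotient.smul_mk, eq_comm, QuotientGroup.eq]
      show (u⁻¹ * g • u : E).1 ∈ A
      rw [Subgroup.coe_mul, Subgroup.coe_inv, hsmul]
      have h1 : u.1⁻¹ * (g.1 * u.1 * g.1⁻¹) = ⁅u.1⁻¹, g.1⁆ := by
        rw [commutatorElement_def, inv_inv]; group
      rw [h1]
      exact c.comm_mem (E.inv_mem u.2) hg
  refine ⟨Nat.card φ.range, ?_, ?_⟩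
  · rw [← hperm]
    exact Subgroup.card_subgroup_dvd_card _
  · have h1 := Subgroup.card_mul_index φ.ker
    rw [Subgroup.index_ker, hker] at h1
    have h2 : Nat.card (E.subgroupOf C) = Nat.card E :=
      Nat.card_congr (Subgroup.subgroupOfEquivOfLe c.E_le_C).toEquiv
    rw [h2] at h1
    rw [← h1, mul_comm]

end Cfsg.Agent.Lib.Helper22.HupH
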