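import Mathlib

set_option autoImplicit false
set_option linter.unusedSectionVars false
set_option linter.unusedVariables false
set_option linter.unreachableTactic false
set_option linter.unusedTactic false
set_option linter.unnecessarySeqFocus false

namespace Cfsg.Agent.Lib.Helper22.HupN

lemma pow6_le (d : ℕ) (hd : 2 ≤ d) : 27 * d ^ 6 ≤ 8 * 16 ^ d := by
  induction d, hd using Nat.le_induction with
  | base => norm_num
  | succ d hd ih =>
    have h1 : (2 * (d + 1)) ^ 6 ≤ (3 * d) ^ 6 := Nat.pow_le_pow_left (by omega) 6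
    rw [mul_pow, mul_pow] at h1
    have h2 : (d + 1) ^ 6 ≤ 16 * d ^ 6 := by
      norm_num at h1
      omega
    calc 27 * (d + 1) ^ 6 ≤ 27 * (16 * d ^ 6) := Nat.mul_le_mul_left _ h2
      _ = 16 * (27 * d ^ 6) := by ring
      _ ≤ 16 * (8 * 16 ^ d) := Nat.mul_le_mul_left _ ih
      _ = 8 * 16 ^ (d + 1) := by ring

/-- the odd-prime case of the counting inequality is impossible. -/
lemma no_odd (Q d r W N : ℕ) (hd : 2 ≤ d) (hr : 3 ≤ r) (hrQ : r + 1 ≤ Q) (hW : W ^ r = Q ^ d)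
    (hN : N ≤ d ^ 2) (hN1 : 1 ≤ N)
    (hineq : (Q ^ d - 1) * (r - 1) ≤ r * (N - 1) * (W - 1)) : False := by
  have hQd : 16 ≤ Q ^ d := by
    calc 16 = 4 ^ 2 := by norm_num
      _ ≤ Q ^ 2 := Nat.pow_le_pow_left (by omega) 2
      _ ≤ Q ^ d := Nat.pow_le_pow_right (by omega) hd
  have hW2 : 2 ≤ W := by
    by_contra h
    have : W ≤ 1 := by omega
    have h1 : W ^ r ≤ 1 := by
      calc W ^ r ≤ 1 ^ r := Nat.pow_le_pow_left this r
        _ = 1 := one_pow r
    omega
  obtain ⟨s, rfl⟩ : ∃ s, r = s + 1 := ⟨r - 1, by omega⟩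
  simp only [Nat.add_sub_cancel] at hineq
  set P := W ^ s with hP
  have hP1 : 1 ≤ P := Nat.one_le_pow _ _ (by omega)
  have hWP : W * P = Q ^ d := by rw [← hW, pow_succ, mul_comm]
  -- cancel `W - 1`
  have h1 : (W - 1) * P ≤ Q ^ d - 1 := by
    rw [← hWP]
    have : (W - 1) * P = W * P - P := by rw [Nat.sub_mul, one_mul]
    rw [this]
    omega
  have h2 : (W - 1) * (P * s) ≤ (W - 1) * ((s + 1) * (N - 1)) := by
    calc (W - 1) * (P * s) = (W - 1) * P * s := by ring
      _ ≤ (Q ^ d - 1) * s := Nat.mul_le_mul_right _ h1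
      _ ≤ (s + 1) * (N - 1) * (W - 1) := hineq
      _ = (W - 1) * ((s + 1) * (N - 1)) := by ring
  have h3 : P * s ≤ (s + 1) * (N - 1) := Nat.le_of_mul_le_mul_left h2 (by omega)
  -- `2 P < 3 d^2`
  have h4 : 2 * P * s < 3 * d ^ 2 * s := by
    have : (s + 1) * (N - 1) < (s + 1) * d ^ 2 := by
      apply Nat.mul_lt_mul_of_pos_left _ (by omega)
      have : 1 ≤ d ^ 2 := Nat.one_le_pow _ _ (by omega)
      omega
    have h5 : 2 * (s + 1) ≤ 3 * s := by omega
    calc 2 * P * s = 2 * (P * s) := by ring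
      _ ≤ 2 * ((s + 1) * (N - 1)) := Nat.mul_le_mul_left _ h3
      _ < 2 * ((s + 1) * d ^ 2) := by omega
      _ = (2 * (s + 1)) * d ^ 2 := by ring
      _ ≤ (3 * s) * d ^ 2 := Nat.mul_le_mul_right _ h5
      _ = 3 * d ^ 2 * s := by ring
  have h6 : 2 * P < 3 * d ^ 2 := Nat.lt_of_mul_lt_mul_right h4
  -- `W^(2r) ≤ P^3`
  have h7 : (Q ^ d) ^ 2 ≤ P ^ 3 := by
    rw [← hW, hP, ← pow_mul, ← pow_mul]
    exact Nat.pow_le_pow_right (by omega) (by omega)
  have h8 : 16 ^ d ≤ (Q ^ d) ^ 2 := by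
    have : (16 : ℕ) ^ d = (4 ^ d) ^ 2 := by rw [← pow_mul, mul_comm, pow_mul]; norm_num
    rw [this]
    exact Nat.pow_le_pow_left (Nat.pow_le_pow_left (by omega) d) 2
  have h9 : 8 * 16 ^ d ≤ (2 * P) ^ 3 := by
    rw [mul_pow]
    norm_num
    exact h8.trans h7
  have h10 : (2 * P) ^ 3 < (3 * d ^ 2) ^ 3 := Nat.pow_lt_pow_left h6 (by norm_num)
  have h11 : (3 * d ^ 2) ^ 3 = 27 * d ^ 6 := by ring
  have := pow6_le d hd
  omega

lemma le_of_pow_lt {q b M c : ℕ} (h : q ^ b ≤ M) (hc : M < (c + 1) ^ b) : q ≤ c := by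
  by_contra hcon
  have h1 : c + 1 ≤ q := by omega
  have := Nat.pow_le_pow_left h1 b
  omega

lemma three_pow_gt (b : ℕ) (hb : 5 ≤ b) : 8 * b ^ 2 < 3 ^ b := by
  induction b, hb using Nat.le_induction with
  | base => norm_num
  | succ b hb ih =>
    have h1 : 8 * (b + 1) ^ 2 ≤ 3 * (8 * b ^ 2) := by nlinarith
    calc 8 * (b + 1) ^ 2 ≤ 3 * (8 * b ^ 2) := h1
      _ < 3 * 3 ^ b := by omega
      _ = 3 ^ (b + 1) := by ring

/-- the case `r = 2` of the counting inequality. -/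
lemma two_case (q a d W N : ℕ) (hq : q.Prime) (ha : 1 ≤ a) (hd : 2 ≤ d) (hodd : 2 ∣ q ^ a - 1)
    (hW : W ^ 2 = (q ^ a) ^ d) (hN : N ≤ d ^ 2) (hN1 : 1 ≤ N)
    (hineq : ((q ^ a) ^ d - 1) * (2 - 1) ≤ 2 * (N - 1) * (W - 1)) :
    a = 1 ∧ ((q = 3 ∧ (d = 2 ∨ d = 4 ∨ d = 6 ∨ d = 8)) ∨ (q = 5 ∧ (d = 2 ∨ d = 4))) := by
  have hq3 : 3 ≤ q := by
    have h2 := hq.two_le
    rcases Nat.lt_or_ge 2 q with h | h
    · exact h
    · exfalso
      have hq2 : q = 2 := by omega
      subst hq2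
      obtain ⟨k, hk⟩ := hodd
      have h1 : 1 ≤ 2 ^ a := Nat.one_le_pow _ _ (by norm_num)
      have h3 : 2 ^ a = 2 * 2 ^ (a - 1) := by
        rw [← pow_succ']
        congr 1
        omega
      omega
  have hV4 : 4 ≤ (q ^ a) ^ d := by
    have h1 : 2 ≤ q ^ a := by
      calc 2 ≤ q := hq.two_le
        _ = q ^ 1 := (pow_one q).symm
        _ ≤ q ^ a := Nat.pow_le_pow_right (by omega) ha
    calc 4 = 2 ^ 2 := by norm_num
      _ ≤ (q ^ a) ^ 2 := Nat.pow_le_pow_left h1 2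
      _ ≤ (q ^ a) ^ d := Nat.pow_le_pow_right (by omega) hd
  have hW2 : 2 ≤ W := by
    by_contra h
    have h1 : W ≤ 1 := by omega
    have h2 : W ^ 2 ≤ 1 := by
      calc W ^ 2 ≤ 1 ^ 2 := Nat.pow_le_pow_left h1 2
        _ = 1 := one_pow 2
    omega
  -- `W + 1 ≤ 2 (N - 1)`
  have h1 : (W - 1) * (W + 1) ≤ (W - 1) * (2 * (N - 1)) := by
    have h2 : (W - 1) * (W + 1) = (q ^ a) ^ d - 1 := by
      rw [← hW]
      have : W ^ 2 = (W - 1) * (W + 1) + 1 := by
        obtain ⟨w, rfl⟩ : ∃ w, W = w + 1 := ⟨W - 1, by omega⟩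
        simp only [Nat.add_sub_cancel]
        ring
      omega
    rw [h2]
    calc (q ^ a) ^ d - 1 = ((q ^ a) ^ d - 1) * (2 - 1) := by norm_num
      _ ≤ 2 * (N - 1) * (W - 1) := hineq
      _ = (W - 1) * (2 * (N - 1)) := by ring
  have h3 : W + 1 ≤ 2 * (N - 1) := Nat.le_of_mul_le_mul_left h1 (by omega)
  -- `W = q ^ b`
  have hWdvd : W ∣ q ^ (a * d) := by
    rw [pow_mul, ← hW]
    exact dvd_pow_self W (by norm_num)
  obtain ⟨b, hb, rfl⟩ := (Nat.dvd_prime_pow hq).1 hWdvd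
  have h2b : 2 * b = a * d := by
    rw [← pow_mul, ← pow_mul] at hW
    have := Nat.pow_right_injective hq.two_le hW
    omega
  have hdb : d ≤ 2 * b := by
    rw [h2b]
    exact Nat.le_mul_of_pos_left d (by omega)
  have hb1 : 1 ≤ b := by omega
  have hd2 : d ^ 2 ≤ 4 * b ^ 2 := by
    calc d ^ 2 ≤ (2 * b) ^ 2 := Nat.pow_le_pow_left hdb 2
      _ = 4 * b ^ 2 := by ring
  have h3b : 3 ^ b ≤ q ^ b := Nat.pow_le_pow_left hq3 b
  have hb4 : b ≤ 4 := by
    by_contra h
    have := three_pow_gt b (by omega)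
    omega
  have hqb : q ^ b + 1 ≤ 2 * (d ^ 2 - 1) := by omega
  have hq5 : q ≤ 5 := by
    interval_cases b
    · rw [pow_one] at hqb; omega
    · exact le_of_pow_lt (b := 2) (M := 31) (c := 5) (by omega) (by norm_num)
    · exact le_of_pow_lt (b := 3) (M := 71) (c := 5) (by omega) (by norm_num)
    · exact le_of_pow_lt (b := 4) (M := 127) (c := 5) (by omega) (by norm_num)
  interval_cases q
  · -- q = 3
    interval_cases b
    · have : d = 2 := by omega
      subst this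
      refine ⟨by omega, Or.inl ⟨rfl, Or.inl rfl⟩⟩
    · have hd4 : d ≤ 4 := by omega
      interval_cases d
      · exfalso; norm_num at hqb
      · exfalso; omega
      · refine ⟨by omega, Or.inl ⟨rfl, Or.inr (Or.inl rfl)⟩⟩
    · have hd6 : d ≤ 6 := by omega
      interval_cases d
      · exfalso; norm_num at hqb
      · exfalso; norm_num at hqb
      · exfalso; omega
      · exfalso; omega
      · refine ⟨by omega, Or.inl ⟨rfl, Or.inr (Or.inr (Or.inl rfl))⟩⟩
    · have hd8 : d ≤ 8 := by omega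
      interval_cases d
      · exfalso; norm_num at hqb
      · exfalso; omega
      · exfalso; norm_num at hqb
      · exfalso; omega
      · exfalso; omega
      · exfalso; omega
      · refine ⟨by omega, Or.inl ⟨rfl, Or.inr (Or.inr (Or.inr rfl))⟩⟩
  · exfalso; norm_num at hq
  · -- q = 5
    interval_cases b
    · have : d = 2 := by omega
      subst this
      refine ⟨by omega, Or.inr ⟨rfl, Or.inl rfl⟩⟩
    · have hd4 : d ≤ 4 := by omega
      interval_cases d
      · exfalso; norm_num at hqb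
      · exfalso; omega
      · refine ⟨by omega, Or.inr ⟨rfl, Or.inr rfl⟩⟩
    · have hd6 : d ≤ 6 := by omega
      exfalso
      have : d ^ 2 ≤ 36 := by nlinarith
      norm_num at hqb
      omega
    · have hd8 : d ≤ 8 := by omega
      exfalso
      have : d ^ 2 ≤ 64 := by nlinarith
      norm_num at hqb
      omega

/-- **Numerics of the non-semiregular case.** -/
lemma nonsemireg (q a d r W N : ℕ) (hq : q.Prime) (ha : 1 ≤ a) (hd : 2 ≤ d) (hr : r.Prime)
    (hrQ : r ∣ q ^ a - 1) (hW : W ^ r = (q ^ a) ^ d) (hN : N ≤ d ^ 2) (hN1 : 1 ≤ N)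
    (hineq : ((q ^ a) ^ d - 1) * (r - 1) ≤ r * (N - 1) * (W - 1)) :
    r = 2 ∧ a = 1 ∧
      ((q = 3 ∧ (d = 2 ∨ d = 4 ∨ d = 6 ∨ d = 8)) ∨ (q = 5 ∧ (d = 2 ∨ d = 4))) := by
  have hQ2 : 2 ≤ q ^ a := by
    calc 2 ≤ q := hq.two_le
      _ = q ^ 1 := (pow_one q).symm
      _ ≤ q ^ a := Nat.pow_le_pow_right (by have := hq.two_le; omega) ha
  rcases Nat.lt_or_ge r 3 with h | h
  · have hr2 : r = 2 := by have := hr.two_le; omega
    subst hr2
    exact ⟨rfl, two_case q a d W N hq ha hd hrQ hW hN hN1 hineq⟩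
  · exfalso
    have hrle : r ≤ q ^ a - 1 := Nat.le_of_dvd (by omega) hrQ
    exact no_odd (q ^ a) d r W N hd h (by omega) hW hN hN1 hineq

/-- **Exclusion numerics.** -/
lemma excl (N f ℓ : ℕ) (hN : N ≤ 64) (hfN : f ∣ N) (hf : f < N) (hℓ : ℓ ∣ N - f)
    (h2 : ∀ p : ℕ, p.Prime → p ∣ N → p = 2) (hℓ13 : ℓ = 13 ∨ ℓ = 41) : False := by
  have hN0 : N ≠ 0 := by omega
  have hNpow := Nat.eq_prime_pow_of_unique_prime_dvd hN0 (fun {d} hd hdN => h2 d hd hdN)
  set i := N.primeFactorsList.length with hi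
  have hi6 : i ≤ 6 := by
    by_contra hcon
    have : 2 ^ 7 ≤ 2 ^ i := Nat.pow_le_pow_right (by norm_num) (by omega)
    rw [← hNpow] at this
    omega
  rw [hNpow] at hfN hf hℓ
  obtain ⟨j, hj, rfl⟩ := (Nat.dvd_prime_pow Nat.prime_two).1 hfN
  have hji : j < i := by
    rcases Nat.lt_or_ge j i with h | h
    · exact h
    · exfalso
      have : i = j := by omega
      rw [this] at hf
      exact lt_irrefl _ hf
  clear_value i
  rcases hℓ13 with rfl | rfl <;> interval_cases i <;> interval_cases j <;> norm_num at hℓ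

lemma three_pow_gt' (a : ℕ) (ha : 5 ≤ a) : 24 * a < 3 ^ a := by
  induction a, ha using Nat.le_induction with
  | base => norm_num
  | succ a ha ih =>
    calc 24 * (a + 1) ≤ 3 * (24 * a) := by omega
      _ < 3 * 3 ^ a := by omega
      _ = 3 ^ (a + 1) := by ring

/-- **Numerics of the semiregular case.** -/
lemma semireg (q a d t k B : ℕ) (hq : q.Prime) (ha : 1 ≤ a) (hd : 2 ≤ d) (ht : t ∣ a)
    (hk : k ∣ 6) (hB : B ∣ q ^ a - 1) (hB2 : 2 ∣ B)
    (hdiv : (q ^ a) ^ d - 1 ∣ t * (k * (4 * B))) :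
    (q ^ a) ^ d = 9 ∨ (q ^ a) ^ d = 25 ∨ (q ^ a) ^ d = 49 ∨ (q ^ a) ^ d = 121 ∨
      (q ^ a) ^ d = 529 := by
  have hodd : 2 ∣ q ^ a - 1 := hB2.trans hB
  have hq3 : 3 ≤ q := by
    have h2 := hq.two_le
    rcases Nat.lt_or_ge 2 q with h | h
    · exact h
    · exfalso
      have hq2 : q = 2 := by omega
      subst hq2
      obtain ⟨k, hk⟩ := hodd
      have h1 : 1 ≤ 2 ^ a := Nat.one_le_pow _ _ (by norm_num)
      have h3 : 2 ^ a = 2 * 2 ^ (a - 1) := by
        rw [← pow_succ']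
        congr 1
        omega
      omega
  have hQ3 : 3 ≤ q ^ a := by
    calc 3 ≤ q := hq3
      _ = q ^ 1 := (pow_one q).symm
      _ ≤ q ^ a := Nat.pow_le_pow_right (by omega) ha
  have hdiv2 : (q ^ a) ^ d - 1 ∣ 24 * a * (q ^ a - 1) := by
    refine hdiv.trans ?_
    have h1 : t * (k * (4 * B)) ∣ a * (6 * (4 * (q ^ a - 1))) :=
      mul_dvd_mul ht (mul_dvd_mul hk (mul_dvd_mul_left 4 hB))
    have h2 : a * (6 * (4 * (q ^ a - 1))) = 24 * a * (q ^ a - 1) := by ring
    rwa [h2] at h1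
  have hle : (q ^ a) ^ d - 1 ≤ 24 * a * (q ^ a - 1) :=
    Nat.le_of_dvd (Nat.mul_pos (by omega) (by omega)) hdiv2
  -- `Q^(d-1) ≤ 24 a`
  obtain ⟨e, rfl⟩ : ∃ e, d = e + 1 := ⟨d - 1, by omega⟩
  have he : 1 ≤ e := by omega
  have hQe : (q ^ a) ^ e ≤ 24 * a := by
    have h1 : (q ^ a - 1) * (q ^ a) ^ e ≤ (q ^ a) ^ (e + 1) - 1 := by
      rw [pow_succ, Nat.sub_mul, one_mul, mul_comm ((q ^ a) ^ e) (q ^ a)]
      have : 1 ≤ (q ^ a) ^ e := Nat.one_le_pow _ _ (by omega)
      omega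
    have h2 : (q ^ a - 1) * (q ^ a) ^ e ≤ (q ^ a - 1) * (24 * a) := by
      calc (q ^ a - 1) * (q ^ a) ^ e ≤ (q ^ a) ^ (e + 1) - 1 := h1
        _ ≤ 24 * a * (q ^ a - 1) := hle
        _ = (q ^ a - 1) * (24 * a) := by ring
    exact Nat.le_of_mul_le_mul_left h2 (by omega)
  have hQ1 : q ^ a ≤ (q ^ a) ^ e := by
    calc q ^ a = (q ^ a) ^ 1 := (pow_one _).symm
      _ ≤ (q ^ a) ^ e := Nat.pow_le_pow_right (by omega) he
  have ha4 : a ≤ 4 := by
    by_contra h
    have h1 := three_pow_gt' a (by omega)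
    have h2 : 3 ^ a ≤ q ^ a := Nat.pow_le_pow_left hq3 a
    omega
  have h3e : 3 ^ e ≤ (q ^ a) ^ e := Nat.pow_le_pow_left hQ3 e
  have he4 : e ≤ 4 := by
    by_contra h
    have h1 : 3 ^ 5 ≤ 3 ^ e := Nat.pow_le_pow_right (by norm_num) (by omega)
    norm_num at h1
    omega
  rw [← pow_mul] at hQe
  interval_cases a
  · -- a = 1
    simp only [pow_one, one_mul, mul_one] at *
    have he2 : e ≤ 2 := by
      by_contra h
      have h1 : 3 ^ 3 ≤ 3 ^ e := Nat.pow_le_pow_right (by norm_num) (by omega)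
      norm_num at h1
      omega
    interval_cases e
    · have hq24 : q ≤ 24 := by simpa using hQe
      interval_cases q <;>
        first
        | (exfalso; norm_num at hq; done)
        | (exfalso; norm_num at hdiv2; done)
        | norm_num
    · have hq4 : q ≤ 4 := le_of_pow_lt (b := 2) (M := 24) (c := 4) (by simpa using hQe) (by norm_num)
      interval_cases q <;>
        first
        | (exfalso; norm_num at hq; done)
        | (exfalso; norm_num at hdiv2; done)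
        | norm_num
  · -- a = 2
    have he1 : e ≤ 1 := by
      by_contra h
      have h1 : 3 ^ (2 * 2) ≤ q ^ (2 * e) :=
        (Nat.pow_le_pow_left hq3 _).trans (Nat.pow_le_pow_right (by omega) (by omega))
      norm_num at h1
      omega
    interval_cases e
    have hq6 : q ≤ 6 := le_of_pow_lt (b := 2) (M := 48) (c := 6) (by simpa using hQe) (by norm_num)
    interval_cases q <;>
      first
      | (exfalso; norm_num at hq; done)
      | (exfalso; norm_num at hdiv2; done)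
      | norm_num
  · -- a = 3
    have he1 : e ≤ 1 := by
      by_contra h
      have h1 : 3 ^ (3 * 2) ≤ q ^ (3 * e) :=
        (Nat.pow_le_pow_left hq3 _).trans (Nat.pow_le_pow_right (by omega) (by omega))
      norm_num at h1
      omega
    interval_cases e
    have hq4 : q ≤ 4 := le_of_pow_lt (b := 3) (M := 72) (c := 4) (by simpa using hQe) (by norm_num)
    interval_cases q <;>
      first
      | (exfalso; norm_num at hq; done)
      | (exfalso; norm_num at hdiv2; done)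
      | norm_num
  · -- a = 4
    have he1 : e ≤ 1 := by
      by_contra h
      have h1 : 3 ^ (4 * 2) ≤ q ^ (4 * e) :=
        (Nat.pow_le_pow_left hq3 _).trans (Nat.pow_le_pow_right (by omega) (by omega))
      norm_num at h1
      omega
    interval_cases e
    have hq3' : q ≤ 3 := le_of_pow_lt (b := 4) (M := 96) (c := 3) (by simpa using hQe) (by norm_num)
    interval_cases q <;>
      first
      | (exfalso; norm_num at hq; done)
      | (exfalso; norm_num at hdiv2; done)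
      | norm_num

end Cfsg.Agent.Lib.Helper22.HupN
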