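import Mathlib
import Cfsg.Agent.Lib.Helper22.HupE
import Cfsg.Agent.Lib.Helper22.HupF
import Cfsg.Agent.Lib.Helper22.HupH
import Cfsg.Agent.Lib.Helper22.HupN

set_option autoImplicit false
set_option linter.unusedSectionVars false
set_option linter.unusedVariables false

namespace Cfsg.Agent.Lib.Helper22.HupM

open Cfsg.Agent.Lib.Helper22.ExtPrimA Cfsg.Agent.Lib.Helper22.NearA
open Cfsg.Agent.Lib.Helper22.HupA Cfsg.Agent.Lib.Helper22.HupB Cfsg.Agent.Lib.Helper22.HupD
open Cfsg.Agent.Lib.Helper22.HupE Cfsg.Agent.Lib.Helper22.HupF Cfsg.Agent.Lib.Helper22.HupG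
open Cfsg.Agent.Lib.Helper22.HupH
open scoped commutatorElement

variable {V : Type*} [AddCommGroup V] [Finite V] {G : Type*} [Group G] [Finite G]
variable {ρ : G →* AddMonoid.End V} {q : ℕ} {A E : Subgroup G}

/-- transitivity: `|V| - 1` divides `|G|`. -/
theorem card_dvd (tr : Tr ρ q) : Nat.card V - 1 ∣ Nat.card G := by
  classical
  obtain ⟨v₀, hv₀⟩ := tr.nontriv
  let _ : MulAction G V := MulAction.compHom V ρ
  have hsmul : ∀ (g : G) (v : V), g • v = ρ g v := fun g v => rfl
  have horb : MulAction.orbit G v₀ = {v : V | v ≠ 0} := by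
    ext v
    constructor
    · rintro ⟨g, rfl⟩
      show g • v₀ ≠ 0
      rw [hsmul]
      intro h
      apply hv₀
      have := congrArg (ρ g⁻¹) h
      rwa [rho_inv_apply, map_zero] at this
    · intro hv
      obtain ⟨g, hg⟩ := tr.trans v₀ v hv₀ hv
      exact ⟨g, hg⟩
  have h1 := MulAction.index_stabilizer G v₀
  have h2 : (MulAction.orbit G v₀).ncard = Nat.card V - 1 := by
    rw [horb, ← Nat.card_coe_set_eq]
    have := Fintype.ofFinite V
    have h3 : Fintype.card {v : V | v ≠ 0} = Fintype.card V - 1 := Set.card_ne_eq _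
    rw [← Nat.card_eq_fintype_card, ← Nat.card_eq_fintype_card] at h3
    exact h3
  rw [← h2, ← h1]
  exact Subgroup.index_dvd_card _

/-- the exclusion argument for `5^4`, `3^6`, `3^8`. -/
theorem excl_case (tr : Tr ρ q) (c : Cfg A E)
    (hGC : Nat.card G = Nat.card (Subgroup.centralizer (A : Set G))) {ℓ : ℕ} (hℓ : ℓ.Prime)
    (hℓV : ℓ ∣ Nat.card V - 1) (hℓA : ¬ ℓ ∣ Nat.card A) {N : ℕ}
    (hN : Nat.card E = Nat.card A * N) (hN64 : N ≤ 64)
    (h2 : ∀ p : ℕ, p.Prime → p ∣ Nat.card A → p = 2) (hℓ13 : ℓ = 13 ∨ ℓ = 41) : False := by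
  have : Fact ℓ.Prime := ⟨hℓ⟩
  have hℓG : ℓ ∣ Nat.card G := hℓV.trans (card_dvd tr)
  obtain ⟨g, hg⟩ := exists_prime_orderOf_dvd_card' ℓ hℓG
  have hCtop : Subgroup.centralizer (A : Set G) = ⊤ :=
    Subgroup.eq_top_of_card_eq _ hGC.symm
  have hgC : g ∈ Subgroup.centralizer (A : Set G) := by rw [hCtop]; trivial
  obtain ⟨F, hAF, hFE, hFne, hmod⟩ := c.ell_excl hℓ hg hgC hℓA
  obtain ⟨f, hf⟩ : Nat.card A ∣ Nat.card F := Subgroup.card_dvd_of_le hAF
  have hApos : 0 < Nat.card A := Nat.card_pos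
  have hFdvd : Nat.card F ∣ Nat.card E := Subgroup.card_dvd_of_le hFE
  have hfN : f ∣ N := by
    rw [hf, hN] at hFdvd
    exact Nat.dvd_of_mul_dvd_mul_left hApos hFdvd
  have hFlt : Nat.card F < Nat.card E := by
    have hle : Nat.card F ≤ Nat.card E := Nat.le_of_dvd Nat.card_pos hFdvd
    rcases Nat.lt_or_ge (Nat.card F) (Nat.card E) with h | h
    · exact h
    · exact absurd (Subgroup.eq_of_le_of_card_ge hFE h) hFne
  have hfltN : f < N := by
    rw [hf, hN] at hFlt
    exact Nat.lt_of_mul_lt_mul_left hFlt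
  have hℓNf : ℓ ∣ N - f := by
    have h1 : ℓ ∣ Nat.card E - Nat.card F :=
      (Nat.modEq_iff_dvd' hFlt.le).1 hmod.symm
    rw [hf, hN, ← Nat.mul_sub] at h1
    rcases (Nat.Prime.dvd_mul hℓ).1 h1 with h | h
    · exact absurd h hℓA
    · exact h
  have hN2 : ∀ p : ℕ, p.Prime → p ∣ N → p = 2 := by
    intro p hp hpN
    apply h2 p hp
    apply c.prime_dvd_card_A hp
    rw [hN]
    exact hpN.trans (dvd_mul_left _ _)
  exact Cfsg.Agent.Lib.Helper22.HupN.excl N f ℓ hN64 hfN hfltN hℓNf hN2 hℓ13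

/-- **Huppert's theorem** on solvable linear groups transitive on the nonzero vectors. -/
theorem main (tr : Tr ρ q) (hsolv : Group.IsSolvable G) :
    (∃ (F : Type) (_ : Field F) (_ : Fintype F) (e : V ≃+ F),
      ∀ g : G, ∃ (a : F) (σ : F ≃+* F), ∀ v : V, e (ρ g v) = a * σ (e v)) ∨
    Nat.card V ∈ ({9, 25, 49, 121, 529, 81} : Set ℕ) := by
  classical
  obtain ⟨A, E, c⟩ := exists_cfg hsolv
  obtain ⟨a, ha, hK, hV, hd0, hcyc, hAdvd, t, hta, hGt⟩ := tr.field_data c.A_normal c.A_comm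
  by_cases hd1 : Module.finrank (ringR ρ A) V = 1
  · left
    exact tr.semilinear c.A_normal c.A_comm hd1
  right
  have hq := tr.hq
  generalize hdd : Module.finrank (ringR ρ A) V = d at hV hd0 hd1
  have hd2 : 2 ≤ d := by omega
  have hdvd := card_dvd tr
  have hApos : 0 < Nat.card A := Nat.card_pos
  obtain ⟨N, hN⟩ : Nat.card A ∣ Nat.card E := Subgroup.card_dvd_of_le c.A_le_E
  have hNle : N ≤ d ^ 2 := by
    have := card_E_le tr c
    rw [hN, hdd] at this
    exact Nat.le_of_mul_le_mul_left this hApos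
  have hN1 : 1 ≤ N := by
    rcases Nat.eq_zero_or_pos N with h | h
    · exfalso
      rw [h, mul_zero] at hN
      have : 0 < Nat.card E := Nat.card_pos
      omega
    · exact h
  have hQ2 : 2 ≤ q ^ a := by
    calc 2 ≤ q := hq.two_le
      _ = q ^ 1 := (pow_one q).symm
      _ ≤ q ^ a := Nat.pow_le_pow_right hq.pos ha
  by_cases hsr : ∀ x ∈ E, ∀ v : V, v ≠ 0 → ρ x v = v → x = 1
  · -- the semiregular case
    have hU : ∀ ℓ : ℕ, ℓ.Prime → ℓ ∣ Nat.card A → ∀ w ∈ E, w ^ ℓ = 1 → w ∈ A :=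
      fun ℓ hℓ hℓA w hw hwl => mem_A_of_pow_eq_one tr c hsr hℓ hℓA hw hwl
    by_cases hEA : E ≤ A
    · exfalso
      have hCA : Subgroup.centralizer (A : Set G) ≤ A :=
        (Subgroup.centralizer_le hEA).trans c.cent_E
      have h1 : Nat.card (Subgroup.centralizer (A : Set G)) ≤ Nat.card A :=
        Nat.le_of_dvd hApos (Subgroup.card_dvd_of_le hCA)
      have h2 : Nat.card A ≤ q ^ a - 1 := Nat.le_of_dvd (by omega) hAdvd
      have h3 : t ≤ a := Nat.le_of_dvd ha hta
      have h4 : Nat.card G ≤ a * (q ^ a - 1) := by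
        rw [hGt]
        exact Nat.mul_le_mul h3 (h1.trans h2)
      have h5 : (q ^ a) ^ d - 1 ≤ a * (q ^ a - 1) := by
        rw [← hV]
        exact (Nat.le_of_dvd Nat.card_pos hdvd).trans h4
      have h6 : (q ^ a) ^ 2 ≤ (q ^ a) ^ d := Nat.pow_le_pow_right (by omega) hd2
      have h7 : a < q ^ a := by
        calc a < 2 ^ a := Nat.lt_two_pow_self
          _ ≤ q ^ a := Nat.pow_le_pow_left hq.two_le a
      have h8 : a * (q ^ a - 1) < (q ^ a) * (q ^ a - 1) :=
        Nat.mul_lt_mul_of_pos_right h7 (by omega)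
      have h9 : (q ^ a) * (q ^ a - 1) = (q ^ a) ^ 2 - q ^ a := by
        rw [Nat.mul_sub, mul_one, pow_two]
      omega
    · obtain ⟨x, y, hLx, hLy, hxy, hz2, hnf, hcard⟩ := structure_four c hU hcyc hEA
      obtain ⟨k, hk6, hCk⟩ := card_C c hcyc hLx hLy hxy hz2 hnf hcard
      have h2A : 2 ∣ Nat.card A := lev_dvd c Nat.prime_two hLx
      have hGcard : Nat.card G = t * (k * (4 * Nat.card A)) := by
        rw [hGt, hCk, hcard]
      have hnum := Cfsg.Agent.Lib.Helper22.HupN.semireg q a d t k (Nat.card A) hq ha hd2 hta hk6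
        hAdvd h2A (by rw [← hV, ← hGcard]; exact hdvd)
      rw [hV]
      simp only [Set.mem_insert_iff, Set.mem_singleton_iff]
      rcases hnum with h | h | h | h | h <;> simp [h]
  · -- the non-semiregular case
    push Not at hsr
    obtain ⟨x, hxE, v₀, hv₀, hfix, hx1⟩ := hsr
    have hox : orderOf x ≠ 1 := by
      intro h
      exact hx1 (orderOf_eq_one_iff.1 h)
    obtain ⟨r, hr, hrx⟩ := Nat.exists_prime_and_dvd hox
    obtain ⟨x₀, hx₀def⟩ : ∃ x₀ : G, x₀ = x ^ (orderOf x / r) := ⟨_, rfl⟩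
    have hor : orderOf x₀ = r := by
      rw [hx₀def]
      exact orderOf_pow_orderOf_div (orderOf_pos x).ne' hrx
    have hx₀E : x₀ ∈ E := by rw [hx₀def]; exact E.pow_mem hxE _
    have hfix₀ : ρ x₀ v₀ = v₀ := by rw [hx₀def]; exact rho_pow_fix hfix _
    obtain ⟨W, hWr, hineq⟩ := count_ineq tr c hx₀E hr hor hv₀ hfix₀
    have hrE : r ∣ Nat.card E := by
      have h1 : orderOf (⟨x₀, hx₀E⟩ : E) = orderOf x₀ := by
        rw [← Subgroup.orderOf_coe]
      rw [← hor, ← h1]
      exact orderOf_dvd_natCard _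
    have hrA : r ∣ Nat.card A := c.prime_dvd_card_A hr hrE
    have hineq' : ((q ^ a) ^ d - 1) * (r - 1) ≤ r * (N - 1) * (W - 1) := by
      rw [hN, hV] at hineq
      have h1 : Nat.card A * N - Nat.card A = Nat.card A * (N - 1) := by
        rw [Nat.mul_sub, mul_one]
      rw [h1] at hineq
      have h2 : Nat.card A * (((q ^ a) ^ d - 1) * (r - 1)) ≤
          Nat.card A * (r * (N - 1) * (W - 1)) := by
        calc Nat.card A * (((q ^ a) ^ d - 1) * (r - 1))
            = ((q ^ a) ^ d - 1) * (r - 1) * Nat.card A := by ring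
          _ ≤ r * (Nat.card A * (N - 1)) * (W - 1) := hineq
          _ = Nat.card A * (r * (N - 1) * (W - 1)) := by ring
      exact Nat.le_of_mul_le_mul_left h2 hApos
    rw [hV] at hWr
    obtain ⟨hr2, ha1, hcases⟩ := Cfsg.Agent.Lib.Helper22.HupN.nonsemireg q a d r W N hq ha hd2 hr
      (hrA.trans hAdvd) hWr hNle hN1 hineq'
    subst ha1
    have ht1 : t = 1 := Nat.dvd_one.1 hta
    rw [ht1, one_mul] at hGt
    rw [pow_one] at hV hAdvd
    simp only [Set.mem_insert_iff, Set.mem_singleton_iff]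
    rcases hcases with ⟨hq3, hd⟩ | ⟨hq5, hd⟩
    · subst hq3
      have h2 : ∀ p : ℕ, p.Prime → p ∣ Nat.card A → p = 2 := by
        intro p hp hpA
        have : p ∣ 2 := hpA.trans (by simpa using hAdvd)
        exact (Nat.prime_dvd_prime_iff_eq hp Nat.prime_two).1 this
      have hA2 : Nat.card A ≤ 2 := Nat.le_of_dvd (by norm_num) (by simpa using hAdvd)
      rcases hd with rfl | rfl | rfl | rfl
      · rw [hV]; norm_num
      · rw [hV]; norm_num
      · exfalso
        apply excl_case tr c hGt (ℓ := 13) (by norm_num) (by rw [hV]; norm_num) _ hN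
          (by omega) h2 (Or.inl rfl)
        intro h
        have := Nat.le_of_dvd hApos h
        omega
      · exfalso
        apply excl_case tr c hGt (ℓ := 41) (by norm_num) (by rw [hV]; norm_num) _ hN
          (by omega) h2 (Or.inr rfl)
        intro h
        have := Nat.le_of_dvd hApos h
        omega
    · subst hq5
      have h2 : ∀ p : ℕ, p.Prime → p ∣ Nat.card A → p = 2 := by
        intro p hp hpA
        have h4 : p ∣ 2 ^ 2 := hpA.trans (by simpa using hAdvd)
        exact (Nat.prime_dvd_prime_iff_eq hp Nat.prime_two).1 (hp.dvd_of_dvd_pow h4)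
      have hA4 : Nat.card A ≤ 4 := Nat.le_of_dvd (by norm_num) (by simpa using hAdvd)
      rcases hd with rfl | rfl
      · rw [hV]; norm_num
      · exfalso
        apply excl_case tr c hGt (ℓ := 13) (by norm_num) (by rw [hV]; norm_num) _ hN
          (by omega) h2 (Or.inl rfl)
        intro h
        have := Nat.le_of_dvd hApos h
        omega

end Cfsg.Agent.Lib.Helper22.HupM
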