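import Mathlib
import Cfsg.Agent.Lib.Helper10.O4320.Defs
import Cfsg.Agent.Lib.Helper25.CharLinear
import Cfsg.Agent.Lib.Helper25.CharOrth

/-!
# Project O4320 (S0977), piece COL: `col_ge` (column orthogonality at `t`).
-/

set_option autoImplicit false
set_option linter.unusedVariables false
set_option linter.unusedSectionVars false

namespace Cfsg.Agent.Lib.Helper10.O4320

open Classical
open scoped ComplexConjugate
open Cfsg.Agent.Lib.helper7.BR Cfsg.Agent.Lib.Helper25 Cfsg.Agent.Lib.Helper29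

universe u

section generic

variable {G : Type u} [Group G] [Fintype G] {p : ℕ} [Fact p.Prime]

/-- the sum of `|χ t|²` over all irreducible characters is `|C_G(t)|`. -/
theorem o4320col_sum (t : G) [Fintype (Cfsg.IrrCharacter G)] :
    ∑ χ : Cfsg.IrrCharacter G, Complex.normSq ((χ : G → ℂ) t) =
      (Nat.card ↥(Subgroup.centralizer ({t} : Set G)) : ℝ) := by
  have h := irr_column_orthogonality (G := G) t t
  rw [if_pos (IsConj.refl t)] at h
  have h1 : ∀ χ : Cfsg.IrrCharacter G, (χ : G → ℂ) t * conj ((χ : G → ℂ) t) =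
      ((Complex.normSq ((χ : G → ℂ) t) : ℝ) : ℂ) := fun χ => Complex.mul_conj _
  rw [Finset.sum_congr rfl (fun χ _ => h1 χ), ← Complex.ofReal_sum] at h
  exact_mod_cast h

/-- COL [S-M]: column orthogonality at `t` bounds the centraliser from below: `∑_{χ ∈ B} k_χ² ≤ |C_G(t)|` if `χ t = k_χ ∈ ℤ` for `χ ∈ B`. -/
theorem col_ge (t : G) (B : Finset (Cfsg.IrrCharacter G)) (k : Cfsg.IrrCharacter G → ℤ)
    (hk : ∀ χ ∈ B, (χ : G → ℂ) t = (k χ : ℂ)) :
    ∑ χ ∈ B, (k χ) ^ 2 ≤ (Nat.card ↥(Subgroup.centralizer ({t} : Set G)) : ℤ) := by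
  haveI : Fintype (Cfsg.IrrCharacter G) := Fintype.ofFinite _
  have h2 := o4320col_sum t
  have h3 : ∑ χ ∈ B, Complex.normSq ((χ : G → ℂ) t) ≤
      ∑ χ : Cfsg.IrrCharacter G, Complex.normSq ((χ : G → ℂ) t) :=
    Finset.sum_le_sum_of_subset_of_nonneg (Finset.subset_univ _)
      (fun χ _ _ => Complex.normSq_nonneg _)
  have h4 : ∑ χ ∈ B, Complex.normSq ((χ : G → ℂ) t) = ((∑ χ ∈ B, (k χ) ^ 2 : ℤ) : ℝ) := by
    rw [Int.cast_sum]
    refine Finset.sum_congr rfl fun χ hχ => ?_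
    rw [hk χ hχ, Int.cast_pow]
    have : ((k χ : ℤ) : ℂ) = (((k χ : ℤ) : ℝ) : ℂ) := by norm_cast
    rw [this, Complex.normSq_ofReal]
    ring
  rw [h4, h2] at h3
  exact_mod_cast h3

end generic

end Cfsg.Agent.Lib.Helper10.O4320
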