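import Mathlib
import Cfsg.Agent.Lib.Helper10.O4320.Defs
import Cfsg.Agent.Lib.Helper25.CharLinear

/-!
# Project O4320, piece MOD4 (generic): in a perfect group the degree and the value at an involution of a
character are congruent modulo 4.
-/

set_option autoImplicit false
set_option linter.unusedVariables false
set_option linter.unusedSectionVars false

namespace Cfsg.Agent.Lib.Helper10.O4320

open Classical
open scoped ComplexConjugate
open Cfsg.Agent.Lib.helper7.BR Cfsg.Agent.Lib.Helper25 Cfsg.Agent.Lib.Helper29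

universe u

/-- a multiset of signs: sum and product. -/
theorem o4320mod4_signs (R : Multiset ℂ) (h : ∀ z ∈ R, z = 1 ∨ z = -1) :
    ∃ m : ℕ, R.sum = (Multiset.card R : ℂ) - 2 * (m : ℂ) ∧ R.prod = (-1 : ℂ) ^ m := by
  induction R using Multiset.induction_on with
  | empty => exact ⟨0, by simp, by simp⟩
  | cons z R ih =>
    obtain ⟨m, h1, h2⟩ := ih (fun w hw => h w (Multiset.mem_cons_of_mem hw))
    rcases h z (Multiset.mem_cons_self z R) with hz | hz
    · refine ⟨m, ?_, ?_⟩
      · rw [Multiset.sum_cons, Multiset.card_cons, h1, hz]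
        push_cast
        ring
      · rw [Multiset.prod_cons, h2, hz, one_mul]
    · refine ⟨m + 1, ?_, ?_⟩
      · rw [Multiset.sum_cons, Multiset.card_cons, h1, hz]
        push_cast
        ring
      · rw [Multiset.prod_cons, h2, hz, pow_succ]
        ring

/-- an involutory complex matrix: trace and determinant. -/
theorem o4320mod4_mat (n : ℕ) (T : Matrix (Fin n) (Fin n) ℂ) (hT : T * T = 1) :
    ∃ m : ℕ, T.trace = (n : ℂ) - 2 * (m : ℂ) ∧ T.det = (-1 : ℂ) ^ m := by
  have hroots : ∀ z ∈ T.charpoly.roots, z = 1 ∨ z = -1 := by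
    intro z hz
    have hz0 : T.charpoly.eval z = 0 := by
      have := (Polynomial.mem_roots'.mp hz).2
      exact this
    rw [Matrix.eval_charpoly] at hz0
    have hprod : (Matrix.scalar (Fin n) z - T) * (Matrix.scalar (Fin n) z + T) =
        Matrix.scalar (Fin n) (z ^ 2 - 1) := by
      have hcomm : Matrix.scalar (Fin n) z * T = T * Matrix.scalar (Fin n) z :=
        (Matrix.scalar_commute z (fun r => Commute.all _ _) T).eq
      rw [sub_mul, mul_add, mul_add, hT, ← hcomm]
      rw [← map_mul, map_sub, map_one]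
      rw [show z * z = z ^ 2 from (sq z).symm]
      abel
    have hdet := congrArg Matrix.det hprod
    rw [Matrix.det_mul, hz0, zero_mul, Matrix.scalar_apply, Matrix.det_diagonal,
      Finset.prod_const, Finset.card_univ, Fintype.card_fin] at hdet
    have hn : n ≠ 0 := by
      rintro rfl
      simp at hdet
    have h2 : z ^ 2 - 1 = 0 := by
      have := hdet.symm
      exact (pow_eq_zero_iff hn).mp this
    have h3 : z ^ 2 = 1 := by linear_combination h2
    exact sq_eq_one_iff.mp h3 |>.imp id id
  obtain ⟨m, h1, h2⟩ := o4320mod4_signs T.charpoly.roots hroots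
  refine ⟨m, ?_, ?_⟩
  · rw [Matrix.trace_eq_sum_roots_charpoly, h1]
    have hc : Multiset.card T.charpoly.roots = n := by
      rw [IsAlgClosed.card_roots_eq_natDegree (p := T.charpoly), Matrix.charpoly_natDegree_eq_dim,
        Fintype.card_fin]
    rw [hc]
  · rw [Matrix.det_eq_prod_roots_charpoly, h2]

variable {G : Type u} [Group G] [Fintype G] {p : ℕ} [Fact p.Prime]

/-- the determinant of a representation of a perfect group is trivial. -/
theorem o4320mod4_det (hperf : commutator G = ⊤) (n : ℕ) (ρ : Representation ℂ G (Fin n → ℂ)) (y : G) :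
    LinearMap.det (ρ y) = 1 := by
  let φ : G →* ℂ := (LinearMap.det).comp ρ
  have hle : commutator G ≤ φ.ker := by
    rw [commutator_def, Subgroup.commutator_le]
    intro g _ h _
    rw [MonoidHom.mem_ker, commutatorElement_def, map_mul, map_mul, map_mul, mul_comm (φ g) (φ h),
      mul_assoc (φ h), ← map_mul, mul_inv_cancel, map_one, mul_one, ← map_mul, mul_inv_cancel, map_one]
  have hy : y ∈ φ.ker := hle (by rw [hperf]; exact Subgroup.mem_top y)
  exact MonoidHom.mem_ker.mp hy

theorem mod_four (hperf : commutator G = ⊤) (χ : G → ℂ) (hχ : Cfsg.IsCharacter G χ) (y : G) (hy : y * y = 1)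
    (d k : ℤ) (hd : χ 1 = (d : ℂ)) (hk : χ y = (k : ℂ)) : (4 : ℤ) ∣ d - k := by
  obtain ⟨n, ρ, rfl⟩ := hχ
  set T : Matrix (Fin n) (Fin n) ℂ := LinearMap.toMatrix' (ρ y) with hTdef
  have hT : T * T = 1 := by
    rw [hTdef, ← LinearMap.toMatrix'_mul, ← map_mul, hy, map_one, LinearMap.toMatrix'_one]
  obtain ⟨m, h1, h2⟩ := o4320mod4_mat n T hT
  have hdet : T.det = 1 := by
    rw [hTdef, LinearMap.det_toMatrix']
    exact o4320mod4_det hperf n ρ y
  have htr : ρ.character y = T.trace := by
    rw [Representation.character, LinearMap.trace_eq_matrix_trace ℂ (Pi.basisFun ℂ (Fin n)),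
      LinearMap.toMatrix_eq_toMatrix']
  have hone : ρ.character 1 = (n : ℂ) := by
    rw [Representation.char_one]
    simp
  rw [hdet] at h2
  have hev : Even m := by
    by_contra hodd
    rw [Nat.not_even_iff_odd] at hodd
    rw [hodd.neg_one_pow] at h2
    norm_num at h2
  obtain ⟨m', hm'⟩ := hev
  refine ⟨(m' : ℤ), ?_⟩
  have : ((d - k : ℤ) : ℂ) = ((4 * (m' : ℤ) : ℤ) : ℂ) := by
    push_cast
    rw [← hd, ← hk, hone, htr, h1, hm']
    push_cast
    ring
  exact_mod_cast this

end Cfsg.Agent.Lib.Helper10.O4320
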