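import Mathlib
import Cfsg.Agent.Lib.Helper10.O4320.Defs
import Cfsg.Agent.Lib.Helper25.CharLinear
import Cfsg.Agent.Lib.helper23.BRSUMH

/-!
# Project O4320, piece SUM2P (generic): the sum of a character over `P × ⟨y⟩`
(generalisation of `Helper24/O459SUM38.lean` to any odd prime `p`).
-/

set_option autoImplicit false
set_option linter.unusedVariables false
set_option linter.unusedSectionVars false

namespace Cfsg.Agent.Lib.Helper10.O4320

open Classical
open scoped ComplexConjugate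
open Cfsg.Agent.Lib.helper7.BR Cfsg.Agent.Lib.Helper25 Cfsg.Agent.Lib.Helper29

universe u

theorem o4320sum2p_ord (p : ℕ) (hp : p.Prime) (k : ℕ) (hk : k < 2 * p) (h0 : k ≠ 0) (hkp : k ≠ p) :
    p ∣ 2 * p / Nat.gcd (2 * p) k := by
  have hnd : ¬ p ∣ k := by
    rintro ⟨c, rfl⟩
    have hc2 : c < 2 := by
      by_contra hc
      rw [not_lt] at hc
      have : 2 * p ≤ p * c := by nlinarith
      omega
    interval_cases c
    · exact h0 (by ring)
    · exact hkp (by ring)
  set g := Nat.gcd (2 * p) k with hg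
  have hgk : g ∣ k := Nat.gcd_dvd_right _ _
  have hg2p : g ∣ 2 * p := Nat.gcd_dvd_left _ _
  have hcop : Nat.Coprime g p := by
    rw [Nat.coprime_comm]
    apply (Nat.Prime.coprime_iff_not_dvd hp).mpr
    intro hpg
    exact hnd (hpg.trans hgk)
  have hg2 : g ∣ 2 := hcop.dvd_of_dvd_mul_right hg2p
  obtain ⟨e, he⟩ := hg2
  have hgpos : 0 < g := Nat.pos_of_ne_zero (by rintro h; rw [h, zero_mul] at he; omega)
  refine ⟨e, ?_⟩
  apply Nat.div_eq_of_eq_mul_right hgpos
  rw [he]
  ring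

variable {G : Type u} [Group G] [Fintype G] {p : ℕ} [Fact p.Prime]

theorem o4320sum2p_sum (p : ℕ) (hp : 0 < p) (A B a : ℂ) :
    (∑ k ∈ Finset.range (2 * p), if k = 0 then A else if k = p then B else a) =
      A + B + (2 * (p : ℂ) - 2) * a := by
  have e : ∀ k ∈ Finset.range (2 * p), (if k = 0 then A else if k = p then B else a) =
      a + (if k = 0 then A - a else 0) + (if k = p then B - a else 0) := by
    intro k _
    by_cases h0 : k = 0
    · have hkp : k ≠ p := by omega
      rw [if_pos h0, if_pos h0, if_neg hkp]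
      ring
    · rw [if_neg h0, if_neg h0]
      by_cases hkp : k = p
      · rw [if_pos hkp, if_pos hkp]
        ring
      · rw [if_neg hkp, if_neg hkp]
        ring
  rw [Finset.sum_congr rfl e, Finset.sum_add_distrib, Finset.sum_add_distrib, Finset.sum_const,
    Finset.card_range, Finset.sum_ite_eq' (Finset.range (2 * p)) 0,
    Finset.sum_ite_eq' (Finset.range (2 * p)) p,
    if_pos (Finset.mem_range.mpr (by omega)), if_pos (Finset.mem_range.mpr (by omega))]
  rw [nsmul_eq_mul]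
  push_cast
  ring

theorem o4320sum2p_cyc (g y : G) (hg : orderOf g = 2 * p) (hgp : g ^ p = y) (χ : G → ℂ)
    (hχ : Cfsg.IsCharacter G χ) (a : ℤ)
    (hval : ∀ g : G, p ∣ orderOf g → χ g = (a : ℂ)) :
    ∃ m : ℕ, χ 1 + χ y + (2 * (p : ℂ) - 2) * (a : ℂ) = 2 * (p : ℂ) * (m : ℂ) := by
  have hpp : p.Prime := Fact.out
  obtain ⟨m, hm⟩ := sum_subgroup_nat (Subgroup.zpowers g) χ hχ
  refine ⟨m, ?_⟩
  rw [Nat.card_zpowers, hg] at hm
  have hfo : IsOfFinOrder g := isOfFinOrder_of_finite g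
  have e1 : ∑ x : ↥(Subgroup.zpowers g), χ (x : G) = ∑ n : Fin (orderOf g), χ (g ^ (n : ℕ)) := by
    symm
    apply Fintype.sum_equiv (finEquivZPowers hfo)
    intro n
    rw [finEquivZPowers_apply]
  rw [e1, Fin.sum_univ_eq_sum_range (fun k => χ (g ^ k)) (orderOf g), hg] at hm
  have e2 : ∀ k ∈ Finset.range (2 * p), χ (g ^ k) =
      if k = 0 then χ 1 else if k = p then χ y else (a : ℂ) := by
    intro k hk
    rw [Finset.mem_range] at hk
    by_cases h0 : k = 0
    · rw [if_pos h0, h0, pow_zero]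
    rw [if_neg h0]
    by_cases hkp : k = p
    · rw [if_pos hkp, hkp, hgp]
    rw [if_neg hkp]
    apply hval
    rw [orderOf_pow' g h0, hg]
    exact o4320sum2p_ord p hpp k hk h0 hkp
  rw [Finset.sum_congr rfl e2, o4320sum2p_sum p hpp.pos] at hm
  rw [hm]
  push_cast
  ring

theorem sum_two_p (hodd : p ≠ 2) (P : Sylow p G) (hP : Nat.card ↥(P : Subgroup G) = p) (y : G) (hy : orderOf y = 2)
    (hyc : y ∈ cen P) (χ : G → ℂ) (hχ : Cfsg.IsCharacter G χ) (a : ℤ)
    (hval : ∀ g : G, p ∣ orderOf g → χ g = (a : ℂ)) :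
    ∃ m : ℕ, χ 1 + χ y + (2 * (p : ℂ) - 2) * (a : ℂ) = 2 * (p : ℂ) * (m : ℂ) := by
  have hpp : p.Prime := Fact.out
  obtain ⟨x, hx⟩ : ∃ x : ↥(P : Subgroup G), orderOf x = p :=
    exists_prime_orderOf_dvd_card' p (by rw [hP])
  have hx' : orderOf (x : G) = p := by rw [Subgroup.orderOf_coe, hx]
  have hcomm : Commute (x : G) y := by
    have := (Subgroup.mem_centralizer_iff.mp hyc) (x : G) x.2
    exact this
  have hcop : Nat.Coprime p 2 := by
    apply (Nat.Prime.coprime_iff_not_dvd hpp).mpr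
    intro h2
    exact hodd ((Nat.prime_dvd_prime_iff_eq hpp Nat.prime_two).mp h2)
  have hord : orderOf ((x : G) * y) = 2 * p := by
    rw [hcomm.orderOf_mul_eq_mul_orderOf_of_coprime (by rw [hx', hy]; exact hcop), hx', hy, mul_comm]
  have hy2 : y ^ 2 = 1 := by rw [← hy, pow_orderOf_eq_one]
  have hxp : (x : G) ^ p = 1 := by
    have := pow_orderOf_eq_one (x : G)
    rwa [hx'] at this
  have hpodd : Odd p := hpp.odd_of_ne_two hodd
  obtain ⟨c, hc⟩ := hpodd
  have hyp : y ^ p = y := by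
    rw [hc, pow_succ, pow_mul, hy2, one_pow, one_mul]
  have hgp : ((x : G) * y) ^ p = y := by
    rw [hcomm.mul_pow, hxp, one_mul, hyp]
  exact o4320sum2p_cyc ((x : G) * y) y hord hgp χ hχ a hval

end Cfsg.Agent.Lib.Helper10.O4320
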