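import Mathlib
import Cfsg.Agent.Lib.helper15.PSL.Defs
import Cfsg.Agent.S0840
import Cfsg.Agent.Lib.Helper25.CharOrth
import Cfsg.Agent.Lib.helper23.PSLT1SUM
import Cfsg.Agent.Lib.helper23.BRCLS
import Cfsg.Agent.Lib.Helper13.PSLCL1
import Cfsg.Agent.Lib.Helper28.PSLCARDG
import Cfsg.Agent.Lib.Helper24.PPowerDefect1
import Cfsg.Agent.Lib.Helper18.ConjCount
import Cfsg.Agent.Lib.helper14.DegGraph

/-!
# Project BT (S0997, Brauer–Tuan), piece KEY (core): the order of `G` in the `(p+1)/2` case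

`G` with trivial centre, `|P| = p = 2f+1`, `f = 2^c`, `C_G(P) = P`, `|N_G(P):P| = f`, principal block data `PB`
with `Y`-degree `f + 1` and sign `ε = -1`, faithful minus characters (degree `p - 1 = 2^(c+1)`), and
`|G| = p · 2^b · (f+1)`.  Then `|G| = p (p-1) (p+1) / 2`.

Idea: an involution `t` of `N_G(P)` inverts `P`; every involution inverting `x ∈ P ∖ 1` is conjugate to `t`.
For a `2`-central involution `z`, Burnside's coprime lemma kills the minus characters at `z`, so the class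
multiplication constant `a(z,z,x)` is positive: `z ~ t`.  Then `a(t,t,x) ≥ p` and column orthogonality at `t`
bound `|C(t)|`, which is divisible by `2^b`.
-/

set_option autoImplicit false
set_option linter.unusedVariables false
set_option linter.unusedSectionVars false
set_option linter.style.haveILetI false
open scoped ComplexConjugate
open Classical

namespace Cfsg.Agent.Lib.Helper22

open Cfsg.Agent.Lib.helper7 Cfsg.Agent.Lib.helper7.BR Cfsg.Agent.Lib.helper2 Cfsg.Agent.Lib.Helper25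
  Cfsg.Agent.Lib.Helper29 Cfsg.Agent.Lib.helper15.BH Cfsg.Agent.Lib.helper15.PSL

universe u

variable {G : Type u} [Group G] [Fintype G] {p : ℕ} [Fact p.Prime]

/-- `C_G(P) = P` when the centre is trivial -/
theorem btkey_cen_eq {f : ℕ} {P : Sylow p G} (hL : Loc p f P) (hZ : Subgroup.center G = ⊥) :
    cen P = (P : Subgroup G) := by
  have hcard : Nat.card ↥(cen P) = p := by
    rw [hL.cardC, hZ]
    simp
  have hle : (P : Subgroup G) ≤ cen P := by
    intro y hy
    by_cases hy1 : y = 1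
    · rw [hy1]; exact one_mem _
    · rw [← centralizer_eq_cen P hL.cardP y hy hy1, Subgroup.mem_centralizer_singleton_iff]
  symm
  apply Subgroup.eq_of_le_of_card_ge hle
  rw [hcard, hL.cardP]

/-- an element of order dividing `2` in `P` is trivial -/
theorem btkey_sq_mem {f : ℕ} {P : Sylow p G} (hL : Loc p f P) (w : G) (hw : w ∈ (P : Subgroup G))
    (h2 : w ^ 2 = 1) : w = 1 := by
  have h1 : orderOf w ∣ p := by
    have := Subgroup.orderOf_dvd_natCard (P : Subgroup G) hw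
    rwa [hL.cardP] at this
  have h3 : orderOf w ∣ 2 := orderOf_dvd_of_pow_eq_one h2
  have hp : p.Prime := Fact.out
  have hodd : ¬ 2 ∣ p := by
    rw [← hL.two_f]
    omega
  have h4 : orderOf w ∣ Nat.gcd p 2 := Nat.dvd_gcd h1 h3
  have h5 : Nat.gcd p 2 = 1 := by
    have : Nat.Coprime 2 p := (Nat.Prime.coprime_iff_not_dvd Nat.prime_two).mpr hodd
    exact this.symm
  rw [h5] at h4
  exact orderOf_eq_one_iff.mp (Nat.dvd_one.mp h4)

/-- an involution normalizing `P` inverts the elements of `P` -/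
theorem btkey_inverts {f : ℕ} {P : Sylow p G} (hL : Loc p f P) (hZ : Subgroup.center G = ⊥)
    (t : G) (ht : t ∈ nrm P) (ht2 : t ^ 2 = 1) (ht1 : t ≠ 1) (x : G) (hx : x ∈ (P : Subgroup G)) :
    t * x * t⁻¹ = x⁻¹ := by
  have hcen := btkey_cen_eq hL hZ
  have hy : t * x * t⁻¹ ∈ (P : Subgroup G) := by
    have := (Subgroup.mem_normalizer_iff.mp ht x).mp hx
    exact this
  have htinv : t⁻¹ = t := by
    have : t * t = 1 := by rw [← sq]; exact ht2
    exact inv_eq_of_mul_eq_one_left this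
  set w := x * (t * x * t⁻¹) with hw
  have hwP : w ∈ (P : Subgroup G) := mul_mem hx hy
  -- P abelian
  have hcomm : ∀ a ∈ (P : Subgroup G), ∀ b ∈ (P : Subgroup G), a * b = b * a := by
    intro a ha b hb
    have hb' : b ∈ cen P := by rw [hcen]; exact hb
    rw [Subgroup.mem_centralizer_iff] at hb'
    exact (hb' a ha)
  have htw : t * w * t⁻¹ = w := by
    have h1 : t * w * t⁻¹ = (t * x * t⁻¹) * (t * (t * x * t⁻¹) * t⁻¹) := by
      rw [hw]; group
    have h2 : t * (t * x * t⁻¹) * t⁻¹ = x := by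
      rw [htinv]
      have : t * t = 1 := by rw [← sq]; exact ht2
      calc t * (t * x * t) * t = (t * t) * x * (t * t) := by group
        _ = x := by rw [this]; group
    rw [h1, h2, hw]
    exact hcomm _ hy _ hx
  by_contra hne
  have hw1 : w ≠ 1 := by
    intro h1
    apply hne
    have : t * x * t⁻¹ = x⁻¹ * w := by rw [hw]; group
    rw [this, h1, mul_one]
  have htc : t ∈ Subgroup.centralizer ({w} : Set G) := by
    rw [Subgroup.mem_centralizer_singleton_iff]
    have := htw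
    calc t * w = (t * w * t⁻¹) * t := by group
      _ = w * t := by rw [htw]
  rw [centralizer_eq_cen P hL.cardP w hwP hw1, hcen] at htc
  exact ht1 (btkey_sq_mem hL t htc ht2)

/-- `t w` is conjugate to `t` for `w ∈ P`, when the involution `t` inverts `P` -/
theorem btkey_conj_mul {f : ℕ} {P : Sylow p G} (hL : Loc p f P)
    (t : G) (ht2 : t ^ 2 = 1) (hinv : ∀ x ∈ (P : Subgroup G), t * x * t⁻¹ = x⁻¹)
    (w : G) (hw : w ∈ (P : Subgroup G)) : IsConj t (t * w) := by
  have htinv : t⁻¹ = t := by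
    have : t * t = 1 := by rw [← sq]; exact ht2
    exact inv_eq_of_mul_eq_one_left this
  -- v := w^(f+1), v^2 = w
  set v := w ^ (f + 1) with hv
  have hvP : v ∈ (P : Subgroup G) := pow_mem hw _
  have hwp : w ^ p = 1 := by
    have h1 : orderOf w ∣ p := by
      have := Subgroup.orderOf_dvd_natCard (P : Subgroup G) hw
      rwa [hL.cardP] at this
    exact orderOf_dvd_iff_pow_eq_one.mp h1
  have hv2 : v * v = w := by
    rw [hv, ← pow_add]
    have : f + 1 + (f + 1) = p + 1 := by rw [← hL.two_f]; ring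
    rw [this, pow_succ, hwp, one_mul]
  rw [isConj_iff]
  refine ⟨v⁻¹, ?_⟩
  have h1 : t * v * t⁻¹ = v⁻¹ := hinv v hvP
  -- v⁻¹ t v = t (t v⁻¹ t) v ... compute
  have h2 : v⁻¹ * t = t * v := by
    have : t * v = v⁻¹ * t := by
      calc t * v = (t * v * t⁻¹) * t := by group
        _ = v⁻¹ * t := by rw [h1]
    exact this.symm
  calc v⁻¹ * t * v⁻¹⁻¹ = (v⁻¹ * t) * v := by rw [inv_inv]
    _ = t * v * v := by rw [h2]
    _ = t * (v * v) := by group
    _ = t * w := by rw [hv2]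

/-- an involution inverting `x ∈ P ∖ 1` is conjugate to `t` -/
theorem btkey_conj_of_inverts {f : ℕ} {P : Sylow p G} (hL : Loc p f P) (hZ : Subgroup.center G = ⊥)
    (t : G) (ht2 : t ^ 2 = 1) (hinv : ∀ x ∈ (P : Subgroup G), t * x * t⁻¹ = x⁻¹)
    (x : G) (hx : x ∈ (P : Subgroup G)) (hx1 : x ≠ 1)
    (u : G) (hu : u * x * u⁻¹ = x⁻¹) : IsConj t u := by
  have hcen := btkey_cen_eq hL hZ
  have htinv : t⁻¹ = t := by
    have : t * t = 1 := by rw [← sq]; exact ht2
    exact inv_eq_of_mul_eq_one_left this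
  have hw : t * u ∈ (P : Subgroup G) := by
    rw [← hcen, ← centralizer_eq_cen P hL.cardP x hx hx1, Subgroup.mem_centralizer_singleton_iff]
    have h1 : t * u * x * (t * u)⁻¹ = x := by
      calc t * u * x * (t * u)⁻¹ = t * (u * x * u⁻¹) * t⁻¹ := by group
        _ = t * x⁻¹ * t⁻¹ := by rw [hu]
        _ = (t * x * t⁻¹)⁻¹ := by group
        _ = x := by rw [hinv x hx, inv_inv]
    calc t * u * x = (t * u * x * (t * u)⁻¹) * (t * u) := by group
      _ = x * (t * u) := by rw [h1]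
  have : u = t * (t * u) := by
    have htt : t * t = 1 := by rw [← sq]; exact ht2
    calc u = (t * t) * u := by rw [htt, one_mul]
      _ = t * (t * u) := by group
  rw [this]
  exact btkey_conj_mul hL t ht2 hinv _ hw

/-! ## the character sums -/

/-- the square of a character value at an element of order `≤ 2` -/
theorem btkey_real (ξ : Cfsg.IrrCharacter G) (w : G) (hw : w⁻¹ = w) :
    (ξ : G → ℂ) w * (ξ : G → ℂ) w = (Complex.normSq ((ξ : G → ℂ) w) : ℂ) := by
  have h1 : conj ((ξ : G → ℂ) w) = (ξ : G → ℂ) w := by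
    rw [← irr_inv, hw]
  rw [← Complex.mul_conj, h1]

/-- the `X`-part of the class multiplication constant `(w, w, x)` -/
theorem btkey_X_term {f : ℕ} {P : Sylow p G} {X Y : Finset (Cfsg.IrrCharacter G)}
    {a : Cfsg.IrrCharacter G → ℤ} {ε : ℤ} {D : ℕ} (hL : Loc p f P)
    (hB : PB p f (P : Subgroup G) X Y a ε D) (w : G) (hw : w⁻¹ = w)
    (x : G) (hx : x ∈ (P : Subgroup G)) (hx1 : x ≠ 1) (ξ : Cfsg.IrrCharacter G) (hξ : ξ ∈ X) :
    term w w x ξ =
      ((Complex.normSq ((ξ : G → ℂ) w) * (a ξ : ℝ) / (Cfsg.charDegree (ξ : G → ℂ) : ℝ) : ℝ) : ℂ) := by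
  unfold term
  rw [btkey_real ξ w hw, hB.valX ξ hξ x (pslt1sum_sing hL x hx hx1), ← (charDegree_irr ξ).1]
  push_cast
  simp

/-- the trivial character belongs to the plus part -/
theorem btkey_a_triv {f : ℕ} {P : Sylow p G} {X Y : Finset (Cfsg.IrrCharacter G)}
    {a : Cfsg.IrrCharacter G → ℤ} {ε : ℤ} {D : ℕ} (hL : Loc p f P)
    (hB : PB p f (P : Subgroup G) X Y a ε D)
    (x : G) (hx : x ∈ (P : Subgroup G)) (hx1 : x ≠ 1) : a (trivIrr G) = 1 := by
  have h := hB.valX (trivIrr G) hB.triv_mem x (pslt1sum_sing hL x hx hx1)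
  rw [trivIrr_apply] at h
  exact_mod_cast h.symm

/-- the degrees of the members of `X` -/
theorem btkey_deg {f : ℕ} {P : Sylow p G} {X Y : Finset (Cfsg.IrrCharacter G)}
    {a : Cfsg.IrrCharacter G → ℤ} {ε : ℤ} {D : ℕ}
    (hB : PB p f (P : Subgroup G) X Y a ε D) (ξ : Cfsg.IrrCharacter G) (hξ : ξ ∈ X) :
    (a ξ = -1 → Cfsg.charDegree (ξ : G → ℂ) = p - 1) ∧
      (a ξ = 1 → ξ ≠ trivIrr G → Cfsg.charDegree (ξ : G → ℂ) = p + 1) := by
  have hp : p.Prime := Fact.out
  constructor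
  · intro h
    apply Cfsg.Agent.Lib.helper14.charDegree_of_natCast
    rw [hB.deg_minus ξ hξ h, Nat.cast_sub hp.one_le]
    simp
  · intro h hne
    apply Cfsg.Agent.Lib.helper14.charDegree_of_natCast
    rw [hB.deg_plus ξ hξ h hne]
    simp

/-- the real number computing the class multiplication constant `(w, w, x)` -/
noncomputable def btkeyR (X Y : Finset (Cfsg.IrrCharacter G)) (a : Cfsg.IrrCharacter G → ℤ) (f : ℕ)
    (w : G) : ℝ :=
  ∑ ξ ∈ X, Complex.normSq ((ξ : G → ℂ) w) * (a ξ : ℝ) / (Cfsg.charDegree (ξ : G → ℂ) : ℝ) +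
    (∑ η ∈ Y, Complex.normSq ((η : G → ℂ) w)) / (2 * ((f : ℝ) + 1))

/-- the class multiplication constant `(w, w, x)`, `w` of order `≤ 2`, `x ∈ P ∖ 1`, is computed by the
principal block -/
theorem btkey_total [Fintype (Cfsg.IrrCharacter G)] {f : ℕ} {P : Sylow p G}
    {X Y : Finset (Cfsg.IrrCharacter G)} {a : Cfsg.IrrCharacter G → ℤ} {ε : ℤ}
    (hL : Loc p f P) (hB : PB p f (P : Subgroup G) X Y a ε (f + 1)) (hε : ε = -1)
    (hZ : Subgroup.center G = ⊥) (w : G) (hw : w⁻¹ = w) (hwp : ¬ p ∣ orderOf w)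
    (x : G) (hx : x ∈ (P : Subgroup G)) (hx1 : x ≠ 1) :
    ∑ ξ : Cfsg.IrrCharacter G, term w w x ξ = ((btkeyR X Y a f w : ℝ) : ℂ) := by
  have hsx : p ∣ orderOf x := pslt1sum_sing hL x hx hx1
  have hsameAll : ∀ ξ : Cfsg.IrrCharacter G, SameCC (trivIrr G) ξ := by
    intro ξ ζ hζ
    rw [hZ, Subgroup.mem_bot] at hζ
    rw [hζ, trivIrr_apply]
    ring
  have hcol := pslt1sum_col hL hB x hx hx1
  have hvan := vanish_of_complete hL (trivIrr G) x hx hx1 (X ∪ Y) (fun ξ _ => hsameAll ξ) hcol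
  rw [← Finset.sum_subset (Finset.subset_univ (X ∪ Y))]
  · rw [Finset.sum_union hB.disj]
    unfold btkeyR
    push_cast
    congr 1
    · refine Finset.sum_congr rfl fun ξ hξ => ?_
      rw [btkey_X_term hL hB w hw x hx hx1 ξ hξ]
      push_cast
      rfl
    · -- the Y part
      have hYne : Y.Nonempty := by
        rw [← Finset.card_pos, hB.cardY]; norm_num
      obtain ⟨η₀, hη₀⟩ := hYne
      set y := (η₀ : G → ℂ) w with hy
      have hall : ∀ η ∈ Y, (η : G → ℂ) w = y := fun η hη => hB.agree η hη η₀ hη₀ w hwp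
      have h1 : ∀ η ∈ Y, term w w x η = y * y / ((f : ℂ) + 1) * conj ((η : G → ℂ) x) := by
        intro η hη
        unfold term
        rw [hall η hη, hB.degY η hη]
        push_cast
        ring
      rw [Finset.sum_congr rfl h1, ← Finset.mul_sum, ← map_sum, hB.sumY x hsx, hε]
      have h2 : ∀ η ∈ Y, ((Complex.normSq ((η : G → ℂ) w) : ℝ) : ℂ) = y * y := by
        intro η hη
        rw [hall η hη, hy, btkey_real η₀ w hw]
      rw [Finset.sum_congr rfl h2, Finset.sum_const, hB.cardY]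
      have hf1 : ((f : ℂ) + 1) ≠ 0 := by
        have : ((f : ℂ) + 1) = ((f + 1 : ℕ) : ℂ) := by push_cast; ring
        rw [this]
        exact_mod_cast Nat.succ_ne_zero f
      simp only [nsmul_eq_mul]
      push_cast
      field_simp
      simp
  · intro ξ _ hξn
    unfold term
    rw [hvan ξ (hsameAll ξ) hξn]
    simp

/-- the `X`-summand of `btkeyR` at the trivial character -/
theorem btkey_T_triv {f : ℕ} {P : Sylow p G} {X Y : Finset (Cfsg.IrrCharacter G)}
    {a : Cfsg.IrrCharacter G → ℤ} {ε : ℤ} {D : ℕ} (hL : Loc p f P)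
    (hB : PB p f (P : Subgroup G) X Y a ε D) (w : G) :
    Complex.normSq ((trivIrr G : G → ℂ) w) * (a (trivIrr G) : ℝ) /
      (Cfsg.charDegree ((trivIrr G : Cfsg.IrrCharacter G) : G → ℂ) : ℝ) = 1 := by
  obtain ⟨x, hx, hx1⟩ : ∃ x ∈ (P : Subgroup G), x ≠ 1 := by
    have hp : p.Prime := Fact.out
    have hcard : 1 < Nat.card ↥(P : Subgroup G) := by rw [hL.cardP]; exact hp.one_lt
    haveI : Nontrivial ↥(P : Subgroup G) := (Finite.one_lt_card_iff_nontrivial).mp hcard
    obtain ⟨y, hy⟩ := exists_ne (1 : ↥(P : Subgroup G))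
    exact ⟨y.1, y.2, fun h => hy (Subtype.ext h)⟩
  rw [btkey_a_triv hL hB x hx hx1,
    Cfsg.Agent.Lib.helper14.charDegree_of_natCast _ 1 (by rw [trivIrr_apply]; simp), trivIrr_apply]
  simp

/-- if the minus characters vanish at `w`, the constant is at least `1` -/
theorem btkey_R_ge_one {f : ℕ} {P : Sylow p G} {X Y : Finset (Cfsg.IrrCharacter G)}
    {a : Cfsg.IrrCharacter G → ℤ} {ε : ℤ} {D : ℕ} (hL : Loc p f P)
    (hB : PB p f (P : Subgroup G) X Y a ε D) (w : G)
    (hvan : ∀ ξ ∈ X, a ξ = -1 → (ξ : G → ℂ) w = 0) : 1 ≤ btkeyR X Y a f w := by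
  unfold btkeyR
  rw [← Finset.add_sum_erase X _ hB.triv_mem, btkey_T_triv hL hB w]
  have h1 : 0 ≤ ∑ ξ ∈ X.erase (trivIrr G),
      Complex.normSq ((ξ : G → ℂ) w) * (a ξ : ℝ) / (Cfsg.charDegree (ξ : G → ℂ) : ℝ) := by
    apply Finset.sum_nonneg
    intro ξ hξ
    have hξX := Finset.mem_of_mem_erase hξ
    rcases hB.a_pm ξ hξX with h | h
    · rw [h]
      have := Complex.normSq_nonneg ((ξ : G → ℂ) w)
      positivity
    · rw [hvan ξ hξX h]
      simp
  have h2 : 0 ≤ (∑ η ∈ Y, Complex.normSq ((η : G → ℂ) w)) / (2 * ((f : ℝ) + 1)) := by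
    apply div_nonneg
    · exact Finset.sum_nonneg fun η _ => Complex.normSq_nonneg _
    · positivity
  linarith

/-- upper bound of the constant -/
theorem btkey_R_le {f : ℕ} {P : Sylow p G} {X Y : Finset (Cfsg.IrrCharacter G)}
    {a : Cfsg.IrrCharacter G → ℤ} {ε : ℤ} {D : ℕ} (hL : Loc p f P)
    (hB : PB p f (P : Subgroup G) X Y a ε D) (w : G) :
    btkeyR X Y a f w ≤ 1 + (∑ ξ ∈ X.erase (trivIrr G), Complex.normSq ((ξ : G → ℂ) w) +
      ∑ η ∈ Y, Complex.normSq ((η : G → ℂ) w)) / ((p : ℝ) + 1) := by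
  unfold btkeyR
  rw [← Finset.add_sum_erase X _ hB.triv_mem, btkey_T_triv hL hB w]
  have hp1 : (2 * ((f : ℝ) + 1)) = (p : ℝ) + 1 := by
    rw [← hL.two_f]; push_cast; ring
  rw [hp1, add_div]
  have hp : p.Prime := Fact.out
  have h1 : ∑ ξ ∈ X.erase (trivIrr G),
      Complex.normSq ((ξ : G → ℂ) w) * (a ξ : ℝ) / (Cfsg.charDegree (ξ : G → ℂ) : ℝ) ≤
      (∑ ξ ∈ X.erase (trivIrr G), Complex.normSq ((ξ : G → ℂ) w)) / ((p : ℝ) + 1) := by
    rw [Finset.sum_div]
    apply Finset.sum_le_sum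
    intro ξ hξ
    have hξX := Finset.mem_of_mem_erase hξ
    have hne := Finset.ne_of_mem_erase hξ
    have hn := Complex.normSq_nonneg ((ξ : G → ℂ) w)
    rcases hB.a_pm ξ hξX with h | h
    · rw [h, (btkey_deg hB ξ hξX).2 h hne]
      push_cast
      simp
    · rw [h]
      have h3 : Complex.normSq ((ξ : G → ℂ) w) * ((-1 : ℤ) : ℝ) /
          (Cfsg.charDegree (ξ : G → ℂ) : ℝ) ≤ 0 := by
        apply div_nonpos_of_nonpos_of_nonneg
        · push_cast; nlinarith
        · positivity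
      have h4 : 0 ≤ Complex.normSq ((ξ : G → ℂ) w) / ((p : ℝ) + 1) := by positivity
      linarith
  linarith

/-- column orthogonality at `w` bounds the `X ∪ Y`-part -/
theorem btkey_col_le [Fintype (Cfsg.IrrCharacter G)] {f : ℕ} {P : Sylow p G}
    {X Y : Finset (Cfsg.IrrCharacter G)} {a : Cfsg.IrrCharacter G → ℤ} {ε : ℤ} {D : ℕ}
    (hB : PB p f (P : Subgroup G) X Y a ε D) (w : G) :
    1 + (∑ ξ ∈ X.erase (trivIrr G), Complex.normSq ((ξ : G → ℂ) w) +
      ∑ η ∈ Y, Complex.normSq ((η : G → ℂ) w)) ≤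
      (Nat.card ↥(Subgroup.centralizer ({w} : Set G)) : ℝ) := by
  have h := irr_column_orthogonality (G := G) w w
  rw [if_pos (IsConj.refl w)] at h
  have h1 : ∀ χ : Cfsg.IrrCharacter G, (χ : G → ℂ) w * conj ((χ : G → ℂ) w) =
      ((Complex.normSq ((χ : G → ℂ) w) : ℝ) : ℂ) := fun χ => Complex.mul_conj _
  rw [Finset.sum_congr rfl (fun χ _ => h1 χ), ← Complex.ofReal_sum] at h
  have h2 : ∑ χ : Cfsg.IrrCharacter G, Complex.normSq ((χ : G → ℂ) w) =
      (Nat.card ↥(Subgroup.centralizer ({w} : Set G)) : ℝ) := by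
    exact_mod_cast h
  rw [← h2]
  have h3 : ∑ ξ ∈ X ∪ Y, Complex.normSq ((ξ : G → ℂ) w) ≤
      ∑ χ : Cfsg.IrrCharacter G, Complex.normSq ((χ : G → ℂ) w) :=
    Finset.sum_le_sum_of_subset_of_nonneg (Finset.subset_univ _)
      (fun χ _ _ => Complex.normSq_nonneg _)
  rw [Finset.sum_union hB.disj, ← Finset.add_sum_erase X _ hB.triv_mem, trivIrr_apply] at h3
  simp only [map_one] at h3
  linarith

/-! ## the class multiplication constants -/

/-- S0840 in the present vocabulary -/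
theorem btkey_count [Fintype (Cfsg.IrrCharacter G)] (u x : G) (R : ℝ)
    (hR : ∑ ξ : Cfsg.IrrCharacter G, term u u x ξ = ((R : ℝ) : ℂ)) :
    (Nat.card {pr : G × G // IsConj u pr.1 ∧ IsConj u pr.2 ∧ pr.1 * pr.2 = x} : ℝ) =
      (Nat.card {y : G // IsConj u y} : ℝ) * (Nat.card {y : G // IsConj u y} : ℝ) /
        (Nat.card G : ℝ) * R := by
  have h := Cfsg.Agent.S0840.result u u x
  rw [finsum_eq_sum_of_fintype] at h
  have h2 : ∑ χ : Cfsg.IrrCharacter G,
      (χ : G → ℂ) u * (χ : G → ℂ) u * conj ((χ : G → ℂ) x) / (χ : G → ℂ) 1 = ((R : ℝ) : ℂ) := by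
    rw [← hR]
    rfl
  rw [h2] at h
  apply Complex.ofReal_injective
  push_cast
  exact h

/-- a non-trivial `2`-subgroup has a central involution -/
theorem btkey_central_invol (T : Subgroup G) (h2 : IsPGroup 2 ↥T) (hne : T ≠ ⊥) :
    ∃ z : G, z ∈ T ∧ (∀ y ∈ T, y * z = z * y) ∧ z ^ 2 = 1 ∧ z ≠ 1 := by
  haveI : Nontrivial ↥T := (Subgroup.nontrivial_iff_ne_bot T).mpr hne
  haveI : Fact (Nat.Prime 2) := ⟨Nat.prime_two⟩
  haveI := h2.center_nontrivial
  have hZ2 : IsPGroup 2 ↥(Subgroup.center ↥T) := h2.to_subgroup _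
  have hcard : 2 ∣ Nat.card ↥(Subgroup.center ↥T) := by
    obtain ⟨n, hn⟩ := hZ2.exists_card_eq
    have hn0 : n ≠ 0 := by
      intro h0
      rw [h0, pow_zero] at hn
      have := Finite.one_lt_card (α := ↥(Subgroup.center ↥T))
      omega
    rw [hn]
    exact dvd_pow_self 2 hn0
  obtain ⟨z, hz⟩ := exists_prime_orderOf_dvd_card' 2 hcard
  refine ⟨((z : ↥T) : G), (z : ↥T).2, ?_, ?_, ?_⟩
  · intro y hy
    have := Subgroup.mem_center_iff.mp z.2 ⟨y, hy⟩
    exact congrArg Subtype.val this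
  · have h1 : z ^ 2 = 1 := by rw [← hz]; exact pow_orderOf_eq_one z
    have := congrArg (fun w : ↥(Subgroup.center ↥T) => ((w : ↥T) : G)) h1
    simpa using this
  · intro h1
    have hz1 : z = 1 := by
      apply Subtype.ext
      apply Subtype.ext
      simpa using h1
    rw [hz1, orderOf_one] at hz
    omega

/-- pure arithmetic: the final inequality -/
theorem btkey_arith (p f c b m : ℕ) (hpf : 2 * f + 1 = p) (hf : f = 2 ^ c) (hm : 1 ≤ m)
    (h : p * (p + 1) * (2 ^ b * m) ^ 2 ≤ p * 2 ^ b * (f + 1) * (p + 2 ^ b * m)) : b ≤ c + 1 := by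
  have hp0 : 0 < p := by omega
  have hB0 : 0 < 2 ^ b := by positivity
  -- cancel p, (f+1), 2^b
  have h1 : p * (f + 1) * 2 ^ b * (2 * 2 ^ b * m ^ 2) ≤ p * (f + 1) * 2 ^ b * (p + 2 ^ b * m) := by
    have e1 : p * (p + 1) * (2 ^ b * m) ^ 2 = p * (f + 1) * 2 ^ b * (2 * 2 ^ b * m ^ 2) := by
      rw [← hpf]; ring
    have e2 : p * 2 ^ b * (f + 1) * (p + 2 ^ b * m) = p * (f + 1) * 2 ^ b * (p + 2 ^ b * m) := by ring
    rw [e1, e2] at h
    exact h
  have hpos : 0 < p * (f + 1) * 2 ^ b := by positivity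
  have h2 : 2 * 2 ^ b * m ^ 2 ≤ p + 2 ^ b * m := Nat.le_of_mul_le_mul_left h1 hpos
  have h3 : 2 ^ b ≤ p := by
    have : 2 ^ b * m ≤ 2 ^ b * m ^ 2 := by
      apply Nat.mul_le_mul_left
      nlinarith
    nlinarith
  by_contra hcon
  rw [not_le] at hcon
  have h4 : 2 ^ (c + 2) ≤ 2 ^ b := Nat.pow_le_pow_right (by norm_num) hcon
  have h5 : 2 ^ (c + 2) = 4 * 2 ^ c := by ring
  have hc0 : 0 < 2 ^ c := by positivity
  omega

/-- pure arithmetic: the lower bound for `b` from Sylow's congruence -/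
theorem btkey_arith2 (p f c b n : ℕ) (hpf : 2 * f + 1 = p) (hf : f = 2 ^ c) (hc : 1 ≤ c)
    (hn : n * f * p = p * 2 ^ b * (f + 1)) (hmod : n ≡ 1 [MOD p]) : c + 1 ≤ b := by
  have hp0 : 0 < p := by omega
  have h1 : n * f = 2 ^ b * (f + 1) := by
    have : p * (n * f) = p * (2 ^ b * (f + 1)) := by
      calc p * (n * f) = n * f * p := by ring
        _ = p * 2 ^ b * (f + 1) := hn
        _ = p * (2 ^ b * (f + 1)) := by ring
    exact Nat.eq_of_mul_eq_mul_left hp0 this
  by_contra hcon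
  rw [not_le] at hcon
  have hbc : b ≤ c := by omega
  obtain ⟨d, hd⟩ := Nat.exists_eq_add_of_le hbc
  -- n * 2^d = f + 1
  have h2 : n * 2 ^ d = f + 1 := by
    have hB0 : 0 < 2 ^ b := by positivity
    have : 2 ^ b * (n * 2 ^ d) = 2 ^ b * (f + 1) := by
      rw [← h1, hf, hd, pow_add]; ring
    exact Nat.eq_of_mul_eq_mul_left hB0 this
  have hodd : ¬ 2 ∣ f + 1 := by
    rw [hf]
    obtain ⟨c', rfl⟩ := Nat.exists_eq_add_of_le hc
    rw [pow_add]
    omega
  have hd0 : d = 0 := by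
    by_contra hd0
    apply hodd
    rw [← h2]
    exact Dvd.dvd.mul_left (dvd_pow_self 2 hd0) n
  rw [hd0, pow_zero, mul_one] at h2
  rw [h2] at hmod
  have h3 : (f + 1) % p = 1 % p := hmod
  have hf1 : 1 ≤ f := by rw [hf]; exact Nat.one_le_two_pow
  rw [Nat.mod_eq_of_lt (by omega), Nat.mod_eq_of_lt (by omega)] at h3
  omega

/-- KEY (core): the order of `G` -/
theorem btkey_core [Fintype (Cfsg.IrrCharacter G)] {f c b : ℕ} {P : Sylow p G}
    {X Y : Finset (Cfsg.IrrCharacter G)} {a : Cfsg.IrrCharacter G → ℤ} {ε : ℤ}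
    (hL : Loc p f P) (hB : PB p f (P : Subgroup G) X Y a ε (f + 1)) (hε : ε = -1)
    (hZ : Subgroup.center G = ⊥)
    (hfaith : ∀ ξ ∈ X, a ξ = -1 → ∀ g : G, (ξ : G → ℂ) g = (ξ : G → ℂ) 1 → g = 1)
    (hf : f = 2 ^ c) (hc : 1 ≤ c) (hcard : Nat.card G = p * 2 ^ b * (f + 1)) :
    Nat.card G = p * (2 * f) * (f + 1) := by
  have hp : p.Prime := Fact.out
  haveI : Fact (Nat.Prime 2) := ⟨Nat.prime_two⟩
  have hpodd : ¬ 2 ∣ p := by rw [← hL.two_f]; omega
  have h2f : 2 ∣ f := by
    rw [hf]; exact dvd_pow_self 2 (by omega)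
  -- an involution of N_G(P)
  have h2N : 2 ∣ Nat.card ↥(nrm P) := by
    have h1 : (cen P).relIndex (nrm P) ∣ Nat.card ↥(nrm P) := Subgroup.relIndex_dvd_card _ _
    rw [hL.relIndex] at h1
    exact h2f.trans h1
  obtain ⟨t', ht'⟩ := exists_prime_orderOf_dvd_card' 2 h2N
  set t : G := (t' : G) with ht
  have htN : t ∈ nrm P := t'.2
  have ht2 : t ^ 2 = 1 := by
    have h1 : t' ^ 2 = 1 := by rw [← ht']; exact pow_orderOf_eq_one t'
    have := congrArg (fun w : ↥(nrm P) => (w : G)) h1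
    simpa using this
  have ht1 : t ≠ 1 := by
    intro h1
    have : t' = 1 := Subtype.ext h1
    rw [this, orderOf_one] at ht'
    omega
  have htinv : t⁻¹ = t := by
    have : t * t = 1 := by rw [← sq]; exact ht2
    exact inv_eq_of_mul_eq_one_left this
  have hinv := btkey_inverts hL hZ t htN ht2 ht1
  -- x in P minus 1
  obtain ⟨x, hx, hx1⟩ : ∃ x ∈ (P : Subgroup G), x ≠ 1 := by
    have hcardP : 1 < Nat.card ↥(P : Subgroup G) := by rw [hL.cardP]; exact hp.one_lt
    haveI : Nontrivial ↥(P : Subgroup G) := (Finite.one_lt_card_iff_nontrivial).mp hcardP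
    obtain ⟨y, hy⟩ := exists_ne (1 : ↥(P : Subgroup G))
    exact ⟨y.1, y.2, fun h => hy (Subtype.ext h)⟩
  -- orders of involutions are prime to p
  have hreg : ∀ w : G, w ^ 2 = 1 → ¬ p ∣ orderOf w := by
    intro w hw hdvd
    have h1 : orderOf w ∣ 2 := orderOf_dvd_of_pow_eq_one hw
    have h2 : p ∣ 2 := hdvd.trans h1
    have h3 : p = 2 := (Nat.prime_dvd_prime_iff_eq hp Nat.prime_two).mp h2
    exact hpodd (by rw [h3])
  have hinvol : ∀ w : G, w ^ 2 = 1 → w⁻¹ = w := by
    intro w hw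
    have : w * w = 1 := by rw [← sq]; exact hw
    exact inv_eq_of_mul_eq_one_left this
  -- a 2-central involution
  let S2 : Sylow 2 G := default
  have hS2card : 2 ^ b ∣ Nat.card ↥(S2 : Subgroup G) := by
    apply Sylow.pow_dvd_card_of_pow_dvd_card
    rw [hcard]
    exact Dvd.dvd.mul_right (Dvd.intro_left p rfl) _
  have hb1 : 1 ≤ b := by
    -- f divides |G|
    by_contra hb0
    have hb0' : b = 0 := by omega
    have h1 : (cen P).relIndex (nrm P) ∣ Nat.card ↥(nrm P) := Subgroup.relIndex_dvd_card _ _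
    have h3 : Nat.card ↥(nrm P) ∣ Nat.card G := Subgroup.card_subgroup_dvd_card _
    rw [hL.relIndex] at h1
    have h4 : 2 ∣ Nat.card G := h2f.trans (h1.trans h3)
    rw [hcard, hb0', pow_zero, mul_one] at h4
    rcases (Nat.Prime.dvd_mul Nat.prime_two).mp h4 with h5 | h5
    · exact hpodd h5
    · rw [hf] at h5
      obtain ⟨c', rfl⟩ := Nat.exists_eq_add_of_le hc
      rw [pow_add] at h5
      omega
  have hS2ne : (S2 : Subgroup G) ≠ ⊥ := by
    intro hbot
    rw [hbot] at hS2card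
    simp at hS2card
    omega
  obtain ⟨z, hzS, hzc, hz2, hz1⟩ := btkey_central_invol (S2 : Subgroup G) S2.2 hS2ne
  -- Burnside : the minus characters vanish at z
  have hvanz : ∀ ξ ∈ X, a ξ = -1 → (ξ : G → ℂ) z = 0 := by
    intro ξ hξ hm
    have hdeg : Cfsg.charDegree (ξ : G → ℂ) = 2 ^ (c + 1) := by
      rw [(btkey_deg hB ξ hξ).1 hm, ← hL.two_f, hf]
      ring_nf
      omega
    exact Cfsg.Agent.Lib.Helper24.pd_vanish 2 hZ S2 ξ (hfaith ξ hξ hm) (c + 1) hdeg z hzc hz1
  -- z is conjugate to t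
  have hconj : IsConj t z := by
    by_contra hnc
    have hempty : IsEmpty {pr : G × G // IsConj z pr.1 ∧ IsConj z pr.2 ∧ pr.1 * pr.2 = x} := by
      constructor
      rintro ⟨⟨u, v⟩, hu, hv, huv⟩
      simp only at hu hv huv
      apply hnc
      have hu2 : u ^ 2 = 1 := by
        obtain ⟨g, hg⟩ := isConj_iff.mp hu
        rw [← hg, conj_pow, hz2]; group
      have hv2 : v ^ 2 = 1 := by
        obtain ⟨g, hg⟩ := isConj_iff.mp hv
        rw [← hg, conj_pow, hz2]; group
      have huinv := hinvol u hu2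
      have hvinv := hinvol v hv2
      have hux : u * x * u⁻¹ = x⁻¹ := by
        rw [← huv, huinv]
        have huu : u * u = 1 := by rw [← sq]; exact hu2
        calc u * (u * v) * u = (u * u) * v * u := by group
          _ = v * u := by rw [huu, one_mul]
          _ = v⁻¹ * u⁻¹ := by rw [huinv, hvinv]
          _ = (u * v)⁻¹ := by group
      have h1 := btkey_conj_of_inverts hL hZ t ht2 hinv x hx hx1 u hux
      exact h1.trans hu.symm
    have hR := btkey_total hL hB hε hZ z (hinvol z hz2) (hreg z hz2) x hx hx1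
    have hcount := btkey_count z x _ hR
    have hzero : Nat.card {pr : G × G // IsConj z pr.1 ∧ IsConj z pr.2 ∧ pr.1 * pr.2 = x} = 0 :=
      Nat.card_eq_zero.mpr (Or.inl hempty)
    rw [hzero] at hcount
    have hk : (0 : ℝ) < (Nat.card {y : G // IsConj z y} : ℝ) := by
      haveI : Nonempty {y : G // IsConj z y} := ⟨⟨z, IsConj.refl z⟩⟩
      exact_mod_cast Nat.card_pos
    have hG : (0 : ℝ) < (Nat.card G : ℝ) := by exact_mod_cast Nat.card_pos
    have hge := btkey_R_ge_one hL hB z hvanz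
    have hpos : 0 < (Nat.card {y : G // IsConj z y} : ℝ) * (Nat.card {y : G // IsConj z y} : ℝ) /
        (Nat.card G : ℝ) * btkeyR X Y a f z := by positivity
    simp only [Nat.cast_zero] at hcount
    linarith
  -- 2^b divides |C(t)|
  set cC := Nat.card ↥(Subgroup.centralizer ({t} : Set G)) with hcC
  have hdvd : 2 ^ b ∣ cC := by
    rw [hcC, Cfsg.Agent.Lib.Helper18.card_centralizer_eq_of_isConj hconj]
    apply hS2card.trans
    apply Subgroup.card_dvd_of_le
    intro y hy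
    rw [Subgroup.mem_centralizer_singleton_iff]
    exact hzc y hy
  have hcCpos : 0 < cC := Nat.card_pos
  obtain ⟨m, hm⟩ := hdvd
  have hm1 : 1 ≤ m := by
    rcases Nat.eq_zero_or_pos m with h | h
    · rw [h, mul_zero] at hm; omega
    · exact h
  -- the count for (t, t, x)
  have hRt := btkey_total hL hB hε hZ t htinv (hreg t ht2) x hx hx1
  have hcount := btkey_count t x _ hRt
  have hle : (p : ℝ) ≤
      (Nat.card {pr : G × G // IsConj t pr.1 ∧ IsConj t pr.2 ∧ pr.1 * pr.2 = x} : ℝ) := by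
    have hinj : Function.Injective (fun w : ↥(P : Subgroup G) =>
        (⟨(t * (w : G), t * ((w : G) * x)), btkey_conj_mul hL t ht2 hinv _ w.2,
          btkey_conj_mul hL t ht2 hinv _ (mul_mem w.2 hx), by
            have h1 : t * (w : G) * t⁻¹ = (w : G)⁻¹ := hinv _ w.2
            rw [htinv] at h1
            calc t * (w : G) * (t * ((w : G) * x)) = (t * (w : G) * t) * ((w : G) * x) := by group
              _ = x := by rw [h1]; group⟩ :
          {pr : G × G // IsConj t pr.1 ∧ IsConj t pr.2 ∧ pr.1 * pr.2 = x})) := by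
      intro w w' hww
      have h1 := congrArg (fun q => q.1.1) hww
      simp only at h1
      exact Subtype.ext (mul_left_cancel h1)
    have := Nat.card_le_card_of_injective _ hinj
    rw [hL.cardP] at this
    exact_mod_cast this
  have hk := Cfsg.Agent.Lib.Helper18.card_isConj_mul_card_centralizer t
  rw [← hcC] at hk
  set k := Nat.card {y : G // IsConj t y} with hkdef
  have hRle := btkey_R_le hL hB t
  have hcol := btkey_col_le hB t
  rw [← hcC] at hcol
  -- real inequality p (p+1) cC^2 ≤ |G| (p + cC)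
  have hGpos : (0 : ℝ) < (Nat.card G : ℝ) := by exact_mod_cast Nat.card_pos
  have hcCr : (0 : ℝ) < (cC : ℝ) := by exact_mod_cast hcCpos
  have hkr : (k : ℝ) * (cC : ℝ) = (Nat.card G : ℝ) := by exact_mod_cast hk
  have hp1 : (0 : ℝ) < (p : ℝ) + 1 := by positivity
  have hmain : (p : ℝ) * ((p : ℝ) + 1) * (cC : ℝ) ^ 2 ≤ (Nat.card G : ℝ) * ((p : ℝ) + (cC : ℝ)) := by
    have hR2 : btkeyR X Y a f t ≤ ((p : ℝ) + (cC : ℝ)) / ((p : ℝ) + 1) := by
      have : 1 + ((cC : ℝ) - 1) / ((p : ℝ) + 1) = ((p : ℝ) + (cC : ℝ)) / ((p : ℝ) + 1) := by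
        field_simp; ring
      rw [← this]
      have h5 : (∑ ξ ∈ X.erase (trivIrr G), Complex.normSq ((ξ : G → ℂ) t) +
          ∑ η ∈ Y, Complex.normSq ((η : G → ℂ) t)) / ((p : ℝ) + 1) ≤
          ((cC : ℝ) - 1) / ((p : ℝ) + 1) := by
        apply div_le_div_of_nonneg_right _ hp1.le
        linarith
      linarith
    have hk0 : (0 : ℝ) ≤ (k : ℝ) * (k : ℝ) / (Nat.card G : ℝ) := by positivity
    have h6 : (p : ℝ) ≤ (k : ℝ) * (k : ℝ) / (Nat.card G : ℝ) *
        (((p : ℝ) + (cC : ℝ)) / ((p : ℝ) + 1)) := by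
      calc (p : ℝ) ≤ _ := hle
        _ = (k : ℝ) * (k : ℝ) / (Nat.card G : ℝ) * btkeyR X Y a f t := hcount
        _ ≤ _ := mul_le_mul_of_nonneg_left hR2 hk0
    have hkeq : (k : ℝ) = (Nat.card G : ℝ) / (cC : ℝ) := by
      field_simp
      exact hkr
    rw [hkeq] at h6
    have h7 : (Nat.card G : ℝ) / (cC : ℝ) * ((Nat.card G : ℝ) / (cC : ℝ)) / (Nat.card G : ℝ) *
        (((p : ℝ) + (cC : ℝ)) / ((p : ℝ) + 1)) =
        (Nat.card G : ℝ) * ((p : ℝ) + (cC : ℝ)) / (((p : ℝ) + 1) * (cC : ℝ) ^ 2) := by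
      field_simp
    rw [h7, le_div_iff₀ (by positivity)] at h6
    nlinarith
  have hmainN : p * (p + 1) * cC ^ 2 ≤ Nat.card G * (p + cC) := by exact_mod_cast hmain
  rw [hm, hcard] at hmainN
  have hb_le := btkey_arith p f c b m hL.two_f hf hm1 hmainN
  -- lower bound
  have hcG := card_G hL
  rw [hZ] at hcG
  simp only [Subgroup.card_bot, mul_one] at hcG
  have hmod : (nrm P).index ≡ 1 [MOD p] := by
    have h1 : Nat.card (Sylow p G) = (nrm P).index := Sylow.card_eq_index_normalizer P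
    have h2 : Nat.card (Sylow p G) ≡ 1 [MOD p] := card_sylow_modEq_one p G
    rwa [h1] at h2
  have hb_ge := btkey_arith2 p f c b (nrm P).index hL.two_f hf hc (by rw [← hcG, hcard]) hmod
  have hbc : b = c + 1 := le_antisymm hb_le hb_ge
  rw [hcard, hbc, hf]
  ring

end Cfsg.Agent.Lib.Helper22
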