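import Mathlib
import Cfsg.Agent.Lib.Helper24.P2P.Defs
import Cfsg.Agent.Lib.Helper1.W2PNORMAL

/-!
# Project P2P, piece CEN : `C_G(P) = P` (helper22)
-/

set_option autoImplicit false
set_option linter.unusedVariables false
set_option linter.unusedSectionVars false
set_option linter.style.haveILetI false
open scoped ComplexConjugate
open Classical

namespace Cfsg.Agent.Lib.Helper24.P2P

open MulAction Cfsg.Agent.Lib.helper6.PermChar Cfsg.Agent.Lib.Lead.W2P

universe u v

section setting

variable {G : Type u} [Group G] [Fintype G] {Ω : Type v} [Fintype Ω] [DecidableEq Ω] [MulAction G Ω]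
  {p : ℕ} [Fact p.Prime] {P : Sylow p G}

/-- a divisor of `2p` which is a multiple of `p` is `p` or `2p` -/
theorem p2pcen_arith (p d : ℕ) (hp : 0 < p) (h1 : p ∣ d) (h2 : d ∣ 2 * p) : d = p ∨ d = 2 * p := by
  obtain ⟨k, rfl⟩ := h1
  have hk : k ∣ 2 := by
    have : p * k ∣ p * 2 := by rwa [mul_comm p 2]
    exact (Nat.mul_dvd_mul_iff_left hp).1 this
  have hk2 : k ≤ 2 := Nat.le_of_dvd (by norm_num) hk
  interval_cases k
  · simp at hk
  · left; ring
  · right; ring

theorem cen_eq (h : Setting2 G Ω p P) :
    Subgroup.centralizer ((P : Subgroup G) : Set G) = (P : Subgroup G) := by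
  have hp : p.Prime := Fact.out
  have hcardP := h.S.cardP
  -- `P ≤ C`
  haveI : IsCyclic ↥(P : Subgroup G) := isCyclic_of_prime_card hcardP
  have hPC : (P : Subgroup G) ≤ Subgroup.centralizer ((P : Subgroup G) : Set G) :=
    Subgroup.le_centralizer_iff_isMulCommutative.2 IsCyclic.isMulCommutative
  have hCN := Subgroup.centralizer_le_normalizer ((P : Subgroup G) : Set G)
  have hd1 : p ∣ Nat.card ↥(Subgroup.centralizer ((P : Subgroup G) : Set G)) := by
    have := Subgroup.card_dvd_of_le hPC
    rwa [hcardP] at this
  have hd2 : Nat.card ↥(Subgroup.centralizer ((P : Subgroup G) : Set G)) ∣ 2 * p := by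
    have := Subgroup.card_dvd_of_le hCN
    rwa [h.nrm] at this
  rcases p2pcen_arith p _ hp.pos hd1 hd2 with hc | hc
  · -- `|C| = p`
    symm
    apply Subgroup.eq_of_le_of_card_ge hPC
    rw [hc, hcardP]
  · -- `|C| = 2p`: `N ≤ C`, Burnside's transfer theorem
    exfalso
    have hNC : Subgroup.normalizer ((P : Subgroup G) : Set G) ≤
        Subgroup.centralizer ((P : Subgroup G) : Set G) := by
      have : Subgroup.centralizer ((P : Subgroup G) : Set G) =
          Subgroup.normalizer ((P : Subgroup G) : Set G) := by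
        apply Subgroup.eq_of_le_of_card_ge hCN
        rw [hc, h.nrm]
      rw [this]
    have hcompl := MonoidHom.ker_transferSylow_isComplement' P hNC
    have hcard := hcompl.card_mul_card
    rw [hcardP] at hcard
    have hKn : (MonoidHom.transferSylow P hNC).ker.Normal := inferInstance
    have hK1 : (MonoidHom.transferSylow P hNC).ker ≠ ⊥ := by
      intro e
      rw [e, Subgroup.card_bot, one_mul] at hcard
      have hdvd : Nat.card ↥(Subgroup.normalizer ((P : Subgroup G) : Set G)) ∣ Nat.card G :=
        Subgroup.card_subgroup_dvd_card _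
      rw [h.nrm, ← hcard] at hdvd
      have := Nat.le_of_dvd hp.pos hdvd
      have := hp.pos
      omega
    have hPK := le_of_normal h.S _ hKn hK1
    have hdisj := hcompl.disjoint
    have hPbot : (P : Subgroup G) = ⊥ := by
      rw [eq_bot_iff]
      exact hdisj hPK le_rfl
    rw [hPbot, Subgroup.card_bot] at hcardP
    exact hp.one_lt.ne' hcardP.symm

end setting

end Cfsg.Agent.Lib.Helper24.P2P
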