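import Mathlib
import Cfsg.Prelude.Def_Characters
import Cfsg.Agent.Lib.helper2.CharNat
import Cfsg.Agent.Lib.Helper25.CharBasic

/-!
# Project PSB (helper10), piece CHAR (core): `prat_char` from the statement of `prat_irr`
-/

set_option autoImplicit false

namespace Cfsg.Agent.Lib.Helper10.PSB

open Cfsg.Agent.Lib.helper2 Cfsg.Agent.Lib.Helper25

/-- CHAR (core): the statement of `prat_irr` (as hypothesis `hirr`) gives `prat_char` -/
theorem psbchar_core {L : Type*} [Group L] [Finite L] (H : Subgroup L) [H.Normal]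
    (hirr : ∀ ξ : L → ℂ, Cfsg.IsIrrCharacter L ξ →
      ∃ Ψ : L → ℂ, Cfsg.IsCharacter L Ψ ∧ (∀ h : H, Ψ h = ξ h) ∧
        ∀ (x : L) (m : ℕ), x ^ H.index = 1 → m.Coprime H.index → Ψ (x ^ m) = Ψ x)
    (χ : L → ℂ) (hχ : Cfsg.IsCharacter L χ) :
    ∃ Ψ : L → ℂ, Cfsg.IsCharacter L Ψ ∧ (∀ h : H, Ψ h = χ h) ∧
      ∀ (x : L) (m : ℕ), x ^ H.index = 1 → m.Coprime H.index → Ψ (x ^ m) = Ψ x := by
  classical
  haveI : Fintype L := Fintype.ofFinite L
  haveI : Fintype (Cfsg.IrrCharacter L) := Fintype.ofFinite _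
  obtain ⟨m, _, hexp⟩ := isCharacter_expansion hχ
  choose Ψ hΨc hΨH hΨp using fun ξ : Cfsg.IrrCharacter L => hirr (ξ : L → ℂ) ξ.2
  refine ⟨∑ ξ : Cfsg.IrrCharacter L, (m ξ : ℂ) • Ψ ξ, ?_, ?_, ?_⟩
  · apply isCharacter_sum
    intro ξ _
    exact isCharacter_natCast_smul (hΨc ξ) (m ξ)
  · intro h
    have h1 : χ h = ∑ ξ : Cfsg.IrrCharacter L, (m ξ : ℂ) * (ξ : L → ℂ) h := by
      conv_lhs => rw [hexp]
      simp [Finset.sum_apply]
    rw [h1]
    simp only [Finset.sum_apply, Pi.smul_apply, smul_eq_mul]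
    exact Finset.sum_congr rfl fun ξ _ => by rw [hΨH ξ h]
  · intro x k hx hk
    simp only [Finset.sum_apply, Pi.smul_apply, smul_eq_mul]
    exact Finset.sum_congr rfl fun ξ _ => by rw [hΨp ξ x k hx hk]

end Cfsg.Agent.Lib.Helper10.PSB
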