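import Mathlib
import Cfsg.Agent.Lib.Helper22.PSBCHARcore
import Cfsg.Agent.Lib.Helper20.PSBIRR

/-!
# Project PSB (helper10), piece CHAR : `prat_char` (verbatim wrapper)
-/

set_option autoImplicit false

namespace Cfsg.Agent.Lib.Helper10.PSB

open Cfsg.Agent.Lib.Helper11

-- piece CHAR  (uses IRR; helper2.CharNat `isCharacter_expansion`: χ = ∑ m_ξ • ξ, take ∑ m_ξ • Ψ_ξ)
theorem prat_char {L : Type*} [Group L] [Finite L] (H : Subgroup L) [H.Normal]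
    (hcop : (Nat.card H).Coprime H.index) (χ : L → ℂ) (hχ : Cfsg.IsCharacter L χ) :
    ∃ Ψ : L → ℂ, Cfsg.IsCharacter L Ψ ∧ (∀ h : H, Ψ h = χ h) ∧
      ∀ (x : L) (m : ℕ), x ^ H.index = 1 → m.Coprime H.index → Ψ (x ^ m) = Ψ x :=
  psbchar_core H (fun ξ hξ => prat_irr H hcop ξ hξ) χ hχ

end Cfsg.Agent.Lib.Helper10.PSB
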