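import Mathlib

/-!
# Project RES : general closure-induction helpers (helper22)
-/

set_option autoImplicit false
set_option linter.unusedVariables false

namespace Cfsg.Agent.Lib.Helper10.RES

variable {Ω : Type*} [Group Ω]

/-- conjugation by a fixed element maps `closure k'` into `K` if it maps the generators into `K` -/
theorem res22_conj_gens (g : Ω) (k' : Set Ω) (K : Subgroup Ω)
    (h : ∀ t ∈ k', g * t * g⁻¹ ∈ K) : ∀ t ∈ Subgroup.closure k', g * t * g⁻¹ ∈ K := by
  intro t ht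
  induction ht using Subgroup.closure_induction with
  | mem t ht => exact h t ht
  | one => simp
  | mul a b _ _ ha hb =>
    have : g * (a * b) * g⁻¹ = (g * a * g⁻¹) * (g * b * g⁻¹) := by group
    rw [this]; exact K.mul_mem ha hb
  | inv a _ ha =>
    have : g * a⁻¹ * g⁻¹ = (g * a * g⁻¹)⁻¹ := by group
    rw [this]; exact K.inv_mem ha

/-- if the generators of `H` and their inverses normalize `K`, so does `H` -/
theorem res22_conj_closure (K : Subgroup Ω) (k : Set Ω)
    (h : ∀ g ∈ k, ∀ t ∈ K, g * t * g⁻¹ ∈ K ∧ g⁻¹ * t * g ∈ K) :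
    ∀ g ∈ Subgroup.closure k, ∀ t ∈ K, g * t * g⁻¹ ∈ K ∧ g⁻¹ * t * g ∈ K := by
  intro g hg
  induction hg using Subgroup.closure_induction with
  | mem g hg => exact h g hg
  | one => intro t ht; simpa using ht
  | mul a b _ _ ha hb =>
    intro t ht
    constructor
    · have : a * b * t * (a * b)⁻¹ = a * (b * t * b⁻¹) * a⁻¹ := by group
      rw [this]; exact (ha _ (hb t ht).1).1
    · have : (a * b)⁻¹ * t * (a * b) = b⁻¹ * (a⁻¹ * t * a) * b := by group
      rw [this]; exact (hb _ (ha t ht).2).2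
  | inv a _ ha =>
    intro t ht
    constructor
    · have : a⁻¹ * t * a⁻¹⁻¹ = a⁻¹ * t * a := by group
      rw [this]; exact (ha t ht).2
    · have : a⁻¹⁻¹ * t * a⁻¹ = a * t * a⁻¹ := by group
      rw [this]; exact (ha t ht).1

/-- commutators of two generated subgroups lie in `K` as soon as the commutators of the generators do and
both subgroups normalize `K` -/
theorem res22_comm_closure (K : Subgroup Ω) (k₁ k₂ : Set Ω)
    (hn₁ : ∀ g ∈ Subgroup.closure k₁, ∀ t ∈ K, g * t * g⁻¹ ∈ K)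
    (hn₂ : ∀ g ∈ Subgroup.closure k₂, ∀ t ∈ K, g * t * g⁻¹ ∈ K)
    (hc : ∀ a ∈ k₁, ∀ b ∈ k₂, a⁻¹ * (b * a * b⁻¹) ∈ K) :
    ∀ g ∈ Subgroup.closure k₁, ∀ h ∈ Subgroup.closure k₂, g⁻¹ * (h * g * h⁻¹) ∈ K := by
  -- first: fixed generator `a`, all `h`
  have step1 : ∀ a ∈ k₁, ∀ h ∈ Subgroup.closure k₂, a⁻¹ * (h * a * h⁻¹) ∈ K := by
    intro a ha h hh
    induction hh using Subgroup.closure_induction with
    | mem b hb => exact hc a ha b hb
    | one => simp
    | mul h₁ h₂ hh₁ hh₂ ih₁ ih₂ =>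
      have : a⁻¹ * (h₁ * h₂ * a * (h₁ * h₂)⁻¹) =
          (a⁻¹ * (h₁ * a * h₁⁻¹)) * (h₁ * (a⁻¹ * (h₂ * a * h₂⁻¹)) * h₁⁻¹) := by group
      rw [this]
      exact K.mul_mem ih₁ (hn₂ h₁ hh₁ _ ih₂)
    | inv h₁ hh₁ ih₁ =>
      have : a⁻¹ * (h₁⁻¹ * a * h₁⁻¹⁻¹) = h₁⁻¹ * (a⁻¹ * (h₁ * a * h₁⁻¹))⁻¹ * h₁⁻¹⁻¹ := by group
      rw [this]
      exact hn₂ h₁⁻¹ ((Subgroup.closure k₂).inv_mem hh₁) _ (K.inv_mem ih₁)
  intro g hg h hh
  induction hg using Subgroup.closure_induction with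
  | mem a ha => exact step1 a ha h hh
  | one => simp
  | mul g₁ g₂ hg₁ hg₂ ih₁ ih₂ =>
    have : (g₁ * g₂)⁻¹ * (h * (g₁ * g₂) * h⁻¹) =
        (g₂⁻¹ * (g₁⁻¹ * (h * g₁ * h⁻¹)) * g₂⁻¹⁻¹) * (g₂⁻¹ * (h * g₂ * h⁻¹)) := by group
    rw [this]
    exact K.mul_mem (hn₁ g₂⁻¹ ((Subgroup.closure k₁).inv_mem hg₂) _ ih₁) ih₂
  | inv g₁ hg₁ ih₁ =>
    have : g₁⁻¹⁻¹ * (h * g₁⁻¹ * h⁻¹) = g₁ * (g₁⁻¹ * (h * g₁ * h⁻¹))⁻¹ * g₁⁻¹ := by group
    rw [this]
    exact hn₁ g₁ hg₁ _ (K.inv_mem ih₁)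

/-- in a subgroup generated by pairwise commuting elements of exponent dividing `m`, every element has
`m`-th power one -/
theorem res22_pow_closure (k : Set Ω) (m : ℕ) (hcomm : ∀ a ∈ k, ∀ b ∈ k, a * b = b * a)
    (hpow : ∀ a ∈ k, a ^ m = 1) : ∀ t ∈ Subgroup.closure k, t ^ m = 1 := by
  have hab : ∀ a ∈ Subgroup.closure k, ∀ b ∈ Subgroup.closure k, a * b = b * a := by
    intro a ha b hb
    have h1 : Subgroup.closure k ≤ Subgroup.centralizer (Subgroup.closure k : Set Ω) := by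
      rw [Subgroup.closure_le]
      intro c hc
      rw [SetLike.mem_coe, Subgroup.mem_centralizer_iff]
      intro d hd
      have h2 : Subgroup.closure k ≤ Subgroup.centralizer ({c} : Set Ω) := by
        rw [Subgroup.closure_le]
        intro e he
        rw [SetLike.mem_coe, Subgroup.mem_centralizer_iff]
        intro f hf
        rw [Set.mem_singleton_iff] at hf
        subst hf
        exact hcomm f hc e he
      have := Subgroup.mem_centralizer_iff.1 (h2 hd) c (Set.mem_singleton c)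
      exact this.symm
    have := Subgroup.mem_centralizer_iff.1 (h1 hb) a ha
    exact this
  intro t ht
  induction ht using Subgroup.closure_induction with
  | mem a ha => exact hpow a ha
  | one => simp
  | mul a b ha hb iha ihb =>
    rw [(show Commute a b from hab a ha b hb).mul_pow, iha, ihb, one_mul]
  | inv a _ iha => rw [inv_pow, iha, inv_one]

/-- normal form with natural exponents in a subgroup generated by two commuting elements of finite order -/
theorem res22_pair_form (u v : Ω) (a b : ℕ) (ha : 0 < a) (hb : 0 < b) (huv : u * v = v * u)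
    (hu : u ^ a = 1) (hv : v ^ b = 1) :
    ∀ t ∈ Subgroup.closure ({u, v} : Set Ω), ∃ j k : ℕ, t = u ^ j * v ^ k := by
  have hc : Commute u v := huv
  intro t ht
  induction ht using Subgroup.closure_induction with
  | mem c hc' =>
    rcases hc' with rfl | hc'
    · exact ⟨1, 0, by simp⟩
    · rw [Set.mem_singleton_iff] at hc'; subst hc'
      exact ⟨0, 1, by simp⟩
  | one => exact ⟨0, 0, by simp⟩
  | mul c d _ _ ihc ihd =>
    obtain ⟨j, k, rfl⟩ := ihc
    obtain ⟨j', k', rfl⟩ := ihd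
    refine ⟨j + j', k + k', ?_⟩
    have h1 : Commute (v ^ k) (u ^ j') := (hc.pow_pow j' k).symm
    calc u ^ j * v ^ k * (u ^ j' * v ^ k') = u ^ j * (v ^ k * u ^ j') * v ^ k' := by group
      _ = u ^ j * (u ^ j' * v ^ k) * v ^ k' := by rw [h1.eq]
      _ = u ^ (j + j') * v ^ (k + k') := by rw [pow_add, pow_add]; group
  | inv c _ ihc =>
    obtain ⟨j, k, rfl⟩ := ihc
    refine ⟨j * (a - 1), k * (b - 1), ?_⟩
    have h1 : Commute (u ^ j) (v ^ k) := hc.pow_pow j k
    have hu' : (u ^ j)⁻¹ = u ^ (j * (a - 1)) := by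
      apply inv_eq_of_mul_eq_one_right
      rw [← pow_add, show j + j * (a - 1) = a * j by
        obtain ⟨a', rfl⟩ : ∃ a', a = a' + 1 := ⟨a - 1, by omega⟩
        simp; ring, pow_mul, hu, one_pow]
    have hv' : (v ^ k)⁻¹ = v ^ (k * (b - 1)) := by
      apply inv_eq_of_mul_eq_one_right
      rw [← pow_add, show k + k * (b - 1) = b * k by
        obtain ⟨b', rfl⟩ : ∃ b', b = b' + 1 := ⟨b - 1, by omega⟩
        simp; ring, pow_mul, hv, one_pow]
    rw [mul_inv_rev, h1.inv_inv.eq.symm, hu', hv']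

end Cfsg.Agent.Lib.Helper10.RES
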