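import Mathlib
import Cfsg.Agent.Lib.Helper10.RES.Defs
import Cfsg.Agent.Lib.Helper22.RESAux
import Cfsg.Agent.Lib.Helper25.RESGA1
import Cfsg.Agent.Lib.Helper25.RESGA4
import Cfsg.Agent.Lib.Helper25.RESGA5
import Cfsg.Agent.Lib.Helper16.RESGA6a
import Cfsg.Agent.Lib.Helper11.RESGZ2
import Cfsg.Agent.Lib.Helper11.RESGZ5
import Cfsg.Agent.Lib.Helper11.RESGZ1

/-!
# Project RES, piece GZ4 : `F2Set.T_facts`
-/

set_option autoImplicit false
set_option linter.unusedVariables false

namespace Cfsg.Agent.Lib.Helper10.RES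

open Cfsg

variable {Ω : Type*} [Group Ω]

section G
variable {p n s : ℕ} [Fact p.Prime] {S : Subgroup Ω} {x y z : Ω}

/-- `ζ^s = z^(s p^(n-3))` lies in `Z` -/
theorem F2Set.resgz4_zeta_mem (hF : F2Set p n s S x y z) : z ^ (s * p ^ (n - 3)) ∈ ZZ p z := by
  have h := hF.zp_central.2.2.2
  rw [mul_comm, pow_mul]
  exact (ZZ p z).pow_mem h s

/-- `x y x⁻¹ = y ζ^(-s)` -/
theorem F2Set.resgz4_x_y (hF : F2Set p n s S x y z) :
    x * y * x⁻¹ = y * (z ^ (s * p ^ (n - 3)))⁻¹ := by
  obtain ⟨hx, hy, hz, hA⟩ := hF.mems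
  have hZ := hF.resgz4_zeta_mem
  obtain ⟨m, hm⟩ := Subgroup.mem_zpowers_iff.1 hZ
  have hcen : ∀ g ∈ S, g * z ^ (s * p ^ (n - 3)) = z ^ (s * p ^ (n - 3)) * g := by
    intro g hg
    rw [← hm]
    exact (Commute.zpow_right (show Commute g (z ^ p) from hF.zp_central.1 g hg) m).eq
  have h1 := hF.xy
  have hcx : x * z ^ (s * p ^ (n - 3)) * x⁻¹ = z ^ (s * p ^ (n - 3)) := by
    rw [hcen x hx]; group
  have e2 : y = x * y * x⁻¹ * z ^ (s * p ^ (n - 3)) := by
    calc y = x * (x⁻¹ * y * x) * x⁻¹ := by group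
      _ = x * (y * z ^ (s * p ^ (n - 3))) * x⁻¹ := by rw [h1]
      _ = x * y * x⁻¹ * (x * z ^ (s * p ^ (n - 3)) * x⁻¹) := by group
      _ = x * y * x⁻¹ * z ^ (s * p ^ (n - 3)) := by rw [hcx]
  calc x * y * x⁻¹ = (x * y * x⁻¹ * z ^ (s * p ^ (n - 3))) * (z ^ (s * p ^ (n - 3)))⁻¹ := by group
    _ = y * (z ^ (s * p ^ (n - 3)))⁻¹ := by rw [← e2]

/-- **GZ4**. `Z ≤ T ≤ A`, `[S,S] ≤ T`, `[T,S] ≤ Z`, `T` abelian of exponent `p^(n-3)`, `z` centralizes `T`. -/
theorem F2Set.T_facts (hF : F2Set p n s S x y z) :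
    ZZ p z ≤ TT p y z ∧ TT p y z ≤ AA y z ∧
      (∀ g ∈ S, ∀ h ∈ S, g⁻¹ * (h * g * h⁻¹) ∈ TT p y z) ∧
      (∀ g ∈ S, ∀ t ∈ TT p y z, t⁻¹ * (g * t * g⁻¹) ∈ ZZ p z) ∧
      (∀ t ∈ TT p y z, t ^ p ^ (n - 3) = 1) ∧
      ∀ t ∈ TT p y z, z * t * z⁻¹ = t := by
  obtain ⟨hx, hy, hz, hA⟩ := hF.mems
  have hzpc := hF.zp_central.1
  have hζZ := hF.resgz4_zeta_mem
  have hn4 := hF.hn4
  -- (a)
  have hZT : ZZ p z ≤ TT p y z := by
    unfold ZZ TT
    rw [Subgroup.zpowers_le]
    exact Subgroup.subset_closure (by simp)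
  -- (b)
  have hTA : TT p y z ≤ AA y z := by
    unfold TT AA
    rw [Subgroup.closure_le]
    intro t ht
    rcases ht with rfl | ht
    · exact Subgroup.subset_closure (by simp)
    · rw [Set.mem_singleton_iff] at ht; subst ht
      exact Subgroup.pow_mem _ (Subgroup.subset_closure (by simp)) p
  have hTS : TT p y z ≤ S := hTA.trans hA
  have hζT : z ^ (s * p ^ (n - 3)) ∈ TT p y z := hZT hζZ
  have hyT : y ∈ TT p y z := Subgroup.subset_closure (by simp)
  have hzpT : z ^ p ∈ TT p y z := Subgroup.subset_closure (by simp)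
  -- Z is central in S
  have hZcen : ∀ g ∈ S, ∀ k₀ ∈ ZZ p z, g * k₀ = k₀ * g := by
    intro g hg k₀ hk₀
    obtain ⟨m, rfl⟩ := Subgroup.mem_zpowers_iff.1 hk₀
    exact (Commute.zpow_right (show Commute g (z ^ p) from hzpc g hg) m).eq
  -- T is normalized by S
  have hgen : Subgroup.closure ({x, y, z} : Set Ω) = S := hF.gen
  have hTn : ∀ g ∈ S, ∀ t ∈ TT p y z, g * t * g⁻¹ ∈ TT p y z ∧ g⁻¹ * t * g ∈ TT p y z := by
    rw [← hgen]
    apply res22_conj_closure
    intro g hg
    have key : ∀ g : Ω, (g * y * g⁻¹ ∈ TT p y z) → (g * z ^ p * g⁻¹ = z ^ p) →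
        ∀ t ∈ TT p y z, g * t * g⁻¹ ∈ TT p y z := by
      intro g h1 h2
      apply res22_conj_gens
      intro t ht
      rcases ht with rfl | ht
      · exact h1
      · rw [Set.mem_singleton_iff] at ht; subst ht
        rw [h2]; exact hzpT
    have hcz : ∀ g ∈ S, g * z ^ p * g⁻¹ = z ^ p ∧ g⁻¹ * z ^ p * g = z ^ p := by
      intro g hg
      have := hzpc g hg
      constructor
      · rw [this]; group
      · have h' : z ^ p * g = g * z ^ p := this.symm
        rw [mul_assoc, h']; group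
    have hxn : ∀ t ∈ TT p y z, x * t * x⁻¹ ∈ TT p y z ∧ x⁻¹ * t * x ∈ TT p y z := by
      intro t ht
      constructor
      · apply key x _ (hcz x hx).1 t ht
        rw [hF.resgz4_x_y]
        exact (TT p y z).mul_mem hyT ((TT p y z).inv_mem hζT)
      · have := key x⁻¹ ?_ ?_ t ht
        · simpa using this
        · rw [inv_inv, hF.xy]; exact (TT p y z).mul_mem hyT hζT
        · rw [inv_inv]; exact (hcz x hx).2
    have hyn : ∀ t ∈ TT p y z, y * t * y⁻¹ ∈ TT p y z ∧ y⁻¹ * t * y ∈ TT p y z := by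
      intro t ht
      constructor
      · apply key y _ (hcz y hy).1 t ht
        have : y * y * y⁻¹ = y := by group
        rw [this]; exact hyT
      · have := key y⁻¹ ?_ ?_ t ht
        · simpa using this
        · have : y⁻¹ * y * y⁻¹⁻¹ = y := by group
          rw [this]; exact hyT
        · rw [inv_inv]; exact (hcz y hy).2
    have hzn : ∀ t ∈ TT p y z, z * t * z⁻¹ ∈ TT p y z ∧ z⁻¹ * t * z ∈ TT p y z := by
      intro t ht
      have hyz : z * y * z⁻¹ = y := by
        rw [← hF.yz]; group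
      have hyz' : z⁻¹ * y * z = y := by
        rw [mul_assoc, hF.yz]; group
      constructor
      · apply key z _ (hcz z hz).1 t ht
        rw [hyz]; exact hyT
      · have := key z⁻¹ ?_ ?_ t ht
        · simpa using this
        · rw [inv_inv, hyz']; exact hyT
        · rw [inv_inv]; exact (hcz z hz).2
    rcases hg with h | h | h
    · rw [h]; exact hxn
    · rw [h]; exact hyn
    · rw [Set.mem_singleton_iff] at h; rw [h]; exact hzn
  have hTn1 : ∀ g ∈ S, ∀ t ∈ TT p y z, g * t * g⁻¹ ∈ TT p y z := fun g hg t ht => (hTn g hg t ht).1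
  refine ⟨hZT, hTA, ?_, ?_, ?_, ?_⟩
  · -- (c) [S,S] ≤ T
    have h := res22_comm_closure (TT p y z) ({x, y, z} : Set Ω) ({x, y, z} : Set Ω)
      (by rw [hgen]; exact hTn1) (by rw [hgen]; exact hTn1) ?_
    · rw [hgen] at h; exact h
    · -- generators
      have hxy : x⁻¹ * (y * x * y⁻¹) ∈ TT p y z := by
        -- = (x⁻¹ y x) y⁻¹ = y ζ y⁻¹
        have : x⁻¹ * (y * x * y⁻¹) = (x⁻¹ * y * x) * y⁻¹ := by group
        rw [this, hF.xy]
        exact (TT p y z).mul_mem ((TT p y z).mul_mem hyT hζT) ((TT p y z).inv_mem hyT)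
      have hxz : x⁻¹ * (z * x * z⁻¹) ∈ TT p y z := by
        have : x⁻¹ * (z * x * z⁻¹) = (x⁻¹ * z * x) * z⁻¹ := by group
        rw [this, hF.xz]
        have : y * z * z⁻¹ = y := by group
        rw [this]; exact hyT
      have hinvsw : ∀ a b : Ω, a ∈ S → b ∈ S → a⁻¹ * (b * a * b⁻¹) ∈ TT p y z →
          b⁻¹ * (a * b * a⁻¹) ∈ TT p y z := by
        intro a b ha hb h
        have : b⁻¹ * (a * b * a⁻¹) = b⁻¹ * (a * (a⁻¹ * (b * a * b⁻¹))⁻¹ * a⁻¹) * b := by group
        rw [this]
        exact (hTn b hb _ (hTn1 a ha _ ((TT p y z).inv_mem h))).2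
      have hyzc : y⁻¹ * (z * y * z⁻¹) ∈ TT p y z := by
        have : y⁻¹ * (z * y * z⁻¹) = 1 := by rw [← hF.yz]; group
        rw [this]; exact (TT p y z).one_mem
      have hself : ∀ a : Ω, a⁻¹ * (a * a * a⁻¹) ∈ TT p y z := by
        intro a
        have : a⁻¹ * (a * a * a⁻¹) = 1 := by group
        rw [this]; exact (TT p y z).one_mem
      intro a ha b hb
      rcases ha with ha | ha | ha <;> rcases hb with hb | hb | hb
      · rw [ha, hb]; exact hself _
      · rw [ha, hb]; exact hxy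
      · rw [Set.mem_singleton_iff] at hb; rw [ha, hb]; exact hxz
      · rw [ha, hb]; exact hinvsw x y hx hy hxy
      · rw [ha, hb]; exact hself _
      · rw [Set.mem_singleton_iff] at hb; rw [ha, hb]; exact hyzc
      · rw [Set.mem_singleton_iff] at ha; rw [ha, hb]; exact hinvsw x z hx hz hxz
      · rw [Set.mem_singleton_iff] at ha; rw [ha, hb]; exact hinvsw y z hy hz hyzc
      · rw [Set.mem_singleton_iff] at ha hb; rw [ha, hb]; exact hself _
  · -- (d) [T,S] ≤ Z
    have hZn : ∀ g ∈ S, ∀ t ∈ ZZ p z, g * t * g⁻¹ ∈ ZZ p z := by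
      intro g hg t ht
      rw [hZcen g hg t ht]
      have : t * g * g⁻¹ = t := by group
      rw [this]; exact ht
    have h := res22_comm_closure (ZZ p z) ({y, z ^ p} : Set Ω) ({x, y, z} : Set Ω)
      (fun g hg => hZn g (hTS hg)) (by rw [hgen]; exact hZn) ?_
    · intro g hg t ht
      rw [hgen] at h
      exact h t ht g hg
    · intro a ha b hb
      have hbS : b ∈ S := by
        rw [← hgen]; exact Subgroup.subset_closure hb
      rcases ha with ha | ha
      · rw [ha]
        rcases hb with hb | hb | hb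
        · rw [hb, hF.resgz4_x_y]
          have : y⁻¹ * (y * (z ^ (s * p ^ (n - 3)))⁻¹) = (z ^ (s * p ^ (n - 3)))⁻¹ := by group
          rw [this]; exact (ZZ p z).inv_mem hζZ
        · rw [hb]
          have : y⁻¹ * (y * y * y⁻¹) = 1 := by group
          rw [this]; exact (ZZ p z).one_mem
        · rw [Set.mem_singleton_iff] at hb; rw [hb]
          have : y⁻¹ * (z * y * z⁻¹) = 1 := by rw [← hF.yz]; group
          rw [this]; exact (ZZ p z).one_mem
      · rw [Set.mem_singleton_iff] at ha; rw [ha]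
        have : (z ^ p)⁻¹ * (b * z ^ p * b⁻¹) = 1 := by
          rw [hzpc b hbS]; group
        rw [this]; exact (ZZ p z).one_mem
  · -- (e) exponent
    unfold TT
    apply res22_pow_closure
    · intro a ha b hb
      have hyzp : y * z ^ p = z ^ p * y := (Commute.pow_right (show Commute y z from hF.yz) p).eq
      rcases ha with ha | ha <;> rcases hb with hb | hb
      · rw [ha, hb]
      · rw [Set.mem_singleton_iff] at hb; rw [ha, hb]; exact hyzp
      · rw [Set.mem_singleton_iff] at ha; rw [ha, hb]; exact hyzp.symm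
      · rw [Set.mem_singleton_iff] at ha hb; rw [ha, hb]
    · intro a ha
      rcases ha with ha | ha
      · rw [ha]
        have : p ^ (n - 3) = p * p ^ (n - 4) := by
          rw [← pow_succ']; congr 1; omega
        rw [this, pow_mul, hF.yp, one_pow]
      · rw [Set.mem_singleton_iff] at ha; rw [ha]
        rw [← pow_mul, ← pow_succ']
        have : n - 3 + 1 = n - 2 := by omega
        rw [this, hF.zp]
  · -- (f) z centralizes T
    have hle : TT p y z ≤ Subgroup.centralizer ({z} : Set Ω) := by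
      unfold TT
      rw [Subgroup.closure_le]
      intro t ht
      rw [SetLike.mem_coe, Subgroup.mem_centralizer_iff]
      intro c hc
      rw [Set.mem_singleton_iff] at hc; subst hc
      rcases ht with ht | ht
      · rw [ht]; exact hF.yz.symm
      · rw [Set.mem_singleton_iff] at ht; rw [ht]
        exact (Commute.pow_right (Commute.refl c) p).eq
    intro t ht
    have := Subgroup.mem_centralizer_iff.1 (hle ht) z (Set.mem_singleton z)
    rw [this]; group

end G

end Cfsg.Agent.Lib.Helper10.RES
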