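import Mathlib
import Cfsg.Agent.Lib.Helper10.RES.Defs
import Cfsg.Agent.Lib.Helper22.RESAux
import Cfsg.Agent.Lib.Helper25.RESGA1
import Cfsg.Agent.Lib.Helper25.RESGA4
import Cfsg.Agent.Lib.Helper25.RESGA5
import Cfsg.Agent.Lib.Helper16.RESGA6a
import Cfsg.Agent.Lib.Helper11.RESGZ2
import Cfsg.Agent.Lib.Helper11.RESGZ5
import Cfsg.Agent.Lib.Helper11.RESGZ1
import Cfsg.Agent.Lib.Helper22.RESGZ4

/-!
# Project RES, piece GQ1a : `F2Set.Q_basic`
-/

set_option autoImplicit false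
set_option linter.unusedVariables false
set_option linter.unusedSectionVars false

namespace Cfsg.Agent.Lib.Helper10.RES

open Cfsg

variable {Ω : Type*} [Group Ω]

section G
variable {p n s : ℕ} [Fact p.Prime] {S : Subgroup Ω} {x y z : Ω}

/-- `S` normalizes `T` (both directions) -/
theorem F2Set.resgq1a_T_normal (hF : F2Set p n s S x y z) :
    ∀ g ∈ S, ∀ t ∈ TT p y z, g * t * g⁻¹ ∈ TT p y z := by
  obtain ⟨hZT, hTA, hSS, hTS, hexp, hzc⟩ := hF.T_facts
  obtain ⟨hx, hy, hz, hA⟩ := hF.mems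
  intro g hg t ht
  have htS : t ∈ S := hA (hTA ht)
  -- g t g⁻¹ = t * (t⁻¹ g t g⁻¹)
  have : g * t * g⁻¹ = t * (t⁻¹ * (g * t * g⁻¹)) := by group
  rw [this]
  exact (TT p y z).mul_mem ht (hSS t htS g hg)

/-- normal form of the elements of `T` -/
theorem F2Set.resgq1a_T_form (hF : F2Set p n s S x y z) :
    ∀ t ∈ TT p y z, ∃ j k : ℕ, t = y ^ j * (z ^ p) ^ k := by
  have hp := (Fact.out : p.Prime)
  have hn4 := hF.hn4
  apply res22_pair_form y (z ^ p) p (p ^ (n - 3)) hp.pos (pow_pos hp.pos _)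
  · exact (Commute.pow_right (show Commute y z from hF.yz) p).eq
  · exact hF.yp
  · rw [← pow_mul, ← pow_succ']
    have : n - 3 + 1 = n - 2 := by omega
    rw [this, hF.zp]

/-- **GQ1a**. `Q ⊴ S`, `T ≤ Q`, `x ∈ Q`, `z ∉ Q`, `Q = ⟨x⟩ T`. -/
theorem F2Set.Q_basic (hF : F2Set p n s S x y z) :
    QQ p x y z ≤ S ∧ S ≤ Subgroup.normalizer (QQ p x y z : Set Ω) ∧ TT p y z ≤ QQ p x y z ∧
      x ∈ QQ p x y z ∧ z ∉ QQ p x y z ∧
      ∀ q ∈ QQ p x y z, ∃ i : ℕ, ∃ t ∈ TT p y z, q = x ^ i * t := by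
  have hp := (Fact.out : p.Prime)
  have hn4 := hF.hn4
  obtain ⟨hZT, hTA, hSS, hTS, hexp, hzc⟩ := hF.T_facts
  obtain ⟨hx, hy, hz, hA⟩ := hF.mems
  have hTn := hF.resgq1a_T_normal
  have hQS : QQ p x y z ≤ S := by
    unfold QQ
    rw [Subgroup.closure_le]
    intro q hq
    rcases hq with hq | hq | hq
    · rw [hq]; exact hy
    · rw [hq]; exact S.pow_mem hz p
    · rw [Set.mem_singleton_iff] at hq; rw [hq]; exact hx
  have hTQ : TT p y z ≤ QQ p x y z := by
    unfold TT QQ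
    apply Subgroup.closure_mono
    intro t ht
    rcases ht with ht | ht
    · rw [ht]; simp
    · rw [Set.mem_singleton_iff] at ht; rw [ht]; simp
  have hxQ : x ∈ QQ p x y z := Subgroup.subset_closure (by simp)
  have hconj : ∀ g ∈ S, ∀ q ∈ QQ p x y z, g * q * g⁻¹ ∈ QQ p x y z := by
    intro g hg q hq
    have : g * q * g⁻¹ = q * (q⁻¹ * (g * q * g⁻¹)) := by group
    rw [this]
    exact (QQ p x y z).mul_mem hq (hTQ (hSS q (hQS hq) g hg))
  -- the product form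
  have hform : ∀ q ∈ QQ p x y z, ∃ i : ℕ, ∃ t ∈ TT p y z, q = x ^ i * t := by
    intro q hq
    unfold QQ at hq
    induction hq using Subgroup.closure_induction with
    | mem c hc =>
      rcases hc with hc | hc | hc
      · exact ⟨0, c, by rw [hc]; exact Subgroup.subset_closure (by simp), by simp⟩
      · exact ⟨0, c, by rw [hc]; exact Subgroup.subset_closure (by simp), by simp⟩
      · rw [Set.mem_singleton_iff] at hc
        exact ⟨1, 1, (TT p y z).one_mem, by rw [hc]; simp⟩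
    | one => exact ⟨0, 1, (TT p y z).one_mem, by simp⟩
    | mul a b _ _ iha ihb =>
      obtain ⟨i, t, ht, rfl⟩ := iha
      obtain ⟨i', t', ht', rfl⟩ := ihb
      refine ⟨i + i', ((x ^ i')⁻¹ * t * (x ^ i')⁻¹⁻¹) * t', ?_, ?_⟩
      · exact (TT p y z).mul_mem (hTn _ (S.inv_mem (S.pow_mem hx i')) t ht) ht'
      · rw [pow_add]; group
    | inv a _ iha =>
      obtain ⟨i, t, ht, rfl⟩ := iha
      refine ⟨i * (p - 1), x ^ i * t⁻¹ * (x ^ i)⁻¹, ?_, ?_⟩
      · exact hTn _ (S.pow_mem hx i) _ ((TT p y z).inv_mem ht)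
      · have hxi : (x ^ i)⁻¹ = x ^ (i * (p - 1)) := by
          apply inv_eq_of_mul_eq_one_right
          rw [← pow_add, show i + i * (p - 1) = p * i by
            obtain ⟨p', rfl⟩ : ∃ p', p = p' + 1 := ⟨p - 1, by have := hp.pos; omega⟩
            simp; ring, pow_mul, hF.xp, one_pow]
        rw [← hxi]; group
  refine ⟨hQS, ?_, hTQ, hxQ, ?_, hform⟩
  · intro g hg
    rw [Subgroup.mem_normalizer_iff]
    intro h
    constructor
    · exact hconj g hg h
    · intro hh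
      have := hconj g⁻¹ (S.inv_mem hg) _ hh
      have e : g⁻¹ * (g * h * g⁻¹) * g⁻¹⁻¹ = h := by group
      rw [e] at this
      exact this
  · intro hzQ
    obtain ⟨i, t, ht, hzt⟩ := hform z hzQ
    obtain ⟨j, k, rfl⟩ := hF.resgq1a_T_form t ht
    -- z⁻¹ = z^(p^(n-2) - 1)
    have hzinv : z⁻¹ = z ^ (p ^ (n - 2) - 1) := by
      apply inv_eq_of_mul_eq_one_right
      rw [← pow_succ']
      have : p ^ (n - 2) - 1 + 1 = p ^ (n - 2) := Nat.sub_add_cancel (pow_pos hp.pos _)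
      rw [this, hF.zp]
    have h1 : x ^ i * (y ^ j * z ^ (p * k + (p ^ (n - 2) - 1))) = 1 := by
      rw [pow_add, ← hzinv, pow_mul]
      have : x ^ i * (y ^ j * ((z ^ p) ^ k * z⁻¹)) = (x ^ i * (y ^ j * (z ^ p) ^ k)) * z⁻¹ := by group
      rw [this, ← hzt]; group
    obtain ⟨-, -, h2⟩ := hF.normal_form i j _ h1
    have h3 : p ∣ p ^ (n - 2) := dvd_pow_self p (by omega)
    have h4 : p ∣ p * k + (p ^ (n - 2) - 1) := h3.trans h2
    have h5 : p ∣ p ^ (n - 2) - 1 := (Nat.dvd_add_right (dvd_mul_right p k)).1 h4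
    have h6 : p ∣ 1 := by
      have := Nat.dvd_sub h3 h5
      rwa [Nat.sub_sub_self (pow_pos hp.pos _)] at this
    exact hp.one_lt.ne' (Nat.dvd_one.1 h6)

end G

end Cfsg.Agent.Lib.Helper10.RES
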