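import Mathlib
import Cfsg.Agent.Lib.Helper10.RES.Defs
import Cfsg.Agent.Lib.Helper22.RESAux
import Cfsg.Agent.Lib.Helper25.RESGA1
import Cfsg.Agent.Lib.Helper25.RESGA4
import Cfsg.Agent.Lib.Helper25.RESGA5
import Cfsg.Agent.Lib.Helper16.RESGA6a
import Cfsg.Agent.Lib.Helper11.RESGZ2
import Cfsg.Agent.Lib.Helper11.RESGZ5
import Cfsg.Agent.Lib.Helper11.RESGZ1

/-!
# Project RES, piece GZ3 : `F2Set.center_le`
-/

set_option autoImplicit false
set_option linter.unusedVariables false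
set_option linter.unusedSectionVars false

namespace Cfsg.Agent.Lib.Helper10.RES

open Cfsg

variable {Ω : Type*} [Group Ω]

section G
variable {p n s : ℕ} [Fact p.Prime] {S : Subgroup Ω} {x y z : Ω}

/-- `(ζ^s)^m = 1` forces `p ∣ m` -/
theorem F2Set.resgz3_zeta_pow (hF : F2Set p n s S x y z) (m : ℕ)
    (h : (z ^ (s * p ^ (n - 3))) ^ m = 1) : p ∣ m := by
  have hp := (Fact.out : p.Prime)
  have hord := hF.orders.1
  have hn4 := hF.hn4
  rw [← pow_mul, ← orderOf_dvd_iff_pow_eq_one, hord] at h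
  have h2 : p ^ (n - 2) = p ^ (n - 3) * p := by
    rw [← pow_succ]; congr 1; omega
  rw [h2, show s * p ^ (n - 3) * m = p ^ (n - 3) * (s * m) by ring] at h
  have h3 : p ∣ s * m := (Nat.mul_dvd_mul_iff_left (pow_pos hp.pos _)).1 h
  rcases hp.dvd_mul.1 h3 with h4 | h4
  · exact absurd h4 hF.hs
  · exact h4

/-- if `x^i a` (with `a ∈ A`) commutes with `y` then `p ∣ i` -/
theorem F2Set.resgz3_comm_y (hF : F2Set p n s S x y z) (i : ℕ) (a : Ω) (ha : a ∈ AA y z)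
    (hc : (x ^ i * a) * y = y * (x ^ i * a)) : p ∣ i := by
  have hyA : y ∈ AA y z := Subgroup.subset_closure (by simp)
  have hay : a * y = y * a := hF.A_comm a ha y hyA
  have h1 : (x ^ i)⁻¹ * y * x ^ i = y := by
    have : x ^ i * y * a = y * x ^ i * a := by
      calc x ^ i * y * a = x ^ i * (y * a) := by group
        _ = x ^ i * (a * y) := by rw [hay]
        _ = (x ^ i * a) * y := by group
        _ = y * (x ^ i * a) := hc
        _ = y * x ^ i * a := by group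
    have h2 : x ^ i * y = y * x ^ i := mul_right_cancel this
    rw [mul_assoc, ← h2]; group
  rw [(hF.conj_pow i).2] at h1
  have h3 : (z ^ (s * p ^ (n - 3))) ^ i = 1 := by
    have := mul_left_cancel (a := y) (b := (z ^ (s * p ^ (n - 3))) ^ i) (c := 1) (by rw [h1, mul_one])
    exact this
  exact hF.resgz3_zeta_pow i h3

/-- `x^i = 1` when `p ∣ i` -/
theorem F2Set.resgz3_x_pow (hF : F2Set p n s S x y z) (i : ℕ) (hi : p ∣ i) : x ^ i = 1 := by
  obtain ⟨c, rfl⟩ := hi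
  rw [pow_mul, hF.xp, one_pow]

/-- **GZ3**. `Z(S) = Z`. -/
theorem F2Set.center_le (hF : F2Set p n s S x y z) (g : Ω) (hg : g ∈ S)
    (hc : ∀ h ∈ S, g * h = h * g) : g ∈ ZZ p z := by
  have hp := (Fact.out : p.Prime)
  obtain ⟨hx, hy, hz, hA⟩ := hF.mems
  obtain ⟨i, a, ha, rfl⟩ := hF.repr.1 g hg
  obtain ⟨j, k, rfl⟩ := hF.repr.2 a ha
  have hi : p ∣ i := hF.resgz3_comm_y i _ ha (hc y hy)
  have hxi : x ^ i = 1 := hF.resgz3_x_pow i hi
  rw [hxi, one_mul] at hc ⊢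
  -- commute with x
  have h1 := hc x hx
  have h2 : x⁻¹ * (y ^ j * z ^ k) * x = y ^ j * z ^ k := by
    rw [mul_assoc, h1]; group
  have hζ : ∀ m : ℕ, Commute y ((z ^ (s * p ^ (n - 3))) ^ m) :=
    fun m => ((show Commute y z from hF.yz).pow_right _).pow_right m
  have hyz : Commute y z := hF.yz
  have h3 : x⁻¹ * (y ^ j * z ^ k) * x =
      (y * z ^ (s * p ^ (n - 3))) ^ j * (y * z) ^ k := by
    have hcp : ∀ (w : Ω) (m : ℕ), (x⁻¹ * w * x) ^ m = x⁻¹ * w ^ m * x := by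
      intro w m
      have := _root_.conj_pow (a := x⁻¹) (b := w) (i := m)
      simpa using this
    have : x⁻¹ * (y ^ j * z ^ k) * x = (x⁻¹ * y * x) ^ j * (x⁻¹ * z * x) ^ k := by
      rw [hcp, hcp]
      group
    rw [this, hF.xy, hF.xz]
  rw [h3] at h2
  have hyζ : Commute y (z ^ (s * p ^ (n - 3))) := hyz.pow_right _
  rw [hyζ.mul_pow, hyz.mul_pow] at h2
  -- y^j ζ^j y^k z^k = y^j z^k  ⇒  y^k ζ^j = 1
  have hzz : Commute (z ^ (s * p ^ (n - 3))) z := (Commute.refl z).pow_left _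
  have h4 : y ^ k * z ^ (s * p ^ (n - 3) * j) = 1 := by
    have e1 : y ^ j * (z ^ (s * p ^ (n - 3))) ^ j * (y ^ k * z ^ k) =
        (y ^ j * z ^ k) * (y ^ k * (z ^ (s * p ^ (n - 3))) ^ j) := by
      have c1 : Commute ((z ^ (s * p ^ (n - 3))) ^ j) (y ^ k) := ((hyζ.pow_pow k j).symm)
      have c2 : Commute ((z ^ (s * p ^ (n - 3))) ^ j) (z ^ k) := hzz.pow_pow j k
      have c3 : Commute (z ^ k) (y ^ k) := (hyz.pow_pow k k).symm
      calc y ^ j * (z ^ (s * p ^ (n - 3))) ^ j * (y ^ k * z ^ k)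
          = y ^ j * ((z ^ (s * p ^ (n - 3))) ^ j * y ^ k) * z ^ k := by group
        _ = y ^ j * (y ^ k * (z ^ (s * p ^ (n - 3))) ^ j) * z ^ k := by rw [c1.eq]
        _ = y ^ j * y ^ k * ((z ^ (s * p ^ (n - 3))) ^ j * z ^ k) := by group
        _ = y ^ j * y ^ k * (z ^ k * (z ^ (s * p ^ (n - 3))) ^ j) := by rw [c2.eq]
        _ = y ^ j * (y ^ k * z ^ k) * (z ^ (s * p ^ (n - 3))) ^ j := by group
        _ = y ^ j * (z ^ k * y ^ k) * (z ^ (s * p ^ (n - 3))) ^ j := by rw [c3.eq]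
        _ = (y ^ j * z ^ k) * (y ^ k * (z ^ (s * p ^ (n - 3))) ^ j) := by group
    rw [e1] at h2
    have := mul_left_cancel (a := y ^ j * z ^ k) (b := y ^ k * (z ^ (s * p ^ (n - 3))) ^ j) (c := 1)
      (by rw [h2, mul_one])
    rw [← pow_mul] at this
    exact this
  have h5 := hF.normal_form 0 k (s * p ^ (n - 3) * j) (by rw [pow_zero, one_mul]; exact h4)
  obtain ⟨-, hk, hj'⟩ := h5
  have hj : p ∣ j := by
    apply hF.resgz3_zeta_pow j
    rw [← pow_mul, ← orderOf_dvd_iff_pow_eq_one, hF.orders.1]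
    exact hj'
  have hyj : y ^ j = 1 := by
    obtain ⟨c, rfl⟩ := hj
    rw [pow_mul, hF.yp, one_pow]
  rw [hyj, one_mul]
  obtain ⟨c, rfl⟩ := hk
  rw [pow_mul]
  exact Subgroup.pow_mem _ (Subgroup.mem_zpowers _) c

end G

end Cfsg.Agent.Lib.Helper10.RES
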