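import Mathlib
import Cfsg.Agent.Lib.Helper10.RES.Defs
import Cfsg.Agent.Lib.Helper22.RESAux
import Cfsg.Agent.Lib.Helper25.RESGA1
import Cfsg.Agent.Lib.Helper25.RESGA4
import Cfsg.Agent.Lib.Helper25.RESGA5
import Cfsg.Agent.Lib.Helper16.RESGA6a
import Cfsg.Agent.Lib.Helper11.RESGZ2
import Cfsg.Agent.Lib.Helper11.RESGZ5
import Cfsg.Agent.Lib.Helper11.RESGZ1
import Cfsg.Agent.Lib.Helper22.RESGZ3
import Cfsg.Agent.Lib.Helper22.RESGZ4
import Cfsg.Agent.Lib.Helper22.RESGQ1a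

/-!
# Project RES, piece GQ1b : `F2Set.Q_center`
-/

set_option autoImplicit false
set_option linter.unusedVariables false
set_option linter.unusedSectionVars false

namespace Cfsg.Agent.Lib.Helper10.RES

open Cfsg

variable {Ω : Type*} [Group Ω]

section G
variable {p n s : ℕ} [Fact p.Prime] {S : Subgroup Ω} {x y z : Ω}

/-- **GQ1b**. `Z(Q) ≤ Z`. -/
theorem F2Set.Q_center (hF : F2Set p n s S x y z) (q : Ω) (hq : q ∈ QQ p x y z)
    (hc : ∀ q' ∈ QQ p x y z, q * q' = q' * q) : q ∈ ZZ p z := by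
  have hp := (Fact.out : p.Prime)
  obtain ⟨hZT, hTA, hSS, hTS, hexp, hzc⟩ := hF.T_facts
  obtain ⟨hx, hy, hz, hA⟩ := hF.mems
  obtain ⟨hQS, hQn, hTQ, hxQ, hzQ, hform⟩ := hF.Q_basic
  obtain ⟨i, t, ht, rfl⟩ := hform q hq
  have hyT : y ∈ TT p y z := Subgroup.subset_closure (by simp)
  have hi : p ∣ i := hF.resgz3_comm_y i t (hTA ht) (hc y (hTQ hyT))
  have hxi : x ^ i = 1 := hF.resgz3_x_pow i hi
  rw [hxi, one_mul] at hc ⊢
  obtain ⟨j, k, rfl⟩ := hF.resgq1a_T_form t ht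
  have h1 := hc x hxQ
  have h2 : x⁻¹ * (y ^ j * (z ^ p) ^ k) * x = y ^ j * (z ^ p) ^ k := by
    rw [mul_assoc, h1]; group
  have hzpc : x⁻¹ * (z ^ p) ^ k * x = (z ^ p) ^ k := by
    have h3 : Commute x ((z ^ p) ^ k) := (show Commute x (z ^ p) from hF.zp_central.1 x hx).pow_right k
    rw [mul_assoc, ← h3.eq]; group
  have hcp : ∀ (w : Ω) (m : ℕ), (x⁻¹ * w * x) ^ m = x⁻¹ * w ^ m * x := by
    intro w m
    have := _root_.conj_pow (a := x⁻¹) (b := w) (i := m)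
    simpa using this
  have h3 : x⁻¹ * (y ^ j * (z ^ p) ^ k) * x =
      (y * z ^ (s * p ^ (n - 3))) ^ j * (z ^ p) ^ k := by
    have : x⁻¹ * (y ^ j * (z ^ p) ^ k) * x = (x⁻¹ * y * x) ^ j * (x⁻¹ * (z ^ p) ^ k * x) := by
      rw [hcp]; group
    rw [this, hF.xy, hzpc]
  rw [h3] at h2
  have hyζ : Commute y (z ^ (s * p ^ (n - 3))) := (show Commute y z from hF.yz).pow_right _
  rw [hyζ.mul_pow] at h2
  have h4 : (z ^ (s * p ^ (n - 3))) ^ j = 1 := by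
    have e : y ^ j * (z ^ (s * p ^ (n - 3))) ^ j * (z ^ p) ^ k =
        y ^ j * ((z ^ (s * p ^ (n - 3))) ^ j * (z ^ p) ^ k) := by group
    rw [e] at h2
    have h5 := mul_left_cancel h2
    have h6 := mul_right_cancel (b := (z ^ p) ^ k) (a := (z ^ (s * p ^ (n - 3))) ^ j) (c := 1)
      (by rw [h5, one_mul])
    exact h6
  have hj : p ∣ j := hF.resgz3_zeta_pow j h4
  have hyj : y ^ j = 1 := by
    obtain ⟨c, rfl⟩ := hj
    rw [pow_mul, hF.yp, one_pow]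
  rw [hyj, one_mul]
  exact Subgroup.pow_mem _ (Subgroup.mem_zpowers _) k

end G

end Cfsg.Agent.Lib.Helper10.RES
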