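import Mathlib
import Cfsg.Agent.Lib.Helper10.RES.Defs
import Cfsg.Agent.Lib.Helper22.RESAux
import Cfsg.Agent.Lib.Helper25.RESGA1
import Cfsg.Agent.Lib.Helper25.RESGA4
import Cfsg.Agent.Lib.Helper25.RESGA5
import Cfsg.Agent.Lib.Helper16.RESGA6a
import Cfsg.Agent.Lib.Helper11.RESGZ2
import Cfsg.Agent.Lib.Helper11.RESGZ5
import Cfsg.Agent.Lib.Helper11.RESGZ1
import Cfsg.Agent.Lib.Helper22.RESGZ3
import Cfsg.Agent.Lib.Helper22.RESGZ4
import Cfsg.Agent.Lib.Helper22.RESGQ1a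

/-!
# Project RES, piece GQ1c : `F2Set.Q_quot`
-/

set_option autoImplicit false
set_option linter.unusedVariables false
set_option linter.unusedSectionVars false

namespace Cfsg.Agent.Lib.Helper10.RES

open Cfsg

variable {Ω : Type*} [Group Ω]

section G
variable {p n s : ℕ} [Fact p.Prime] {S : Subgroup Ω} {x y z : Ω}

/-- `y ∉ Z` -/
theorem F2Set.resgq1c_y_not_mem (hF : F2Set p n s S x y z) : y ∉ ZZ p z := by
  have hp := (Fact.out : p.Prime)
  have hn4 := hF.hn4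
  intro hy
  unfold ZZ at hy
  have hfin : IsOfFinOrder (z ^ p) := by
    rw [isOfFinOrder_iff_pow_eq_one]
    refine ⟨p ^ (n - 3), pow_pos hp.pos _, ?_⟩
    rw [← pow_mul, ← pow_succ']
    have : n - 3 + 1 = n - 2 := by omega
    rw [this, hF.zp]
  rw [← hfin.mem_powers_iff_mem_zpowers, Submonoid.mem_powers_iff] at hy
  obtain ⟨k, hk⟩ := hy
  -- y * (z^(pk))^(N-1) = y^N = 1
  have hN : y ^ (p ^ (n - 2)) = 1 := by
    have : p ^ (n - 2) = p * p ^ (n - 3) := by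
      rw [← pow_succ']; congr 1; omega
    rw [this, pow_mul, hF.yp, one_pow]
  have h1 : x ^ 0 * (y ^ 1 * z ^ (p * k * (p ^ (n - 2) - 1))) = 1 := by
    rw [pow_zero, one_mul, pow_one, pow_mul, pow_mul, hk, ← pow_succ']
    have : p ^ (n - 2) - 1 + 1 = p ^ (n - 2) := Nat.sub_add_cancel (pow_pos hp.pos _)
    rw [this, hN]
  obtain ⟨-, h2, -⟩ := hF.normal_form 0 1 _ h1
  exact hp.one_lt.ne' (Nat.dvd_one.1 h2)

/-- **GQ1c**. `Q/Z` is elementary abelian, and `z` acts nontrivially on it. -/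
theorem F2Set.Q_quot (hF : F2Set p n s S x y z) (hp5 : 5 ≤ p) :
    (∀ q ∈ QQ p x y z, q ^ p ∈ ZZ p z) ∧
      (∀ q ∈ QQ p x y z, ∀ q' ∈ QQ p x y z, q⁻¹ * q'⁻¹ * q * q' ∈ ZZ p z) ∧
      x⁻¹ * (z * x * z⁻¹) ∉ ZZ p z := by
  have hp := (Fact.out : p.Prime)
  obtain ⟨hZT, hTA, hSS, hTS, hexp, hzc⟩ := hF.T_facts
  obtain ⟨hx, hy, hz, hA⟩ := hF.mems
  obtain ⟨hQS, hQn, hTQ, hxQ, hzQ, hform⟩ := hF.Q_basic
  have hzpc := hF.zp_central.1
  have hζZ := hF.resgz4_zeta_mem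
  have hZcen : ∀ g ∈ S, ∀ k₀ ∈ ZZ p z, g * k₀ = k₀ * g := by
    intro g hg k₀ hk₀
    obtain ⟨m, rfl⟩ := Subgroup.mem_zpowers_iff.1 hk₀
    exact (Commute.zpow_right (show Commute g (z ^ p) from hzpc g hg) m).eq
  have hZn : ∀ g ∈ S, ∀ t ∈ ZZ p z, g * t * g⁻¹ ∈ ZZ p z := by
    intro g hg t ht
    rw [hZcen g hg t ht]
    have : t * g * g⁻¹ = t := by group
    rw [this]; exact ht
  refine ⟨?_, ?_, ?_⟩
  · intro q hq
    obtain ⟨i, t, ht, rfl⟩ := hform q hq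
    obtain ⟨j, k, rfl⟩ := hF.resgq1a_T_form t ht
    rw [← pow_mul, hF.pow_p hp5 i j (p * k), mul_comm (p * k) p, pow_mul]
    exact Subgroup.pow_mem _ (Subgroup.mem_zpowers _) _
  · have h := res22_comm_closure (ZZ p z) ({y, z ^ p, x} : Set Ω) ({y, z ^ p, x} : Set Ω)
      (fun g hg => hZn g (hQS hg)) (fun g hg => hZn g (hQS hg)) ?_
    · intro q hq q' hq'
      have e : q⁻¹ * q'⁻¹ * q * q' = q⁻¹ * (q'⁻¹ * q * q'⁻¹⁻¹) := by group
      rw [e]
      exact h q hq q'⁻¹ ((QQ p x y z).inv_mem hq')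
    · have hzp1 : ∀ b ∈ S, (z ^ p)⁻¹ * (b * z ^ p * b⁻¹) = 1 := by
        intro b hb
        rw [hzpc b hb]; group
      have hzp2 : ∀ a ∈ S, a⁻¹ * (z ^ p * a * (z ^ p)⁻¹) = 1 := by
        intro a ha
        rw [← hzpc a ha]; group
      have hself : ∀ a : Ω, a⁻¹ * (a * a * a⁻¹) = 1 := by intro a; group
      have hyx : y⁻¹ * (x * y * x⁻¹) ∈ ZZ p z := by
        rw [hF.resgz4_x_y]
        have : y⁻¹ * (y * (z ^ (s * p ^ (n - 3)))⁻¹) = (z ^ (s * p ^ (n - 3)))⁻¹ := by group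
        rw [this]; exact (ZZ p z).inv_mem hζZ
      have hxy : x⁻¹ * (y * x * y⁻¹) ∈ ZZ p z := by
        have e : x⁻¹ * (y * x * y⁻¹) = (x⁻¹ * y * x) * y⁻¹ := by group
        rw [e, hF.xy]
        have hyζ : Commute y (z ^ (s * p ^ (n - 3))) := (show Commute y z from hF.yz).pow_right _
        have : y * z ^ (s * p ^ (n - 3)) * y⁻¹ = z ^ (s * p ^ (n - 3)) := by
          rw [hyζ.eq]; group
        rw [this]; exact hζZ
      have hgS : ∀ c ∈ ({y, z ^ p, x} : Set Ω), c ∈ S := by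
        intro c hc
        rcases hc with hc | hc | hc
        · rw [hc]; exact hy
        · rw [hc]; exact S.pow_mem hz p
        · rw [Set.mem_singleton_iff] at hc; rw [hc]; exact hx
      intro a ha b hb
      have haS := hgS a ha
      have hbS := hgS b hb
      rcases ha with ha | ha | ha
      · rcases hb with hb | hb | hb
        · rw [ha, hb, hself]; exact (ZZ p z).one_mem
        · rw [hb, hzp2 a haS]; exact (ZZ p z).one_mem
        · rw [Set.mem_singleton_iff] at hb; rw [ha, hb]; exact hyx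
      · rw [ha, hzp1 b hbS]; exact (ZZ p z).one_mem
      · rw [Set.mem_singleton_iff] at ha
        rcases hb with hb | hb | hb
        · rw [ha, hb]; exact hxy
        · rw [hb, hzp2 a haS]; exact (ZZ p z).one_mem
        · rw [Set.mem_singleton_iff] at hb; rw [ha, hb, hself]; exact (ZZ p z).one_mem
  · have e : x⁻¹ * (z * x * z⁻¹) = y := by
      have h1 := hF.xz
      calc x⁻¹ * (z * x * z⁻¹) = (x⁻¹ * z * x) * z⁻¹ := by group
        _ = y * z * z⁻¹ := by rw [h1]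
        _ = y := by group
    rw [e]
    exact hF.resgq1c_y_not_mem

end G

end Cfsg.Agent.Lib.Helper10.RES
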