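import Mathlib
import Cfsg.Agent.Lib.Helper18.BLK.Defs
import Cfsg.Agent.Lib.Helper18.BLKS567
import Cfsg.Agent.Lib.Helper20.BLKS0

/-!
# Project BLK, piece B2 : `C_C(g) = Z` in case (β).
-/

set_option autoImplicit false

namespace Cfsg.Agent.Lib.Helper18.BLK

universe u

/-- one step: `d ∈ C` commuting with `g` and with `d^p ∈ Z` lies in `Z` -/
theorem Base.blkb2_step {G : Type u} [Group G] [Finite G] {p : ℕ} [Fact p.Prime]
    {E : Subgroup G} {z₀ : G} (B : Base p E z₀) (u₁ : G)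
    (hu : u₁ ∈ Subgroup.centralizer (E : Set G)) (hup : u₁ ^ p = z₀) (g : G)
    (hg : g ∉ Subgroup.centralizer (E : Set G)) (hgu : rc u₁ g ∉ Subgroup.zpowers z₀)
    (d : G) (hd : d ∈ Subgroup.centralizer (E : Set G)) (hdg : d * g = g * d)
    (hdp : d ^ p ∈ Subgroup.zpowers z₀) : d ∈ Subgroup.zpowers z₀ := by
  obtain ⟨j, e, he, hde⟩ := B.DZ_mem u₁ hu hup d hd hdp
  have h1 : rc d g = 1 := (rc_eq_one_iff d g).mpr hdg
  have h2 : rc u₁ g ^ j * rc e g = 1 := by
    rw [← B.rc_DZ u₁ hu hup j e he g, ← hde]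
    exact h1
  have hpj : p ∣ j :=
    B.dvd_of_pow_mul_mem (rc u₁ g) (B.rc_u1_mem_E u₁ hu hup g) hgu (rc e g) (B.rc_mem_Z e he g) j
      (by rw [h2]; exact one_mem _)
  obtain ⟨m, rfl⟩ := hpj
  have hdE : d ∈ E := by
    rw [hde, pow_mul, hup]
    exact E.mul_mem (E.pow_mem B.z₀E m) he
  by_contra hdZ
  exact B.rc_ne_one d hdE hdZ g hg h1

/-- **B2**. `C_C(g) = Z`. -/
theorem Base.cent_C_eq_Z {G : Type u} [Group G] [Finite G] {p : ℕ} [Fact p.Prime]
    {E : Subgroup G} {z₀ : G} (B : Base p E z₀) (u₁ : G)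
    (hu : u₁ ∈ Subgroup.centralizer (E : Set G)) (hup : u₁ ^ p = z₀) (g : G)
    (hg : g ∉ Subgroup.centralizer (E : Set G)) (hgu : rc u₁ g ∉ Subgroup.zpowers z₀)
    (c : G) (hc : c ∈ Subgroup.centralizer (E : Set G)) (hcg : c * g = g * c) :
    c ∈ Subgroup.zpowers z₀ := by
  have key : ∀ i : ℕ, c ^ p ^ i ∈ Subgroup.zpowers z₀ → c ∈ Subgroup.zpowers z₀ := by
    intro i
    induction i with
    | zero =>
      intro h
      simpa using h
    | succ i ih =>
      intro h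
      apply ih
      refine B.blkb2_step u₁ hu hup g hg hgu (c ^ p ^ i) (Subgroup.pow_mem _ hc _) ?_ ?_
      · have : Commute c g := hcg
        exact (this.pow_left (p ^ i)).eq
      · rw [← pow_mul, ← pow_succ]
        exact h
  obtain ⟨k, hk⟩ := B.pG c
  exact key k (by rw [hk]; exact one_mem _)

end Cfsg.Agent.Lib.Helper18.BLK
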