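import Mathlib
import Cfsg.Agent.Lib.Helper18.BLK.Defs
import Cfsg.Agent.Lib.helper4.BLKS1

/-!
# Project BLK, piece B3 : `|C_G(g)| = p²` in case (β).
-/

set_option autoImplicit false

namespace Cfsg.Agent.Lib.Helper18.BLK

universe u

/-- **B3**. `|C_G(g)| = p²`. -/
theorem Base.card_centralizer {G : Type u} [Group G] [Finite G] {p : ℕ} [Fact p.Prime]
    {E : Subgroup G} {z₀ : G} (B : Base p E z₀) (g : G)
    (hg : g ∉ Subgroup.centralizer (E : Set G))
    (h : ∀ c ∈ Subgroup.centralizer (E : Set G), c * g = g * c → c ∈ Subgroup.zpowers z₀) :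
    Nat.card (Subgroup.centralizer ({g} : Set G)) = p ^ 2 := by
  classical
  set C : Subgroup G := Subgroup.centralizer (E : Set G) with hC
  set K : Subgroup G := Subgroup.centralizer ({g} : Set G) with hK
  have hEn : E.Normal := B.nE
  have hCn : C.Normal := Subgroup.normal_centralizer
  have hidx : C.index = p := B.index_C
  have hgK : g ∈ K := by
    rw [hK, Subgroup.mem_centralizer_iff]
    intro x hx
    rw [Set.mem_singleton_iff.mp hx]
  have hmemK : ∀ c : G, c ∈ K ↔ c * g = g * c := by
    intro c
    rw [hK, Subgroup.mem_centralizer_iff]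
    constructor
    · intro hc
      exact (hc g (Set.mem_singleton g)).symm
    · intro hc x hx
      rw [Set.mem_singleton_iff.mp hx]
      exact hc.symm
  -- `C ⊓ K = Z`
  have hinf : C ⊓ K = Subgroup.zpowers z₀ := by
    apply le_antisymm
    · intro c hc
      exact h c hc.1 ((hmemK c).mp hc.2)
    · rw [Subgroup.zpowers_le]
      refine Subgroup.mem_inf.mpr ⟨?_, ?_⟩
      · rw [hC, Subgroup.mem_centralizer_iff]
        intro e _
        exact (Subgroup.mem_center_iff.mp B.z₀c e)
      · rw [hmemK]
        exact (Subgroup.mem_center_iff.mp B.z₀c g).symm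
  have hcardZ : Nat.card (Subgroup.zpowers z₀) = p := by
    rw [Nat.card_zpowers, B.z₀o]
  -- `K ⊔ C = ⊤`
  have hsup : K ⊔ C = ⊤ := by
    have h1 : C.relIndex (K ⊔ C) * (K ⊔ C).index = C.index :=
      Subgroup.relIndex_mul_index le_sup_right
    rw [hidx] at h1
    have hp : p.Prime := Fact.out
    have h2 : (K ⊔ C).index ∣ p := Dvd.intro_left _ h1
    rcases (Nat.dvd_prime hp).mp h2 with h3 | h3
    · exact Subgroup.index_eq_one.mp h3
    · exfalso
      rw [h3] at h1
      have h4 : C.relIndex (K ⊔ C) = 1 := by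
        have hp0 : 0 < p := hp.pos
        exact Nat.eq_of_mul_eq_mul_right hp0 (by rw [h1, one_mul])
      have h5 : K ⊔ C ≤ C := Subgroup.relIndex_eq_one.mp h4
      exact hg (h5 (Subgroup.mem_sup_left hgK))
  have hrel : C.relIndex K = p := by
    have := Subgroup.relIndex_sup_right K C
    rw [hsup, Subgroup.relIndex_top_right, hidx] at this
    exact this.symm
  have hcard : Nat.card (C.subgroupOf K) = p := by
    have : Nat.card (C.subgroupOf K) = Nat.card (C ⊓ K : Subgroup G) := by
      rw [← Subgroup.inf_subgroupOf_right C K]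
      exact Nat.card_congr (Subgroup.subgroupOfEquivOfLe inf_le_right).toEquiv
    rw [this, hinf, hcardZ]
  have := (C.subgroupOf K).card_mul_index
  rw [hcard] at this
  have hrel' : (C.subgroupOf K).index = p := hrel
  rw [hrel'] at this
  rw [← this, sq]

end Cfsg.Agent.Lib.Helper18.BLK
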