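import Mathlib

set_option autoImplicit false

/-! Project U34 (S3663, coordinator helper14), piece U34-G: the prime graph of a split extension
`V^k ⋊ L` of an elementary abelian `r`-group. -/

namespace Cfsg.Agent.Lib.Helper22.U34

open Subgroup

/-- Abstract edge transfer: `π : H → L` with kernel of exponent `r`; an element of order `p * q`
of `H` gives one of `L`, provided commuting pairs (kernel element, element of prime order `≠ r`)
are controlled. -/
theorem edge_of_edge {H L : Type*} [Group H] [Group L] (π : H →* L) (r : ℕ) [Fact r.Prime]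
    (hker : ∀ a : H, π a = 1 → a ^ r = 1)
    (hcomm : ∀ q : ℕ, q.Prime → q ≠ r → ∀ a b : H, π a = 1 → a ≠ 1 → orderOf (π b) = q →
      a * b = b * a → ∃ g : L, orderOf g = r * q)
    (p q : ℕ) (hp : p.Prime) (hq : q.Prime) (hpq : p ≠ q) (h : H) (hh : orderOf h = p * q) :
    ∃ g : L, orderOf g = p * q := by
  have hrp : r.Prime := Fact.out
  -- the case `p = r`, stated symmetric-ready
  have key : ∀ (q : ℕ), q.Prime → q ≠ r → ∀ h : H, orderOf h = r * q →
      ∃ g : L, orderOf g = r * q := by
    intro q hq hqr h hh
    have hpos : 0 < r * q := Nat.mul_pos hrp.pos hq.pos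
    have hcop : Nat.Coprime r q := (Nat.coprime_primes hrp hq).2 (Ne.symm hqr)
    set a : H := h ^ q with ha
    set b : H := h ^ r with hb
    have hoa : orderOf a = r := by
      rw [ha, orderOf_pow' h hq.ne_zero, hh, Nat.gcd_eq_right (Dvd.intro_left r rfl)]
      exact Nat.mul_div_cancel _ hq.pos
    have hob : orderOf b = q := by
      rw [hb, orderOf_pow' h hrp.ne_zero, hh, Nat.gcd_eq_right (Dvd.intro q rfl)]
      exact Nat.mul_div_cancel_left _ hrp.pos
    have hab : Commute a b := (Commute.refl h).pow_pow q r
    have hπb : orderOf (π b) = q := by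
      have hd : orderOf (π b) ∣ q := hob ▸ orderOf_map_dvd π b
      rcases (Nat.dvd_prime hq).1 hd with h1 | h1
      · exfalso
        have hb1 : π b = 1 := orderOf_eq_one_iff.1 h1
        have := hker b hb1
        have hd2 : q ∣ r := hob ▸ orderOf_dvd_of_pow_eq_one this
        exact hqr ((Nat.prime_dvd_prime_iff_eq hq hrp).1 hd2)
      · exact h1
    by_cases hπa : π a = 1
    · have ha1 : a ≠ 1 := by
        intro h1
        rw [h1, orderOf_one] at hoa
        exact hrp.one_lt.ne hoa
      exact hcomm q hq hqr a b hπa ha1 hπb hab.eq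
    · have hoπa : orderOf (π a) = r := by
        have hd : orderOf (π a) ∣ r := hoa ▸ orderOf_map_dvd π a
        rcases (Nat.dvd_prime hrp).1 hd with h1 | h1
        · exact absurd (orderOf_eq_one_iff.1 h1) hπa
        · exact h1
      refine ⟨π a * π b, ?_⟩
      have hc : Commute (π a) (π b) := hab.map π
      rw [hc.orderOf_mul_eq_mul_orderOf_of_coprime (by rw [hoπa, hπb]; exact hcop), hoπa, hπb]
  by_cases hpr : p = r
  · subst hpr
    exact key q hq (Ne.symm hpq) h hh
  by_cases hqr : q = r
  · subst hqr
    rw [Nat.mul_comm] at hh ⊢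
    exact key p hp hpq h hh
  -- `r ∉ {p, q}`
  refine ⟨π h, ?_⟩
  have hd : orderOf (π h) ∣ p * q := hh ▸ orderOf_map_dvd π h
  refine Nat.dvd_antisymm hd ?_
  set m := orderOf (π h) with hm
  have h1 : π (h ^ m) = 1 := by rw [map_pow, hm, pow_orderOf_eq_one]
  have h2 : (h ^ m) ^ r = 1 := hker _ h1
  rw [← pow_mul] at h2
  have h3 : p * q ∣ m * r := hh ▸ orderOf_dvd_of_pow_eq_one h2
  have hcop : Nat.Coprime (p * q) r := by
    apply Nat.Coprime.mul_left
    · exact (Nat.coprime_primes hp hrp).2 hpr
    · exact (Nat.coprime_primes hq hrp).2 hqr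
  exact hcop.dvd_of_dvd_mul_right h3

/-- The action of `L` on the multiplicative copy of a module. -/
def actHom (L A : Type*) [Group L] [AddCommGroup A] [DistribMulAction L A] :
    L →* MulAut (Multiplicative A) where
  toFun y :=
    { toFun := fun w => Multiplicative.ofAdd (y • w.toAdd)
      invFun := fun w => Multiplicative.ofAdd (y⁻¹ • w.toAdd)
      left_inv := fun w => by simp
      right_inv := fun w => by simp
      map_mul' := fun w w' => by simp [smul_add] }
  map_one' := by
    ext w
    simp
  map_mul' y y' := by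
    ext w
    simp [mul_smul]

theorem actHom_apply (L A : Type*) [Group L] [AddCommGroup A] [DistribMulAction L A] (y : L)
    (w : Multiplicative A) : actHom L A y w = Multiplicative.ofAdd (y • w.toAdd) := rfl

theorem exists_large_same_graph {L : Type} [Group L] [Finite L] (r : ℕ) [Fact r.Prime]
    (V : Type) [AddCommGroup V] [Finite V] [Nontrivial V] [DistribMulAction L V]
    (hV : ∀ v : V, r • v = 0) (hr : r ∣ Nat.card L)
    (hfix : ∀ q : ℕ, q.Prime → q ≠ r → ∀ y : L, orderOf y = q → (∃ v : V, v ≠ 0 ∧ y • v = v) →
      ∃ g : L, orderOf g = r * q)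
    (N : ℕ) :
    ∃ (H : Type) (_ : Group H) (_ : Finite H), N < Nat.card H ∧
      ((∀ p : ℕ, p.Prime → (p ∣ Nat.card L ↔ p ∣ Nat.card H)) ∧
      (∀ p q : ℕ, p.Prime → q.Prime → p ≠ q →
        ((∃ g : L, orderOf g = p * q) ↔ (∃ g : H, orderOf g = p * q)))) := by
  classical
  have hrp : r.Prime := Fact.out
  let A := Fin N → V
  let M := Multiplicative A
  let φ : L →* MulAut M := actHom L A
  have hcard : Nat.card (M ⋊[φ] L) = Nat.card V ^ N * Nat.card L := by
    rw [SemidirectProduct.card]
    congr 1
    show Nat.card (Fin N → V) = _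
    rw [Nat.card_fun, Nat.card_fin]
  have hfin : Finite (M ⋊[φ] L) := Finite.of_equiv _ SemidirectProduct.equivProd.symm
  have hV2 : 2 ≤ Nat.card V := Finite.one_lt_card
  have hLpos : 0 < Nat.card L := Nat.card_pos
  -- `|V|` is a power of `r`
  have hVr : ∃ e, Nat.card V = r ^ e := by
    have hp : IsPGroup r (Multiplicative V) := by
      intro g
      refine ⟨1, ?_⟩
      rw [pow_one]
      exact congrArg Multiplicative.ofAdd (hV g.toAdd)
    obtain ⟨e, he⟩ := IsPGroup.iff_card.1 hp
    exact ⟨e, by rw [← he]; rfl⟩
  refine ⟨M ⋊[φ] L, inferInstance, hfin, ?_, ?_, ?_⟩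
  · rw [hcard]
    calc N < 2 ^ N := Nat.lt_two_pow_self
      _ ≤ Nat.card V ^ N := Nat.pow_le_pow_left hV2 N
      _ ≤ Nat.card V ^ N * Nat.card L := Nat.le_mul_of_pos_right _ hLpos
  · intro p hp
    rw [hcard]
    constructor
    · intro h
      exact Dvd.dvd.mul_left h _
    · intro h
      rcases (Nat.Prime.dvd_mul hp).1 h with h1 | h1
      · have h2 : p ∣ Nat.card V := hp.dvd_of_dvd_pow h1
        obtain ⟨e, he⟩ := hVr
        rw [he] at h2
        have h3 : p ∣ r := hp.dvd_of_dvd_pow h2
        rw [(Nat.prime_dvd_prime_iff_eq hp hrp).1 h3]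
        exact hr
      · exact h1
  · intro p q hp hq hpq
    constructor
    · rintro ⟨g, hg⟩
      refine ⟨SemidirectProduct.inr g, ?_⟩
      rw [orderOf_injective (SemidirectProduct.inr : L →* M ⋊[φ] L)
        SemidirectProduct.inr_injective, hg]
    · rintro ⟨h, hh⟩
      refine edge_of_edge (SemidirectProduct.rightHom : M ⋊[φ] L →* L) r ?_ ?_ p q hp hq hpq h hh
      · intro a ha
        have ha' : a.right = 1 := ha
        refine SemidirectProduct.ext ?_ ?_
        · rw [← SemidirectProduct.inl_left_mul_inr_right a, ha', map_one, mul_one, ← map_pow,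
            SemidirectProduct.left_inl, SemidirectProduct.one_left]
          show a.left ^ r = 1
          apply Multiplicative.toAdd.injective
          show r • (a.left.toAdd) = 0
          funext i
          exact hV _
        · show (SemidirectProduct.rightHom (a ^ r) : L) = 1
          rw [map_pow, ha, one_pow]
      · intro q hq hqr a b ha ha1 hb hab
        have ha' : a.right = 1 := ha
        -- `b.right • a.left = a.left`
        have hl := congrArg SemidirectProduct.left hab
        rw [SemidirectProduct.mul_left, SemidirectProduct.mul_left, ha', map_one] at hl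
        have hl2 : φ b.right a.left = a.left := by
          have : a.left * b.left = b.left * φ b.right a.left := hl
          rw [mul_comm] at this
          exact (mul_left_cancel this).symm
        have hne : a.left ≠ 1 := by
          intro h1
          apply ha1
          refine SemidirectProduct.ext ?_ ?_
          · exact h1
          · exact ha'
        have hne' : (a.left.toAdd : Fin N → V) ≠ 0 := fun h0 => hne (Multiplicative.toAdd.injective h0)
        obtain ⟨i, hi⟩ := Function.ne_iff.1 hne'
        refine hfix q hq hqr b.right hb ⟨a.left.toAdd i, hi, ?_⟩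
        have := congrArg (fun m : M => m.toAdd i) hl2
        exact this
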