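import Mathlib
import Cfsg.Prelude.Def_Blocks
import Cfsg.Agent.Lib.Helper16.AP3
import Cfsg.Agent.Lib.Helper10.SLB.Defs

/-!
# Project SLB (helper10, S4538 + S2440), row G03 (`card_sg_dvd_cnt`), verbatim.
-/

set_option autoImplicit false

open Polynomial

namespace Cfsg.Agent.Lib.Helper10.SLB

open Cfsg.Agent.Lib.Helper16.AP

universe u

theorem slbg03_mem_S {G : Type*} [Group G] (S : Subgroup G) (g : G) (v : sg S g) (s : S) :
    (v : G) * (s : G) * (g * (v : G)⁻¹ * g⁻¹) ∈ S := by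
  have hv := (mem_sg S g v).mp v.2
  have h1 : g * (v : G)⁻¹ * g⁻¹ = (g * (v : G) * g⁻¹)⁻¹ := by group
  rw [h1]
  exact S.mul_mem (S.mul_mem hv.1 s.2) (S.inv_mem hv.2)

theorem slbg03_mem_K {G : Type*} [Group G] (K : Set G)
    (hK : ∀ x y : G, y ∈ K → x * y * x⁻¹ ∈ K) (g v s : G) (hs : s * g ∈ K) :
    v * s * (g * v⁻¹ * g⁻¹) * g ∈ K := by
  have h1 : v * s * (g * v⁻¹ * g⁻¹) * g = v * (s * g) * v⁻¹ := by group
  rw [h1]
  exact hK v _ hs

/-- the action `v • s = v s (g v⁻¹ g⁻¹)` of `S ∩ g⁻¹ S g` on `{s ∈ S : s g ∈ K}` -/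
@[reducible] def slbg03_act {G : Type*} [Group G] (S : Subgroup G) (K : Set G)
    (hK : ∀ x y : G, y ∈ K → x * y * x⁻¹ ∈ K) (g : G) :
    MulAction (sg S g) {s : S // (s : G) * g ∈ K} where
  smul v s := ⟨⟨(v : G) * (s.1 : G) * (g * (v : G)⁻¹ * g⁻¹), slbg03_mem_S S g v s.1⟩,
    slbg03_mem_K K hK g v s.1 s.2⟩
  one_smul s := by
    apply Subtype.ext
    apply Subtype.ext
    show ((1 : sg S g) : G) * (s.1 : G) * (g * ((1 : sg S g) : G)⁻¹ * g⁻¹) = (s.1 : G)
    rw [Subgroup.coe_one]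
    group
  mul_smul v v' s := by
    apply Subtype.ext
    apply Subtype.ext
    show ((v * v' : sg S g) : G) * (s.1 : G) * (g * ((v * v' : sg S g) : G)⁻¹ * g⁻¹) =
      (v : G) * ((v' : G) * (s.1 : G) * (g * (v' : G)⁻¹ * g⁻¹)) * (g * (v : G)⁻¹ * g⁻¹)
    rw [Subgroup.coe_mul]
    group

/-- G03 [M]  `sg S g` acts on `X = {s : S // s g ∈ K}` by `v • s = v s (g v⁻¹ g⁻¹)` (then `(v • s) g = v (s g) v⁻¹ ∈ K`); the action is free
(`v • s = s` gives `v (s g) = (s g) v`, so `v = 1` by `hfree`); a free action of a finite group `H` on a finite set has `|H| ∣ |X|`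
(all orbits have `|H|` elements: `MulAction.card_eq_sum_card_group_div_card_stabilizer` / `Nat.card_congr (MulAction.selfEquivSigmaOrbits ..)`,
or `MulAction.orbitEquivQuotientStabilizer`). -/
theorem card_sg_dvd_cnt {G : Type*} [Group G] [Finite G] (S : Subgroup G) (K : Set G)
    (hK : ∀ x y : G, y ∈ K → x * y * x⁻¹ ∈ K)
    (hfree : ∀ y ∈ K, ∀ v ∈ S, v * y = y * v → v = 1) (g : G) :
    Nat.card (sg S g) ∣ cnt S K g := by
  letI : MulAction (sg S g) {s : S // (s : G) * g ∈ K} := slbg03_act S K hK g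
  have hstab : ∀ b : {s : S // (s : G) * g ∈ K}, MulAction.stabilizer (sg S g) b = ⊥ := by
    intro b
    rw [eq_bot_iff]
    intro v hv
    rw [MulAction.mem_stabilizer_iff] at hv
    have h1 : (v : G) * (b.1 : G) * (g * (v : G)⁻¹ * g⁻¹) = (b.1 : G) :=
      congrArg (fun x : {s : S // (s : G) * g ∈ K} => ((x.1 : S) : G)) hv
    have h2 : (v : G) * ((b.1 : G) * g) = ((b.1 : G) * g) * (v : G) := by
      have : (v : G) * ((b.1 : G) * g) =
          ((v : G) * (b.1 : G) * (g * (v : G)⁻¹ * g⁻¹)) * g * (v : G) := by group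
      rw [this, h1]
    have h3 := hfree _ b.2 (v : G) ((mem_sg S g v).mp v.2).1 h2
    rw [Subgroup.mem_bot]
    exact Subtype.ext h3
  have e := MulAction.selfEquivOrbitsQuotientProd hstab
  unfold cnt
  rw [Nat.card_congr e, Nat.card_prod]
  exact dvd_mul_left _ _

end Cfsg.Agent.Lib.Helper10.SLB
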