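import Mathlib
import Cfsg.Prelude.Def_Blocks
import Cfsg.Agent.Lib.Helper16.AP3
import Cfsg.Agent.Lib.Helper10.SLB.Defs

/-!
# Project SLB (helper10, S4538 + S2440), row G04 (`orb_dvd`), verbatim.
-/

set_option autoImplicit false

open Polynomial

namespace Cfsg.Agent.Lib.Helper10.SLB

open Cfsg.Agent.Lib.Helper16.AP

universe u

/-- the action `(s, s') • g = s g s'⁻¹` of `S × S` on `G` -/
@[reducible] def slbg04_act {G : Type*} [Group G] (S : Subgroup G) : MulAction (S × S) G where
  smul p g := (p.1 : G) * g * ((p.2 : G))⁻¹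
  one_smul g := by
    show (((1 : S × S).1 : S) : G) * g * ((((1 : S × S).2 : S) : G))⁻¹ = g
    simp
  mul_smul p q g := by
    show (((p * q).1 : S) : G) * g * ((((p * q).2 : S) : G))⁻¹ =
      (p.1 : G) * ((q.1 : G) * g * ((q.2 : G))⁻¹) * ((p.2 : G))⁻¹
    rw [Prod.fst_mul, Prod.snd_mul, Subgroup.coe_mul, Subgroup.coe_mul]
    group

theorem slbg04_smul_def {G : Type*} [Group G] (S : Subgroup G) (p : S × S) (g : G) :
    (letI := slbg04_act S; p • g) = (p.1 : G) * g * ((p.2 : G))⁻¹ := rfl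

/-- the stabiliser of `g` is `sg S g` via the second projection -/
noncomputable def slbg04_stabEquiv {G : Type*} [Group G] (S : Subgroup G) (g : G) :
    (letI := slbg04_act S; MulAction.stabilizer (S × S) g) ≃ sg S g := by
  letI := slbg04_act S
  refine
    { toFun := fun p => ⟨((p.1.2 : S) : G), ?_⟩
      invFun := fun v => ⟨(⟨g * (v : G) * g⁻¹, ((mem_sg S g v).mp v.2).2⟩,
        ⟨(v : G), ((mem_sg S g v).mp v.2).1⟩), ?_⟩
      left_inv := ?_
      right_inv := ?_ }
  · have hp := p.2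
    rw [MulAction.mem_stabilizer_iff] at hp
    have h1 : ((p.1.1 : S) : G) * g * (((p.1.2 : S) : G))⁻¹ = g := hp
    rw [mem_sg]
    refine ⟨(p.1.2).2, ?_⟩
    have h2 : g * ((p.1.2 : S) : G) * g⁻¹ = ((p.1.1 : S) : G) := by
      have : ((p.1.1 : S) : G) = g * ((p.1.2 : S) : G) * g⁻¹ := by
        calc ((p.1.1 : S) : G) = (((p.1.1 : S) : G) * g * (((p.1.2 : S) : G))⁻¹) *
              ((p.1.2 : S) : G) * g⁻¹ := by group
          _ = g * ((p.1.2 : S) : G) * g⁻¹ := by rw [h1]
      exact this.symm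
    rw [h2]
    exact (p.1.1).2
  · rw [MulAction.mem_stabilizer_iff]
    show (g * (v : G) * g⁻¹) * g * ((v : G))⁻¹ = g
    group
  · intro p
    have hp := p.2
    rw [MulAction.mem_stabilizer_iff] at hp
    have h1 : ((p.1.1 : S) : G) * g * (((p.1.2 : S) : G))⁻¹ = g := hp
    apply Subtype.ext
    apply Prod.ext
    · apply Subtype.ext
      show g * ((p.1.2 : S) : G) * g⁻¹ = ((p.1.1 : S) : G)
      calc g * ((p.1.2 : S) : G) * g⁻¹ = (((p.1.1 : S) : G) * g * (((p.1.2 : S) : G))⁻¹) *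
              ((p.1.2 : S) : G) * g⁻¹ := by rw [h1]
        _ = ((p.1.1 : S) : G) := by group
    · apply Subtype.ext
      rfl
  · intro v
    apply Subtype.ext
    rfl

theorem slbg04_card_orbit {G : Type*} [Group G] [Finite G] (S : Subgroup G) (g : G) :
    (letI := slbg04_act S; Nat.card (MulAction.orbit (S × S) g)) * Nat.card (sg S g) =
      Nat.card S ^ 2 := by
  letI := slbg04_act S
  have h1 : Nat.card (MulAction.orbit (S × S) g) =
      Nat.card ((S × S) ⧸ MulAction.stabilizer (S × S) g) :=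
    Nat.card_congr (MulAction.orbitEquivQuotientStabilizer (S × S) g)
  have h2 : Nat.card (MulAction.stabilizer (S × S) g) = Nat.card (sg S g) :=
    Nat.card_congr (slbg04_stabEquiv S g)
  have h3 := Subgroup.card_eq_card_quotient_mul_card_subgroup (MulAction.stabilizer (S × S) g)
  rw [Nat.card_prod] at h3
  rw [h1, ← h2, ← h3, sq]

theorem slbg04_phi_const {G : Type*} [Group G] (S : Subgroup G) (φ : G → ℤ)
    (hinv : ∀ s ∈ S, ∀ s' ∈ S, ∀ g : G, φ (s * g * s') = φ g) (g h : G)
    (hh : (letI := slbg04_act S; h ∈ MulAction.orbit (S × S) g)) : φ h = φ g := by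
  letI := slbg04_act S
  obtain ⟨p, hp⟩ := hh
  have h1 : (p.1 : G) * g * ((p.2 : G))⁻¹ = h := hp
  rw [← h1]
  exact hinv _ p.1.2 _ (S.inv_mem p.2.2) g

/-- G04 [M-L]  `S × S` acts on `G` by `(s, s') • g = s g s'⁻¹`; `φ` is constant on orbits; the stabiliser of `g` is `{(g v g⁻¹, v) : v ∈ sg S g}`, so the orbit `O` of `g` has
`|S|² / |sg S g|` elements (`MulAction.card_orbit_mul_card_stabilizer_eq_card_group`) and `Σ_{h ∈ O} φ h = |O| φ g` is a multiple of `d |S|²`.  Sum over the orbits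
(`MulAction.selfEquivSigmaOrbits`, `Fintype.sum_sigma` / `Finset.sum_fiberwise`). -/
theorem orb_dvd {G : Type*} [Group G] [Fintype G] (S : Subgroup G) (φ : G → ℤ) (d : ℤ)
    (hinv : ∀ s ∈ S, ∀ s' ∈ S, ∀ g : G, φ (s * g * s') = φ g)
    (hd : ∀ g : G, d * (Nat.card (sg S g) : ℤ) ∣ φ g) :
    d * (Nat.card S : ℤ) ^ 2 ∣ ∑ g : G, φ g := by
  classical
  letI := slbg04_act S
  let Q := Quotient (MulAction.orbitRel (S × S) G)
  haveI : Fintype Q := Fintype.ofFinite Q
  have hfib : ∑ g : G, φ g =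
      ∑ q : Q, ∑ g ∈ Finset.univ.filter (fun g : G => (Quotient.mk'' g : Q) = q), φ g :=
    (Finset.sum_fiberwise (s := (Finset.univ : Finset G)) (fun g : G => (Quotient.mk'' g : Q)) φ).symm
  rw [hfib]
  apply Finset.dvd_sum
  intro q _
  induction q using Quotient.inductionOn' with
  | h g₀ =>
    have hmem : ∀ g : G, (Quotient.mk'' g : Q) = Quotient.mk'' g₀ ↔
        g ∈ MulAction.orbit (S × S) g₀ := by
      intro g
      rw [Quotient.eq'']
      exact MulAction.orbitRel_apply
    have hsum : ∑ g ∈ Finset.univ.filter (fun g : G => (Quotient.mk'' g : Q) = Quotient.mk'' g₀), φ g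
        = ((Finset.univ.filter
            (fun g : G => (Quotient.mk'' g : Q) = Quotient.mk'' g₀)).card : ℤ) * φ g₀ := by
      rw [Finset.sum_congr rfl (g := fun _ => φ g₀)]
      · rw [Finset.sum_const, nsmul_eq_mul]
      · intro g hg
        rw [Finset.mem_filter] at hg
        exact slbg04_phi_const S φ hinv g₀ g ((hmem g).mp hg.2)
    have hcard : (Finset.univ.filter
        (fun g : G => (Quotient.mk'' g : Q) = Quotient.mk'' g₀)).card =
        Nat.card (MulAction.orbit (S × S) g₀) := by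
      rw [Nat.card_eq_fintype_card, ← Fintype.card_subtype]
      apply Fintype.card_congr
      exact Equiv.subtypeEquivRight hmem
    rw [hsum, hcard]
    obtain ⟨k, hk⟩ := hd g₀
    rw [hk]
    have h4 := slbg04_card_orbit S g₀
    have h5 : ((Nat.card (MulAction.orbit (S × S) g₀) : ℕ) : ℤ) * (Nat.card (sg S g₀) : ℤ) =
        (Nat.card S : ℤ) ^ 2 := by
      exact_mod_cast h4
    refine ⟨k, ?_⟩
    rw [← h5]
    ring

end Cfsg.Agent.Lib.Helper10.SLB
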