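import Mathlib
import Cfsg.Prelude.Def_LieTypeChar
import Cfsg.Agent.Lib.helper14.SQD.Defs
import Cfsg.Agent.Lib.helper14.SQD.DefsU

/-!
Project SQD row H2: `hsGrp` consists exactly of the matrices `hsM R C` (own copies of H1, H1b inside).
-/

set_option autoImplicit false

namespace Cfsg.Agent.Lib.helper14.SQD

open Cfsg Cfsg.Lie Matrix

universe u

section H
variable {k d : ℕ} {F : Type u} [Field F] (τ : F →+* F) (G₀ : Matrix (Fin d) (Fin d) F)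

/-- own copy of H1 -/
theorem sqdh2_hsM_mul (R R' : Matrix (Fin d) (Fin k) F) (C C' : Matrix (Fin k) (Fin k) F) :
    hsM τ G₀ R C * hsM τ G₀ R' C' = hsM τ G₀ (R + R') (C + C' + tadj τ R * G₀ * R') := by
  unfold hsM
  rw [Matrix.fromBlocks_multiply, Matrix.fromBlocks_multiply, Matrix.fromRows_mul_fromCols]
  congr 1
  · rw [Matrix.fromBlocks_add]
    congr 1
    · simp
    · simp; abel
    · simp
    · simp
  · rw [Matrix.fromBlocks_mul_fromRows, Matrix.mul_one, tadj_add, Matrix.add_mul]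
    ext (i | i) j <;> simp [add_comm]
  · rw [Matrix.fromCols_mul_fromBlocks, Matrix.one_mul]
    ext i (j | j) <;> simp
  · rw [Matrix.fromCols_mul_fromRows]
    simp

/-- own copy of H1b -/
theorem sqdh2_hsM_zero : hsM τ G₀ (0 : Matrix (Fin d) (Fin k) F) 0 = 1 := by
  unfold hsM tadj
  ext (i | i) (j | j) <;> simp [Matrix.one_apply]

/-- H2 core: `hH1`, `hH1b` are the statements of `hsM_mul`, `hsM_zero` (row H1). -/
theorem sqdh2_core
    (hH1 : ∀ (R R' : Matrix (Fin d) (Fin k) F) (C C' : Matrix (Fin k) (Fin k) F),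
      hsM τ G₀ R C * hsM τ G₀ R' C' = hsM τ G₀ (R + R') (C + C' + tadj τ R * G₀ * R'))
    (hH1b : hsM τ G₀ (0 : Matrix (Fin d) (Fin k) F) 0 = 1)
    (𝒞 : Matrix (Fin d) (Fin k) F → Matrix (Fin k) (Fin k) F → Prop) (h0 : 𝒞 0 0)
    (hmul : ∀ R C R' C', 𝒞 R C → 𝒞 R' C' → 𝒞 (R + R') (C + C' + tadj τ R * G₀ * R'))
    (hinv : ∀ R C, 𝒞 R C → 𝒞 (-R) (-C + tadj τ R * G₀ * R))
    (g : GL ((Fin k ⊕ Fin k) ⊕ Fin d) F) :
    g ∈ hsGrp τ G₀ 𝒞 ↔ ∃ R C, 𝒞 R C ∧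
      (g : Matrix ((Fin k ⊕ Fin k) ⊕ Fin d) ((Fin k ⊕ Fin k) ⊕ Fin d) F) = hsM τ G₀ R C := by
  constructor
  · intro hg
    unfold hsGrp at hg
    induction hg using Subgroup.closure_induction with
    | mem x hx => exact hx
    | one => exact ⟨0, 0, h0, by rw [hH1b]; rfl⟩
    | mul x y _ _ hx hy =>
      obtain ⟨R, C, hRC, hx⟩ := hx
      obtain ⟨R', C', hRC', hy⟩ := hy
      exact ⟨R + R', C + C' + tadj τ R * G₀ * R', hmul R C R' C' hRC hRC', by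
        rw [Units.val_mul, hx, hy, hH1]⟩
    | inv x _ hx =>
      obtain ⟨R, C, hRC, hx⟩ := hx
      refine ⟨-R, -C + tadj τ R * G₀ * R, hinv R C hRC, ?_⟩
      apply Units.inv_eq_of_mul_eq_one_right
      rw [hx, hH1]
      have h1 : R + -R = 0 := add_neg_cancel R
      have h2 : C + (-C + tadj τ R * G₀ * R) + tadj τ R * G₀ * -R = 0 := by
        rw [Matrix.mul_neg]
        abel
      rw [h1, h2, hH1b]
  · rintro ⟨R, C, hRC, hg⟩
    exact Subgroup.subset_closure ⟨R, C, hRC, hg⟩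

/-- H2 [M]. For a parameter set closed under the product law of H1 and under inverses, the generated group consists
exactly of the matrices `hsM R C`. -/
theorem mem_hsGrp (𝒞 : Matrix (Fin d) (Fin k) F → Matrix (Fin k) (Fin k) F → Prop) (h0 : 𝒞 0 0)
    (hmul : ∀ R C R' C', 𝒞 R C → 𝒞 R' C' → 𝒞 (R + R') (C + C' + tadj τ R * G₀ * R'))
    (hinv : ∀ R C, 𝒞 R C → 𝒞 (-R) (-C + tadj τ R * G₀ * R))
    (g : GL ((Fin k ⊕ Fin k) ⊕ Fin d) F) :
    g ∈ hsGrp τ G₀ 𝒞 ↔ ∃ R C, 𝒞 R C ∧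
      (g : Matrix ((Fin k ⊕ Fin k) ⊕ Fin d) ((Fin k ⊕ Fin k) ⊕ Fin d) F) = hsM τ G₀ R C :=
  sqdh2_core τ G₀ (sqdh2_hsM_mul τ G₀) (sqdh2_hsM_zero τ G₀) 𝒞 h0 hmul hinv g

end H

end Cfsg.Agent.Lib.helper14.SQD
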