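import Mathlib
import Cfsg.Agent.Lib.helper3.T2E.Defs
import Cfsg.Agent.Lib.helper15.TEMG3

/-!
# T2E row D1 (designer helper3): the twisted root elements lie in `G¹ = twistedE6 K q`
Verbatim vs `Cfsg/Agent/Lib/helper3/T2E/SkelD.lean.txt` (on TEM G3 `X_mem_G1`, `XS_mem_G1`).
-/

set_option autoImplicit false

namespace Cfsg.Agent.Lib.helper3.T2E

open Cfsg.Lie Cfsg.Lie.ChevalleyDatum Matrix
open Cfsg.Agent.Lib.helper8 Cfsg.Agent.Lib.Helper10.TEM Cfsg.Agent.Lib.helper7.Ce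
  Cfsg.Agent.Lib.helper15.St2

universe u

variable {K : Type u} [Field K] {q : ℕ} {f : K ≃+* K}

-- ROW D1 [S]  TEM G3 (`X_mem_G1`, `XS_mem_G1`), `hF.pow`.
theorem XT_mem (hF : Frob q f) (r : ℕ) (hr : r < 72) (t : K) (ht : Adm q r t) :
    XT q r t ∈ twistedE6 K q := by
  unfold XT
  split_ifs with hσ
  · exact X_mem_G1 hF r hr hσ t (ht hσ)
  · exact XS_mem_G1 hF r hr hσ t

end Cfsg.Agent.Lib.helper3.T2E
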