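import Mathlib
import Cfsg.Agent.Lib.Helper10.TEM.Defs
import Cfsg.Agent.Lib.helper8.ChevFix4
import Cfsg.Agent.Lib.helper8.ChevTits1
import Cfsg.Agent.Lib.helper8.ChevW0
import Cfsg.Agent.Lib.helper8.ChevBN2

/-!
# Project TEM = S2191 (designer helper10), row A1 (helper22), VERBATIM: `nrho = X 71 c * X 0 c' * X 71 c`.
Extra: `tema1_act` (the element `nW w` conjugates `x_s(t)` to `x_{w s}(ε t)` and `x_{-s}(t)` to `x_{-w s}(ε t)` with the same sign; port of `td4ve4_act`).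
-/

set_option autoImplicit false

namespace Cfsg.Agent.Lib.Helper10.TEM

open Cfsg.Lie Cfsg.Lie.ChevalleyDatum Matrix
open Cfsg.Agent.Lib.helper8

universe u

variable {K : Type u} [Field K] {q : ℕ} {f : K ≃+* K} {M H : Subgroup (GG K)}

/-- `nW w` conjugates `x_s(t)` to `x_{w s}(ε t)` and `x_{-s}(t)` to `x_{-w s}(ε t)`, `ε = ±1` -/
theorem tema1_act (w : List ℕ) (hw : ∀ i ∈ w, i < chevE6.rank) (s : ℕ) (hs : s < chevE6.nroots) :
    ∃ ε : K, (ε = 1 ∨ ε = -1) ∧
      (∀ t : K, (nW w : GG K) * X s t * (nW w : GG K)⁻¹ = X (h8sW chevE6 w s) (ε * t)) ∧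
      (∀ t : K, (nW w : GG K) * X (chevE6.negIdx.getD s 0) t * (nW w : GG K)⁻¹ =
        X (chevE6.negIdx.getD (h8sW chevE6 w s) 0) (ε * t)) := by
  obtain ⟨c, hc, h1, h2⟩ := h8actN_word (F := K) chevE6 hB hA w hw s hs
  obtain ⟨η, hη, h3⟩ := h8nWU_conj (F := K) chevE6 hB hA w hw s hs
  have h4 : (h8nWU chevE6 hB w : GG K) * X s 1 * (h8nWU chevE6 hB w : GG K)⁻¹ =
      X (h8sW chevE6 w s) ((η : K) * 1) := by
    rw [mul_inv_eq_iff_eq_mul]
    apply Units.ext
    unfold X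
    rw [Units.val_mul, Units.val_mul, h8xU_val, h8xU_val]
    exact h3 1
  have h5 : c * 1 = (η : K) * 1 := by
    apply h8xU_inj_t chevE6 hB hA hW (h8sW chevE6 w s) (h8sW_lt chevE6 hA w hw s hs)
    have := h1 1
    unfold X at h4
    rw [← this, h4]
  rw [mul_one, mul_one] at h5
  have hc1 : c = 1 ∨ c = -1 := by
    rcases hη with rfl | rfl
    · left; simpa using h5
    · right; simpa using h5
  have hcinv : c⁻¹ = c := by
    rcases hc1 with rfl | rfl <;> simp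
  refine ⟨c, hc1, fun t => h1 t, fun t => ?_⟩
  have := h2 t
  rw [hcinv] at this
  exact this

-- ROW A1  [S-M]  `nrho = n (x_46(1) x_25(-1) x_46(1)) n⁻¹`, `n = nO lr` (`h8nU_one_eq`); C6 with
-- `h8sW chevE6 (flatO lr) 46 = 71`, `… 25 = 0`; the two signs at `46` agree.
theorem nrho_form : ∃ c c' : K, (c = 1 ∨ c = -1) ∧ (c' = 1 ∨ c' = -1) ∧
    (nrho : GG K) = X 71 c * X 0 c' * X 71 c := by
  have hw : ∀ i ∈ flatO lr, i < chevE6.rank := by decide
  obtain ⟨ε, hε, h1, h2⟩ := tema1_act (K := K) (flatO lr) hw 46 (by decide)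
  have e71 : h8sW chevE6 (flatO lr) 46 = 71 := by decide +kernel
  have e25 : chevE6.negIdx.getD 46 0 = 25 := by decide +kernel
  have e0 : chevE6.negIdx.getD 71 0 = 0 := by decide +kernel
  rw [e71] at h1 h2
  rw [e25, e0] at h2
  refine ⟨ε, -ε, hε, ?_, ?_⟩
  · rcases hε with rfl | rfl
    · right; rfl
    · left; simp
  · unfold nrho nO
    rw [h8nU_eq, e25, inv_one]
    have a1 := h1 1
    have a2 := h2 (-1)
    rw [mul_one] at a1
    rw [mul_neg, mul_one] at a2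
    rw [← a1, ← a2]
    unfold X
    group

end Cfsg.Agent.Lib.Helper10.TEM
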