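import Mathlib
import Cfsg.Agent.Lib.Helper10.TEM.Defs
import Cfsg.Agent.Lib.Helper22.TEMA1

/-!
# Project TEM = S2191 (designer helper10), row A6 CORE (helper22): `u X a s u⁻¹ ∈ H` for the six long roots `a` orthogonal to `ρ`,
from the statements of A2 `nrho_act`, A3 `comm_long`, C2 `comm_pairs` (at `(Psi1, 71)`), C5 `Q_comm`, P3 `one_rat` (at `71`), G3 `X_mem_G1`, R2 `rat_X`
(A1 `nrho_form` is cited from `Helper22.TEMA1`).
-/

set_option autoImplicit false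

namespace Cfsg.Agent.Lib.Helper10.TEM

open Cfsg.Lie Cfsg.Lie.ChevalleyDatum Matrix
open Cfsg.Agent.Lib.helper8

universe u

variable {K : Type u} [Field K] {q : ℕ} {f : K ≃+* K} {M H : Subgroup (GG K)}

/-- a sign lies in `k` -/
theorem tema6_sign_pow (hneg : (-1 : K) ^ q = -1) {ε : K} (hε : ε = 1 ∨ ε = -1) : ε ^ q = ε := by
  rcases hε with rfl | rfl
  · exact one_pow q
  · exact hneg

theorem tema6_sign_sq {ε : K} (hε : ε = 1 ∨ ε = -1) : ε * ε = 1 := by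
  rcases hε with rfl | rfl <;> simp

/-- A6 core -/
theorem tema6_core (C : Ctx q f M H)
    (hA2 : ∀ b b' : ℕ, (b, b') ∈ rhoPairs →
      ∃ ε : K, (ε = 1 ∨ ε = -1) ∧ ∀ t : K, nrho * X b t * nrho⁻¹ = X b' (ε * t))
    (hA3 : ∀ b b' a : ℕ, (b, b', a) ∈ longTriples →
      ∃ ε : K, (ε = 1 ∨ ε = -1) ∧ ∀ s t : K,
        X b s * X b' t * (X b s)⁻¹ * (X b' t)⁻¹ = X a (ε * s * t))
    (hC2 : ∀ g ∈ UPsi K Psi1, ∀ c : K, Commute g (X 71 c))
    (hC5 : ∀ g ∈ UPsi K Psi1, ∀ h ∈ UPsi K Psi1, g * h * g⁻¹ * h⁻¹ ∈ UPsi K [71])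
    (hP3 : ∀ g ∈ UPsi K [71] ⊓ twistedE6 K q, Rat q g)
    (hG3 : ∀ r < 72, h8sE6 r = r → ∀ t : K, t ^ q = t → X r t ∈ twistedE6 K q)
    (hR2 : ∀ (r : ℕ) (t : K), t ^ q = t → Rat q (X r t))
    (u : GG K) (hu : u ∈ UPsi K Psi1 ⊓ twistedE6 K q)
    (hconj : ∀ c : K, c ^ q = c → u * X 0 c * u⁻¹ ∈ H) :
    ∀ a ∈ [11, 27, 32, 39, 44, 60], ∀ s : K, s ^ q = s → u * X a s * u⁻¹ ∈ H := by
  have hneg := C.hF.neg
  -- rational root elements of fixed roots lie in `M`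
  have hXM : ∀ r < 72, h8sE6 r = r → ∀ t : K, t ^ q = t → X r t ∈ M := fun r hr hσ t ht =>
    (C.hM _).2 ⟨hG3 r hr hσ t ht, hR2 r t ht⟩
  have hmulk : ∀ {ε s : K}, (ε = 1 ∨ ε = -1) → s ^ q = s → (ε * s) ^ q = ε * s := by
    intro ε s hε hs
    rw [mul_pow, tema6_sign_pow hneg hε, hs]
  -- step 1: `n_u = u * nrho * u⁻¹ ∈ H`
  obtain ⟨c, c', hc, hc', hn⟩ := nrho_form (K := K)
  have hcomm := hC2 u hu.1 c
  have hnu : u * nrho * u⁻¹ ∈ H := by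
    have e : u * nrho * u⁻¹ = X 71 c * (u * X 0 c' * u⁻¹) * X 71 c := by
      rw [hn]
      have h1 : u * X 71 c = X 71 c * u := hcomm.eq
      have h2 : X 71 c * u⁻¹ = u⁻¹ * X 71 c := by
        have := hcomm.inv_left.eq
        exact this.symm
      calc u * (X 71 c * X 0 c' * X 71 c) * u⁻¹ = (u * X 71 c) * X 0 c' * (X 71 c * u⁻¹) := by group
        _ = (X 71 c * u) * X 0 c' * (u⁻¹ * X 71 c) := by rw [h1, h2]
        _ = X 71 c * (u * X 0 c' * u⁻¹) * X 71 c := by group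
    rw [e]
    have h71 : X 71 c ∈ H := C.hMH (hXM 71 (by norm_num) (by decide +kernel) c (tema6_sign_pow hneg hc))
    exact H.mul_mem (H.mul_mem h71 (hconj c' (tema6_sign_pow hneg hc'))) h71
  -- step 2: the long roots of level one
  have h2 : ∀ b ∈ [46, 47, 51, 63, 53, 65, 69, 70], ∀ s : K, s ^ q = s → u * X b s * u⁻¹ ∈ H := by
    intro b hb s hs
    have hb72 : b < 72 := by
      simp only [List.mem_cons, List.not_mem_nil, or_false] at hb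
      omega
    have hbσ : h8sE6 b = b := by
      simp only [List.mem_cons, List.not_mem_nil, or_false] at hb
      rcases hb with rfl | rfl | rfl | rfl | rfl | rfl | rfl | rfl <;> decide +kernel
    have hbP : b ∈ Psi1 := by
      simp only [List.mem_cons, List.not_mem_nil, or_false] at hb
      rcases hb with rfl | rfl | rfl | rfl | rfl | rfl | rfl | rfl <;> decide
    have hXb : X b s ∈ UPsi K Psi1 := Subgroup.subset_closure ⟨b, hbP, s, rfl⟩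
    have hz1 : u * X b s * u⁻¹ * (X b s)⁻¹ ∈ UPsi K [71] := hC5 u hu.1 (X b s) hXb
    have hXG : X b s ∈ twistedE6 K q := hG3 b hb72 hbσ s hs
    have hz2 : u * X b s * u⁻¹ * (X b s)⁻¹ ∈ twistedE6 K q :=
      Subgroup.mul_mem _ (Subgroup.mul_mem _ (Subgroup.mul_mem _ hu.2 hXG) (Subgroup.inv_mem _ hu.2))
        (Subgroup.inv_mem _ hXG)
    have hzM : u * X b s * u⁻¹ * (X b s)⁻¹ ∈ M := (C.hM _).2 ⟨hz2, hP3 _ ⟨hz1, hz2⟩⟩
    have hXM' : X b s ∈ M := hXM b hb72 hbσ s hs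
    have e : u * X b s * u⁻¹ = (u * X b s * u⁻¹ * (X b s)⁻¹) * X b s := by group
    rw [e]
    exact C.hMH (M.mul_mem hzM hXM')
  -- step 3: conjugate by `n_u`
  have h3 : ∀ b b' : ℕ, (b, b') ∈ rhoPairs → ∀ s : K, s ^ q = s → u * X b' s * u⁻¹ ∈ H := by
    intro b b' hbb s hs
    obtain ⟨ε, hε, hact⟩ := hA2 b b' hbb
    have hb : b ∈ [46, 47, 51, 63, 53, 65, 69, 70] := by
      simp only [rhoPairs, List.mem_cons, List.not_mem_nil, or_false, Prod.mk.injEq] at hbb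
      rcases hbb with ⟨rfl, -⟩ | ⟨rfl, -⟩ | ⟨rfl, -⟩ | ⟨rfl, -⟩ <;> decide
    have h1 := h2 b hb (ε * s) (hmulk hε hs)
    have e : u * X b' s * u⁻¹ = (u * nrho * u⁻¹) * (u * X b (ε * s) * u⁻¹) * (u * nrho * u⁻¹)⁻¹ := by
      have e1 : (u * nrho * u⁻¹) * (u * X b (ε * s) * u⁻¹) * (u * nrho * u⁻¹)⁻¹ =
          u * (nrho * X b (ε * s) * nrho⁻¹) * u⁻¹ := by group
      rw [e1, hact, ← mul_assoc, tema6_sign_sq hε, one_mul]
    rw [e]
    exact H.mul_mem (H.mul_mem hnu h1) (H.inv_mem hnu)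
  -- step 4: commutators
  have h4 : ∀ b b' a : ℕ, (b, b', a) ∈ longTriples → ∀ s : K, s ^ q = s → u * X a s * u⁻¹ ∈ H := by
    intro b b' a hbb s hs
    obtain ⟨ε, hε, hcm⟩ := hA3 b b' a hbb
    have hb : b ∈ [46, 47, 51, 63, 53, 65, 69, 70] := by
      simp only [longTriples, List.mem_cons, List.not_mem_nil, or_false, Prod.mk.injEq] at hbb
      rcases hbb with ⟨rfl, -, -⟩ | ⟨rfl, -, -⟩ | ⟨rfl, -, -⟩ | ⟨rfl, -, -⟩ | ⟨rfl, -, -⟩ | ⟨rfl, -, -⟩ <;> decide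
    have hb' : ∃ b0, (b0, b') ∈ rhoPairs := by
      simp only [longTriples, List.mem_cons, List.not_mem_nil, or_false, Prod.mk.injEq] at hbb
      rcases hbb with ⟨-, rfl, -⟩ | ⟨-, rfl, -⟩ | ⟨-, rfl, -⟩ | ⟨-, rfl, -⟩ | ⟨-, rfl, -⟩ | ⟨-, rfl, -⟩
      · exact ⟨53, by decide⟩
      · exact ⟨65, by decide⟩
      · exact ⟨69, by decide⟩
      · exact ⟨70, by decide⟩
      · exact ⟨70, by decide⟩
      · exact ⟨70, by decide⟩
    obtain ⟨b0, hb0⟩ := hb'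
    have g1 := h2 b hb (ε * s) (hmulk hε hs)
    have g2 := h3 b0 b' hb0 1 (one_pow q)
    have e : u * X a s * u⁻¹ = (u * X b (ε * s) * u⁻¹) * (u * X b' 1 * u⁻¹) * (u * X b (ε * s) * u⁻¹)⁻¹ *
        (u * X b' 1 * u⁻¹)⁻¹ := by
      have e1 : (u * X b (ε * s) * u⁻¹) * (u * X b' 1 * u⁻¹) * (u * X b (ε * s) * u⁻¹)⁻¹ *
          (u * X b' 1 * u⁻¹)⁻¹ = u * (X b (ε * s) * X b' 1 * (X b (ε * s))⁻¹ * (X b' 1)⁻¹) * u⁻¹ := by group
      rw [e1, hcm, mul_one, ← mul_assoc, tema6_sign_sq hε, one_mul]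
    rw [e]
    exact H.mul_mem (H.mul_mem (H.mul_mem g1 g2) (H.inv_mem g1)) (H.inv_mem g2)
  intro a ha s hs
  simp only [List.mem_cons, List.not_mem_nil, or_false] at ha
  rcases ha with rfl | rfl | rfl | rfl | rfl | rfl
  · exact h4 46 8 11 (by decide) s hs
  · exact h4 46 20 27 (by decide) s hs
  · exact h4 46 24 32 (by decide) s hs
  · exact h4 47 25 39 (by decide) s hs
  · exact h4 51 25 44 (by decide) s hs
  · exact h4 63 25 60 (by decide) s hs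

end Cfsg.Agent.Lib.Helper10.TEM
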