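import Mathlib
import Cfsg.Prelude.Def_ChevStructure
import Cfsg.Agent.Lib.helper14.INV.Defs
import Cfsg.Agent.Lib.helper23.INVSAMEPERM

/-!
# Project INV, piece COMMJ : conjugating `h n_w` by a word in the reflections fixed by `w` (helper22)
-/

set_option autoImplicit false
set_option linter.unusedVariables false

namespace Cfsg.Agent.Lib.helper14.INV

open Cfsg.Lie Cfsg.Lie.ChevalleyDatum Cfsg.Agent.Lib.helper8 Cfsg.Agent.Lib.helper14

universe u

variable {F : Type u} [Field F]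

/-- if `w` fixes the fundamental root `p_i` then `w` commutes with the reflection `s_i` on the roots -/
theorem invcommj_comm (D : ChevalleyDatum) (hB0 : H8Base.{0} D) (hA : H8ReflAll D) (hBN : H8BN D)
    (hW : H8BN2 D) (hO2 : H8Ord2 D) (w : List ℕ) (hw : ValidW D w) (i : ℕ) (hi : i < D.rank)
    (hfix : h8sW D w (D.simple i) = D.simple i) (r : ℕ) (hr : r < D.nroots) :
    h8sW D w (D.reflectRoot i r) = D.reflectRoot i (h8sW D w r) := by
  have h1 := h8W_conj_simple D hB0 hA hBN hW hO2 w hw i i hi hi hfix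
  have h2 : h8wPerm D hA w * h8sPerm D hA i = h8sPerm D hA i * h8wPerm D hA w := by
    calc h8wPerm D hA w * h8sPerm D hA i
        = (h8wPerm D hA w * h8sPerm D hA i * (h8wPerm D hA w)⁻¹) * h8wPerm D hA w := by group
      _ = h8sPerm D hA i * h8wPerm D hA w := by rw [h1]
  have h3 := congrArg (fun σ : Equiv.Perm (Fin D.nroots) => (σ ⟨r, hr⟩).val) h2
  simp only [Equiv.Perm.mul_apply] at h3
  rw [h8wPerm_val D hA w hw, h8sPerm_val D hA i hi, h8sPerm_val D hA i hi,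
    h8wPerm_val D hA w hw] at h3
  exact h3

/-- one step: conjugation by `n_i`, `i ∈ FixJ w` -/
theorem invcommj_step (D : ChevalleyDatum) (hB : H8Base.{u} D) (hB0 : H8Base.{0} D)
    (hA : H8ReflAll D) (hBN : H8BN D) (hW : H8BN2 D) (hO2 : H8Ord2 D)
    (w : List ℕ) (hw : ValidW D w) (h0 : GL D.Idx F) (hh : h0 ∈ D.diagonalSubgroup F)
    (i : ℕ) (hi : i ∈ FixJ D w) :
    ∃ h1 ∈ D.diagonalSubgroup F,
      h8nU D hB (D.simple i) (1 : F) * (h0 * (h8nWU D hB w : GL D.Idx F)) *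
        (h8nU D hB (D.simple i) (1 : F))⁻¹ = h1 * (h8nWU D hB w : GL D.Idx F) := by
  obtain ⟨hir, hfix⟩ := hi
  have hnwN : (h8nWU D hB w : GL D.Idx F) ∈ D.monomialSubgroup F := h8nWU_mem_N D hB hA w hw
  have hniN : h8nU D hB (D.simple i) (1 : F) ∈ D.monomialSubgroup F :=
    h8nU_mem_N D hB _ (h8simple_pos D hBN i hir).1
  have h1N : h0 * (h8nWU D hB w : GL D.Idx F) ∈ D.monomialSubgroup F :=
    Subgroup.mul_mem _ (h8H_le_N D hh) hnwN
  have h2N : h8nU D hB (D.simple i) (1 : F) * (h0 * (h8nWU D hB w : GL D.Idx F)) *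
      (h8nU D hB (D.simple i) (1 : F))⁻¹ ∈ D.monomialSubgroup F :=
    Subgroup.mul_mem _ (Subgroup.mul_mem _ hniN h1N) (Subgroup.inv_mem _ hniN)
  have ha1 : ∀ r < D.nroots, H8Act D hB (h0 * (h8nWU D hB w : GL D.Idx F)) r (h8sW D w r) :=
    fun r hr => h8act_mul D hB h0 _ r _ _ (h8nWU_act D hB hA w hw r hr)
      (h8perm_H_id D hB h0 hh _ (h8sW_lt D hA w hw r hr))
  have ha2 : ∀ r < D.nroots, H8Act D hB (h8nU D hB (D.simple i) (1 : F) *
      (h0 * (h8nWU D hB w : GL D.Idx F)) * (h8nU D hB (D.simple i) (1 : F))⁻¹) r (h8sW D w r) := by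
    intro r hr
    have hrr := h8refl_lt D hA i hir r hr
    have e1 : H8Act D hB (h8nU D hB (D.simple i) (1 : F))⁻¹ r (D.reflectRoot i r) := by
      have := h8act_inv D hB _ _ _ (h8act_nU (F := F) D hB hA i hir (D.reflectRoot i r) hrr)
      rwa [h8refl_invol D hA i hir r hr] at this
    have e2 := ha1 (D.reflectRoot i r) hrr
    have hlt := h8sW_lt D hA w hw _ hrr
    have e3 := h8act_nU (F := F) D hB hA i hir (h8sW D w (D.reflectRoot i r)) hlt
    have e4 := h8act_mul D hB _ _ _ _ _ e1 e2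
    have e5 := h8act_mul D hB _ _ _ _ _ e4 e3
    rw [invcommj_comm D hB0 hA hBN hW hO2 w hw i hir hfix r hr,
      h8refl_invol D hA i hir _ (h8sW_lt D hA w hw r hr), ← mul_assoc] at e5
    exact e5
  have hk := N_same_perm D hB hA hBN hW hO2 _ _ h1N h2N (h8sW D w) ha1 ha2
  have hnorm := h8nWU_mem_normalizer_H (F := F) D hB hA w hw
  rw [Subgroup.mem_normalizer_iff] at hnorm
  refine ⟨h0 * ((h8nWU D hB w : GL D.Idx F) * ((h0 * (h8nWU D hB w : GL D.Idx F))⁻¹ *
      (h8nU D hB (D.simple i) (1 : F) * (h0 * (h8nWU D hB w : GL D.Idx F)) *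
        (h8nU D hB (D.simple i) (1 : F))⁻¹)) * (h8nWU D hB w : GL D.Idx F)⁻¹),
    Subgroup.mul_mem _ hh ((hnorm _).1 hk), ?_⟩
  group

/-- COMMJ : conjugating `h n_w` by a word in the reflections fixed by `w` gives `h' n_w` -/
theorem conj_N_by_J (D : ChevalleyDatum) (hB : H8Base.{u} D) (hB0 : H8Base.{0} D)
    (hA : H8ReflAll D) (hC : H8CommAll.{u} D) (hBN : H8BN D) (hW : H8BN2 D) (hO2 : H8Ord2 D)
    (w : List ℕ) (hw : ValidW D w) (h0 : GL D.Idx F) (hh : h0 ∈ D.diagonalSubgroup F)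
    (v : List ℕ) (hv : ∀ i ∈ v, i ∈ FixJ D w) :
    ∃ h1 ∈ D.diagonalSubgroup F,
      (h8nWU D hB v : GL D.Idx F) * (h0 * (h8nWU D hB w : GL D.Idx F)) *
        (h8nWU D hB v : GL D.Idx F)⁻¹ = h1 * (h8nWU D hB w : GL D.Idx F) := by
  induction v with
  | nil =>
    refine ⟨h0, hh, ?_⟩
    have : (h8nWU D hB [] : GL D.Idx F) = 1 := rfl
    rw [this, one_mul, inv_one, mul_one]
  | cons i v ih =>
    obtain ⟨h1', hh1', e⟩ := ih (fun j hj => hv j (List.mem_cons_of_mem _ hj))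
    obtain ⟨h1, hh1, e2⟩ := invcommj_step D hB hB0 hA hBN hW hO2 w hw h1' hh1' i
      (hv i List.mem_cons_self)
    refine ⟨h1, hh1, ?_⟩
    rw [h8nWU_cons, ← e2, ← e]
    group

end Cfsg.Agent.Lib.helper14.INV
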