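import Mathlib
import Cfsg.Prelude.Def_ChevStructure
import Cfsg.Agent.Lib.helper14.INV.Defs
import Cfsg.Agent.Lib.Helper10.INVUPLE

/-!
# Project INV, piece M1a : the cell jump `w ↦ s_i w` (helper22)
-/

set_option autoImplicit false
set_option linter.unusedVariables false

namespace Cfsg.Agent.Lib.helper14.INV

open Cfsg.Lie Cfsg.Lie.ChevalleyDatum Cfsg.Agent.Lib.helper8 Cfsg.Agent.Lib.helper14

universe u

variable {F : Type u} [Field F]

/-- the group-theoretic identity behind M1a -/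
theorem invm1a_alg {G : Type*} [Group G] (ni h0 nw xa u1 xe hh xce : G)
    (h1 : ni * xa * ni⁻¹ = xe * hh * ni * xe)
    (h2 : (ni * (h0 * nw) * ni⁻¹) * xe = xce * (ni * (h0 * nw) * ni⁻¹)) :
    ni * (h0 * nw * (xa * u1)) * ni⁻¹ =
      (xce * (ni * (h0 * (nw * (ni⁻¹ * hh * ni) * nw⁻¹)) * ni⁻¹)) * (ni * nw) *
        (xe * (ni * u1 * ni⁻¹)) := by
  calc ni * (h0 * nw * (xa * u1)) * ni⁻¹
      = (ni * (h0 * nw) * ni⁻¹) * (ni * xa * ni⁻¹) * (ni * u1 * ni⁻¹) := by group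
    _ = (ni * (h0 * nw) * ni⁻¹) * (xe * hh * ni * xe) * (ni * u1 * ni⁻¹) := by rw [h1]
    _ = ((ni * (h0 * nw) * ni⁻¹) * xe) * (hh * ni * xe * (ni * u1 * ni⁻¹)) := by group
    _ = (xce * (ni * (h0 * nw) * ni⁻¹)) * (hh * ni * xe * (ni * u1 * ni⁻¹)) := by rw [h2]
    _ = _ := by group

/-- M1a : the cell jump `w ↦ s_i w` -/
theorem cell_conj_n_simple (D : ChevalleyDatum) (hB : H8Base.{u} D) (hA : H8ReflAll D)
    (hC : H8CommAll.{u} D) (hBN : H8BN D) (hW : H8BN2 D)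
    (w : List ℕ) (hw : ValidW D w) (h0 u₁ : GL D.Idx F) (hh : h0 ∈ D.diagonalSubgroup F)
    (i : ℕ) (hi : i < D.rank) (a : F) (ha : a ≠ 0)
    (hu₁ : u₁ ∈ Subgroup.closure (h8UpSet D F (D.simple i)))
    (hfix : h8sW D w (D.simple i) = D.simple i) :
    InCell D hB (h8nU D hB (D.simple i) (1 : F) *
        (h0 * (h8nWU D hB w : GL D.Idx F) * (h8xU D hB (D.simple i) a * u₁)) *
        (h8nU D hB (D.simple i) (1 : F))⁻¹) (i :: w) := by
  obtain ⟨dep, par, horb⟩ := hBN.orb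
  have hnormH := h8N_le_normalizer_H (F := F) D hB hA dep par horb
  have hpi := h8simple_pos D hBN i hi
  have hp := hpi.1
  have hniN : h8nU D hB (D.simple i) (1 : F) ∈ D.monomialSubgroup F := h8nU_mem_N D hB _ hp
  have hnwN : (h8nWU D hB w : GL D.Idx F) ∈ D.monomialSubgroup F := h8nWU_mem_N D hB hA w hw
  have hconjH : ∀ n ∈ D.monomialSubgroup F, ∀ h ∈ D.diagonalSubgroup F,
      n * h * n⁻¹ ∈ D.diagonalSubgroup F := fun n hn h hh' =>
    ((Subgroup.mem_normalizer_iff.1 (hnormH hn)) h).1 hh'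
  have hconjH' : ∀ n ∈ D.monomialSubgroup F, ∀ h ∈ D.diagonalSubgroup F,
      n⁻¹ * h * n ∈ D.diagonalSubgroup F := by
    intro n hn h hh'
    have := hconjH n⁻¹ (Subgroup.inv_mem _ hn) h hh'
    rwa [inv_inv] at this
  -- `n_i x_{p_i}(a) n_i⁻¹ = x_{-p_i}(c₁ a)`
  obtain ⟨c1, hc1, e1⟩ := h8act_nU (F := F) D hB hA i hi (D.simple i) hp
  rw [h8reflectRoot_simple] at e1
  have ha' : c1 * a ≠ 0 := mul_ne_zero hc1 ha
  have E2 := h8x_neg_eq D hB (D.simple i) (c1 * a) ha'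
  have hhH : h8hU D hB (D.simple i) (-(c1 * a)⁻¹) ∈ D.diagonalSubgroup F :=
    h8hU_mem_H D hB _ hp _ (neg_ne_zero.2 (inv_ne_zero ha'))
  -- `n_i u₁ n_i⁻¹ ∈ U`
  have hu' : h8nU D hB (D.simple i) (1 : F) * u₁ * (h8nU D hB (D.simple i) (1 : F))⁻¹ ∈
      Subgroup.closure (h8UpSet D F (D.simple i)) :=
    ((Subgroup.mem_normalizer_iff.1
      (h8nU_normalizes_up (F := F) D hB hA i hi (hBN.sp i hi))) u₁).1 hu₁
  have hu'U := up_le_U D hB _ hu'
  -- `n' = n_i (h0 n_w) n_i⁻¹` acts `p_i ↦ p_i`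
  have hnegp : D.negIdx.getD (D.simple i) 0 < D.nroots := hB.ca.neg_lt _ hp
  have hr : D.reflectRoot i (D.negIdx.getD (D.simple i) 0) = D.simple i := by
    rw [← h8reflectRoot_simple]
    exact h8refl_invol D hA i hi _ hp
  have a3 : H8Act D hB (h8nU D hB (D.simple i) (1 : F)) (D.negIdx.getD (D.simple i) 0)
      (D.simple i) := by
    have := h8act_nU (F := F) D hB hA i hi _ hnegp
    rwa [hr] at this
  have a1 := h8act_inv D hB _ _ _ a3
  have a2 : H8Act D hB (h0 * (h8nWU D hB w : GL D.Idx F)) (D.negIdx.getD (D.simple i) 0)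
      (D.negIdx.getD (D.simple i) 0) := by
    have h1 := h8nWU_act (F := F) D hB hA w hw _ hnegp
    rw [h8sW_neg D hA w hw _ hp, hfix] at h1
    exact h8act_mul D hB h0 _ _ _ _ h1 (h8perm_H_id D hB h0 hh _ hnegp)
  have a4 : H8Act D hB (h8nU D hB (D.simple i) (1 : F) * (h0 * (h8nWU D hB w : GL D.Idx F)) *
      (h8nU D hB (D.simple i) (1 : F))⁻¹) (D.simple i) (D.simple i) := by
    have := h8act_mul D hB _ _ _ _ _ (h8act_mul D hB _ _ _ _ _ a1 a2) a3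
    rwa [← mul_assoc] at this
  obtain ⟨c2, hc2, e4⟩ := a4
  have key : (h8nU D hB (D.simple i) (1 : F) * (h0 * (h8nWU D hB w : GL D.Idx F)) *
      (h8nU D hB (D.simple i) (1 : F))⁻¹) * h8xU D hB (D.simple i) (c1 * a)⁻¹ =
      h8xU D hB (D.simple i) (c2 * (c1 * a)⁻¹) *
        (h8nU D hB (D.simple i) (1 : F) * (h0 * (h8nWU D hB w : GL D.Idx F)) *
          (h8nU D hB (D.simple i) (1 : F))⁻¹) := by
    rw [← e4 (c1 * a)⁻¹]
    group
  have halg := invm1a_alg (h8nU D hB (D.simple i) (1 : F)) h0 (h8nWU D hB w : GL D.Idx F)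
    (h8xU D hB (D.simple i) a) u₁ (h8xU D hB (D.simple i) (c1 * a)⁻¹)
    (h8hU D hB (D.simple i) (-(c1 * a)⁻¹)) (h8xU D hB (D.simple i) (c2 * (c1 * a)⁻¹))
    ((e1 a).trans E2) key
  have hb1 : h8xU D hB (D.simple i) (c2 * (c1 * a)⁻¹) *
      (h8nU D hB (D.simple i) (1 : F) * (h0 * ((h8nWU D hB w : GL D.Idx F) *
        ((h8nU D hB (D.simple i) (1 : F))⁻¹ * h8hU D hB (D.simple i) (-(c1 * a)⁻¹) *
          h8nU D hB (D.simple i) (1 : F)) * (h8nWU D hB w : GL D.Idx F)⁻¹)) *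
        (h8nU D hB (D.simple i) (1 : F))⁻¹) ∈ D.borelSubgroup F := by
    refine Subgroup.mul_mem _ (h8U_le_B D (h8xU_mem_U D hB _ hpi _)) (h8H_le_B D ?_)
    refine hconjH _ hniN _ (Subgroup.mul_mem _ hh ?_)
    exact hconjH _ hnwN _ (hconjH' _ hniN _ hhH)
  have hb2 : h8xU D hB (D.simple i) (c1 * a)⁻¹ *
      (h8nU D hB (D.simple i) (1 : F) * u₁ * (h8nU D hB (D.simple i) (1 : F))⁻¹) ∈
      D.borelSubgroup F :=
    h8U_le_B D (Subgroup.mul_mem _ (h8xU_mem_U D hB _ hpi _) hu'U)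
  refine ⟨_, hb1, _, hb2, ?_⟩
  rw [h8nWU_cons]
  exact halg

end Cfsg.Agent.Lib.helper14.INV
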