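import Mathlib
import Cfsg.Prelude.Def_ChevStructure
import Cfsg.Agent.Lib.helper14.INV.Defs
import Cfsg.Agent.Lib.Helper10.INVUPLE

/-!
# Project INV, piece M2a : the cell jump `w ↦ s_i w s_i` (helper22, backup)
-/

set_option autoImplicit false
set_option linter.unusedVariables false

namespace Cfsg.Agent.Lib.helper14.INV

open Cfsg.Lie Cfsg.Lie.ChevalleyDatum Cfsg.Agent.Lib.helper8 Cfsg.Agent.Lib.helper14

universe u

variable {F : Type u} [Field F]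

/-- the BN-pair axiom in the length-increasing case, left form: if `n⁻¹ X_{p_i} n = X_{r'}` with
`r'` positive then `n_i B n ⊆ B n_i n B` -/
theorem invm2a_left (D : ChevalleyDatum) (hB : H8Base.{u} D) (hA : H8ReflAll D)
    (hC : H8CommAll.{u} D) (hBN : H8BN D)
    (i : ℕ) (hi : i < D.rank) (n : GL D.Idx F) (hn : n ∈ D.monomialSubgroup F) (r' : ℕ)
    (hr' : D.IsPosRoot r') (hact : H8Act D hB n⁻¹ (D.simple i) r')
    (b : GL D.Idx F) (hb : b ∈ D.borelSubgroup F) :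
    ∃ b1 ∈ D.borelSubgroup F, ∃ b2 ∈ D.borelSubgroup F,
      h8nU D hB (D.simple i) 1 * b * n = b1 * (h8nU D hB (D.simple i) 1 * n) * b2 := by
  obtain ⟨dep, par, horb⟩ := hBN.orb
  obtain ⟨hg, hrow⟩ := hBN.up i hi
  obtain ⟨hnorm, hsup⟩ := h8up_main (F := F) D hB hC i hg hrow
  have hpp := h8simple_pos D hBN i hi
  have hmemB : b ∈ ((D.posUnipotent F ⊔ D.diagonalSubgroup F : Subgroup (GL D.Idx F)) :
      Set (GL D.Idx F)) := hb
  rw [Subgroup.coe_mul_of_right_le_normalizer_left _ _ (h8_H_le_normalizer_U D hB)] at hmemB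
  obtain ⟨u, hu, h, hh, rfl⟩ := hmemB
  have hu' : u ∈ ((Subgroup.closure (h8UpSet D F (D.simple i)) ⊔ D.rootSubgroup F (D.simple i) :
      Subgroup (GL D.Idx F)) : Set (GL D.Idx F)) := by
    rw [hsup]
    exact hu
  rw [Subgroup.coe_mul_of_right_le_normalizer_left _ _ (le_trans le_sup_left hnorm)] at hu'
  obtain ⟨u', hu'm, x, hx, rfl⟩ := hu'
  obtain ⟨t, rfl⟩ := h8rootSubgroup_mem D hB _ hpp.1 x hx
  have hsn := h8nU_normalizes_up (F := F) D hB hA i hi (hBN.sp i hi)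
  have hu'' := (Subgroup.mem_normalizer_iff.mp hsn u').mp hu'm
  have hUpB : Subgroup.closure (h8UpSet D F (D.simple i)) ≤ D.borelSubgroup F :=
    le_trans (up_le_U D hB _) (h8U_le_B D)
  have hninv : n⁻¹ ∈ Subgroup.normalizer (D.diagonalSubgroup F : Set (GL D.Idx F)) :=
    h8N_le_normalizer_H D hB hA dep par horb (Subgroup.inv_mem _ hn)
  have hh'' := (Subgroup.mem_normalizer_iff.mp hninv h).mp hh
  obtain ⟨c, _, hc⟩ := hact
  have e := hc t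
  rw [inv_inv] at e
  refine ⟨_, hUpB hu'', h8xU D hB r' (c * t) * (n⁻¹ * h * n⁻¹⁻¹),
    Subgroup.mul_mem _ (h8U_le_B D (h8xU_mem_U D hB _ hr' _)) (h8H_le_B D hh''), ?_⟩
  show h8nU D hB (D.simple i) 1 * (u' * h8xU D hB (D.simple i) t * h) * n = _
  rw [← e]
  group

/-- the right form, obtained from the left form by inversion: if `n X_{p_i} n⁻¹ = X_{r'}` with
`r'` positive then `n B n_i⁻¹ ⊆ B n n_i B` -/
theorem invm2a_right (D : ChevalleyDatum) (hB : H8Base.{u} D) (hA : H8ReflAll D)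
    (hC : H8CommAll.{u} D) (hBN : H8BN D)
    (i : ℕ) (hi : i < D.rank) (n : GL D.Idx F) (hn : n ∈ D.monomialSubgroup F) (r' : ℕ)
    (hr' : D.IsPosRoot r') (hact : H8Act D hB n (D.simple i) r')
    (b : GL D.Idx F) (hb : b ∈ D.borelSubgroup F) :
    ∃ b1 ∈ D.borelSubgroup F, ∃ b2 ∈ D.borelSubgroup F,
      n * b * (h8nU D hB (D.simple i) (1 : F))⁻¹ =
        b1 * (n * h8nU D hB (D.simple i) 1) * b2 := by
  have hact' : H8Act D hB n⁻¹⁻¹ (D.simple i) r' := by rwa [inv_inv]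
  obtain ⟨b1, hb1, b2, hb2, e⟩ := invm2a_left D hB hA hC hBN i hi n⁻¹ (Subgroup.inv_mem _ hn) r'
    hr' hact' b⁻¹ (Subgroup.inv_mem _ hb)
  have hss := h8nU_sq_mem_H (F := F) D hB (D.simple i) (h8simple_pos D hBN i hi).1
  refine ⟨b2⁻¹, Subgroup.inv_mem _ hb2,
    (h8nU D hB (D.simple i) (1 : F) * h8nU D hB (D.simple i) 1)⁻¹ * b1⁻¹,
    Subgroup.mul_mem _ (Subgroup.inv_mem _ (h8H_le_B D hss)) (Subgroup.inv_mem _ hb1), ?_⟩
  have e' : n * b * (h8nU D hB (D.simple i) (1 : F))⁻¹ =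
      (h8nU D hB (D.simple i) 1 * b⁻¹ * n⁻¹)⁻¹ := by group
  rw [e', e]
  group

/-- the group-theoretic bookkeeping of M2a -/
theorem invm2a_alg {G : Type*} [Group G] (B : Subgroup G) (x xp hp ni h0 nw u : G)
    (hx : x = xp * hp * ni * xp) (hxp : xp ∈ B) (hhp : hp ∈ B) (hh0 : h0 ∈ B) (hu : u ∈ B)
    (hL : ∀ b ∈ B, ∃ b1 ∈ B, ∃ b2 ∈ B, ni * b * nw = b1 * (ni * nw) * b2)
    (hR : ∀ b ∈ B, ∃ b1 ∈ B, ∃ b2 ∈ B, (ni * nw) * b * ni⁻¹ = b1 * ((ni * nw) * ni) * b2) :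
    ∃ b1 ∈ B, ∃ b2 ∈ B, x * (h0 * nw * u) * x⁻¹ = b1 * (ni * (nw * ni)) * b2 := by
  obtain ⟨b5, hb5, b6, hb6, e1⟩ := hL (xp * h0) (B.mul_mem hxp hh0)
  obtain ⟨b7, hb7, b8, hb8, e2⟩ := hR (b6 * (u * xp⁻¹)) (B.mul_mem hb6 (B.mul_mem hu (B.inv_mem hxp)))
  refine ⟨xp * hp * b5 * b7, B.mul_mem (B.mul_mem (B.mul_mem hxp hhp) hb5) hb7,
    b8 * (hp⁻¹ * xp⁻¹), B.mul_mem hb8 (B.mul_mem (B.inv_mem hhp) (B.inv_mem hxp)), ?_⟩
  have e3 : x * (h0 * nw * u) * x⁻¹ =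
      xp * hp * (ni * (xp * h0) * nw) * (u * xp⁻¹) * ni⁻¹ * (hp⁻¹ * xp⁻¹) := by
    rw [hx]; group
  have e4 : xp * hp * (b5 * (ni * nw) * b6) * (u * xp⁻¹) * ni⁻¹ * (hp⁻¹ * xp⁻¹) =
      xp * hp * b5 * ((ni * nw) * (b6 * (u * xp⁻¹)) * ni⁻¹) * (hp⁻¹ * xp⁻¹) := by group
  rw [e3, e1, e4, e2]
  group

/-- M2a : the cell jump `w ↦ s_i w s_i` -/
theorem cell_conj_neg_simple (D : ChevalleyDatum) (hB : H8Base.{u} D) (hA : H8ReflAll D)
    (hC : H8CommAll.{u} D) (hBN : H8BN D) (hW : H8BN2 D)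
    (w : List ℕ) (hw : ValidW D w) (h0 u : GL D.Idx F) (hh : h0 ∈ D.diagonalSubgroup F)
    (hu : u ∈ D.posUnipotent F) (i : ℕ) (hi : i < D.rank)
    (hinv : ∀ r < D.nroots, h8sW D w (h8sW D w r) = r)
    (hpos : D.IsPosRoot (h8sW D w (D.simple i))) (hne : h8sW D w (D.simple i) ≠ D.simple i) :
    InCell D hB (h8xU D hB (D.neg (D.simple i)) (1 : F) *
        (h0 * (h8nWU D hB w : GL D.Idx F) * u) * (h8xU D hB (D.neg (D.simple i)) (1 : F))⁻¹)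
      (i :: (w ++ [i])) := by
  have hpi := h8simple_pos D hBN i hi
  have hp := hpi.1
  have hniN : h8nU D hB (D.simple i) (1 : F) ∈ D.monomialSubgroup F := h8nU_mem_N D hB _ hp
  have hnwN : (h8nWU D hB w : GL D.Idx F) ∈ D.monomialSubgroup F := h8nWU_mem_N D hB hA w hw
  -- `n_w⁻¹` acts `p_i ↦ w p_i`
  have a1 : H8Act D hB (h8nWU D hB w : GL D.Idx F)⁻¹ (D.simple i) (h8sW D w (D.simple i)) := by
    have h1 := h8nWU_act (F := F) D hB hA w hw _ hpos.1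
    rw [hinv _ hp] at h1
    exact h8act_inv D hB _ _ _ h1
  -- `n_i n_w` acts `p_i ↦ s_i w p_i`
  have a2 : H8Act D hB (h8nU D hB (D.simple i) (1 : F) * (h8nWU D hB w : GL D.Idx F))
      (D.simple i) (D.reflectRoot i (h8sW D w (D.simple i))) :=
    h8act_mul D hB _ _ _ _ _ (h8nWU_act (F := F) D hB hA w hw _ hp)
      (h8act_nU (F := F) D hB hA i hi _ hpos.1)
  have hpos2 := (h8spChk_spec D i (hBN.sp i hi) _ hpos hne).1
  have E := h8x_neg_eq D hB (D.simple i) (1 : F) one_ne_zero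
  have hcell := invm2a_alg (D.borelSubgroup F) (h8xU D hB (D.neg (D.simple i)) (1 : F))
    (h8xU D hB (D.simple i) (1 : F)⁻¹) (h8hU D hB (D.simple i) (-(1 : F)⁻¹))
    (h8nU D hB (D.simple i) (1 : F)) h0 (h8nWU D hB w : GL D.Idx F) u E
    (h8U_le_B D (h8xU_mem_U D hB _ hpi _))
    (h8H_le_B D (h8hU_mem_H D hB _ hp _ (neg_ne_zero.2 (inv_ne_zero one_ne_zero))))
    (h8H_le_B D hh) (h8U_le_B D hu)
    (fun b hb => invm2a_left D hB hA hC hBN i hi _ hnwN _ hpos a1 b hb)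
    (fun b hb => invm2a_right D hB hA hC hBN i hi _ (Subgroup.mul_mem _ hniN hnwN) _ hpos2 a2 b hb)
  obtain ⟨b1, hb1, b2, hb2, e⟩ := hcell
  refine ⟨b1, hb1, b2, hb2, ?_⟩
  rw [e, h8nWU_cons, h8nWU_append, h8nWU_cons]
  congr 3
  unfold h8nWU
  simp

end Cfsg.Agent.Lib.helper14.INV
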