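import Mathlib
import Cfsg.Agent.Lib.Helper19.U3P.Defs
import Cfsg.Agent.Lib.helper6.SLPM4

/-!
# U3P B1 (designer helper19, project U3P for S2289): `conj_phi`

`δ : SL₂(K) →* SL₂(K)`, conjugation by `diag(bK, 1)`; the homomorphisms `g ↦ h * φ g * h⁻¹` and `φ ∘ δ` agree on
the generators `xM 1`, `hM bK`, `wM` (`closure_M`, `helper6.SLPM4`).
-/

set_option autoImplicit false

namespace Cfsg.Agent.Lib.Helper19.U3P

open Cfsg.Agent.Lib.helper17.SLP Cfsg.Agent.Lib.helper14.SU3J Cfsg.Agent.Lib.Helper25.SU3P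
open Polynomial Matrix

universe u v

section B

variable {K : Type u} [Field K] {G : Type v} [Group G]

/-- conjugation by `diag(b, 1)` on 2×2 matrices, entrywise. -/
def u3pb1_dmat (b : Kˣ) (M : Matrix (Fin 2) (Fin 2) K) : Matrix (Fin 2) (Fin 2) K :=
  !![M 0 0, (b : K) * M 0 1; (b : K)⁻¹ * M 1 0, M 1 1]

theorem u3pb1_dmat_det (b : Kˣ) (M : Matrix (Fin 2) (Fin 2) K) : (u3pb1_dmat b M).det = M.det := by
  have hb : (b : K) ≠ 0 := b.ne_zero
  rw [u3pb1_dmat, Matrix.det_fin_two_of, Matrix.det_fin_two]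
  field_simp

theorem u3pb1_dmat_one (b : Kˣ) : u3pb1_dmat b (1 : Matrix (Fin 2) (Fin 2) K) = 1 := by
  ext i j
  fin_cases i <;> fin_cases j <;> simp [u3pb1_dmat]

theorem u3pb1_dmat_mul (b : Kˣ) (M N : Matrix (Fin 2) (Fin 2) K) :
    u3pb1_dmat b (M * N) = u3pb1_dmat b M * u3pb1_dmat b N := by
  have hb : (b : K) ≠ 0 := b.ne_zero
  ext i j
  fin_cases i <;> fin_cases j <;>
    simp [u3pb1_dmat, Matrix.mul_apply, Fin.sum_univ_two] <;> field_simp

/-- conjugation by `diag(b, 1)` on `SL₂(K)`. -/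
def u3pb1_delta (b : Kˣ) : SL2 K →* SL2 K where
  toFun g := ⟨u3pb1_dmat b g.1, by rw [u3pb1_dmat_det]; exact g.2⟩
  map_one' := Subtype.ext (u3pb1_dmat_one b)
  map_mul' x y := Subtype.ext (u3pb1_dmat_mul b x.1 y.1)

theorem u3pb1_delta_coe (b : Kˣ) (g : SL2 K) :
    ((u3pb1_delta b g : SL2 K) : Matrix (Fin 2) (Fin 2) K) = u3pb1_dmat b g.1 := rfl

theorem u3pb1_delta_xM (b : Kˣ) (t : K) : u3pb1_delta b (xM t) = xM ((b : K) * t) := by
  apply Subtype.ext
  rw [u3pb1_delta_coe]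
  ext i j
  fin_cases i <;> fin_cases j <;> simp [u3pb1_dmat, xM]

theorem u3pb1_delta_hM (b s : Kˣ) : u3pb1_delta b (hM s) = hM s := by
  apply Subtype.ext
  rw [u3pb1_delta_coe]
  ext i j
  fin_cases i <;> fin_cases j <;> simp [u3pb1_dmat, hM]

theorem u3pb1_delta_wM (b : Kˣ) : u3pb1_delta b (wM : SL2 K) = wM * (hM b)⁻¹ := by
  apply Subtype.ext
  rw [u3pb1_delta_coe, Matrix.SpecialLinearGroup.coe_mul, Matrix.SpecialLinearGroup.coe_inv]
  ext i j
  fin_cases i <;> fin_cases j <;>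
    simp [u3pb1_dmat, hM, wM, Matrix.mul_apply, Fin.sum_univ_two, Matrix.adjugate_fin_two]

end B

section B'

variable {K : Type u} [Field K] [Fintype K] {G : Type v} [Group G]

/-- B1 [M]  `δ : SL₂(K) →* SL₂(K)`, `g ↦ d g d⁻¹` with `d = diag(bK, 1)`: entries `[[g₀₀, bK g₀₁], [bK⁻¹ g₁₀, g₁₁]]` (define it as a `MonoidHom`, `det` unchanged).
`δ (xM t) = xM (bK t)`, `δ (hM s) = hM s`, `δ wM = wM * (hM bK)⁻¹` (2×2 identities).  The homomorphisms `g ↦ h * φ g * h⁻¹`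
(`(MulAut.conj h).toMonoidHom.comp φ`) and `φ.comp δ` agree on `xM 1`, `hM bK`, `wM` (`h1 h2 h3`), which generate (`closure_M`, `helper6.SLPM4`):
`MonoidHom.eq_of_eqOn_dense`.  Then `g' := δ g`. -/
theorem conj_phi (bK : Kˣ) (hbK : ∀ y : Kˣ, y ∈ Subgroup.zpowers bK) (φ : SL2 K →* G) (h : G)
    (h1 : h * φ (xM 1) * h⁻¹ = φ (xM (bK : K))) (h2 : Commute h (φ (hM bK)))
    (h3 : h * φ wM * h⁻¹ = φ wM * (φ (hM bK))⁻¹) :
    (∀ t : K, h * φ (xM t) * h⁻¹ = φ (xM ((bK : K) * t))) ∧ ∀ g, ∃ g', h * φ g * h⁻¹ = φ g' := by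
  have key : (MulAut.conj h).toMonoidHom.comp φ = φ.comp (u3pb1_delta bK) := by
    apply MonoidHom.eq_of_eqOn_dense (closure_M bK hbK)
    intro x hx
    simp only [Set.mem_insert_iff, Set.mem_singleton_iff] at hx
    rcases hx with rfl | rfl | rfl
    · simp only [MonoidHom.comp_apply, MulEquiv.coe_toMonoidHom, MulAut.conj_apply,
        u3pb1_delta_xM, mul_one]
      exact h1
    · simp only [MonoidHom.comp_apply, MulEquiv.coe_toMonoidHom, MulAut.conj_apply,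
        u3pb1_delta_hM]
      rw [h2.eq, mul_inv_cancel_right]
    · simp only [MonoidHom.comp_apply, MulEquiv.coe_toMonoidHom, MulAut.conj_apply,
        u3pb1_delta_wM, map_mul, map_inv]
      exact h3
  have key' : ∀ g, h * φ g * h⁻¹ = φ (u3pb1_delta bK g) := by
    intro g
    have := DFunLike.congr_fun key g
    simpa only [MonoidHom.comp_apply, MulEquiv.coe_toMonoidHom, MulAut.conj_apply] using this
  refine ⟨fun t => ?_, fun g => ⟨_, key' g⟩⟩
  rw [key', u3pb1_delta_xM]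

end B'

end Cfsg.Agent.Lib.Helper19.U3P
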