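import Mathlib
import Cfsg.Prelude.Def_GeometricClasses
import Cfsg.Agent.Lib.Helper27.ASC.Defs
import Cfsg.Agent.Lib.Helper19.ASG.Defs
import Cfsg.Agent.Lib.Helper19.ASU.Defs
import Cfsg.Agent.Lib.Helper26.ASUC.Defs

set_option autoImplicit false
set_option linter.unusedVariables false
set_option linter.unusedSectionVars false

/-!
# Project ASU, block C, case `k = d = 2`, piece C-22MEM : membership in a subfield group (helper22)
-/

namespace Cfsg.Agent.Lib.Helper19.ASU

open Cfsg Cfsg.Geo Cfsg.Agent.Lib.Helper27.ASC Cfsg.Agent.Lib.Helper19.ASG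
open scoped MatrixGroups Matrix Kronecker

variable {n : ℕ} {F : Type*} [Field F]

/-- C-22MEM (medium) : a conjugate by `P` of a scalar multiple of an `F₀`-rational matrix lies in the subfield group
(`s • M` is invertible with entries in `F₀`, so it is `Matrix.GeneralLinearGroup.map F₀.subtype` of a unit; `g = P (s⁻¹ • (s • M)) P⁻¹`). -/
theorem uc_mem_subfield (F₀ : Subfield F) (P g : GL (Fin n) F) (M : Matrix (Fin n) (Fin n) F) (s : F) (hs : s ≠ 0)
    (hg : (g : Matrix (Fin n) (Fin n) F) =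
      (P : Matrix (Fin n) (Fin n) F) * M * ((P⁻¹ : GL (Fin n) F) : Matrix (Fin n) (Fin n) F))
    (hM : ∀ i j, s * M i j ∈ F₀) : g ∈ subfieldSubgroup F₀ P := by
  classical
  -- `M` is invertible
  have hdetg : (g : Matrix (Fin n) (Fin n) F).det ≠ 0 :=
    ((Matrix.isUnit_iff_isUnit_det _).mp g.isUnit).ne_zero
  have hdetM : M.det ≠ 0 := by
    intro h
    apply hdetg
    rw [hg, Matrix.det_mul, Matrix.det_mul, h, mul_zero, zero_mul]
  -- the `F₀`-matrix
  let M₀ : Matrix (Fin n) (Fin n) F₀ := fun i j => ⟨s * M i j, hM i j⟩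
  have hmap : M₀.map F₀.subtype = s • M := by
    ext i j
    rfl
  have hdet0 : M₀.det ≠ 0 := by
    intro h
    have h1 := congrArg F₀.subtype h
    rw [RingHom.map_det, RingHom.mapMatrix_apply, hmap, Matrix.det_smul, map_zero] at h1
    exact mul_ne_zero (pow_ne_zero _ hs) hdetM h1
  let x₀ : GL (Fin n) F₀ := Matrix.GeneralLinearGroup.mkOfDetNeZero M₀ hdet0
  let x : GL (Fin n) F := Matrix.GeneralLinearGroup.map (F₀.subtype : F₀ →+* F) x₀
  have hx : (x : Matrix (Fin n) (Fin n) F) = s • M := hmap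
  let z : GL (Fin n) F := Units.map (Matrix.scalar (Fin n) : F →+* Matrix (Fin n) (Fin n) F).toMonoidHom
    (Units.mk0 s⁻¹ (inv_ne_zero hs))
  have hz : (z : Matrix (Fin n) (Fin n) F) = s⁻¹ • (1 : Matrix (Fin n) (Fin n) F) := by
    show Matrix.scalar (Fin n) s⁻¹ = _
    rw [Matrix.scalar_apply, Matrix.smul_one_eq_diagonal]
  refine ⟨x * z, Subgroup.mul_mem _ (Subgroup.mem_sup_left ⟨x₀, rfl⟩) (Subgroup.mem_sup_right ⟨_, rfl⟩), ?_⟩
  apply Units.ext
  show (P : Matrix (Fin n) (Fin n) F) * ((x * z : GL (Fin n) F) : Matrix (Fin n) (Fin n) F) *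
    ((P⁻¹ : GL (Fin n) F) : Matrix (Fin n) (Fin n) F) = (g : Matrix (Fin n) (Fin n) F)
  have hxz : (s • M) * (s⁻¹ • (1 : Matrix (Fin n) (Fin n) F)) = M := by
    rw [Matrix.smul_mul, Matrix.mul_smul, mul_one, smul_smul, mul_inv_cancel₀ hs, one_smul]
  rw [hg, Units.val_mul, hx, hz, hxz]

end Cfsg.Agent.Lib.Helper19.ASU
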