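import Mathlib
import Cfsg.Prelude.Def_GeometricClasses
import Cfsg.Agent.Lib.Helper27.ASC.Defs
import Cfsg.Agent.Lib.Helper19.ASG.Defs
import Cfsg.Agent.Lib.Helper19.ASU.Defs
import Cfsg.Agent.Lib.Helper26.ASUC.Defs
import Cfsg.Agent.Lib.Helper19.ASUADJ

set_option autoImplicit false
set_option linter.unusedVariables false
set_option linter.unusedSectionVars false

/-!
# Project ASU, block C, case `k = d = 2`, piece C-22RAT : a similitude of `c J` is rational up to a scalar (helper22)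
-/

namespace Cfsg.Agent.Lib.Helper19.ASU

open Cfsg Cfsg.Geo Cfsg.Agent.Lib.Helper27.ASC Cfsg.Agent.Lib.Helper19.ASG
open scoped MatrixGroups Matrix Kronecker

variable {n : ℕ} {F : Type*} [Field F]

/-- not every element is fixed by `a ↦ a ^ q` -/
theorem asuc22rat_exists_not_fixed [Fintype F] (q : ℕ) (hF : Fintype.card F = q ^ 2) : ∃ δ : F, δ ^ q ≠ δ := by
  classical
  by_contra hcon
  simp only [not_exists, not_not] at hcon
  have hq : 2 ≤ q := by
    have h1 : 1 < Fintype.card F := Fintype.one_lt_card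
    rw [hF] at h1
    by_contra h
    have : q = 0 ∨ q = 1 := by omega
    rcases this with rfl | rfl <;> simp at h1
  have hne := FiniteField.X_pow_card_sub_X_ne_zero F (p := q) (by omega)
  have hdeg := FiniteField.X_pow_card_sub_X_natDegree_eq F (p := q) (by omega)
  have h1 : Fintype.card F ≤ q := by
    calc Fintype.card F = (Finset.univ : Finset F).card := Finset.card_univ.symm
      _ ≤ (Polynomial.roots (Polynomial.X ^ q - Polynomial.X : Polynomial F)).toFinset.card := by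
        apply Finset.card_le_card
        intro x _
        rw [Multiset.mem_toFinset, Polynomial.mem_roots hne, Polynomial.IsRoot.def, Polynomial.eval_sub,
          Polynomial.eval_pow, Polynomial.eval_X, hcon x, sub_self]
      _ ≤ Multiset.card (Polynomial.roots (Polynomial.X ^ q - Polynomial.X : Polynomial F)) :=
        Multiset.toFinset_card_le _
      _ ≤ (Polynomial.X ^ q - Polynomial.X : Polynomial F).natDegree := Polynomial.card_roots' _
      _ = q := hdeg
  rw [hF] at h1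
  nlinarith

/-- Hilbert 90 for `a ↦ a ^ q` -/
theorem asuc22rat_h90 [Fintype F] (q : ℕ) (hF : Fintype.card F = q ^ 2) (ν : F) (hν : ν ^ q * ν = 1) :
    ∃ ε : F, ε ≠ 0 ∧ ε ^ q * ν = ε := by
  have key : ∀ a : F, (a + ν * a ^ q) ^ q * ν = a + ν * a ^ q := by
    intro a
    have h1 : (a + ν * a ^ q) ^ q = a ^ q + ν ^ q * a := by
      rw [← ufrob_apply hF, map_add, map_mul, ufrob_apply, ufrob_apply, ufrob_apply, upow_pow hF]
    rw [h1]
    linear_combination a * hν
  by_cases h1 : (1 : F) + ν = 0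
  · obtain ⟨a, ha⟩ := asuc22rat_exists_not_fixed q hF
    refine ⟨a + ν * a ^ q, ?_, key a⟩
    have hl : ν = -1 := eq_neg_of_add_eq_zero_right h1
    rw [hl]
    intro h0
    apply ha
    have : a - a ^ q = 0 := by rw [← h0]; ring
    exact (sub_eq_zero.mp this).symm
  · refine ⟨1 + ν * 1 ^ q, ?_, key 1⟩
    rw [one_pow, mul_one]
    exact h1

/-- the `2 × 2` identity `gᵀ J g = det g • J` -/
theorem asuc22rat_J (g : Matrix (Fin 2) (Fin 2) F) : gᵀ * ucJ * g = g.det • (ucJ : Matrix (Fin 2) (Fin 2) F) := by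
  ext i j
  fin_cases i <;> fin_cases j <;>
    simp [ucJ, Matrix.mul_apply, Fin.sum_univ_two, Matrix.det_fin_two] <;> ring

/-- C-22RAT (medium) : a similitude of `c J` is rational over `Fix (· ^ q)` up to a scalar.  `gᵀ J g^(q) = μ J` and
`gᵀ J g = det g • J` (2 × 2 identity), so `g^(q) = ν g` with `ν = μ / det g`; `g = (g^(q))^(q) = ν^q ν g`, so `ν^q ν = 1`; Hilbert 90
(`asgd1herm_h90`): `ε ≠ 0` with `ε^q ν = ε`; then `(ε g i j)^q = ε^q ν g i j = ε g i j`. -/
theorem uc_sim_J_rational [Fintype F] (q : ℕ) (hF : Fintype.card F = q ^ 2) (c μ : F) (hc : c ≠ 0) (hμ : μ ≠ 0)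
    (g : GL (Fin 2) F)
    (h : (g : Matrix (Fin 2) (Fin 2) F)ᵀ * (c • ucJ) * (g : Matrix (Fin 2) (Fin 2) F).map (fun x : F => x ^ q) =
      μ • (c • ucJ)) :
    ∃ ε : F, ε ≠ 0 ∧ ∀ i j, (ε * (g : Matrix (Fin 2) (Fin 2) F) i j) ^ q = ε * (g : Matrix (Fin 2) (Fin 2) F) i j := by
  classical
  set G : Matrix (Fin 2) (Fin 2) F := (g : Matrix (Fin 2) (Fin 2) F) with hG
  have hD : G.det ≠ 0 := ((Matrix.isUnit_iff_isUnit_det _).mp g.isUnit).ne_zero
  -- cancel `c`
  have h1 : Gᵀ * ucJ * G.map (fun x : F => x ^ q) = μ • (ucJ : Matrix (Fin 2) (Fin 2) F) := by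
    have h2 : c • (Gᵀ * ucJ * G.map (fun x : F => x ^ q)) = c • (μ • (ucJ : Matrix (Fin 2) (Fin 2) F)) := by
      rw [smul_comm c μ, ← h, Matrix.mul_smul, Matrix.smul_mul]
    exact smul_right_injective _ hc h2
  -- `g^(q) = ν g`
  have hJdet : (ucJ : Matrix (Fin 2) (Fin 2) F).det = 1 := by
    simp [ucJ, Matrix.det_fin_two]
  have hAdet : IsUnit (Gᵀ * ucJ).det := by
    rw [Matrix.det_mul, Matrix.det_transpose, hJdet, mul_one]
    exact isUnit_iff_ne_zero.mpr hD
  have h3 : (Gᵀ * ucJ) * G.map (fun x : F => x ^ q) = (Gᵀ * ucJ) * ((μ / G.det) • G) := by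
    rw [h1, Matrix.mul_smul, asuc22rat_J, smul_smul, div_mul_cancel₀ _ hD]
  have h4 : G.map (fun x : F => x ^ q) = (μ / G.det) • G := by
    have e1 := congrArg (fun X => (Gᵀ * ucJ)⁻¹ * X) h3
    simp only [← Matrix.mul_assoc, Matrix.nonsing_inv_mul _ hAdet, Matrix.one_mul] at e1
    exact e1
  set ν : F := μ / G.det with hν
  have hent : ∀ i j, (G i j) ^ q = ν * G i j := by
    intro i j
    have := congrFun (congrFun h4 i) j
    rw [Matrix.map_apply, Matrix.smul_apply, smul_eq_mul] at this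
    exact this
  -- `ν^q ν = 1`
  obtain ⟨i₀, j₀, h0⟩ : ∃ i j, G i j ≠ 0 := by
    by_contra hcon
    simp only [not_exists, not_not] at hcon
    apply hD
    have : G = 0 := by
      ext i j
      exact hcon i j
    rw [this]
    exact Matrix.det_zero
  have hνν : ν ^ q * ν = 1 := by
    have e1 : G i₀ j₀ = ν ^ q * ν * G i₀ j₀ := by
      calc G i₀ j₀ = ((G i₀ j₀) ^ q) ^ q := (upow_pow hF _).symm
        _ = (ν * G i₀ j₀) ^ q := by rw [hent]
        _ = ν ^ q * (G i₀ j₀) ^ q := mul_pow _ _ _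
        _ = ν ^ q * ν * G i₀ j₀ := by rw [hent]; ring
    have e2 : (ν ^ q * ν - 1) * G i₀ j₀ = 0 := by linear_combination -e1
    rcases mul_eq_zero.mp e2 with e3 | e3
    · exact sub_eq_zero.mp e3
    · exact absurd e3 h0
  obtain ⟨ε, hε, hεν⟩ := asuc22rat_h90 q hF ν hνν
  refine ⟨ε, hε, fun i j => ?_⟩
  rw [mul_pow, hent]
  linear_combination G i j * hεν

end Cfsg.Agent.Lib.Helper19.ASU
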