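import Mathlib

set_option autoImplicit false

namespace Cfsg.Agent.Lib.Helper22

section
variable {G : Type*} [Group G]

theorem conj_pow_iterate (y b : G) (u : ℕ) (hb : b * y * b⁻¹ = y ^ u) (j : ℕ) :
    b ^ j * y * (b ^ j)⁻¹ = y ^ (u ^ j) := by
  induction j with
  | zero => simp
  | succ j ih =>
    have h1 : b ^ (j + 1) * y * (b ^ (j + 1))⁻¹ = b * (b ^ j * y * (b ^ j)⁻¹) * b⁻¹ := by
      rw [pow_succ']; group
    rw [h1, ih, ← conj_pow, hb, ← pow_mul, pow_succ']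

theorem comm_of_conj_pow (p : ℕ) [Fact p.Prime] (y b : G) (n u : ℕ)
    (hy : orderOf y = p ^ n) (hb : b * y * b⁻¹ = y ^ u) (hu : (p : ℤ) ∣ (u : ℤ) - 1)
    (hbo : (orderOf b).Coprime p) : b * y = y * b := by
  have hp : p.Prime := Fact.out
  rcases Nat.eq_zero_or_pos n with rfl | hn
  · rw [pow_zero, orderOf_eq_one_iff] at hy
    rw [hy]; simp
  have h1 : ((p : ℤ) ^ (n - 1 + 1)) ∣ (u : ℤ) ^ p ^ (n - 1) - 1 ^ p ^ (n - 1) :=
    dvd_sub_pow_of_dvd_sub hu (n - 1)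
  rw [Nat.sub_add_cancel hn, one_pow] at h1
  have h2 : u ^ p ^ (n - 1) ≡ 1 [MOD p ^ n] := by
    rw [Nat.modEq_iff_dvd]
    have h3 : ((p ^ n : ℕ) : ℤ) ∣ ((u ^ p ^ (n - 1) : ℕ) : ℤ) - ((1 : ℕ) : ℤ) := by
      push_cast
      exact h1
    have h4 := dvd_neg.2 h3
    simpa using h4
  have h5 : y ^ (u ^ p ^ (n - 1)) = y ^ 1 := by
    rw [pow_eq_pow_iff_modEq, hy]; exact h2
  have h6 := conj_pow_iterate y b u hb (p ^ (n - 1))
  rw [h5, pow_one] at h6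
  have hcop : Nat.Coprime (p ^ (n - 1)) (orderOf b) := (hbo.symm).pow_left (n - 1)
  have hbez : (1 : ℤ) = ((p ^ (n - 1) : ℕ) : ℤ) * Nat.gcdA (p ^ (n - 1)) (orderOf b) +
      (orderOf b : ℤ) * Nat.gcdB (p ^ (n - 1)) (orderOf b) := by
    have := Nat.gcd_eq_gcd_ab (p ^ (n - 1)) (orderOf b)
    rw [hcop.gcd_eq_one] at this
    exact_mod_cast this
  have h7 : b = (b ^ (p ^ (n - 1))) ^ (Nat.gcdA (p ^ (n - 1)) (orderOf b)) := by
    have h8 : b = b ^ (1 : ℤ) := (zpow_one b).symm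
    rw [hbez, zpow_add, zpow_mul, zpow_mul, zpow_natCast, zpow_natCast, pow_orderOf_eq_one,
      one_zpow, mul_one] at h8
    exact h8
  have h9 : Commute (b ^ (p ^ (n - 1))) y := by
    unfold Commute SemiconjBy
    calc b ^ (p ^ (n - 1)) * y = (b ^ (p ^ (n - 1)) * y * (b ^ (p ^ (n - 1)))⁻¹) * b ^ (p ^ (n - 1)) := by group
      _ = y * b ^ (p ^ (n - 1)) := by rw [h6]
  have h10 : Commute b y := by
    rw [h7]; exact h9.zpow_left _
  exact h10.eq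

theorem comm_of_fix_nontrivial (p : ℕ) [Fact p.Prime] (y b x : G) (n : ℕ)
    (hy : orderOf y = p ^ n) (hb : b * y * b⁻¹ ∈ Subgroup.zpowers y)
    (hbo : (orderOf b).Coprime p) (hx : x ∈ Subgroup.zpowers y) (hx1 : x ≠ 1)
    (hbx : b * x = x * b) : b * y = y * b := by
  have hp : p.Prime := Fact.out
  have hyfin : IsOfFinOrder y := by
    rw [← orderOf_pos_iff, hy]; exact pow_pos hp.pos n
  have hb' : b * y * b⁻¹ ∈ Submonoid.powers y := by
    rw [hyfin.mem_powers_iff_mem_zpowers]; exact hb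
  obtain ⟨u, hu⟩ := hb'
  have hu' : b * y * b⁻¹ = y ^ u := hu.symm
  apply comm_of_conj_pow p y b n u hy hu' _ hbo
  obtain ⟨s, rfl⟩ := hx
  have h1 : b * y ^ s * b⁻¹ = (y ^ s) ^ u := by
    rw [← conj_zpow, hu', ← zpow_natCast, ← zpow_natCast, ← zpow_mul, ← zpow_mul, mul_comm]
  have h2 : (y ^ s) ^ u = (y ^ s) ^ 1 := by
    rw [← h1, hbx, pow_one]; group
  rw [pow_eq_pow_iff_modEq] at h2
  have h3 : orderOf (y ^ s) ∣ p ^ n := by
    rw [← hy]; exact orderOf_dvd_of_mem_zpowers ⟨s, rfl⟩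
  obtain ⟨j, -, hj⟩ := (Nat.dvd_prime_pow hp).1 h3
  have hj1 : j ≠ 0 := by
    rintro rfl
    rw [pow_zero, orderOf_eq_one_iff] at hj
    exact hx1 hj
  have h4 : (p : ℤ) ∣ ((orderOf (y ^ s) : ℕ) : ℤ) := by
    rw [hj]; push_cast; exact dvd_pow_self _ hj1
  have h5 := (Nat.modEq_iff_dvd.1 h2.symm)
  exact dvd_trans h4 (by simpa using h5)

theorem comm_of_commutator_mem (p : ℕ) [Fact p.Prime] (y b : G) (n : ℕ)
    (hy : orderOf y = p ^ n) (hb : b * y * b⁻¹ ∈ Subgroup.zpowers y)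
    (hbo : (orderOf b).Coprime p) (Q : Subgroup G) (hyQ : y ∉ Q)
    (hτ : b * y * b⁻¹ * y⁻¹ ∈ Q) : b * y = y * b := by
  have hp : p.Prime := Fact.out
  have hyfin : IsOfFinOrder y := by
    rw [← orderOf_pos_iff, hy]; exact pow_pos hp.pos n
  have hb' : b * y * b⁻¹ ∈ Submonoid.powers y := by
    rw [hyfin.mem_powers_iff_mem_zpowers]; exact hb
  obtain ⟨u, hu⟩ := hb'
  have hu' : b * y * b⁻¹ = y ^ u := hu.symm
  apply comm_of_conj_pow p y b n u hy hu' _ hbo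
  by_contra hnd
  apply hyQ
  have hcop : IsCoprime ((u : ℤ) - 1) ((p : ℤ) ^ n) := by
    apply IsCoprime.pow_right
    rw [isCoprime_comm]
    exact (Prime.coprime_iff_not_dvd (Nat.prime_iff_prime_int.1 hp)).2 hnd
  obtain ⟨s, t, hst⟩ := hcop
  have h1 : y ^ ((u : ℤ) - 1) ∈ Q := by
    rw [zpow_sub, zpow_natCast, zpow_one, ← hu']; exact hτ
  have h2 : y = (y ^ ((u : ℤ) - 1)) ^ s := by
    have h3 : y = y ^ (1 : ℤ) := (zpow_one y).symm
    rw [← hst, zpow_add, mul_comm s, mul_comm t, zpow_mul, zpow_mul] at h3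
    have h4 : y ^ ((p : ℤ) ^ n) = 1 := by
      have : ((p : ℤ) ^ n) = ((p ^ n : ℕ) : ℤ) := by push_cast; rfl
      rw [this, zpow_natCast, ← hy, pow_orderOf_eq_one]
    rw [h4, one_zpow, mul_one] at h3
    exact h3
  rw [h2]
  exact Q.zpow_mem h1 s

end

end Cfsg.Agent.Lib.Helper22
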