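import Mathlib
import Cfsg.Agent.Lib.Helper1.TwoGroupUnique
import Cfsg.Agent.Lib.Helper22.CyclicAut
import Cfsg.Agent.S0025

set_option autoImplicit false

namespace Cfsg.Agent.Lib.Helper22.TiHallE

open Subgroup

universe u

/-- a finite commutative `2`-group with at most one involution is cyclic -/
theorem isCyclic_of_comm_unique_involution {P : Type*} [Group P] [Finite P] (hP : IsPGroup 2 P)
    (hcomm : ∀ a b : P, a * b = b * a)
    (huniq : ∀ x y : P, orderOf x = 2 → orderOf y = 2 → x = y) : IsCyclic P := by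
  have huniq' : ∀ H K : Subgroup P, Nat.card H = 2 → Nat.card K = 2 → H = K := by
    have key : ∀ H : Subgroup P, Nat.card H = 2 → ∃ x : P, orderOf x = 2 ∧
        H = Subgroup.zpowers x := by
      intro H hH
      have : Nontrivial H := by
        rw [← Finite.one_lt_card_iff_nontrivial, hH]; norm_num
      obtain ⟨x, hx⟩ := exists_ne (1 : H)
      have ho : orderOf x ∣ 2 := by
        rw [← hH]; exact orderOf_dvd_natCard x
      have ho2 : orderOf (x : P) = 2 := by
        rw [Subgroup.orderOf_coe]
        rcases (Nat.dvd_prime Nat.prime_two).mp ho with h | h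
        · exact absurd (orderOf_eq_one_iff.mp h) hx
        · exact h
      refine ⟨x, ho2, ?_⟩
      symm
      apply Subgroup.eq_of_le_of_card_ge
      · rw [Subgroup.zpowers_le]; exact x.2
      · rw [hH, Nat.card_zpowers, ho2]
    intro H K hH hK
    obtain ⟨x, hx, rfl⟩ := key H hH
    obtain ⟨y, hy, rfl⟩ := key K hK
    rw [huniq x y hx hy]
  rcases Cfsg.Agent.Lib.Helper1.cyclic_or_quaternion_of_unique hP huniq' with h | ⟨n, ⟨e⟩⟩
  · exact h
  · rcases Nat.eq_zero_or_pos n with rfl | hn
    · rw [pow_zero] at e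
      have := QuaternionGroup.quaternionGroup_one_isCyclic
      exact isCyclic_of_surjective e.symm e.symm.surjective
    · exfalso
      have h1 := hcomm (e.symm (QuaternionGroup.a 1)) (e.symm (QuaternionGroup.xa 0))
      rw [← map_mul, ← map_mul] at h1
      have h2 := e.symm.injective h1
      rw [QuaternionGroup.a_mul_xa, QuaternionGroup.xa_mul_a] at h2
      have h3 : (0 - 1 : ZMod (2 * 2 ^ n)) = 0 + 1 := by
        injection h2
      have h4 : ((2 : ℕ) : ZMod (2 * 2 ^ n)) = 0 := by
        have : (2 : ZMod (2 * 2 ^ n)) = (0 + 1) - (0 - 1) := by ring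
        rw [← h3, sub_self] at this
        exact_mod_cast this
      rw [ZMod.natCast_eq_zero_iff] at h4
      have h5 : 2 * 2 ^ n ≤ 2 := Nat.le_of_dvd (by norm_num) h4
      have h6 : 2 ≤ 2 ^ n := by
        calc 2 = 2 ^ 1 := by norm_num
          _ ≤ 2 ^ n := Nat.pow_le_pow_right (by norm_num) hn
      omega

/-- a group with cyclic odd Sylow subgroups, a unique involution and commutative Sylow
`2`-subgroups is a `Z`-group -/
theorem isZGroup_of_data {X : Type*} [Group X] [Finite X]
    (hcyc : ∀ p : ℕ, p.Prime → p ≠ 2 → ∀ P : Subgroup X, IsPGroup p P → IsCyclic P)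
    (h2 : ∀ x y : X, orderOf x = 2 → orderOf y = 2 → x = y)
    (hab : ∀ P : Sylow 2 X, IsMulCommutative (P : Subgroup X)) : IsZGroup X := by
  constructor
  intro p hp P
  by_cases hp2 : p = 2
  · subst hp2
    apply isCyclic_of_comm_unique_involution P.2
    · intro a b
      exact (hab P).is_comm.comm a b
    · intro x y hx hy
      apply Subtype.ext
      apply h2
      · rw [Subgroup.orderOf_coe]; exact hx
      · rw [Subgroup.orderOf_coe]; exact hy
  · exact hcyc p hp hp2 P P.2

variable {G : Type u} [Group G]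

/-- coprime action on a `Z`-group: the fixed points form a Hall subgroup -/
theorem hall_centralizer [Finite G] (H Q : Subgroup G) [IsZGroup H]
    (hQN : Q ≤ normalizer (H : Set G))
    (hcop : (Nat.card Q).Coprime (Nat.card H)) :
    (Nat.card (H ⊓ centralizer (Q : Set G) : Subgroup G)).Coprime
      ((H ⊓ centralizer (Q : Set G)).relIndex H) := by
  set C : Subgroup G := H ⊓ centralizer (Q : Set G) with hC
  apply Nat.coprime_of_dvd
  intro p hp hpC hpidx
  have hpf : Fact p.Prime := ⟨hp⟩
  obtain ⟨x', hx'⟩ := exists_prime_orderOf_dvd_card' (G := C) p hpC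
  set x : G := (x' : G) with hx
  have hxo : orderOf x = p := by rw [hx, Subgroup.orderOf_coe, hx']
  have hxC : x ∈ C := x'.2
  have hx1 : x ≠ 1 := by
    intro e
    rw [e, orderOf_one] at hxo
    exact hp.one_lt.ne hxo
  have hxQ : ∀ b ∈ Q, b * x = x * b := by
    intro b hb
    exact (Subgroup.mem_centralizer_iff.mp hxC.2 b hb)
  have hU : IsPGroup p (zpowers x) :=
    IsPGroup.of_card (n := 1) (by rw [Nat.card_zpowers, hxo, pow_one])
  have hUH : zpowers x ≤ H := (Subgroup.zpowers_le).mpr hxC.1
  have hUA : Q ≤ normalizer ((zpowers x : Subgroup G) : Set G) := by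
    intro b hb
    apply Subgroup.mem_normalizer_fintype
    intro y hy
    have hy' : y ∈ zpowers x := hy
    obtain ⟨k, rfl⟩ := hy'
    have : b * x ^ k * b⁻¹ = x ^ k := by
      rw [← conj_zpow, hxQ b hb, mul_inv_cancel_right]
    rw [this]
    exact Subgroup.zpow_mem_zpowers x k
  obtain ⟨P, hUP, hPQ⟩ := Cfsg.Agent.S0025.result Q H hQN hcop (Or.inr inferInstance) p
    (zpowers x) hUH hU hUA
  set P₁ : Subgroup G := (P : Subgroup H).map H.subtype with hP₁
  obtain ⟨y', hy'⟩ := IsCyclic.exists_generator (α := P)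
  set y : G := ((y' : H) : G) with hy
  have hyo : orderOf y = p ^ (Nat.card H).factorization p := by
    rw [hy, Subgroup.orderOf_coe, Subgroup.orderOf_coe, orderOf_eq_card_of_forall_mem_zpowers hy']
    exact P.card_eq_multiplicity
  have hP₁y : P₁ = zpowers y := by
    apply le_antisymm
    · rintro _ ⟨z, hz, rfl⟩
      obtain ⟨k, hk⟩ := hy' ⟨z, hz⟩
      refine ⟨k, ?_⟩
      have := congrArg (fun w : P => ((w : H) : G)) hk
      simpa using this
    · rw [Subgroup.zpowers_le]
      exact ⟨(y' : H), y'.2, rfl⟩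
  have hycent : y ∈ centralizer (Q : Set G) := by
    rw [Subgroup.mem_centralizer_iff]
    intro b hb
    have hb1 : b * y * b⁻¹ ∈ zpowers y := by
      rw [← hP₁y]
      exact (Subgroup.mem_normalizer_iff.mp (hPQ hb) y).mp (by rw [hP₁y]; exact Subgroup.mem_zpowers y)
    have hbo : (orderOf b).Coprime p := by
      have h1 : (orderOf b).Coprime (Nat.card H) :=
        Nat.Coprime.coprime_dvd_left (Subgroup.orderOf_dvd_natCard Q hb) hcop
      exact Nat.Coprime.coprime_dvd_right
        (dvd_trans hpC (Subgroup.card_dvd_of_le (inf_le_left : C ≤ H))) h1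
    have hxy : x ∈ zpowers y := by
      rw [← hP₁y]
      exact hUP (Subgroup.mem_zpowers x)
    exact comm_of_fix_nontrivial p y b x _ hyo hb1 hbo hxy hx1 (hxQ b hb)
  have hP₁C : P₁ ≤ C := by
    rw [hP₁y, Subgroup.zpowers_le]
    exact ⟨(y' : H).2, hycent⟩
  have hidx : ¬ p ∣ P₁.relIndex H := by
    have h1 : P₁.relIndex H = (P : Subgroup H).index := by
      rw [Subgroup.relIndex, hP₁]
      congr 1
      exact Subgroup.comap_map_eq_self_of_injective H.subtype_injective _
    rw [h1]
    exact P.not_dvd_index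
  exact hidx (dvd_trans hpidx (Subgroup.relIndex_dvd_of_le_left H hP₁C))

end Cfsg.Agent.Lib.Helper22.TiHallE
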