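import Mathlib
import Cfsg.Prelude.Def_Involutions
import Cfsg.Prelude.Def_LieExceptional
import Cfsg.Agent.Lib.helper6.AbCent.Defs
import Cfsg.Agent.Lib.helper2.AbCentB
import Cfsg.Agent.Lib.helper2.AbCentK

/-!
# AbCent, piece Q : subgroups and odd quotients (project S2202 of helper6)
-/

set_option autoImplicit false

namespace Cfsg.Agent.Lib.Helper22.AbCent
open Cfsg.Agent.Lib.helper6.AbCent
open Cfsg.Agent.Lib.helper2.AbCent

universe u
variable {G : Type u} [Group G] [Finite G]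

/-- in a 2-group every element has order a power of two -/
theorem q_orderOf_of_mem_sylow (P : Sylow 2 G) {x : G} (hx : x ∈ P) : ∃ n : ℕ, orderOf x = 2 ^ n := by
  obtain ⟨k, hk⟩ := P.2 ⟨x, hx⟩
  have hk' : x ^ 2 ^ k = 1 := by
    have := congrArg Subtype.val hk
    simpa using this
  obtain ⟨n, _, hn⟩ := (Nat.dvd_prime_pow Nat.prime_two).1 (orderOf_dvd_of_pow_eq_one hk')
  exact ⟨n, hn⟩

/-- `Setup` for a subgroup with a Sylow 2-subgroup that is neither cyclic nor normal -/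
theorem Setup.of_subgroup (h : AC G) (H : Subgroup G) (T : Sylow 2 ↥H)
    (hnc : ¬ IsCyclic ↥(T : Subgroup ↥H)) (hnn : ¬ (T : Subgroup ↥H).Normal) : Setup ↥H := by
  haveI : Fact (Nat.Prime 2) := ⟨Nat.prime_two⟩
  refine ⟨AC.subgroup h H, ?_, ?_⟩
  · intro T' hcyc
    obtain ⟨g, rfl⟩ := MulAction.exists_smul_eq ↥H T T'
    apply hnc
    have e : ↥(T : Subgroup ↥H) ≃* ↥((g • T : Sylow 2 ↥H) : Subgroup ↥H) := Sylow.equivSMul T g
    exact isCyclic_of_injective e.toMonoidHom e.injective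
  · intro T' hn
    obtain ⟨g, rfl⟩ := MulAction.exists_smul_eq ↥H T T'
    apply hnn
    haveI : ((g • T : Sylow 2 ↥H) : Subgroup ↥H).Normal := hn
    have h1 : g⁻¹ • (g • T) = g • T := Sylow.smul_eq_of_normal
    rw [inv_smul_smul] at h1
    rw [h1]
    exact hn

/-- `Setup` for a subgroup containing a Sylow 2-subgroup of `G` but not contained in its normalizer -/
theorem Setup.of_le (hS : Setup G) (P : Sylow 2 G) (H : Subgroup G) (hPH : (P : Subgroup G) ≤ H)
    (hH : ¬ H ≤ NN P) : Setup ↥H := by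
  refine Setup.of_subgroup hS.ac H (P.subtype hPH) ?_ ?_
  · intro hcyc
    apply hS.nc P
    rw [Sylow.coe_subtype] at hcyc
    have e : ↥((P : Subgroup G).subgroupOf H) ≃* ↥(P : Subgroup G) := Subgroup.subgroupOfEquivOfLe hPH
    exact isCyclic_of_injective e.symm.toMonoidHom e.symm.injective
  · intro hn
    apply hH
    rw [Sylow.coe_subtype] at hn
    exact (Subgroup.normal_subgroupOf_iff_le_normalizer hPH).1 hn

/-- an involution of `G ⧸ N` (`N` of odd order) lifts to an involution of `G` -/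
theorem q_lift_invol (N : Subgroup G) [N.Normal] (hodd : Odd (Nat.card N)) (tb : G ⧸ N)
    (htb : orderOf tb = 2) : ∃ t : G, orderOf t = 2 ∧ (t : G ⧸ N) = tb := by
  obtain ⟨g, rfl⟩ := QuotientGroup.mk_surjective tb
  have hg0 : orderOf g ≠ 0 := (orderOf_pos g).ne'
  obtain ⟨a, m, hm, ham⟩ := Nat.exists_eq_two_pow_mul_odd hg0
  have hsq : ((g : G ⧸ N)) ^ 2 = 1 := by rw [← htb]; exact pow_orderOf_eq_one _
  have hne : (g : G ⧸ N) ≠ 1 := by
    intro h1
    rw [h1, orderOf_one] at htb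
    omega
  obtain ⟨j, hj⟩ := hm
  have himg : ((g ^ m : G) : G ⧸ N) = (g : G ⧸ N) := by
    rw [QuotientGroup.mk_pow, hj, pow_succ, pow_mul, hsq, one_pow, one_mul]
  have hpow : (g ^ m) ^ 2 ^ a = 1 := by
    rw [← pow_mul, mul_comm, ← ham]; exact pow_orderOf_eq_one g
  have hsqN : (g ^ m) ^ 2 ∈ N := by
    rw [← QuotientGroup.eq_one_iff, QuotientGroup.mk_pow, himg, hsq]
  have hsq1 : (g ^ m) ^ 2 = 1 := by
    have h1 : orderOf ((g ^ m) ^ 2) ∣ 2 ^ a := by
      apply orderOf_dvd_of_pow_eq_one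
      rw [← pow_mul, mul_comm, pow_mul, hpow, one_pow]
    have h2 : orderOf ((g ^ m) ^ 2) ∣ Nat.card N := by
      have := orderOf_dvd_natCard (⟨(g ^ m) ^ 2, hsqN⟩ : N)
      rwa [Subgroup.orderOf_mk] at this
    have h3 : orderOf ((g ^ m) ^ 2) ∣ Nat.gcd (2 ^ a) (Nat.card N) := Nat.dvd_gcd h1 h2
    have h4 : Nat.gcd (2 ^ a) (Nat.card N) = 1 :=
      Nat.Coprime.pow_left a (Nat.coprime_two_left.mpr hodd)
    rw [h4, Nat.dvd_one, orderOf_eq_one_iff] at h3
    exact h3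
  refine ⟨g ^ m, ?_, himg⟩
  apply orderOf_eq_prime hsq1
  intro h1
  apply hne
  rw [← himg, h1]
  rfl

/-- an involution acting on a coset of an odd-order normal subgroup has a fixed point: algebraic form -/
theorem q_fixed_in_coset (N : Subgroup G) [N.Normal] (hodd : Odd (Nat.card N)) {t x : G}
    (ht : orderOf t = 2) (hc : (x : G ⧸ N) * (t : G ⧸ N) = (t : G ⧸ N) * (x : G ⧸ N)) :
    ∃ x' : G, x' * t = t * x' ∧ (x' : G ⧸ N) = (x : G ⧸ N) := by
  obtain ⟨k, hk⟩ := hodd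
  have ht2 : t * t = 1 := by
    have := pow_orderOf_eq_one t
    rwa [ht, pow_two] at this
  have htinv : t⁻¹ = t := inv_eq_of_mul_eq_one_right ht2
  set n : G := x⁻¹ * (t * x * t⁻¹) with hn
  have hnN : n ∈ N := by
    rw [hn, ← QuotientGroup.eq_one_iff]
    have : ((x⁻¹ * (t * x * t⁻¹) : G) : G ⧸ N) = (x : G ⧸ N)⁻¹ * ((t : G ⧸ N) * (x : G ⧸ N) * (t : G ⧸ N)⁻¹) := by
      simp
    rw [this, ← hc]
    group
  have hcard : n ^ (2 * k + 1) = 1 := by
    have := pow_card_eq_one' (G := N) (x := ⟨n, hnN⟩)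
    rw [hk] at this
    have := congrArg Subtype.val this
    simpa using this
  have htn : t * n * t⁻¹ = n⁻¹ := by
    rw [hn, htinv]
    have : t * (x⁻¹ * (t * x * t)) * t = (t * x⁻¹ * t) * x * (t * t) := by group
    rw [this, ht2, mul_one]
    have h2 : (x⁻¹ * (t * x * t))⁻¹ = t⁻¹ * x⁻¹ * t⁻¹ * x := by group
    rw [h2, htinv]
  have htx : t * x * t⁻¹ = x * n := by rw [hn]; group
  refine ⟨x * n ^ (k + 1), ?_, ?_⟩
  · have h1 : t * (x * n ^ (k + 1)) * t⁻¹ = x * n ^ (k + 1) := by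
      have : t * (x * n ^ (k + 1)) * t⁻¹ = (t * x * t⁻¹) * (t * n * t⁻¹) ^ (k + 1) := by
        rw [conj_pow]; group
      rw [this, htx, htn, mul_assoc]
      congr 1
      -- n * (n⁻¹)^(k+1) = n^(k+1)
      have h3 : n ^ (k + 1) * (n ^ (k + 1) * n⁻¹) = 1 := by
        have : n ^ (k + 1) * (n ^ (k + 1) * n⁻¹) = n ^ (2 * k + 1) := by
          rw [← mul_assoc, ← pow_add]
          have : k + 1 + (k + 1) = (2 * k + 1) + 1 := by ring
          rw [this, pow_succ (n) (2 * k + 1), mul_assoc, mul_inv_cancel, mul_one]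
        rw [this, hcard]
      rw [inv_pow]
      have h4 : (n ^ (k + 1))⁻¹ = n ^ (k + 1) * n⁻¹ := inv_eq_of_mul_eq_one_right h3
      rw [h4, ← mul_assoc, ← pow_succ', pow_succ, mul_assoc, mul_inv_cancel, mul_one]
    calc x * n ^ (k + 1) * t = (t * (x * n ^ (k + 1)) * t⁻¹) * t := by rw [h1]
      _ = t * (x * n ^ (k + 1)) := by group
  · rw [QuotientGroup.mk_mul]
    have : ((n ^ (k + 1) : G) : G ⧸ N) = 1 := (QuotientGroup.eq_one_iff _).2 (N.pow_mem hnN _)
    rw [this, mul_one]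

theorem AC.quotient (hS : Setup G) (N : Subgroup G) [N.Normal] (hodd : Odd (Nat.card N)) :
    AC (G ⧸ N) := by
  intro tb htb xb yb hx hy
  obtain ⟨t, ht, rfl⟩ := q_lift_invol N hodd tb htb
  obtain ⟨x, rfl⟩ := QuotientGroup.mk_surjective xb
  obtain ⟨y, rfl⟩ := QuotientGroup.mk_surjective yb
  obtain ⟨x', hx', hxe⟩ := q_fixed_in_coset N hodd ht hx
  obtain ⟨y', hy', hye⟩ := q_fixed_in_coset N hodd ht hy
  rw [← hxe, ← hye, ← QuotientGroup.mk_mul, ← QuotientGroup.mk_mul, hS.ac t ht x' y' hx' hy']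

/-- an element of a Sylow 2-subgroup in an odd-order subgroup is trivial -/
theorem q_mem_odd_eq_one (P : Sylow 2 G) (N : Subgroup G) (hodd : Odd (Nat.card N)) {x : G}
    (hxP : x ∈ P) (hxN : x ∈ N) : x = 1 := by
  obtain ⟨n, hn⟩ := q_orderOf_of_mem_sylow P hxP
  have h2 : orderOf x ∣ Nat.card N := by
    have := orderOf_dvd_natCard (⟨x, hxN⟩ : N)
    rwa [Subgroup.orderOf_mk] at this
  have h3 : orderOf x ∣ Nat.gcd (2 ^ n) (Nat.card N) := Nat.dvd_gcd (hn ▸ dvd_refl _) h2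
  have h4 : Nat.gcd (2 ^ n) (Nat.card N) = 1 :=
    Nat.Coprime.pow_left n (Nat.coprime_two_left.mpr hodd)
  rw [h4, Nat.dvd_one, orderOf_eq_one_iff] at h3
  exact h3

theorem Setup.quotient (hS : Setup G) (N : Subgroup G) [N.Normal] (hodd : Odd (Nat.card N)) :
    Setup (G ⧸ N) := by
  haveI : Fact (Nat.Prime 2) := ⟨Nat.prime_two⟩
  have hf : Function.Surjective (QuotientGroup.mk' N) := QuotientGroup.mk'_surjective N
  refine ⟨AC.quotient hS N hodd, ?_, ?_⟩
  · intro T hcyc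
    obtain ⟨P, rfl⟩ := Sylow.mapSurjective_surjective hf 2 T
    apply hS.nc P
    rw [Sylow.coe_mapSurjective] at hcyc
    refine isCyclic_of_injective ((QuotientGroup.mk' N).subgroupMap (P : Subgroup G)) ?_
    rw [injective_iff_map_eq_one]
    rintro ⟨x, hx⟩ h1
    have h2 := congrArg Subtype.val h1
    have hxN : x ∈ N := by
      rw [← QuotientGroup.eq_one_iff]
      exact h2
    exact Subtype.ext (q_mem_odd_eq_one P N hodd hx hxN)
  · intro T hn
    obtain ⟨P, rfl⟩ := Sylow.mapSurjective_surjective hf 2 T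
    apply hS.nn P
    rw [Sylow.coe_mapSurjective] at hn
    have hNK : N ≤ KK P := by
      apply odd_le_CC hS P N hodd
      intro x _
      rw [Subgroup.normalizer_eq_top]
      exact Subgroup.mem_top x
    have hKC : KK P ≤ CC P := fun k hk => ((mem_KK hS P).1 hk).1
    have hCN : CC P ≤ NN P := Subgroup.centralizer_le_normalizer _
    refine ⟨fun x hx g => ?_⟩
    obtain ⟨n, hn2⟩ := q_orderOf_of_mem_sylow P hx
    have hy : ∃ n : ℕ, orderOf (g * x * g⁻¹) = 2 ^ n := ⟨n, by rw [← hn2, ← (MulAut.conj g).orderOf_eq x, MulAut.conj_apply]⟩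
    apply mem_sylow_of_normalizes P hy
    have h1 : (QuotientGroup.mk' N) (g * x * g⁻¹) ∈ (P : Subgroup G).map (QuotientGroup.mk' N) := by
      rw [map_mul, map_mul, map_inv]
      exact hn.conj_mem _ (Subgroup.mem_map_of_mem _ hx) _
    obtain ⟨p, hp, hpe⟩ := h1
    have h2 : p⁻¹ * (g * x * g⁻¹) ∈ N := by
      rw [← QuotientGroup.eq_one_iff, QuotientGroup.mk_mul, QuotientGroup.mk_inv]
      have : ((p : G) : G ⧸ N) = ((g * x * g⁻¹ : G) : G ⧸ N) := hpe
      rw [this, inv_mul_cancel]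
    have h3 : g * x * g⁻¹ = p * (p⁻¹ * (g * x * g⁻¹)) := by group
    rw [h3]
    exact (NN P).mul_mem (Subgroup.le_normalizer hp) (hCN (hKC (hNK h2)))

/-- if `G/N` is clean (`N` odd normal) then `K(P) ≤ N` -/
theorem KK_le_of_clean_quotient (hS : Setup G) (N : Subgroup G) [N.Normal] (hodd : Odd (Nat.card N))
    (hcl : Clean (G ⧸ N)) (P : Sylow 2 G) : KK P ≤ N := by
  intro k hk
  obtain ⟨hkC, hkodd⟩ := (mem_KK hS P).1 hk
  have h3 := three_le_nI hS P
  have hne : Nonempty {t : G // t ∈ (P : Subgroup G) ∧ orderOf t = 2} := by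
    by_contra hcon
    rw [not_nonempty_iff] at hcon
    have : nI (P : Subgroup G) = 0 := by
      unfold nI
      exact Nat.card_of_isEmpty
    omega
  obtain ⟨t, htP, ht⟩ := hne
  have htk : k * t = t * k := (Subgroup.mem_centralizer_iff.1 hkC t htP).symm
  have ht2 : t ^ 2 = 1 := by rw [← ht]; exact pow_orderOf_eq_one t
  have htN : t ∉ N := by
    intro htN
    have := q_mem_odd_eq_one P N hodd htP htN
    rw [this, orderOf_one] at ht
    omega
  have htb : orderOf (t : G ⧸ N) = 2 := by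
    apply orderOf_eq_prime
    · rw [← QuotientGroup.mk_pow, ht2]; rfl
    · intro h1
      exact htN ((QuotientGroup.eq_one_iff t).1 h1)
  have hcomm : (k : G ⧸ N) * (t : G ⧸ N) = (t : G ⧸ N) * (k : G ⧸ N) := by
    rw [← QuotientGroup.mk_mul, ← QuotientGroup.mk_mul, htk]
  obtain ⟨n, hn⟩ := hcl (t : G ⧸ N) (k : G ⧸ N) htb hcomm
  have hdvd : orderOf (k : G ⧸ N) ∣ orderOf k := orderOf_map_dvd (QuotientGroup.mk' N) k
  have hodd2 : Odd (orderOf (k : G ⧸ N)) := Odd.of_dvd_nat hkodd hdvd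
  rw [hn] at hodd2
  have hn0 : n = 0 := by
    by_contra h0
    have : Even (2 ^ n) := (Nat.even_pow' h0).2 even_two
    exact (Nat.not_even_iff_odd.2 hodd2) this
  rw [hn0, pow_zero, orderOf_eq_one_iff] at hn
  exact (QuotientGroup.eq_one_iff k).1 hn

end Cfsg.Agent.Lib.Helper22.AbCent
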