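import Mathlib
import Cfsg.Prelude.Def_Involutions
import Cfsg.Prelude.Def_LieExceptional
import Cfsg.Agent.Lib.helper6.AbCent.Defs
import Cfsg.Agent.Lib.helper2.AbCentB
import Cfsg.Agent.Lib.helper2.AbCentK
import Cfsg.Agent.Lib.helper17.AbCentC
import Cfsg.Agent.Lib.helper6.AbCent.U
import Cfsg.Agent.Lib.Helper22.AbCentQ

/-!
# AbCent, piece G : consequences of `Concl` (project S2202 of helper6)
-/

set_option autoImplicit false

namespace Cfsg.Agent.Lib.Helper22.AbCent
open Cfsg.Agent.Lib.helper6.AbCent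
open Cfsg.Agent.Lib.helper2.AbCent Cfsg.Agent.Lib.helper17.AbCent Cfsg.Agent.Lib.helper6.AbCent.U

universe u
variable {G : Type u} [Group G] [Finite G]

/-- in a 2-group every element has order a power of two -/
theorem g_orderOf_of_mem_sylow (P : Sylow 2 G) {x : G} (hx : x ∈ P) : ∃ n : ℕ, orderOf x = 2 ^ n := by
  obtain ⟨k, hk⟩ := P.2 ⟨x, hx⟩
  have hk' : x ^ 2 ^ k = 1 := by
    have := congrArg Subtype.val hk
    simpa using this
  obtain ⟨n, _, hn⟩ := (Nat.dvd_prime_pow Nat.prime_two).1 (orderOf_dvd_of_pow_eq_one hk')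
  exact ⟨n, hn⟩

/-- the data of `Concl`: elements of 2-power order lie in `L` -/
theorem g_two_elt_mem {L K : Subgroup G} (hK : K ≤ Subgroup.center G) (hodd : Odd (Nat.card K))
    (hsup : L ⊔ K = ⊤) [hLn : L.Normal] {g : G} {n : ℕ} (hg : orderOf g = 2 ^ n) : g ∈ L := by
  have hgm : g ∈ L ⊔ K := by rw [hsup]; exact Subgroup.mem_top g
  have hgm' : g ∈ ((L ⊔ K : Subgroup G) : Set G) := hgm
  rw [Subgroup.normal_mul] at hgm'
  obtain ⟨l, hl, k, hk, rfl⟩ := Set.mem_mul.1 hgm'
  have hcomm : Commute l k := ((Subgroup.mem_center_iff.1 (hK hk)) l)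
  have hkpow : k ^ Nat.card K = 1 := by
    have h1 := pow_card_eq_one' (G := K) (x := ⟨k, hk⟩)
    have h2 := congrArg Subtype.val h1
    rw [Subgroup.coe_pow, Subgroup.coe_one] at h2
    exact h2
  have hpowL : (l * k) ^ Nat.card K ∈ L := by
    rw [hcomm.mul_pow, hkpow, mul_one]
    exact L.pow_mem hl _
  have hcop : Nat.Coprime (orderOf (l * k)) (Nat.card K) := by
    rw [hg]
    exact Nat.Coprime.pow_left n (Nat.coprime_two_left.mpr hodd)
  have hz : l * k ∈ Subgroup.zpowers ((l * k) ^ Nat.card K) := by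
    have := (Nat.Coprime.orderOf_pow (y := l * k) hcop)
    have h2 : Subgroup.zpowers ((l * k) ^ Nat.card K) = Subgroup.zpowers (l * k) := by
      apply Subgroup.eq_of_le_of_card_ge
      · exact Subgroup.zpowers_le.2 (Subgroup.pow_mem _ (Subgroup.mem_zpowers _) _)
      · rw [Nat.card_zpowers, Nat.card_zpowers, this]
    rw [h2]
    exact Subgroup.mem_zpowers _
  exact (Subgroup.zpowers_le.2 hpowL) hz

theorem g_sylow_le {L K : Subgroup G} (hK : K ≤ Subgroup.center G) (hodd : Odd (Nat.card K))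
    (hsup : L ⊔ K = ⊤) [hLn : L.Normal] (P : Sylow 2 G) : (P : Subgroup G) ≤ L := by
  intro x hx
  obtain ⟨n, hn⟩ := g_orderOf_of_mem_sylow P hx
  exact g_two_elt_mem hK hodd hsup hn

/-- number of involutions of `H.subgroupOf L` -/
theorem g_nI_subgroupOf {H L : Subgroup G} (hHL : H ≤ L) : nI (H.subgroupOf L) = nI H := by
  unfold nI
  apply Nat.card_congr
  refine ⟨fun t => ⟨t.1.1, Subgroup.mem_subgroupOf.1 t.2.1, by rw [Subgroup.orderOf_coe]; exact t.2.2⟩,
    fun t => ⟨⟨t.1, hHL t.2.1⟩, Subgroup.mem_subgroupOf.2 t.2.1, by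
      rw [← Subgroup.orderOf_coe]; exact t.2.2⟩, ?_, ?_⟩
  · intro t; rfl
  · intro t; rfl

theorem g_setup_L (hS : Setup G) {L K : Subgroup G} (hK : K ≤ Subgroup.center G)
    (hodd : Odd (Nat.card K)) (hsup : L ⊔ K = ⊤) [hLn : L.Normal] : Setup ↥L := by
  haveI : Fact (Nat.Prime 2) := ⟨Nat.prime_two⟩
  obtain ⟨P⟩ : Nonempty (Sylow 2 G) := inferInstance
  have hPL := g_sylow_le hK hodd hsup P
  apply Setup.of_le hS P L hPL
  intro hLN
  apply hS.nn P
  have h1 : NN P = ⊤ := by
    rw [eq_top_iff, ← hsup]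
    apply sup_le hLN
    exact hK.trans (Subgroup.center_le_normalizer _)
  exact Subgroup.normalizer_eq_top_iff.1 h1

theorem g_card_subtype (P : Sylow 2 G) {L : Subgroup G} (hPL : (P : Subgroup G) ≤ L) :
    Nat.card ↥((P.subtype hPL : Sylow 2 ↥L) : Subgroup ↥L) = Nat.card ↥(P : Subgroup G) := by
  rw [Sylow.coe_subtype]
  exact Nat.card_congr (Subgroup.subgroupOfEquivOfLe hPL).toEquiv

theorem g_nI_subtype (P : Sylow 2 G) {L : Subgroup G} (hPL : (P : Subgroup G) ≤ L) :
    nI ((P.subtype hPL : Sylow 2 ↥L) : Subgroup ↥L) = nI (P : Subgroup G) := by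
  rw [Sylow.coe_subtype]
  exact g_nI_subgroupOf hPL

theorem concl_clean_of_gen (hS : Setup G) (hC : Concl G) (P : Sylow 2 G)
    (hgen : Subgroup.normalClosure ((P : Subgroup G) : Set G) = ⊤) : Clean G := by
  obtain ⟨L, K, hLn, hK, hodd, hinf, hsup, hcl⟩ := hC
  haveI := hLn
  have hPL := g_sylow_le hK hodd hsup P
  have hL : L = ⊤ := by
    rw [eq_top_iff, ← hgen]
    exact Subgroup.normalClosure_le_normal hPL
  intro t x ht hx
  have htL : t ∈ L := by rw [hL]; trivial
  have hxL : x ∈ L := by rw [hL]; trivial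
  obtain ⟨n, hn⟩ := hcl ⟨t, htL⟩ ⟨x, hxL⟩ (by rw [Subgroup.orderOf_mk]; exact ht) (Subtype.ext hx)
  exact ⟨n, by rw [← hn, Subgroup.orderOf_mk]⟩

theorem concl_trans (hS : Setup G) (hC : Concl G) (P Q R : Sylow 2 G) (hQ : Q ≠ P) (hR : R ≠ P) :
    ∃ x ∈ P, x • Q = R := by
  obtain ⟨L, K, hLn, hK, hodd, hinf, hsup, hcl⟩ := hC
  haveI := hLn
  have hPL := g_sylow_le hK hodd hsup P
  have hQL := g_sylow_le hK hodd hsup Q
  have hRL := g_sylow_le hK hodd hsup R
  have hSL : Setup ↥L := g_setup_L hS hK hodd hsup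
  obtain ⟨x, hx, hxe⟩ := clean_trans hSL hcl (P.subtype hPL) (Q.subtype hQL) (R.subtype hRL)
    (fun h => hQ (Sylow.subtype_injective h)) (fun h => hR (Sylow.subtype_injective h))
  refine ⟨x.1, ?_, ?_⟩
  · have h1 : x ∈ ((P.subtype hPL : Sylow 2 ↥L) : Subgroup ↥L) := hx
    rw [Sylow.coe_subtype, Subgroup.mem_subgroupOf] at h1
    exact h1
  · rw [Sylow.smul_subtype hQL x] at hxe
    exact Sylow.subtype_injective hxe

/-- under `Concl`, `K(P)` is the central factor -/
theorem g_KK_eq (hS : Setup G) {L K : Subgroup G} (hK : K ≤ Subgroup.center G)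
    (hodd : Odd (Nat.card K)) (hsup : L ⊔ K = ⊤) [hLn : L.Normal] (hcl : Clean ↥L)
    (P : Sylow 2 G) : KK P = K := by
  have hPL := g_sylow_le hK hodd hsup P
  apply le_antisymm
  · intro k hk
    obtain ⟨hkC, hkodd⟩ := (mem_KK hS P).1 hk
    have hkm : k ∈ ((L ⊔ K : Subgroup G) : Set G) := by rw [hsup]; trivial
    rw [Subgroup.normal_mul] at hkm
    obtain ⟨l, hl, z, hz, rfl⟩ := Set.mem_mul.1 hkm
    have hzc : ∀ g : G, g * z = z * g := fun g => Subgroup.mem_center_iff.1 (hK hz) g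
    have hcomm : Commute l z := hzc l
    -- l has odd order
    have hzpow : z ^ Nat.card K = 1 := by
      have h1 := pow_card_eq_one' (G := K) (x := ⟨z, hz⟩)
      have h2 := congrArg Subtype.val h1
      rw [Subgroup.coe_pow, Subgroup.coe_one] at h2
      exact h2
    have hlpow : l ^ (orderOf (l * z) * Nat.card K) = 1 := by
      have h1 : (l * z) ^ (orderOf (l * z) * Nat.card K) = 1 := by
        rw [pow_mul, pow_orderOf_eq_one, one_pow]
      rw [hcomm.mul_pow] at h1
      have h2 : z ^ (orderOf (l * z) * Nat.card K) = 1 := by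
        rw [mul_comm, pow_mul, hzpow, one_pow]
      rwa [h2, mul_one] at h1
    have hlodd : Odd (orderOf l) :=
      Odd.of_dvd_nat (hkodd.mul hodd) (orderOf_dvd_of_pow_eq_one hlpow)
    -- an involution of P
    have h3 := three_le_nI hS P
    have hne : Nonempty {t : G // t ∈ (P : Subgroup G) ∧ orderOf t = 2} := by
      by_contra hcon
      rw [not_nonempty_iff] at hcon
      have : nI (P : Subgroup G) = 0 := by
        unfold nI
        exact Nat.card_of_isEmpty
      omega
    obtain ⟨t, htP, ht⟩ := hne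
    have h4 : t * (l * z) = (l * z) * t := Subgroup.mem_centralizer_iff.1 hkC t htP
    have hlt : l * t = t * l := by
      have h5 : t * l * z = l * t * z := by
        calc t * l * z = t * (l * z) := by group
          _ = l * z * t := h4
          _ = l * (z * t) := by group
          _ = l * (t * z) := by rw [← hzc t]
          _ = l * t * z := by group
      exact (mul_right_cancel h5).symm
    obtain ⟨n, hn⟩ := hcl ⟨t, hPL htP⟩ ⟨l, hl⟩ (by rw [Subgroup.orderOf_mk]; exact ht)
      (Subtype.ext hlt)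
    rw [Subgroup.orderOf_mk] at hn
    have hn0 : n = 0 := by
      by_contra h0
      have : Even (2 ^ n) := (Nat.even_pow' h0).2 even_two
      rw [hn] at hlodd
      exact (Nat.not_even_iff_odd.2 hlodd) this
    rw [hn0, pow_zero, orderOf_eq_one_iff] at hn
    rw [hn, one_mul]
    exact hz
  · intro z hz
    rw [mem_KK hS P]
    refine ⟨?_, ?_⟩
    · rw [Subgroup.mem_centralizer_iff]
      intro p _
      exact Subgroup.mem_center_iff.1 (hK hz) p
    · have h1 : orderOf z ∣ Nat.card K := by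
        have := orderOf_dvd_natCard (⟨z, hz⟩ : K)
        rwa [Subgroup.orderOf_mk] at this
      exact Odd.of_dvd_nat hodd h1

theorem concl_KK_central (hS : Setup G) (hC : Concl G) (P : Sylow 2 G) :
    KK P ≤ Subgroup.center G := by
  obtain ⟨L, K, hLn, hK, hodd, hinf, hsup, hcl⟩ := hC
  haveI := hLn
  rw [g_KK_eq hS hK hodd hsup hcl P]
  exact hK

theorem concl_card (hS : Setup G) (hC : Concl G) (P : Sylow 2 G) :
    Nat.card G = (Nat.card ↥(P : Subgroup G) + 1) * Nat.card ↥(P : Subgroup G) * nI (P : Subgroup G) *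
      Nat.card ↥(KK P) := by
  obtain ⟨L, K, hLn, hK, hodd, hinf, hsup, hcl⟩ := hC
  haveI := hLn
  have hPL := g_sylow_le hK hodd hsup P
  have hSL : Setup ↥L := g_setup_L hS hK hodd hsup
  have h1 := clean_card hSL hcl (P.subtype hPL)
  rw [g_card_subtype P hPL, g_nI_subtype P hPL] at h1
  rw [g_KK_eq hS hK hodd hsup hcl P, ← h1]
  have hcompl : Subgroup.IsComplement' L K :=
    Subgroup.isComplement'_of_disjoint_and_mul_eq_univ (disjoint_iff.2 hinf)
      (by rw [← Subgroup.normal_mul, hsup]; rfl)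
  exact hcompl.card_mul_card.symm

theorem concl_card_invol (hS : Setup G) (hC : Concl G) (P : Sylow 2 G) :
    Nat.card {t : G // orderOf t = 2} = (Nat.card ↥(P : Subgroup G) + 1) * nI (P : Subgroup G) := by
  obtain ⟨L, K, hLn, hK, hodd, hinf, hsup, hcl⟩ := hC
  haveI := hLn
  have hPL := g_sylow_le hK hodd hsup P
  have hSL : Setup ↥L := g_setup_L hS hK hodd hsup
  have h1 := clean_card_invol hSL hcl (P.subtype hPL)
  rw [g_card_subtype P hPL, g_nI_subtype P hPL] at h1
  rw [← h1]
  apply Nat.card_congr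
  refine ⟨fun t => ⟨⟨t.1, g_two_elt_mem hK hodd hsup (n := 1) (by rw [t.2, pow_one])⟩, by
      rw [Subgroup.orderOf_mk]; exact t.2⟩,
    fun t => ⟨t.1.1, by rw [Subgroup.orderOf_coe]; exact t.2⟩, ?_, ?_⟩
  · intro t; rfl
  · intro t; rfl

theorem concl_card_sylow_eq (hS : Setup G) (hC : Concl G) (P : Sylow 2 G) :
    Nat.card ↥(P : Subgroup G) = nI (P : Subgroup G) + 1 := by
  obtain ⟨L, K, hLn, hK, hodd, hinf, hsup, hcl⟩ := hC
  haveI := hLn
  have hPL := g_sylow_le hK hodd hsup P
  have hSL : Setup ↥L := g_setup_L hS hK hodd hsup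
  have h1 := clean_card_sylow_eq hSL hcl (P.subtype hPL)
  rw [g_card_subtype P hPL, g_nI_subtype P hPL] at h1
  exact h1

omit [Finite G] in
/-- `Clean` is invariant under isomorphism -/
theorem g_clean_of_equiv {A B : Type*} [Group A] [Group B] (e : A ≃* B) (h : Clean A) : Clean B := by
  intro t x ht hx
  obtain ⟨n, hn⟩ := h (e.symm t) (e.symm x) (by rw [e.symm.orderOf_eq]; exact ht)
    (by rw [← map_mul, ← map_mul, hx])
  exact ⟨n, by rw [← hn, e.symm.orderOf_eq]⟩

omit [Finite G] in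
/-- `Concl` is invariant under isomorphism -/
theorem Concl.of_equiv {G' : Type*} [Group G'] (e : G ≃* G') (hC : Concl G) : Concl G' := by
  obtain ⟨L, K, hLn, hK, hodd, hinf, hsup, hcl⟩ := hC
  refine ⟨L.map e.toMonoidHom, K.map e.toMonoidHom, hLn.map e.toMonoidHom e.surjective, ?_, ?_, ?_,
    ?_, ?_⟩
  · rintro _ ⟨k, hk, rfl⟩
    rw [Subgroup.mem_center_iff]
    intro g'
    obtain ⟨g, rfl⟩ := e.surjective g'
    have := Subgroup.mem_center_iff.1 (hK hk) g
    change e g * e k = e k * e g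
    rw [← map_mul, ← map_mul, this]
  · have : Nat.card ↥(K.map e.toMonoidHom) = Nat.card ↥K :=
      Nat.card_congr (K.equivMapOfInjective e.toMonoidHom e.injective).toEquiv.symm
    rw [this]; exact hodd
  · rw [← Subgroup.map_inf _ _ _ e.injective, hinf, Subgroup.map_bot]
  · rw [← Subgroup.map_sup, hsup, Subgroup.map_top_of_surjective _ e.surjective]
  · exact g_clean_of_equiv (L.equivMapOfInjective e.toMonoidHom e.injective) hcl

/-- a copy of `Fin n` carrying no algebraic instances -/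
def GFin (n : ℕ) : Type := Fin n

instance g_finite_GFin (n : ℕ) : Finite (GFin n) := inferInstanceAs (Finite (Fin n))

/-- the final conversion -/
theorem concl_iso (hS : Setup G) (hC : Concl G) :
    ∃ (F : Type) (_ : Field F) (_ : Fintype F) (A : Type) (_ : CommGroup A) (_ : Finite A),
      CharP F 2 ∧ Odd (Nat.card A) ∧ Nonempty (G ≃* Matrix.SpecialLinearGroup (Fin 2) F × A) := by
  obtain ⟨L, K, hLn, hK, hodd, hinf, hsup, hcl⟩ := hC
  haveI := hLn
  have hSL : Setup ↥L := g_setup_L hS hK hodd hsup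
  obtain ⟨F, iF, iFt, hchar, ⟨e1⟩⟩ := clean_iso hSL hcl
  letI iKc : CommGroup ↥K :=
    { (inferInstance : Group ↥K) with
      mul_comm := fun a b => Subtype.ext (Subgroup.mem_center_iff.1 (hK a.2) b.1).symm }
  let eK : GFin (Nat.card K) ≃ ↥K := (Finite.equivFin ↥K).symm
  letI iA : CommGroup (GFin (Nat.card K)) := eK.commGroup
  let eA : GFin (Nat.card K) ≃* ↥K := eK.mulEquiv
  have hcomm : ∀ (l : ↥L) (k : ↥K), Commute (L.subtype l) (K.subtype k) := fun l k =>
    (Subgroup.mem_center_iff.1 (hK k.2) l.1)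
  let φ : ↥L × ↥K →* G := MonoidHom.noncommCoprod L.subtype K.subtype hcomm
  have hinj : Function.Injective φ := by
    rw [MonoidHom.noncommCoprod_injective]
    refine ⟨L.subtype_injective, K.subtype_injective, ?_⟩
    rw [Subgroup.range_subtype, Subgroup.range_subtype, disjoint_iff, hinf]
  have hsurj : Function.Surjective φ := by
    rw [← MonoidHom.range_eq_top, MonoidHom.noncommCoprod_range, Subgroup.range_subtype,
      Subgroup.range_subtype, hsup]
  let e2 : ↥L × ↥K ≃* G := MulEquiv.ofBijective φ ⟨hinj, hsurj⟩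
  refine ⟨F, iF, iFt, GFin (Nat.card K), iA, inferInstance, hchar, ?_, ⟨?_⟩⟩
  · have : Nat.card (GFin (Nat.card K)) = Nat.card ↥K := Nat.card_congr eK
    rw [this]; exact hodd
  · exact e2.symm.trans (MulEquiv.prodCongr e1 eA.symm)

end Cfsg.Agent.Lib.Helper22.AbCent
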