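import Mathlib
import Cfsg.Agent.Lib.helper3.C6U.Defs
import Cfsg.Agent.Lib.Lead.HermCount

set_option autoImplicit false
set_option linter.unusedVariables false
set_option linter.unusedSectionVars false

/-!
# Project C6U (designer helper3), row A3 : `norm_onto` (written by helper22).
-/

namespace Cfsg.Agent.Lib.helper3.C6U

open Polynomial Matrix
open Cfsg.Agent.Lib.Helper10.C6P
open scoped MatrixGroups

variable {F : Type*} [Field F]

section fin

variable [Fintype F] {p : ℕ} [Fact p.Prime] [CharP F p]

/-- A3 [S-M] : the norm `λ ↦ λ ^ (p + 1)` is onto the non-zero elements of the prime field (Lead `HermCount.card_norm_fiber`). -/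
theorem norm_onto (hF : Fintype.card F = p ^ 2) (c : F) (hc0 : c ≠ 0) (hc : c ^ p = c) :
    ∃ l : F, l ^ (p + 1) = c := by
  classical
  have h := Cfsg.Agent.Lib.Lead.card_norm_fiber hF c hc0 hc
  have hpos : 0 < (Finset.univ.filter (fun t : F => t ^ (p + 1) = c)).card := by rw [h]; omega
  obtain ⟨a, ha⟩ := Finset.card_pos.mp hpos
  simp only [Finset.mem_filter, Finset.mem_univ, true_and] at ha
  exact ⟨a, ha⟩

end fin

end Cfsg.Agent.Lib.helper3.C6U
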