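import Mathlib
import Cfsg.Agent.Lib.helper17.STM.Defs
import Cfsg.Agent.Lib.helper17.STM.Defs2
import Cfsg.Agent.Lib.Helper24.STCI1

/-!
# Project STM (designer helper17), part 2, row A3 (helper22), verbatim: rank one, `Lg o = ⊥`.  Port of `Helper11.STBA3`.
-/

set_option autoImplicit false

namespace Cfsg.Agent.Lib.helper17.STM

open Cfsg.Agent.Lib.helper15.St2 Cfsg.Agent.Lib.helper3.STC Cfsg.Agent.Lib.Lead.STD

universe v w

namespace SysM

variable {F : Type*} [Field F] {A B : F} [Fact (∀ r : F, r ^ 2 ≠ -B + A * r)] {ι : Type*} [DecidableEq ι] {G : Type*} [Group G] (S : SysM F A B ι G)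

section A
variable (o : ι ⊕ ι)

omit [DecidableEq ι] in
/-- rank one: every signed index is `o` or `ng o` -/
theorem stma3_all {ι : Type*} (o : ι ⊕ ι) (hι : ∀ i : ι, i = ab o) (a : ι ⊕ ι) : a = o ∨ a = ng o := by
  rcases a with i | i <;> rcases o with j | j
  · left; rw [hι i]; rfl
  · right; rw [hι i]; rfl
  · right; rw [hι i]; rfl
  · left; rw [hι i]; rfl

omit [DecidableEq ι] in
/-- rank one: there are no long roots -/
theorem stma3_no_long {ι : Type*} (o : ι ⊕ ι) (hι : ∀ i : ι, i = ab o) {a b : ι ⊕ ι} (hab : a ≠ b) (hab' : a ≠ ng b) : False := by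
  rcases stma3_all o hι a with ha | ha <;> rcases stma3_all o hι b with hb | hb
  · exact hab (ha.trans hb.symm)
  · apply hab'
    rw [ha, hb, ng_ng]
  · apply hab'
    rw [ha, hb]
  · exact hab (ha.trans hb.symm)

omit [DecidableEq ι] in
/-- A3 [S-M]  rank one: `Lg o` has no generators (`a ≠ o`, `a ≠ ng o` is impossible: `ab_eq_iff` of STC). -/
theorem Lg_eq_bot (hι : ∀ i : ι, i = ab o) : S.Lg o = ⊥ := by
  unfold Lg XQ
  rw [Subgroup.closure_eq_bot_iff]
  rintro g (⟨a, b, t, hab, hab', -, -⟩ | ⟨a, t, ⟨h1, h2⟩, -⟩)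
  · exact (stma3_no_long o hι hab hab').elim
  · rcases stma3_all o hι a with ha | ha
    · exact (h1 ha).elim
    · exact (h2 ha).elim

end A

end SysM

end Cfsg.Agent.Lib.helper17.STM
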