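import Mathlib
import Cfsg.Agent.Lib.helper17.STM.Defs
import Cfsg.Agent.Lib.helper17.STM.Defs2
import Cfsg.Agent.Lib.Lead.STDB1
import Cfsg.Agent.Lib.helper4.STMX1

/-!
# Project STM (designer helper17), part 2, row A1 (helper22): `ALTj_mul_Ag` VERBATIM, and CORES of `ALTj_mul_Lg` (from the statement of N2p `Lg_cj_mem_Ag`)
and `ALTj_mul_h` (from the statement of H2 `isMon_h`).  Port of `Helper29.STBA1core`.
-/

set_option autoImplicit false
set_option linter.unusedSectionVars false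

namespace Cfsg.Agent.Lib.helper17.STM

open Cfsg.Agent.Lib.helper15.St2 Cfsg.Agent.Lib.helper3.STC Cfsg.Agent.Lib.Lead.STD

universe v w

namespace SysM

variable {F : Type*} [Field F] {A B : F} [Fact (∀ r : F, r ^ 2 ≠ -B + A * r)] {ι : Type*} [DecidableEq ι] {G : Type*} [Group G] (S : SysM F A B ι G)

section A
variable (o : ι ⊕ ι)

omit [DecidableEq ι] in
/-- A1 [S]  model STD A1 (`Helper29.STDA1`). -/
theorem ALTj_mul_Ag {j : ι ⊕ ι} {s g : G} (hs : s ∈ S.Ag o) (hg : g ∈ S.ALTj o j) : s * g ∈ S.ALTj o j := by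
  obtain ⟨a, ha, l, hl, c, hc, rfl⟩ := hg
  exact ⟨s * a, mul_mem hs ha, l, hl, c, hc, by group⟩

omit [DecidableEq ι] in
/-- `ALTj_mul_Lg` from the statement of N2p `Lg_cj_mem_Ag` -/
theorem stma1_mul_Lg_core {j : ι ⊕ ι} {s g : G} (hN2p : ∀ z ∈ S.Lg o, ∀ y ∈ S.Ag o, cj z y ∈ S.Ag o)
    (hs : s ∈ S.Lg o) (hg : g ∈ S.ALTj o j) : s * g ∈ S.ALTj o j := by
  obtain ⟨a, ha, l, hl, c, hc, rfl⟩ := hg
  exact ⟨cj s a, hN2p s hs a ha, s * l, mul_mem hs hl, c, hc, by unfold cj; group⟩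

/-- `ALTj_mul_h` from the statement of H2 `isMon_h` (at `(o, j, t)`) -/
theorem stma1_mul_h_core [Finite F] {j : ι ⊕ ι} (hj : j ≠ o) (hj' : j ≠ ng o) {t : F} (ht : t ≠ 0)
    (hm : S.IsMon (S.h o j t) 1 (dhs o j t) 1 false) {g : G}
    (hg : g ∈ S.ALTj o j) : S.h o j t * g ∈ S.ALTj o j := by
  obtain ⟨a, ha, l, hl, c, hc, rfl⟩ := hg
  have h1 : o ≠ j := Ne.symm hj
  have h2 : o ≠ ng j := fun h => hj' (by rw [h, ng_ng])
  have e : S.h o j t * S.h o j c = S.h o j (t * c) := S.toSysD.h_mul h1 h2 t c ht hc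
  refine ⟨cj (S.h o j t) a, ?_, cj (S.h o j t) l, ?_, t * c, mul_ne_zero ht hc, ?_⟩
  · exact IsMon.cj_mem_XQ S hm (fun k l _ _ h => h) (fun k h => h) a ha
  · exact IsMon.cj_mem_XQ S hm (fun k l _ _ h => h) (fun k h => h) l hl
  · rw [← e]
    unfold cj
    group

end A

end SysM

end Cfsg.Agent.Lib.helper17.STM
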