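import Mathlib
import Cfsg.Agent.Lib.Helper22.STMA1core
import Cfsg.Agent.Lib.Helper9.STMN2p
import Cfsg.Agent.Lib.Helper20.STMH2

/-!
# Project STM (designer helper17), part 2, row A1 (helper22), VERBATIM: `ALTj_mul_Lg`, `ALTj_mul_h` (`ALTj_mul_Ag` is verbatim in `Helper22.STMA1core`).
-/

set_option autoImplicit false
set_option linter.unusedSectionVars false

namespace Cfsg.Agent.Lib.helper17.STM

open Cfsg.Agent.Lib.helper15.St2 Cfsg.Agent.Lib.helper3.STC Cfsg.Agent.Lib.Lead.STD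

universe v w

namespace SysM

variable {F : Type*} [Field F] {A B : F} [Fact (∀ r : F, r ^ 2 ≠ -B + A * r)] {ι : Type*} [DecidableEq ι] {G : Type*} [Group G] (S : SysM F A B ι G)

section A
variable (o : ι ⊕ ι)

omit [DecidableEq ι] in
/-- (`s * (a * l * h) = cj s a * (s * l) * h`, N2p `Lg_cj_mem_Ag`) -/
theorem ALTj_mul_Lg {j : ι ⊕ ι} {s g : G} (hs : s ∈ S.Lg o) (hg : g ∈ S.ALTj o j) : s * g ∈ S.ALTj o j :=
  S.stma1_mul_Lg_core o (S.Lg_cj_mem_Ag o) hs hg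

/-- (H2 `isMon_h` with `σ = 1` normalises `Ag o`, `Lg o` (N3); STD `h_mul`) -/
theorem ALTj_mul_h [Finite F] {j : ι ⊕ ι} (hj : j ≠ o) (hj' : j ≠ ng o) {t : F} (ht : t ≠ 0) {g : G} (hg : g ∈ S.ALTj o j) : S.h o j t * g ∈ S.ALTj o j :=
  S.stma1_mul_h_core o hj hj' ht
    (S.isMon_h (Ne.symm hj) (fun h => hj' (by rw [h, ng_ng])) t ht) hg

end A

end SysM

end Cfsg.Agent.Lib.helper17.STM
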