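import Mathlib
import Cfsg.Agent.Lib.helper17.STM.Defs
import Cfsg.Agent.Lib.helper17.STM.Defs2
import Cfsg.Agent.Lib.Helper16.STDX2
import Cfsg.Agent.Lib.Lead.STDB1

/-!
# Project STM (designer helper17), row H7 CORE (helper22): `hs a u = h a b (nm u) * hs b u`,
from the two conjugation formulas given by W11 (`IsMon.cj_hs` for W12 `isMon_w a b 1`, `IsMon.cj_w` for H2 `isMon_hs b u`).
-/

set_option autoImplicit false

namespace Cfsg.Agent.Lib.helper17.STM

open Cfsg.Agent.Lib.helper15.St2 Cfsg.Agent.Lib.helper3.STC Cfsg.Agent.Lib.Lead.STD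

universe v w

namespace SysM

variable {F : Type*} [Field F] {A B : F} [Fact (∀ r : F, r ^ 2 ≠ -B + A * r)] {ι : Type*} {G : Type*} [Group G] (S : SysM F A B ι G)

variable [DecidableEq ι]

section H
variable [Finite F]

/-- H7 core: `h1` is `IsMon.cj_hs (isMon_w hab hab' 1 one_ne_zero) b u hu`, `h2` is `IsMon.cj_w (isMon_hs b u hu) hab 1 one_ne_zero`. -/
theorem stmh7_core {a b : ι ⊕ ι} (hab : a ≠ b) (hab' : a ≠ ng b) (u : Kq F A B) (hu : u ≠ 0)
    (h1 : cj (S.w a b 1) (S.hs b u) =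
      S.ws (sws a b b) (dwd a b (1 : F) b • ((1 : Kq F A B) * tw false u)) * S.ws (sws a b b) (-(dwd a b (1 : F) b • (1 : Kq F A B))))
    (h2 : cj (S.hs b u) (S.w a b 1) =
      S.w ((1 : Equiv.Perm (ι ⊕ ι)) a) ((1 : Equiv.Perm (ι ⊕ ι)) b) (dhb b u a * (dhb b u b)⁻¹ * 1)) :
    S.hs a u = S.h a b (nm u) * S.hs b u := by
  have hba : b ≠ a := hab.symm
  have hnu : nm u ≠ 0 := nm_ne_zero hu
  -- the first formula: `cj W (hs b u) = hs a u`
  have e1 : dwd a b (1 : F) b = 1 := by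
    unfold dwd
    rw [if_neg hba, if_pos rfl]
  rw [SysD.sws_right hab hab', e1, one_smul, one_smul, one_mul, tw_false] at h1
  have h1' : cj (S.w a b 1) (S.hs b u) = S.hs a u := h1
  -- the second formula: `cj (hs b u) W = w a b (nm u)⁻¹`
  have e2 : dhb b u a = 1 := by
    unfold dhb
    rw [if_neg hab, if_neg hab']
  have e3 : dhb b u b = nm u := by
    unfold dhb
    rw [if_pos rfl]
  rw [e2, e3, one_mul, mul_one, Equiv.Perm.one_apply, Equiv.Perm.one_apply] at h2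
  -- `hs a u * (hs b u)⁻¹ = W * (cj (hs b u) W)⁻¹`
  have e4 : S.hs a u * (S.hs b u)⁻¹ = S.w a b 1 * (cj (S.hs b u) (S.w a b 1))⁻¹ := by
    rw [← h1']
    unfold cj
    group
  rw [h2] at e4
  have e5 : (S.w a b (nm u)⁻¹)⁻¹ = S.w a b (-(nm u)⁻¹) := (S.toSysD.w_neg a b (nm u)⁻¹).symm
  rw [e5, S.toSysD.w_mul_w hab hab' 1 (-(nm u)⁻¹) one_ne_zero (neg_ne_zero.2 (inv_ne_zero hnu))] at e4
  have e6 : -((1 : F) * (-(nm u)⁻¹)⁻¹) = nm u := by
    rw [one_mul, inv_neg, inv_inv, neg_neg]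
  rw [e6] at e4
  calc S.hs a u = (S.hs a u * (S.hs b u)⁻¹) * S.hs b u := by group
    _ = S.h a b (nm u) * S.hs b u := by rw [e4]

end H

end SysM

end Cfsg.Agent.Lib.helper17.STM
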