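import Mathlib
import Cfsg.Agent.Lib.Helper22.STMH7core
import Cfsg.Agent.Lib.Helper21.STMW11
import Cfsg.Agent.Lib.Helper21.STMW12
import Cfsg.Agent.Lib.Helper20.STMH2

/-!
# Project STM (designer helper17), row H7 (helper22), VERBATIM: `hs a u = h a b (nm u) * hs b u`.
-/

set_option autoImplicit false

namespace Cfsg.Agent.Lib.helper17.STM

open Cfsg.Agent.Lib.helper15.St2 Cfsg.Agent.Lib.helper3.STC Cfsg.Agent.Lib.Lead.STD

universe v w

namespace SysM

variable {F : Type*} [Field F] {A B : F} [Fact (∀ r : F, r ^ 2 ≠ -B + A * r)] {ι : Type*} {G : Type*} [Group G] (S : SysM F A B ι G)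

variable [DecidableEq ι]

section H
variable [Finite F]

/-- H7 [M]  NEW (no STB model): **the short torus elements of two indices differ by a long torus element.** -/
theorem hs_eq_h_mul_hs {a b : ι ⊕ ι} (hab : a ≠ b) (hab' : a ≠ ng b) (u : Kq F A B) (hu : u ≠ 0) :
    S.hs a u = S.h a b (nm u) * S.hs b u :=
  S.stmh7_core hab hab' u hu
    (IsMon.cj_hs S (S.isMon_w hab hab' 1 one_ne_zero) b u hu)
    (IsMon.cj_w S (S.isMon_hs b u hu) hab 1 one_ne_zero)

end H

end SysM

end Cfsg.Agent.Lib.helper17.STM
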