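import Mathlib
import Cfsg.Agent.Lib.Helper24.MNP.Defs
import Cfsg.Agent.Lib.Helper9.SCHA1

/-!
# Project MNP (helper24, S4395), row B1 (`comm_form`), verbatim.
-/

set_option autoImplicit false

namespace Cfsg.Agent.Lib.Helper24.MNP

open scoped commutatorElement
open Cfsg.Agent.Lib.Helper24.SCH (SchAct)

universe u

/-- commutators do not change when the arguments are multiplied by central elements -/
theorem mnpb1_comm_central {P : Type u} [Group P] (x y c d : P) (hc : c ∈ Subgroup.center P)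
    (hd : d ∈ Subgroup.center P) : ⁅x * c, y * d⁆ = ⁅x, y⁆ := by
  rw [Subgroup.mem_center_iff] at hc hd
  simp only [commutatorElement_def, mul_inv_rev]
  have h1 : ∀ g : P, c * g = g * c := fun g => (hc g).symm
  have h2 : ∀ g : P, d * g = g * d := fun g => (hd g).symm
  have h3 : ∀ g : P, c⁻¹ * g = g * c⁻¹ := by
    intro g
    have := h1 (c⁻¹ * g * c⁻¹)
    calc c⁻¹ * g = c⁻¹ * g * c⁻¹ * c := by group
      _ = c * (c⁻¹ * g * c⁻¹) := (h1 _).symm
      _ = g * c⁻¹ := by group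
  have h4 : ∀ g : P, d⁻¹ * g = g * d⁻¹ := by
    intro g
    calc d⁻¹ * g = d⁻¹ * g * d⁻¹ * d := by group
      _ = d * (d⁻¹ * g * d⁻¹) := (h2 _).symm
      _ = g * d⁻¹ := by group
  calc x * c * (y * d) * (c⁻¹ * x⁻¹) * (d⁻¹ * y⁻¹)
      = x * (c * (y * d * c⁻¹ * x⁻¹ * d⁻¹ * y⁻¹)) := by group
    _ = x * ((y * d * c⁻¹ * x⁻¹ * d⁻¹ * y⁻¹) * c) := by rw [h1]
    _ = x * y * (d * (c⁻¹ * x⁻¹ * d⁻¹ * y⁻¹ * c)) := by group
    _ = x * y * ((c⁻¹ * x⁻¹ * d⁻¹ * y⁻¹ * c) * d) := by rw [h2]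
    _ = x * y * (c⁻¹ * (x⁻¹ * d⁻¹ * y⁻¹ * c * d)) := by group
    _ = x * y * ((x⁻¹ * d⁻¹ * y⁻¹ * c * d) * c⁻¹) := by rw [h3]
    _ = x * y * x⁻¹ * (d⁻¹ * (y⁻¹ * c * d * c⁻¹)) := by group
    _ = x * y * x⁻¹ * ((y⁻¹ * c * d * c⁻¹) * d⁻¹) := by rw [h4]
    _ = x * y * x⁻¹ * y⁻¹ * ((c * d) * c⁻¹ * d⁻¹) := by group
    _ = x * y * x⁻¹ * y⁻¹ * ((d * c) * c⁻¹ * d⁻¹) := by rw [h1 d]
    _ = x * y * x⁻¹ * y⁻¹ := by group

section Aux

variable {p q : ℕ} [Fact p.Prime] {P : Type u} [Group P] [Finite P] {α : MulAut P}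

/-- commutators are central -/
theorem mnpb1_comm_mem_center (h : SchAct p q P α) (x y : P) : ⁅x, y⁆ ∈ Subgroup.center P :=
  Cfsg.Agent.Lib.Helper24.SCH.fixed_central h _ (Cfsg.Agent.Lib.Helper24.SCH.comm_fixed h x y)

/-- the commutator only depends on the images under `π` -/
theorem mnpb1_comm_congr {M : Type*} [Group M] (h : SchAct p q P α) (π : P →* M)
    (hπk : ∀ x, π x = 1 ↔ α x = x) (x x' y y' : P) (hx : π x = π x') (hy : π y = π y') :
    ⁅x, y⁆ = ⁅x', y'⁆ := by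
  have hc : x⁻¹ * x' ∈ Subgroup.center P := by
    apply Cfsg.Agent.Lib.Helper24.SCH.fixed_central h
    rw [← hπk, map_mul, map_inv, hx, inv_mul_cancel]
  have hd : y⁻¹ * y' ∈ Subgroup.center P := by
    apply Cfsg.Agent.Lib.Helper24.SCH.fixed_central h
    rw [← hπk, map_mul, map_inv, hy, inv_mul_cancel]
  have := mnpb1_comm_central x y _ _ hc hd
  rw [mul_inv_cancel_left, mul_inv_cancel_left] at this
  exact this.symm

theorem mnpb1_comm_mul_left (h : SchAct p q P α) (a b c : P) : ⁅a * b, c⁆ = ⁅a, c⁆ * ⁅b, c⁆ := by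
  have hz := mnpb1_comm_mem_center h b c
  rw [Subgroup.mem_center_iff] at hz
  have e : ⁅a * b, c⁆ = a * ⁅b, c⁆ * a⁻¹ * ⁅a, c⁆ := by
    simp only [commutatorElement_def]
    group
  rw [e, hz a, mul_inv_cancel_right, ← hz]

theorem mnpb1_comm_mul_right (h : SchAct p q P α) (a b c : P) : ⁅a, b * c⁆ = ⁅a, b⁆ * ⁅a, c⁆ := by
  have hz := mnpb1_comm_mem_center h a c
  rw [Subgroup.mem_center_iff] at hz
  have e : ⁅a, b * c⁆ = ⁅a, b⁆ * (b * ⁅a, c⁆ * b⁻¹) := by
    simp only [commutatorElement_def]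
    group
  rw [e, hz b, mul_inv_cancel_right]

end Aux

section B

variable {K : Type u} [Field K] [Finite K] {p q : ℕ} [Fact p.Prime] [Fact q.Prime] [CharP K p]
variable {P : Type u} [Group P] [Finite P] {α : MulAut P}

/-- B1 [M]. `β x y := ⁅x', y'⁆` for any lifts (`Function.surjInv hπs`), an element of the centre as it is fixed
(`SCH.comm_fixed`, `SCH.fixed_central`); independent of the lifts as `ker π = fixSub α` is central; biadditive by
`⁅x x', y⁆ = ⁅x, y⁆ ⁅x', y⁆` for central commutators; invariant as `π (α x) = ζ (π x)` and `α ⁅x, y⁆ = ⁅x, y⁆`. -/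
theorem comm_form (ζ : K) (hζ0 : ζ ≠ 0) (h : SchAct p q P α) (π : P →* Multiplicative K)
    (hπs : Function.Surjective π) (hπk : ∀ x, π x = 1 ↔ α x = x)
    (hπe : ∀ x, π (α x) = alphaK ζ hζ0 (π x)) :
    ∃ β : K → K → Additive (Subgroup.center P),
      (∀ x y : P, ((Additive.toMul (β (Multiplicative.toAdd (π x)) (Multiplicative.toAdd (π y))) :
        Subgroup.center P) : P) = ⁅x, y⁆) ∧
      (∀ x x' y, β (x + x') y = β x y + β x' y) ∧ (∀ x y y', β x (y + y') = β x y + β x y') ∧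
      (∀ x, β x x = 0) ∧ ∀ x y, β (ζ * x) (ζ * y) = β x y := by
  classical
  let lift : K → P := fun k => Function.surjInv hπs (Multiplicative.ofAdd k)
  have hlift : ∀ k : K, π (lift k) = Multiplicative.ofAdd k := fun k =>
    Function.surjInv_eq hπs (Multiplicative.ofAdd k)
  let β : K → K → Additive (Subgroup.center P) := fun x y =>
    Additive.ofMul ⟨⁅lift x, lift y⁆, mnpb1_comm_mem_center h _ _⟩
  have hβ : ∀ x y : K, ((Additive.toMul (β x y) : Subgroup.center P) : P) = ⁅lift x, lift y⁆ :=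
    fun _ _ => rfl
  have hext : ∀ a b : Additive (Subgroup.center P),
      ((Additive.toMul a : Subgroup.center P) : P) = ((Additive.toMul b : Subgroup.center P) : P) →
      a = b := by
    intro a b hab
    exact Additive.toMul.injective (Subtype.ext hab)
  refine ⟨β, ?_, ?_, ?_, ?_, ?_⟩
  · intro x y
    rw [hβ]
    apply mnpb1_comm_congr h π hπk
    · rw [hlift]; rfl
    · rw [hlift]; rfl
  · intro x x' y
    apply hext
    rw [toMul_add, Subgroup.coe_mul, hβ, hβ, hβ, ← mnpb1_comm_mul_left h]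
    apply mnpb1_comm_congr h π hπk
    · rw [hlift, map_mul, hlift, hlift]; rfl
    · rfl
  · intro x y y'
    apply hext
    rw [toMul_add, Subgroup.coe_mul, hβ, hβ, hβ, ← mnpb1_comm_mul_right h]
    apply mnpb1_comm_congr h π hπk
    · rfl
    · rw [hlift, map_mul, hlift, hlift]; rfl
  · intro x
    apply hext
    rw [hβ, toMul_zero, Subgroup.coe_one, commutatorElement_self]
  · intro x y
    apply hext
    rw [hβ, hβ, ← Cfsg.Agent.Lib.Helper24.SCH.comm_fixed h (lift x) (lift y), map_commutatorElement]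
    apply mnpb1_comm_congr h π hπk
    · rw [hlift, hπe, hlift]; rfl
    · rw [hlift, hπe, hlift]; rfl

end B

end Cfsg.Agent.Lib.Helper24.MNP
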