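import Mathlib
import Cfsg.Agent.Lib.Helper22.BTKEYcore
import Cfsg.Agent.Lib.Helper25.Codegree

/-!
# Project BT (S0997, Brauer–Tuan), piece KEY: the order of `G` in the `(p+1)/2` case, for a simple group,
with the degrees in the `leoDeg` form delivered by `bt2_main` (project BT2).
-/

set_option autoImplicit false
set_option linter.unusedVariables false
set_option linter.unusedSectionVars false
set_option linter.style.haveILetI false
open scoped ComplexConjugate
open Classical

namespace Cfsg.Agent.Lib.Helper22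

open Cfsg.Agent.Lib.helper7 Cfsg.Agent.Lib.helper7.BR Cfsg.Agent.Lib.helper2 Cfsg.Agent.Lib.Helper25
  Cfsg.Agent.Lib.Helper29 Cfsg.Agent.Lib.helper15.BH Cfsg.Agent.Lib.helper15.PSL

universe u

variable {G : Type u} [Group G] [Fintype G] {p : ℕ} [Fact p.Prime]

/-- the centre of a non-cyclic simple group is trivial -/
theorem btkey_center_bot [IsSimpleGroup G] (hnc : ¬ IsCyclic G) : Subgroup.center G = ⊥ := by
  rcases (inferInstance : IsSimpleGroup G).eq_bot_or_eq_top_of_normal (Subgroup.center G)
    inferInstance with h | h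
  · exact h
  · exfalso
    apply hnc
    letI : CommGroup G := Group.commGroupOfCenterEqTop h
    exact inferInstance

/-- a non-trivial irreducible character of a simple group is faithful -/
theorem btkey_faithful [IsSimpleGroup G] (ξ : Cfsg.IrrCharacter G) (hξ : ξ ≠ trivIrr G) (g : G)
    (hg : (ξ : G → ℂ) g = (ξ : G → ℂ) 1) : g = 1 := by
  have h := ker_card_one_of_simple (inferInstance : IsSimpleGroup G) ξ hξ
  have hsub : Subsingleton {g : G // (ξ : G → ℂ) g = (ξ : G → ℂ) 1} :=
    (Nat.card_eq_one_iff_unique.mp h).1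
  have := hsub.elim ⟨g, hg⟩ ⟨1, rfl⟩
  exact congrArg Subtype.val this

/-- KEY : the order of a simple group in the `(p+1)/2` case.  Inputs: the local configuration
(`|P| = p = 2f+1`, `|N_G(P) : C_G(P)| = f`, `|C_G(P)| = p`), the principal block data `PB0` (from `pb_values2`)
with the degrees delivered by `bt2_main`, `f = 2 ^ c`, `|G| = p · 2^b · (f+1)`. -/
theorem btkey_simple [IsSimpleGroup G] (hnc : ¬ IsCyclic G) [Fintype (Cfsg.IrrCharacter G)]
    {f c b : ℕ} (P : Sylow p G) (hP : Nat.card ↥(P : Subgroup G) = p) (hpf : 2 * f + 1 = p)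
    (hrel : (cen P).relIndex (nrm P) = f) (hcen : Nat.card ↥(cen P) = p)
    {X Y : Finset (Cfsg.IrrCharacter G)} {a : Cfsg.IrrCharacter G → ℤ} {ε : ℤ}
    (hB0 : PB0 p f (P : Subgroup G) X Y a ε) (hε : ε = -1)
    (hdegY : ∀ η ∈ Y, leoDeg η = f + 1)
    (hdm : ∀ ξ ∈ X, a ξ = -1 → leoDeg ξ + 1 = p)
    (hdp : ∀ ξ ∈ X, a ξ = 1 → ξ ≠ trivIrr G → leoDeg ξ = p + 1)
    (hf : f = 2 ^ c) (hc : 1 ≤ c) (hcard : Nat.card G = p * 2 ^ b * (f + 1)) :
    Nat.card G = p * (2 * f) * (f + 1) := by
  have hZ := btkey_center_bot (G := G) hnc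
  have hp : p.Prime := Fact.out
  have hf2 : 2 ≤ f := by
    rw [hf]
    calc 2 = 2 ^ 1 := by norm_num
      _ ≤ 2 ^ c := Nat.pow_le_pow_right (by norm_num) hc
  have hnn : ¬ (P : Subgroup G).Normal := by
    intro hn
    rcases (inferInstance : IsSimpleGroup G).eq_bot_or_eq_top_of_normal (P : Subgroup G) hn with h | h
    · rw [h] at hP
      simp at hP
      exact hp.one_lt.ne hP
    · -- G is a p-group of order p, hence cyclic
      apply hnc
      have hG : Nat.card G = p := by
        rw [← hP, h]
        exact (Nat.card_congr (Subgroup.topEquiv).toEquiv).symm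
      exact isCyclic_of_prime_card hG
  have hL : Loc p f P :=
    { two_f := hpf
      f_ge := hf2
      cardP := hP
      relIndex := hrel
      cardC := by rw [hcen, hZ]; simp
      not_normal := hnn }
  have hB : PB p f (P : Subgroup G) X Y a ε (f + 1) :=
    { toPB0 := hB0
      degY := by
        intro η hη
        rw [leoDeg_spec, hdegY η hη]
      deg_minus := by
        intro ξ hξ h
        rw [leoDeg_spec]
        have := hdm ξ hξ h
        have h2 : ((leoDeg ξ + 1 : ℕ) : ℂ) = (p : ℂ) := by rw [this]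
        push_cast at h2
        rw [← h2]
        ring
      deg_plus := by
        intro ξ hξ h hne
        rw [leoDeg_spec, hdp ξ hξ h hne]
        push_cast
        ring
      cker := by
        intro ξ _ ζ hζ g
        rw [hZ, Subgroup.mem_bot] at hζ
        rw [hζ, mul_one] }
  have hfaith : ∀ ξ ∈ X, a ξ = -1 → ∀ g : G, (ξ : G → ℂ) g = (ξ : G → ℂ) 1 → g = 1 := by
    intro ξ hξ hm g hg
    apply btkey_faithful ξ _ g hg
    intro htriv
    -- the trivial character has sign +1
    obtain ⟨x, hx, hx1⟩ : ∃ x ∈ (P : Subgroup G), x ≠ 1 := by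
      have hcardP : 1 < Nat.card ↥(P : Subgroup G) := by rw [hP]; exact hp.one_lt
      haveI : Nontrivial ↥(P : Subgroup G) := (Finite.one_lt_card_iff_nontrivial).mp hcardP
      obtain ⟨y, hy⟩ := exists_ne (1 : ↥(P : Subgroup G))
      exact ⟨y.1, y.2, fun h => hy (Subtype.ext h)⟩
    have h1 := btkey_a_triv hL hB x hx hx1
    rw [htriv, h1] at hm
    omega
  exact btkey_core hL hB hε hZ hfaith hf hc hcard

end Cfsg.Agent.Lib.Helper22
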