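import Mathlib
import Cfsg.Agent.Lib.Helper12.OMN.Defs
import Cfsg.Agent.Lib.Lead.POM

/-!
# Project OMN (designer helper12, matrix side of S2099), rows C1 + C2 (helper22), VERBATIM: `omatM_det`, `scalar_of_commM`.
Twins of `Helper18.OMBC1`, `Helper18.OMBC2`.
-/

set_option autoImplicit false

namespace Cfsg.Agent.Lib.Helper12.OMN

open Matrix Cfsg.Agent.Lib.helper15.St2 Cfsg.Agent.Lib.helper3.STC Cfsg.Agent.Lib.Lead.STD Cfsg.Agent.Lib.helper17.STM

universe u w

section C

variable {m : ℕ} {F : Type u} [Field F] {A B : F}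

/-- C1 [S-M]  model `Helper18.OMBC1`. -/
theorem omatM_det (g : ↥(Cfsg.Omega F (Cfsg.quadFormMinus m F A B))) : (omatM g).det = 1 := by
  have h := Abelianization.commutator_subset_ker
    ((Matrix.GeneralLinearGroup.det (n := Im (Fin m)) (R := F)).comp
      (Subgroup.subtype (Cfsg.isometryGroup F (Cfsg.quadFormMinus m F A B)))) g.2
  rw [MonoidHom.mem_ker] at h
  have h2 := congrArg (fun u : Fˣ => (u : F)) h
  simpa [omatM] using h2

theorem omnc2_mul_single {n : Type*} [Fintype n] [DecidableEq n] (M : Matrix n n F) (a b i j : n) (c : F) :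
    (M * Matrix.single a b c) i j = if j = b then M i a * c else 0 := by
  by_cases h : j = b
  · subst h
    rw [Matrix.mul_single_apply_same, if_pos rfl]
  · rw [Matrix.mul_single_apply_of_ne c a b i j h M, if_neg h]

theorem omnc2_single_mul {n : Type*} [Fintype n] [DecidableEq n] (M : Matrix n n F) (a b i j : n) (c : F) :
    (Matrix.single a b c * M) i j = if i = a then c * M b j else 0 := by
  by_cases h : i = a
  · subst h
    rw [Matrix.single_mul_apply_same, if_pos rfl]
  · rw [Matrix.single_mul_apply_of_ne c a b i j h M, if_neg h]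

/-- the entrywise form of `M * TmL a b 1 = TmL a b 1 * M` -/
theorem omnc2_entryL (M : Matrix (Im (Fin m)) (Im (Fin m)) F) (a b : Fin m ⊕ Fin m)
    (h : M * TmL a b 1 = TmL a b 1 * M) (i j : Im (Fin m)) :
    (if j = Sum.inl b then M i (Sum.inl a) else 0) - (if j = Sum.inl (ng a) then M i (Sum.inl (ng b)) else 0) =
      (if i = Sum.inl a then M (Sum.inl b) j else 0) - (if i = Sum.inl (ng b) then M (Sum.inl (ng a)) j else 0) := by
  unfold TmL at h
  rw [Matrix.mul_sub, Matrix.mul_add, Matrix.mul_one, Matrix.sub_mul, Matrix.add_mul, Matrix.one_mul] at h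
  have h' := congrFun (congrFun h i) j
  simp only [Matrix.sub_apply, Matrix.add_apply, omnc2_mul_single, omnc2_single_mul, mul_one, one_mul] at h'
  linear_combination h'

/-- the entry `(inr k, inl (ng a))` of `M * TmS a u = TmS a u * M` -/
theorem omnc2_entryS (M : Matrix (Im (Fin m)) (Im (Fin m)) F) (a : Fin m ⊕ Fin m) (u : Kq F A B)
    (h : M * TmS a u = TmS a u * M) (k : Fin 2) :
    M (Sum.inr k) iz1 * u.re + M (Sum.inr k) iz2 * u.im - M (Sum.inr k) (Sum.inl a) * nm u =
      (if k = 0 then u.re * M (Sum.inl (ng a)) (Sum.inl (ng a)) else 0) +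
        (if k = 1 then u.im * M (Sum.inl (ng a)) (Sum.inl (ng a)) else 0) := by
  unfold TmS at h
  simp only [Matrix.mul_sub, Matrix.mul_add, Matrix.mul_one, Matrix.sub_mul, Matrix.add_mul, Matrix.one_mul] at h
  have h' := congrFun (congrFun h (Sum.inr k)) (Sum.inl (ng a))
  simp only [Matrix.sub_apply, Matrix.add_apply, omnc2_mul_single, omnc2_single_mul] at h'
  have e1 : (Sum.inl (ng a) : Im (Fin m)) ≠ iz1 := fun e => by cases e
  have e2 : (Sum.inl (ng a) : Im (Fin m)) ≠ iz2 := fun e => by cases e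
  have e3 : (Sum.inr k : Im (Fin m)) ≠ Sum.inl a := fun e => by cases e
  have e4 : ((Sum.inr k : Im (Fin m)) = iz1) ↔ k = 0 := by
    constructor
    · intro e; exact Sum.inr.inj e
    · intro e; rw [e]
  have e5 : ((Sum.inr k : Im (Fin m)) = iz2) ↔ k = 1 := by
    constructor
    · intro e; exact Sum.inr.inj e
    · intro e; rw [e]
  simp only [if_true, if_neg e1, if_neg e2, if_neg e3, e4, e5, sub_zero] at h'
  linear_combination h'

/-- C2 [M]  model `Helper18.OMBC2`: the block `D := M.toBlocks₁₁` commutes with all `Td a b 1`, so `D = λ • 1` (`Lead.POM.pom_scalar_of_comm hm`); the off-diagonal blocks vanish (`Td_mulVec`, `vecMul_Td`);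
the entries `(iz1, inl (ng a))`, `(iz2, inl (ng a))` of `M * TmS a u = TmS a u * M` at `u = 1` and `u = ω = ⟨0, 1⟩` give `M.toBlocks₂₂ = λ • 1`. -/
theorem scalar_of_commM (hm : 3 ≤ m) (M : Matrix (Im (Fin m)) (Im (Fin m)) F)
    (hL : ∀ a b : Fin m ⊕ Fin m, a ≠ b → a ≠ ng b → M * TmL a b 1 = TmL a b 1 * M)
    (hS : ∀ (a : Fin m ⊕ Fin m) (u : Kq F A B), M * TmS a u = TmS a u * M) :
    M = M iz1 iz1 • (1 : Matrix (Im (Fin m)) (Im (Fin m)) F) := by
  -- the block on the hyperbolic part
  set Dm : Matrix (Fin m ⊕ Fin m) (Fin m ⊕ Fin m) F := fun i j => M (Sum.inl i) (Sum.inl j) with hDm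
  have hD : ∀ a b : Fin m ⊕ Fin m, a ≠ b → a ≠ ng b → Dm * Td a b 1 = Td a b 1 * Dm := by
    intro a b hab hab'
    ext i j
    have hE := omnc2_entryL M a b (hL a b hab hab') (Sum.inl i) (Sum.inl j)
    simp only [Sum.inl.injEq] at hE
    unfold Td
    rw [Matrix.mul_sub, Matrix.mul_add, Matrix.mul_one, Matrix.sub_mul, Matrix.add_mul, Matrix.one_mul]
    simp only [Matrix.sub_apply, Matrix.add_apply, Cfsg.Agent.Lib.Lead.POM.pom_mul_single,
      Cfsg.Agent.Lib.Lead.POM.pom_single_mul]
    show M (Sum.inl i) (Sum.inl j) + (if j = b then M (Sum.inl i) (Sum.inl a) else 0) -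
        (if j = ng a then M (Sum.inl i) (Sum.inl (ng b)) else 0) =
      M (Sum.inl i) (Sum.inl j) + (if i = a then M (Sum.inl b) (Sum.inl j) else 0) -
        (if i = ng b then M (Sum.inl (ng a)) (Sum.inl j) else 0)
    linear_combination hE
  obtain ⟨o⟩ : Nonempty (Fin m ⊕ Fin m) := ⟨Sum.inl ⟨0, by omega⟩⟩
  have hDs := Cfsg.Agent.Lib.Lead.POM.pom_scalar_of_comm hm Dm hD o
  have hll : ∀ i j : Fin m ⊕ Fin m, M (Sum.inl i) (Sum.inl j) = if i = j then Dm o o else 0 := by
    intro i j
    have := congrFun (congrFun hDs i) j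
    rw [Matrix.smul_apply, Matrix.one_apply, smul_eq_mul] at this
    show Dm i j = _
    rw [this]
    split_ifs <;> simp
  -- the off-diagonal blocks
  have hcol : ∀ (b : Fin m ⊕ Fin m) (k : Fin 2), M (Sum.inl b) (Sum.inr k) = 0 := by
    intro b k
    obtain ⟨a, hba, hba', -, -⟩ := Cfsg.Agent.Lib.Helper28.OMM.ommo5_third hm b b
    have hab : a ≠ b := hba.symm
    have hab' : a ≠ ng b := fun e => hba' (by rw [e, ng_ng])
    have hE := omnc2_entryL M a b (hL a b hab hab') (Sum.inl a) (Sum.inr k)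
    have e1 : (Sum.inr k : Im (Fin m)) ≠ Sum.inl b := fun e => by cases e
    have e2 : (Sum.inr k : Im (Fin m)) ≠ Sum.inl (ng a) := fun e => by cases e
    have e3 : (Sum.inl a : Im (Fin m)) ≠ Sum.inl (ng b) := fun e => hab' (Sum.inl.inj e)
    rw [if_neg e1, if_neg e2, if_pos rfl, if_neg e3] at hE
    simpa using hE.symm
  have hrow : ∀ (a : Fin m ⊕ Fin m) (k : Fin 2), M (Sum.inr k) (Sum.inl a) = 0 := by
    intro a k
    obtain ⟨b, hab, hab', -, -⟩ := Cfsg.Agent.Lib.Helper28.OMM.ommo5_third hm a a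
    have hE := omnc2_entryL M a b (hL a b hab hab') (Sum.inr k) (Sum.inl b)
    have e1 : (Sum.inl b : Im (Fin m)) ≠ Sum.inl (ng a) := fun e => hab' (by rw [Sum.inl.inj e, ng_ng])
    have e2 : (Sum.inr k : Im (Fin m)) ≠ Sum.inl a := fun e => by cases e
    have e3 : (Sum.inr k : Im (Fin m)) ≠ Sum.inl (ng b) := fun e => by cases e
    rw [if_pos rfl, if_neg e1, if_neg e2, if_neg e3] at hE
    simpa using hE
  -- the block on the anisotropic plane
  have hz1 : ∀ k : Fin 2, M (Sum.inr k) iz1 = if k = 0 then Dm o o else 0 := by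
    intro k
    have h := omnc2_entryS M o (1 : Kq F A B) (hS o 1) k
    rw [hrow, hll, if_pos rfl] at h
    simp only [QuadraticAlgebra.re_one, QuadraticAlgebra.im_one, mul_one, mul_zero, add_zero, zero_mul, sub_zero,
      one_mul, ite_self] at h
    exact h
  have hz2 : ∀ k : Fin 2, M (Sum.inr k) iz2 = if k = 1 then Dm o o else 0 := by
    intro k
    have h := omnc2_entryS M o (⟨0, 1⟩ : Kq F A B) (hS o ⟨0, 1⟩) k
    rw [hrow, hll, if_pos rfl] at h
    simp only [mul_one, mul_zero, zero_mul, sub_zero, one_mul, ite_self, zero_add] at h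
    exact h
  have h00 : M iz1 iz1 = Dm o o := by
    have := hz1 0
    rwa [if_pos rfl] at this
  ext i j
  rw [Matrix.smul_apply, Matrix.one_apply, smul_eq_mul]
  rcases i with i | k <;> rcases j with j | k'
  · rw [hll, h00]
    by_cases hij : i = j
    · rw [if_pos hij, if_pos (by rw [hij]), mul_one]
    · rw [if_neg hij, if_neg (fun e => hij (Sum.inl.inj e)), mul_zero]
  · rw [if_neg (fun e => by cases e), mul_zero]
    exact hcol i k'
  · rw [if_neg (fun e => by cases e), mul_zero]
    exact hrow j k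
  · rw [h00]
    fin_cases k' <;> fin_cases k
    · simpa using hz1 0
    · simpa using hz1 1
    · simpa using hz2 0
    · simpa using hz2 1

end C

end Cfsg.Agent.Lib.Helper12.OMN
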