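import Mathlib
import Cfsg.Agent.Lib.Helper22.S6002.Defs

/-!
# S6002 row Y1 (`frame_alg`) (helper22)
-/

set_option autoImplicit false
open scoped MatrixGroups

namespace Cfsg.Agent.Lib.Helper22.S6002

variable {ι : Type} [Fintype ι] [DecidableEq ι] {F : Type*} [Field F]

section grp

variable {G : Type*} [Group G] [HasDistribNeg G]

theorem s6002y1_swap' {x y : G} (h : y * x = -(x * y)) (z : G) : y * (x * z) = -(x * (y * z)) := by
  rw [← mul_assoc, h, neg_mul, mul_assoc]

theorem s6002y1_sq' {x : G} (h : x * x = 1) (z : G) : x * (x * z) = z := by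
  rw [← mul_assoc, h, one_mul]

theorem s6002y1_flip {x y : G} (h : x * y = -(y * x)) : y * x = -(x * y) := by
  rw [h, neg_neg]

/-- the product of four pairwise anticommuting involutions is an involution anticommuting with each of them. -/
theorem s6002y1_e5 (a b c d : G) (ha : a * a = 1) (hb : b * b = 1) (hc : c * c = 1) (hd : d * d = 1)
    (hab : a * b = -(b * a)) (hac : a * c = -(c * a)) (had : a * d = -(d * a))
    (hbc : b * c = -(c * b)) (hbd : b * d = -(d * b)) (hcd : c * d = -(d * c)) :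
    (a * b * c * d) * (a * b * c * d) = 1 ∧ a * (a * b * c * d) = -((a * b * c * d) * a) ∧
      b * (a * b * c * d) = -((a * b * c * d) * b) ∧ c * (a * b * c * d) = -((a * b * c * d) * c) ∧
      d * (a * b * c * d) = -((a * b * c * d) * d) := by
  have hba := s6002y1_flip hab
  have hca := s6002y1_flip hac
  have hda := s6002y1_flip had
  have hcb := s6002y1_flip hbc
  have hdb := s6002y1_flip hbd
  have hdc := s6002y1_flip hcd
  refine ⟨?_, ?_, ?_, ?_, ?_⟩ <;>
  simp only [mul_assoc, hba, hca, hda, hcb, hdb, hdc, s6002y1_swap' hba, s6002y1_swap' hca, s6002y1_swap' hda,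
    s6002y1_swap' hcb, s6002y1_swap' hdb, s6002y1_swap' hdc, ha, hb, hc, hd, s6002y1_sq' ha, s6002y1_sq' hb,
    s6002y1_sq' hc, s6002y1_sq' hd, neg_mul, mul_neg, neg_neg, mul_one, one_mul]

end grp

/-- Y1. -/
theorem frame_alg {R : Subgroup (GL ι F)} (hE : ECtx R) (e : Fin 4 → GL ι F) (he : IsFrame R e) :
    ∃ e₅ : GL ι F, e₅ = e 0 * e 1 * e 2 * e 3 ∧ e₅ ∈ R ∧ e₅ * e₅ = 1 ∧
      (∀ i, e i * e₅ = -(e₅ * e i)) := by
  have h := s6002y1_e5 (e 0) (e 1) (e 2) (e 3) (he.sq 0) (he.sq 1) (he.sq 2) (he.sq 3)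
    (he.anti 0 1 (by decide)) (he.anti 0 2 (by decide)) (he.anti 0 3 (by decide))
    (he.anti 1 2 (by decide)) (he.anti 1 3 (by decide)) (he.anti 2 3 (by decide))
  refine ⟨e 0 * e 1 * e 2 * e 3, rfl, ?_, h.1, ?_⟩
  · exact R.mul_mem (R.mul_mem (R.mul_mem (he.mem 0) (he.mem 1)) (he.mem 2)) (he.mem 3)
  · intro i
    fin_cases i
    · exact h.2.1
    · exact h.2.2.1
    · exact h.2.2.2.1
    · exact h.2.2.2.2

end Cfsg.Agent.Lib.Helper22.S6002
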