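import Mathlib
import Cfsg.Agent.Lib.Helper22.S6002.Defs

/-!
# S6002 row Y2, part a: ring identities for `G = (E0-E1)(E1-E2)(E2-E3)(E3-E4)` (helper22)
-/

set_option autoImplicit false
set_option linter.unusedSimpArgs false
set_option linter.unusedSectionVars false
set_option linter.unusedVariables false

namespace Cfsg.Agent.Lib.Helper22.S6002

section ring

variable {F : Type*} [Field F] {A : Type*} [Ring A] [Algebra F A]

theorem s6002y2_tsq (a b : A) (ha : a * a = 1) (hb : b * b = 1) (hba : b * a = -(a * b)) :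
    (a - b) * (a - b) = (2 : F) • (1 : A) := by
  have h : (a - b) * (a - b) = a * a - a * b - b * a + b * b := by noncomm_ring
  rw [h, ha, hb, hba, two_smul]
  noncomm_ring

theorem s6002y2_ta (a b : A) (ha : a * a = 1) (hb : b * b = 1) (hba : b * a = -(a * b)) :
    (a - b) * a = -(b * (a - b)) := by
  rw [sub_mul, mul_sub, ha, hb, hba]
  noncomm_ring

theorem s6002y2_tb (a b : A) (ha : a * a = 1) (hb : b * b = 1) (hba : b * a = -(a * b)) :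
    (a - b) * b = -(a * (a - b)) := by
  rw [sub_mul, mul_sub, ha, hb]
  have : a * b = -(b * a) := by rw [hba, neg_neg]
  rw [this]
  noncomm_ring

theorem s6002y2_tc (a b c : A) (hca : c * a = -(a * c)) (hcb : c * b = -(b * c)) :
    (a - b) * c = -(c * (a - b)) := by
  rw [sub_mul, mul_sub, hca, hcb]
  noncomm_ring

theorem s6002y2_nn {p q x x' x'' : A} (h1 : p * x = -(x' * p)) (h2 : q * x' = -(x'' * q)) :
    (q * p) * x = x'' * (q * p) := by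
  rw [mul_assoc, h1, mul_neg, ← mul_assoc, h2, neg_mul, neg_neg, mul_assoc]

theorem s6002y2_pp {p q x x' x'' : A} (h1 : p * x = x' * p) (h2 : q * x' = x'' * q) :
    (q * p) * x = x'' * (q * p) := by
  rw [mul_assoc, h1, ← mul_assoc, h2, mul_assoc]

/-- the relations of five pairwise anticommuting involutions. -/
structure Cl5 (E0 E1 E2 E3 E4 : A) : Prop where
  s0 : E0 * E0 = 1
  s1 : E1 * E1 = 1
  s2 : E2 * E2 = 1
  s3 : E3 * E3 = 1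
  s4 : E4 * E4 = 1
  a10 : E1 * E0 = -(E0 * E1)
  a20 : E2 * E0 = -(E0 * E2)
  a30 : E3 * E0 = -(E0 * E3)
  a40 : E4 * E0 = -(E0 * E4)
  a21 : E2 * E1 = -(E1 * E2)
  a31 : E3 * E1 = -(E1 * E3)
  a41 : E4 * E1 = -(E1 * E4)
  a32 : E3 * E2 = -(E2 * E3)
  a42 : E4 * E2 = -(E2 * E4)
  a43 : E4 * E3 = -(E3 * E4)

theorem s6002y2_flipr {x y : A} (h : y * x = -(x * y)) : x * y = -(y * x) := by
  rw [h, neg_neg]

/-- `G E_k = E_{k+1} G`. -/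
theorem s6002y2_cycle {E0 E1 E2 E3 E4 : A} (h : Cl5 E0 E1 E2 E3 E4) :
    let G := ((E0 - E1) * (E1 - E2)) * ((E2 - E3) * (E3 - E4))
    G * E0 = E1 * G ∧ G * E1 = E2 * G ∧ G * E2 = E3 * G ∧ G * E3 = E4 * G ∧ G * E4 = E0 * G := by
  intro G
  -- t0 = E0 - E1, t1 = E1 - E2, t2 = E2 - E3, t3 = E3 - E4
  have t0_0 : (E0 - E1) * E0 = -(E1 * (E0 - E1)) := s6002y2_ta E0 E1 h.s0 h.s1 h.a10
  have t0_1 : (E0 - E1) * E1 = -(E0 * (E0 - E1)) := s6002y2_tb E0 E1 h.s0 h.s1 h.a10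
  have t0_2 : (E0 - E1) * E2 = -(E2 * (E0 - E1)) := s6002y2_tc E0 E1 E2 h.a20 h.a21
  have t0_3 : (E0 - E1) * E3 = -(E3 * (E0 - E1)) := s6002y2_tc E0 E1 E3 h.a30 h.a31
  have t0_4 : (E0 - E1) * E4 = -(E4 * (E0 - E1)) := s6002y2_tc E0 E1 E4 h.a40 h.a41
  have t1_0 : (E1 - E2) * E0 = -(E0 * (E1 - E2)) :=
    s6002y2_tc E1 E2 E0 (s6002y2_flipr h.a10) (s6002y2_flipr h.a20)
  have t1_1 : (E1 - E2) * E1 = -(E2 * (E1 - E2)) := s6002y2_ta E1 E2 h.s1 h.s2 h.a21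
  have t1_2 : (E1 - E2) * E2 = -(E1 * (E1 - E2)) := s6002y2_tb E1 E2 h.s1 h.s2 h.a21
  have t1_3 : (E1 - E2) * E3 = -(E3 * (E1 - E2)) := s6002y2_tc E1 E2 E3 h.a31 h.a32
  have t1_4 : (E1 - E2) * E4 = -(E4 * (E1 - E2)) := s6002y2_tc E1 E2 E4 h.a41 h.a42
  have t2_0 : (E2 - E3) * E0 = -(E0 * (E2 - E3)) :=
    s6002y2_tc E2 E3 E0 (s6002y2_flipr h.a20) (s6002y2_flipr h.a30)
  have t2_1 : (E2 - E3) * E1 = -(E1 * (E2 - E3)) :=
    s6002y2_tc E2 E3 E1 (s6002y2_flipr h.a21) (s6002y2_flipr h.a31)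
  have t2_2 : (E2 - E3) * E2 = -(E3 * (E2 - E3)) := s6002y2_ta E2 E3 h.s2 h.s3 h.a32
  have t2_3 : (E2 - E3) * E3 = -(E2 * (E2 - E3)) := s6002y2_tb E2 E3 h.s2 h.s3 h.a32
  have t2_4 : (E2 - E3) * E4 = -(E4 * (E2 - E3)) := s6002y2_tc E2 E3 E4 h.a42 h.a43
  have t3_0 : (E3 - E4) * E0 = -(E0 * (E3 - E4)) :=
    s6002y2_tc E3 E4 E0 (s6002y2_flipr h.a30) (s6002y2_flipr h.a40)
  have t3_1 : (E3 - E4) * E1 = -(E1 * (E3 - E4)) :=
    s6002y2_tc E3 E4 E1 (s6002y2_flipr h.a31) (s6002y2_flipr h.a41)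
  have t3_2 : (E3 - E4) * E2 = -(E2 * (E3 - E4)) :=
    s6002y2_tc E3 E4 E2 (s6002y2_flipr h.a32) (s6002y2_flipr h.a42)
  have t3_3 : (E3 - E4) * E3 = -(E4 * (E3 - E4)) := s6002y2_ta E3 E4 h.s3 h.s4 h.a43
  have t3_4 : (E3 - E4) * E4 = -(E3 * (E3 - E4)) := s6002y2_tb E3 E4 h.s3 h.s4 h.a43
  refine ⟨?_, ?_, ?_, ?_, ?_⟩
  · exact s6002y2_pp (s6002y2_nn t3_0 t2_0) (s6002y2_nn t1_0 t0_0)
  · exact s6002y2_pp (s6002y2_nn t3_1 t2_1) (s6002y2_nn t1_1 t0_2)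
  · exact s6002y2_pp (s6002y2_nn t3_2 t2_2) (s6002y2_nn t1_3 t0_3)
  · exact s6002y2_pp (s6002y2_nn t3_3 t2_4) (s6002y2_nn t1_4 t0_4)
  · exact s6002y2_pp (s6002y2_nn t3_4 t2_3) (s6002y2_nn t1_2 t0_1)

/-- `G' G = G G' = 16`. -/
theorem s6002y2_inv {E0 E1 E2 E3 E4 : A} (h : Cl5 E0 E1 E2 E3 E4) :
    let G := ((E0 - E1) * (E1 - E2)) * ((E2 - E3) * (E3 - E4))
    let G' := ((E3 - E4) * (E2 - E3)) * ((E1 - E2) * (E0 - E1))
    G' * G = (16 : F) • (1 : A) ∧ G * G' = (16 : F) • (1 : A) := by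
  intro G G'
  have q0 : (E0 - E1) * (E0 - E1) = (2 : F) • (1 : A) := s6002y2_tsq E0 E1 h.s0 h.s1 h.a10
  have q1 : (E1 - E2) * (E1 - E2) = (2 : F) • (1 : A) := s6002y2_tsq E1 E2 h.s1 h.s2 h.a21
  have q2 : (E2 - E3) * (E2 - E3) = (2 : F) • (1 : A) := s6002y2_tsq E2 E3 h.s2 h.s3 h.a32
  have q3 : (E3 - E4) * (E3 - E4) = (2 : F) • (1 : A) := s6002y2_tsq E3 E4 h.s3 h.s4 h.a43
  have key : ∀ (a b c d : A), a * a = (2 : F) • (1 : A) → b * b = (2 : F) • (1 : A) →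
      c * c = (2 : F) • (1 : A) → d * d = (2 : F) • (1 : A) →
      ((d * c) * (b * a)) * ((a * b) * (c * d)) = (16 : F) • (1 : A) := by
    intro a b c d ha hb hc hd
    have e1 : ((d * c) * (b * a)) * ((a * b) * (c * d)) = d * (c * (b * ((a * a) * b)) * c) * d := by
      simp only [mul_assoc]
    rw [e1, ha, smul_mul_assoc, one_mul, mul_smul_comm, hb, smul_smul, mul_smul_comm, mul_one, smul_mul_assoc, hc,
      smul_smul, mul_smul_comm, mul_one, smul_mul_assoc, hd, smul_smul]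
    norm_num
  exact ⟨key _ _ _ _ q0 q1 q2 q3, key _ _ _ _ q3 q2 q1 q0⟩

end ring

end Cfsg.Agent.Lib.Helper22.S6002
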