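import Mathlib
import Cfsg.Agent.Lib.Helper22.S6002.Defs
import Cfsg.Agent.Lib.Helper22.S6002Y1
import Cfsg.Agent.Lib.Helper22.S6002Y2a
import Cfsg.Agent.Lib.helper6.Symp

/-!
# S6002 row Y2 (`y0_exists`): an element of order 5 of `Sp_4 ∩ N(R)` from a Clifford frame (helper22)
-/

set_option autoImplicit false
set_option linter.unusedSimpArgs false
set_option linter.unusedSectionVars false
set_option linter.unusedVariables false
open scoped MatrixGroups

namespace Cfsg.Agent.Lib.Helper22.S6002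

open Cfsg.Agent.Lib.helper6 Matrix

variable {F : Type*} [Field F]

local notation "I4" => (Fin 2 ⊕ Fin 2)

/-- `M'` is the adjoint of `M` for the symplectic form. -/
def s6002y2_Adj (M M' : Matrix I4 I4 F) : Prop :=
  ∀ u v, Cfsg.sympForm 2 F (M *ᵥ u) v = Cfsg.sympForm 2 F u (M' *ᵥ v)

theorem s6002y2_adj_mul {M M' N N' : Matrix I4 I4 F} (h1 : s6002y2_Adj M M') (h2 : s6002y2_Adj N N') :
    s6002y2_Adj (M * N) (N' * M') := by
  intro u v
  rw [← Matrix.mulVec_mulVec, h1, h2, Matrix.mulVec_mulVec]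

theorem s6002y2_adj_sub {M M' N N' : Matrix I4 I4 F} (h1 : s6002y2_Adj M M') (h2 : s6002y2_Adj N N') :
    s6002y2_Adj (M - N) (M' - N') := by
  intro u v
  rw [Matrix.sub_mulVec, Matrix.sub_mulVec, sympForm_sub_left, sympForm_sub_right, h1, h2]

/-- an involution of `Sp_4` is self-adjoint. -/
theorem s6002y2_adj_inv (x : GL I4 F) (hx : x ∈ Cfsg.spGL 2 F) (hx2 : x * x = 1) :
    s6002y2_Adj (x : Matrix I4 I4 F) (x : Matrix I4 I4 F) := by
  intro u v
  have h := hx ((x : Matrix I4 I4 F) *ᵥ u) v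
  have h2 : (x : Matrix I4 I4 F) * (x : Matrix I4 I4 F) = 1 := by
    rw [← Units.val_mul, hx2, Units.val_one]
  change Cfsg.sympForm 2 F ((x : Matrix I4 I4 F) *ᵥ ((x : Matrix I4 I4 F) *ᵥ u)) ((x : Matrix I4 I4 F) *ᵥ v) =
    Cfsg.sympForm 2 F ((x : Matrix I4 I4 F) *ᵥ u) v at h
  rw [Matrix.mulVec_mulVec, h2, Matrix.one_mulVec] at h
  exact h.symm

/-- a scalar of `Sp_4` has square one. -/
theorem s6002y2_sp_scal (x : GL I4 F) (hx : x ∈ Cfsg.spGL 2 F) (c : F)
    (hc : (x : Matrix I4 I4 F) = c • (1 : Matrix I4 I4 F)) : c * c = 1 := by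
  have hu : (Pi.single (Sum.inl 0) 1 : I4 → F) ≠ 0 := by
    intro h
    have := congrFun h (Sum.inl 0)
    simp at this
  obtain ⟨v, hv⟩ := sympForm_nondeg 2 (Pi.single (Sum.inl 0) 1 : I4 → F) hu
  have h := hx (Pi.single (Sum.inl 0) 1) v
  change Cfsg.sympForm 2 F ((x : Matrix I4 I4 F) *ᵥ _) ((x : Matrix I4 I4 F) *ᵥ _) = _ at h
  rw [hc, Matrix.smul_mulVec, Matrix.smul_mulVec, Matrix.one_mulVec, Matrix.one_mulVec, sympForm_smul_left,
    sympForm_smul_right, ← mul_assoc] at h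
  have h3 : (c * c - 1) * Cfsg.sympForm 2 F (Pi.single (Sum.inl 0) 1) v = 0 := by
    rw [sub_mul, h, one_mul, sub_self]
  rcases mul_eq_zero.mp h3 with h4 | h4
  · exact sub_eq_zero.mp h4
  · exact absurd h4 hv

/-- normalizer membership from generators. -/
theorem s6002y2_mem_nrm {G : Type*} [Group G] (R : Subgroup G) [Finite R] (S : Set G)
    (hcl : R = Subgroup.closure S) (n : G) (hn : ∀ s ∈ S, n * s * n⁻¹ ∈ R) :
    n ∈ Subgroup.normalizer (R : Set G) := by
  have hle : R ≤ R.comap (MulAut.conj n).toMonoidHom := by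
    have h0 : Subgroup.closure S ≤ R.comap (MulAut.conj n).toMonoidHom := by
      rw [Subgroup.closure_le]
      intro t ht
      rw [SetLike.mem_coe, Subgroup.mem_comap]
      simpa using hn t ht
    rwa [← hcl] at h0
  have hconj : ∀ h ∈ R, n * h * n⁻¹ ∈ R := by
    intro h hh
    have := hle hh
    rw [Subgroup.mem_comap] at this
    simpa using this
  rw [Subgroup.mem_normalizer_iff_map_conj_eq]
  apply Subgroup.eq_of_le_of_card_ge
  · rintro _ ⟨h, hh, rfl⟩
    simpa using hconj h hh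
  · apply le_of_eq
    exact (Subgroup.card_map_of_injective (MulAut.conj n).injective).symm

end Cfsg.Agent.Lib.Helper22.S6002

namespace Cfsg.Agent.Lib.Helper22.S6002

open Cfsg.Agent.Lib.helper6 Matrix

variable {F : Type*} [Field F]

local notation "I4" => (Fin 2 ⊕ Fin 2)

theorem s6002y2_val_anti {x y : GL I4 F} (h : x * y = -(y * x)) :
    (x : Matrix I4 I4 F) * (y : Matrix I4 I4 F) = -((y : Matrix I4 I4 F) * (x : Matrix I4 I4 F)) := by
  have := congrArg Units.val h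
  rwa [Units.val_mul, Units.val_neg, Units.val_mul] at this

theorem s6002y2_val_sq {x : GL I4 F} (h : x * x = 1) :
    (x : Matrix I4 I4 F) * (x : Matrix I4 I4 F) = 1 := by
  have := congrArg Units.val h
  rwa [Units.val_mul, Units.val_one] at this

/-- Y2. -/
theorem y0_exists {R : Subgroup (GL (Fin 2 ⊕ Fin 2) F)} (hE : ECtx R) (hRf : R ≤ Cfsg.spGL 2 F)
    (e : Fin 4 → GL (Fin 2 ⊕ Fin 2) F) (he : IsFrame R e) :
    ∃ y : GL (Fin 2 ⊕ Fin 2) F, y ∈ Cfsg.spGL 2 F ∧ y ∈ Nrm R ∧ y ^ 5 = 1 ∧ y ≠ 1 := by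
  classical
  obtain ⟨e5, he5, he5R, he5sq, he5anti⟩ := frame_alg hE e he
  have h2 : (2 : F) ≠ 0 := hE.two
  have h4 : (4 : F) ≠ 0 := by
    have : (4 : F) = 2 * 2 := by norm_num
    rw [this]
    exact mul_ne_zero h2 h2
  have : Finite R := Nat.finite_of_card_ne_zero (by rw [hE.card]; norm_num)
  -- the relations
  have hcl : Cl5 (e 0 : Matrix I4 I4 F) (e 1 : Matrix I4 I4 F) (e 2 : Matrix I4 I4 F) (e 3 : Matrix I4 I4 F)
      (e5 : Matrix I4 I4 F) :=
    { s0 := s6002y2_val_sq (he.sq 0)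
      s1 := s6002y2_val_sq (he.sq 1)
      s2 := s6002y2_val_sq (he.sq 2)
      s3 := s6002y2_val_sq (he.sq 3)
      s4 := s6002y2_val_sq he5sq
      a10 := s6002y2_val_anti (he.anti 1 0 (by decide))
      a20 := s6002y2_val_anti (he.anti 2 0 (by decide))
      a30 := s6002y2_val_anti (he.anti 3 0 (by decide))
      a40 := s6002y2_flipr (s6002y2_val_anti (he5anti 0))
      a21 := s6002y2_val_anti (he.anti 2 1 (by decide))
      a31 := s6002y2_val_anti (he.anti 3 1 (by decide))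
      a41 := s6002y2_flipr (s6002y2_val_anti (he5anti 1))
      a32 := s6002y2_val_anti (he.anti 3 2 (by decide))
      a42 := s6002y2_flipr (s6002y2_val_anti (he5anti 2))
      a43 := s6002y2_flipr (s6002y2_val_anti (he5anti 3)) }
  set E0 : Matrix I4 I4 F := (e 0 : Matrix I4 I4 F) with hE0
  set E1 : Matrix I4 I4 F := (e 1 : Matrix I4 I4 F) with hE1
  set E2 : Matrix I4 I4 F := (e 2 : Matrix I4 I4 F) with hE2
  set E3 : Matrix I4 I4 F := (e 3 : Matrix I4 I4 F) with hE3
  set E4 : Matrix I4 I4 F := (e5 : Matrix I4 I4 F) with hE4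
  set G : Matrix I4 I4 F := ((E0 - E1) * (E1 - E2)) * ((E2 - E3) * (E3 - E4)) with hG
  set G' : Matrix I4 I4 F := ((E3 - E4) * (E2 - E3)) * ((E1 - E2) * (E0 - E1)) with hG'
  obtain ⟨hGG1, hGG2⟩ := s6002y2_inv (F := F) hcl
  obtain ⟨c0, c1, c2, c3, c4⟩ := s6002y2_cycle hcl
  change G' * G = (16 : F) • (1 : Matrix I4 I4 F) at hGG1
  change G * G' = (16 : F) • (1 : Matrix I4 I4 F) at hGG2
  change G * E0 = E1 * G at c0
  change G * E1 = E2 * G at c1
  change G * E2 = E3 * G at c2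
  change G * E3 = E4 * G at c3
  change G * E4 = E0 * G at c4
  -- the element y'
  have hinv1 : ((4 : F)⁻¹ • G) * ((4 : F)⁻¹ • G') = 1 := by
    rw [smul_mul_assoc, mul_smul_comm, hGG2, smul_smul, smul_smul]
    have : (4 : F)⁻¹ * (4 : F)⁻¹ * 16 = 1 := by
      field_simp
      norm_num
    rw [this, one_smul]
  have hinv2 : ((4 : F)⁻¹ • G') * ((4 : F)⁻¹ • G) = 1 := by
    rw [smul_mul_assoc, mul_smul_comm, hGG1, smul_smul, smul_smul]
    have : (4 : F)⁻¹ * (4 : F)⁻¹ * 16 = 1 := by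
      field_simp
      norm_num
    rw [this, one_smul]
  set y' : GL I4 F := ⟨(4 : F)⁻¹ • G, (4 : F)⁻¹ • G', hinv1, hinv2⟩ with hy'
  have hy'val : (y' : Matrix I4 I4 F) = (4 : F)⁻¹ • G := rfl
  -- adjoints
  have a0 : s6002y2_Adj E0 E0 := s6002y2_adj_inv (e 0) (hRf (he.mem 0)) (he.sq 0)
  have a1 : s6002y2_Adj E1 E1 := s6002y2_adj_inv (e 1) (hRf (he.mem 1)) (he.sq 1)
  have a2 : s6002y2_Adj E2 E2 := s6002y2_adj_inv (e 2) (hRf (he.mem 2)) (he.sq 2)
  have a3 : s6002y2_Adj E3 E3 := s6002y2_adj_inv (e 3) (hRf (he.mem 3)) (he.sq 3)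
  have a4 : s6002y2_Adj E4 E4 := s6002y2_adj_inv e5 (hRf he5R) he5sq
  have aG : s6002y2_Adj G G' :=
    s6002y2_adj_mul (s6002y2_adj_mul (s6002y2_adj_sub a0 a1) (s6002y2_adj_sub a1 a2))
      (s6002y2_adj_mul (s6002y2_adj_sub a2 a3) (s6002y2_adj_sub a3 a4))
  have hy'sp : y' ∈ Cfsg.spGL 2 F := by
    intro u v
    change Cfsg.sympForm 2 F ((y' : Matrix I4 I4 F) *ᵥ u) ((y' : Matrix I4 I4 F) *ᵥ v) = Cfsg.sympForm 2 F u v
    rw [hy'val, Matrix.smul_mulVec, Matrix.smul_mulVec, sympForm_smul_left, sympForm_smul_right, aG,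
      Matrix.mulVec_mulVec, hGG1, Matrix.smul_mulVec, Matrix.one_mulVec, sympForm_smul_right]
    field_simp
    norm_num
  -- conjugation of the generators
  have conjrel : ∀ (x z : GL I4 F), G * (x : Matrix I4 I4 F) = (z : Matrix I4 I4 F) * G → y' * x = z * y' := by
    intro x z hxz
    apply Units.ext
    rw [Units.val_mul, Units.val_mul, hy'val, smul_mul_assoc, mul_smul_comm, hxz]
  have k0 : y' * e 0 = e 1 * y' := conjrel _ _ c0
  have k1 : y' * e 1 = e 2 * y' := conjrel _ _ c1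
  have k2 : y' * e 2 = e 3 * y' := conjrel _ _ c2
  have k3 : y' * e 3 = e5 * y' := conjrel _ _ c3
  have k4 : y' * e5 = e 0 * y' := conjrel _ _ c4
  have hy'N : y' ∈ Nrm R := by
    apply s6002y2_mem_nrm R (Set.range e) he.gen y'
    rintro _ ⟨i, rfl⟩
    fin_cases i
    · show y' * e 0 * y'⁻¹ ∈ R
      rw [k0, mul_inv_cancel_right]
      exact he.mem 1
    · show y' * e 1 * y'⁻¹ ∈ R
      rw [k1, mul_inv_cancel_right]
      exact he.mem 2
    · show y' * e 2 * y'⁻¹ ∈ R
      rw [k2, mul_inv_cancel_right]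
      exact he.mem 3
    · show y' * e 3 * y'⁻¹ ∈ R
      rw [k3, mul_inv_cancel_right]
      exact he5R
  -- the fifth power is central
  have s0 : SemiconjBy y' (e 0) (e 1) := k0
  have s1 : SemiconjBy y' (e 1) (e 2) := k1
  have s2 : SemiconjBy y' (e 2) (e 3) := k2
  have s3 : SemiconjBy y' (e 3) e5 := k3
  have s4 : SemiconjBy y' e5 (e 0) := k4
  have hpow : y' ^ 5 = y' * (y' * (y' * (y' * y'))) := by
    rw [show (5 : ℕ) = 1 + 1 + 1 + 1 + 1 from rfl]
    simp only [pow_succ', pow_zero, mul_one]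
  have z0 : SemiconjBy (y' ^ 5) (e 0) (e 0) := by
    rw [hpow]
    exact s4.mul_left (s3.mul_left (s2.mul_left (s1.mul_left s0)))
  have z1 : SemiconjBy (y' ^ 5) (e 1) (e 1) := by
    rw [hpow]
    exact s0.mul_left (s4.mul_left (s3.mul_left (s2.mul_left s1)))
  have z2 : SemiconjBy (y' ^ 5) (e 2) (e 2) := by
    rw [hpow]
    exact s1.mul_left (s0.mul_left (s4.mul_left (s3.mul_left s2)))
  have z3 : SemiconjBy (y' ^ 5) (e 3) (e 3) := by
    rw [hpow]
    exact s2.mul_left (s1.mul_left (s0.mul_left (s4.mul_left s3)))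
  have hcent : ∀ b ∈ R, y' ^ 5 * b = b * y' ^ 5 := by
    have hle : R ≤ Subgroup.centralizer ({y' ^ 5} : Set (GL I4 F)) := by
      rw [he.gen, Subgroup.closure_le]
      rintro _ ⟨i, rfl⟩
      rw [SetLike.mem_coe, Subgroup.mem_centralizer_iff]
      intro h hh
      rw [Set.mem_singleton_iff] at hh
      subst hh
      fin_cases i
      · exact z0
      · exact z1
      · exact z2
      · exact z3
    intro b hb
    have := hle hb
    rw [Subgroup.mem_centralizer_iff] at this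
    exact this _ (Set.mem_singleton _)
  obtain ⟨c, hc⟩ := hE.commutant ((y' ^ 5 : GL I4 F) : Matrix I4 I4 F) (by
    intro b hb
    have := congrArg Units.val (hcent b hb)
    rwa [Units.val_mul, Units.val_mul] at this)
  have hzsp : y' ^ 5 ∈ Cfsg.spGL 2 F := (Cfsg.spGL 2 F).pow_mem hy'sp 5
  have hcc : c * c = 1 := s6002y2_sp_scal _ hzsp c hc
  have hne01 : e 0 ≠ e 1 := by
    intro h01
    have h := he.anti 0 1 (by decide)
    rw [← h01, he.sq 0] at h
    have h' := congrArg Units.val h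
    rw [Units.val_neg, Units.val_one] at h'
    have h'' := congrFun (congrFun h' (Sum.inl 0)) (Sum.inl 0)
    simp only [Matrix.one_apply_eq, Matrix.neg_apply] at h''
    apply h2
    have : (2 : F) = 1 + 1 := by norm_num
    rw [this]
    nth_rewrite 1 [h'']
    ring
  rcases mul_self_eq_one_iff.mp hcc with rfl | rfl
  · refine ⟨y', hy'sp, hy'N, ?_, ?_⟩
    · apply Units.ext
      rw [hc, one_smul, Units.val_one]
    · intro h1
      rw [h1, one_mul, mul_one] at k0
      exact hne01 k0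
  · have hneg1R : (-1 : GL I4 F) ∈ R := hE.neg
    refine ⟨-y', ?_, ?_, ?_, ?_⟩
    · have : -y' = (-1) * y' := by rw [neg_one_mul]
      rw [this]
      exact (Cfsg.spGL 2 F).mul_mem (hRf hneg1R) hy'sp
    · have : -y' = (-1) * y' := by rw [neg_one_mul]
      rw [this]
      exact (Nrm R).mul_mem (Subgroup.le_normalizer hneg1R) hy'N
    · have h5 : (-y') ^ 5 = -(y' ^ 5) := Odd.neg_pow (by decide) y'
      rw [h5]
      apply Units.ext
      rw [Units.val_neg, hc, Units.val_one, neg_smul, one_smul, neg_neg]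
    · intro h1
      have hy1 : y' = -1 := by rw [← h1, neg_neg]
      rw [hy1, neg_one_mul, mul_neg_one, neg_inj] at k0
      exact hne01 k0

end Cfsg.Agent.Lib.Helper22.S6002
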