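import Mathlib
import Cfsg.Agent.Lib.Helper22.S6002.Defs
import Cfsg.Agent.Lib.Helper22.S6002Y2

/-!
# S6002 row M0 (`sp_scal`) (helper22)
-/

set_option autoImplicit false
open scoped MatrixGroups

namespace Cfsg.Agent.Lib.Helper22.S6002

variable {F : Type*} [Field F]

/-- M0. A scalar of `Sp_4(F)` is `± 1`. -/
theorem sp_scal (x : GL (Fin 2 ⊕ Fin 2) F) (hx : x ∈ Cfsg.spGL 2 F) (hs : IsScal x) : x = 1 ∨ x = -1 := by
  obtain ⟨c, hc⟩ := hs
  have hcc := s6002y2_sp_scal x hx c hc
  rcases mul_self_eq_one_iff.mp hcc with rfl | rfl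
  · left
    apply Units.ext
    rw [hc, one_smul, Units.val_one]
  · right
    apply Units.ext
    rw [hc, Units.val_neg, Units.val_one, neg_smul, one_smul]

end Cfsg.Agent.Lib.Helper22.S6002
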