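import Mathlib
import Cfsg.Prelude.Def_Classical
import Cfsg.Agent.Lib.Helper1.S8U.Defs
import Cfsg.Agent.Lib.helper14.S8UORONE
import Cfsg.Agent.Lib.helper14.S8UORODD
import Cfsg.Agent.Lib.helper23.S8UORSUM
import Cfsg.Agent.Lib.Helper1.S8UORXFER

set_option autoImplicit false

/-!
# Project S8U, row TGEIGHT (core): the statements of ORU4 (first part) and ORINV enter as hypotheses.
-/

namespace Cfsg.Agent.Lib.Helper1.S8U

open Matrix Module Polynomial Cfsg.Agent.Lib.Helper16 Cfsg.Agent.Lib.Helper13.OTS Cfsg.Agent.Lib.Helper19.SO8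
  Cfsg.Agent.Lib.helper14.OrthInv

theorem s8utgeight_cast {F : Type*} [Field F] [Fintype F] {d d' : ℕ} {s s' : ℤ} {n n' p p' : ℕ}
    {c : Prop} (h : OR F d s n p c) (hd : d = d') (hs : s = s') (hn : n = n') (hp : p = p') :
    OR F d' s' n' p' c := by
  subst hd hs hn hp
  exact h

theorem s8utgeight_lcm4 (m : ℕ) (hm : Odd m) : Nat.lcm 4 m = 4 * m := by
  have h1 : Nat.Coprime 2 m := Nat.coprime_two_left.mpr hm
  have h2 : Nat.Coprime (2 ^ 2) m := Nat.Coprime.pow_left 2 h1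
  have h3 : Nat.Coprime 4 m := by
    have e : (2 : ℕ) ^ 2 = 4 := by norm_num
    rw [e] at h2
    exact h2
  exact h3.lcm_eq_mul

theorem s8utgeight_lcm2 (m : ℕ) (hm : Odd m) : Nat.lcm m 2 = 2 * m := by
  have h1 : Nat.Coprime m 2 := Nat.coprime_two_right.mpr hm
  rw [h1.lcm_eq_mul, mul_comm]

theorem s8utgeight_lcm42 (m : ℕ) (hm : Odd m) : Nat.lcm 4 (2 * m) = 4 * m := by
  have e : (4 : ℕ) = 2 * 2 := by norm_num
  rw [e, Nat.lcm_mul_left, Nat.lcm_comm, s8utgeight_lcm2 m hm]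
  ring

/-- core of `tgt_eight` -/
theorem s8utgeight_core {F : Type*} [Field F] [Fintype F] [CharP F 2] (a b : F) (hab : Aniso a b)
    (m : ℕ) (hm : Odd m) (s₁ : ℤ) (hs : s₁ = 1 ∨ s₁ = -1) (h₁ : OReal F 1 s₁ m)
    (h₂ : OReal F 1 (-s₁) 2) (hU4 : ∃ p : ℕ, OR F 2 1 4 p True) (hINV : OR F 1 (-s₁) 2 1 False) :
    ∃ g ∈ Hd a b hab, orderOf g = 4 * m ∧ geoM g (4 * m) ≠ 0 := by
  obtain ⟨p, hA⟩ := hU4
  have hp : p < 2 := by
    obtain ⟨ι, i1, i2, Qs, hs', g, h1, h2, h3⟩ := hA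
    omega
  have hB : OR F 1 s₁ m 0 False := or_odd 1 s₁ m hm h₁
  have hss : (1 : ℤ) * (s₁ * -s₁) = -1 := by
    rcases hs with rfl | rfl <;> norm_num
  have hdiv : 4 * m / 4 = m := Nat.mul_div_cancel_left m (by norm_num)
  have hfin : OR F 4 (-1) (4 * m) 0 True := by
    have hp' : p = 0 ∨ p = 1 := by omega
    rcases hp' with rfl | rfl
    · obtain ⟨ι, i1, i2, Qs, hQs, g2, _⟩ := h₂
      have hC : OR F 1 (-s₁) 1 0 True := or_one Qs 1 (-s₁) hQs le_rfl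
      have hBC := or_sum 1 1 le_rfl s₁ (-s₁) m 1 0 0 False True hB hC
      have hABC := or_sum 2 (1 + 1) (by norm_num) 1 (s₁ * -s₁) 4 (Nat.lcm m 1) 0 ((0 + 0) % 2) True _
        hA hBC
      have e : Nat.lcm 4 (Nat.lcm m 1) = 4 * m := by
        rw [Nat.lcm_one_right, s8utgeight_lcm4 m hm]
      have hcast := s8utgeight_cast hABC (d' := 4) (s' := -1) (n' := 4 * m) (p' := 0) rfl hss e rfl
      refine or_mono (fun _ => Or.inl ⟨trivial, ?_⟩) hcast
      rw [e, hdiv]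
      exact hm
    · have hBC := or_sum 1 1 le_rfl s₁ (-s₁) m 2 0 1 False False hB hINV
      have hABC := or_sum 2 (1 + 1) (by norm_num) 1 (s₁ * -s₁) 4 (Nat.lcm m 2) 1 ((0 + 1) % 2) True _
        hA hBC
      have e : Nat.lcm 4 (Nat.lcm m 2) = 4 * m := by
        rw [s8utgeight_lcm2 m hm, s8utgeight_lcm42 m hm]
      have hcast := s8utgeight_cast hABC (d' := 4) (s' := -1) (n' := 4 * m) (p' := 0) rfl hss e rfl
      refine or_mono (fun _ => Or.inl ⟨trivial, ?_⟩) hcast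
      rw [e, hdiv]
      exact hm
  obtain ⟨g, hg, ho, hgeo⟩ := or_xfer a b hab (4 * m) True hfin
  exact ⟨g, hg, ho, hgeo trivial⟩

end Cfsg.Agent.Lib.Helper1.S8U
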