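import Mathlib
import Cfsg.Prelude.Def_Classical
import Cfsg.Agent.Lib.Helper1.S8U.Defs
import Cfsg.Agent.Lib.Helper22.S8UTGEIGHTcore
import Cfsg.Agent.Lib.helper17.S8UORINV
import Cfsg.Agent.Lib.helper23.S8UORU4

set_option autoImplicit false

/-!
# Project S8U, row TGEIGHT: `tgt_eight` (verbatim from `Helper1/S8U/Skel.lean.txt`).
-/

namespace Cfsg.Agent.Lib.Helper1.S8U

open Matrix Module Polynomial Cfsg.Agent.Lib.Helper16 Cfsg.Agent.Lib.Helper13.OTS Cfsg.Agent.Lib.Helper19.SO8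
  Cfsg.Agent.Lib.helper14.OrthInv

/-- TGEIGHT [M-L]: `h₁ : OReal F 1 s₁ m` a torus (`s₁ = 1`, `m = q - 1`: SO8 `oreal_splus 1`; `s₁ = -1`, `m = q + 1`: `oreal_sminus 1`), `h₂ : OReal F 1 (-s₁) 2` an involution of the complementary plane (`oreal_iminus` resp. `oreal_iplus`).
ORU4 gives `A` (order 4, parity `p`, `geoM ≠ 0`); `B` from ORODD `h₁` (parity 0); `C = ` ORONE (order 1, parity 0) if `p = 0`, `C = ` ORINV `h₂` (order 2, parity 1) if `p = 1`.  ORSUM twice: `A ⊕ (B ⊕ C)` has dimension `2 (2 + (1 + 1))`, type `1 * (s₁ * -s₁) = -1`,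
order `lcm 4 (lcm m |C|) = 4 m`, parity `0`, and `geoM ≠ 0` from `A` (`4 m / 4 = m` odd).  ORXFER. -/
theorem tgt_eight {F : Type*} [Field F] [Fintype F] [CharP F 2] (a b : F) (hab : Aniso a b) (m : ℕ)
    (hm : Odd m) (s₁ : ℤ) (hs : s₁ = 1 ∨ s₁ = -1) (h₁ : OReal F 1 s₁ m) (h₂ : OReal F 1 (-s₁) 2) :
    ∃ g ∈ Hd a b hab, orderOf g = 4 * m ∧ geoM g (4 * m) ≠ 0 :=
  s8utgeight_core a b hab m hm s₁ hs h₁ h₂ or_u4.1 (or_inv (-s₁) h₂)

end Cfsg.Agent.Lib.Helper1.S8U
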