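import Mathlib
import Cfsg.Prelude.Def_Classical
import Cfsg.Agent.Lib.Helper19.SO8.Defs

set_option autoImplicit false

/-!
# Project SO8 (S3589), row A2 (`aniso_facts`), verbatim from `Helper19/SO8/Skel.lean.txt`.  (helper22)
-/

namespace Cfsg.Agent.Lib.Helper19.SO8

open Polynomial

/-- A2 [S] -/
theorem aniso_facts {F : Type*} [Field F] [Fintype F] [CharP F 2] (a b : F)
    (han : ∀ z₁ z₂ : F, z₁ ^ 2 + a * z₁ * z₂ + b * z₂ ^ 2 = 0 → z₁ = 0 ∧ z₂ = 0) :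
    a ≠ 0 ∧ ∃ c : F, ∀ z₁ z₂ : F, z₁ ^ 2 + 1 * z₁ * z₂ + c * z₂ ^ 2 = 0 → z₁ = 0 ∧ z₂ = 0 := by
  have h2 : (2 : F) = 0 := by
    have := CharP.cast_eq_zero F 2
    exact_mod_cast this
  have ha : a ≠ 0 := by
    intro ha
    have hrc : ringChar F = 2 := ringChar.eq F 2
    obtain ⟨s, hs⟩ := FiniteField.isSquare_of_char_two hrc b
    have h := han s 1 (by
      rw [ha, hs]
      have : s * s + s * s = 2 * (s * s) := by ring
      calc s ^ 2 + 0 * s * 1 + s * s * 1 ^ 2 = s * s + s * s := by ring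
        _ = 2 * (s * s) := this
        _ = 0 := by rw [h2, zero_mul])
    exact one_ne_zero h.2
  refine ⟨ha, b / a ^ 2, ?_⟩
  intro z₁ z₂ h
  have h' : (a * z₁) ^ 2 + a * (a * z₁) * z₂ + b * z₂ ^ 2 = 0 := by
    have : (a * z₁) ^ 2 + a * (a * z₁) * z₂ + b * z₂ ^ 2 =
        a ^ 2 * (z₁ ^ 2 + 1 * z₁ * z₂ + b / a ^ 2 * z₂ ^ 2) := by
      field_simp
    rw [this, h, mul_zero]
  obtain ⟨h1, h2'⟩ := han (a * z₁) z₂ h'
  refine ⟨?_, h2'⟩
  rcases mul_eq_zero.mp h1 with h | h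
  · exact absurd h ha
  · exact h

end Cfsg.Agent.Lib.Helper19.SO8
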