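import Mathlib
import Cfsg.Prelude.Def_Classical
import Cfsg.Agent.Lib.Helper19.SO8.Defs

set_option autoImplicit false
set_option linter.unusedVariables false
set_option linter.unreachableTactic false
set_option linter.unusedTactic false

/-!
# Project SO8 (S3589), row ARITH (`arith`), verbatim from `Helper19/SO8/Skel.lean.txt`.  (helper22)
-/

namespace Cfsg.Agent.Lib.Helper19.SO8

open Polynomial

theorem so8arith_d1 (q : ℕ) (hq : 2 ≤ q) : q - 1 ∣ q ^ 2 - 1 := by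
  obtain ⟨r, rfl⟩ : ∃ r, q = r + 1 := ⟨q - 1, by omega⟩
  refine ⟨r + 2, ?_⟩
  have : (r + 1) ^ 2 = (r + 1 - 1) * (r + 2) + 1 := by
    rw [Nat.add_sub_cancel]; ring
  omega

theorem so8arith_d2 (q : ℕ) (hq : 2 ≤ q) : q + 1 ∣ q ^ 2 - 1 := by
  obtain ⟨r, rfl⟩ : ∃ r, q = r + 1 := ⟨q - 1, by omega⟩
  refine ⟨r, ?_⟩
  have : (r + 1) ^ 2 = (r + 1 + 1) * r + 1 := by ring
  omega

theorem so8arith_d3 (q : ℕ) (hq : 2 ≤ q) : q - 1 ∣ q ^ 3 - 1 := by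
  have := Nat.sub_dvd_pow_sub_pow q 1 3
  rwa [one_pow] at this

theorem so8arith_d4 (q : ℕ) (hq : 2 ≤ q) : q + 1 ∣ q ^ 3 + 1 := by
  have := Odd.nat_add_dvd_pow_add_pow q 1 (n := 3) (by decide)
  rwa [one_pow] at this

theorem so8arith_d5 (q : ℕ) (hq : 2 ≤ q) : q ^ 2 - 1 ∣ q ^ 4 - 1 := by
  have := Nat.sub_dvd_pow_sub_pow (q ^ 2) 1 2
  rwa [one_pow, ← pow_mul] at this

theorem so8arith_d6 (q : ℕ) (hq : 2 ≤ q) : q ^ 2 + 1 ∣ q ^ 4 - 1 := by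
  refine ⟨q ^ 2 - 1, ?_⟩
  have h1 : 1 ≤ q ^ 2 := Nat.one_le_pow _ _ (by omega)
  obtain ⟨s, hs⟩ : ∃ s, q ^ 2 = s + 1 := ⟨q ^ 2 - 1, by omega⟩
  have h4 : q ^ 4 = (q ^ 2) ^ 2 := by ring
  rw [h4, hs, Nat.add_sub_cancel]
  have : (s + 1) ^ 2 = (s + 1 + 1) * s + 1 := by ring
  omega

theorem so8arith_d7 (q : ℕ) (hq : 2 ≤ q) : q - 1 ∣ q ^ 4 - 1 :=
  (so8arith_d1 q hq).trans (so8arith_d5 q hq)

theorem so8arith_d8 (q : ℕ) (hq : 2 ≤ q) : q + 1 ∣ q ^ 4 - 1 :=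
  (so8arith_d2 q hq).trans (so8arith_d5 q hq)

/-- the arithmetic core with plain naturals -/
theorem so8arith_core (q : ℕ) (hq : 2 ≤ q) (k a b c d e3 f3 e4 f4 : ℕ)
    (hsum : k + (a + b) + 2 * (c + d) + 3 * (e3 + f3) + 4 * (e4 + f4) = 4) :
    ∃ N ∈ T8 q, ∃ m t : ℕ, N = m * 2 ^ t ∧
      (a ≠ 0 → q - 1 ∣ m) ∧ (b ≠ 0 → q + 1 ∣ m) ∧ (c ≠ 0 → q ^ 2 - 1 ∣ m) ∧
      (d ≠ 0 → q ^ 2 + 1 ∣ m) ∧ (e3 ≠ 0 → q ^ 3 - 1 ∣ m) ∧ (f3 ≠ 0 → q ^ 3 + 1 ∣ m) ∧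
      (e4 ≠ 0 → q ^ 4 - 1 ∣ m) ∧ (f4 ≠ 0 → q ^ 4 + 1 ∣ m) ∧
      2 * k ≤ 2 ^ t ∧ a ≤ 2 ^ t ∧ b ≤ 2 ^ t ∧ c ≤ 2 ^ t ∧ d ≤ 2 ^ t ∧ e3 ≤ 2 ^ t ∧ f3 ≤ 2 ^ t ∧
      e4 ≤ 2 ^ t ∧ f4 ≤ 2 ^ t := by
  have D1 := so8arith_d1 q hq
  have D2 := so8arith_d2 q hq
  have D3 := so8arith_d3 q hq
  have D4 := so8arith_d4 q hq
  have D5 := so8arith_d5 q hq
  have D6 := so8arith_d6 q hq
  have D7 := so8arith_d7 q hq
  have D8 := so8arith_d8 q hq
  by_cases h4t : e4 ≠ 0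
  · refine ⟨q ^ 4 - 1, by simp [T8], q ^ 4 - 1, 0, by ring, ?_, ?_, ?_, ?_, ?_, ?_, ?_, ?_, ?_, ?_,
      ?_, ?_, ?_, ?_, ?_, ?_, ?_⟩
    all_goals first
      | omega
      | (intro h; exfalso; omega)
      | (intro _; exact dvd_refl _)
  push Not at h4t
  by_cases h4f : f4 ≠ 0
  · refine ⟨q ^ 4 + 1, by simp [T8], q ^ 4 + 1, 0, by ring, ?_, ?_, ?_, ?_, ?_, ?_, ?_, ?_, ?_, ?_,
      ?_, ?_, ?_, ?_, ?_, ?_, ?_⟩
    all_goals first
      | omega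
      | (intro h; exfalso; omega)
      | (intro _; exact dvd_refl _)
  push Not at h4f
  by_cases h3t : e3 ≠ 0
  · by_cases hk : k = 1
    · refine ⟨2 * (q ^ 3 - 1), by simp [T8], q ^ 3 - 1, 1, by ring, ?_, ?_, ?_, ?_, ?_, ?_, ?_, ?_,
        ?_, ?_, ?_, ?_, ?_, ?_, ?_, ?_, ?_⟩
      all_goals first
        | omega
        | (intro h; exfalso; omega)
        | (intro _; exact dvd_refl _)
    · refine ⟨(q ^ 3 - 1) * (q + 1), by simp [T8], (q ^ 3 - 1) * (q + 1), 0, by ring, ?_, ?_, ?_,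
        ?_, ?_, ?_, ?_, ?_, ?_, ?_, ?_, ?_, ?_, ?_, ?_, ?_, ?_⟩
      all_goals first
        | omega
        | (intro h; exfalso; omega)
        | (intro _; exact dvd_mul_right _ _)
        | (intro _; exact dvd_mul_left _ _)
        | (intro _; exact dvd_mul_of_dvd_left D3 _)
  push Not at h3t
  by_cases h3f : f3 ≠ 0
  · by_cases hk : k = 1
    · refine ⟨2 * (q ^ 3 + 1), by simp [T8], q ^ 3 + 1, 1, by ring, ?_, ?_, ?_, ?_, ?_, ?_, ?_, ?_,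
        ?_, ?_, ?_, ?_, ?_, ?_, ?_, ?_, ?_⟩
      all_goals first
        | omega
        | (intro h; exfalso; omega)
        | (intro _; exact dvd_refl _)
    · refine ⟨(q ^ 3 + 1) * (q - 1), by simp [T8], (q ^ 3 + 1) * (q - 1), 0, by ring, ?_, ?_, ?_,
        ?_, ?_, ?_, ?_, ?_, ?_, ?_, ?_, ?_, ?_, ?_, ?_, ?_, ?_⟩
      all_goals first
        | omega
        | (intro h; exfalso; omega)
        | (intro _; exact dvd_mul_right _ _)
        | (intro _; exact dvd_mul_left _ _)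
        | (intro _; exact dvd_mul_of_dvd_left D4 _)
  push Not at h3f
  subst h4t h4f h3t h3f
  -- now `k + a + b + 2 c + 2 d = 4`
  by_cases hd0 : d = 0
  · by_cases hk2 : k ≤ 2
    · refine ⟨4 * (q ^ 2 - 1), by simp [T8], q ^ 2 - 1, 2, by ring, ?_, ?_, ?_, ?_, ?_, ?_, ?_, ?_,
        ?_, ?_, ?_, ?_, ?_, ?_, ?_, ?_, ?_⟩
      all_goals first
        | omega
        | (intro h; exfalso; omega)
        | (intro _; exact dvd_refl _)
        | (intro _; exact D1)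
        | (intro _; exact D2)
    · by_cases hb : b = 0
      · refine ⟨8 * (q - 1), by simp [T8], q - 1, 3, by ring, ?_, ?_, ?_, ?_, ?_, ?_, ?_, ?_,
          ?_, ?_, ?_, ?_, ?_, ?_, ?_, ?_, ?_⟩
        all_goals first
          | omega
          | (intro h; exfalso; omega)
          | (intro _; exact dvd_refl _)
      · refine ⟨8 * (q + 1), by simp [T8], q + 1, 3, by ring, ?_, ?_, ?_, ?_, ?_, ?_, ?_, ?_,
          ?_, ?_, ?_, ?_, ?_, ?_, ?_, ?_, ?_⟩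
        all_goals first
          | omega
          | (intro h; exfalso; omega)
          | (intro _; exact dvd_refl _)
  by_cases hd2 : d = 2
  · refine ⟨2 * ((q ^ 2 + 1) * (q - 1)), by simp [T8], (q ^ 2 + 1) * (q - 1), 1, by ring, ?_, ?_,
      ?_, ?_, ?_, ?_, ?_, ?_, ?_, ?_, ?_, ?_, ?_, ?_, ?_, ?_, ?_⟩
    all_goals first
      | omega
      | (intro h; exfalso; omega)
      | (intro _; exact dvd_mul_right _ _)
      | (intro _; exact dvd_mul_left _ _)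
  have hd1 : d = 1 := by omega
  by_cases hc1 : c ≠ 0
  · refine ⟨q ^ 4 - 1, by simp [T8], q ^ 4 - 1, 0, by ring, ?_, ?_, ?_, ?_, ?_, ?_, ?_, ?_, ?_, ?_,
      ?_, ?_, ?_, ?_, ?_, ?_, ?_⟩
    all_goals first
      | omega
      | (intro h; exfalso; omega)
      | (intro _; exact dvd_refl _)
      | (intro _; exact D5)
      | (intro _; exact D6)
  push Not at hc1
  -- `k + a + b = 2`
  by_cases hk2 : k = 2
  · refine ⟨4 * (q ^ 2 + 1), by simp [T8], q ^ 2 + 1, 2, by ring, ?_, ?_, ?_, ?_, ?_, ?_, ?_, ?_,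
      ?_, ?_, ?_, ?_, ?_, ?_, ?_, ?_, ?_⟩
    all_goals first
      | omega
      | (intro h; exfalso; omega)
      | (intro _; exact dvd_refl _)
  by_cases hb0 : b = 0
  · refine ⟨2 * ((q ^ 2 + 1) * (q - 1)), by simp [T8], (q ^ 2 + 1) * (q - 1), 1, by ring, ?_, ?_,
      ?_, ?_, ?_, ?_, ?_, ?_, ?_, ?_, ?_, ?_, ?_, ?_, ?_, ?_, ?_⟩
    all_goals first
      | omega
      | (intro h; exfalso; omega)
      | (intro _; exact dvd_mul_right _ _)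
      | (intro _; exact dvd_mul_left _ _)
  by_cases ha0 : a = 0
  · refine ⟨2 * ((q ^ 2 + 1) * (q + 1)), by simp [T8], (q ^ 2 + 1) * (q + 1), 1, by ring, ?_, ?_,
      ?_, ?_, ?_, ?_, ?_, ?_, ?_, ?_, ?_, ?_, ?_, ?_, ?_, ?_, ?_⟩
    all_goals first
      | omega
      | (intro h; exfalso; omega)
      | (intro _; exact dvd_mul_right _ _)
      | (intro _; exact dvd_mul_left _ _)
  · refine ⟨q ^ 4 - 1, by simp [T8], q ^ 4 - 1, 0, by ring, ?_, ?_, ?_, ?_, ?_, ?_, ?_, ?_, ?_, ?_,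
      ?_, ?_, ?_, ?_, ?_, ?_, ?_⟩
    all_goals first
      | omega
      | (intro h; exfalso; omega)
      | (intro _; exact dvd_refl _)
      | (intro _; exact D6)
      | (intro _; exact D7)
      | (intro _; exact D8)

/-- ARITH [M-L] -/
theorem arith (q : ℕ) (hq : 2 ≤ q) (k : ℕ) (w : ℕ → Bool → ℕ)
    (hsum : k + ∑ e ∈ Finset.range 5, e * (w e true + w e false) = 4)
    (hsupp : ∀ e ε, w e ε ≠ 0 → 1 ≤ e ∧ e ≤ 4) :
    ∃ N ∈ T8 q, ∃ m t : ℕ, N = m * 2 ^ t ∧ (∀ e ε, w e ε ≠ 0 → tyN q e ε ∣ m) ∧ 2 * k ≤ 2 ^ t ∧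
      ∀ e ε, w e ε ≤ 2 ^ t := by
  have hs : ∑ e ∈ Finset.range 5, e * (w e true + w e false) =
      (w 1 true + w 1 false) + 2 * (w 2 true + w 2 false) + 3 * (w 3 true + w 3 false) +
        4 * (w 4 true + w 4 false) := by
    simp [Finset.sum_range_succ]
  rw [hs] at hsum
  obtain ⟨N, hN, m, t, hNm, h1t, h1f, h2t, h2f, h3t, h3f, h4t, h4f, hk, b1t, b1f, b2t, b2f, b3t,
    b3f, b4t, b4f⟩ := so8arith_core q hq k (w 1 true) (w 1 false) (w 2 true) (w 2 false)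
      (w 3 true) (w 3 false) (w 4 true) (w 4 false) (by omega)
  refine ⟨N, hN, m, t, hNm, ?_, hk, ?_⟩
  · intro e ε hne
    obtain ⟨he1, he4⟩ := hsupp e ε hne
    interval_cases e <;> cases ε
    · rw [tyN_false]; simpa using h1f hne
    · rw [tyN_true]; simpa using h1t hne
    · rw [tyN_false]; exact h2f hne
    · rw [tyN_true]; exact h2t hne
    · rw [tyN_false]; exact h3f hne
    · rw [tyN_true]; exact h3t hne
    · rw [tyN_false]; exact h4f hne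
    · rw [tyN_true]; exact h4t hne
  · intro e ε
    by_cases hne : w e ε = 0
    · rw [hne]; exact Nat.zero_le _
    obtain ⟨he1, he4⟩ := hsupp e ε hne
    interval_cases e <;> cases ε
    · exact b1f
    · exact b1t
    · exact b2f
    · exact b2t
    · exact b3f
    · exact b3t
    · exact b4f
    · exact b4t

end Cfsg.Agent.Lib.Helper19.SO8
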