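import Mathlib
import Cfsg.Prelude.Def_Characters
import Cfsg.Prelude.Def_Blocks
import Cfsg.Agent.Lib.Helper25.CharLinear
import Cfsg.Agent.Lib.Helper29.LeoOrbit
import Cfsg.Agent.Lib.helper7.BR.Defs
import Cfsg.Agent.Lib.Helper13.BT.Defs
import Cfsg.Agent.Lib.helper4.BTCNT
import Cfsg.Agent.Lib.Helper24.BTCSUM
import Cfsg.Agent.Lib.helper6.BTREAL
import Cfsg.Agent.S0840

/-!
# Project BT (S0997 / S0998), piece KEY, core: a `2`-central involution is conjugate to `t`
(with BURN = `burnside_vanish` as a hypothesis)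
-/

set_option autoImplicit false
set_option linter.unusedVariables false
set_option linter.unusedSectionVars false

namespace Cfsg.Agent.Lib.Helper13.BT

open Classical
open scoped ComplexConjugate
open Cfsg.Agent.Lib.Helper25 Cfsg.Agent.Lib.Helper29
open Cfsg.Agent.Lib.helper7.BR

universe u

variable {G : Type u} [Group G] [Fintype G] {p : ℕ} [Fact p.Prime]

/-- a real value squared, divided by a natural number, has non-negative real part -/
theorem btkey2_re_nonneg (v : ℂ) (hv : conj v = v) (n : ℕ) : 0 ≤ (v * v / (n : ℂ)).re := by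
  obtain ⟨r, rfl⟩ := Complex.conj_eq_iff_real.mp hv
  have : ((r : ℂ) * (r : ℂ) / (n : ℂ)) = ((r * r / (n : ℝ) : ℝ) : ℂ) := by
    push_cast
    ring
  rw [this, Complex.ofReal_re]
  exact div_nonneg (mul_self_nonneg r) (Nat.cast_nonneg n)

/-- the index of the centralizer of a `2`-central element is odd -/
theorem btkey2_index_odd (f c b : ℕ) (hc : 1 ≤ c) (hpf : 2 * f + 1 = p) (hfc : f = 2 ^ c)
    (hcard : Nat.card G = p * 2 ^ b * (f + 1)) (w : G)
    (hwc : 2 ^ b ∣ Nat.card ↥(Subgroup.centralizer ({w} : Set G))) :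
    Odd (Subgroup.centralizer ({w} : Set G)).index := by
  obtain ⟨m, hm⟩ := hwc
  have h1 := (Subgroup.centralizer ({w} : Set G)).card_mul_index
  rw [hm, hcard] at h1
  have h2 : m * (Subgroup.centralizer ({w} : Set G)).index = p * (f + 1) := by
    have h2b : 0 < 2 ^ b := by positivity
    apply Nat.eq_of_mul_eq_mul_left h2b
    rw [← mul_assoc, h1]
    ring
  have hodd : Odd (p * (f + 1)) := by
    apply Odd.mul
    · rw [← hpf]; exact ⟨f, rfl⟩
    · rw [hfc]
      apply Even.add_one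
      exact (Nat.even_pow' (by omega)).mpr even_two
  rw [← h2] at hodd
  exact (Nat.odd_mul.mp hodd).2

/-- KEY, with BURN as a hypothesis -/
theorem btkey2_core (hodd : p ≠ 2) {P : Sylow p G}
    (hP : Nat.card ↥(P : Subgroup G) = p) (hcen : cen P = (P : Subgroup G))
    {f : ℕ} {X Y : Finset (Cfsg.IrrCharacter G)} {a : Cfsg.IrrCharacter G → ℤ}
    (hB : PB3 p f P X Y a (-1)) (hpf : 2 * f + 1 = p) (c : ℕ) (hfc : f = 2 ^ c) (b : ℕ)
    (hcard : Nat.card G = p * 2 ^ b * (f + 1))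
    (hvan : ∀ ξ : Cfsg.IrrCharacter G, ξ ∉ X → ξ ∉ Y → ∀ x ∈ (P : Subgroup G), x ≠ 1 → (ξ : G → ℂ) x = 0)
    (hdegY : ∀ η ∈ Y, leoDeg η = f + 1) (hminus : ∀ ξ ∈ X, a ξ = -1 → leoDeg ξ + 1 = p)
    (t : G) (ht1 : t ≠ 1) (ht2 : t * t = 1) (hinv : ∀ x ∈ (P : Subgroup G), t * x * t⁻¹ = x⁻¹)
    (w : G) (hw1 : w ≠ 1) (hw2 : w * w = 1)
    (hwc : 2 ^ b ∣ Nat.card ↥(Subgroup.centralizer ({w} : Set G)))
    (hburn : ∀ χ : Cfsg.IrrCharacter G, χ ≠ trivIrr G → ∀ g : G, g ≠ 1 →
      Nat.Coprime (leoDeg χ) (Subgroup.centralizer ({g} : Set G)).index → (χ : G → ℂ) g = 0) :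
    IsConj t w := by
  have hp : p.Prime := Fact.out
  by_contra hnot
  -- an element of `P ∖ 1`
  obtain ⟨x, hx, hx1⟩ : ∃ x ∈ (P : Subgroup G), x ≠ 1 := by
    have hcardP : 1 < Nat.card ↥(P : Subgroup G) := by rw [hP]; exact hp.one_lt
    have : Nontrivial ↥(P : Subgroup G) := (Finite.one_lt_card_iff_nontrivial).mp hcardP
    obtain ⟨y, hy⟩ := exists_ne (1 : ↥(P : Subgroup G))
    exact ⟨y.1, y.2, fun h => hy (Subtype.ext h)⟩
  have hpx : p ∣ orderOf x := btcsum_sing P x hx hx1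
  -- the class multiplication constant vanishes
  have h0 := (count_pairs hodd P hP hcen t ht1 ht2 hinv x hx hx1).2 w hw2 hnot
  have hS := Cfsg.Agent.S0840.result w w x
  rw [h0] at hS
  have hcl : (Nat.card {y : G // IsConj w y} : ℂ) ≠ 0 := by
    have : Nonempty {y : G // IsConj w y} := ⟨⟨w, IsConj.refl w⟩⟩
    exact_mod_cast (Nat.card_pos (α := {y : G // IsConj w y})).ne'
  have hG : (Nat.card G : ℂ) ≠ 0 := by
    exact_mod_cast (Nat.card_pos (α := G)).ne'
  have hsum0 : ∑ᶠ χ : Cfsg.IrrCharacter G,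
      (χ : G → ℂ) w * (χ : G → ℂ) w * conj ((χ : G → ℂ) x) / (χ : G → ℂ) 1 = 0 := by
    have h1 : (Nat.card {y : G // IsConj w y} : ℂ) * (Nat.card {y : G // IsConj w y} : ℂ) /
        (Nat.card G : ℂ) ≠ 0 := div_ne_zero (mul_ne_zero hcl hcl) hG
    have h2 := hS.symm
    rw [Nat.cast_zero] at h2
    exact (mul_eq_zero.mp h2).resolve_left h1
  -- `Y` is not empty
  have hf1 : 1 ≤ f := by rw [hfc]; exact Nat.one_le_two_pow
  obtain ⟨η₀, hη₀⟩ : Y.Nonempty := by
    rw [Finset.nonempty_iff_ne_empty]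
    intro hY
    have := hB.cardY
    rw [hY, Finset.card_empty, zero_mul] at this
    omega
  have hcs := class_sum hodd hB hvan (f + 1) hdegY η₀ hη₀ w hw2 x hx hx1
  rw [hsum0] at hcs
  -- the principal character
  have ha1 : a (trivIrr G) = 1 := by
    have := hB.valX _ hB.triv_mem x hpx
    rw [trivIrr_apply] at this
    exact_mod_cast this.symm
  have hd1 : leoDeg (trivIrr G) = 1 := by
    have := leoDeg_spec (trivIrr G)
    rw [trivIrr_apply] at this
    exact_mod_cast this.symm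
  -- the real parts of the terms
  have hterm : ∀ ξ ∈ X, 0 ≤ ((a ξ : ℂ) * ((ξ : G → ℂ) w * (ξ : G → ℂ) w) / (leoDeg ξ : ℂ)).re := by
    intro ξ hξ
    rcases hB.a_pm ξ hξ with h | h
    · rw [h, Int.cast_one, one_mul]
      exact btkey2_re_nonneg _ (real_of_involution ξ w hw2) _
    · -- a minus character vanishes at `w`
      have hne : ξ ≠ trivIrr G := by
        intro e
        rw [e, ha1] at h
        omega
      have hc1 : 1 ≤ c := by
        by_contra hc0
        have hc0' : c = 0 := by omega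
        rw [hc0', pow_zero] at hfc
        -- `X = {trivIrr G}`
        have hX1 : X.card = 1 := by rw [hB.cardX, hfc]
        obtain ⟨y, hy⟩ := Finset.card_eq_one.mp hX1
        have e1 : ξ = y := by
          have := hξ; rw [hy, Finset.mem_singleton] at this; exact this
        have e2 : trivIrr G = y := by
          have := hB.triv_mem; rw [hy, Finset.mem_singleton] at this; exact this
        exact hne (e1.trans e2.symm)
      have hdeg : leoDeg ξ = 2 ^ (c + 1) := by
        have := hminus ξ hξ h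
        rw [pow_succ, ← hfc]
        omega
      have hcop : Nat.Coprime (leoDeg ξ) (Subgroup.centralizer ({w} : Set G)).index := by
        rw [hdeg]
        apply Nat.Coprime.pow_left
        exact (Nat.coprime_two_left).mpr (btkey2_index_odd f c b hc1 hpf hfc hcard w hwc)
      rw [hburn ξ hne w hw1 hcop]
      simp
  have hη : 0 ≤ ((η₀ : G → ℂ) w * (η₀ : G → ℂ) w / ((f + 1 : ℕ) : ℂ)).re :=
    btkey2_re_nonneg _ (real_of_involution η₀ w hw2) _
  have htriv : ((a (trivIrr G) : ℂ) * ((trivIrr G : G → ℂ) w * (trivIrr G : G → ℂ) w) /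
      (leoDeg (trivIrr G) : ℂ)).re = 1 := by
    rw [ha1, hd1, trivIrr_apply]
    simp
  have hre := congrArg Complex.re hcs
  rw [Complex.zero_re, Complex.add_re, Complex.re_sum] at hre
  have hge : (1 : ℝ) ≤ ∑ ξ ∈ X,
      ((a ξ : ℂ) * ((ξ : G → ℂ) w * (ξ : G → ℂ) w) / (leoDeg ξ : ℂ)).re := by
    rw [← htriv]
    exact Finset.single_le_sum (f := fun ξ =>
      ((a ξ : ℂ) * ((ξ : G → ℂ) w * (ξ : G → ℂ) w) / (leoDeg ξ : ℂ)).re)
      (fun ξ hξ => hterm ξ hξ) hB.triv_mem
  linarith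

end Cfsg.Agent.Lib.Helper13.BT
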