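import Mathlib
import Cfsg.Prelude.Def_Characters
import Cfsg.Prelude.Def_Blocks
import Cfsg.Agent.Lib.Helper25.CharLinear
import Cfsg.Agent.Lib.Helper29.LeoOrbit
import Cfsg.Agent.Lib.helper7.BR.Defs
import Cfsg.Agent.Lib.Helper13.BT.Defs
import Cfsg.Agent.Lib.Helper22.BTKEY2core
import Cfsg.Agent.Lib.Helper16.BTBURN

/-!
# Project BT (S0997 / S0998), piece KEY : a `2`-central involution is conjugate to `t` (verbatim)
-/

set_option autoImplicit false
set_option linter.unusedVariables false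
set_option linter.unusedSectionVars false

namespace Cfsg.Agent.Lib.Helper13.BT

open Classical
open scoped ComplexConjugate
open Cfsg.Agent.Lib.Helper25 Cfsg.Agent.Lib.Helper29
open Cfsg.Agent.Lib.helper7.BR

universe u

variable {G : Type u} [Group G] [Fintype G] {p : ℕ} [Fact p.Prime]

/-- KEY (helper22) : a `2`-central involution `w` is conjugate to `t`.  (Otherwise `a(w,w,x) = 0` (CNT), so by
S0840 and CSUM `0 = ∑_X a ξ ξ(w)²/ξ(1) + η₀(w)²/z`; the minus `ξ` vanish at `w` (BURN: their degree `p - 1 = 2^(c+1)`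
is prime to the odd number `|G : C_G(w)|`), all `ξ(w)`, `η₀(w)` are real (REAL) and the principal character
contributes `1`: the right side has real part `≥ 1`.) -/
theorem two_central [IsSimpleGroup G] (hnc : ¬ ∀ x y : G, x * y = y * x) (hodd : p ≠ 2) {P : Sylow p G}
    (hP : Nat.card ↥(P : Subgroup G) = p) (hcen : cen P = (P : Subgroup G))
    {f : ℕ} {X Y : Finset (Cfsg.IrrCharacter G)} {a : Cfsg.IrrCharacter G → ℤ}
    (hB : PB3 p f P X Y a (-1)) (hpf : 2 * f + 1 = p) (c : ℕ) (hfc : f = 2 ^ c) (b : ℕ)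
    (hcard : Nat.card G = p * 2 ^ b * (f + 1))
    (hvan : ∀ ξ : Cfsg.IrrCharacter G, ξ ∉ X → ξ ∉ Y → ∀ x ∈ (P : Subgroup G), x ≠ 1 → (ξ : G → ℂ) x = 0)
    (hdegY : ∀ η ∈ Y, leoDeg η = f + 1) (hminus : ∀ ξ ∈ X, a ξ = -1 → leoDeg ξ + 1 = p)
    (t : G) (ht1 : t ≠ 1) (ht2 : t * t = 1) (hinv : ∀ x ∈ (P : Subgroup G), t * x * t⁻¹ = x⁻¹)
    (w : G) (hw1 : w ≠ 1) (hw2 : w * w = 1)
    (hwc : 2 ^ b ∣ Nat.card ↥(Subgroup.centralizer ({w} : Set G))) : IsConj t w :=
  btkey2_core hodd hP hcen hB hpf c hfc b hcard hvan hdegY hminus t ht1 ht2 hinv w hw1 hw2 hwc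
    (fun χ hχ g hg hcop => burnside_vanish hnc χ hχ g hg hcop)

end Cfsg.Agent.Lib.Helper13.BT
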