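import Mathlib
import Cfsg.Agent.Lib.helper17.SLP.Defs
import Cfsg.Agent.Lib.helper3.SP4.Defs

/-!
Project SP4 row D9 (core): assemble the root datum `RD4` from the statements of the rows D1–D8, R3, T9
(given as hypotheses).
-/

set_option autoImplicit false

namespace Cfsg.Agent.Lib.helper3.SP4

open Cfsg.Agent.Lib.helper17.SLP

universe u v

section D

variable {F : Type u} [Field F] [Fintype F] {G : Type v} [Group G]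

/-- D9 core.  Hypotheses: `hR3a hR3b` = first component of `r_basic φa`, `r_basic φb`; `hT9c hT9d` = first two
components of `xcd_add φa φb`; `hD1` = `rg_mem`; `hD2` = `rd_comm φa φb K`; `hD3` = `rd_tor φa φb R`;
`hD4` = `rd_weylT φa φb R`; `hD5` = `rd_weylX φa φb W`; `hD6` = `rd_rank1 φa φb`;
`hD7` = `rd_braid_gen ζ hζ φa φb H hgen`; `hD8` = `(TT_finite φa φb R).1`. -/
theorem sp4d9_core (φa φb : Matrix.SpecialLinearGroup (Fin 2) F →* G)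
    (hR3a : ∀ s t, rx φa (s + t) = rx φa s * rx φa t)
    (hR3b : ∀ s t, rx φb (s + t) = rx φb s * rx φb t)
    (hT9c : ∀ s t, xc φa φb (s + t) = xc φa φb s * xc φa φb t)
    (hT9d : ∀ s t, xd φa φb (s + t) = xd φa φb s * xd φa φb t)
    (hD1 : ∀ X : F → G, (∀ s t, X (s + t) = X s * X t) →
      (∀ g, g ∈ RG X ↔ ∃ t, g = X t) ∧ Finite (RG X) ∧ Nat.card (RG X) ≤ Fintype.card F)
    (hD2 : (∀ a ∈ RG (rx φa), ∀ d ∈ RG (xd φa φb), Commute a d) ∧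
      (∀ b ∈ RG (rx φb), ∀ d ∈ RG (xd φa φb), Commute b d) ∧
      (∀ c ∈ RG (xc φa φb), ∀ d ∈ RG (xd φa φb), Commute c d) ∧
      (∀ b ∈ RG (rx φb), ∀ c ∈ RG (xc φa φb), Commute b c) ∧
      (∀ a ∈ RG (rx φa), ∀ c ∈ RG (xc φa φb), a * c * a⁻¹ * c⁻¹ ∈ RG (xd φa φb)) ∧
      (∀ a ∈ RG (rx φa), ∀ b ∈ RG (rx φb), ∃ c ∈ RG (xc φa φb), ∃ d ∈ RG (xd φa φb),
        a * b * a⁻¹ * b⁻¹ = c * d))
    (hD3 : (∀ τ ∈ TT φa φb, ∀ g ∈ RG (rx φa), τ * g * τ⁻¹ ∈ RG (rx φa)) ∧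
      (∀ τ ∈ TT φa φb, ∀ g ∈ RG (rx φb), τ * g * τ⁻¹ ∈ RG (rx φb)) ∧
      (∀ τ ∈ TT φa φb, ∀ g ∈ RG (xc φa φb), τ * g * τ⁻¹ ∈ RG (xc φa φb)) ∧
      (∀ τ ∈ TT φa φb, ∀ g ∈ RG (xd φa φb), τ * g * τ⁻¹ ∈ RG (xd φa φb)))
    (hD4 : (∀ τ ∈ TT φa φb, rn φa * τ * (rn φa)⁻¹ ∈ TT φa φb) ∧
      (∀ τ ∈ TT φa φb, rn φb * τ * (rn φb)⁻¹ ∈ TT φa φb) ∧
      rn φa ^ 2 ∈ TT φa φb ∧ rn φb ^ 2 ∈ TT φa φb)
    (hD5 : (∀ g ∈ RG (rx φb), rn φa * g * (rn φa)⁻¹ ∈ RG (xd φa φb)) ∧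
      (∀ g ∈ RG (xd φa φb), rn φa * g * (rn φa)⁻¹ ∈ RG (rx φb)) ∧
      (∀ g ∈ RG (xc φa φb), rn φa * g * (rn φa)⁻¹ ∈ RG (xc φa φb)) ∧
      (∀ g ∈ RG (rx φb), (rn φa)⁻¹ * g * rn φa ∈ RG (xd φa φb)) ∧
      (∀ g ∈ RG (xd φa φb), (rn φa)⁻¹ * g * rn φa ∈ RG (rx φb)) ∧
      (∀ g ∈ RG (xc φa φb), (rn φa)⁻¹ * g * rn φa ∈ RG (xc φa φb)) ∧
      (∀ g ∈ RG (rx φa), rn φb * g * (rn φb)⁻¹ ∈ RG (xc φa φb)) ∧
      (∀ g ∈ RG (xc φa φb), rn φb * g * (rn φb)⁻¹ ∈ RG (rx φa)) ∧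
      (∀ g ∈ RG (xd φa φb), rn φb * g * (rn φb)⁻¹ ∈ RG (xd φa φb)) ∧
      (∀ g ∈ RG (rx φa), (rn φb)⁻¹ * g * rn φb ∈ RG (xc φa φb)) ∧
      (∀ g ∈ RG (xc φa φb), (rn φb)⁻¹ * g * rn φb ∈ RG (rx φa)) ∧
      (∀ g ∈ RG (xd φa φb), (rn φb)⁻¹ * g * rn φb ∈ RG (xd φa φb)))
    (hD6 : (∀ g ∈ RG (rx φa), g = 1 ∨ ∃ a ∈ RG (rx φa), ∃ τ ∈ TT φa φb, ∃ a' ∈ RG (rx φa),
        rn φa * g * (rn φa)⁻¹ = a * τ * rn φa * a') ∧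
      ∀ g ∈ RG (rx φb), g = 1 ∨ ∃ b ∈ RG (rx φb), ∃ τ ∈ TT φa φb, ∃ b' ∈ RG (rx φb),
        rn φb * g * (rn φb)⁻¹ = b * τ * rn φb * b')
    (hD7 : (∃ τ ∈ TT φa φb, rn φb * rn φa * rn φb * rn φa = τ * (rn φa * rn φb * rn φa * rn φb)) ∧
      Subgroup.closure (((TT φa φb : Subgroup G) : Set G) ∪ (RG (rx φa) : Set G) ∪ (RG (rx φb) : Set G) ∪
        {rn φa, rn φb}) = ⊤)
    (hD8 : Finite (TT φa φb)) :
    RD4 (Fintype.card F) (TT φa φb) (RG (rx φa)) (RG (rx φb)) (RG (xc φa φb)) (RG (xd φa φb))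
      (rn φa) (rn φb) := by
  obtain ⟨cad, cbd, ccd, cbc, cac, cab⟩ := hD2
  obtain ⟨ta, tb, tc, td⟩ := hD3
  obtain ⟨n1T, n2T, n1sq, n2sq⟩ := hD4
  obtain ⟨n1b, n1d, n1c, n1b', n1d', n1c', n2a, n2c, n2d, n2a', n2c', n2d'⟩ := hD5
  obtain ⟨r1, r2⟩ := hD6
  obtain ⟨braid, gen⟩ := hD7
  exact
    { finT := hD8
      fina := (hD1 _ hR3a).2
      finb := (hD1 _ hR3b).2
      finc := (hD1 _ hT9c).2
      find := (hD1 _ hT9d).2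
      cad := cad, cbd := cbd, ccd := ccd, cbc := cbc, cac := cac, cab := cab
      ta := ta, tb := tb, tc := tc, td := td
      n1T := n1T, n1b := n1b, n1d := n1d, n1c := n1c, n1b' := n1b', n1d' := n1d', n1c' := n1c'
      n1sq := n1sq
      n2T := n2T, n2a := n2a, n2c := n2c, n2d := n2d, n2a' := n2a', n2c' := n2c', n2d' := n2d'
      n2sq := n2sq
      r1 := r1, r2 := r2, braid := braid, gen := gen }

end D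

end Cfsg.Agent.Lib.helper3.SP4
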