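import Mathlib
import Cfsg.Agent.Lib.helper17.SLP.Defs
import Cfsg.Agent.Lib.helper3.SP4.Defs
import Cfsg.Agent.Lib.Helper22.SP4D9core
import Cfsg.Agent.Lib.Helper5.SP4T8
import Cfsg.Agent.Lib.Helper5.SP4W4
import Cfsg.Agent.Lib.Helper5.SP4C8
import Cfsg.Agent.Lib.Helper28.SP4R3
import Cfsg.Agent.Lib.Helper29.SP4T9
import Cfsg.Agent.Lib.helper8.SP4D1
import Cfsg.Agent.Lib.helper8.SP4D2
import Cfsg.Agent.Lib.helper8.SP4D3
import Cfsg.Agent.Lib.Helper5.SP4D4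
import Cfsg.Agent.Lib.helper8.SP4D5
import Cfsg.Agent.Lib.Helper5.SP4D7

/-!
Project SP4 row D9 (verbatim): assemble the root datum `RD4` from `Hyp`.
-/

set_option autoImplicit false

namespace Cfsg.Agent.Lib.helper3.SP4

open Cfsg.Agent.Lib.helper17.SLP

universe u v

section D

variable {F : Type u} [Field F] [Fintype F] {G : Type v} [Group G]

/-- D9 [M]  deps D1–D8 T8 T9 W4 C8: assemble the structure. -/
theorem rd_of_hyp (ζ : Fˣ) (hζ : ∀ y : Fˣ, y ∈ Subgroup.zpowers ζ)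
    (φa φb : Matrix.SpecialLinearGroup (Fin 2) F →* G) (H : Hyp ζ φa φb)
    (hgen : Subgroup.closure (Set.range φa ∪ Set.range φb) = ⊤) :
    RD4 (Fintype.card F) (TT φa φb) (RG (rx φa)) (RG (rx φb)) (RG (xc φa φb)) (RG (xd φa φb))
      (rn φa) (rn φb) := by
  have R := tor4 ζ hζ φa φb H
  have W := wact4 ζ φa φb H R
  have K := comm4 ζ φa φb H R W
  exact sp4d9_core φa φb (r_basic φa).1 (r_basic φb).1 (xcd_add φa φb).1 (xcd_add φa φb).2.1
    (fun X hX => rg_mem X hX) (rd_comm φa φb K) (rd_tor φa φb R) (rd_weylT φa φb R)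
    (rd_weylX φa φb W) (rd_rank1 φa φb) (rd_braid_gen ζ hζ φa φb H hgen) (TT_finite φa φb R).1

end D

end Cfsg.Agent.Lib.helper3.SP4
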