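import Mathlib
import Cfsg.Prelude.Def_Classical
import Cfsg.Prelude.Def_KGroupFacts
import Cfsg.Agent.Lib.helper3.SPB.Defs
import Cfsg.Agent.Lib.Helper1.STBX1

/-!
# Project SPB (designer helper3), row G1 CORE (helper22): the spin group `Spin_{2l+1}(F)` exists,
with the STATEMENTS of C12 (`neg_one_ne_one_ClB`) and C13 (`exists_cliffSysB`) as hypotheses; own-name copies of T0b (`restrict_genB`) and T0c (`map_hsB`).
Port of SPN G2 (`Helper1/SPNG2core.lean`).
-/

set_option autoImplicit false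

namespace Cfsg.Agent.Lib.helper3.SPB

open Cfsg.Agent.Lib.helper15.St2 Cfsg.Agent.Lib.helper3.STC Cfsg.Agent.Lib.Lead.STD Cfsg.Agent.Lib.Lead.STB
  Cfsg.Agent.Lib.Lead.SPN Cfsg.Agent.Lib.Helper16 Cfsg.Agent.Lib.Helper12.OMB

universe u v w

/-- own-name copy of T0b `restrict_genB`. -/
theorem spbg1_restrict_genB {K : Type*} [Field K] {ι : Type*} {G : Type*} [Group G] (P : SysB K ι G)
    (hL : ∀ a b t, P.x a b t ∈ P.XQ (fun _ _ => True) (fun _ => True)) (hLs : ∀ a t, P.xs a t ∈ P.XQ (fun _ _ => True) (fun _ => True)) :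
    (P.restrict (P.XQ (fun _ _ => True) (fun _ => True)) hL hLs).XQ (fun _ _ => True) (fun _ => True) = ⊤ := by
  rw [eq_top_iff]
  rintro ⟨x, hx⟩ -
  have hmap : P.XQ (fun _ _ => True) (fun _ => True) ≤
      ((P.restrict (P.XQ (fun _ _ => True) (fun _ => True)) hL hLs).XQ (fun _ _ => True) (fun _ => True)).map
        (P.XQ (fun _ _ => True) (fun _ => True)).subtype := by
    conv_lhs => unfold SysB.XQ
    rw [Subgroup.closure_le]
    rintro _ (⟨a, b, t, hab, hab', -, rfl⟩ | ⟨a, t, -, rfl⟩)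
    · refine ⟨(P.restrict (P.XQ (fun _ _ => True) (fun _ => True)) hL hLs).x a b t, ?_, rfl⟩
      exact Subgroup.subset_closure (Or.inl ⟨a, b, t, hab, hab', trivial, rfl⟩)
    · refine ⟨(P.restrict (P.XQ (fun _ _ => True) (fun _ => True)) hL hLs).xs a t, ?_, rfl⟩
      exact Subgroup.subset_closure (Or.inr ⟨a, t, trivial, rfl⟩)
  obtain ⟨x', hx', hxx⟩ := hmap hx
  have : x' = ⟨x, hx⟩ := Subtype.ext hxx
  rw [← this]
  exact hx'

/-- own-name copy of T0c `map_hsB`. -/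
theorem spbg1_map_hsB {K : Type*} [Field K] {ι : Type*} {G : Type*} [Group G] {H : Type*} [Group H]
    (S : SysB K ι G) (T : SysB K ι H) (f : G →* H) (hf : ∀ a t, f (S.xs a t) = T.xs a t) (a : ι ⊕ ι) (t : K) :
    f (S.hs a t) = T.hs a t := by
  unfold SysB.hs SysB.ws
  simp only [map_mul, hf]

/-- G1 core. -/
theorem spbg1_core {l : ℕ} {F : Type u} [Field F] [Fintype F] (hl : 3 ≤ l) (homb : OmbSys l F)
    (hC13 : ∃ S : SysB F (Fin l) (ClB l F)ˣ, (∀ a b t, S.x a b t = XCl a b t) ∧ (∀ a t, S.xs a t = XCs a t) ∧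
      ∀ a, S.hs a (-1) = -1)
    (hC12 : (2 : F) ≠ 0 → (-1 : (ClB l F)ˣ) ≠ 1) :
    ∃ (G : Type u) (_ : Group G) (C : CovB l F G), (2 : F) ≠ 0 → C.zel ≠ 1 := by
  obtain ⟨Sc, -, -, hSc⟩ := hC13
  obtain ⟨So, -, hSox, hSoxs⟩ := homb
  let P : SysB F (Fin l) ((ClB l F)ˣ × ↥(Cfsg.Omega F (Cfsg.quadFormOdd l F))) := Sc.prod So
  have hL : ∀ a b t, P.x a b t ∈ P.XQ (fun _ _ => True) (fun _ => True) :=
    fun a b t => P.x_mem_XQ (Q := fun _ _ => True) trivial t
  have hLs : ∀ a t, P.xs a t ∈ P.XQ (fun _ _ => True) (fun _ => True) :=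
    fun a t => P.xs_mem_XQ (Qs := fun _ => True) trivial t
  let L := P.XQ (fun _ _ => True) (fun _ => True)
  let S : SysB F (Fin l) ↥L := P.restrict L hL hLs
  let C : CovB l F ↥L :=
    { hl := hl
      S := S
      gen := spbg1_restrict_genB P hL hLs
      π := (MonoidHom.snd _ _).comp L.subtype
      hπ := by
        intro a b hab hab' t
        exact hSox a b hab hab' t
      hπs := by
        intro a t
        exact hSoxs a t }
  refine ⟨↥L, inferInstance, C, ?_⟩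
  intro h2 hz
  have hf : ∀ a t, ((MonoidHom.fst (ClB l F)ˣ ↥(Cfsg.Omega F (Cfsg.quadFormOdd l F))).comp L.subtype) (S.xs a t) =
      Sc.xs a t := fun a t => rfl
  have h1 := congrArg ((MonoidHom.fst (ClB l F)ˣ ↥(Cfsg.Omega F (Cfsg.quadFormOdd l F))).comp L.subtype) hz
  rw [map_one] at h1
  have h3 : ((MonoidHom.fst (ClB l F)ˣ ↥(Cfsg.Omega F (Cfsg.quadFormOdd l F))).comp L.subtype) C.zel =
      Sc.hs (Sum.inl C.i0) (-1) := by
    unfold CovB.zel
    rw [spbg1_map_hsB S Sc _ hf]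
  rw [h3, hSc] at h1
  exact hC12 h2 h1

end Cfsg.Agent.Lib.helper3.SPB
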