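import Mathlib
import Cfsg.Prelude.Def_Classical
import Cfsg.Prelude.Def_KGroupFacts
import Cfsg.Agent.Lib.helper3.SPB.Defs
import Cfsg.Agent.Lib.Helper11.SPBC3
import Cfsg.Agent.Lib.Helper22.SPBG1core

/-!
# Project SPB (designer helper3), row G1 (helper22), verbatim: the spin group `Spin_{2l+1}(F)` exists, `zel ≠ 1` in odd characteristic.
Wrapper of `spbg1_core` on helper11's C12 `neg_one_ne_one_ClB`, C13 `exists_cliffSysB`.
-/

set_option autoImplicit false

namespace Cfsg.Agent.Lib.helper3.SPB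

open Cfsg.Agent.Lib.helper15.St2 Cfsg.Agent.Lib.helper3.STC Cfsg.Agent.Lib.Lead.STD Cfsg.Agent.Lib.Lead.STB
  Cfsg.Agent.Lib.Lead.SPN Cfsg.Agent.Lib.Helper16 Cfsg.Agent.Lib.Helper12.OMB

universe u v w

section G

/-- G1 [M]  **the spin group.**  `P := Sc.prod So` (C13, `homb`; `SysB.prod` of `Lead/STB/Defs2.lean`) in `(ClB l F)ˣ × Ω`, `L := P.XQ ⊤ ⊤`, `G := ↥L`, `S := P.restrict L _ _`, `π := (MonoidHom.snd _ _).comp L.subtype`;
`gen`: T0b.  `zel ≠ 1`: its first component is `Sc.hs (inl i0) (-1) = -1` (T0c for `(MonoidHom.fst _ _).comp L.subtype`, C13, C12).  (Model: SPN G2, `Helper1/SPNG2core.lean`.) -/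
theorem exists_covB {l : ℕ} {F : Type u} [Field F] [Fintype F] (hl : 3 ≤ l) (homb : OmbSys l F) :
    ∃ (G : Type u) (_ : Group G) (C : CovB l F G), (2 : F) ≠ 0 → C.zel ≠ 1 :=
  spbg1_core hl homb (exists_cliffSysB l F) (neg_one_ne_one_ClB l)

end G

end Cfsg.Agent.Lib.helper3.SPB
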