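import Mathlib
import Cfsg.Prelude.Def_Classical
import Cfsg.Prelude.Def_KGroupFacts
import Cfsg.Agent.Lib.helper3.SPB.Defs
import Cfsg.Agent.Lib.helper23.SchurCoverD

/-!
# Project SPB (designer helper3), row M2 CORE (helper22): `sig` is a Schur cover, with the conclusions of T8 `CovB.finite` and T10 `CovB.stem` as hypotheses.
Port of SPN M2 core (`helper4/SPNM1core.lean`), on helper23's `scv_cover_of_trivial`.
-/

set_option autoImplicit false

namespace Cfsg.Agent.Lib.helper3.SPB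

open Cfsg.Agent.Lib.helper15.St2 Cfsg.Agent.Lib.helper3.STC Cfsg.Agent.Lib.Lead.STD Cfsg.Agent.Lib.Lead.STB
  Cfsg.Agent.Lib.Lead.SPN Cfsg.Agent.Lib.Helper16 Cfsg.Agent.Lib.Helper12.OMB

universe u v w

/-- M2 core -/
theorem CovB.spbm2_core {l : ℕ} {F : Type u} [Field F] [Fintype F] {G : Type u} [Group G] (C : CovB l F G)
    (hT8 : Finite G) (hT10 : Cfsg.IsStemExtension C.sig)
    (hG : Cfsg.HasCyclicSchurMultiplier G 1) {A : Type w} [CommGroup A] (e : Nonempty (C.sig.ker ≃* A)) :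
    Cfsg.HasSchurMultiplier (Cfsg.POmega F (Cfsg.quadFormOdd l F)) A := by
  obtain ⟨e⟩ := e
  have := hT8
  have hfinQ : Finite (Cfsg.POmega F (Cfsg.quadFormOdd l F)) := Finite.of_surjective C.sig hT10.1
  refine ⟨⟨G, inferInstance, hT8, C.sig, hT10, ⟨e⟩⟩, ?_⟩
  intro Δ _ _ τ hτ
  obtain ⟨π, hπ⟩ := Cfsg.Agent.Lib.helper23.scv_cover_of_trivial C.sig hT10 hG Δ τ hτ
  exact ⟨π.comp e.symm.toMonoidHom, hπ.comp e.symm.surjective⟩

end Cfsg.Agent.Lib.helper3.SPB
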