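import Mathlib
import Cfsg.Agent.Lib.helper15.St2
import Cfsg.Agent.Lib.helper7.StA
import Cfsg.Agent.Lib.helper7.StC
import Cfsg.Agent.Lib.helper7.StE
import Cfsg.Agent.Lib.helper3.STC.Defs
import Cfsg.Agent.Lib.helper3.STC.Defs2
import Cfsg.Agent.Lib.helper3.STC.Defs3
import Cfsg.Agent.Lib.Helper24.STCI1

/-!
# STC row F1 (designer helper3, Skel3): evaluation of the unified Weyl data
-/

set_option autoImplicit false

namespace Cfsg.Agent.Lib.helper3.STC

open Cfsg.Agent.Lib.helper15.St2 Cfsg.Agent.Lib.helper7.St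

namespace SysC

variable {K : Type*} [Field K] {ι : Type*} {G : Type*} [Group G] (S : SysC K ι G)

section F
variable [DecidableEq ι] (o : ι ⊕ ι)

/-- F1 [S]  evaluation of the unified Weyl data (`simp [wpm, dwc, dhc, sws, dws, dwl, dhs, dhl]`, block I). -/
theorem wpm_short {a b : ι ⊕ ι} (h : b ≠ ng a) : wpm a b = sws a b := by
  unfold wpm
  rw [if_neg h]

theorem wpm_long (a : ι ⊕ ι) : wpm a (ng a) = Equiv.swap a (ng a) := by
  unfold wpm
  rw [if_pos rfl]

theorem dwc_short {a b : ι ⊕ ι} (h : b ≠ ng a) (u : K) : dwc a b u = dws a b u := by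
  unfold dwc
  rw [if_neg h]

theorem dwc_long (a : ι ⊕ ι) (u : K) : dwc a (ng a) u = dwl a u := by
  unfold dwc
  rw [if_pos rfl]

theorem dhc_short {a b : ι ⊕ ι} (h : b ≠ ng a) (u : K) : dhc a b u = dhs a b u := by
  unfold dhc
  rw [if_neg h]

theorem dhc_long (a : ι ⊕ ι) (u : K) : dhc a (ng a) u = dhl a u := by
  unfold dhc
  rw [if_pos rfl]

theorem HW.short (hW : S.HW) {a b : ι ⊕ ι} (hab : a ≠ b) (hab' : a ≠ ng b) (u : K) (hu : u ≠ 0) :
    S.IsMon (S.w a b u) (sws a b) (dws a b u) := by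
  have h : b ≠ ng a := fun e => hab' (ng_eq_iff.1 e.symm)
  have := hW a b hab u hu
  rwa [wpm_short h, dwc_short h] at this

theorem HW.long (hW : S.HW) (a : ι ⊕ ι) (u : K) (hu : u ≠ 0) :
    S.IsMon (S.w a (ng a) u) (Equiv.swap a (ng a)) (dwl a u) := by
  have := hW a (ng a) (ne_ng a) u hu
  rwa [wpm_long, dwc_long] at this

theorem HH.long (hH : S.HH) (a : ι ⊕ ι) (u : K) (hu : u ≠ 0) :
    S.IsMon (S.h a (ng a) u) 1 (dhl a u) := by
  have := hH a (ng a) (ne_ng a) u hu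
  rwa [dhc_long] at this

end F

end SysC

end Cfsg.Agent.Lib.helper3.STC
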