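import Mathlib
import Cfsg.Agent.Lib.Helper24.T3C.Defs2
import Cfsg.Agent.Lib.helper23.CEUE1
import Cfsg.Agent.Lib.helper3.SL2Mult
import Cfsg.Agent.Lib.Helper19.SL2Normal

/-!
# Project T3C (sub-designer helper24; family T3 of helper17, for S2110), row R2 CORE (helper22): rank one systems lift through a central extension,
from the STATEMENT of R1 `exists_sl2_lift` (at the `ρ` of `helper7.CEU.lift_sl2_of_st T`).
-/

set_option autoImplicit false

namespace Cfsg.Agent.Lib.Helper24.T3C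

open Cfsg.Agent.Lib.helper15.St2 Cfsg.Agent.Lib.helper7.Ce Cfsg.Agent.Lib.helper17.T3

section R

variable {K : Type*} [Field K] {G : Type*} [Group G] {Γ : Type*} [Group Γ] {π : Γ →* G}

/-- R2 core: `hR1` is the statement of R1 `exists_sl2_lift` (for all `ρ`). -/
theorem t3cr2_core [Finite K]
    (hR1 : ∀ ρ : Matrix.SpecialLinearGroup (Fin 2) K →* G,
      ∃ ρ' : Matrix.SpecialLinearGroup (Fin 2) K →* Γ, ∀ m, π (ρ' m) = ρ m)
    (T : St K G) : ∃ T' : St K Γ, ∀ b t, π (T'.X b t) = T.X b t := by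
  obtain ⟨ρ, hρ⟩ := Cfsg.Agent.Lib.helper7.CEU.lift_sl2_of_st T
  obtain ⟨ρ', hρ'⟩ := hR1 ρ
  refine ⟨mapSt ρ' stSL, ?_⟩
  intro b t
  show π (ρ' (stSL.X b t)) = T.X b t
  rw [hρ']
  cases b
  · exact (hρ t).2
  · exact (hρ t).1

end R

end Cfsg.Agent.Lib.Helper24.T3C
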