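import Mathlib
import Cfsg.Agent.Lib.Helper22.T3CR2core
import Cfsg.Agent.Lib.Helper9.T3CR1

/-!
# Project T3C (sub-designer helper24; family T3 of helper17, for S2110), row R2 (helper22), VERBATIM: rank one systems lift through a finite central extension.
-/

set_option autoImplicit false

namespace Cfsg.Agent.Lib.Helper24.T3C

open Cfsg.Agent.Lib.helper15.St2 Cfsg.Agent.Lib.helper7.Ce Cfsg.Agent.Lib.helper17.T3

section R

variable {K : Type*} [Field K] {G : Type*} [Group G] {Γ : Type*} [Group Γ] {π : Γ →* G}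

/-- R2 [S] -/
theorem exists_st_lift [Finite K] [Finite Γ] (h : IsCE π) (h5 : 5 ≤ Nat.card K) (h9 : Nat.card K ≠ 9)
    (T : St K G) : ∃ T' : St K Γ, ∀ b t, π (T'.X b t) = T.X b t :=
  t3cr2_core (fun ρ => exists_sl2_lift h h5 h9 ρ) T

end R

end Cfsg.Agent.Lib.Helper24.T3C
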