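import Mathlib
import Cfsg.Agent.Lib.Helper24.T3C.Defs2
import Cfsg.Agent.Lib.helper23.CEUE1
import Cfsg.Agent.Lib.helper3.SL2Mult
import Cfsg.Agent.Lib.Helper19.SL2Normal

/-!
# Project T3C (sub-designer helper24; family T3 of helper17, for S2110), row R3 (helper22), VERBATIM: two rank one systems in `Γ` over the same rank one system
of `G` are equal (the torus trick: `z b t = (T₂.X b t)⁻¹ * T₁.X b t` is central, additive, and invariant under `t ↦ d t` with `d ≠ 1`).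
-/

set_option autoImplicit false

namespace Cfsg.Agent.Lib.Helper24.T3C

open Cfsg.Agent.Lib.helper15.St2 Cfsg.Agent.Lib.helper7.Ce Cfsg.Agent.Lib.helper17.T3

section R

variable {K : Type*} [Field K] {G : Type*} [Group G] {Γ : Type*} [Group Γ] {π : Γ →* G}

/-- elements with the same image induce the same conjugation -/
theorem t3cr3_cj_congr (h : IsCE π) {g₁ g₂ : Γ} (hg : π g₁ = π g₂) (a : Γ) : cj g₁ a = cj g₂ a := by
  have hc : π (g₂⁻¹ * g₁) = 1 := by rw [map_mul, map_inv, hg, inv_mul_cancel]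
  have hcomm := h.comm_of_map_one hc a
  have e : g₁ = g₂ * (g₂⁻¹ * g₁) := by group
  unfold cj
  calc g₁ * a * g₁⁻¹ = g₂ * ((g₂⁻¹ * g₁) * a) * (g₂⁻¹ * g₁)⁻¹ * g₂⁻¹ := by group
    _ = g₂ * (a * (g₂⁻¹ * g₁)) * (g₂⁻¹ * g₁)⁻¹ * g₂⁻¹ := by rw [hcomm]
    _ = g₂ * a * g₂⁻¹ := by group

/-- the torus trick for one of the two root groups -/
theorem t3cr3_one (h : IsCE π) (T₁ T₂ : St K Γ) (b : Bool) (hb : ∀ t, π (T₁.X b t) = π (T₂.X b t))
    (g₁ g₂ : Γ) (hg : π g₁ = π g₂) (d : K) (hd : d ≠ 1)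
    (h1 : ∀ t, cj g₁ (T₁.X b t) = T₁.X b (d * t)) (h2 : ∀ t, cj g₂ (T₂.X b t) = T₂.X b (d * t)) :
    ∀ t, T₁.X b t = T₂.X b t := by
  -- the difference
  set z : K → Γ := fun t => (T₂.X b t)⁻¹ * T₁.X b t with hz
  have hzker : ∀ t, π (z t) = 1 := by
    intro t
    show π ((T₂.X b t)⁻¹ * T₁.X b t) = 1
    rw [map_mul, map_inv, hb t, inv_mul_cancel]
  have hzc : ∀ t (a : Γ), z t * a = a * z t := fun t a => h.comm_of_map_one (hzker t) a
  have hzadd : ∀ t u, z (t + u) = z t * z u := by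
    intro t u
    show (T₂.X b (t + u))⁻¹ * T₁.X b (t + u) = z t * z u
    rw [← T₂.add, ← T₁.add]
    calc (T₂.X b t * T₂.X b u)⁻¹ * (T₁.X b t * T₁.X b u)
        = (T₂.X b u)⁻¹ * (z t * T₁.X b u) := by simp only [hz]; group
      _ = (T₂.X b u)⁻¹ * (T₁.X b u * z t) := by rw [hzc t]
      _ = ((T₂.X b u)⁻¹ * T₁.X b u) * z t := by group
      _ = z t * z u := by rw [← hzc t]
  have hz0 : z 0 = 1 := by
    have := hzadd 0 0
    rw [add_zero] at this
    exact mul_eq_left.mp this.symm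
  have hzd : ∀ t, z (d * t) = z t := by
    intro t
    show (T₂.X b (d * t))⁻¹ * T₁.X b (d * t) = z t
    rw [← h1 t, ← h2 t, t3cr3_cj_congr h hg (T₁.X b t), ← cj_inv, ← cj_mul]
    exact h.cj_of_map_one (hzker t) g₂
  have hd' : d - 1 ≠ 0 := sub_ne_zero.mpr hd
  have hz1 : ∀ t, z ((d - 1) * t) = 1 := by
    intro t
    have e : (d - 1) * t = d * t + -t := by ring
    rw [e, hzadd, hzd, ← hzadd, add_neg_cancel, hz0]
  intro t
  have e : t = (d - 1) * ((d - 1)⁻¹ * t) := by field_simp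
  have h3 : z t = 1 := by rw [e]; exact hz1 _
  have h4 : (T₂.X b t)⁻¹ * T₁.X b t = 1 := h3
  exact (inv_mul_eq_one.mp h4).symm

/-- R3 [M] -/
theorem st_lift_unique (h : IsCE π) (hs : ∃ s : K, s ≠ 0 ∧ s ^ 2 ≠ 1) (T₁ T₂ : St K Γ)
    (h12 : ∀ b t, π (T₁.X b t) = π (T₂.X b t)) : ∀ b t, T₁.X b t = T₂.X b t := by
  obtain ⟨s, hs0, hs2⟩ := hs
  -- the torus elements have the same image
  have hw : ∀ t, π (T₁.w t) = π (T₂.w t) := by
    intro t
    rw [St.w_def, St.w_def]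
    simp only [map_mul, St.x, St.y, h12]
  have hh : π (T₁.h s) = π (T₂.h s) := by
    unfold St.h
    rw [map_mul, map_mul, hw, hw]
  intro b
  cases b
  · -- `b = false`: `h s` scales `y` by `s⁻¹ ^ 2`
    have hd : s⁻¹ ^ 2 ≠ 1 := by
      intro e
      apply hs2
      have : (s ^ 2)⁻¹ = 1 := by rw [← inv_pow]; exact e
      exact inv_eq_one.mp this
    exact t3cr3_one h T₁ T₂ false (h12 false) (T₁.h s) (T₂.h s) hh (s⁻¹ ^ 2) hd
      (fun t => T₁.h_y s t hs0) (fun t => T₂.h_y s t hs0)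
  · exact t3cr3_one h T₁ T₂ true (h12 true) (T₁.h s) (T₂.h s) hh (s ^ 2) hs2
      (fun t => T₁.h_x s t hs0) (fun t => T₂.h_x s t hs0)

end R

end Cfsg.Agent.Lib.Helper24.T3C
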