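import Mathlib
import Cfsg.Agent.Lib.helper23.TD4V.Defs
import Cfsg.Agent.Lib.helper4.TD4VG

/-!
# Project TD4V (S2462), row C0 (`step`): core on the statement of row Q3 (`iota_norm_Q'`).
-/

set_option autoImplicit false

namespace Cfsg.Agent.Lib.helper23.TD4V

open Cfsg.Lie Cfsg.Lie.ChevalleyDatum Matrix
open Cfsg.Agent.Lib.helper8 Cfsg.Agent.Lib.helper8.TD4
open Cfsg.Agent.Lib.helper23.P4V

universe u v

theorem td4vc0_core {F K : Type u} [Field F] [Field K] [Fintype F] [Fintype K] (j : F →+* K) (q : ℕ)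
    (hQ3 : ∀ (A : GL (Fin 2) F) (t : K) (_ : t ≠ 0) (u : GG K) (_ : u ∈ Q K q),
      (iota j q A t)⁻¹ * u * iota j q A t ∈ Q K q)
    (x y v v' l' u0 : GG K) (hy : y ∈ Q K q) (hu0 : u0 ∈ Q K q) (hid : y * v = v' * l' * u0)
    (A : GL (Fin 2) F) (t' : K) (ht' : t' ≠ 0) (u : GG K) (hu : u ∈ Q K q)
    (H : ∀ u'' ∈ Q K q, CovG q x (v' * (l' * iota j q A t') * u'')) :
    CovG q x (v * iota j q A t' * u) := by
  have hyG : y ∈ twistedD4 K q := hy.2
  apply CovG.of_conj q y hyG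
  have hu'' : (iota j q A t')⁻¹ * u0 * iota j q A t' * u * y⁻¹ ∈ Q K q :=
    mul_mem (mul_mem (hQ3 A t' ht' u0 hu0) hu) (inv_mem hy)
  have key : y * (v * iota j q A t' * u) * y⁻¹ =
      v' * (l' * iota j q A t') * ((iota j q A t')⁻¹ * u0 * iota j q A t' * u * y⁻¹) := by
    have h1 : y * (v * iota j q A t' * u) * y⁻¹ = (y * v) * iota j q A t' * u * y⁻¹ := by
      simp only [mul_assoc]
    rw [h1, hid]
    simp only [mul_assoc, mul_inv_cancel_left]
  rw [key]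
  exact H _ hu''

end Cfsg.Agent.Lib.helper23.TD4V
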