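import Mathlib
import Cfsg.Agent.Lib.Helper11.UNS.Defs

/-!
# Project UNS (helper11, S2316), row T2 (`uns_htop`), verbatim.
-/

set_option autoImplicit false

namespace Cfsg.Agent.Lib.Helper11.UNS

open Matrix Cfsg.Agent.Lib.helper14.SpBN Cfsg.Agent.Lib.helper3 Cfsg.Agent.Lib.helper14
  Cfsg.Agent.Lib.Helper5.UNI

universe u

variable {F : Type u} [Field F] {m : ℕ}

/-- T2 [S-M]  `closure (σ '' range m) = closure (Ssp m F)` (`sigmaS_surj`, `sigmaS_mem`), so
`B ⊔ closure _ ≥ B ⊔ (closure S ⊔ (B ⊓ N)) = B ⊔ N = ⊤` (`closure_Ssp_sup`, `Bsp_sup_Nsp hm`). -/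
theorem uns_htop (hm : 0 < m) :
    (spBN (F := F) hm).parabolic
      (sigmaS m F '' ((Finset.range m : Finset ℕ) : Set ℕ)) = ⊤ := by
  rw [eq_top_iff, ← Bsp_sup_Nsp (F := F) hm, ← closure_Ssp_sup (m := m) (F := F)]
  unfold Cfsg.BNPair.parabolic
  have hB : (spBN (F := F) hm).B = Bsp m F := rfl
  rw [hB]
  have hcl : Subgroup.closure (Ssp m F) ≤
      Subgroup.closure (sigmaS m F '' ((Finset.range m : Finset ℕ) : Set ℕ)) := by
    apply Subgroup.closure_mono
    intro s hs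
    obtain ⟨i, hi, rfl⟩ := sigmaS_surj (F := F) hm s hs
    exact ⟨i, Finset.mem_coe.2 (Finset.mem_range.2 hi), rfl⟩
  apply sup_le le_sup_left
  apply sup_le
  · exact le_trans hcl le_sup_right
  · exact le_trans inf_le_left le_sup_left

end Cfsg.Agent.Lib.Helper11.UNS
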