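import Cfsg.Agent.Lib.helper6.UTP.Defs
import Cfsg.Agent.Lib.helper7.TP.MeetA
import Cfsg.Agent.Lib.Helper20.TPALG

/-!
# Project UTP (S5670, leader helper6), piece BTV : `btv_mem` VERBATIM; extras `utpbtv_*`.
-/

set_option autoImplicit false
set_option linter.unusedVariables false
set_option linter.unusedSectionVars false

namespace Cfsg.Agent.Lib.helper6.UTP

open Matrix
open scoped Kronecker
open Cfsg.Agent.Lib.helper7.TP

variable {F : Type*} [Field F] {a b : ℕ}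

/-- `ELm ζ w (cj σ w)` is an isometry as soon as `ζ` is skew-hermitian and `w` is isotropic. -/
theorem utpbtv_iso (σ : F ≃+* F) (hσ : Inv2 σ) (ζ : Matrix (Fin a) (Fin a) F)
    (hζ : ∀ u u' : Fin a → F, hf σ (ζ *ᵥ u) u' + hf σ u (ζ *ᵥ u') = 0) (w : Fin b → F)
    (h : cj σ w ⬝ᵥ w = 0) (x y : Fin a × Fin b → F) :
    hf σ (ELm ζ w (cj σ w) *ᵥ x) (ELm ζ w (cj σ w) *ᵥ y) = hf σ x y := by
  have hww : hf σ w w = 0 := (iso_iff σ w).1 h
  rw [ELm_mulVec, ELm_mulVec, hf_add_left, hf_add_right, hf_add_right, hf_ten, hww, mul_zero,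
    add_zero, hf_ten_right, hf_ten_left σ hσ]
  have := hζ (ctr (cj σ w) x) (ctr (cj σ w) y)
  rw [add_assoc, add_comm (hf σ (ctr (cj σ w) x) (ζ *ᵥ ctr (cj σ w) y)), this, add_zero]

/-- scalar skew matrices -/
theorem utpbtv_skew (σ : F ≃+* F) (c : F) (hc : σ c = -c) (u u' : Fin a → F) :
    hf σ ((c • (1 : Matrix (Fin a) (Fin a) F)) *ᵥ u) u' +
      hf σ u ((c • (1 : Matrix (Fin a) (Fin a) F)) *ᵥ u') = 0 := by
  rw [Matrix.smul_mulVec, Matrix.one_mulVec, Matrix.smul_mulVec, Matrix.one_mulVec,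
    hf_smul_left, hf_smul_right, hc]
  ring

/-- BTV [S-M] the `B`-transvections are in `T0u`. -/
theorem btv_mem (σ : F ≃+* F) (hσ : Inv2 σ) (c : F) (hc : σ c = -c) (w : Fin b → F)
    (h : cj σ w ⬝ᵥ w = 0) :
    EL (c • (1 : Matrix (Fin a) (Fin a) F)) w (cj σ w) h ∈ T0u σ a b := by
  have hψ' : cj σ w ⬝ᵥ (c • w) = 0 := by rw [dotProduct_smul, h, smul_zero]
  have heq : EL (c • (1 : Matrix (Fin a) (Fin a) F)) w (cj σ w) h =
      EL (1 : Matrix (Fin a) (Fin a) F) (c • w) (cj σ w) hψ' := by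
    apply Units.ext
    rw [EL_coe, EL_coe, tpalg_ELm_scalar]
  have hT0 : EL (c • (1 : Matrix (Fin a) (Fin a) F)) w (cj σ w) h ∈ T0 a b F := by
    rw [heq]
    exact tpmeet_EL_one_mem_T0 (c • w) (cj σ w) hψ'
  refine Subgroup.mem_inf.mpr ⟨(Subgroup.mem_inf.mp hT0).1, ?_⟩
  refine Subgroup.mem_inf.mpr ⟨?_, (Subgroup.mem_inf.mp hT0).2⟩
  rw [mem_GUm]
  intro x y
  rw [EL_coe]
  exact utpbtv_iso σ hσ _ (utpbtv_skew σ c hc) w h x y

end Cfsg.Agent.Lib.helper6.UTP
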