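import Cfsg.Agent.Lib.helper6.UTP.Defs
import Cfsg.Agent.Lib.Helper21.TPC1

/-!
# Project UTP (S5670, leader helper6), piece C1G (helper22) : `sqzero_kron_gen` VERBATIM vs `helper6/UTP/Skel`.

`t = α ⊗ β`, `N = t - 1` of rank `a`, `b ≥ 3`, `b ∤ a`.  If `β` is scalar then `N = γ ⊗ 1` has rank `b rank γ`, a multiple of `b`.
Otherwise `β w ∉ F w` for some `w`; `u ↦ N (u ⊗ w)` is injective, so its image (inside `A ⊗ ⟨w, β w⟩`) is the whole image of `N`;
a covector `ψ ≠ 0` killing `w, β w` (`b ≥ 3`) and `w'` with `ψ w' = 1` give `(ψ β w') α u' = u'` for all `u'`: `α` is scalar, and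
the rest is `Helper21.TPC1`.  (`N² = 0` is not needed.)
-/

set_option autoImplicit false
set_option linter.unusedVariables false
set_option linter.unusedSectionVars false

namespace Cfsg.Agent.Lib.helper6.UTP

open Matrix
open scoped Kronecker
open Cfsg.Agent.Lib.helper7.TP

variable {F : Type*} [Field F] {a b : ℕ}

/-- entries of `(γ ⊗ 1) v`. -/
theorem utpc1g_kron_one_mulVec (γ : Matrix (Fin a) (Fin a) F) (v : Fin a × Fin b → F)
    (i : Fin a) (j : Fin b) :
    ((γ ⊗ₖ (1 : Matrix (Fin b) (Fin b) F)) *ᵥ v) (i, j) = (γ *ᵥ fun i' => v (i', j)) i := by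
  simp only [Matrix.mulVec, dotProduct, Fintype.sum_prod_type, Matrix.kroneckerMap_apply,
    Matrix.one_apply]
  apply Finset.sum_congr rfl
  intro i' _
  simp

/-- `rank (γ ⊗ 1_b) = b * rank γ`. -/
theorem utpc1g_rank_kron_one (γ : Matrix (Fin a) (Fin a) F) :
    (γ ⊗ₖ (1 : Matrix (Fin b) (Fin b) F)).rank = b * γ.rank := by
  classical
  let Φ : (Fin b → LinearMap.range γ.mulVecLin) →ₗ[F] (Fin a × Fin b → F) :=
    { toFun := fun f p => (f p.2 : Fin a → F) p.1
      map_add' := by intro f g; funext p; simp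
      map_smul' := by intro c f; funext p; simp }
  have hΦ : ∀ f p, Φ f p = (f p.2 : Fin a → F) p.1 := fun f p => rfl
  have hinj : Function.Injective Φ := by
    intro f g h
    funext j
    apply Subtype.ext
    funext i
    exact congrFun h (i, j)
  have hrange : LinearMap.range Φ =
      LinearMap.range (γ ⊗ₖ (1 : Matrix (Fin b) (Fin b) F)).mulVecLin := by
    apply le_antisymm
    · rintro _ ⟨f, rfl⟩
      have : ∀ j, ∃ g : Fin a → F, γ *ᵥ g = (f j : Fin a → F) := fun j => by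
        obtain ⟨g, hg⟩ := (f j).2
        exact ⟨g, by rw [← hg, Matrix.mulVecLin_apply]⟩
      choose g hg using this
      refine ⟨fun p => g p.2 p.1, ?_⟩
      funext p
      obtain ⟨i, j⟩ := p
      rw [Matrix.mulVecLin_apply, utpc1g_kron_one_mulVec, hΦ]
      exact congrFun (hg j) i
    · rintro _ ⟨v, rfl⟩
      refine ⟨fun j => ⟨γ *ᵥ (fun i' => v (i', j)), ⟨_, Matrix.mulVecLin_apply _ _⟩⟩, ?_⟩
      funext p
      obtain ⟨i, j⟩ := p
      rw [Matrix.mulVecLin_apply, utpc1g_kron_one_mulVec, hΦ]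
  rw [Matrix.rank, ← hrange, LinearMap.finrank_range_of_inj hinj, Module.finrank_pi_fintype]
  simp [Matrix.rank]

/-- a non-zero covector killing two given vectors, `b ≥ 3`, and a vector on which it is `1`. -/
theorem utpc1g_covector (hb : 3 ≤ b) (x y : Fin b → F) :
    ∃ ψ w' : Fin b → F, ψ ⬝ᵥ x = 0 ∧ ψ ⬝ᵥ y = 0 ∧ ψ ⬝ᵥ w' = 1 := by
  classical
  let L : (Fin b → F) →ₗ[F] (F × F) :=
    { toFun := fun ψ => (ψ ⬝ᵥ x, ψ ⬝ᵥ y)
      map_add' := by intro ψ ψ'; simp [add_dotProduct]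
      map_smul' := by intro c ψ; simp [smul_dotProduct] }
  have hker : LinearMap.ker L ≠ ⊥ := by
    apply LinearMap.ker_ne_bot_of_finrank_lt
    rw [Module.finrank_prod, Module.finrank_self, Module.finrank_fin_fun]
    omega
  obtain ⟨ψ, hψk, hψ0⟩ := Submodule.exists_mem_ne_zero_of_ne_bot hker
  have hL : L ψ = 0 := LinearMap.mem_ker.mp hψk
  have h1 : ψ ⬝ᵥ x = 0 := congrArg Prod.fst hL
  have h2 : ψ ⬝ᵥ y = 0 := congrArg Prod.snd hL
  obtain ⟨j, hj⟩ := Function.ne_iff.1 hψ0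
  simp only [Pi.zero_apply] at hj
  refine ⟨ψ, Pi.single j (ψ j)⁻¹, h1, h2, ?_⟩
  rw [dotProduct_single, mul_inv_cancel₀ hj]

/-- if `β w ∉ F w` then `u ↦ (α ⊗ β - 1) (u ⊗ w)` is injective. -/
theorem utpc1g_inj (α : Matrix (Fin a) (Fin a) F) (β : Matrix (Fin b) (Fin b) F)
    (w : Fin b → F) (hw : ∀ c : F, β *ᵥ w ≠ c • w) (u : Fin a → F)
    (h : ten (α *ᵥ u) (β *ᵥ w) - ten u w = 0) : u = 0 := by
  rw [sub_eq_zero] at h
  by_contra hu
  obtain ⟨i, hi⟩ := Function.ne_iff.1 hu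
  simp only [Pi.zero_apply] at hi
  have hk : ∀ j, (α *ᵥ u) i * (β *ᵥ w) j = u i * w j := fun j => congrFun h (i, j)
  by_cases h0 : (α *ᵥ u) i = 0
  · apply hw 0
    have hw0 : w = 0 := by
      funext j
      have := hk j
      rw [h0, zero_mul] at this
      rcases mul_eq_zero.1 this.symm with h2 | h2
      · exact absurd h2 hi
      · exact h2
    rw [hw0, Matrix.mulVec_zero, smul_zero]
  · apply hw (u i / (α *ᵥ u) i)
    funext j
    rw [Pi.smul_apply, smul_eq_mul]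
    have := hk j
    field_simp
    linear_combination this

/-- C1G -/
theorem sqzero_kron_gen (ha : 1 ≤ a) (hb : 3 ≤ b) (hdiv : ¬ b ∣ a)
    (t : Matrix.GeneralLinearGroup (Fin a × Fin b) F) (ht : t ∈ K0 a b F)
    (hsq : ((t : Matrix (Fin a × Fin b) (Fin a × Fin b) F) - 1) *
      ((t : Matrix (Fin a × Fin b) (Fin a × Fin b) F) - 1) = 0)
    (hrk : ((t : Matrix (Fin a × Fin b) (Fin a × Fin b) F) - 1).rank = a) :
    ∃ w' : Fin b → F, w' ≠ 0 ∧ ∀ v : Fin a × Fin b → F,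
      (∃ v' : Fin a × Fin b → F,
        v = ((t : Matrix (Fin a × Fin b) (Fin a × Fin b) F) - 1) *ᵥ v') ↔ v ∈ Bline (a := a) w' := by
  classical
  obtain ⟨α, β, hαβ⟩ := (mem_K0 t).1 ht
  rw [hαβ] at hrk ⊢
  have h11 : (1 : Matrix (Fin a × Fin b) (Fin a × Fin b) F) =
      (1 : Matrix (Fin a) (Fin a) F) ⊗ₖ (1 : Matrix (Fin b) (Fin b) F) :=
    (Matrix.one_kronecker_one).symm
  have hb1 : 1 ≤ b := by omega
  -- β is not scalar
  have hβ : ∃ w : Fin b → F, ∀ c : F, (β : Matrix (Fin b) (Fin b) F) *ᵥ w ≠ c • w := by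
    by_contra hcon
    push Not at hcon
    obtain ⟨c, hc⟩ := tpc1_scalar_of_all_eigen hb1 (β : Matrix (Fin b) (Fin b) F) hcon
    have hN : (α : Matrix (Fin a) (Fin a) F) ⊗ₖ (β : Matrix (Fin b) (Fin b) F) - 1 =
        (c • (α : Matrix (Fin a) (Fin a) F) - 1) ⊗ₖ (1 : Matrix (Fin b) (Fin b) F) := by
      rw [hc, Matrix.kronecker_smul, ← Matrix.smul_kronecker, sub_eq_iff_eq_add, h11,
        ← Matrix.add_kronecker, sub_add_cancel]
    rw [hN, utpc1g_rank_kron_one] at hrk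
    exact hdiv ⟨_, hrk.symm⟩
  obtain ⟨w, hw⟩ := hβ
  -- the image of `N` is the image of `u ↦ N (u ⊗ w)`
  have hNt : ∀ (u : Fin a → F) (w : Fin b → F),
      ((α : Matrix (Fin a) (Fin a) F) ⊗ₖ (β : Matrix (Fin b) (Fin b) F) - 1) *ᵥ ten u w =
        ten ((α : Matrix (Fin a) (Fin a) F) *ᵥ u) ((β : Matrix (Fin b) (Fin b) F) *ᵥ w) - ten u w := by
    intro u w
    rw [Matrix.sub_mulVec, Matrix.one_mulVec, kron_mulVec_ten]
  have him : ∀ v' : Fin a × Fin b → F, ∃ u : Fin a → F,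
      ((α : Matrix (Fin a) (Fin a) F) ⊗ₖ (β : Matrix (Fin b) (Fin b) F) - 1) *ᵥ v' =
        ten ((α : Matrix (Fin a) (Fin a) F) *ᵥ u) ((β : Matrix (Fin b) (Fin b) F) *ᵥ w) - ten u w := by
    let φ : (Fin a → F) →ₗ[F] (Fin a × Fin b → F) :=
      { toFun := fun u => ((α : Matrix (Fin a) (Fin a) F) ⊗ₖ (β : Matrix (Fin b) (Fin b) F) - 1) *ᵥ ten u w
        map_add' := by
          intro u u'
          rw [ten_add_left, Matrix.mulVec_add]
        map_smul' := by
          intro c u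
          rw [ten_smul_left, Matrix.mulVec_smul, RingHom.id_apply] }
    have hφ : ∀ u, φ u =
        ((α : Matrix (Fin a) (Fin a) F) ⊗ₖ (β : Matrix (Fin b) (Fin b) F) - 1) *ᵥ ten u w := fun u => rfl
    have hinj : Function.Injective φ := by
      rw [← LinearMap.ker_eq_bot, LinearMap.ker_eq_bot']
      intro u hu
      rw [hφ, hNt] at hu
      exact utpc1g_inj _ _ w hw u hu
    have hle : LinearMap.range φ ≤ LinearMap.range
        ((α : Matrix (Fin a) (Fin a) F) ⊗ₖ (β : Matrix (Fin b) (Fin b) F) - 1).mulVecLin := by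
      rintro _ ⟨u, rfl⟩
      exact ⟨ten u w, by rw [Matrix.mulVecLin_apply, hφ]⟩
    have hfin : Module.finrank F (LinearMap.range φ) = Module.finrank F (LinearMap.range
        ((α : Matrix (Fin a) (Fin a) F) ⊗ₖ (β : Matrix (Fin b) (Fin b) F) - 1).mulVecLin) := by
      rw [LinearMap.finrank_range_of_inj hinj, Module.finrank_fin_fun]
      exact hrk.symm
    have heq := Submodule.eq_of_le_of_finrank_eq hle hfin
    intro v'
    have hmem : ((α : Matrix (Fin a) (Fin a) F) ⊗ₖ (β : Matrix (Fin b) (Fin b) F) - 1) *ᵥ v' ∈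
        LinearMap.range φ := by
      rw [heq]
      exact ⟨v', Matrix.mulVecLin_apply _ _⟩
    obtain ⟨u, hu⟩ := hmem
    exact ⟨u, by rw [← hu, hφ, hNt]⟩
  -- α is scalar
  obtain ⟨ψ, w', hψ1, hψ2, hψ3⟩ := utpc1g_covector hb w ((β : Matrix (Fin b) (Fin b) F) *ᵥ w)
  have hsc : ∃ c : F, (α : Matrix (Fin a) (Fin a) F) = c • (1 : Matrix (Fin a) (Fin a) F) := by
    apply tpc1_scalar_of_all_eigen ha
    intro u'
    obtain ⟨u, hu⟩ := him (ten u' w')
    rw [hNt] at hu
    have h1 := congrArg (ctr ψ) hu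
    have hsub : ∀ x y : Fin a × Fin b → F, ctr ψ (x - y) = ctr ψ x - ctr ψ y := by
      intro x y
      rw [sub_eq_add_neg, ctr_add, ← neg_one_smul F y, ctr_smul, neg_one_smul, ← sub_eq_add_neg]
    rw [hsub, hsub, ctr_ten, ctr_ten, ctr_ten, ctr_ten, hψ1, hψ2, hψ3, zero_smul, zero_smul,
      sub_zero, one_smul, sub_eq_zero] at h1
    by_cases hu0 : u' = 0
    · exact ⟨0, by rw [hu0, Matrix.mulVec_zero, smul_zero]⟩
    · have hne : ψ ⬝ᵥ (β : Matrix (Fin b) (Fin b) F) *ᵥ w' ≠ 0 := by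
        intro h0
        rw [h0, zero_smul] at h1
        exact hu0 h1.symm
      refine ⟨(ψ ⬝ᵥ (β : Matrix (Fin b) (Fin b) F) *ᵥ w')⁻¹, ?_⟩
      conv_rhs => rw [← h1]
      rw [smul_smul, inv_mul_cancel₀ hne, one_smul]
  obtain ⟨c, hc⟩ := hsc
  set γ : Matrix (Fin b) (Fin b) F := c • (β : Matrix (Fin b) (Fin b) F) - 1 with hγ
  have hN : (α : Matrix (Fin a) (Fin a) F) ⊗ₖ (β : Matrix (Fin b) (Fin b) F) - 1 =
      (1 : Matrix (Fin a) (Fin a) F) ⊗ₖ γ := by
    rw [hc, Matrix.smul_kronecker, ← Matrix.kronecker_smul, sub_eq_iff_eq_add, h11,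
      ← Matrix.kronecker_add, hγ, sub_add_cancel]
  rw [hN] at hrk ⊢
  have hNt' : ∀ (u : Fin a → F) (w : Fin b → F),
      ((1 : Matrix (Fin a) (Fin a) F) ⊗ₖ γ) *ᵥ ten u w = ten u (γ *ᵥ w) := by
    intro u w
    rw [kron_mulVec_ten, Matrix.one_mulVec]
  -- γ ≠ 0
  have hγ0 : ∃ w0 : Fin b → F, γ *ᵥ w0 ≠ 0 := by
    by_contra hcon
    push Not at hcon
    have hz : γ = 0 := by
      rw [Matrix.ext_iff_mulVec]
      intro w
      rw [hcon w, Matrix.zero_mulVec]
    rw [hz, Matrix.kronecker_zero, Matrix.rank_zero] at hrk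
    omega
  obtain ⟨w0, hw0⟩ := hγ0
  set w1' : Fin b → F := γ *ᵥ w0 with hw1'
  -- the image of γ is F w1'
  have him' : ∀ w1 : Fin b → F, ∃ d : F, γ *ᵥ w1 = d • w1' := by
    intro w1
    by_contra hcon
    push Not at hcon
    let φ : ((Fin a → F) × (Fin a → F)) →ₗ[F] (Fin a × Fin b → F) :=
      { toFun := fun p => ten p.1 w1' + ten p.2 (γ *ᵥ w1)
        map_add' := by
          intro p p'
          simp only [Prod.fst_add, Prod.snd_add, ten_add_left]
          abel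
        map_smul' := by
          intro d p
          simp only [Prod.smul_fst, Prod.smul_snd, ten_smul_left, RingHom.id_apply, smul_add] }
    have hφ : ∀ p, φ p = ten p.1 w1' + ten p.2 (γ *ᵥ w1) := fun p => rfl
    have hinj : Function.Injective φ := by
      rw [← LinearMap.ker_eq_bot, LinearMap.ker_eq_bot']
      rintro ⟨u1, u2⟩ hp
      rw [hφ] at hp
      simp only at hp
      have h2 : u2 = 0 := by
        funext i
        by_contra hi
        simp only [Pi.zero_apply] at hi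
        apply hcon (-(u1 i / u2 i))
        funext k
        have h1 := congrFun hp (i, k)
        simp only [ten, Pi.add_apply, Pi.zero_apply] at h1
        simp only [Pi.smul_apply, smul_eq_mul]
        field_simp
        linear_combination h1
      have h1 : u1 = 0 := by
        rw [h2] at hp
        have : ten (0 : Fin a → F) (γ *ᵥ w1) = 0 := by funext p; simp [ten]
        rw [this, add_zero] at hp
        exact tpc1_ten_eq_zero hp hw0
      rw [h1, h2]; rfl
    have h := tpc1_le_rank ((1 : Matrix (Fin a) (Fin a) F) ⊗ₖ γ) φ hinj (by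
      rintro ⟨u1, u2⟩
      refine ⟨ten u1 w0 + ten u2 w1, ?_⟩
      rw [hφ, Matrix.mulVec_add, hNt', hNt'])
    rw [Module.finrank_prod, Module.finrank_fin_fun, hrk] at h
    omega
  choose ψ' hψ' using him'
  have hγv : γ = Matrix.vecMulVec w1' (fun j => ψ' (Pi.single j 1)) := by
    ext k j
    have h1 := congrFun (hψ' (Pi.single j 1)) k
    rw [Matrix.mulVec_single_one] at h1
    simp only [Matrix.col_apply, Pi.smul_apply, smul_eq_mul] at h1
    rw [Matrix.vecMulVec_apply, h1, mul_comm]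
  refine ⟨w1', hw0, fun v => ⟨?_, ?_⟩⟩
  · rintro ⟨v', rfl⟩
    rw [mem_Bline]
    refine ⟨ctr (fun j => ψ' (Pi.single j 1)) v', ?_⟩
    conv_lhs => rw [hγv]
    rw [kron_vecMulVec_mulVec, Matrix.one_mulVec]
  · intro hv
    obtain ⟨u, rfl⟩ := (mem_Bline w1' v).1 hv
    exact ⟨ten u w0, by rw [hNt']⟩

end Cfsg.Agent.Lib.helper6.UTP
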