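import Mathlib
import Cfsg.Agent.Lib.helper7.CEC.Defs

/-!
# Project CEC (designer helper7, S2092), rows G1 (`CL_one CL_inv CL_closure cj_eq_of_CL CL_milnor_mul`) and G2 (`CL_w CL_h`), VERBATIM.
-/

set_option autoImplicit false

namespace Cfsg.Agent.Lib.helper7.CEC

open Cfsg.Agent.Lib.helper15.St2 Cfsg.Agent.Lib.helper7.Ce Cfsg.Agent.Lib.helper3.STC

section G

variable {Γ G : Type*} [Group Γ] [Group G] {σ : Γ →* G}

/-- G1 [S]  lifts of `1` are central. -/
theorem CL_one (h : IsCE σ) (w : G) : CL σ 1 w := by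
  intro a b ha _
  exact h.comm_of_map_one ha b

/-- G1 [S]  a lift of `x⁻¹` is the inverse of a lift of `x`, up to a central factor. -/
theorem CL_inv (h : IsCE σ) {x w : G} (hx : CL σ x w) : CL σ x⁻¹ w := by
  intro a b ha hb
  have h1 : σ a⁻¹ = x := by rw [map_inv, ha, inv_inv]
  have h2 := hx a⁻¹ b h1 hb
  calc a * b = a * (b * a⁻¹) * a := by group
    _ = a * (a⁻¹ * b) * a := by rw [h2]
    _ = b * a := by group

/-- G1 [S]  `IsCE.CL_mul_left`, `CL_inv`, `CL_one` and `Subgroup.closure_induction`. -/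
theorem CL_closure (h : IsCE σ) {A : Set G} {w : G} (hA : ∀ s ∈ A, CL σ s w) :
    ∀ g ∈ Subgroup.closure A, CL σ g w := by
  intro g hg
  induction hg using Subgroup.closure_induction with
  | mem x hx => exact hA x hx
  | one => exact CL_one h w
  | mul x y _ _ hx hy => exact h.CL_mul_left hx hy
  | inv x _ hx => exact CL_inv h hx

/-- G1 [S]  `e * X = X * e` by `hgy`. -/
theorem cj_eq_of_CL {g y : G} (hgy : CL σ g y) {e X : Γ} (he : σ e = g) (hX : σ X = y) : cj e X = X := by
  unfold cj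
  rw [hgy e X he hX, mul_inv_cancel_right]

/-- G1 [S]  if `x = cm p q * r` in `G` with `p`, `q` commuting with `w` and lifts of `r` commuting with lifts of `w`, then lifts of `x` commute with lifts of `w`
(`IsCE.milnor`, `IsCE.CL_mul_left`). -/
theorem CL_milnor_mul (h : IsCE σ) {p q r w : G} (hp : p * w = w * p) (hq : q * w = w * q) (hr : CL σ r w) :
    CL σ (cm p q * r) w :=
  h.CL_mul_left (h.milnor hp hq) hr

end G

section S0

variable {K : Type*} [Field K] {ι : Type*} {Γ G : Type*} [Group Γ] [Group G] {S : SysC K ι G} {σ : Γ →* G}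

/-- G2 [S]  `S.w c d u` and `S.h c d u` are products of root elements `x c d _`, `x d c _` (`unfold SysC.w SysC.h`, `IsCE.CL_mul_left`). -/
theorem CL_w (h : IsCE σ) {c d : ι ⊕ ι} {y : G} (hcd : ∀ t, CL σ (S.x c d t) y) (hdc : ∀ t, CL σ (S.x d c t) y) (u : K) :
    CL σ (S.w c d u) y := by
  unfold SysC.w
  exact h.CL_mul_left (h.CL_mul_left (hcd u) (hdc _)) (hcd u)

theorem CL_h (h : IsCE σ) {c d : ι ⊕ ι} {y : G} (hcd : ∀ t, CL σ (S.x c d t) y) (hdc : ∀ t, CL σ (S.x d c t) y) (u : K) :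
    CL σ (S.h c d u) y := by
  unfold SysC.h
  exact h.CL_mul_left (CL_w h hcd hdc u) (CL_w h hcd hdc (-1))

end S0

end Cfsg.Agent.Lib.helper7.CEC
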