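import Mathlib
import Cfsg.Prelude.Def_ChevStructure
import Cfsg.Agent.Lib.helper14.INV.F4Defs

/-!
# Project INV, piece COLL : soundness of the collection process in characteristic two (helper22)

`coll_sound` carries the extra hypothesis `hO : H8Ord D` (agreed with helper14): the roots produced by
the commutator formula for two positive roots are positive roots.
-/

set_option autoImplicit false

namespace Cfsg.Agent.Lib.helper14.INV

open Cfsg.Lie Cfsg.Lie.ChevalleyDatum Cfsg.Agent.Lib.helper8 Cfsg.Agent.Lib.helper14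

universe u

variable {F : Type u} [Field F]

theorem invcoll_w1_nil (D : ChevalleyDatum) (hB : H8Base.{u} D) :
    (w1 D hB [] : GL D.Idx F) = 1 := rfl

theorem invcoll_w1_cons (D : ChevalleyDatum) (hB : H8Base.{u} D) (a : ℕ) (l : List ℕ) :
    (w1 D hB (a :: l) : GL D.Idx F) = h8xU D hB a 1 * w1 D hB l := by
  unfold w1
  rw [List.map_cons, h8wordU_cons]

theorem invcoll_w1_append (D : ChevalleyDatum) (hB : H8Base.{u} D) (l₁ l₂ : List ℕ) :
    (w1 D hB (l₁ ++ l₂) : GL D.Idx F) = w1 D hB l₁ * w1 D hB l₂ := by
  unfold w1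
  rw [List.map_append, h8wordU_append]

/-- `x_a(1) x_a(1) = 1` in characteristic two -/
theorem invcoll_xx [CharP F 2] (D : ChevalleyDatum) (hB : H8Base.{u} D) (a : ℕ)
    (ha : a < D.nroots) : h8xU D hB a (1 : F) * h8xU D hB a 1 = 1 := by
  rw [h8xU_add D hB a ha]
  have h2 : (1 : F) + 1 = 0 := by
    have := CharP.cast_eq_zero F 2
    rw [← this]
    norm_num
  rw [h2, h8xU_zero]

/-- integers in characteristic two -/
theorem invcoll_cast [CharP F 2] (n : ℤ) :
    ((n : ℤ) : F) = if n % 2 = 0 then 0 else 1 := by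
  have h2 : (2 : F) = 0 := by
    have := CharP.cast_eq_zero F 2
    rw [← this]
    norm_num
  have hn : n = 2 * (n / 2) + n % 2 := (Int.mul_ediv_add_emod n 2).symm
  have hcases : n % 2 = 0 ∨ n % 2 = 1 := Int.emod_two_eq_zero_or_one n
  rcases hcases with h | h
  · rw [if_pos h]
    rw [hn, h]
    push_cast
    rw [h2]
    ring
  · rw [if_neg (by rw [h]; norm_num)]
    rw [hn, h]
    push_cast
    rw [h2]
    ring

/-- the commutator word for `t = u = 1` in characteristic two -/
theorem invcoll_commWord [CharP F 2] (D : ChevalleyDatum) (hB : H8Base.{u} D)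
    (L : List (ℕ × ℤ × ℕ × ℕ)) :
    (h8wordU D hB (L.map fun c => (c.1, ((c.2.1 : ℤ) : F) * (-1) ^ c.2.2.1 * 1 ^ c.2.2.2)) :
        GL D.Idx F) =
      w1 D hB ((L.filter fun c => c.2.1 % 2 ≠ 0).map fun c => c.1) := by
  have hneg : (-1 : F) = 1 := by
    have h2 : (1 : F) + 1 = 0 := by
      have := CharP.cast_eq_zero F 2
      rw [← this]
      norm_num
    exact neg_eq_of_add_eq_zero_left h2
  induction L with
  | nil => rfl
  | cons c L ih =>
    rw [List.map_cons, h8wordU_cons, ih]
    simp only
    rw [hneg, one_pow, one_pow, mul_one, mul_one, invcoll_cast]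
    by_cases hc : c.2.1 % 2 = 0
    · rw [if_pos hc, h8xU_zero, one_mul, List.filter_cons_of_neg (by simp [hc])]
    · rw [if_neg hc, List.filter_cons_of_pos (by simp [hc]), List.map_cons, invcoll_w1_cons]

/-- the commutation rule used by `collStep` -/
theorem invcoll_swap [CharP F 2] (D : ChevalleyDatum) (hB : H8Base.{u} D) (hC : H8CommAll.{u} D)
    (a b : ℕ) (ha : D.IsPosRoot a) (hb : D.IsPosRoot b) (hab : a ≠ b) :
    (h8xU D hB a (1 : F) * h8xU D hB b 1 : GL D.Idx F) =
      h8xU D hB b 1 * h8xU D hB a 1 *
        w1 D hB (((D.commTerms b a).filter fun c => c.2.1 % 2 ≠ 0).map fun c => c.1) := by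
  have hneg : a ≠ D.negIdx.getD b 0 := by
    have h1 := (h8PosOK_spec hB.posOK ha).1
    have h2 := (h8PosOK_spec hB.posOK hb).2.1
    omega
  have key := hC.all b hb.1 a ha.1 hab hneg F 1 1
  rw [← invcoll_commWord D hB]
  apply Units.ext
  rw [Units.val_mul, Units.val_mul, Units.val_mul, h8xU_val, h8xU_val, h8wordU_val, key]
  rfl

/-- one pass of the collection process: the product is unchanged and the roots stay positive -/
theorem invcoll_step [CharP F 2] (D : ChevalleyDatum) (hB : H8Base.{u} D) (hC : H8CommAll.{u} D)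
    (hO : H8Ord D) :
    ∀ (w : List ℕ), (∀ r ∈ w, D.IsPosRoot r) →
      (w1 D hB (collStep D w) : GL D.Idx F) = w1 D hB w ∧ ∀ r ∈ collStep D w, D.IsPosRoot r
  | [], _ => ⟨rfl, by simp [collStep]⟩
  | [a], h => ⟨rfl, by simpa [collStep] using h⟩
  | a :: b :: l, h => by
    have ha : D.IsPosRoot a := h a (by simp)
    have hb : D.IsPosRoot b := h b (by simp)
    have hl : ∀ r ∈ l, D.IsPosRoot r := fun r hr => h r (by simp [hr])
    unfold collStep
    split_ifs with h1 h2
    · -- `a = b`
      refine ⟨?_, hl⟩
      rw [invcoll_w1_cons, invcoll_w1_cons, ← mul_assoc, h1, invcoll_xx D hB b hb.1, one_mul]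
    · -- `b < a`
      have hpos := (hO.comm b a hb ha h2).2
      constructor
      · have e := invcoll_swap (F := F) D hB hC a b ha hb h1
        rw [invcoll_w1_append, invcoll_w1_cons D hB b, invcoll_w1_cons D hB a,
          invcoll_w1_cons D hB a (b :: l), invcoll_w1_cons D hB b l, ← mul_assoc (h8xU D hB a 1),
          e]
        simp only [mul_assoc]
      · intro r hr
        simp only [List.mem_cons, List.mem_append, List.mem_map, List.mem_filter] at hr
        rcases hr with (rfl | rfl | ⟨c, ⟨hc, -⟩, rfl⟩) | hr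
        · exact hb
        · exact ha
        · exact (hpos c hc).1
        · exact hl r hr
    · -- recursion
      obtain ⟨ih1, ih2⟩ := invcoll_step D hB hC hO (b :: l)
        (fun r hr => h r (List.mem_cons_of_mem _ hr))
      constructor
      · rw [invcoll_w1_cons, ih1, ← invcoll_w1_cons]
      · intro r hr
        rcases List.mem_cons.mp hr with rfl | hr
        · exact ha
        · exact ih2 r hr

/-- the roots stay positive during the collection -/
theorem coll_pos [CharP F 2] (D : ChevalleyDatum) (hB : H8Base.{u} D) (hC : H8CommAll.{u} D)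
    (hO : H8Ord D) (fuel : ℕ) (w : List ℕ) (hw : ∀ r ∈ w, D.IsPosRoot r) :
    ∀ r ∈ coll D fuel w, D.IsPosRoot r := by
  induction fuel generalizing w with
  | zero => exact hw
  | succ n ih =>
    unfold coll
    rw [Function.iterate_succ_apply]
    exact ih (collStep D w) (invcoll_step (F := F) D hB hC hO w hw).2

set_option linter.unusedVariables false in
/-- COLL : the collection process does not change the product (characteristic two) -/
theorem coll_sound [CharP F 2] (D : ChevalleyDatum) (hB : H8Base.{u} D) (hC : H8CommAll.{u} D)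
    (hBN : H8BN D) (hO : H8Ord D) (fuel : ℕ) (w : List ℕ) (hw : ∀ r ∈ w, D.IsPosRoot r) :
    (w1 D hB w : GL D.Idx F) = w1 D hB (coll D fuel w) := by
  induction fuel generalizing w with
  | zero => rfl
  | succ n ih =>
    obtain ⟨h1, h2⟩ := invcoll_step (F := F) D hB hC hO w hw
    unfold coll
    rw [Function.iterate_succ_apply]
    rw [← h1]
    exact ih (collStep D w) h2

end Cfsg.Agent.Lib.helper14.INV
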