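import Mathlib
import Cfsg.Prelude.Def_ChevStructure
import Cfsg.Agent.Lib.Helper12.INVE8.Defs
import Cfsg.Agent.Lib.helper14.INVFUSEb
import Cfsg.Agent.Lib.helper8.ChevBNAll
import Cfsg.Agent.Lib.helper8.ChevCommAll
import Cfsg.Agent.Lib.helper8.ChevOrdAll
import Cfsg.Agent.Lib.helper8.ChevReflAll

/-!
# Project INVE8 (S2176), piece FUSE : the fusion of the nine products of root elements into the four
classes (helper22)
-/

set_option autoImplicit false
set_option linter.unusedVariables false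

namespace Cfsg.Agent.Lib.Helper12.INVE8

open Cfsg.Lie Cfsg.Lie.ChevalleyDatum Cfsg.Agent.Lib.helper8 Cfsg.Agent.Lib.helper14
  Cfsg.Agent.Lib.helper14.INV

universe u

variable {F : Type u} [Field F]

theorem e8fuse_mem : chevE8 ∈ [chevG2, chevB2, chevD4, chevF4, chevE6, chevE7, chevE8] := by simp

/-- the fusion paths of `e8Path` in the move format of `fuseb_run` -/
def e8fuse_mv (k : ℕ) : List (Bool × ℕ) :=
  (e8Path.getD k []).map fun e => (decide (e.1 = 0), e.2)

/-- the end point of the `k`-th path -/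
def e8fuse_tgt (k : ℕ) : List ℕ :=
  if k ≤ 3 then e8Std.getD k [] else if k = 4 then [218, 222, 228]
  else if k = 5 then [213, 216, 220, 226] else e8Std.getD (k - 1) []

set_option maxRecDepth 100000 in
theorem e8fuse_run : ∀ k < 9,
    fuseb_ok chevE8 20 (e8fuse_mv k) (e8Std.getD k []) = true ∧
    fuseb_run chevE8 20 (e8fuse_mv k) (e8Std.getD k []) = e8fuse_tgt k := by decide +kernel

set_option maxRecDepth 100000 in
theorem e8fuse_coll : coll chevE8 20 [228, 222, 218] = [218, 222, 228] ∧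
    coll chevE8 20 [226, 220, 213, 216] = [213, 216, 220, 226] ∧
    (∀ r ∈ [228, 222, 218], chevE8.IsPosRoot r) ∧
    (∀ r ∈ [226, 220, 213, 216], chevE8.IsPosRoot r) := by decide +kernel

/-- the `k`-th standard product is conjugate to the product over the end point of its path -/
theorem e8fuse_step [CharP F 2] (hB : H8Base.{u} chevE8) (k : ℕ) (hk : k < 9) :
    Cj chevE8 (w1 chevE8 hB (e8Std.getD k []) : GL chevE8.Idx F) (w1 chevE8 hB (e8fuse_tgt k)) := by
  have hA := h8reflAll chevE8 e8fuse_mem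
  have hC := h8commAll.{u} chevE8 e8fuse_mem
  have hBN := h8bn_all chevE8 e8fuse_mem
  obtain ⟨hO, _⟩ := h8ord_all chevE8 e8fuse_mem
  obtain ⟨h1, h2⟩ := e8fuse_run k hk
  rw [← h2]
  exact fuseb_run_cj chevE8 hB hA hC hBN hO 20 _ _ h1

/-- the sorted products are the representatives -/
theorem e8fuse_sorted3 [CharP F 2] (hB : H8Base.{u} chevE8) :
    (w1 chevE8 hB [218, 222, 228] : GL chevE8.Idx F) = w1 chevE8 hB [228, 222, 218] := by
  have hC := h8commAll.{u} chevE8 e8fuse_mem
  have hBN := h8bn_all chevE8 e8fuse_mem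
  obtain ⟨hO, _⟩ := h8ord_all chevE8 e8fuse_mem
  obtain ⟨c1, _, p1, _⟩ := e8fuse_coll
  rw [coll_sound chevE8 hB hC hBN hO 20 [228, 222, 218] p1, c1]

theorem e8fuse_sorted4 [CharP F 2] (hB : H8Base.{u} chevE8) :
    (w1 chevE8 hB [213, 216, 220, 226] : GL chevE8.Idx F) = w1 chevE8 hB [226, 220, 213, 216] := by
  have hC := h8commAll.{u} chevE8 e8fuse_mem
  have hBN := h8bn_all chevE8 e8fuse_mem
  obtain ⟨hO, _⟩ := h8ord_all chevE8 e8fuse_mem
  obtain ⟨_, c2, _, p2⟩ := e8fuse_coll
  rw [coll_sound chevE8 hB hC hBN hO 20 [226, 220, 213, 216] p2, c2]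

/-- FUSE : the fusion of the nine products of root elements into the four classes -/
theorem e8_fuse [CharP F 2] (hB : H8Base.{u} chevE8) (k : ℕ) (hk : k < 9) :
    Cj chevE8 (w1 chevE8 hB (e8Std.getD k []) : GL chevE8.Idx F) (w1 chevE8 hB (e8Rep.getD k [])) := by
  have s4 := e8fuse_step (F := F) hB 4 (by norm_num)
  have s5 := e8fuse_step (F := F) hB 5 (by norm_num)
  have s6 := e8fuse_step (F := F) hB 6 (by norm_num)
  have s7 := e8fuse_step (F := F) hB 7 (by norm_num)
  have s8 := e8fuse_step (F := F) hB 8 (by norm_num)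
  have t4 : e8fuse_tgt 4 = [218, 222, 228] := by decide
  have t5 : e8fuse_tgt 5 = [213, 216, 220, 226] := by decide
  have t6 : e8fuse_tgt 6 = e8Std.getD 5 [] := by decide
  have t7 : e8fuse_tgt 7 = e8Std.getD 6 [] := by decide
  have t8 : e8fuse_tgt 8 = e8Std.getD 7 [] := by decide
  rw [t4, e8fuse_sorted3] at s4
  rw [t5, e8fuse_sorted4] at s5
  rw [t6] at s6
  rw [t7] at s7
  rw [t8] at s8
  have r5 := s5
  have r6 := fuseb_cj_trans chevE8 s6 r5
  have r7 := fuseb_cj_trans chevE8 s7 r6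
  have r8 := fuseb_cj_trans chevE8 s8 r7
  interval_cases k
  · exact fuseb_cj_refl chevE8 _
  · exact fuseb_cj_refl chevE8 _
  · exact fuseb_cj_refl chevE8 _
  · exact fuseb_cj_refl chevE8 _
  · exact s4
  · exact r5
  · exact r6
  · exact r7
  · exact r8

end Cfsg.Agent.Lib.Helper12.INVE8
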