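import Mathlib
import Cfsg.Prelude.Def_AxialAlgebras
import Cfsg.Agent.Lib.Helper24.SAK.Defs

set_option autoImplicit false

namespace Cfsg.Agent.Lib.Helper24.SAK

open Cfsg.Axial

variable {V : Type*} [AddCommGroup V] [Module ℝ V]

theorem saka5_eigen_le_eigenSum (mul : V →ₗ[ℝ] V →ₗ[ℝ] V) (a : V) (c : ℝ) (T : Set ℝ)
    (hc : c ∈ T) : eigen mul a c ≤ eigenSum mul a T :=
  le_biSup (fun c => eigen mul a c) hc

theorem saka5_mem_eigen (mul : V →ₗ[ℝ] V →ₗ[ℝ] V) (a v : V) (c : ℝ) :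
    v ∈ eigen mul a c ↔ mul a v = c • v := by
  unfold eigen
  rw [Module.End.mem_eigenspace_iff]

/-- `B a v = 0` for `v` an eigenvector of `ad a` for an eigenvalue `c ≠ 1`. -/
theorem saka5_orth_axis (mul : V →ₗ[ℝ] V →ₗ[ℝ] V) (B : LinearMap.BilinForm ℝ V)
    (hfrob : ∀ u v w : V, B u (mul v w) = B (mul u v) w) (a u : V) (c : ℝ) (hc : c ≠ 1)
    (haa : mul a a = a) (hu : mul a u = c • u) : B a u = 0 := by
  have h1 := hfrob a a u
  rw [haa, hu, map_smul, smul_eq_mul] at h1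
  have : (c - 1) * B a u = 0 := by linarith
  rcases mul_eq_zero.mp this with h | h
  · exact absurd (by linarith) hc
  · exact h

theorem saka5_mu_fix {mul : V →ₗ[ℝ] V →ₗ[ℝ] V} {B : LinearMap.BilinForm ℝ V} {μ : V ≃ₗ[ℝ] V}
    {a : V} (h : IsMajoranaPair mul B μ a) : μ a = a := by
  obtain ⟨-, -, ⟨⟨hne, hidem, htop, hfus⟩, hprim⟩, ⟨hfix, hneg⟩⟩ := h
  have : a ∈ eigen mul a 1 := by
    rw [saka5_mem_eigen, hidem, one_smul]
  exact hfix a (saka5_eigen_le_eigenSum mul a 1 _ (by simp) this)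

theorem decomp4 {mul : V →ₗ[ℝ] V →ₗ[ℝ] V} {B : LinearMap.BilinForm ℝ V} {μ : V ≃ₗ[ℝ] V} {a : V}
    (hV : IsMajoranaAmbient mul B) (h : IsMajoranaPair mul B μ a) (hn : B a a = 1) (b : V) :
    ∃ b0 b4 b32 : V, mul a b0 = 0 ∧ mul a b4 = (1 / 4 : ℝ) • b4 ∧ mul a b32 = (1 / 32 : ℝ) • b32 ∧
      b = B a b • a + b0 + b4 + b32 ∧ μ b = B a b • a + b0 + b4 - b32 := by
  obtain ⟨hcomm, hsymm, hpos, hfrob, hnorton⟩ := hV
  obtain ⟨-, -, ⟨⟨hne, hidem, htop, hfus⟩, hprim⟩, ⟨hfix, hneg⟩⟩ := h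
  have hb' : b ∈ eigenSum mul a majoranaSpectrum := by rw [htop]; trivial
  unfold eigenSum majoranaSpectrum at hb'
  rw [iSup_insert, iSup_insert, iSup_insert, iSup_singleton] at hb'
  obtain ⟨v1, hv1, r1, hr1, hsum1⟩ := Submodule.mem_sup.mp hb'
  obtain ⟨v0, hv0, r2, hr2, hsum2⟩ := Submodule.mem_sup.mp hr1
  obtain ⟨vq, hvq, v32, hv32, hsum3⟩ := Submodule.mem_sup.mp hr2
  have f1 : μ v1 = v1 := hfix v1 (saka5_eigen_le_eigenSum mul a 1 _ (by simp) hv1)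
  have f0 : μ v0 = v0 := hfix v0 (saka5_eigen_le_eigenSum mul a 0 _ (by simp) hv0)
  have fq : μ vq = vq := hfix vq (saka5_eigen_le_eigenSum mul a (1 / 4) _ (by simp) hvq)
  have f32 : μ v32 = -v32 := hneg v32 hv32
  have hbsum : b = v1 + (v0 + (vq + v32)) := by rw [hsum3, hsum2, hsum1]
  rw [hprim] at hv1
  obtain ⟨t, ht⟩ := Submodule.mem_span_singleton.mp hv1
  have e0 : mul a v0 = (0 : ℝ) • v0 := (saka5_mem_eigen mul a v0 0).mp hv0
  have eq : mul a vq = (1 / 4 : ℝ) • vq := (saka5_mem_eigen mul a vq _).mp hvq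
  have e32 : mul a v32 = (1 / 32 : ℝ) • v32 := (saka5_mem_eigen mul a v32 _).mp hv32
  have ho0 : B a v0 = 0 := saka5_orth_axis mul B hfrob a v0 0 (by norm_num) hidem e0
  have hoq : B a vq = 0 := saka5_orth_axis mul B hfrob a vq (1 / 4) (by norm_num) hidem eq
  have ho32 : B a v32 = 0 := saka5_orth_axis mul B hfrob a v32 (1 / 32) (by norm_num) hidem e32
  have hBab : B a b = t := by
    rw [hbsum, ← ht]
    simp only [map_add, map_smul, smul_eq_mul, hn, ho0, hoq, ho32]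
    ring
  refine ⟨v0, vq, v32, by rw [e0, zero_smul], eq, e32, ?_, ?_⟩
  · rw [hBab, ht, hbsum]
    module
  · have : μ b = v1 + (v0 + (vq + -v32)) := by
      rw [hbsum, map_add, map_add, map_add, f1, f0, fq, f32]
    rw [this, hBab, ht]
    module

end Cfsg.Agent.Lib.Helper24.SAK
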