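import Mathlib
import Cfsg.Prelude.Def_AxialAlgebras
import Cfsg.Agent.Lib.Helper24.SAK.Defs
import Cfsg.Agent.Lib.Helper22.SAKA5

set_option autoImplicit false

namespace Cfsg.Agent.Lib.Helper24.SAK

open Cfsg.Axial

variable {V : Type*} [AddCommGroup V] [Module ℝ V]

theorem sg_fix {mul : V →ₗ[ℝ] V →ₗ[ℝ] V} {B : LinearMap.BilinForm ℝ V} {μ : V ≃ₗ[ℝ] V} {a : V}
    (hV : IsMajoranaAmbient mul B) (h : IsMajoranaPair mul B μ a) (hn : B a a = 1) (b : V) :
    μ (sg mul a b) = sg mul a b := by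
  obtain ⟨b0, b4, b32, e0, e4, e32, hb, hμb⟩ := decomp4 hV h hn b
  generalize B a b = t at hb hμb
  have hfix : μ a = a := saka5_mu_fix h
  have hmul : ∀ u v : V, μ (mul u v) = mul (μ u) (μ v) := h.1
  have haa : mul a a = a := h.2.2.1.1.2.1
  unfold sg
  rw [map_sub, map_smul, map_add, hmul, hfix]
  have h1 : mul a (μ b) = t • a + (1 / 4 : ℝ) • b4 - (1 / 32 : ℝ) • b32 := by
    rw [hμb]
    simp only [map_add, map_sub, map_smul, haa, e0, e4, e32]
    module
  have h2 : mul a b = t • a + (1 / 4 : ℝ) • b4 + (1 / 32 : ℝ) • b32 := by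
    conv_lhs => rw [hb]
    simp only [map_add, map_smul, haa, e0, e4, e32]
    module
  rw [h1, h2]
  conv_lhs => rw [hμb]
  conv_rhs => rw [hb]
  module

end Cfsg.Agent.Lib.Helper24.SAK
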