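import Mathlib
import Cfsg.Prelude.Def_Classical
import Cfsg.Prelude.Def_KGroupFacts
import Cfsg.Agent.Lib.Lead.SPM2.Defs
import Cfsg.Agent.Lib.helper23.SchurCoverD

/-!
# Project SPM2 (designer lead), row M2 CORE (helper22): `sig` is a Schur cover, with the conclusions of T8 `CovM.finite` and T10 `CovM.stem` as hypotheses.
Port of `Helper22.SPBM2core`, on helper23's `scv_cover_of_trivial`.
-/

set_option autoImplicit false

namespace Cfsg.Agent.Lib.Lead.SPM2

open Cfsg.Agent.Lib.helper15.St2 Cfsg.Agent.Lib.helper3.STC Cfsg.Agent.Lib.Lead.STD Cfsg.Agent.Lib.helper17.STM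
  Cfsg.Agent.Lib.Lead.SPN Cfsg.Agent.Lib.Helper16
open Cfsg.Agent.Lib.Helper12.OMN (omatM oglM omatM_mul omatM_one omatM_injective oglM_coe oglM_injective)

universe u v w

/-- M2 core -/
theorem CovM.spm2m2_core {m : ℕ} {F : Type u} [Field F] [Fintype F] {A B : F} [Fact (∀ r : F, r ^ 2 ≠ -B + A * r)] {G : Type u} [Group G] (C : CovM m F A B G)
    (hT8 : Finite G) (hT10 : Cfsg.IsStemExtension C.sig)
    (hG : Cfsg.HasCyclicSchurMultiplier G 1) {Z : Type w} [CommGroup Z] (e : Nonempty (C.sig.ker ≃* Z)) :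
    Cfsg.HasSchurMultiplier (Cfsg.POmega F (Cfsg.quadFormMinus m F A B)) Z := by
  obtain ⟨e⟩ := e
  have := hT8
  have hfinQ : Finite (Cfsg.POmega F (Cfsg.quadFormMinus m F A B)) := Finite.of_surjective C.sig hT10.1
  refine ⟨⟨G, inferInstance, hT8, C.sig, hT10, ⟨e⟩⟩, ?_⟩
  intro Δ _ _ τ hτ
  obtain ⟨π, hπ⟩ := Cfsg.Agent.Lib.helper23.scv_cover_of_trivial C.sig hT10 hG Δ τ hτ
  exact ⟨π.comp e.symm.toMonoidHom, hπ.comp e.symm.surjective⟩

end Cfsg.Agent.Lib.Lead.SPM2
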