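import Mathlib
import Cfsg.Agent.Lib.Helper22.SPM2M2core
import Cfsg.Agent.Lib.Helper11.SPM2T5
import Cfsg.Agent.Lib.Helper25.SPM2T10

/-!
# Project SPM2 (designer lead), row M2 (helper22), VERBATIM: `sig` is a Schur cover.
-/

set_option autoImplicit false

namespace Cfsg.Agent.Lib.Lead.SPM2

open Cfsg.Agent.Lib.helper15.St2 Cfsg.Agent.Lib.helper3.STC Cfsg.Agent.Lib.Lead.STD Cfsg.Agent.Lib.helper17.STM
  Cfsg.Agent.Lib.Lead.SPN Cfsg.Agent.Lib.Helper16
open Cfsg.Agent.Lib.Helper12.OMN (omatM oglM omatM_mul omatM_one omatM_injective oglM_coe oglM_injective)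

universe u v w

section M

/-- M2 [S-M]  `sig` is a Schur cover: helper23's `scv_cover_of_trivial C.sig C.stem hG Δ τ hτ` (`helper23.SchurCoverD`), T8, T10.  (Model: SPB M2, SPN M2 `helper4/SPNM1b.lean`.) -/
theorem CovM.schur {m : ℕ} {F : Type u} [Field F] [Fintype F] {A B : F} [Fact (∀ r : F, r ^ 2 ≠ -B + A * r)] {G : Type u} [Group G] (C : CovM m F A B G)
    (hstm : ∀ (H : Type u) [Group H], StmInjAt m F A B H) (homn : OmnSys m F A B)
    (hG : Cfsg.HasCyclicSchurMultiplier G 1) {Z : Type w} [CommGroup Z] (e : Nonempty (C.sig.ker ≃* Z)) :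
    Cfsg.HasSchurMultiplier (Cfsg.POmega F (Cfsg.quadFormMinus m F A B)) Z :=
  CovM.spm2m2_core C (CovM.finite C hstm) (CovM.stem C hstm homn) hG e

end M

end Cfsg.Agent.Lib.Lead.SPM2
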