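import Mathlib
import Cfsg.Agent.Lib.helper15.St2
import Cfsg.Agent.Lib.helper7.StA
import Cfsg.Agent.Lib.helper7.StC
import Cfsg.Agent.Lib.helper7.StE
import Cfsg.Agent.Lib.helper3.STC.Defs
import Cfsg.Agent.Lib.helper3.STC.Defs2
import Cfsg.Agent.Lib.helper3.STC.Defs3
import Cfsg.Agent.Lib.Helper24.STCI1
import Cfsg.Agent.Lib.Helper24.STCB1
import Cfsg.Agent.Lib.Helper26.STCN1

/-!
# STC rows J7 (`Rep.Phat_ker`) and J8 (`Rep.ker_trivial`), cores (designer helper3, Skel4)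

The cited rows R5 (`M_h_fst`), R6 (`Pg_col`, `Lg_col'`), J6 (`A_fix_eq_one`), J4 (`not_cell`), J5 (`cell0_fix`) enter as hypotheses with their statements;
R3 (`M_mul`, `M_eq_one_of_phi`) is proved here under own names.  Verbatim wrappers:
`Phat_ker R o hW hdec hYfix IHo hp h := stcj7_core R o hdec IHo (fun hab u hu => M_h_fst R hab u hu) (Pg_col R o) (Lg_col' R o)
   (fun a ha h => A_fix_eq_one R o hW hYfix ha h) hp h`,
`ker_trivial R o hW hInD hdec hYfix IHo g hg := stcj8_core R o hInD hYfix (fun k hk y p hy hp => not_cell R o hk hy hp)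
   (fun y p hy hp h => cell0_fix R o hy hp h) (fun p hp h => Phat_ker R o hW hdec hYfix IHo hp h) g hg`.
-/

set_option autoImplicit false

namespace Cfsg.Agent.Lib.helper3.STC

open Cfsg.Agent.Lib.helper15.St2 Cfsg.Agent.Lib.helper7.St Matrix

namespace SysC

namespace Rep

variable {K : Type*} [Field K] {ι : Type*} {G : Type*} [Group G] {S : SysC K ι G}
  {l : Type*} [Fintype l] [DecidableEq l] (R : S.Rep l)

theorem stcj7_M_mul (g g' : G) : R.M (g * g') = R.M g * R.M g' := by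
  unfold Rep.M
  rw [map_mul]
  rfl

theorem stcj7_M_eq_one_of_phi {g : G} (h : R.φ g = 1) : R.M g = 1 := by
  unfold Rep.M
  rw [h]
  rfl

variable (o : ι ⊕ ι)

theorem stcj7_core (hdec : ∀ p ∈ S.Phat o, p ∈ S.ALT o)
    (IHo : ∀ x ∈ S.Lg o, R.φ x = 1 → x = 1)
    (hR5 : ∀ {a b : ι ⊕ ι}, a ≠ b → ∀ u : K, u ≠ 0 →
      R.M (S.h a b u) *ᵥ ev (Em R.e a) = u • ev (Em R.e a))
    (hR6a : ∀ p ∈ S.Pg o, R.M p *ᵥ ev (Em R.e o) = ev (Em R.e o))
    (hR6b : ∀ x ∈ S.Lg o, R.M x *ᵥ ev (Em R.e (ng o)) = ev (Em R.e (ng o)))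
    (hJ6 : ∀ a ∈ S.Ag o, R.M a *ᵥ ev (Em R.e (ng o)) = ev (Em R.e (ng o)) → a = 1)
    {p : G} (hp : p ∈ S.Phat o) (h : R.φ p = 1) : p = 1 := by
  obtain ⟨a, ha, x, hx, c, hc, rfl⟩ := hdec p hp
  have hM := R.stcj7_M_eq_one_of_phi h
  -- `c = 1`
  have h1 : R.M (a * x * S.h o (ng o) c) *ᵥ ev (Em R.e o) = c • ev (Em R.e o) := by
    rw [R.stcj7_M_mul, R.stcj7_M_mul, ← Matrix.mulVec_mulVec, ← Matrix.mulVec_mulVec,
      hR5 (ne_ng o) c hc, Matrix.mulVec_smul, Matrix.mulVec_smul,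
      hR6a x (S.Lg_le_Pg o hx), hR6a a (S.Ag_le_Pg o ha)]
  rw [hM, Matrix.one_mulVec] at h1
  have hc1 : c = 1 := by
    have h2 := congrFun h1 (Em R.e o)
    simp only [ev, Pi.single_eq_same, Pi.smul_apply, smul_eq_mul, mul_one] at h2
    exact h2.symm
  subst hc1
  rw [S.h_one, mul_one] at h hM ⊢
  -- `a = 1`
  have h3 : R.M a *ᵥ ev (Em R.e (ng o)) = ev (Em R.e (ng o)) := by
    have h4 : R.M (a * x) *ᵥ ev (Em R.e (ng o)) = ev (Em R.e (ng o)) := by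
      rw [hM, Matrix.one_mulVec]
    rw [R.stcj7_M_mul, ← Matrix.mulVec_mulVec, hR6b x hx] at h4
    exact h4
  have ha1 : a = 1 := hJ6 a ha h3
  subst ha1
  rw [one_mul] at h ⊢
  exact IHo x hx h

theorem stcj8_core (hInD : ∀ g, S.InD o g)
    (hYfix : ∀ y ∈ S.Yg o, R.M y *ᵥ ev (Em R.e o) = ev (Em R.e o) → y = 1)
    (hJ4 : ∀ k, k ≠ o → ∀ y p : G, y ∈ S.Yg o → p ∈ S.Phat o → R.φ (S.w o k 1 * y * p) ≠ 1)
    (hJ5 : ∀ y p : G, y ∈ S.Yg o → p ∈ S.Phat o → R.φ (y * p) = 1 →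
      R.M y *ᵥ ev (Em R.e o) = ev (Em R.e o))
    (hJ7 : ∀ p ∈ S.Phat o, R.φ p = 1 → p = 1)
    (g : G) (hg : R.φ g = 1) : g = 1 := by
  rcases hInD g with ⟨y, hy, p, hp, rfl⟩ | ⟨k, hk, y, hy, p, hp, rfl⟩
  · have hy1 : y = 1 := hYfix y hy (hJ5 y p hy hp hg)
    subst hy1
    rw [one_mul] at hg ⊢
    exact hJ7 p hp hg
  · exact absurd hg (hJ4 k hk y p hy hp)

end Rep

end SysC

end Cfsg.Agent.Lib.helper3.STC
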