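import Mathlib
import Cfsg.Agent.Lib.helper15.St2
import Cfsg.Agent.Lib.helper7.StA
import Cfsg.Agent.Lib.helper7.StC
import Cfsg.Agent.Lib.helper7.StE
import Cfsg.Agent.Lib.helper3.STC.Defs
import Cfsg.Agent.Lib.helper3.STC.Defs2
import Cfsg.Agent.Lib.helper3.STC.Defs3
import Cfsg.Agent.Lib.Helper16.STCR5
import Cfsg.Agent.Lib.Helper18.STCJ6
import Cfsg.Agent.Lib.Helper29.STCJ4
import Cfsg.Agent.Lib.Helper22.STCJ7core

/-!
# STC rows J7 (`Rep.Phat_ker`) and J8 (`Rep.ker_trivial`), VERBATIM (designer helper3, Skel4)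

EXPRESS: the file does not wait for R6; `stcj7_Pg_col`, `stcj7_Lg_col'` carry the exact statements of R6 `Pg_col`, `Lg_col'`
(instances of helper29's `stcj4_XQ_colStab`).
-/

set_option autoImplicit false

namespace Cfsg.Agent.Lib.helper3.STC

open Cfsg.Agent.Lib.helper15.St2 Cfsg.Agent.Lib.helper7.St Matrix

namespace SysC

namespace Rep

variable {K : Type*} [Field K] {ι : Type*} {G : Type*} [Group G] {S : SysC K ι G}
  {l : Type*} [Fintype l] [DecidableEq l] (R : S.Rep l)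

variable (o : ι ⊕ ι)

/-- own-name copy of R6 `Pg_col` (exact statement) -/
theorem stcj7_Pg_col : ∀ p ∈ S.Pg o, R.M p *ᵥ ev (Em R.e o) = ev (Em R.e o) := by
  refine R.stcj4_XQ_colStab ?_
  rintro a b _ ⟨hb, ha⟩
  refine ⟨fun e => hb (stcj4_Em_injective R.e e), fun e => ha ?_⟩
  have e' := stcj4_Em_injective R.e e
  rw [← e']
  cases a <;> rfl

/-- own-name copy of R6 `Lg_col'` (exact statement) -/
theorem stcj7_Lg_col' : ∀ x ∈ S.Lg o, R.M x *ᵥ ev (Em R.e (ng o)) = ev (Em R.e (ng o)) := by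
  refine R.stcj4_XQ_colStab ?_
  rintro a b _ ⟨⟨ha, _⟩, ⟨_, hb⟩⟩
  refine ⟨fun e => hb (stcj4_Em_injective R.e e), fun e => ha ?_⟩
  have e' := stcj4_Em_injective R.e e
  cases a <;> cases o <;> simp_all [ng]

/-- J7 [M]  model `Rep.Phat_ker`: `p = a * l * h o (ng o) c` (`hdec`); `R.M p *ᵥ ev o = c • ev o` (`M_h_fst`, `Pg_col` with N1 `Ag_le_Pg`, `Lg_le_Pg`), so `c = 1` and `p = a * l` (`h_one`);
`R.M a *ᵥ ev (ng o) = R.M (a * l) *ᵥ ev (ng o) = ev (ng o)` (`Lg_col'`), `A_fix_eq_one`, then `IHo`. -/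
theorem Phat_ker [DecidableEq ι] (hW : S.HW) (hdec : ∀ p ∈ S.Phat o, p ∈ S.ALT o)
    (hYfix : ∀ y ∈ S.Yg o, R.M y *ᵥ ev (Em R.e o) = ev (Em R.e o) → y = 1)
    (IHo : ∀ x ∈ S.Lg o, R.φ x = 1 → x = 1) {p : G} (hp : p ∈ S.Phat o) (h : R.φ p = 1) : p = 1 :=
  stcj7_core R o hdec IHo (fun hab u hu => M_h_fst R hab u hu) (stcj7_Pg_col R o) (stcj7_Lg_col' R o)
    (fun _ ha h => A_fix_eq_one R o hW hYfix ha h) hp h

/-- J8 [S-M]  model `Rep.ker_trivial`. -/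
theorem ker_trivial [DecidableEq ι] (hW : S.HW) (hInD : ∀ g, S.InD o g) (hdec : ∀ p ∈ S.Phat o, p ∈ S.ALT o)
    (hYfix : ∀ y ∈ S.Yg o, R.M y *ᵥ ev (Em R.e o) = ev (Em R.e o) → y = 1)
    (IHo : ∀ x ∈ S.Lg o, R.φ x = 1 → x = 1) (g : G) (hg : R.φ g = 1) : g = 1 :=
  stcj8_core R o hInD hYfix (fun _ hk _ _ hy hp => not_cell R o hk hy hp)
    (fun _ _ hy hp h => cell0_fix R o hy hp h) (fun _ hp h => Phat_ker R o hW hdec hYfix IHo hp h) g hg

end Rep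

end SysC

end Cfsg.Agent.Lib.helper3.STC
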