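import Mathlib
import Cfsg.Agent.Lib.helper15.St2
import Cfsg.Agent.Lib.helper7.StA
import Cfsg.Agent.Lib.helper7.StC
import Cfsg.Agent.Lib.helper7.StE
import Cfsg.Agent.Lib.helper3.STC.Defs
import Cfsg.Agent.Lib.helper3.STC.Defs2
import Cfsg.Agent.Lib.Helper24.STCI1
import Cfsg.Agent.Lib.Helper24.STCB1

/-!
# STC row N6 (`Yj_Pg`) (designer helper3, Skel2)

Self-contained on block I / B (`Helper24.STCI1`, `Helper24.STCB1`) and the `SysC` axioms; own-name copies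
`stcn6_*` of the few `XQ` facts used (rows X1, N1 are not on main yet).
-/

set_option autoImplicit false

namespace Cfsg.Agent.Lib.helper3.STC

open Cfsg.Agent.Lib.helper15.St2 Cfsg.Agent.Lib.helper7.St

namespace SysC

variable {K : Type*} [Field K] {ι : Type*} {G : Type*} [Group G] (S : SysC K ι G)

theorem stcn6_x_mem_XQ {Q : ι ⊕ ι → ι ⊕ ι → Prop} {a b : ι ⊕ ι} (hab : a ≠ b) (hQ : Q a b) (t : K) :
    S.x a b t ∈ S.XQ Q :=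
  Subgroup.subset_closure ⟨a, b, t, hab, hQ, rfl⟩

theorem stcn6_XQ_mono {Q Q' : ι ⊕ ι → ι ⊕ ι → Prop} (h : ∀ a b, a ≠ b → Q a b → Q' a b) :
    S.XQ Q ≤ S.XQ Q' := by
  apply Subgroup.closure_mono
  rintro _ ⟨a, b, t, hab, hQ, rfl⟩
  exact ⟨a, b, t, hab, h a b hab hQ, rfl⟩

theorem stcn6_XQ_gens_inv (Q : ι ⊕ ι → ι ⊕ ι → Prop) :
    ∀ s ∈ {g | ∃ a b t, a ≠ b ∧ Q a b ∧ g = S.x a b t},
      s⁻¹ ∈ {g | ∃ a b t, a ≠ b ∧ Q a b ∧ g = S.x a b t} := by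
  rintro _ ⟨a, b, t, hab, hQ, rfl⟩
  exact ⟨a, b, -t, hab, hQ, (S.x_neg a b t).symm⟩

section N
variable (o : ι ⊕ ι)

/-- N6 [S-M]  moving `x o j s` across `y' ∈ Yj o j` (model `Sys.Yg'_Pg`): `cj y'⁻¹ (x o j s) ∈ Yg j` (N5), `= x (ng o) j v * z''` with `z'' ∈ Yj j (ng o)`
(`Yg_decomp` for the index `j` along `x (ng o) j`; `ng o ≠ j`, `ng o ≠ ng j`); `x (ng o) j v ∈ Yg o` (`x_mem_Yg'`) and `Yj j (ng o) ≤ Pg o`. -/
theorem Yj_Pg {j : ι ⊕ ι} (hj : j ≠ o) (hj' : j ≠ ng o)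
    (hdec : ∀ z ∈ S.Yg j, ∃ v : K, ∃ z'' ∈ S.Yj j (ng o), z = S.x (ng o) j v * z'')
    (hnorm : ∀ y' ∈ S.Yj o j, ∀ z ∈ S.Yg j, cj y' z ∈ S.Yg j) :
    ∀ y' ∈ S.Yj o j, ∀ s : K, ∃ y₂ ∈ S.Yg o, ∃ p ∈ S.Pg o, S.x o j s * y' = y' * y₂ * p := by
  intro y' hy' s
  have h0 : S.x o j s ∈ S.Yg j := Subgroup.subset_closure ⟨o, j, s, Ne.symm hj, rfl, rfl⟩
  have h1 : cj y'⁻¹ (S.x o j s) ∈ S.Yg j := hnorm _ (inv_mem hy') _ h0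
  obtain ⟨v, z'', hz'', e⟩ := hdec _ h1
  refine ⟨S.x (ng o) j v, ?_, z'', ?_, ?_⟩
  · rw [S.sym (ng o) j (Ne.symm hj') v, ng_ng]
    refine Subgroup.subset_closure ⟨ng j, o, _, ?_, rfl, rfl⟩
    intro h
    exact hj' (ng_eq_iff.1 h)
  · refine S.stcn6_XQ_mono ?_ hz''
    rintro a b - ⟨rfl, ha⟩
    exact ⟨hj, ha⟩
  · have h2 : S.x o j s * y' = y' * cj y'⁻¹ (S.x o j s) := by
      unfold cj
      group
    rw [h2, e, mul_assoc]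

end N

end SysC

end Cfsg.Agent.Lib.helper3.STC
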