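import Mathlib
import Cfsg.Agent.Lib.helper15.St2
import Cfsg.Agent.Lib.helper7.StA
import Cfsg.Agent.Lib.helper7.StC
import Cfsg.Agent.Lib.helper7.StE
import Cfsg.Agent.Lib.helper3.STC.Defs
import Cfsg.Agent.Lib.helper3.STC.Defs2
import Cfsg.Agent.Lib.Helper24.STCI1
import Cfsg.Agent.Lib.Helper24.STCB1
import Cfsg.Agent.Lib.Helper22.STCN6

/-!
# STC row N7 (`Yg_decomp2`, `Yjj_le_Lg`, `Yjj_le_Yg`) (designer helper3, Skel2)

On block I / B (`Helper24.STCI1`, `Helper24.STCB1`), the `SysC` axioms and the extras `stcn6_*` of `Helper22.STCN6`.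
-/

set_option autoImplicit false

namespace Cfsg.Agent.Lib.helper3.STC

open Cfsg.Agent.Lib.helper15.St2 Cfsg.Agent.Lib.helper7.St

namespace SysC

variable {K : Type*} [Field K] {ι : Type*} {G : Type*} [Group G] (S : SysC K ι G)

section N
variable (o : ι ⊕ ι)

/-- N7 [M]  decomposition of `Yg o` along the two root subgroups of a third index `o'` (for the kernel argument).  As N4, twice: the commutators which appear lie in
the centre `x (ng o) o _`, which is in `Yjj o o'`. -/
theorem Yg_decomp2 {o' : ι ⊕ ι} (ho' : o' ≠ o) (ho'' : o' ≠ ng o) :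
    ∀ y ∈ S.Yg o, ∃ u u' : K, ∃ y'' ∈ S.Yjj o o', y = S.x o' o u * S.x (ng o') o u' * y'' := by
  have hoo : ng o ≠ o := ng_ne o
  have hno' : ng o' ≠ o := fun h => ho'' (ng_eq_iff.1 h)
  have hno'' : ng o' ≠ ng o := fun h => ho' (ng_inj.1 h)
  refine closure_left_induction'
    (p := fun y => ∃ u u' : K, ∃ y'' ∈ S.Yjj o o', y = S.x o' o u * S.x (ng o') o u' * y'')
    (S.stcn6_XQ_gens_inv _) ?_ ?_
  · exact ⟨0, 0, 1, one_mem _, by rw [S.x_zero, S.x_zero, one_mul, one_mul]⟩
  · rintro _ ⟨a, b, t, hab, rfl, rfl⟩ g ⟨u, u', y'', hy'', rfl⟩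
    by_cases ha1 : a = o'
    · subst ha1
      exact ⟨t + u, u', y'', hy'', by rw [← mul_assoc, ← mul_assoc, S.add a b hab]⟩
    by_cases ha2 : a = ng o'
    · -- the commutator is the long root element `x (ng b) b _`, central in `Yg b`
      subst ha2
      set t' : K := -(sg (ng o') * sg b * t) with ht'
      have hsym : S.x (ng o') b t = S.x (ng b) o' t' := by
        rw [S.sym (ng o') b hab t, ng_ng]
      have hbj : ng b ≠ o' := fun h => ho'' h.symm
      have hbj' : ng b ≠ ng o' := fun h => ho' (ng_inj.1 h).symm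
      have hssl := S.ssl (ng b) o' hbj hbj' t' u
      rw [ng_ng] at hssl
      have hAB : S.x (ng b) o' t' * S.x o' b u =
          S.x (ng b) b (2 * t' * u) * S.x o' b u * S.x (ng b) o' t' := by
        rw [← hssl]; group
      have hcomm : S.x (ng b) b (2 * t' * u) * S.x o' b u =
          S.x o' b u * S.x (ng b) b (2 * t' * u) :=
        S.comm (ng b) b o' b (ng_ne b) ho' (Ne.symm ho') (ng_ne b) (ne_ng b) hbj' _ _
      have hcomm2 : ∀ r : K, S.x (ng b) b (2 * t' * u) * S.x (ng o') b r =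
          S.x (ng o') b r * S.x (ng b) b (2 * t' * u) := fun r =>
        S.comm (ng b) b (ng o') b (ng_ne b) hab (Ne.symm hab) (ng_ne b) (ne_ng b)
          (by rw [ng_ng]; exact hbj) _ _
      refine ⟨u, t + u', S.x (ng b) b (2 * t' * u) * y'',
        mul_mem (S.stcn6_x_mem_XQ (ng_ne b) ⟨rfl, hbj, hbj'⟩ _) hy'', ?_⟩
      calc S.x (ng o') b t * (S.x o' b u * S.x (ng o') b u' * y'')
          = (S.x (ng o') b t * S.x o' b u) * S.x (ng o') b u' * y'' := by group
        _ = (S.x o' b u * S.x (ng b) b (2 * t' * u) * S.x (ng o') b t) * S.x (ng o') b u' * y'' := by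
            rw [hsym, hAB, hcomm]
        _ = S.x o' b u * (S.x (ng b) b (2 * t' * u) * S.x (ng o') b t) * S.x (ng o') b u' * y'' := by
            group
        _ = S.x o' b u * (S.x (ng o') b t * S.x (ng b) b (2 * t' * u)) * S.x (ng o') b u' * y'' := by
            rw [hcomm2 t]
        _ = S.x o' b u * S.x (ng o') b t * (S.x (ng b) b (2 * t' * u) * S.x (ng o') b u') * y'' := by
            group
        _ = S.x o' b u * S.x (ng o') b t * (S.x (ng o') b u' * S.x (ng b) b (2 * t' * u)) * y'' := by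
            rw [hcomm2 u']
        _ = S.x o' b u * (S.x (ng o') b t * S.x (ng o') b u') * (S.x (ng b) b (2 * t' * u) * y'') := by
            group
        _ = S.x o' b u * S.x (ng o') b (t + u') * (S.x (ng b) b (2 * t' * u) * y'') := by
            rw [S.add (ng o') b hab]
    · have hc1 : S.x a b t * S.x o' b u = S.x o' b u * S.x a b t :=
        S.comm a b o' b hab ho' (Ne.symm ho') hab (ne_ng b) ha2 _ _
      have hc2 : S.x a b t * S.x (ng o') b u' = S.x (ng o') b u' * S.x a b t :=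
        S.comm a b (ng o') b hab hno' (Ne.symm hno') hab (ne_ng b)
          (by rw [ng_ng]; exact ha1) _ _
      refine ⟨u, u', S.x a b t * y'', mul_mem (S.stcn6_x_mem_XQ hab ⟨rfl, ha1, ha2⟩ t) hy'', ?_⟩
      calc S.x a b t * (S.x o' b u * S.x (ng o') b u' * y'')
          = (S.x a b t * S.x o' b u) * S.x (ng o') b u' * y'' := by group
        _ = S.x o' b u * (S.x a b t * S.x (ng o') b u') * y'' := by rw [hc1]; group
        _ = S.x o' b u * S.x (ng o') b u' * (S.x a b t * y'') := by rw [hc2]; group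

theorem Yjj_le_Lg {o' : ι ⊕ ι} (ho' : o' ≠ o) (ho'' : o' ≠ ng o) : S.Yjj o o' ≤ S.Lg o' := by
  apply S.stcn6_XQ_mono
  rintro a b - ⟨rfl, ha1, ha2⟩
  refine ⟨⟨ha1, ha2⟩, Ne.symm ho', ?_⟩
  intro h
  exact ho'' (ng_eq_iff.1 h.symm)

theorem Yjj_le_Yg (o' : ι ⊕ ι) : S.Yjj o o' ≤ S.Yg o := by
  apply S.stcn6_XQ_mono
  rintro a b - ⟨rfl, -⟩
  rfl

end N

end SysC

end Cfsg.Agent.Lib.helper3.STC
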