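import Mathlib
import Cfsg.Agent.Lib.helper7.BR.Defs
import Cfsg.Agent.Lib.Helper13.B43.Defs
import Cfsg.Agent.Lib.Helper25.CharOrth
import Cfsg.Agent.Lib.helper23.BRCLS
import Cfsg.Agent.Lib.Helper10.BRVAN1
import Cfsg.Agent.Lib.helper7.CharMul
import Cfsg.Agent.Lib.helper7.CharTools
import Cfsg.Agent.Lib.helper2.CharNat
import Cfsg.Agent.Lib.helper2.BergerG1

/-!
# Project B43, piece CASEA : the branch `ε = +1` gives `n = 1` (helper22)
-/

set_option autoImplicit false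
set_option linter.unusedVariables false
set_option linter.unusedSectionVars false
set_option linter.style.haveILetI false

namespace Cfsg.Agent.Lib.Helper13.B43

open Classical
open Cfsg.Agent.Lib.Helper25
open Cfsg.Agent.Lib.helper7.BR
open Cfsg.Agent.Lib.helper7
open Cfsg.Agent.Lib.helper2
open scoped ComplexConjugate

universe u

variable {G : Type u} [Group G] [Fintype G] {p : ℕ} [Fact p.Prime]

/-- column orthogonality at `(x, x)`, `x ∈ P ∖ 1`, in terms of `Complex.normSq` -/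
theorem b43casea_col [Fintype (Cfsg.IrrCharacter G)] (P : Sylow p G)
    (hP : Nat.card ↥(P : Subgroup G) = p) (hcen : cen P = (P : Subgroup G)) (x : G)
    (hx : x ∈ (P : Subgroup G)) (hx1 : x ≠ 1) :
    ∑ χ : Cfsg.IrrCharacter G, Complex.normSq ((χ : G → ℂ) x) = (p : ℝ) := by
  have h := irr_column_orthogonality (G := G) x x
  rw [if_pos (IsConj.refl x), centralizer_eq_cen P hP x hx hx1, hcen, hP] at h
  have h2 : ∑ χ : Cfsg.IrrCharacter G, (χ : G → ℂ) x * conj ((χ : G → ℂ) x) =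
      ((∑ χ : Cfsg.IrrCharacter G, Complex.normSq ((χ : G → ℂ) x) : ℝ) : ℂ) := by
    push_cast
    apply Finset.sum_congr rfl
    intro χ _
    exact Complex.mul_conj _
  rw [h2] at h
  exact_mod_cast h

/-- the splitting of a sum over all the irreducible characters -/
theorem b43casea_split [Fintype (Cfsg.IrrCharacter G)] {P : Sylow p G} {q n : ℕ}
    {Xp Xm Y : Finset (Cfsg.IrrCharacter G)} (hD : CharDataA p P q n Xp Xm Y)
    (f : Cfsg.IrrCharacter G → ℝ) :
    ∑ χ : Cfsg.IrrCharacter G, f χ =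
      ∑ ψ ∈ rest Xp Xm Y, f ψ + (f (trivIrr G) + (∑ χ ∈ Xp, f χ + ∑ χ ∈ Xm, f χ + ∑ θ ∈ Y, f θ)) := by
  obtain ⟨h1, h2, h3⟩ := hD.triv_notMem
  obtain ⟨d1, d2, d3⟩ := hD.disj
  have hsub : insert (trivIrr G) (Xp ∪ Xm ∪ Y) ⊆ (Finset.univ : Finset (Cfsg.IrrCharacter G)) :=
    Finset.subset_univ _
  rw [← Finset.sum_sdiff hsub]
  have hrest : Finset.univ \ insert (trivIrr G) (Xp ∪ Xm ∪ Y) = rest Xp Xm Y := by
    unfold rest
    ext χ
    simp
  rw [hrest]
  congr 1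
  have hnot : trivIrr G ∉ Xp ∪ Xm ∪ Y := by
    simp only [Finset.mem_union, not_or]
    exact ⟨⟨h1, h2⟩, h3⟩
  rw [Finset.sum_insert hnot]
  congr 1
  have hd : Disjoint (Xp ∪ Xm) Y := by
    rw [Finset.disjoint_union_left]
    exact ⟨d2, d3⟩
  rw [Finset.sum_union hd, Finset.sum_union d1]

/-- the lower bound for the members of `Y` -/
theorem b43casea_Ylow (P : Sylow p G) (hP : Nat.card ↥(P : Subgroup G) = p) (q n : ℕ)
    (Xp Xm Y : Finset (Cfsg.IrrCharacter G)) (hD : CharDataA p P q n Xp Xm Y)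
    (θ : Cfsg.IrrCharacter G) (hθ : θ ∈ Y) :
    (q : ℝ) * ((p : ℝ) - q) ≤
      ∑ y ∈ (Finset.univ : Finset ↥(P : Subgroup G)).erase 1,
        Complex.normSq ((θ : G → ℂ) (y : G)) := by
  have hchar : Cfsg.IsCharacter G (θ : G → ℂ) := by
    obtain ⟨n, ρ, _, h⟩ := θ.2
    exact ⟨n, ρ, h⟩
  have h1 := sum_normSq_ge P hP (θ : G → ℂ) hchar q (hD.deg_Y θ hθ)
  have h2 : ∑ y ∈ (Finset.univ : Finset ↥(P : Subgroup G)).erase 1,
        Complex.normSq ((θ : G → ℂ) (y : G)) =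
      ∑ y : ↥(P : Subgroup G), Complex.normSq ((θ : G → ℂ) (y : G)) -
        Complex.normSq ((θ : G → ℂ) ((1 : ↥(P : Subgroup G)) : G)) := by
    rw [← Finset.add_sum_erase Finset.univ _ (Finset.mem_univ (1 : ↥(P : Subgroup G)))]
    ring
  have h3 : Complex.normSq ((θ : G → ℂ) ((1 : ↥(P : Subgroup G)) : G)) = (q : ℝ) ^ 2 := by
    rw [Subgroup.coe_one, hD.deg_Y θ hθ, Complex.normSq_natCast]
    ring
  rw [h2, h3]
  have h4 : ((p * q : ℕ) : ℝ) = (p : ℝ) * q := by push_cast; ring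
  rw [h4] at h1
  nlinarith [h1]

/-- VAN : the characters in `rest` vanish on `P ∖ 1` -/
theorem b43casea_vanish [Fintype (Cfsg.IrrCharacter G)] (P : Sylow p G)
    (hP : Nat.card ↥(P : Subgroup G) = p) (hcen : cen P = (P : Subgroup G)) (q n : ℕ)
    (hqp : 2 * q + 1 = p)
    (Xp Xm Y : Finset (Cfsg.IrrCharacter G)) (hD : CharDataA p P q n Xp Xm Y)
    (ψ : Cfsg.IrrCharacter G) (hψ : ψ ∈ rest Xp Xm Y) (x : G)
    (hx : x ∈ (P : Subgroup G)) (hx1 : x ≠ 1) : (ψ : G → ℂ) x = 0 := by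
  have hp : p.Prime := Fact.out
  -- the remainder
  set R : ↥(P : Subgroup G) → ℝ := fun y => ∑ ψ ∈ rest Xp Xm Y, Complex.normSq ((ψ : G → ℂ) (y : G))
    with hR
  have hRnn : ∀ y, 0 ≤ R y := fun y => Finset.sum_nonneg (fun ψ _ => Complex.normSq_nonneg _)
  set S : Finset ↥(P : Subgroup G) := (Finset.univ : Finset ↥(P : Subgroup G)).erase 1 with hSdef
  have hScard : (S.card : ℝ) = (p : ℝ) - 1 := by
    rw [hSdef, Finset.card_erase_of_mem (Finset.mem_univ _), Finset.card_univ,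
      ← Nat.card_eq_fintype_card, hP, Nat.cast_sub hp.one_le, Nat.cast_one]
  -- the equation at each point of `P ∖ 1`
  have hE : ∀ y ∈ S, (p : ℝ) = R y + ((q : ℝ) + ∑ θ ∈ Y, Complex.normSq ((θ : G → ℂ) (y : G))) := by
    intro y hy
    have hy1 : (y : G) ≠ 1 := by
      intro h
      exact (Finset.mem_erase.mp hy).1 (Subtype.ext h)
    have h1 := b43casea_col P hP hcen (y : G) y.2 hy1
    rw [b43casea_split hD] at h1
    have hXp : ∑ χ ∈ Xp, Complex.normSq ((χ : G → ℂ) (y : G)) = (Xp.card : ℝ) := by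
      rw [Finset.sum_congr rfl (fun χ hχ => by rw [hD.val_Xp χ hχ (y : G) y.2 hy1, map_one]),
        Finset.sum_const, nsmul_eq_mul, mul_one]
    have hXm : ∑ χ ∈ Xm, Complex.normSq ((χ : G → ℂ) (y : G)) = (Xm.card : ℝ) := by
      rw [Finset.sum_congr rfl (fun χ hχ => by
        rw [hD.val_Xm χ hχ (y : G) y.2 hy1, Complex.normSq_neg, map_one]),
        Finset.sum_const, nsmul_eq_mul, mul_one]
    rw [hXp, hXm, trivIrr_apply, map_one] at h1
    have hq : (q : ℝ) = (Xp.card : ℝ) + (Xm.card : ℝ) + 1 := by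
      have := hD.card_X
      exact_mod_cast this.symm
    rw [← h1, hq]
    ring
  have hYlow : ∀ θ ∈ Y, (q : ℝ) * ((p : ℝ) - q) ≤
      ∑ y ∈ S, Complex.normSq ((θ : G → ℂ) (y : G)) :=
    fun θ hθ => b43casea_Ylow P hP q n Xp Xm Y hD θ hθ
  -- summation over `P ∖ 1`
  have hsum : ((p : ℝ) - 1) * (p : ℝ) = ∑ y ∈ S, R y + (((p : ℝ) - 1) * (q : ℝ) +
      ∑ y ∈ S, ∑ θ ∈ Y, Complex.normSq ((θ : G → ℂ) (y : G))) := by
    have h0 : ∑ y ∈ S, (p : ℝ) = ∑ y ∈ S, (R y + ((q : ℝ) +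
        ∑ θ ∈ Y, Complex.normSq ((θ : G → ℂ) (y : G)))) := Finset.sum_congr rfl hE
    rw [Finset.sum_const, Finset.sum_add_distrib, Finset.sum_add_distrib, Finset.sum_const,
      nsmul_eq_mul, nsmul_eq_mul, hScard] at h0
    exact h0
  have hcomm : ∑ y ∈ S, ∑ θ ∈ Y, Complex.normSq ((θ : G → ℂ) (y : G)) =
      ∑ θ ∈ Y, ∑ y ∈ S, Complex.normSq ((θ : G → ℂ) (y : G)) := Finset.sum_comm
  rw [hcomm] at hsum
  have hYsum : (2 : ℝ) * ((q : ℝ) * ((p : ℝ) - q)) ≤
      ∑ θ ∈ Y, ∑ y ∈ S, Complex.normSq ((θ : G → ℂ) (y : G)) := by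
    have := Finset.sum_le_sum hYlow
    rw [Finset.sum_const, nsmul_eq_mul, hD.card_Y] at this
    exact_mod_cast this
  have hpq : (p : ℝ) = 2 * (q : ℝ) + 1 := by
    have : ((2 * q + 1 : ℕ) : ℝ) = (p : ℝ) := by rw [hqp]
    push_cast at this
    linarith
  have hRsum : ∑ y ∈ S, R y ≤ 0 := by
    rw [hpq] at hsum hYsum
    nlinarith
  have hR0 : ∀ y ∈ S, R y = 0 :=
    (Finset.sum_eq_zero_iff_of_nonneg (fun y _ => hRnn y)).mp
      (le_antisymm hRsum (Finset.sum_nonneg (fun y _ => hRnn y)))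
  have hxS : (⟨x, hx⟩ : ↥(P : Subgroup G)) ∈ S := by
    rw [hSdef, Finset.mem_erase]
    exact ⟨fun h => hx1 (congrArg Subtype.val h), Finset.mem_univ _⟩
  have h0 : ∑ ψ' ∈ rest Xp Xm Y, Complex.normSq ((ψ' : G → ℂ) x) = 0 := hR0 _ hxS
  have h1 := (Finset.sum_eq_zero_iff_of_nonneg
    (fun (ψ' : Cfsg.IrrCharacter G) _ => Complex.normSq_nonneg ((ψ' : G → ℂ) x))).mp h0 ψ hψ
  exact Complex.normSq_eq_zero.mp h1

/-- the final arithmetic -/
theorem b43casea_arith (p q n M : ℕ) (hq : 2 ≤ q) (hqp : 2 * q + 1 = p) (hn : 1 ≤ n)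
    (hA : q + 1 ≤ 2 * (1 + M)) (hB : 1 + M * (1 + n * p) ≤ q * q) : n = 1 := by
  by_contra hne
  have hn2 : 2 ≤ n := by omega
  subst hqp
  have h1 : 1 + 2 * (2 * q + 1) ≤ 1 + n * (2 * q + 1) := by
    have := Nat.mul_le_mul_right (2 * q + 1) hn2
    omega
  have h2 : M * (1 + 2 * (2 * q + 1)) ≤ M * (1 + n * (2 * q + 1)) := Nat.mul_le_mul_left M h1
  have h3 : q ≤ 2 * M + 1 := by omega
  nlinarith

/-- CASEA : in the branch `ε = +1` (`t = 2`, exceptional degree `q = (p-1)/2`) one has `n = 1`. -/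
theorem case_plus (P : Sylow p G) (hP : Nat.card ↥(P : Subgroup G) = p)
    (hcen : cen P = (P : Subgroup G)) (q n : ℕ) (hq : 2 ≤ q) (hqp : 2 * q + 1 = p) (hn : 1 ≤ n)
    (Xp Xm Y : Finset (Cfsg.IrrCharacter G)) (hD : CharDataA p P q n Xp Xm Y) : n = 1 := by
  haveI : Fintype (Cfsg.IrrCharacter G) := Fintype.ofFinite _
  have hp : p.Prime := Fact.out
  -- pick `θ ∈ Y`
  have hYne : Y.Nonempty := by
    rw [← Finset.card_pos, hD.card_Y]; norm_num
  obtain ⟨θ, hθ⟩ := hYne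
  have hchar : Cfsg.IsCharacter G (θ : G → ℂ) := h7_irr_isCharacter θ.2
  have hψ : Cfsg.IsCharacter G ((θ : G → ℂ) * fun g => conj ((θ : G → ℂ) g)) :=
    h7_isCharacter_mul hchar (bg_isCharacter_conj hchar)
  obtain ⟨m, hm, hexp⟩ := isCharacter_expansion hψ
  -- `m(1) = 1`
  have hm1 : m (trivIrr G) = 1 := by
    have h1 := hm (trivIrr G)
    have h2 : Cfsg.classInner ((θ : G → ℂ) * fun g => conj ((θ : G → ℂ) g)) (trivIrr G : G → ℂ) =
        Cfsg.classInner (θ : G → ℂ) (θ : G → ℂ) := by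
      unfold Cfsg.classInner
      congr 1
      refine Finset.sum_congr rfl fun g _ => ?_
      rw [trivIrr_apply, map_one, mul_one]
      rfl
    rw [h2, h7_irr_norm θ.2] at h1
    exact_mod_cast h1.symm
  set S : Finset ↥(P : Subgroup G) := (Finset.univ : Finset ↥(P : Subgroup G)).erase 1 with hSdef
  have hScard : (S.card : ℝ) = (p : ℝ) - 1 := by
    rw [hSdef, Finset.card_erase_of_mem (Finset.mem_univ _), Finset.card_univ,
      ← Nat.card_eq_fintype_card, hP, Nat.cast_sub hp.one_le, Nat.cast_one]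
  have hS1 : ∀ y ∈ S, (y : G) ≠ 1 := by
    intro y hy h
    exact (Finset.mem_erase.mp hy).1 (Subtype.ext h)
  set Dr : Cfsg.IrrCharacter G → ℝ := fun χ => ∑ y ∈ S, ((χ : G → ℂ) (y : G)).re with hDr
  -- the key identity
  have hkey : ∑ y ∈ S, Complex.normSq ((θ : G → ℂ) (y : G)) =
      ∑ χ : Cfsg.IrrCharacter G, (m χ : ℝ) * Dr χ := by
    have h1 : ∀ y : ↥(P : Subgroup G), (Complex.normSq ((θ : G → ℂ) (y : G)) : ℝ) =
        ∑ χ : Cfsg.IrrCharacter G, (m χ : ℝ) * ((χ : G → ℂ) (y : G)).re := by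
      intro y
      have h2 := congrFun hexp (y : G)
      rw [Pi.mul_apply, Complex.mul_conj, Finset.sum_apply] at h2
      have h3 := congrArg Complex.re h2
      rw [Complex.ofReal_re, Complex.re_sum] at h3
      rw [h3]
      refine Finset.sum_congr rfl fun χ _ => ?_
      rw [Pi.smul_apply, smul_eq_mul, Complex.mul_re, Complex.natCast_re, Complex.natCast_im,
        zero_mul, sub_zero]
    rw [Finset.sum_congr rfl (fun y _ => h1 y), Finset.sum_comm]
    refine Finset.sum_congr rfl fun χ _ => ?_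
    rw [hDr, Finset.mul_sum]
  -- the values of `Dr`
  have hDconst : ∀ (χ : Cfsg.IrrCharacter G) (c : ℝ),
      (∀ x ∈ (P : Subgroup G), x ≠ 1 → (χ : G → ℂ) x = (c : ℂ)) → Dr χ = ((p : ℝ) - 1) * c := by
    intro χ c hc
    rw [hDr]
    simp only
    rw [Finset.sum_congr rfl (fun y hy => by rw [hc (y : G) y.2 (hS1 y hy), Complex.ofReal_re]),
      Finset.sum_const, nsmul_eq_mul, hScard]
  have hDtriv : Dr (trivIrr G) = (p : ℝ) - 1 := by
    rw [hDconst (trivIrr G) 1 (fun x _ _ => by rw [trivIrr_apply, Complex.ofReal_one]), mul_one]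
  have hDXp : ∀ χ ∈ Xp, Dr χ = (p : ℝ) - 1 := by
    intro χ hχ
    rw [hDconst χ 1 (fun x hx hx1 => by rw [hD.val_Xp χ hχ x hx hx1, Complex.ofReal_one]), mul_one]
  have hDXm : ∀ χ ∈ Xm, Dr χ = -((p : ℝ) - 1) := by
    intro χ hχ
    rw [hDconst χ (-1) (fun x hx hx1 => by
      rw [hD.val_Xm χ hχ x hx hx1, Complex.ofReal_neg, Complex.ofReal_one])]
    ring
  have hDY : ∀ χ ∈ Y, Dr χ = -(q : ℝ) := by
    intro χ hχ
    have h1 := hD.sum_Y χ hχ
    rw [← Finset.add_sum_erase Finset.univ _ (Finset.mem_univ (1 : ↥(P : Subgroup G))),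
      Subgroup.coe_one, hD.deg_Y χ hχ] at h1
    have h2 := congrArg Complex.re h1
    rw [Complex.add_re, Complex.natCast_re, Complex.re_sum, Complex.zero_re] at h2
    rw [hDr]
    simp only
    linarith
  have hDrest : ∀ χ ∈ rest Xp Xm Y, Dr χ = 0 := by
    intro χ hχ
    rw [hDconst χ 0 (fun x hx hx1 => by
      rw [b43casea_vanish P hP hcen q n hqp Xp Xm Y hD χ hχ x hx hx1, Complex.ofReal_zero]), mul_zero]
  have hp1 : (0 : ℝ) ≤ (p : ℝ) - 1 := by
    have : (1 : ℝ) ≤ (p : ℝ) := by exact_mod_cast hp.one_le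
    linarith
  set T : Finset (Cfsg.IrrCharacter G) := insert (trivIrr G) Xp with hT
  have hbound : ∀ χ : Cfsg.IrrCharacter G, (m χ : ℝ) * Dr χ ≤
      if χ ∈ T then (m χ : ℝ) * ((p : ℝ) - 1) else 0 := by
    intro χ
    have hmnn : (0 : ℝ) ≤ (m χ : ℝ) := Nat.cast_nonneg _
    by_cases hχT : χ ∈ T
    · rw [if_pos hχT]
      rw [hT, Finset.mem_insert] at hχT
      rcases hχT with rfl | hχT
      · rw [hDtriv]
      · rw [hDXp χ hχT]
    · rw [if_neg hχT]
      have hle : Dr χ ≤ 0 := by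
        by_cases h1 : χ ∈ Xm
        · rw [hDXm χ h1]; linarith
        · by_cases h2 : χ ∈ Y
          · rw [hDY χ h2]
            have : (0 : ℝ) ≤ (q : ℝ) := Nat.cast_nonneg _
            linarith
          · have h3 : χ ∈ rest Xp Xm Y := by
              rw [hT, Finset.mem_insert, not_or] at hχT
              unfold rest
              simp only [Finset.mem_sdiff, Finset.mem_univ, true_and, Finset.mem_insert,
                Finset.mem_union, not_or]
              exact ⟨hχT.1, ⟨hχT.2, h1⟩, h2⟩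
            rw [hDrest χ h3]
      exact mul_nonpos_of_nonneg_of_nonpos hmnn hle
  set M : ℕ := ∑ χ ∈ Xp, m χ with hM
  have hupper : ∑ χ : Cfsg.IrrCharacter G, (m χ : ℝ) * Dr χ ≤ ((p : ℝ) - 1) * (1 + (M : ℝ)) := by
    refine (Finset.sum_le_sum (fun χ _ => hbound χ)).trans ?_
    have hite : ∑ χ : Cfsg.IrrCharacter G, (if χ ∈ T then (m χ : ℝ) * ((p : ℝ) - 1) else 0) =
        ∑ χ ∈ T, (m χ : ℝ) * ((p : ℝ) - 1) := by
      rw [← Finset.sum_filter]
      congr 1
      ext χ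
      simp
    rw [hite, hT, Finset.sum_insert hD.triv_notMem.1, hm1, ← Finset.sum_mul, hM]
    push_cast
    linarith
  have hlow := b43casea_Ylow P hP q n Xp Xm Y hD θ hθ
  have hpq : (p : ℝ) = 2 * (q : ℝ) + 1 := by
    have : ((2 * q + 1 : ℕ) : ℝ) = (p : ℝ) := by rw [hqp]
    push_cast at this
    linarith
  have hA : q + 1 ≤ 2 * (1 + M) := by
    have h1 : (q : ℝ) * ((p : ℝ) - q) ≤ ((p : ℝ) - 1) * (1 + (M : ℝ)) :=
      (hlow.trans (le_of_eq hkey)).trans hupper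
    rw [hpq] at h1
    have hq0 : (0 : ℝ) < (q : ℝ) := by
      have : (2 : ℝ) ≤ (q : ℝ) := by exact_mod_cast hq
      linarith
    have h2 : (q : ℝ) * ((q : ℝ) + 1) ≤ (q : ℝ) * (2 * (1 + (M : ℝ))) := by
      nlinarith
    have h3 := le_of_mul_le_mul_left h2 hq0
    exact_mod_cast h3
  -- the degrees
  have hdeg : ∀ χ : Cfsg.IrrCharacter G, ∃ d : ℕ, (χ : G → ℂ) 1 = (d : ℂ) := by
    intro χ
    obtain ⟨d, _, hd⟩ := irr_one_eq_finrank χ
    exact ⟨d, hd⟩
  choose d hd using hdeg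
  have hqq : q * q = ∑ χ : Cfsg.IrrCharacter G, m χ * d χ := by
    have h2 := congrFun hexp (1 : G)
    rw [Pi.mul_apply, hD.deg_Y θ hθ, Complex.conj_natCast, Finset.sum_apply] at h2
    have h3 : ((q * q : ℕ) : ℂ) = ((∑ χ : Cfsg.IrrCharacter G, m χ * d χ : ℕ) : ℂ) := by
      push_cast
      rw [h2]
      refine Finset.sum_congr rfl fun χ _ => ?_
      rw [Pi.smul_apply, smul_eq_mul, hd χ]
    exact_mod_cast h3
  have hB : 1 + M * (1 + n * p) ≤ q * q := by
    rw [hqq]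
    have hsub : T ⊆ (Finset.univ : Finset (Cfsg.IrrCharacter G)) := Finset.subset_univ _
    refine le_trans (le_of_eq ?_) (Finset.sum_le_sum_of_subset hsub)
    rw [hT, Finset.sum_insert hD.triv_notMem.1, hm1]
    have hd1 : d (trivIrr G) = 1 := by
      have := hd (trivIrr G)
      rw [trivIrr_apply] at this
      exact_mod_cast this.symm
    rw [hd1, hM, Finset.sum_mul]
    congr 1
    refine Finset.sum_congr rfl fun χ hχ => ?_
    have : d χ = 1 + n * p := by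
      have h1 := hd χ
      rw [hD.deg_Xp χ hχ] at h1
      exact_mod_cast h1.symm
    rw [this]
  exact b43casea_arith p q n M hq hqp hn hA hB

end Cfsg.Agent.Lib.Helper13.B43
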