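import Mathlib
import Cfsg.Agent.Lib.helper3.BSZ.Defs

/-!
# Project BSZ (helper3, S5737), row F03 (`subStab_gD`), verbatim.
-/

set_option autoImplicit false

namespace Cfsg.Agent.Lib.helper3.BSZ

open Cfsg Cfsg.Agent.Lib.helper3
open scoped Pointwise

variable {F : Type*} [Field F] [Fintype F] {m : ℕ}

/-- the torus element `gD l`, `l ∈ K'`, maps the sub-ovoid into itself. -/
theorem bszf03_sub (hF : Fintype.card F = 2 ^ (2 * m + 1)) (K' : Subfield F) {l : Fˣ}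
    (hl : (l : F) ∈ K') {p : suzukiOvoid F m} (hp : p ∈ subOvoid m K') :
    gD hF l • p ∈ subOvoid m K' := by
  rcases hp with rfl | ⟨a, ha, b, hb, rfl⟩
  · left
    exact gD_oInf hF l
  · right
    rw [gD_oPt hF l a b]
    refine ⟨(l : F) ^ 2 * a, ?_, (l : F) ^ 2 * szθ m (l : F) ^ 2 * b, ?_, rfl⟩
    · exact K'.mul_mem (pow_mem hl 2) ha
    · exact K'.mul_mem (K'.mul_mem (pow_mem hl 2) (pow_mem (pow_mem hl _) 2)) hb

/-- F03 [M]: as F01 with `gD_oInf`, `gD_oPt` (SuzukiAutRigid), `(gD k)⁻¹ = gD k⁻¹`. -/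
theorem subStab_gD (hF : Fintype.card F = 2 ^ (2 * m + 1)) (K' : Subfield F) {k : Fˣ} (hk : (k : F) ∈ K') :
    gD hF k ∈ subStab m K' := by
  have hk' : ((k⁻¹ : Fˣ) : F) ∈ K' := by
    rw [Units.val_inv_eq_inv_val]
    exact K'.inv_mem hk
  change gD hF k ∈ MulAction.stabilizer (Sz F m) (subOvoid m K')
  rw [MulAction.mem_stabilizer_iff]
  apply Set.Subset.antisymm
  · rintro p ⟨q, hq, rfl⟩
    exact bszf03_sub hF K' hk hq
  · intro p hp
    rw [Set.mem_smul_set_iff_inv_smul_mem, gD_inv]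
    exact bszf03_sub hF K' hk' hp

end Cfsg.Agent.Lib.helper3.BSZ
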