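import Mathlib
import Cfsg.Agent.Lib.Helper24.SU3M.Defs
import Cfsg.Agent.Lib.Helper28.UHerm
import Cfsg.Agent.S0780
import Cfsg.Agent.S0781

/-!
# Project SU3M (designer helper24), row A1 `su_perfect` (helper22): `SU_n(q)` is perfect (`n ≥ 3`, `(n, q) ≠ (3, 2)`).
VERBATIM; from `Cfsg.Agent.S0780.result` (generation by unitary transvections) and `Cfsg.Agent.S0781.result`
(each of them is a commutator), as `hperf` in `Cfsg/Agent/S0283.lean`.
-/

set_option autoImplicit false

namespace Cfsg.Agent.Lib.Helper24.SU3M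

open Cfsg.Agent.Lib.Helper19.U3P Cfsg.Agent.Lib.Helper25.SU3P Cfsg.Agent.Lib.helper14.SU3J Matrix

universe u

section A

variable {F : Type u} [Field F] [Fintype F] {q : ℕ}

/-- A1 [M] -/
theorem su_perfect (hF : Fintype.card F = q ^ 2) (n : ℕ) (hn : 3 ≤ n) (h : ¬ (n = 3 ∧ q = 2)) :
    commutator ↥(Cfsg.SU n F q) = ⊤ := by
  have hq2 := Cfsg.Agent.Lib.Helper28.UHerm.two_le_q hF
  have hq3 : n = 3 → 3 ≤ q := by
    intro hn3
    by_contra hcon
    exact h ⟨hn3, by omega⟩
  rw [eq_top_iff, ← Cfsg.Agent.S0780.result hF n hn h, commutator_eq_closure]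
  apply Subgroup.closure_mono
  rintro A ⟨w, c, hw, hA⟩
  exact Cfsg.Agent.S0781.result hF n (by
    by_cases h' : 4 ≤ n
    · exact Or.inl h'
    · right
      exact ⟨by omega, hq3 (by omega)⟩) A w c hw hA

end A

end Cfsg.Agent.Lib.Helper24.SU3M
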