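import Mathlib
import Cfsg.Agent.Lib.helper3.CEUO.Defs2
import Cfsg.Agent.Lib.Helper27.STU.Defs3
import Cfsg.Agent.Lib.Helper27.STU.Frob
import Cfsg.Agent.Lib.Helper12.SU3S.Equiv
import Cfsg.Agent.Lib.Helper12.SU3S.P2

/-!
# Project CEUO (sub-designer helper3), part 2, row P1 (helper22), VERBATIM: helper12's presentation of `SU_3(2)` with everything explicit
(the elements through their matrices in the coordinates `c`, the relators as equations, the target group in any universe).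
`ceuop1_pres_of_data_c` is a universe polymorphic copy of `Helper12.SU3S.pres_of_data_c`.
-/

set_option autoImplicit false

namespace Cfsg.Agent.Lib.helper3.CEUO

open Cfsg.Agent.Lib.helper15.St2 Cfsg.Agent.Lib.helper7.Ce Cfsg.Agent.Lib.helper3.STC Cfsg.Agent.Lib.Helper27.STU
  Cfsg.Agent.Lib.helper7.CEU

section P

universe u w

open Cfsg.Agent.Lib.Helper12.TC Cfsg.Agent.Lib.Helper12.TCG Cfsg.Agent.Lib.Helper12.PSU3S Cfsg.Agent.Lib.Helper12.SU3S
open Cfsg.Agent.Lib.Helper25.SU3P Cfsg.Agent.Lib.helper14.SU3J Matrix in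
/-- the presentation on three marked elements from the data, in given coordinates; the target group in any universe, the relators as words -/
theorem ceuop1_pres_of_data_c {F : Type u} [Field F] [Fintype F] {q t d : ℕ} (hqp : q.Prime) (hF : Fintype.card F = q ^ 2)
    (r : F) (hr : r * r = (t : F) * r + (d : F)) (hrq : r ^ q = (t : F) - r) (hne : (t : F) - r ≠ r)
    {σ : F →+* F} (hσ : ∀ x, σ x = x ^ q) (c : Coords F q σ)
    (Lm : ℕ → M3)
    (hdet0 : mdetT q t d (Lm 0) = (1, 0)) (hdet2 : mdetT q t d (Lm 2) = (1, 0))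
    (hdet4 : mdetT q t d (Lm 4) = (1, 0))
    (hJ0 : mmulT q t d (mtr (Lm 0)) (mrev (mconjT q t (Lm 0))) = Jm)
    (hJ2 : mmulT q t d (mtr (Lm 2)) (mrev (mconjT q t (Lm 2))) = Jm)
    (hJ4 : mmulT q t d (mtr (Lm 4)) (mrev (mconjT q t (Lm 4))) = Jm)
    (relsL baseL : List (List ℕ))
    (hbase : baseL = relsL ++ [[0, 1], [1, 0], [2, 3], [3, 2], [4, 5], [5, 4], []])
    (hlet : lettersK 6 baseL = true)
    (hrel : ∀ b ∈ baseL, wmatT q t d Lm b = mone)
    (W1 W2 : List (List ℕ)) (hlet1 : lettersK 6 W1 = true) (hlet2 : lettersK 6 W2 = true)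
    (hc1 : incK (W1.map (fun w => colCode q (wmatT q t d Lm w) 0)) = true)
    (hc2 : incK (W2.map (fun w => colCode q (wmatT q t d Lm w) 2)) = true)
    (hfix : fixK q t d Lm W2 = true)
    (hN : W1.length * W2.length = q ^ 3 * ((q ^ 2 - 1) * (q ^ 3 + 1)))
    (hcard : Finite (WPres.Grp 6 baseL) ∧
      Nat.card (WPres.Grp 6 baseL) ≤ q ^ 3 * ((q ^ 2 - 1) * (q ^ 3 + 1))) :
    ∃ (g : Fin 3 → ↥(Cfsg.SU 3 F q)),
      c.cj (g 0) = toMat r (Lm 0) ∧ c.cj (g 1) = toMat r (Lm 2) ∧ c.cj (g 2) = toMat r (Lm 4) ∧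
      ∀ {K : Type w} [Group K] (u : Fin 3 → K), (∀ b ∈ relsL, wprod (let6 u) b = 1) →
        ∃ φ : ↥(Cfsg.SU 3 F q) →* K, ∀ i, φ (g i) = u i := by
  classical
  have hcp : CharP F q := charP_of_card hqp (by norm_num) hF
  have hq : (q : F) = 0 := CharP.cast_eq_zero F q
  have hq0 : 0 < q := hqp.pos
  have hσr : σ r = (t : F) - r := by rw [hσ]; exact hrq
  have hne' : σ r ≠ r := by rw [hσr]; exact hne
  -- the three elements
  obtain ⟨X0, hX0⟩ := c.exists_lift _ (presJ_toMat hq hq0 hr σ hσr _ hJ0)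
    (by rw [det_toMatT hq hq0 hr, hdet0, ev_one])
  obtain ⟨X2, hX2⟩ := c.exists_lift _ (presJ_toMat hq hq0 hr σ hσr _ hJ2)
    (by rw [det_toMatT hq hq0 hr, hdet2, ev_one])
  obtain ⟨X4, hX4⟩ := c.exists_lift _ (presJ_toMat hq hq0 hr σ hσr _ hJ4)
    (by rw [det_toMatT hq hq0 hr, hdet4, ev_one])
  let g : Fin 3 → ↥(Cfsg.SU 3 F q) := ![X0, X2, X4]
  have hmem : ∀ b, b ∈ baseL ↔ b ∈ relsL ∨ b ∈ [[0, 1], [1, 0], [2, 3], [3, 2], [4, 5], [5, 4], ([] : List ℕ)] := by
    intro b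
    rw [hbase, List.mem_append]
  have hpair : ∀ a b : ℕ, [a, b] ∈ baseL → toMat r (Lm a) * toMat r (Lm b) = 1 := by
    intro a b hab
    have h1 := hrel _ hab
    have h2 : wmatT q t d Lm [a, b] = mmulT q t d (Lm a) (mmulT q t d (Lm b) mone) := rfl
    rw [h2] at h1
    have h3 := congrArg (toMat r) h1
    rw [toMat_mmulT hq hr, toMat_mmulT hq hr, toMat_mone, Matrix.mul_one] at h3
    exact h3
  have hg6 : ∀ s < 6, c.cj (let6 g s) = toMat r (Lm s) := by
    intro s hs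
    interval_cases s
    · exact hX0
    · show c.cj (X0)⁻¹ = _
      apply cj_inv_eq
      rw [hX0]
      exact hpair 0 1 ((hmem _).mpr (Or.inr (by simp)))
    · exact hX2
    · show c.cj (X2)⁻¹ = _
      apply cj_inv_eq
      rw [hX2]
      exact hpair 2 3 ((hmem _).mpr (Or.inr (by simp)))
    · exact hX4
    · show c.cj (X4)⁻¹ = _
      apply cj_inv_eq
      rw [hX4]
      exact hpair 4 5 ((hmem _).mpr (Or.inr (by simp)))
  -- the relators hold
  have hw1 : ∀ b ∈ baseL, wprod (let6 g) b = 1 := by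
    intro b hb
    apply c.cj_eq_one
    rw [cj_wprod c (let6 g) Lm hq hr hg6 b (fun s hs => lettersK_lt hlet hb hs), hrel b hb]
    exact toMat_mone
  -- the subgroup generated by the three elements is the whole group
  have hcl : Subgroup.closure (Set.range g) = ⊤ := by
    set H := Subgroup.closure (Set.range g) with hH
    have hgi : ∀ i, g i ∈ H := fun i => Subgroup.subset_closure ⟨i, rfl⟩
    have hH6 : ∀ s < 6, let6 g s ∈ H := by
      intro s hs
      interval_cases s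
      · exact hgi 0
      · exact H.inv_mem (hgi 0)
      · exact hgi 1
      · exact H.inv_mem (hgi 1)
      · exact hgi 2
      · exact H.inv_mem (hgi 2)
    have h1 := count_le c (let6 g) Lm hr hne' hg6 W1 W2 hlet1 hlet2 hc1 hc2 hfix H hH6
    rw [hN, ← card_SU3 hF] at h1
    exact Subgroup.eq_top_of_le_card H h1
  -- the homomorphism from the presented group
  obtain ⟨π, hπ⟩ := WPres.hlift 6 baseL hlet (let6 g) hw1
  have hsurj : Function.Surjective π := by
    rw [← MonoidHom.range_eq_top, eq_top_iff, ← hcl, Subgroup.closure_le]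
    rintro _ ⟨i, rfl⟩
    fin_cases i
    · exact ⟨WPres.v 6 baseL 0, hπ 0 (by norm_num)⟩
    · exact ⟨WPres.v 6 baseL 2, hπ 2 (by norm_num)⟩
    · exact ⟨WPres.v 6 baseL 4, hπ 4 (by norm_num)⟩
  have := hcard.1
  have hbij : Function.Bijective π := by
    refine ⟨?_, hsurj⟩
    have h2 : Nat.card (WPres.Grp 6 baseL) ≤ Nat.card ↥(Cfsg.SU 3 F q) := by
      rw [card_SU3 hF]
      exact hcard.2
    exact ((Nat.bijective_iff_surjective_and_card π).mpr
      ⟨hsurj, le_antisymm h2 (Nat.card_le_card_of_surjective π hsurj)⟩).1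
  let e : WPres.Grp 6 baseL ≃* ↥(Cfsg.SU 3 F q) := MulEquiv.ofBijective π hbij
  refine ⟨g, hX0, hX2, hX4, ?_⟩
  intro K _ u hu
  have hw2 : ∀ b ∈ baseL, wprod (let6 u) b = 1 := by
    intro b hb
    rcases (hmem b).mp hb with hb | hb
    · exact hu b hb
    · simp only [List.mem_cons, List.not_mem_nil, or_false] at hb
      rcases hb with rfl | rfl | rfl | rfl | rfl | rfl | rfl <;>
        simp [wprod, let6]
  obtain ⟨ρ, hρ⟩ := WPres.hlift 6 baseL hlet (let6 u) hw2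
  refine ⟨ρ.comp e.symm.toMonoidHom, ?_⟩
  intro i
  have hi : ∀ k < 3, ∀ (i : Fin 3), i.val = k → e.symm (g i) = WPres.v 6 baseL (2 * k) := by
    intro k hk i hik
    rw [MulEquiv.symm_apply_eq]
    show g i = π (WPres.v 6 baseL (2 * k))
    rw [hπ (2 * k) (by omega)]
    interval_cases k <;> fin_cases i <;> simp_all [let6, g]
  show ρ (e.symm (g i)) = u i
  rw [hi i.val i.isLt i rfl, hρ _ (by omega)]
  fin_cases i <;> simp [let6]

variable {F : Type u} [Field F] [Fintype F]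

open Cfsg.Agent.Lib.Helper12.TC Cfsg.Agent.Lib.Helper12.TCG Cfsg.Agent.Lib.Helper12.PSU3S Cfsg.Agent.Lib.Helper12.SU3S in
/-- P1 [M-L]  helper12's presentation of `SU_3(2)` with EVERYTHING EXPLICIT (the elements through their matrices in the coordinates `c`, the relators as equations, the target group in any universe). -/
theorem pres_two_x (hF : Fintype.card F = 2 ^ 2) {φ₀ : F →+* F} (hφ₀ : ∀ x, φ₀ x = x ^ 2)
    (c : Cfsg.Agent.Lib.Helper25.SU3P.Coords F 2 φ₀) :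
    ∃ (r : F) (g : Fin 3 → ↥(Cfsg.SU 3 F 2)), r * r = r + 1 ∧
      c.cj (g 0) = !![1, 1, r; 0, 1, 1; 0, 0, 1] ∧ c.cj (g 1) = !![1, r, r; 0, 1, 1 + r; 0, 0, 1] ∧
      c.cj (g 2) = !![0, 0, 1; 0, 1, 0; 1, 0, 0] ∧
      ∀ {K : Type w} [Group K] (a a' w : K), a * a * a * a = 1 → a * a * a' * a' = 1 → a * a' * a * a'⁻¹ = 1 →
        a * w * a' * w * a'⁻¹ * w⁻¹ * a⁻¹ * w⁻¹ = 1 → a * a * w * a * a * w * a⁻¹ * a⁻¹ * w⁻¹ = 1 →
        ∃ φ : ↥(Cfsg.SU 3 F 2) →* K, φ (g 0) = a ∧ φ (g 1) = a' ∧ φ (g 2) = w := by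
  obtain ⟨r, hr, hrq, hne⟩ := four_field_data hF
  obtain ⟨g, h0, h1, h2, huniv⟩ := ceuop1_pres_of_data_c.{u, w} (by norm_num) hF r hr hrq hne hφ₀ c Q2.Lm Q2.hdet0 Q2.hdet2 Q2.hdet4
    Q2.hJ0 Q2.hJ2 Q2.hJ4 SU32Pres.relsL SU32Pres.baseL SU32Pres.baseL_eq SU32Pres.hlet Q2.hrel Q2.W1 Q2.W2 Q2.hlet1 Q2.hlet2
    Q2.hc1 Q2.hc2 Q2.hfix Q2.hN Q2.hcard
  have hr' : r * r = r + 1 := by
    rw [Nat.cast_one, one_mul] at hr
    exact hr
  refine ⟨r, g, hr', ?_, ?_, ?_, ?_⟩
  · rw [h0]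
    ext i j
    fin_cases i <;> fin_cases j <;> simp [toMat, entry, Q2.Lm, Cfsg.Agent.Lib.Helper12.PSU3S.ev]
  · rw [h1]
    ext i j
    fin_cases i <;> fin_cases j <;> simp [toMat, entry, Q2.Lm, Cfsg.Agent.Lib.Helper12.PSU3S.ev]
  · rw [h2]
    ext i j
    fin_cases i <;> fin_cases j <;> simp [toMat, entry, Q2.Lm, Cfsg.Agent.Lib.Helper12.PSU3S.ev]
  · intro K _ a a' w e1 e2 e3 e4 e5
    obtain ⟨φ, hφ⟩ := huniv ![a, a', w] (by
      intro b hb
      simp only [SU32Pres.relsL, List.mem_cons, List.not_mem_nil, or_false] at hb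
      rcases hb with rfl | rfl | rfl | rfl | rfl
      · simpa [wprod, let6, mul_assoc] using e1
      · simpa [wprod, let6, mul_assoc] using e2
      · simpa [wprod, let6, mul_assoc] using e3
      · simpa [wprod, let6, mul_assoc] using e4
      · simpa [wprod, let6, mul_assoc] using e5)
    exact ⟨φ, hφ 0, hφ 1, hφ 2⟩

end P

end Cfsg.Agent.Lib.helper3.CEUO
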