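import Cfsg.Agent.Lib.Helper28.O73C.Defs

/-!
Project O73C (S5514), piece CA : the decoding is compatible with the arithmetic (helper22).
-/

set_option autoImplicit false

namespace Cfsg.Agent.Lib.Helper28.O73C

open Cfsg.Agent.Lib.Helper12.O73 Matrix

/-! ### evaluation lemmas -/

@[simp] theorem h22_toVec_0 (a : V7) : a.toVec (.inl ()) = (a.a0 : K) := rfl
@[simp] theorem h22_toVec_1 (a : V7) : a.toVec (.inr (.inl 0)) = (a.a1 : K) := rfl
@[simp] theorem h22_toVec_2 (a : V7) : a.toVec (.inr (.inl 1)) = (a.a2 : K) := rfl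
@[simp] theorem h22_toVec_3 (a : V7) : a.toVec (.inr (.inl 2)) = (a.a3 : K) := rfl
@[simp] theorem h22_toVec_4 (a : V7) : a.toVec (.inr (.inr 0)) = (a.a4 : K) := rfl
@[simp] theorem h22_toVec_5 (a : V7) : a.toVec (.inr (.inr 1)) = (a.a5 : K) := rfl
@[simp] theorem h22_toVec_6 (a : V7) : a.toVec (.inr (.inr 2)) = (a.a6 : K) := rfl

@[simp] theorem h22_col_0 (m : M7) : m.col (.inl ()) = m.c0 := rfl
@[simp] theorem h22_col_1 (m : M7) : m.col (.inr (.inl 0)) = m.c1 := rfl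
@[simp] theorem h22_col_2 (m : M7) : m.col (.inr (.inl 1)) = m.c2 := rfl
@[simp] theorem h22_col_3 (m : M7) : m.col (.inr (.inl 2)) = m.c3 := rfl
@[simp] theorem h22_col_4 (m : M7) : m.col (.inr (.inr 0)) = m.c4 := rfl
@[simp] theorem h22_col_5 (m : M7) : m.col (.inr (.inr 1)) = m.c5 := rfl
@[simp] theorem h22_col_6 (m : M7) : m.col (.inr (.inr 2)) = m.c6 := rfl

theorem h22_toMat_apply (m : M7) (i j : I7) : m.toMat i j = (m.col j).toVec i := rfl

/-- a sum over the seven coordinates -/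
theorem h22_sum_I7 (f : I7 → K) :
    ∑ j, f j = f (.inl ()) + (f (.inr (.inl 0)) + f (.inr (.inl 1)) + f (.inr (.inl 2)) +
      (f (.inr (.inr 0)) + f (.inr (.inr 1)) + f (.inr (.inr 2)))) := by
  rw [Fintype.sum_sum_type, Fintype.sum_sum_type, Fin.sum_univ_three, Fin.sum_univ_three]
  simp

theorem h22_mulVec_apply (m : M7) (a : V7) (i : I7) :
    (m.toMat *ᵥ a.toVec) i =
      (m.c0.toVec i) * a.a0 + ((m.c1.toVec i) * a.a1 + (m.c2.toVec i) * a.a2 + (m.c3.toVec i) * a.a3 +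
        ((m.c4.toVec i) * a.a4 + (m.c5.toVec i) * a.a5 + (m.c6.toVec i) * a.a6)) := by
  rw [Matrix.mulVec, dotProduct, h22_sum_I7]
  simp only [h22_toMat_apply, h22_col_0, h22_col_1, h22_col_2, h22_col_3, h22_col_4, h22_col_5,
    h22_col_6, h22_toVec_0, h22_toVec_1, h22_toVec_2, h22_toVec_3, h22_toVec_4, h22_toVec_5,
    h22_toVec_6]

theorem h22_cast_mod (n : ℕ) : ((n % 3 : ℕ) : K) = (n : K) := ZMod.natCast_mod n 3

/-! ### piece CA -/

theorem toVec_mv (m : M7) (a : V7) : (mv m a).toVec = m.toMat *ᵥ a.toVec := by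
  funext i
  rw [h22_mulVec_apply]
  rcases i with i | i | i
  · show (((mv m a).a0 : ℕ) : K) = _
    simp only [mv, h22_cast_mod]
    show _ = (m.c0.a0 : K) * a.a0 + ((m.c1.a0 : K) * a.a1 + (m.c2.a0 : K) * a.a2 + (m.c3.a0 : K) * a.a3 +
      ((m.c4.a0 : K) * a.a4 + (m.c5.a0 : K) * a.a5 + (m.c6.a0 : K) * a.a6))
    push_cast
    ring
  · fin_cases i
    · show (((mv m a).a1 : ℕ) : K) = _
      simp only [mv, h22_cast_mod]
      show _ = (m.c0.a1 : K) * a.a0 + ((m.c1.a1 : K) * a.a1 + (m.c2.a1 : K) * a.a2 + (m.c3.a1 : K) * a.a3 +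
        ((m.c4.a1 : K) * a.a4 + (m.c5.a1 : K) * a.a5 + (m.c6.a1 : K) * a.a6))
      push_cast
      ring
    · show (((mv m a).a2 : ℕ) : K) = _
      simp only [mv, h22_cast_mod]
      show _ = (m.c0.a2 : K) * a.a0 + ((m.c1.a2 : K) * a.a1 + (m.c2.a2 : K) * a.a2 + (m.c3.a2 : K) * a.a3 +
        ((m.c4.a2 : K) * a.a4 + (m.c5.a2 : K) * a.a5 + (m.c6.a2 : K) * a.a6))
      push_cast
      ring
    · show (((mv m a).a3 : ℕ) : K) = _
      simp only [mv, h22_cast_mod]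
      show _ = (m.c0.a3 : K) * a.a0 + ((m.c1.a3 : K) * a.a1 + (m.c2.a3 : K) * a.a2 + (m.c3.a3 : K) * a.a3 +
        ((m.c4.a3 : K) * a.a4 + (m.c5.a3 : K) * a.a5 + (m.c6.a3 : K) * a.a6))
      push_cast
      ring
  · fin_cases i
    · show (((mv m a).a4 : ℕ) : K) = _
      simp only [mv, h22_cast_mod]
      show _ = (m.c0.a4 : K) * a.a0 + ((m.c1.a4 : K) * a.a1 + (m.c2.a4 : K) * a.a2 + (m.c3.a4 : K) * a.a3 +
        ((m.c4.a4 : K) * a.a4 + (m.c5.a4 : K) * a.a5 + (m.c6.a4 : K) * a.a6))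
      push_cast
      ring
    · show (((mv m a).a5 : ℕ) : K) = _
      simp only [mv, h22_cast_mod]
      show _ = (m.c0.a5 : K) * a.a0 + ((m.c1.a5 : K) * a.a1 + (m.c2.a5 : K) * a.a2 + (m.c3.a5 : K) * a.a3 +
        ((m.c4.a5 : K) * a.a4 + (m.c5.a5 : K) * a.a5 + (m.c6.a5 : K) * a.a6))
      push_cast
      ring
    · show (((mv m a).a6 : ℕ) : K) = _
      simp only [mv, h22_cast_mod]
      show _ = (m.c0.a6 : K) * a.a0 + ((m.c1.a6 : K) * a.a1 + (m.c2.a6 : K) * a.a2 + (m.c3.a6 : K) * a.a3 +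
        ((m.c4.a6 : K) * a.a4 + (m.c5.a6 : K) * a.a5 + (m.c6.a6 : K) * a.a6))
      push_cast
      ring

theorem h22_mm_col (a b : M7) (j : I7) : (mm a b).col j = mv a (b.col j) := by
  rcases j with j | j | j
  · rfl
  · fin_cases j <;> rfl
  · fin_cases j <;> rfl

theorem toMat_mm (a b : M7) : (mm a b).toMat = a.toMat * b.toMat := by
  ext i j
  rw [h22_toMat_apply, h22_mm_col, toVec_mv, Matrix.mul_apply, Matrix.mulVec, dotProduct]
  rfl

/-- case distinction over the seven coordinates -/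
theorem h22_I7_cases {P : I7 → Prop} (h0 : P (.inl ())) (h1 : P (.inr (.inl 0)))
    (h2 : P (.inr (.inl 1))) (h3 : P (.inr (.inl 2))) (h4 : P (.inr (.inr 0)))
    (h5 : P (.inr (.inr 1))) (h6 : P (.inr (.inr 2))) : ∀ i, P i := by
  intro i
  rcases i with i | i | i
  · exact h0
  · fin_cases i
    · exact h1
    · exact h2
    · exact h3
  · fin_cases i
    · exact h4
    · exact h5
    · exact h6

theorem toMat_one7 : one7.toMat = 1 := by
  ext i j
  revert j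
  revert i
  refine h22_I7_cases ?_ ?_ ?_ ?_ ?_ ?_ ?_ <;> refine h22_I7_cases ?_ ?_ ?_ ?_ ?_ ?_ ?_ <;> decide

theorem h22_two : (2 : K) = -1 := by decide

theorem toVec_nv (m : M7) (a : V7) : (nv m a).toVec = m.toMat *ᵥ a.toVec - a.toVec := by
  rw [← toVec_mv]
  funext i
  rw [Pi.sub_apply]
  rcases i with i | i | i
  · show ((((mv m a).a0 + 2 * a.a0) % 3 : ℕ) : K) = ((mv m a).a0 : K) - (a.a0 : K)
    rw [h22_cast_mod]; push_cast; rw [h22_two]; ring
  · fin_cases i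
    · show ((((mv m a).a1 + 2 * a.a1) % 3 : ℕ) : K) = ((mv m a).a1 : K) - (a.a1 : K)
      rw [h22_cast_mod]; push_cast; rw [h22_two]; ring
    · show ((((mv m a).a2 + 2 * a.a2) % 3 : ℕ) : K) = ((mv m a).a2 : K) - (a.a2 : K)
      rw [h22_cast_mod]; push_cast; rw [h22_two]; ring
    · show ((((mv m a).a3 + 2 * a.a3) % 3 : ℕ) : K) = ((mv m a).a3 : K) - (a.a3 : K)
      rw [h22_cast_mod]; push_cast; rw [h22_two]; ring
  · fin_cases i
    · show ((((mv m a).a4 + 2 * a.a4) % 3 : ℕ) : K) = ((mv m a).a4 : K) - (a.a4 : K)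
      rw [h22_cast_mod]; push_cast; rw [h22_two]; ring
    · show ((((mv m a).a5 + 2 * a.a5) % 3 : ℕ) : K) = ((mv m a).a5 : K) - (a.a5 : K)
      rw [h22_cast_mod]; push_cast; rw [h22_two]; ring
    · show ((((mv m a).a6 + 2 * a.a6) % 3 : ℕ) : K) = ((mv m a).a6 : K) - (a.a6 : K)
      rw [h22_cast_mod]; push_cast; rw [h22_two]; ring

theorem qV_spec (a : V7) : ((qV a : ℕ) : K) = Cfsg.quadFormOdd 3 K a.toVec := by
  unfold V7.toVec
  rw [quad_vec]
  unfold qV qT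
  rw [h22_cast_mod]
  push_cast
  ring

theorem bV_spec (a b : V7) :
    ((bV a b : ℕ) : K) = QuadraticMap.polar (Cfsg.quadFormOdd 3 K) a.toVec b.toVec := by
  unfold QuadraticMap.polar V7.toVec
  rw [← vec_add, quad_vec, quad_vec, quad_vec]
  unfold bV qT
  rw [h22_cast_mod]
  push_cast
  simp only [Prod.fst_add, Prod.snd_add]
  ring

theorem mv_red (m : M7) (a : V7) : (mv m a).red = true := by
  have h : ∀ n : ℕ, n % 3 < 3 := fun n => Nat.mod_lt n (by norm_num)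
  simp [V7.red, mv, h]

theorem nv_red (m : M7) (a : V7) : (nv m a).red = true := by
  have h : ∀ n : ℕ, n % 3 < 3 := fun n => Nat.mod_lt n (by norm_num)
  simp [V7.red, nv, h]

theorem mm_red (a b : M7) : (mm a b).red = true := by
  simp [M7.red, mm, mv_red]

theorem h22_cast_inj (x y : ℕ) (hx : x < 3) (hy : y < 3) (h : (x : K) = (y : K)) : x = y := by
  interval_cases x <;> interval_cases y <;> first | rfl | (exfalso; revert h; decide)

theorem toVec_inj (a b : V7) (ha : a.red = true) (hb : b.red = true) (h : a.toVec = b.toVec) :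
    a = b := by
  obtain ⟨a0, a1, a2, a3, a4, a5, a6⟩ := a
  obtain ⟨b0, b1, b2, b3, b4, b5, b6⟩ := b
  simp only [V7.red, Bool.and_eq_true, decide_eq_true_eq] at ha hb
  have e0 := congrFun h (.inl ())
  have e1 := congrFun h (.inr (.inl 0))
  have e2 := congrFun h (.inr (.inl 1))
  have e3 := congrFun h (.inr (.inl 2))
  have e4 := congrFun h (.inr (.inr 0))
  have e5 := congrFun h (.inr (.inr 1))
  have e6 := congrFun h (.inr (.inr 2))
  simp only [h22_toVec_0, h22_toVec_1, h22_toVec_2, h22_toVec_3, h22_toVec_4, h22_toVec_5,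
    h22_toVec_6] at e0 e1 e2 e3 e4 e5 e6
  rw [h22_cast_inj a0 b0 (by tauto) (by tauto) e0, h22_cast_inj a1 b1 (by tauto) (by tauto) e1,
    h22_cast_inj a2 b2 (by tauto) (by tauto) e2, h22_cast_inj a3 b3 (by tauto) (by tauto) e3,
    h22_cast_inj a4 b4 (by tauto) (by tauto) e4, h22_cast_inj a5 b5 (by tauto) (by tauto) e5,
    h22_cast_inj a6 b6 (by tauto) (by tauto) e6]

theorem toMat_inj (a b : M7) (ha : a.red = true) (hb : b.red = true) (h : a.toMat = b.toMat) :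
    a = b := by
  have hcol : ∀ j : I7, (a.col j).toVec = (b.col j).toVec := by
    intro j
    funext i
    have := congrFun (congrFun h i) j
    rwa [h22_toMat_apply, h22_toMat_apply] at this
  obtain ⟨a0, a1, a2, a3, a4, a5, a6⟩ := a
  obtain ⟨b0, b1, b2, b3, b4, b5, b6⟩ := b
  simp only [M7.red, Bool.and_eq_true] at ha hb
  obtain ⟨⟨⟨⟨⟨⟨ha0, ha1⟩, ha2⟩, ha3⟩, ha4⟩, ha5⟩, ha6⟩ := ha
  obtain ⟨⟨⟨⟨⟨⟨hb0, hb1⟩, hb2⟩, hb3⟩, hb4⟩, hb5⟩, hb6⟩ := hb
  have e0 : a0 = b0 := toVec_inj a0 b0 ha0 hb0 (hcol (.inl ()))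
  have e1 : a1 = b1 := toVec_inj a1 b1 ha1 hb1 (hcol (.inr (.inl 0)))
  have e2 : a2 = b2 := toVec_inj a2 b2 ha2 hb2 (hcol (.inr (.inl 1)))
  have e3 : a3 = b3 := toVec_inj a3 b3 ha3 hb3 (hcol (.inr (.inl 2)))
  have e4 : a4 = b4 := toVec_inj a4 b4 ha4 hb4 (hcol (.inr (.inr 0)))
  have e5 : a5 = b5 := toVec_inj a5 b5 ha5 hb5 (hcol (.inr (.inr 1)))
  have e6 : a6 = b6 := toVec_inj a6 b6 ha6 hb6 (hcol (.inr (.inr 2)))
  rw [e0, e1, e2, e3, e4, e5, e6]

theorem h22_bas_0 : (bas 0).toVec = Pi.single (.inl ()) 1 := by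
  funext i; revert i
  refine h22_I7_cases ?_ ?_ ?_ ?_ ?_ ?_ ?_ <;> decide

theorem h22_bas_1 : (bas 1).toVec = Pi.single (.inr (.inl 0)) 1 := by
  funext i; revert i
  refine h22_I7_cases ?_ ?_ ?_ ?_ ?_ ?_ ?_ <;> decide

theorem h22_bas_2 : (bas 2).toVec = Pi.single (.inr (.inl 1)) 1 := by
  funext i; revert i
  refine h22_I7_cases ?_ ?_ ?_ ?_ ?_ ?_ ?_ <;> decide

theorem h22_bas_3 : (bas 3).toVec = Pi.single (.inr (.inl 2)) 1 := by
  funext i; revert i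
  refine h22_I7_cases ?_ ?_ ?_ ?_ ?_ ?_ ?_ <;> decide

theorem h22_bas_4 : (bas 4).toVec = Pi.single (.inr (.inr 0)) 1 := by
  funext i; revert i
  refine h22_I7_cases ?_ ?_ ?_ ?_ ?_ ?_ ?_ <;> decide

theorem h22_bas_5 : (bas 5).toVec = Pi.single (.inr (.inr 1)) 1 := by
  funext i; revert i
  refine h22_I7_cases ?_ ?_ ?_ ?_ ?_ ?_ ?_ <;> decide

theorem h22_bas_6 (k : ℕ) : (bas (k + 6)).toVec = Pi.single (.inr (.inr 2)) 1 := by
  have h : bas (k + 6) = ⟨0,0,0,0,0,0,1⟩ := rfl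
  rw [h]
  funext i; revert i
  refine h22_I7_cases ?_ ?_ ?_ ?_ ?_ ?_ ?_ <;> decide

theorem toVec_bas (j : I7) : ∃ k, k < 7 ∧ (bas k).toVec = Pi.single j 1 := by
  rcases j with j | j | j
  · exact ⟨0, by norm_num, h22_bas_0⟩
  · fin_cases j
    · exact ⟨1, by norm_num, h22_bas_1⟩
    · exact ⟨2, by norm_num, h22_bas_2⟩
    · exact ⟨3, by norm_num, h22_bas_3⟩
  · fin_cases j
    · exact ⟨4, by norm_num, h22_bas_4⟩
    · exact ⟨5, by norm_num, h22_bas_5⟩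
    · exact ⟨6, by norm_num, h22_bas_6 0⟩

theorem bas_single (k : ℕ) : ∃ j : I7, (bas k).toVec = Pi.single j 1 := by
  rcases k with _ | _ | _ | _ | _ | _ | k
  · exact ⟨_, h22_bas_0⟩
  · exact ⟨_, h22_bas_1⟩
  · exact ⟨_, h22_bas_2⟩
  · exact ⟨_, h22_bas_3⟩
  · exact ⟨_, h22_bas_4⟩
  · exact ⟨_, h22_bas_5⟩
  · exact ⟨_, h22_bas_6 k⟩

end Cfsg.Agent.Lib.Helper28.O73C
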