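import Mathlib
import Cfsg.Agent.Lib.helper23.P4S.DefsC

set_option autoImplicit false

/-!
# Project P4C (S3466), row SL7 (helper22): `exists_split`, verbatim from `helper23/P4S/SkelC.lean.txt`.
Extras: the split torus `p4csl7_D : Eˣ →* SL₂(E)`, `u ↦ diag(u, u⁻¹)`.
-/

namespace Cfsg.Agent.Lib.helper23.P4S

open Matrix
open scoped Kronecker

section Torus

variable {E : Type*} [Field E]

/-- `diag(u, u⁻¹)` in `SL₂` -/
def p4csl7_D (u : Eˣ) : Matrix.SpecialLinearGroup (Fin 2) E :=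
  ⟨Matrix.diagonal ![(u : E), ((u⁻¹ : Eˣ) : E)], by
    rw [Matrix.det_diagonal, Fin.prod_univ_two]
    simp⟩

theorem p4csl7_D_coe (u : Eˣ) : (p4csl7_D u).1 = Matrix.diagonal ![(u : E), ((u⁻¹ : Eˣ) : E)] := rfl

theorem p4csl7_D_one : p4csl7_D (1 : Eˣ) = 1 := by
  apply Subtype.ext
  rw [p4csl7_D_coe, Matrix.SpecialLinearGroup.coe_one, ← Matrix.diagonal_one]
  congr 1
  funext i
  fin_cases i <;> simp

theorem p4csl7_D_mul (u v : Eˣ) : p4csl7_D (u * v) = p4csl7_D u * p4csl7_D v := by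
  apply Subtype.ext
  rw [Matrix.SpecialLinearGroup.coe_mul, p4csl7_D_coe, p4csl7_D_coe, p4csl7_D_coe, Matrix.diagonal_mul_diagonal]
  congr 1
  funext i
  fin_cases i
  · simp
  · simp [mul_comm]

/-- the split torus as a homomorphism -/
def p4csl7_Dhom : Eˣ →* Matrix.SpecialLinearGroup (Fin 2) E where
  toFun := p4csl7_D
  map_one' := p4csl7_D_one
  map_mul' := p4csl7_D_mul

theorem p4csl7_Dhom_apply (u : Eˣ) : p4csl7_Dhom u = p4csl7_D u := rfl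

theorem p4csl7_Dhom_injective : Function.Injective (p4csl7_Dhom : Eˣ →* Matrix.SpecialLinearGroup (Fin 2) E) := by
  intro u v h
  have h1 : (p4csl7_D u).1 0 0 = (p4csl7_D v).1 0 0 := by
    rw [show p4csl7_D u = p4csl7_D v from h]
  rw [p4csl7_D_coe, p4csl7_D_coe] at h1
  simp at h1
  exact Units.ext h1

theorem p4csl7_orderOf_D (u : Eˣ) : orderOf (p4csl7_D u) = orderOf u :=
  orderOf_injective p4csl7_Dhom p4csl7_Dhom_injective u

theorem p4csl7_trace_D (u : Eˣ) : (p4csl7_D u).1.trace = (u : E) + ((u⁻¹ : Eˣ) : E) := by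
  rw [p4csl7_D_coe, Matrix.trace_fin_two]
  simp

/-- `tr diag(u, u⁻¹) ^ 2 = 4` forces `u ^ 2 = 1` -/
theorem p4csl7_trace_sq (u : Eˣ) (h : (p4csl7_D u).1.trace ^ 2 = 4) : u ^ 2 = 1 := by
  rw [p4csl7_trace_D] at h
  have hu : (u : E) * ((u⁻¹ : Eˣ) : E) = 1 := by
    rw [← Units.val_mul, mul_inv_cancel, Units.val_one]
  have h1 : ((u : E) - ((u⁻¹ : Eˣ) : E)) ^ 2 = 0 := by
    have : ((u : E) - ((u⁻¹ : Eˣ) : E)) ^ 2 = ((u : E) + ((u⁻¹ : Eˣ) : E)) ^ 2 - 4 * ((u : E) * ((u⁻¹ : Eˣ) : E)) := by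
      ring
    rw [this, h, hu]
    ring
  have h2 : (u : E) = ((u⁻¹ : Eˣ) : E) := by
    have := pow_eq_zero_iff (two_ne_zero) |>.1 h1
    exact sub_eq_zero.1 this
  have h3 : u = u⁻¹ := Units.ext h2
  calc u ^ 2 = u * u := pow_two u
    _ = u * u⁻¹ := by rw [← h3]
    _ = 1 := mul_inv_cancel u

theorem p4csl7_trace_ne (u : Eˣ) (h : ¬ orderOf u ∣ 2) : (p4csl7_D u).1.trace ^ 2 ≠ 4 := by
  intro h4
  exact h (orderOf_dvd_of_pow_eq_one (p4csl7_trace_sq u h4))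

end Torus

/-- elements of every order dividing `|Eˣ|` -/
theorem p4csl7_exists_unit {E : Type*} [Field E] [Fintype E] (r : ℕ) (hr : r ∣ Fintype.card E - 1) :
    ∃ a : Eˣ, orderOf a = r := by
  classical
  obtain ⟨g, hg⟩ := IsCyclic.exists_ofOrder_eq_natCard (α := Eˣ)
  have hcard : Nat.card Eˣ = Fintype.card E - 1 := by
    rw [Nat.card_eq_fintype_card, Fintype.card_units]
  rw [hcard] at hg
  have hpos : 0 < Fintype.card E - 1 := by
    have := Fintype.one_lt_card (α := E)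
    omega
  refine ⟨g ^ ((Fintype.card E - 1) / r), ?_⟩
  rw [← hg]
  rw [← hg] at hr hpos
  exact orderOf_pow_orderOf_div hpos.ne' hr

/-- SL7 -/
theorem exists_split {E : Type} [Field E] [Fintype E] (p : ℕ) [Fact p.Prime] [CharP E p] (n : ℕ) (hn : 1 ≤ n)
    (hE : Fintype.card E = p ^ (2 * n)) (r : ℕ) (hr : r ∣ (p ^ n) ^ 2 - 1) (h2 : ¬ r ∣ 2) :
    ∃ a : Eˣ, orderOf a = r ∧ ∃ A : Matrix.SpecialLinearGroup (Fin 2) E,
      A.1 = Matrix.diagonal ![(a : E), ((a⁻¹ : Eˣ) : E)] ∧ orderOf A = r ∧ A.1.trace ^ 2 ≠ 4 := by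
  have hr' : r ∣ Fintype.card E - 1 := by
    rw [hE, mul_comm 2 n, pow_mul]
    exact hr
  obtain ⟨a, ha⟩ := p4csl7_exists_unit r hr'
  refine ⟨a, ha, p4csl7_D a, rfl, ?_, ?_⟩
  · rw [p4csl7_orderOf_D, ha]
  · apply p4csl7_trace_ne
    rw [ha]
    exact h2

end Cfsg.Agent.Lib.helper23.P4S
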