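import Mathlib
import Cfsg.Agent.Lib.helper17.SLP.Defs
import Cfsg.Agent.Lib.helper3.SP4.Defs
import Cfsg.Agent.Lib.Helper9.SP4H1
import Cfsg.Agent.Lib.helper6.SLPM4

/-!
Project SP4 row FIN4 (core): the relators hold at the six matrices and these generate `Sp₄(F)`; the statements of
M4, M5, P2, P3, P4 are hypotheses (H1 `ev_map` and SLP `closure_M` are cited).
-/

set_option autoImplicit false

namespace Cfsg.Agent.Lib.helper3.SP4

open Cfsg.Agent.Lib.helper17.SLP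

universe u

section FIN

variable {F : Type u} [Field F] [Fintype F]

/-- the image of `SL₂(F)` under a homomorphism lies in the closure of the images of the three generators -/
theorem sp4fin4_range_le {G : Type*} [Group G] (ζ : Fˣ) (hζ : ∀ y : Fˣ, y ∈ Subgroup.zpowers ζ)
    (φ : Matrix.SpecialLinearGroup (Fin 2) F →* G) (K : Subgroup G)
    (h1 : φ (xM (1 : F)) ∈ K) (h2 : φ (hM ζ) ∈ K) (h3 : φ wM ∈ K) : Set.range φ ⊆ (K : Set G) := by
  rintro _ ⟨m, rfl⟩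
  have hm : m ∈ Subgroup.closure {xM (1 : F), hM ζ, wM} := by
    rw [closure_M ζ hζ]
    exact Subgroup.mem_top m
  have : Subgroup.closure {xM (1 : F), hM ζ, wM} ≤ K.comap φ := by
    rw [Subgroup.closure_le]
    rintro x (rfl | rfl | rfl)
    · exact h1
    · exact h2
    · exact h3
  exact this hm

/-- FIN4 core.  `hM4` = `hyp_M ζ`; `hM5` = `closure_Sp4`; `hP2a hP2b` = `ev6_inA`, `ev6_inB`; `hP3` = `ev6_wordsS6`;
`hP4` = `hyp_iff_rel ζ rhoA rhoB`. -/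
theorem sp4fin4_core (ζ : Fˣ) (hζ : ∀ y : Fˣ, y ∈ Subgroup.zpowers ζ)
    (hM4 : Hyp ζ (rhoA (F := F)) rhoB)
    (hM5 : Subgroup.closure (Set.range (rhoA (F := F)) ∪ Set.range (rhoB (F := F))) = ⊤)
    (hP2a : ∀ (ua ha wa ub hb wb : ↥(Matrix.symplecticGroup (Fin 2) F)) (r : FreeGroup (Fin 3)),
      ev6 ua ha wa ub hb wb (inA r) = ev ua ha wa r)
    (hP2b : ∀ (ua ha wa ub hb wb : ↥(Matrix.symplecticGroup (Fin 2) F)) (r : FreeGroup (Fin 3)),
      ev6 ua ha wa ub hb wb (inB r) = ev ub hb wb r)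
    (hP3 : ∀ (ua ha wa ub hb wb : ↥(Matrix.symplecticGroup (Fin 2) F)) (za : FreeGroup (Fin 6)),
      (∀ r ∈ wordsS6 za, ev6 ua ha wa ub hb wb r = 1) ↔
      (relS1 ha hb = 1 ∧ relS2 ua hb (ev6 ua ha wa ub hb wb za) = 1 ∧ relS3 ha ub hb = 1 ∧
        relS4 ha wa hb = 1 ∧ relS5 ha hb wb = 1 ∧ relS6 wa wb = 1 ∧ relS7 ua wa wb = 1 ∧
        relS8 wa ub wb = 1 ∧ relS9 ua wa ub wb = 1 ∧ relS10 ua wa ub wb = 1 ∧ relS11 ua wa ub = 1 ∧
        relS12 wa ub = 1))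
    (hP4 : Hyp ζ (rhoA (F := F)) rhoB ↔
      (relS1 (rh (rhoA (F := F)) ζ) (rh rhoB ζ) = 1 ∧
        relS2 (rx (rhoA (F := F)) 1) (rh rhoB ζ) (rx rhoA (ζ : F)) = 1 ∧
        relS3 (rh (rhoA (F := F)) ζ) (rx rhoB 1) (rh rhoB ζ) = 1 ∧
        relS4 (rh (rhoA (F := F)) ζ) (rn rhoA) (rh rhoB ζ) = 1 ∧
        relS5 (rh (rhoA (F := F)) ζ) (rh rhoB ζ) (rn rhoB) = 1 ∧ relS6 (rn (rhoA (F := F))) (rn rhoB) = 1 ∧
        relS7 (rx (rhoA (F := F)) 1) (rn rhoA) (rn rhoB) = 1 ∧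
        relS8 (rn (rhoA (F := F))) (rx rhoB 1) (rn rhoB) = 1 ∧
        relS9 (rx (rhoA (F := F)) 1) (rn rhoA) (rx rhoB 1) (rn rhoB) = 1 ∧
        relS10 (rx (rhoA (F := F)) 1) (rn rhoA) (rx rhoB 1) (rn rhoB) = 1 ∧
        relS11 (rx (rhoA (F := F)) 1) (rn rhoA) (rx rhoB 1) = 1 ∧
        relS12 (rn (rhoA (F := F))) (rx rhoB 1) = 1))
    (L : List (FreeGroup (Fin 3)))
    (az : FreeGroup (Fin 3)) (hLrel : ∀ r ∈ L, ev (xM (1 : F)) (hM ζ) wM r = 1)
    (haz : ev (xM (1 : F)) (hM ζ) wM az = xM (ζ : F)) :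
    (∀ r ∈ L.map inA ++ L.map inB ++ wordsS6 (inA az),
        ev6 (rhoA (xM (1 : F))) (rhoA (hM ζ)) (rhoA wM) (rhoB (xM (1 : F))) (rhoB (hM ζ)) (rhoB wM) r = 1) ∧
      Subgroup.closure {rhoA (xM (1 : F)), rhoA (hM ζ), rhoA wM, rhoB (xM (1 : F)), rhoB (hM ζ), rhoB wM} = ⊤ := by
  refine ⟨?_, ?_⟩
  · intro r hr
    rw [List.mem_append, List.mem_append] at hr
    rcases hr with (hr | hr) | hr
    · obtain ⟨r0, hr0, rfl⟩ := List.mem_map.1 hr
      rw [hP2a, ← ev_map, hLrel r0 hr0, map_one]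
    · obtain ⟨r0, hr0, rfl⟩ := List.mem_map.1 hr
      rw [hP2b, ← ev_map, hLrel r0 hr0, map_one]
    · have hz : ev6 (rhoA (xM (1 : F))) (rhoA (hM ζ)) (rhoA wM) (rhoB (xM (1 : F))) (rhoB (hM ζ)) (rhoB wM)
          (inA az) = rx rhoA (ζ : F) := by
        rw [hP2a, ← ev_map, haz]
        rfl
      refine (hP3 _ _ _ _ _ _ (inA az)).2 ?_ r hr
      rw [hz]
      exact hP4.1 hM4
  · rw [eq_top_iff, ← hM5, Subgroup.closure_le]
    apply Set.union_subset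
    · apply sp4fin4_range_le ζ hζ
      · exact Subgroup.subset_closure (by simp)
      · exact Subgroup.subset_closure (by simp)
      · exact Subgroup.subset_closure (by simp)
    · apply sp4fin4_range_le ζ hζ
      · exact Subgroup.subset_closure (by simp)
      · exact Subgroup.subset_closure (by simp)
      · exact Subgroup.subset_closure (by simp)

end FIN

end Cfsg.Agent.Lib.helper3.SP4
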