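import Mathlib
import Cfsg.Prelude.Def_LieTypeChar
import Cfsg.Agent.Lib.helper14.SQD.Defs
import Cfsg.Agent.Lib.helper14.SQD.DefsU

/-!
Project SQD row UO6 (core): the range of `psiO`, from a generic lemma on `g ↦ P⁻¹ * reindex g * P`; the statements
of UE1 (`mem_su_iff`) and UE2 (`pev_gram`) are hypotheses.  Also the even analogue (UE4) `sqduo6_rangeE`.
-/

set_option autoImplicit false

namespace Cfsg.Agent.Lib.helper14.SQD

open Cfsg Cfsg.Lie Matrix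

section UO
variable {F : Type} [Field F] [CharP F 2] (e : ℕ) {k : ℕ}

/-- generic range description for `g ↦ P⁻¹ * reindex g * P` on `SU n` (covers UE4 and UO6) -/
theorem sqduo6_range_gen {ι : Type} [Fintype ι] [DecidableEq ι] {n : ℕ}
    (hUE1 : ∀ g : Matrix.SpecialLinearGroup (Fin n) F, g ∈ SU n F (2 ^ e) ↔
      (g : Matrix (Fin n) (Fin n) F)ᵀ * (g : Matrix (Fin n) (Fin n) F).map (frobE F e) = 1)
    (ev : ι ≃ Fin n) (P : GL ι F) (J : Matrix ι ι F)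
    (hJ : (P : Matrix ι ι F)ᵀ * (P : Matrix ι ι F).map (frobE F e) = J) (w : GL ι F) :
    w ∈ (((MulAut.conj (P⁻¹)).toMonoidHom.comp (reGL F ev).toMonoidHom).comp
      (Matrix.SpecialLinearGroup.toGL.comp (SU n F (2 ^ e)).subtype)).range ↔
      (w : Matrix ι ι F).det = 1 ∧
      (w : Matrix ι ι F)ᵀ * J * (w : Matrix ι ι F).map (frobE F e) = J := by
  set τ := frobE F e with hτ
  set Pm : Matrix ι ι F := (P : Matrix ι ι F) with hPm
  set Pi : Matrix ι ι F := ((P⁻¹ : GL ι F) : Matrix ι ι F) with hPi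
  have hPPi : Pm * Pi = 1 := by
    rw [hPm, hPi, ← Units.val_mul, mul_inv_cancel, Units.val_one]
  have hPiP : Pi * Pm = 1 := by
    rw [hPm, hPi, ← Units.val_mul, inv_mul_cancel, Units.val_one]
  have hT1 : Piᵀ * Pmᵀ = 1 := by rw [← Matrix.transpose_mul, hPPi, Matrix.transpose_one]
  have hT2 : Pmᵀ * Piᵀ = 1 := by rw [← Matrix.transpose_mul, hPiP, Matrix.transpose_one]
  have hM1 : Pm.map τ * Pi.map τ = 1 := by
    rw [← Matrix.map_mul, hPPi, Matrix.map_one τ (map_zero τ) (map_one τ)]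
  have hM2 : Pi.map τ * Pm.map τ = 1 := by
    rw [← Matrix.map_mul, hPiP, Matrix.map_one τ (map_zero τ) (map_one τ)]
  constructor
  · rintro ⟨g, rfl⟩
    set G : Matrix (Fin n) (Fin n) F := (g.1 : Matrix (Fin n) (Fin n) F) with hG
    have hg : Gᵀ * G.map τ = 1 := (hUE1 g.1).1 g.2
    set M : Matrix ι ι F := G.submatrix ev ev with hM
    have hw : (((((MulAut.conj (P⁻¹)).toMonoidHom.comp (reGL F ev).toMonoidHom).comp
        (Matrix.SpecialLinearGroup.toGL.comp (SU n F (2 ^ e)).subtype)) g : GL ι F) : Matrix ι ι F) =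
        Pi * M * Pm := by
      simp only [MonoidHom.comp_apply, MulEquiv.coe_toMonoidHom, MulAut.conj_apply, inv_inv,
        Units.val_mul, reGL_coe, Subgroup.coe_subtype]
      rfl
    rw [hw]
    have hMM : Mᵀ * M.map τ = 1 := by
      rw [hM, Matrix.transpose_submatrix, ← Matrix.submatrix_map, Matrix.submatrix_mul_equiv, hg,
        Matrix.submatrix_one_equiv]
    refine ⟨?_, ?_⟩
    · rw [hPi, Matrix.det_units_conj', hM, Matrix.det_submatrix_equiv_self]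
      exact g.1.2
    · rw [← hJ]
      simp only [Matrix.transpose_mul, Matrix.map_mul]
      calc Pmᵀ * (Mᵀ * Piᵀ) * (Pmᵀ * Pm.map τ) * (Pi.map τ * M.map τ * Pm.map τ)
          = Pmᵀ * Mᵀ * (Piᵀ * Pmᵀ) * (Pm.map τ * Pi.map τ) * M.map τ * Pm.map τ := by
            simp only [Matrix.mul_assoc]
        _ = Pmᵀ * (Mᵀ * M.map τ) * Pm.map τ := by
            rw [hT1, hM1]; simp only [Matrix.mul_one, Matrix.mul_assoc]
        _ = Pmᵀ * Pm.map τ := by rw [hMM, Matrix.mul_one]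
  · rintro ⟨hdet, hform⟩
    set W : Matrix ι ι F := (w : Matrix ι ι F) with hW
    set M : Matrix ι ι F := Pm * W * Pi with hM
    have hdM : M.det = 1 := by
      rw [hM, hPm, hPi, Matrix.det_units_conj, hdet]
    have hMM : Mᵀ * M.map τ = 1 := by
      rw [hM]
      simp only [Matrix.transpose_mul, Matrix.map_mul]
      calc Piᵀ * (Wᵀ * Pmᵀ) * (Pm.map τ * W.map τ * Pi.map τ)
          = Piᵀ * (Wᵀ * (Pmᵀ * Pm.map τ) * W.map τ) * Pi.map τ := by
            simp only [Matrix.mul_assoc]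
        _ = Piᵀ * (Pmᵀ * Pm.map τ) * Pi.map τ := by rw [hJ, hform]
        _ = (Piᵀ * Pmᵀ) * (Pm.map τ * Pi.map τ) := by simp only [Matrix.mul_assoc]
        _ = 1 := by rw [hT1, hM1, Matrix.mul_one]
    set G : Matrix (Fin n) (Fin n) F := M.submatrix ev.symm ev.symm with hG
    have hdG : G.det = 1 := by rw [hG, Matrix.det_submatrix_equiv_self, hdM]
    have hGG : Gᵀ * G.map τ = 1 := by
      rw [hG, Matrix.transpose_submatrix, ← Matrix.submatrix_map, Matrix.submatrix_mul_equiv, hMM,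
        Matrix.submatrix_one_equiv]
    have hgSU : (⟨G, hdG⟩ : Matrix.SpecialLinearGroup (Fin n) F) ∈ SU n F (2 ^ e) :=
      (hUE1 ⟨G, hdG⟩).2 hGG
    refine ⟨⟨⟨G, hdG⟩, hgSU⟩, ?_⟩
    apply Units.ext
    have hw : (((((MulAut.conj (P⁻¹)).toMonoidHom.comp (reGL F ev).toMonoidHom).comp
        (Matrix.SpecialLinearGroup.toGL.comp (SU n F (2 ^ e)).subtype))
          (⟨⟨G, hdG⟩, hgSU⟩ : ↥(SU n F (2 ^ e))) : GL ι F) : Matrix ι ι F) =
        Pi * G.submatrix ev ev * Pm := by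
      simp only [MonoidHom.comp_apply, MulEquiv.coe_toMonoidHom, MulAut.conj_apply, inv_inv,
        Units.val_mul, reGL_coe, Subgroup.coe_subtype]
      rfl
    rw [hw, hG, Matrix.submatrix_submatrix]
    have : M.submatrix (ev.symm ∘ ev) (ev.symm ∘ ev) = M := by
      ext i j; simp
    rw [this, hM]
    calc Pi * (Pm * W * Pi) * Pm = (Pi * Pm) * W * (Pi * Pm) := by simp only [Matrix.mul_assoc]
      _ = W := by rw [hPiP, Matrix.one_mul, Matrix.mul_one]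

/-- UO6 core: `hUE1`, `hUE2` are the statements of `mem_su_iff` (UE1) and `pev_gram` (UE2). -/
theorem sqduo6_core
    (hUE1 : ∀ (n : ℕ) (g : Matrix.SpecialLinearGroup (Fin n) F), g ∈ SU n F (2 ^ e) ↔
      (g : Matrix (Fin n) (Fin n) F)ᵀ * (g : Matrix (Fin n) (Fin n) F).map (frobE F e) = 1)
    (hUE2 : ∀ a : F, a ^ 2 ^ e + a = 1 →
      ((pevU a : GL (Fin k ⊕ Fin k) F) : Matrix (Fin k ⊕ Fin k) (Fin k ⊕ Fin k) F)ᵀ *
        ((pevU a : GL (Fin k ⊕ Fin k) F) : Matrix (Fin k ⊕ Fin k) (Fin k ⊕ Fin k) F).map (frobE F e) =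
        Matrix.fromBlocks 0 1 1 0)
    (a : F) (ha : a ^ 2 ^ e + a = 1) (w : GL ((Fin k ⊕ Fin k) ⊕ Fin 1) F) :
    w ∈ (psiO (k := k) (F := F) (2 ^ e) a).range ↔
      (w : Matrix ((Fin k ⊕ Fin k) ⊕ Fin 1) ((Fin k ⊕ Fin k) ⊕ Fin 1) F).det = 1 ∧
      (w : Matrix ((Fin k ⊕ Fin k) ⊕ Fin 1) ((Fin k ⊕ Fin k) ⊕ Fin 1) F)ᵀ *
        Matrix.fromBlocks (Matrix.fromBlocks 0 1 1 0) 0 0 1 *
        (w : Matrix ((Fin k ⊕ Fin k) ⊕ Fin 1) ((Fin k ⊕ Fin k) ⊕ Fin 1) F).map (frobE F e) =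
        Matrix.fromBlocks (Matrix.fromBlocks 0 1 1 0) 0 0 1 := by
  unfold psiO
  apply sqduo6_range_gen e (hUE1 (k + k + 1))
  rw [embGL_coe, Matrix.fromBlocks_transpose, Matrix.fromBlocks_map, Matrix.fromBlocks_multiply,
    hUE2 a ha]
  have h1 : ((1 : Matrix (Fin 1) (Fin 1) F)).map (frobE F e) = 1 :=
    Matrix.map_one _ (map_zero _) (map_one _)
  have h0 : ((0 : Matrix (Fin k ⊕ Fin k) (Fin 1) F)).map (frobE F e) = 0 :=
    Matrix.map_zero _ (map_zero _)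
  have h0' : ((0 : Matrix (Fin 1) (Fin k ⊕ Fin k) F)).map (frobE F e) = 0 :=
    Matrix.map_zero _ (map_zero _)
  rw [h1, h0, h0']
  simp

/-- the even analogue (UE4) from the same generic lemma -/
theorem sqduo6_rangeE
    (hUE1 : ∀ (n : ℕ) (g : Matrix.SpecialLinearGroup (Fin n) F), g ∈ SU n F (2 ^ e) ↔
      (g : Matrix (Fin n) (Fin n) F)ᵀ * (g : Matrix (Fin n) (Fin n) F).map (frobE F e) = 1)
    (hUE2 : ∀ a : F, a ^ 2 ^ e + a = 1 →
      ((pevU a : GL (Fin k ⊕ Fin k) F) : Matrix (Fin k ⊕ Fin k) (Fin k ⊕ Fin k) F)ᵀ *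
        ((pevU a : GL (Fin k ⊕ Fin k) F) : Matrix (Fin k ⊕ Fin k) (Fin k ⊕ Fin k) F).map (frobE F e) =
        Matrix.fromBlocks 0 1 1 0)
    (a : F) (ha : a ^ 2 ^ e + a = 1) (w : GL (Fin k ⊕ Fin k) F) :
    w ∈ (psiE (k := k) (F := F) (2 ^ e) a).range ↔
      (w : Matrix (Fin k ⊕ Fin k) (Fin k ⊕ Fin k) F).det = 1 ∧
      (w : Matrix (Fin k ⊕ Fin k) (Fin k ⊕ Fin k) F)ᵀ * Matrix.fromBlocks 0 1 1 0 *
        (w : Matrix (Fin k ⊕ Fin k) (Fin k ⊕ Fin k) F).map (frobE F e) = Matrix.fromBlocks 0 1 1 0 := by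
  unfold psiE
  exact sqduo6_range_gen e (hUE1 (k + k)) _ _ _ (hUE2 a ha) w

end UO

end Cfsg.Agent.Lib.helper14.SQD
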