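import Mathlib
import Cfsg.Agent.Lib.Helper19.SU5.Defs
import Cfsg.Agent.Lib.Helper19.SU5.Defs2
import Cfsg.Agent.Lib.helper3.SU5.Defs

/-!
# Project SU5 (designer helper19), part 2, row B0: `dat_dictU` (the dictionary of `datU`), verbatim.
-/

set_option autoImplicit false
set_option linter.unusedSectionVars false

namespace Cfsg.Agent.Lib.Helper19.SU5

open Cfsg.Agent.Lib.helper17.SLP Cfsg.Agent.Lib.helper3.SP4 Cfsg.Agent.Lib.Helper22.SU4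
open Cfsg.Agent.Lib.Helper27.STU (Lam XpM XmM XpS XmS SUm XpU XmU SysU)
open Cfsg.Agent.Lib.helper3.STC (ng sws)
open Cfsg.Agent.Lib.helper3.SU5 (Dat Tab5 Pre)

universe u v w

section Aux

variable {F : Type u} [Field F]

/-- `ym t = wM * xM (-t) * wM⁻¹` in `SL₂(F)`. -/
theorem su5b0_ym_eq (t : F) :
    (Cfsg.Agent.Lib.helper15.St2.ym t : Matrix.SpecialLinearGroup (Fin 2) F) = wM * xM (-t) * wM⁻¹ := by
  apply Subtype.ext
  rw [Matrix.SpecialLinearGroup.coe_mul, Matrix.SpecialLinearGroup.coe_mul,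
    Matrix.SpecialLinearGroup.coe_inv]
  show (!![1, 0; t, 1] : Matrix (Fin 2) (Fin 2) F) =
    !![0, 1; -1, 0] * !![1, -t; 0, 1] * Matrix.adjugate !![0, 1; -1, 0]
  rw [Matrix.adjugate_fin_two_of]
  ext i j
  fin_cases i <;> fin_cases j <;> simp [Matrix.mul_apply, Fin.sum_univ_two]

/-- `xm 1 * ym (-1) * xm 1 = wM` in `SL₂(F)`. -/
theorem su5b0_wM_eq :
    (Cfsg.Agent.Lib.helper15.St2.xm 1 * Cfsg.Agent.Lib.helper15.St2.ym (-1) *
      Cfsg.Agent.Lib.helper15.St2.xm 1 : Matrix.SpecialLinearGroup (Fin 2) F) = wM := by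
  apply Subtype.ext
  rw [Matrix.SpecialLinearGroup.coe_mul, Matrix.SpecialLinearGroup.coe_mul]
  show (!![1, 1; 0, 1] : Matrix (Fin 2) (Fin 2) F) * !![1, 0; -1, 1] * !![1, 1; 0, 1] = !![0, 1; -1, 0]
  ext i j
  fin_cases i <;> fin_cases j <;> simp [Matrix.mul_apply, Fin.sum_univ_two]

end Aux

section B

variable {F : Type u} {K : Type u} [Field F] [Field K] [StarRing F] [Fintype F] [Fintype K] {D : Tw F K}
  {G : Type v} [Group G]

/-- B0 [S-M]  dictionary, no hypotheses.  `xA xB yB`: `rfl` (`xM t` and `St2.xm t` are the same matrix).  `yA`: `ym t = wM * xM (-t) * wM⁻¹` in `SL₂(F)` (`Subtype.ext`, `2 × 2` matrices), `map_mul`, `map_inv`.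
`nA`: `xm 1 * ym (-1) * xm 1 = wM`.  `nB`: `D.nB = φb (XpU ξ₀ * XmU (mu ξ₀) * XpU (nu ξ₀)) = φb (WU ξ₀)` (`map_mul`; `WU` of part 1), `P.ιL_w`, `phiL`.  `ξ₀.c`: `Lam.tr_c`, `RO.kap`. -/
theorem dat_dictU (P : RO D) (φa : Matrix.SpecialLinearGroup (Fin 2) F →* G) (φb : ↥(SUm F True) →* G) :
    (∀ t, (datU P φa φb).xA t = rx φa t) ∧
      (∀ t, (datU P φa φb).yA t = rn φa * rx φa (-t) * (rn φa)⁻¹) ∧
      (∀ ξ, (datU P φa φb).xB ξ = yb φb ξ) ∧ (∀ ξ, (datU P φa φb).yB ξ = ybm φb ξ) ∧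
      (datU P φa φb).nA = rn φa ∧ (datU P φa φb).nB = rn (phiL P φb) ∧ (datU P φa φb).ξ₀.c = P.kap := by
  refine ⟨fun t => rfl, fun t => ?_, fun ξ => rfl, fun ξ => rfl, ?_, ?_, rfl⟩
  · show φa (Cfsg.Agent.Lib.helper15.St2.ym t) = φa wM * φa (xM (-t)) * (φa wM)⁻¹
    rw [su5b0_ym_eq, map_mul, map_mul, map_inv]
  · show φa (Cfsg.Agent.Lib.helper15.St2.xm 1) * φa (Cfsg.Agent.Lib.helper15.St2.ym (-1)) *
      φa (Cfsg.Agent.Lib.helper15.St2.xm 1) = φa wM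
    rw [← map_mul, ← map_mul, su5b0_wM_eq]
  · show φb (XpU (Lam.tr (P.ζ : F))) * φb (XmU (Lam.mu (Lam.tr (P.ζ : F)))) *
      φb (XpU (Lam.nu (Lam.tr (P.ζ : F)))) = φb (P.ιL wM)
    rw [P.ιL_w, ← map_mul, ← map_mul]
    rfl

end B

end Cfsg.Agent.Lib.Helper19.SU5
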