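import Mathlib
import Cfsg.Agent.Lib.Helper19.SU5.Defs
import Cfsg.Agent.Lib.Helper19.SU5.Defs2
import Cfsg.Agent.Lib.helper3.SU5.Defs
import Cfsg.Agent.Lib.Helper22.SU5B0

/-!
# Project SU5 (designer helper19), part 2, row B0b: `dat_dict2U` (`xC`, `xD` of `datU` from `WactU`), verbatim.
-/

set_option autoImplicit false
set_option linter.unusedSectionVars false

namespace Cfsg.Agent.Lib.Helper19.SU5

open Cfsg.Agent.Lib.helper17.SLP Cfsg.Agent.Lib.helper3.SP4 Cfsg.Agent.Lib.Helper22.SU4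
open Cfsg.Agent.Lib.Helper27.STU (Lam XpM XmM XpS XmS SUm XpU XmU SysU)
open Cfsg.Agent.Lib.helper3.STC (ng sws)
open Cfsg.Agent.Lib.helper3.SU5 (Dat Tab5 Pre)

universe u v w

section B

variable {F : Type u} {K : Type u} [Field F] [Field K] [StarRing F] [Fintype F] [Fintype K] {D : Tw F K}
  {G : Type v} [Group G]

/-- `star κ = -κ`. -/
theorem su5b0b_star_kap (P : RO D) : star P.kap = -P.kap := by
  unfold RO.kap
  rw [star_sub, star_star]
  ring

/-- B0b [S-M]  deps B0 + part 1 F1 / `su5f4_star_kap` (`star κ = -κ`).  `xC ξ = cj w_a (y_b ξ) = y_d (act (-1) ξ)` (`W.a_b`); `xD t = cj w_b (x_a (t / star κ)) = x_c (-(t / star κ)) = x_c (t / κ)` (`W.b_a`). -/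
theorem dat_dict2U (P : RO D) (φa : Matrix.SpecialLinearGroup (Fin 2) F →* G) (φb : ↥(SUm F True) →* G)
    (W : WactU P φa φb) :
    (∀ ξ, (datU P φa φb).xC ξ = ydU φa φb (Lam.act (-1) ξ)) ∧
      ∀ t, (datU P φa φb).xD t = xcU P φa φb (t / P.kap) := by
  obtain ⟨hxA, -, hxB, -, hnA, hnB, hc⟩ := dat_dictU P φa φb
  refine ⟨fun ξ => ?_, fun t => ?_⟩
  · show Cfsg.Agent.Lib.helper15.St2.cj (datU P φa φb).nA ((datU P φa φb).xB ξ) = _
    rw [hnA, hxB]
    exact W.a_b ξ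
  · show Cfsg.Agent.Lib.helper15.St2.cj (datU P φa φb).nB
      ((datU P φa φb).xA (t / star (datU P φa φb).ξ₀.c)) = _
    rw [hnB, hxA, hc]
    show rn (phiL P φb) * rx φa (t / star P.kap) * (rn (phiL P φb))⁻¹ = _
    rw [W.b_a, su5b0b_star_kap]
    congr 1
    rw [div_neg, neg_neg]

end B

end Cfsg.Agent.Lib.Helper19.SU5
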