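import Mathlib
import Cfsg.Agent.Lib.helper17.SLP.Defs
import Cfsg.Agent.Lib.helper3.SP4.Defs
import Cfsg.Agent.Lib.Helper22.SU4.Defs

/-!
# Project SU4 (designer helper22), rows F3 (`span_twoT`) and F4 (`gen_not_memT`), VERBATIM.
-/

set_option autoImplicit false

namespace Cfsg.Agent.Lib.Helper22.SU4

open Cfsg.Agent.Lib.helper17.SLP Cfsg.Agent.Lib.helper3.SP4

universe u v

section F

variable {F : Type u} {K : Type u} [Field F] [Field K]

/-- F3 [M]  `(a, b) ↦ ι a + ι b * θ` is injective `K × K → F` (if `ι a + ι b θ = ι a' + ι b' θ` with `b ≠ b'` then `θ = ι ((a - a') / (b' - b))`), hence bijective by cardinality (`Fintype.bijective_iff_injective_and_card`). -/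
theorem span_twoT [Fintype F] [Fintype K] (D : Tw F K) (hFK : Fintype.card F = Fintype.card K ^ 2) (θ : F)
    (hθ : θ ∉ Set.range D.ι) : ∀ x : F, ∃ a b : K, x = D.ι a + D.ι b * θ := by
  classical
  let f : K × K → F := fun p => D.ι p.1 + D.ι p.2 * θ
  have hinj : Function.Injective f := by
    rintro ⟨a, b⟩ ⟨a', b'⟩ h
    simp only [f] at h
    by_cases hb : b = b'
    · subst hb
      have : D.ι a = D.ι a' := by
        have := congrArg (fun z => z - D.ι b * θ) h
        simpa using this
      rw [D.ι_injective this]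
    · exfalso
      apply hθ
      have hbb : D.ι (b' - b) ≠ 0 := by
        rw [Ne, map_eq_zero, sub_eq_zero]
        exact fun e => hb e.symm
      refine ⟨(a - a') / (b' - b), ?_⟩
      rw [map_div₀, div_eq_iff hbb, map_sub, map_sub]
      linear_combination h
  have hcard : Fintype.card (K × K) = Fintype.card F := by
    rw [Fintype.card_prod, hFK, pow_two]
  have hbij : Function.Bijective f := (Fintype.bijective_iff_injective_and_card f).2 ⟨hinj, hcard⟩
  intro x
  obtain ⟨⟨a, b⟩, hab⟩ := hbij.2 x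
  exact ⟨a, b, hab.symm⟩

/-- F4 [S-M]  If `ζ = ι y` then `y ≠ 0` and `orderOf ζ = orderOf y ≤ q - 1 < q² - 1 = orderOf ζ` (`orderOf_injective`, `orderOf_le_card_univ`, `orderOf_eq_card_of_forall_mem_zpowers`, `Fintype.card_units`); `q ≥ 2`. -/
theorem gen_not_memT [Fintype F] [Fintype K] (D : Tw F K) (hFK : Fintype.card F = Fintype.card K ^ 2) (ζ : Fˣ)
    (hζ : ∀ y : Fˣ, y ∈ Subgroup.zpowers ζ) : (ζ : F) ∉ Set.range D.ι := by
  classical
  rintro ⟨y, hy⟩
  have hy0 : y ≠ 0 := by
    rintro rfl
    rw [map_zero] at hy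
    exact ζ.ne_zero hy.symm
  have hK2 : 2 ≤ Fintype.card K := Fintype.one_lt_card
  -- order of `ζ`
  have hoζ : orderOf ζ = Fintype.card F - 1 := by
    rw [orderOf_eq_card_of_forall_mem_zpowers hζ, Nat.card_eq_fintype_card, Fintype.card_units]
  -- `ζ = ιu (mk0 y)`
  have hζy : ζ = D.ιu (Units.mk0 y hy0) := by
    apply Units.ext
    rw [D.ιu_coe, Units.val_mk0, hy]
  have hinj : Function.Injective D.ιu := by
    intro a b hab
    apply Units.ext
    apply D.ι_injective
    have := congrArg (fun z : Fˣ => (z : F)) hab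
    simpa [Tw.ιu_coe] using this
  have ho : orderOf ζ = orderOf (Units.mk0 y hy0) := by
    rw [hζy, orderOf_injective D.ιu hinj]
  have hle : orderOf (Units.mk0 y hy0) ≤ Fintype.card K - 1 := by
    have := orderOf_le_card_univ (x := Units.mk0 y hy0)
    rwa [Fintype.card_units] at this
  rw [ho] at hoζ
  rw [hoζ, hFK] at hle
  have : Fintype.card K ^ 2 ≥ 2 * Fintype.card K := by nlinarith
  omega

end F

end Cfsg.Agent.Lib.Helper22.SU4
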