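import Mathlib
import Cfsg.Agent.Lib.Helper19.SU5.Defs
import Cfsg.Agent.Lib.Helper22.SU4F3

/-!
# Project SU5 (tables half, designer helper19), row F4 `lam_gen_FU` (helper22): the Heisenberg group `Lam F True` is generated by the
`F`-multiples of one element with `v ≠ 0`.  VERBATIM vs `Helper19/SU5/Skel1.lean.txt`; self-contained (the needed parts of the rows F1 F2 are
proved inline from `P.hσ`, `D.fix` and SU4 F4 `gen_not_memT`).
Extras: `su5f4_comm_v`, `su5f4_comm_c` (the commutator in `Lam`), `su5f4_star_iota`, `su5f4_kap_ne`, `su5f4_star_kap`, `su5f4_skew` (every skew `c` is `κ ι u`).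
-/

set_option autoImplicit false
set_option linter.unusedSectionVars false

namespace Cfsg.Agent.Lib.Helper19.SU5

open Cfsg.Agent.Lib.helper17.SLP Cfsg.Agent.Lib.helper3.SP4 Cfsg.Agent.Lib.Helper22.SU4
open Cfsg.Agent.Lib.Helper27.STU (Lam XpM XmM XpS XmS SUm XpU XmU)

universe u v

section F

variable {F : Type u} {K : Type u} [Field F] [Field K] [StarRing F] {D : Tw F K}

/-- the commutator in `Lam`: `v`-component -/
theorem su5f4_comm_v {od : Prop} (a b : Lam F od) : (a * b * a⁻¹ * b⁻¹).v = 0 := by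
  simp only [Lam.mul_v, Lam.inv_v]
  ring

/-- the commutator in `Lam`: `c`-component -/
theorem su5f4_comm_c {od : Prop} (a b : Lam F od) : (a * b * a⁻¹ * b⁻¹).c = b.v * star a.v - a.v * star b.v := by
  have ha := a.h
  have hb := b.h
  simp only [Lam.mul_c, Lam.mul_v, Lam.inv_c, Lam.inv_v, star_neg]
  linear_combination ha + hb

theorem su5f4_star_iota (P : RO D) (y : K) : star (D.ι y) = D.ι y := by
  rw [← P.hσ]
  exact (D.fix _).2 ⟨y, rfl⟩

theorem su5f4_star_kap (P : RO D) : star P.kap = -P.kap := by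
  unfold RO.kap
  rw [star_sub, star_star]
  ring

theorem su5f4_kap_ne [Fintype F] [Fintype K] (hFK : Fintype.card F = Fintype.card K ^ 2) (P : RO D) : P.kap ≠ 0 := by
  intro h0
  have h1 : star (P.ζ : F) = (P.ζ : F) := by
    unfold RO.kap at h0
    exact (sub_eq_zero.1 h0).symm
  rw [← P.hσ] at h1
  obtain ⟨y, hy⟩ := (D.fix _).1 h1
  exact gen_not_memT D hFK P.ζ P.hζ ⟨y, hy⟩

/-- every skew element is `κ ι u` -/
theorem su5f4_skew [Fintype F] [Fintype K] (hFK : Fintype.card F = Fintype.card K ^ 2) (P : RO D) (c : F)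
    (hc : star c = -c) : ∃ u : K, c = P.kap * D.ι u := by
  have hκ := su5f4_kap_ne hFK P
  have hfix : star (c / P.kap) = c / P.kap := by
    rw [star_div₀, hc, su5f4_star_kap, neg_div_neg_eq]
  rw [← P.hσ] at hfix
  obtain ⟨u, hu⟩ := (D.fix _).1 hfix
  refine ⟨u, ?_⟩
  rw [hu]
  field_simp

/-- F4 [M] -/
theorem lam_gen_FU [Fintype F] [Fintype K] (hFK : Fintype.card F = Fintype.card K ^ 2) (P : RO D)
    (ξ₀ : Lam F True) (h₀ : ξ₀.v ≠ 0) (H : Subgroup (Lam F True))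
    (h : ∀ s : Fˣ, Lam.act (s : F) ξ₀ ∈ H) : H = ⊤ := by
  have hstar0 : star ξ₀.v ≠ 0 := fun h1 => h₀ (by simpa using congrArg star h1)
  have hξ₀ : ξ₀ ∈ H := by
    have h1 := h 1
    have e : Lam.act ((1 : Fˣ) : F) ξ₀ = ξ₀ := by
      apply Lam.ext
      · simp
      · simp
    rwa [e] at h1
  -- elements with `v = 0`
  have hcen : ∀ η : Lam F True, η.v = 0 → η ∈ H := by
    intro η hη
    have hc : star η.c = -η.c := by
      have h1 := η.h
      rw [hη] at h1
      linear_combination h1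
    obtain ⟨u, hu⟩ := su5f4_skew hFK P η.c hc
    by_cases hu0 : u = 0
    · have hc0 : η.c = 0 := by rw [hu, hu0, map_zero, mul_zero]
      have e : η = 1 := Lam.ext hη hc0
      rw [e]
      exact H.one_mem
    · have hN0 : ξ₀.v * star ξ₀.v ≠ 0 := mul_ne_zero h₀ hstar0
      have hζ0 : (P.ζ : F) ≠ 0 := P.ζ.ne_zero
      have hιu : D.ι u ≠ 0 := fun h1 => hu0 (D.ι_injective (by rw [h1, map_zero]))
      have hs0 : -((P.ζ : F) * D.ι u) / (ξ₀.v * star ξ₀.v) ≠ 0 :=
        div_ne_zero (neg_ne_zero.2 (mul_ne_zero hζ0 hιu)) hN0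
      have hmem : Lam.act (-((P.ζ : F) * D.ι u) / (ξ₀.v * star ξ₀.v)) ξ₀ * ξ₀ *
          (Lam.act (-((P.ζ : F) * D.ι u) / (ξ₀.v * star ξ₀.v)) ξ₀)⁻¹ * ξ₀⁻¹ ∈ H := by
        have h1 := h (Units.mk0 _ hs0)
        rw [Units.val_mk0] at h1
        exact H.mul_mem (H.mul_mem (H.mul_mem h1 hξ₀) (H.inv_mem h1)) (H.inv_mem hξ₀)
      have e : η = Lam.act (-((P.ζ : F) * D.ι u) / (ξ₀.v * star ξ₀.v)) ξ₀ * ξ₀ *
          (Lam.act (-((P.ζ : F) * D.ι u) / (ξ₀.v * star ξ₀.v)) ξ₀)⁻¹ * ξ₀⁻¹ := by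
        apply Lam.ext
        · rw [su5f4_comm_v, hη]
        · rw [su5f4_comm_c, hu, Lam.act_v]
          simp only [star_mul', star_div₀, star_neg, star_star, su5f4_star_iota P u]
          unfold RO.kap
          field_simp
          ring
      rw [e]
      exact hmem
  -- every element
  rw [eq_top_iff]
  intro ξ _
  by_cases hv : ξ.v = 0
  · exact hcen ξ hv
  · have hs0 : ξ.v / ξ₀.v ≠ 0 := div_ne_zero hv h₀
    have h1 := h (Units.mk0 _ hs0)
    rw [Units.val_mk0] at h1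
    have h2 : ξ * (Lam.act (ξ.v / ξ₀.v) ξ₀)⁻¹ ∈ H := by
      apply hcen
      rw [Lam.mul_v, Lam.inv_v, Lam.act_v]
      field_simp
      ring
    have e : ξ = ξ * (Lam.act (ξ.v / ξ₀.v) ξ₀)⁻¹ * Lam.act (ξ.v / ξ₀.v) ξ₀ := by group
    rw [e]
    exact H.mul_mem h2 h1

end F

end Cfsg.Agent.Lib.Helper19.SU5
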