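import Mathlib
import Cfsg.Agent.Lib.helper17.SLP.Defs
import Cfsg.Agent.Lib.helper3.SP4.Defs
import Cfsg.Agent.Lib.Helper22.SU4.Defs
import Cfsg.Agent.Lib.Helper18.SP4T3
import Cfsg.Agent.Lib.Helper29.SP4C1
import Cfsg.Agent.Lib.Helper29.SP4C2
import Cfsg.Agent.Lib.Helper29.SP4T9
import Cfsg.Agent.Lib.Helper22.SU4F3

/-!
# Project SU4 (designer helper22), row C6 (`cm_acT`): `[x_a(t), x_c(s)] = x_d(tr(t σ s))` for all parameters.

`su4c6_core` has the statements of F3 (`span_twoT`) and F4 (`gen_not_memT`) as hypotheses; everything else (F0-type facts on `Tw`, T9) is proved here under own names.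
-/

set_option autoImplicit false

namespace Cfsg.Agent.Lib.Helper22.SU4

open Cfsg.Agent.Lib.helper17.SLP Cfsg.Agent.Lib.helper3.SP4

universe u v

section Tw

variable {F : Type u} {K : Type u} [Field F] [Field K] (D : Tw F K)

theorem su4c6_tr_add (x y : F) : D.tr (x + y) = D.tr x + D.tr y := by
  apply D.ι_injective
  rw [map_add, D.htr, D.htr, D.htr, map_add]
  ring

theorem su4c6_tr_zero : D.tr 0 = 0 := by
  apply D.ι_injective
  rw [D.htr, map_zero, map_zero, add_zero]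

theorem su4c6_tr_neg (x : F) : D.tr (-x) = -D.tr x := by
  apply D.ι_injective
  rw [map_neg, D.htr, D.htr, map_neg]
  ring

theorem su4c6_tr_ι_mul (y : K) (x : F) : D.tr (D.ι y * x) = y * D.tr x := by
  apply D.ι_injective
  rw [map_mul, D.htr, D.htr, map_mul, D.σ_ι]
  ring

theorem su4c6_tr_σ (x : F) : D.tr (D.σ x) = D.tr x := by
  apply D.ι_injective
  rw [D.htr, D.htr, D.σσ]
  ring

theorem su4c6_tr_one : D.tr 1 = 1 + 1 := by
  apply D.ι_injective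
  rw [D.htr, map_one, map_add, map_one]

end Tw

section C

variable {F : Type u} {K : Type u} [Field F] [Field K] {G : Type v} [Group G]

/-- `rx φ` is additive (over any field). -/
theorem su4c6_rx_add {E : Type u} [Field E] (φ : Matrix.SpecialLinearGroup (Fin 2) E →* G) (s t : E) :
    rx φ (s + t) = rx φ s * rx φ t := sp4t9_rx_add φ s t

/-- own copy of T9 (`xcd_addT`). -/
theorem su4c6_xcd_add (φa : Matrix.SpecialLinearGroup (Fin 2) F →* G) (φb : Matrix.SpecialLinearGroup (Fin 2) K →* G) :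
    (∀ s t, xcT φa φb (s + t) = xcT φa φb s * xcT φa φb t) ∧
      (∀ s t, xdT φa φb (s + t) = xdT φa φb s * xdT φa φb t) ∧
      xcT φa φb 0 = 1 ∧ xdT φa φb 0 = 1 ∧ (∀ t, xcT φa φb (-t) = (xcT φa φb t)⁻¹) ∧
      (∀ t, xdT φa φb (-t) = (xdT φa φb t)⁻¹) := by
  have hc : ∀ s t, xcT φa φb (s + t) = xcT φa φb s * xcT φa φb t := fun s t =>
    sp4t9_conj_add (rx φa) (sp4t9_rx_add φa) (rn φb) s t
  have hd : ∀ s t, xdT φa φb (s + t) = xdT φa φb s * xdT φa φb t := fun s t =>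
    sp4t9_conj_add (rx φb) (sp4t9_rx_add φb) (rn φa) s t
  exact ⟨hc, hd, sp4c1_zero _ hc, sp4c1_zero _ hd, sp4c1_neg _ hc, sp4c1_neg _ hd⟩

/-- the `Act` product rule for a map out of any additive type with a multiplication. -/
theorem su4c6_act_mul {E : Type u} [Field E] (g g' : G) (X : E → G) (c c' : E) (h : Act g X c) (h' : Act g' X c') :
    Act (g * g') X (c * c') := by
  intro t
  have h1 : g * g' * X t * (g * g')⁻¹ = g * (g' * X t * g'⁻¹) * g⁻¹ := by group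
  rw [h1, h' t, h _, mul_assoc]

theorem su4c6_cm_inv_right (a b : G) : cm a b⁻¹ = b⁻¹ * (cm a b)⁻¹ * b := by
  unfold cm
  group

theorem su4c6_cm_mul_left (p q b : G) : cm (p * q) b = p * cm q b * p⁻¹ * cm p b := by
  unfold cm
  group

theorem su4c6_cm_inv_left (a b : G) : cm a⁻¹ b = a⁻¹ * (cm a b)⁻¹ * a := by
  unfold cm
  group

theorem su4c6_cm_one_left (b : G) : cm 1 b = 1 := by
  unfold cm
  group

theorem su4c6_cm_one_right (a : G) : cm a 1 = 1 := by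
  unfold cm
  group

variable (D : Tw F K)

/-- the torus conjugate of an instance `[x_a(1), x_c(θ)] = x_d(v)`. -/
theorem su4c6_inst (φa : Matrix.SpecialLinearGroup (Fin 2) F →* G) (φb : Matrix.SpecialLinearGroup (Fin 2) K →* G)
    (R : Tor4T D φa φb) (θ : F) (v : K) (h1 : cm (rx φa 1) (xcT φa φb θ) = xdT φa φb v) (s₀ : Fˣ) (k : Kˣ) :
    cm (rx φa ((s₀ : F) ^ 2)) (xcT φa φb ((s₀ : F) * D.σ ((s₀⁻¹ : Fˣ) : F) * D.ι ((k : K) ^ 2) * θ)) =
      xdT φa φb (D.nm (s₀ : F) * (k : K) ^ 2 * v) := by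
  set s : Fˣ := s₀ * D.ιu k with hs
  set r : Kˣ := k ^ 2 with hr
  have hA := su4c6_act_mul _ _ _ _ _ (R.aa s) (R.ab r)
  have hC := su4c6_act_mul _ _ _ _ _ (R.ca s) (R.cb r)
  have hD := su4c6_act_mul _ _ _ _ _ (R.da s) (R.db r)
  have key := congrArg (fun y => (rh φa s * rh φb r) * y * (rh φa s * rh φb r)⁻¹) h1
  beta_reduce at key
  rw [cm_conj, hA 1, hC θ, hD v] at key
  have hk0 : (k : K) ≠ 0 := k.ne_zero
  have hιk0 : D.ι (k : K) ≠ 0 := (map_ne_zero D.ι).2 hk0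
  have hs0 : (s₀ : F) ≠ 0 := s₀.ne_zero
  have e1 : (s : F) ^ 2 * D.ι ((r⁻¹ : Kˣ) : K) * 1 = (s₀ : F) ^ 2 := by
    rw [hs, hr]
    simp only [Units.val_mul, Tw.ιu_coe, Units.val_inv_eq_inv_val, Units.val_pow_eq_pow_val, map_inv₀, map_pow,
      mul_one]
    field_simp
  have e2 : (s : F) * D.σ ((s⁻¹ : Fˣ) : F) * D.ι (r : K) * θ =
      (s₀ : F) * D.σ ((s₀⁻¹ : Fˣ) : F) * D.ι ((k : K) ^ 2) * θ := by
    rw [hs, hr]
    simp only [Units.val_mul, Tw.ιu_coe, Units.val_inv_eq_inv_val, Units.val_pow_eq_pow_val, map_inv₀, map_pow,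
      mul_inv_rev, map_mul, D.σ_ι]
    field_simp
  have e3 : D.nm (s : F) * 1 * v = D.nm (s₀ : F) * (k : K) ^ 2 * v := by
    rw [hs]
    simp only [Units.val_mul, Tw.ιu_coe, D.nm_mul, mul_one]
    congr 2
    apply D.ι_injective
    rw [D.hnm, D.σ_ι, map_pow]
    ring
  rw [e1, e2, e3] at key
  exact key

variable [Fintype K]

/-- additivity over the squares of `K` in the second variable. -/
theorem su4c6_line (φa : Matrix.SpecialLinearGroup (Fin 2) F →* G) (φb : Matrix.SpecialLinearGroup (Fin 2) K →* G)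
    (R : Tor4T D φa φb) (hcd : ∀ t u, Commute (xcT φa φb t) (xdT φa φb u))
    (θ : F) (v : K) (h1 : cm (rx φa 1) (xcT φa φb θ) = xdT φa φb v) (s₀ : Fˣ) (κ : K) :
    cm (rx φa ((s₀ : F) ^ 2)) (xcT φa φb ((s₀ : F) * D.σ ((s₀⁻¹ : Fˣ) : F) * D.ι κ * θ)) =
      xdT φa φb (D.nm (s₀ : F) * κ * v) := by
  obtain ⟨hcadd, hdadd, hc0, hd0, hcneg, hdneg⟩ := su4c6_xcd_add φa φb
  have hκ : κ ∈ AddSubgroup.closure (Set.range fun s : Kˣ => ((s : K)) ^ 2) := by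
    rw [sq_span]; exact AddSubgroup.mem_top κ
  induction hκ using AddSubgroup.closure_induction with
  | mem x hx =>
    obtain ⟨k, rfl⟩ := hx
    exact su4c6_inst D φa φb R θ v h1 s₀ k
  | zero =>
    rw [map_zero, mul_zero, zero_mul, hc0, mul_zero, zero_mul, hd0, su4c6_cm_one_right]
  | add a b _ _ iha ihb =>
    rw [map_add, mul_add, add_mul, hcadd, cm_mul_right, iha, ihb, mul_add, add_mul, hdadd]
    have hc := hcd ((s₀ : F) * D.σ ((s₀⁻¹ : Fˣ) : F) * D.ι a * θ) (D.nm (s₀ : F) * b * v)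
    rw [show xcT φa φb ((s₀ : F) * D.σ ((s₀⁻¹ : Fˣ) : F) * D.ι a * θ) * xdT φa φb (D.nm (s₀ : F) * b * v) *
        (xcT φa φb ((s₀ : F) * D.σ ((s₀⁻¹ : Fˣ) : F) * D.ι a * θ))⁻¹
        = xdT φa φb (D.nm (s₀ : F) * b * v) from by rw [hc.eq]; group]
  | neg a _ iha =>
    rw [map_neg, mul_neg, neg_mul, hcneg, su4c6_cm_inv_right, iha, mul_neg, neg_mul, hdneg]
    have hc := hcd ((s₀ : F) * D.σ ((s₀⁻¹ : Fˣ) : F) * D.ι a * θ) (D.nm (s₀ : F) * a * v)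
    have hc' : Commute (xcT φa φb ((s₀ : F) * D.σ ((s₀⁻¹ : Fˣ) : F) * D.ι a * θ))
        (xdT φa φb (D.nm (s₀ : F) * a * v))⁻¹ := hc.inv_right
    rw [show (xcT φa φb ((s₀ : F) * D.σ ((s₀⁻¹ : Fˣ) : F) * D.ι a * θ))⁻¹ *
        (xdT φa φb (D.nm (s₀ : F) * a * v))⁻¹ * xcT φa φb ((s₀ : F) * D.σ ((s₀⁻¹ : Fˣ) : F) * D.ι a * θ)
        = (xdT φa φb (D.nm (s₀ : F) * a * v))⁻¹ from by rw [mul_assoc, ← hc'.eq]; group]

variable [Fintype F]

/-- C6 core: `hF3` = the statement of F3 (`span_twoT`) at `θ = ζ`, `hF4` = the statement of F4 (`gen_not_memT`). -/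
theorem su4c6_core (ζ : Fˣ) (ζ₀ : Kˣ)
    (hF3 : (ζ : F) ∉ Set.range D.ι → ∀ x : F, ∃ a b : K, x = D.ι a + D.ι b * (ζ : F))
    (hF4 : (ζ : F) ∉ Set.range D.ι)
    (φa : Matrix.SpecialLinearGroup (Fin 2) F →* G)
    (φb : Matrix.SpecialLinearGroup (Fin 2) K →* G) (H : HypT D ζ ζ₀ φa φb) (R : Tor4T D φa φb)
    (had : ∀ t u, Commute (rx φa t) (xdT φa φb u)) (hcd : ∀ t u, Commute (xcT φa φb t) (xdT φa φb u)) :
    ∀ t s, cm (rx φa t) (xcT φa φb s) = xdT φa φb (D.tr (t * D.σ s)) := by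
  obtain ⟨hcadd, hdadd, hc0, hd0, hcneg, hdneg⟩ := su4c6_xcd_add φa φb
  have hx0 : rx φa 0 = 1 := sp4c1_zero _ (sp4t9_rx_add φa)
  have hxneg : ∀ t, rx φa (-t) = (rx φa t)⁻¹ := sp4c1_neg _ (sp4t9_rx_add φa)
  -- the two instances
  have h11 : cm (rx φa 1) (xcT φa φb 1) = xdT φa φb (1 + 1) := by
    rw [H.C10, pow_two, ← hdadd]
  have h1ζ : cm (rx φa 1) (xcT φa φb (ζ : F)) = xdT φa φb (D.tr (ζ : F)) := H.C10b
  -- squares in the first variable, everything in the second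
  have hsq : ∀ (s₀ : Fˣ) (s' : F),
      cm (rx φa ((s₀ : F) ^ 2)) (xcT φa φb s') = xdT φa φb (D.tr ((s₀ : F) ^ 2 * D.σ s')) := by
    intro s₀ s'
    have hs0 : (s₀ : F) ≠ 0 := s₀.ne_zero
    have hσs0 : D.σ (s₀ : F) ≠ 0 := (map_ne_zero D.σ).2 hs0
    obtain ⟨a, b, hab⟩ := hF3 hF4 (s' * D.σ (s₀ : F) * ((s₀⁻¹ : Fˣ) : F))
    have hs' : s' = (s₀ : F) * D.σ ((s₀⁻¹ : Fˣ) : F) * D.ι a * 1 +
        (s₀ : F) * D.σ ((s₀⁻¹ : Fˣ) : F) * D.ι b * (ζ : F) := by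
      have : (s₀ : F) * D.σ ((s₀⁻¹ : Fˣ) : F) * D.ι a * 1 + (s₀ : F) * D.σ ((s₀⁻¹ : Fˣ) : F) * D.ι b * (ζ : F) =
          (s₀ : F) * D.σ ((s₀⁻¹ : Fˣ) : F) * (D.ι a + D.ι b * (ζ : F)) := by ring
      rw [this, ← hab, Units.val_inv_eq_inv_val, map_inv₀]
      field_simp
    have l1 := su4c6_line D φa φb R hcd 1 (1 + 1) h11 s₀ a
    have l2 := su4c6_line D φa φb R hcd (ζ : F) (D.tr (ζ : F)) h1ζ s₀ b
    rw [hs', hcadd, cm_mul_right, l1, l2]
    have hc := hcd ((s₀ : F) * D.σ ((s₀⁻¹ : Fˣ) : F) * D.ι a * 1) (D.nm (s₀ : F) * b * D.tr (ζ : F))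
    rw [show xcT φa φb ((s₀ : F) * D.σ ((s₀⁻¹ : Fˣ) : F) * D.ι a * 1) *
        xdT φa φb (D.nm (s₀ : F) * b * D.tr (ζ : F)) *
        (xcT φa φb ((s₀ : F) * D.σ ((s₀⁻¹ : Fˣ) : F) * D.ι a * 1))⁻¹
        = xdT φa φb (D.nm (s₀ : F) * b * D.tr (ζ : F)) from by rw [hc.eq]; group]
    rw [← hdadd]
    congr 1
    -- the trace computation
    have e : (s₀ : F) ^ 2 * D.σ ((s₀ : F) * D.σ ((s₀⁻¹ : Fˣ) : F) * D.ι a * 1 +
        (s₀ : F) * D.σ ((s₀⁻¹ : Fˣ) : F) * D.ι b * (ζ : F)) =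
        D.ι (D.nm (s₀ : F) * a) * 1 + D.ι (D.nm (s₀ : F) * b) * D.σ (ζ : F) := by
      rw [map_add, map_mul, map_mul, map_mul, map_mul, map_mul, map_mul, D.σσ, D.σ_ι, D.σ_ι, map_one, map_mul,
        map_mul, D.hnm, Units.val_inv_eq_inv_val]
      field_simp
    rw [e, su4c6_tr_add, su4c6_tr_ι_mul, su4c6_tr_ι_mul, su4c6_tr_one, su4c6_tr_σ]
  -- additivity in the first variable
  intro t s'
  have ht : t ∈ AddSubgroup.closure (Set.range fun s : Fˣ => ((s : F)) ^ 2) := by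
    rw [sq_span]; exact AddSubgroup.mem_top t
  induction ht using AddSubgroup.closure_induction with
  | mem x hx =>
    obtain ⟨s₀, rfl⟩ := hx
    exact hsq s₀ s'
  | zero =>
    rw [hx0, zero_mul, su4c6_tr_zero, hd0, su4c6_cm_one_left]
  | add a b _ _ iha ihb =>
    rw [su4c6_rx_add, su4c6_cm_mul_left, iha, ihb, add_mul, su4c6_tr_add, hdadd]
    have hc := had a (D.tr (b * D.σ s'))
    rw [show rx φa a * xdT φa φb (D.tr (b * D.σ s')) * (rx φa a)⁻¹ = xdT φa φb (D.tr (b * D.σ s')) from by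
      rw [hc.eq]; group]
    rw [← hdadd, ← hdadd, add_comm]
  | neg a _ iha =>
    rw [hxneg, su4c6_cm_inv_left, iha, neg_mul, su4c6_tr_neg, hdneg]
    have hc := had a (D.tr (a * D.σ s'))
    have hc' : Commute (rx φa a) (xdT φa φb (D.tr (a * D.σ s')))⁻¹ := hc.inv_right
    rw [mul_assoc, ← hc'.eq]
    group

end C

section C6

variable {F : Type u} {K : Type u} [Field F] [Field K] [Fintype F] [Fintype K] {G : Type v} [Group G]

/-- C6 [M-L]  deps F0 F3 F4 T9 + `cm_mul_right cm_conj sq_span`.  Model SP4 C6 `cm_ac` (`Helper29`).  `P t s :⇔ cm (x_a t) (x_c s) = x_d (tr (t σ s))`.  `H.C10` is `P 1 1` (`x_d(1)² = x_d(1 + 1)`, `tr 1 = 2`), `H.C10b` is `P 1 ζ` (`tr (σ ζ) = tr ζ`).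
Conjugating by `τ = h_a(s) h_b(r)` (`cm_conj`; characters `s² ι r⁻¹`, `ι r * s σ(s)⁻¹`, `nm s`): `P t s' → P (s² ι r⁻¹ t) (ι r s σ(s)⁻¹ s')` (`tr (ι k * x) = k * tr x`).  `P` is additive in `s'` for fixed `t` and additive in `t` for fixed `s'`
(`cm_mul_right`, `cm (x_a t) (x_c s') ∈ x_d` commutes with `x_a`, `x_c`: `had hcd`; `x_d` additive, `tr` additive).  Fix a unit `s₀`; with `s := s₀ * ιu k`, `r := k²`: from `P 1 1`: `P (s₀²) (ι k² * s₀ σ(s₀)⁻¹)`, from `P 1 ζ`: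
`P (s₀²) (ι k² * s₀ σ(s₀)⁻¹ ζ)`; additivity in the second variable over the squares of `K` and F3 (`θ = ζ`, F4): `P (s₀²) s'` for ALL `s'` (every `s' σ(s₀) s₀⁻¹` is `ι a + ι b ζ`).  Then additivity in `t` over the squares of `F` (`sq_span`). -/
theorem cm_acT (D : Tw F K) (hFK : Fintype.card F = Fintype.card K ^ 2) (ζ : Fˣ)
    (hζ : ∀ y : Fˣ, y ∈ Subgroup.zpowers ζ) (ζ₀ : Kˣ) (φa : Matrix.SpecialLinearGroup (Fin 2) F →* G)
    (φb : Matrix.SpecialLinearGroup (Fin 2) K →* G) (H : HypT D ζ ζ₀ φa φb) (R : Tor4T D φa φb)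
    (had : ∀ t u, Commute (rx φa t) (xdT φa φb u)) (hcd : ∀ t u, Commute (xcT φa φb t) (xdT φa φb u)) :
    ∀ t s, cm (rx φa t) (xcT φa φb s) = xdT φa φb (D.tr (t * D.σ s)) :=
  su4c6_core D ζ ζ₀ (span_twoT D hFK (ζ : F)) (gen_not_memT D hFK ζ hζ) φa φb H R had hcd

end C6

end Cfsg.Agent.Lib.Helper22.SU4
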