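import Mathlib
import Cfsg.Agent.Lib.helper17.SLP.Defs
import Cfsg.Agent.Lib.helper3.SP4.Defs
import Cfsg.Agent.Lib.Helper22.SU4.Defs
import Cfsg.Agent.Lib.Helper18.SP4T3
import Cfsg.Agent.Lib.Helper29.SP4C1
import Cfsg.Agent.Lib.Helper29.SP4C2
import Cfsg.Agent.Lib.Helper29.SP4T9
import Cfsg.Agent.Lib.helper4.SU4F0
import Cfsg.Agent.Lib.Helper22.SU4C6

/-!
# Project SU4 (designer helper22), row C7 (`cm_abT`): `[x_a(t), x_b(u)] = x_c(t ι u) x_d(N(t) u)` for all parameters, VERBATIM.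
-/

set_option autoImplicit false

namespace Cfsg.Agent.Lib.Helper22.SU4

open Cfsg.Agent.Lib.helper17.SLP Cfsg.Agent.Lib.helper3.SP4

universe u v

section C

variable {F : Type u} {K : Type u} [Field F] [Field K] {G : Type v} [Group G] (D : Tw F K)

/-- the torus conjugate of the instance `C9`. -/
theorem su4c7_inst (ζ : Fˣ) (ζ₀ : Kˣ) (φa : Matrix.SpecialLinearGroup (Fin 2) F →* G)
    (φb : Matrix.SpecialLinearGroup (Fin 2) K →* G) (H : HypT D ζ ζ₀ φa φb) (R : Tor4T D φa φb) (s₀ : Fˣ) (k : Kˣ) :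
    cm (rx φa ((s₀ : F) ^ 2)) (rx φb ((D.nm (s₀ : F))⁻¹ * (k : K) ^ 2)) =
      xcT φa φb ((s₀ : F) ^ 2 * D.ι ((D.nm (s₀ : F))⁻¹ * (k : K) ^ 2)) *
        xdT φa φb (D.nm ((s₀ : F) ^ 2) * ((D.nm (s₀ : F))⁻¹ * (k : K) ^ 2)) := by
  set s : Fˣ := s₀ * D.ιu k with hs
  set r : Kˣ := k ^ 2 with hr
  set τ : G := rh φa s * rh φb r with hτ
  have hA := su4c6_act_mul _ _ _ _ _ (R.aa s) (R.ab r)
  have hB := su4c6_act_mul _ _ _ _ _ (R.ba s) (R.bb r)
  have hC := su4c6_act_mul _ _ _ _ _ (R.ca s) (R.cb r)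
  have hD := su4c6_act_mul _ _ _ _ _ (R.da s) (R.db r)
  have hk0 : (k : K) ≠ 0 := k.ne_zero
  have hιk0 : D.ι (k : K) ≠ 0 := (map_ne_zero D.ι).2 hk0
  have hs0 : (s₀ : F) ≠ 0 := s₀.ne_zero
  have hσs0 : D.σ (s₀ : F) ≠ 0 := (map_ne_zero D.σ).2 hs0
  have hn0 : D.nm (s₀ : F) ≠ 0 := by
    intro h
    have h1 := D.hnm (s₀ : F)
    rw [h, map_zero] at h1
    exact mul_ne_zero hs0 hσs0 h1.symm
  have hιn : D.ι (D.nm (s₀ : F)) = (s₀ : F) * D.σ (s₀ : F) := D.hnm _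
  have hnk : D.nm (D.ι (k : K)) = (k : K) ^ 2 := su4f0_nm_ι D _
  have h9 : τ * cm (rx φa 1) (rx φb 1) * τ⁻¹ = τ * (xcT φa φb 1 * xdT φa φb 1) * τ⁻¹ := by
    rw [H.C9]
  rw [cm_conj, hA 1, hB 1] at h9
  have e1 : (s : F) ^ 2 * D.ι ((r⁻¹ : Kˣ) : K) * 1 = (s₀ : F) ^ 2 := by
    rw [hs, hr]
    simp only [Units.val_mul, Tw.ιu_coe, Units.val_inv_eq_inv_val, Units.val_pow_eq_pow_val, map_inv₀, map_pow,
      mul_one]
    field_simp
  have e2 : (((D.nmu s)⁻¹ : Kˣ) : K) * (r : K) ^ 2 * 1 = (D.nm (s₀ : F))⁻¹ * (k : K) ^ 2 := by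
    rw [hs, hr]
    simp only [Units.val_inv_eq_inv_val, Tw.nmu_coe, Units.val_mul, Tw.ιu_coe, D.nm_mul, hnk,
      Units.val_pow_eq_pow_val, mul_one]
    field_simp
  have e3 : (s : F) * D.σ ((s⁻¹ : Fˣ) : F) * D.ι (r : K) * 1 =
      (s₀ : F) ^ 2 * D.ι ((D.nm (s₀ : F))⁻¹ * (k : K) ^ 2) := by
    rw [hs, hr]
    simp only [Units.val_mul, Tw.ιu_coe, Units.val_inv_eq_inv_val, Units.val_pow_eq_pow_val, map_inv₀, map_pow,
      mul_inv_rev, map_mul, D.σ_ι, mul_one, hιn]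
    field_simp
  have e4 : D.nm (s : F) * 1 * 1 = D.nm ((s₀ : F) ^ 2) * ((D.nm (s₀ : F))⁻¹ * (k : K) ^ 2) := by
    rw [hs]
    simp only [Units.val_mul, Tw.ιu_coe, D.nm_mul, mul_one, hnk, pow_two]
    field_simp
  rw [e1, e2] at h9
  rw [h9]
  calc τ * (xcT φa φb 1 * xdT φa φb 1) * τ⁻¹
      = (τ * xcT φa φb 1 * τ⁻¹) * (τ * xdT φa φb 1 * τ⁻¹) := by group
    _ = _ := by rw [hC 1, hD 1, e3, e4]

/-- additivity in the second variable. -/
theorem su4c7_add_right (φa : Matrix.SpecialLinearGroup (Fin 2) F →* G) (φb : Matrix.SpecialLinearGroup (Fin 2) K →* G)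
    (hbd : ∀ u u', Commute (rx φb u) (xdT φa φb u'))
    (hcd : ∀ t u, Commute (xcT φa φb t) (xdT φa φb u)) (hbc : ∀ u t, Commute (rx φb u) (xcT φa φb t))
    (t : F) (u u' : K)
    (h1 : cm (rx φa t) (rx φb u) = xcT φa φb (t * D.ι u) * xdT φa φb (D.nm t * u))
    (h2 : cm (rx φa t) (rx φb u') = xcT φa φb (t * D.ι u') * xdT φa φb (D.nm t * u')) :
    cm (rx φa t) (rx φb (u + u')) = xcT φa φb (t * D.ι (u + u')) * xdT φa φb (D.nm t * (u + u')) := by
  obtain ⟨hcadd, hdadd, hc0, hd0, hcneg, hdneg⟩ := su4c6_xcd_add φa φb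
  have hcomm : Commute (rx φb u) (xcT φa φb (t * D.ι u') * xdT φa φb (D.nm t * u')) :=
    (hbc u (t * D.ι u')).mul_right (hbd u (D.nm t * u'))
  have e1 : rx φb u * (xcT φa φb (t * D.ι u') * xdT φa φb (D.nm t * u')) * (rx φb u)⁻¹
      = xcT φa φb (t * D.ι u') * xdT φa φb (D.nm t * u') := by
    rw [hcomm.eq]
    group
  have hcd' : Commute (xdT φa φb (D.nm t * u)) (xcT φa φb (t * D.ι u')) := (hcd _ _).symm
  rw [su4c6_rx_add, cm_mul_right, h1, h2, e1, map_add, mul_add, mul_add, hcadd, hdadd]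
  calc xcT φa φb (t * D.ι u) * xdT φa φb (D.nm t * u) * (xcT φa φb (t * D.ι u') * xdT φa φb (D.nm t * u'))
      = xcT φa φb (t * D.ι u) * (xdT φa φb (D.nm t * u) * xcT φa φb (t * D.ι u')) * xdT φa φb (D.nm t * u') := by
        group
    _ = xcT φa φb (t * D.ι u) * (xcT φa φb (t * D.ι u') * xdT φa φb (D.nm t * u)) * xdT φa φb (D.nm t * u') := by
        rw [hcd'.eq]
    _ = _ := by group

/-- negation in the second variable. -/
theorem su4c7_neg_right (φa : Matrix.SpecialLinearGroup (Fin 2) F →* G) (φb : Matrix.SpecialLinearGroup (Fin 2) K →* G)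
    (hbd : ∀ u u', Commute (rx φb u) (xdT φa φb u'))
    (hcd : ∀ t u, Commute (xcT φa φb t) (xdT φa φb u)) (hbc : ∀ u t, Commute (rx φb u) (xcT φa φb t))
    (t : F) (u : K)
    (h1 : cm (rx φa t) (rx φb u) = xcT φa φb (t * D.ι u) * xdT φa φb (D.nm t * u)) :
    cm (rx φa t) (rx φb (-u)) = xcT φa φb (t * D.ι (-u)) * xdT φa φb (D.nm t * -u) := by
  obtain ⟨hcadd, hdadd, hc0, hd0, hcneg, hdneg⟩ := su4c6_xcd_add φa φb
  have hxneg : ∀ t, rx φb (-t) = (rx φb t)⁻¹ := sp4c1_neg _ (sp4t9_rx_add φb)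
  have hcomm : Commute (rx φb u) (xcT φa φb (t * D.ι u) * xdT φa φb (D.nm t * u)) :=
    (hbc u (t * D.ι u)).mul_right (hbd u (D.nm t * u))
  have e1 : (rx φb u)⁻¹ * (xcT φa φb (t * D.ι u) * xdT φa φb (D.nm t * u))⁻¹ * rx φb u
      = (xcT φa φb (t * D.ι u) * xdT φa φb (D.nm t * u))⁻¹ := by
    have := hcomm.inv_right.eq
    calc (rx φb u)⁻¹ * (xcT φa φb (t * D.ι u) * xdT φa φb (D.nm t * u))⁻¹ * rx φb u
        = (rx φb u)⁻¹ * (rx φb u * (xcT φa φb (t * D.ι u) * xdT φa φb (D.nm t * u))⁻¹) := by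
          rw [this]; group
      _ = _ := by group
  have hcd' : Commute (xdT φa φb (D.nm t * u))⁻¹ (xcT φa φb (t * D.ι u))⁻¹ :=
    ((hcd (t * D.ι u) (D.nm t * u)).symm.inv_left).inv_right
  rw [hxneg, su4c6_cm_inv_right, h1, e1, map_neg, mul_neg, mul_neg, hcneg, hdneg, mul_inv_rev, hcd'.eq]

/-- the QUADRATIC step in the first variable. -/
theorem su4c7_add_left (φa : Matrix.SpecialLinearGroup (Fin 2) F →* G) (φb : Matrix.SpecialLinearGroup (Fin 2) K →* G)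
    (had : ∀ t u, Commute (rx φa t) (xdT φa φb u))
    (hcd : ∀ t u, Commute (xcT φa φb t) (xdT φa φb u))
    (hac : ∀ t s, cm (rx φa t) (xcT φa φb s) = xdT φa φb (D.tr (t * D.σ s)))
    (t t' : F) (u : K)
    (h1 : cm (rx φa t) (rx φb u) = xcT φa φb (t * D.ι u) * xdT φa φb (D.nm t * u))
    (h2 : cm (rx φa t') (rx φb u) = xcT φa φb (t' * D.ι u) * xdT φa φb (D.nm t' * u)) :
    cm (rx φa (t + t')) (rx φb u) = xcT φa φb ((t + t') * D.ι u) * xdT φa φb (D.nm (t + t') * u) := by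
  obtain ⟨hcadd, hdadd, hc0, hd0, hcneg, hdneg⟩ := su4c6_xcd_add φa φb
  -- conjugation of `x_c` by `x_a`
  have hconj : rx φa t * xcT φa φb (t' * D.ι u) * (rx φa t)⁻¹ =
      xdT φa φb (D.tr (t * D.σ (t' * D.ι u))) * xcT φa φb (t' * D.ι u) := by
    rw [← hac]
    unfold cm
    group
  have hconjd : rx φa t * xdT φa φb (D.nm t' * u) * (rx φa t)⁻¹ = xdT φa φb (D.nm t' * u) := by
    rw [(had t _).eq]
    group
  have e1 : rx φa t * (xcT φa φb (t' * D.ι u) * xdT φa φb (D.nm t' * u)) * (rx φa t)⁻¹ =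
      xdT φa φb (D.tr (t * D.σ (t' * D.ι u))) * xcT φa φb (t' * D.ι u) * xdT φa φb (D.nm t' * u) := by
    calc rx φa t * (xcT φa φb (t' * D.ι u) * xdT φa φb (D.nm t' * u)) * (rx φa t)⁻¹
        = (rx φa t * xcT φa φb (t' * D.ι u) * (rx φa t)⁻¹) * (rx φa t * xdT φa φb (D.nm t' * u) * (rx φa t)⁻¹) := by
          group
      _ = _ := by rw [hconj, hconjd]
  have etr : D.tr (t * D.σ (t' * D.ι u)) = D.tr (t * D.σ t') * u := by
    rw [map_mul, D.σ_ι, ← mul_assoc, mul_comm _ (D.ι u), su4f0_tr_ι_mul, mul_comm]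
  rw [su4c6_rx_add, su4c6_cm_mul_left, h2, e1, h1, etr]
  -- collect: all `x_d` commute with all `x_c`
  have c1 : Commute (xdT φa φb (D.tr (t * D.σ t') * u)) (xcT φa φb (t' * D.ι u)) := (hcd _ _).symm
  have c2 : Commute (xdT φa φb (D.nm t' * u)) (xcT φa φb (t * D.ι u)) := (hcd _ _).symm
  have c3 : Commute (xdT φa φb (D.tr (t * D.σ t') * u)) (xcT φa φb (t * D.ι u)) := (hcd _ _).symm
  have hR : xcT φa φb ((t + t') * D.ι u) * xdT φa φb (D.nm (t + t') * u) =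
      xcT φa φb (t' * D.ι u) * xcT φa φb (t * D.ι u) *
        (xdT φa φb (D.tr (t * D.σ t') * u) * xdT φa φb (D.nm t' * u) * xdT φa φb (D.nm t * u)) := by
    rw [← hcadd, ← hdadd, ← hdadd, su4f0_nm_add]
    congr 2 <;> ring
  rw [hR]
  calc xdT φa φb (D.tr (t * D.σ t') * u) * xcT φa φb (t' * D.ι u) * xdT φa φb (D.nm t' * u) *
        (xcT φa φb (t * D.ι u) * xdT φa φb (D.nm t * u))
      = (xdT φa φb (D.tr (t * D.σ t') * u) * xcT φa φb (t' * D.ι u)) *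
          (xdT φa φb (D.nm t' * u) * xcT φa φb (t * D.ι u)) * xdT φa φb (D.nm t * u) := by group
    _ = (xcT φa φb (t' * D.ι u) * xdT φa φb (D.tr (t * D.σ t') * u)) *
          (xcT φa φb (t * D.ι u) * xdT φa φb (D.nm t' * u)) * xdT φa φb (D.nm t * u) := by
        rw [c1.eq, c2.eq]
    _ = xcT φa φb (t' * D.ι u) * (xdT φa φb (D.tr (t * D.σ t') * u) * xcT φa φb (t * D.ι u)) *
          xdT φa φb (D.nm t' * u) * xdT φa φb (D.nm t * u) := by group
    _ = xcT φa φb (t' * D.ι u) * (xcT φa φb (t * D.ι u) * xdT φa φb (D.tr (t * D.σ t') * u)) *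
          xdT φa φb (D.nm t' * u) * xdT φa φb (D.nm t * u) := by rw [c3.eq]
    _ = _ := by group

end C

section C7

variable {F : Type u} {K : Type u} [Field F] [Field K] [Fintype F] [Fintype K] {G : Type v} [Group G]

/-- C7 [M-L]  deps F0 T9 + `cm_mul_right cm_conj sq_span`.  Model SP4 C7 `cm_ab` (`helper17.SP4C7`).  `E t u :⇔ cm (x_a t) (x_b u) = x_c (t ι u) x_d (nm t * u)`.  `H.C9` is `E 1 1`.  Conjugating by `h_a(s) h_b(r)`:
`E (s² ι r⁻¹) (r² (nm s)⁻¹)`; with `s := s₀ * ιu k`, `r := k²`: `E (s₀²) (k² (nm s₀)⁻¹)`.  For fixed `t`, `E t ·` is additive in `u` (`cm_mul_right`; `cm a b' ∈ x_c x_d` commutes with `x_b`: `hbc hbd`; `x_c x_d` additive and commute: `hcd`):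
`E (s₀²) u` for all `u` (squares of `K`).  QUADRATIC step in `t`: if `E t u` and `E t' u` for all `u` then `E (t + t') u`: `cm (x_a t x_a t') b = x_a t (cm (x_a t') b) (x_a t)⁻¹ * cm (x_a t) b`,
`x_a t x_c(t' ι u) (x_a t)⁻¹ = x_d(tr (t σ(t' ι u))) x_c(t' ι u)` (`hac`), `x_a t` commutes with `x_d` (`had`), and `nm (t + t') = nm t + nm t' + tr (t σ t')` (F0).  So `{t | ∀ u, E t u}` is closed under addition and contains `0` and the squares: all of `F`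
(`AddSubmonoid.closure` of the squares is everything: `sq_span` + finiteness, or: `-s² = (p-1) • s²`). -/
theorem cm_abT (D : Tw F K) (ζ : Fˣ) (ζ₀ : Kˣ) (φa : Matrix.SpecialLinearGroup (Fin 2) F →* G)
    (φb : Matrix.SpecialLinearGroup (Fin 2) K →* G) (H : HypT D ζ ζ₀ φa φb) (R : Tor4T D φa φb)
    (had : ∀ t u, Commute (rx φa t) (xdT φa φb u)) (hbd : ∀ u u', Commute (rx φb u) (xdT φa φb u'))
    (hcd : ∀ t u, Commute (xcT φa φb t) (xdT φa φb u)) (hbc : ∀ u t, Commute (rx φb u) (xcT φa φb t))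
    (hac : ∀ t s, cm (rx φa t) (xcT φa φb s) = xdT φa φb (D.tr (t * D.σ s))) :
    ∀ t u, cm (rx φa t) (rx φb u) = xcT φa φb (t * D.ι u) * xdT φa φb (D.nm t * u) := by
  obtain ⟨hcadd, hdadd, hc0, hd0, hcneg, hdneg⟩ := su4c6_xcd_add φa φb
  have hxa0 : rx φa 0 = 1 := sp4c1_zero _ (sp4t9_rx_add φa)
  have hxb0 : rx φb 0 = 1 := sp4c1_zero _ (sp4t9_rx_add φb)
  -- squares in the first variable
  have hsq : ∀ (s₀ : Fˣ) (u : K), cm (rx φa ((s₀ : F) ^ 2)) (rx φb u) =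
      xcT φa φb ((s₀ : F) ^ 2 * D.ι u) * xdT φa φb (D.nm ((s₀ : F) ^ 2) * u) := by
    intro s₀ u
    have hn0 : D.nm (s₀ : F) ≠ 0 := by
      intro h
      have h1 := D.hnm (s₀ : F)
      rw [h, map_zero] at h1
      exact mul_ne_zero s₀.ne_zero ((map_ne_zero D.σ).2 s₀.ne_zero) h1.symm
    have key : ∀ κ : K, cm (rx φa ((s₀ : F) ^ 2)) (rx φb ((D.nm (s₀ : F))⁻¹ * κ)) =
        xcT φa φb ((s₀ : F) ^ 2 * D.ι ((D.nm (s₀ : F))⁻¹ * κ)) *
          xdT φa φb (D.nm ((s₀ : F) ^ 2) * ((D.nm (s₀ : F))⁻¹ * κ)) := by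
      intro κ
      have hκ : κ ∈ AddSubgroup.closure (Set.range fun s : Kˣ => ((s : K)) ^ 2) := by
        rw [sq_span]; exact AddSubgroup.mem_top κ
      induction hκ using AddSubgroup.closure_induction with
      | mem x hx =>
        obtain ⟨k, rfl⟩ := hx
        exact su4c7_inst D ζ ζ₀ φa φb H R s₀ k
      | zero =>
        rw [mul_zero, hxb0, map_zero, mul_zero, hc0, mul_zero, hd0, su4c6_cm_one_right, mul_one]
      | add a b _ _ iha ihb =>
        rw [mul_add]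
        exact su4c7_add_right D φa φb hbd hcd hbc _ _ _ iha ihb
      | neg a _ iha =>
        rw [mul_neg]
        exact su4c7_neg_right D φa φb hbd hcd hbc _ _ iha
    have := key (D.nm (s₀ : F) * u)
    rwa [← mul_assoc, inv_mul_cancel₀ hn0, one_mul] at this
  -- all `t`
  intro t
  have ht : t ∈ AddSubmonoid.closure (Set.range fun s : Fˣ => ((s : F)) ^ 2) := by
    rw [← AddSubgroup.closure_toAddSubmonoid_of_finite, sq_span]
    exact AddSubmonoid.mem_top t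
  induction ht using AddSubmonoid.closure_induction with
  | mem x hx =>
    obtain ⟨s₀, rfl⟩ := hx
    exact hsq s₀
  | zero =>
    intro u
    rw [hxa0, zero_mul, hc0]
    have : D.nm 0 = 0 := by
      apply D.ι_injective
      rw [D.hnm, map_zero, zero_mul, map_zero]
    rw [this, zero_mul, hd0, su4c6_cm_one_left, mul_one]
  | add a b _ _ iha ihb =>
    intro u
    exact su4c7_add_left D φa φb had hcd hac a b u (iha u) (ihb u)

end C7

end Cfsg.Agent.Lib.Helper22.SU4
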