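import Mathlib
import Cfsg.Agent.Lib.Helper19.SU5.Defs

/-!
# Project SU5 (tables half, designer helper19), row W3 `wactU` (helper22): CORE of the assembly of `WactU`,
with the statements of W1 `wact_aU` and W2 `wact_b_ydU` (at the given `P φa φb`) as hypotheses.
-/

set_option autoImplicit false
set_option linter.unusedSectionVars false

namespace Cfsg.Agent.Lib.Helper19.SU5

open Cfsg.Agent.Lib.helper17.SLP Cfsg.Agent.Lib.helper3.SP4 Cfsg.Agent.Lib.Helper22.SU4
open Cfsg.Agent.Lib.Helper27.STU (Lam XpM XmM XpS XmS SUm XpU XmU)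

universe u v

section W

variable {F : Type u} {K : Type u} [Field F] [Field K] [StarRing F] {D : Tw F K}
  {G : Type v} [Group G]

/-- core of W3 `wactU` -/
theorem su5w3_core (P : RO D)
    (φa : Matrix.SpecialLinearGroup (Fin 2) F →* G) (φb : ↥(SUm F True) →* G)
    (hW1 : (∀ ξ, rn φa * yb φb ξ * (rn φa)⁻¹ = ydU φa φb (Lam.act (-1) ξ)) ∧
      ∀ ξ, rn φa * ydU φa φb ξ * (rn φa)⁻¹ = yb φb ξ)
    (hW2 : ∀ ξ, rn (phiL P φb) * ydU φa φb ξ * (rn (phiL P φb))⁻¹ = ydU φa φb ξ)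
    (W4 : Wact4T D φa (phiL P φb)) : WactU P φa φb where
  a_b := hW1.1
  a_d := hW1.2
  a_c := fun t => by
    have h := W4.a_c t
    rw [P.hσ] at h
    exact h
  b_a := fun t => W4.b_a t
  b_c := fun t => W4.b_c t
  b_d := hW2

end W

end Cfsg.Agent.Lib.Helper19.SU5
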