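import Mathlib
import Cfsg.Agent.Lib.Helper19.SU5.Defs
import Cfsg.Agent.Lib.Helper22.SU5W3core
import Cfsg.Agent.Lib.Helper9.SU5UF1

/-!
# Project SU5 (tables half, designer helper19), row W3 `wactU` (helper22): VERBATIM wrapper of `su5w3_core` on W1 `wact_aU`, W2 `wact_b_ydU` (Helper9.SU5UF1).
-/

set_option autoImplicit false
set_option linter.unusedSectionVars false

namespace Cfsg.Agent.Lib.Helper19.SU5

open Cfsg.Agent.Lib.helper17.SLP Cfsg.Agent.Lib.helper3.SP4 Cfsg.Agent.Lib.Helper22.SU4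
open Cfsg.Agent.Lib.Helper27.STU (Lam XpM XmM XpS XmS SUm XpU XmU)

universe u v

section W

variable {F : Type u} {K : Type u} [Field F] [Field K] [StarRing F] [Fintype F] [Fintype K] {D : Tw F K}
  {G : Type v} [Group G]

/-- W3 [S] -/
theorem wactU (hFK : Fintype.card F = Fintype.card K ^ 2) (P : RO D)
    (φa : Matrix.SpecialLinearGroup (Fin 2) F →* G) (φb : ↥(SUm F True) →* G) (H : HypU P φa φb)
    (R : TorU P φa φb) (W4 : Wact4T D φa (phiL P φb)) : WactU P φa φb :=
  su5w3_core P φa φb (wact_aU P φa φb R) (wact_b_ydU hFK P φa φb H R) W4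

end W

end Cfsg.Agent.Lib.Helper19.SU5
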