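import Mathlib
import Cfsg.Agent.Lib.Helper22.Sylow

set_option autoImplicit false

namespace Cfsg.Agent.Lib.Helper22

theorem exists_normalizing_of_normal_subset {G : Type*} [Group G] [Finite G] (p : ℕ) [Fact p.Prime]
    (P : Subgroup G) (hP : IsPGroup p P) (X : Set G)
    (hX : ∀ x ∈ X, ∀ g ∈ P, g * x * g⁻¹ ∈ X) (E : Subgroup G) (hEP : E ≤ P)
    (hE : E = Subgroup.closure (X ∩ (E : Set G))) (hXP : X ⊆ (P : Set G)) (hXE : ¬ X ⊆ (E : Set G)) :
    ∃ x ∈ X, x ∉ E ∧ x ∈ Subgroup.normalizer (E : Set G) := by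
  by_contra hcon
  push Not at hcon
  have h : ∀ x ∈ X, x ∈ Subgroup.normalizer (E : Set G) → x ∈ E := by
    intro x hx hxN
    by_contra hxE
    exact hcon x hx hxE hxN
  have hnil : Group.IsNilpotent P := hP.isNilpotent
  have hnc : NormalizerCondition P := Group.normalizerCondition_of_isNilpotent
  rw [normalizerCondition_iff_only_full_group_self_normalizing] at hnc
  set Ep : Subgroup P := (Subgroup.normalizer (E : Set G)).subgroupOf P with hEp
  have hself : Subgroup.normalizer (Ep : Set P) = Ep := by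
    apply le_antisymm _ Subgroup.le_normalizer
    intro y hy
    rw [hEp, Subgroup.mem_subgroupOf]
    have hle : Subgroup.closure (X ∩ (E : Set G)) ≤ E.comap (MulAut.conj (y : G)).toMonoidHom := by
      rw [Subgroup.closure_le]
      intro z hz
      show (y : G) * z * (y : G)⁻¹ ∈ E
      have hzP : z ∈ P := hEP hz.2
      have h1 : (⟨z, hzP⟩ : P) ∈ Ep := by
        rw [hEp, Subgroup.mem_subgroupOf]
        exact Subgroup.le_normalizer hz.2
      have h2 := (Subgroup.mem_normalizer_iff.1 hy _).1 h1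
      rw [hEp, Subgroup.mem_subgroupOf] at h2
      apply h _ (hX z hz.1 (y : G) y.2)
      simpa using h2
    apply Subgroup.mem_normalizer_fintype
    intro z hz
    have hz' : z ∈ E := hz
    rw [hE] at hz'
    exact hle hz'
  have htop := hnc Ep hself
  apply hXE
  intro x hx
  apply h x hx
  have h1 : (⟨x, hXP hx⟩ : P) ∈ Ep := by rw [htop]; trivial
  rw [hEp, Subgroup.mem_subgroupOf] at h1
  exact h1

theorem baer_suzuki {G : Type*} [Group G] [Finite G] (p : ℕ) [Fact p.Prime] (I : Set G)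
    (hconj : ∀ x ∈ I, ∀ g : G, g * x * g⁻¹ ∈ I)
    (hpair : ∀ x ∈ I, ∀ y ∈ I, ∃ R : Sylow p G, x ∈ (R : Subgroup G) ∧ y ∈ (R : Subgroup G))
    (P : Sylow p G) : I ⊆ ((P : Subgroup G) : Set G) := by
  by_contra hnot
  rw [Set.not_subset] at hnot
  obtain ⟨x₀, hx₀I, hx₀P⟩ := hnot
  obtain ⟨P₀, hx₀P₀, -⟩ := hpair x₀ hx₀I x₀ hx₀I
  have hne : Nonempty {PQ : Sylow p G × Sylow p G //
      I ∩ ((PQ.1 : Subgroup G) : Set G) ≠ I ∩ ((PQ.2 : Subgroup G) : Set G)} := by
    refine ⟨⟨(P₀, P), ?_⟩⟩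
    intro heq
    have h1 : x₀ ∈ I ∩ ((P₀ : Subgroup G) : Set G) := ⟨hx₀I, hx₀P₀⟩
    rw [heq] at h1
    exact hx₀P h1.2
  obtain ⟨⟨⟨P, Q⟩, hPQ⟩, hmax⟩ := Finite.exists_max
    (fun PQ : {PQ : Sylow p G × Sylow p G //
      I ∩ ((PQ.1 : Subgroup G) : Set G) ≠ I ∩ ((PQ.2 : Subgroup G) : Set G)} =>
      (I ∩ ((PQ.1.1 : Subgroup G) : Set G) ∩ ((PQ.1.2 : Subgroup G) : Set G)).ncard)
  simp only at hPQ hmax
  have hcard : ∀ P Q : Sylow p G, (I ∩ ((P : Subgroup G) : Set G)).ncard =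
      (I ∩ ((Q : Subgroup G) : Set G)).ncard := by
    intro P Q
    obtain ⟨c, hc⟩ := MulAction.exists_smul_eq G P Q
    have himg : I ∩ ((Q : Subgroup G) : Set G) =
        (fun z => c * z * c⁻¹) '' (I ∩ ((P : Subgroup G) : Set G)) := by
      ext z
      constructor
      · rintro ⟨hzI, hzQ⟩
        have hzQ' : z ∈ ((c • P : Sylow p G) : Subgroup G) := by rw [hc]; exact hzQ
        rw [mem_smul_sylow_iff] at hzQ'
        refine ⟨c⁻¹ * z * c, ⟨?_, hzQ'⟩, by group⟩
        have := hconj z hzI c⁻¹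
        simpa using this
      · rintro ⟨w, ⟨hwI, hwP⟩, rfl⟩
        refine ⟨hconj w hwI c, ?_⟩
        have : c * w * c⁻¹ ∈ ((c • P : Sylow p G) : Subgroup G) := by
          rw [mem_smul_sylow_iff]
          have h1 : c⁻¹ * (c * w * c⁻¹) * c = w := by group
          rw [h1]; exact hwP
        rw [hc] at this
        exact this
    rw [himg]
    symm
    apply Set.ncard_image_of_injective
    intro a b hab
    have h1 : c * a * c⁻¹ = c * b * c⁻¹ := hab
    exact mul_left_cancel (mul_right_cancel h1)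
  have hnotsub : ∀ P Q : Sylow p G, I ∩ ((P : Subgroup G) : Set G) ≠ I ∩ ((Q : Subgroup G) : Set G) →
      ¬ I ∩ ((P : Subgroup G) : Set G) ⊆ I ∩ ((Q : Subgroup G) : Set G) := by
    intro P Q hne hsub
    exact hne (Set.eq_of_subset_of_ncard_le hsub (hcard P Q).symm.le (Set.toFinite _))
  set E : Subgroup G := Subgroup.closure (I ∩ ((P : Subgroup G) : Set G) ∩ ((Q : Subgroup G) : Set G))
    with hEdef
  have hEP : E ≤ (P : Subgroup G) := by
    rw [hEdef, Subgroup.closure_le]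
    intro z hz; exact hz.1.2
  have hEQ : E ≤ (Q : Subgroup G) := by
    rw [hEdef, Subgroup.closure_le]
    intro z hz; exact hz.2
  have hIE : I ∩ (E : Set G) = I ∩ ((P : Subgroup G) : Set G) ∩ ((Q : Subgroup G) : Set G) := by
    ext z
    constructor
    · rintro ⟨hzI, hzE⟩
      exact ⟨⟨hzI, hEP hzE⟩, hEQ hzE⟩
    · rintro ⟨⟨hzI, hzP⟩, hzQ⟩
      exact ⟨hzI, Subgroup.subset_closure ⟨⟨hzI, hzP⟩, hzQ⟩⟩
  have key : ∀ R : Sylow p G, E ≤ (R : Subgroup G) →
      ¬ I ∩ ((R : Subgroup G) : Set G) ⊆ (E : Set G) →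
      ∃ x ∈ I, x ∈ (R : Subgroup G) ∧ x ∉ E ∧ x ∈ Subgroup.normalizer (E : Set G) := by
    intro R hER hnsub
    have hE' : E = Subgroup.closure ((I ∩ ((R : Subgroup G) : Set G)) ∩ (E : Set G)) := by
      have : (I ∩ ((R : Subgroup G) : Set G)) ∩ (E : Set G) = I ∩ (E : Set G) := by
        ext z
        constructor
        · rintro ⟨⟨hzI, -⟩, hzE⟩; exact ⟨hzI, hzE⟩
        · rintro ⟨hzI, hzE⟩; exact ⟨⟨hzI, hER hzE⟩, hzE⟩
      rw [this, hIE]
    obtain ⟨x, hx, hxE, hxN⟩ := exists_normalizing_of_normal_subset p (R : Subgroup G) R.2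
      (I ∩ ((R : Subgroup G) : Set G))
      (fun x hx g hg => ⟨hconj x hx.1 g,
        (R : Subgroup G).mul_mem ((R : Subgroup G).mul_mem hg hx.2) ((R : Subgroup G).inv_mem hg)⟩)
      E hER hE' Set.inter_subset_right hnsub
    exact ⟨x, hx.1, hx.2, hxE, hxN⟩
  have hPnsub : ¬ I ∩ ((P : Subgroup G) : Set G) ⊆ (E : Set G) := by
    intro hsub
    apply hnotsub P Q hPQ
    intro z hz
    exact ⟨hz.1, hEQ (hsub hz)⟩
  have hQnsub : ¬ I ∩ ((Q : Subgroup G) : Set G) ⊆ (E : Set G) := by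
    intro hsub
    apply hnotsub Q P (Ne.symm hPQ)
    intro z hz
    exact ⟨hz.1, hEP (hsub hz)⟩
  obtain ⟨x, hxI, hxP, hxE, hxN⟩ := key P hEP hPnsub
  obtain ⟨y, hyI, hyQ, hyE, hyN⟩ := key Q hEQ hQnsub
  obtain ⟨R, hxR, hyR⟩ := hpair x hxI y hyI
  have hT : IsPGroup p (Subgroup.closure {x, y} ⊔ E : Subgroup G) := by
    apply IsPGroup.to_sup_of_normal_right'
    · apply R.2.to_le
      rw [Subgroup.closure_le]
      intro z hz
      rcases hz with rfl | rfl
      · exact hxR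
      · exact hyR
    · exact P.2.to_le hEP
    · rw [Subgroup.closure_le]
      intro z hz
      rcases hz with rfl | rfl
      · exact hxN
      · exact hyN
  obtain ⟨R', hR'⟩ := hT.exists_le_sylow
  have hxR' : x ∈ (R' : Subgroup G) :=
    hR' (Subgroup.mem_sup_left (Subgroup.subset_closure (by simp)))
  have hyR' : y ∈ (R' : Subgroup G) :=
    hR' (Subgroup.mem_sup_left (Subgroup.subset_closure (by simp)))
  have hER' : E ≤ (R' : Subgroup G) := le_trans le_sup_right hR'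
  have hPR' : I ∩ ((P : Subgroup G) : Set G) = I ∩ ((R' : Subgroup G) : Set G) := by
    by_contra hne'
    have h1 := hmax ⟨(P, R'), hne'⟩
    simp only at h1
    have h2 : I ∩ ((P : Subgroup G) : Set G) ∩ ((Q : Subgroup G) : Set G) ⊂
        I ∩ ((P : Subgroup G) : Set G) ∩ ((R' : Subgroup G) : Set G) := by
      rw [Set.ssubset_iff_of_subset]
      · refine ⟨x, ⟨⟨hxI, hxP⟩, hxR'⟩, ?_⟩
        intro hx'
        exact hxE (Subgroup.subset_closure hx')
      · intro z hz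
        exact ⟨hz.1, hER' (Subgroup.subset_closure hz)⟩
    have h3 := Set.ncard_lt_ncard h2 (Set.toFinite _)
    omega
  have hQR' : I ∩ ((Q : Subgroup G) : Set G) = I ∩ ((R' : Subgroup G) : Set G) := by
    by_contra hne'
    have hne'' : I ∩ ((R' : Subgroup G) : Set G) ≠ I ∩ ((Q : Subgroup G) : Set G) := Ne.symm hne'
    have h1 := hmax ⟨(R', Q), hne''⟩
    simp only at h1
    have h2 : I ∩ ((P : Subgroup G) : Set G) ∩ ((Q : Subgroup G) : Set G) ⊂
        I ∩ ((R' : Subgroup G) : Set G) ∩ ((Q : Subgroup G) : Set G) := by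
      rw [Set.ssubset_iff_of_subset]
      · refine ⟨y, ⟨⟨hyI, hyR'⟩, hyQ⟩, ?_⟩
        intro hy'
        exact hyE (Subgroup.subset_closure hy')
      · intro z hz
        exact ⟨⟨hz.1.1, hER' (Subgroup.subset_closure hz)⟩, hz.2⟩
    have h3 := Set.ncard_lt_ncard h2 (Set.toFinite _)
    omega
  exact hPQ (hPR'.trans hQR'.symm)

end Cfsg.Agent.Lib.Helper22
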