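import Mathlib
import Cfsg.Agent.Lib.Helper27.VF.Defs
import Cfsg.Agent.Lib.Helper27.VF.FGa

/-!
# Project VF, piece FGb: uniqueness of the first letter
-/

set_option autoImplicit false

namespace Cfsg.Agent.Lib.Helper27.VF

section FG
variable {α : Type*}

/-- if the norm grows, the reduced word of `lt x b * w` is `(x, b) :: w` -/
theorem h22_tw_of_nm (x : α) (b : Bool) (w : FreeGroup α)
    (h : nm (lt x b * w) = nm w + 1) : h27_tw (lt x b * w) = (x, b) :: h27_tw w := by
  rcases h27_tw_lt_mul x b w with h1 | h1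
  · exact h1
  · exfalso
    rw [h27_nm_eq, h27_nm_eq, h1, List.length_cons] at h
    omega

/-- VF-FGb : uniqueness of the first letter -/
theorem first_unique (x y : α) (b c : Bool) (w w' : FreeGroup α)
    (h1 : lt x b * w = lt y c * w') (h2 : nm (lt x b * w) = nm w + 1)
    (h3 : nm (lt y c * w') = nm w' + 1) : x = y ∧ b = c ∧ w = w' := by
  have e1 := h22_tw_of_nm x b w h2
  have e2 := h22_tw_of_nm y c w' h3
  rw [h1, e2] at e1
  have e3 := List.cons.inj e1
  have e4 := Prod.mk.inj e3.1
  exact ⟨e4.1.symm, e4.2.symm, h27_tw_inj e3.2.symm⟩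

end FG

end Cfsg.Agent.Lib.Helper27.VF
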