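import Mathlib
import Cfsg.Agent.Lib.Helper27.VF.Defs

/-!
# Project VF, piece STB: stabilisers of the letters
-/

set_option autoImplicit false

namespace Cfsg.Agent.Lib.Helper27.VF

universe u
variable {T : Type u} [Group T]

theorem h22_smul_x (D : Datum T) (g : Equiv.Perm T) (i : D.I) :
    g • D.x i = ⟨i, ((g : Equiv.Perm T) : Equiv.Perm T ⧸ D.H i)⟩ := by
  unfold Datum.x
  rw [Sigma.smul_mk, MulAction.Quotient.smul_mk, smul_eq_mul, mul_one]

theorem h22_lam_injective : Function.Injective (lam T) := by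
  intro a b h
  have h1 := congrArg (fun f : Equiv.Perm T => f 1) h
  simpa using h1

/-- VF-STB -/
theorem x_smul_index (D : Datum T) (g : Equiv.Perm T) (i j : D.I) (h : g • D.x i = D.x j) :
    i = j := by
  rw [h22_smul_x] at h
  exact congrArg Sigma.fst h

theorem smul_x_iff (D : Datum T) (g : Equiv.Perm T) (i : D.I) :
    g • D.x i = D.x i ↔ g ∈ D.H i := by
  rw [h22_smul_x]
  unfold Datum.x
  constructor
  · intro h
    have h1 := eq_of_heq (Sigma.mk.inj h).2
    rw [QuotientGroup.eq, mul_one] at h1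
    exact (inv_mem_iff).1 h1
  · intro h
    congr 1
    rw [QuotientGroup.eq, mul_one]
    exact inv_mem h

theorem lam_mem_H_iff (D : Datum T) (s : T) (i : D.I) : lam T s ∈ D.H i ↔ s ∈ D.B i :=
  Subgroup.mem_map_iff_mem h22_lam_injective

theorem conj_mem_H (D : Datum T) (s : T) (i : D.I)
    (h : D.σ i * lam T s * (D.σ i)⁻¹ ∈ D.H i) : s ∈ D.A i := by
  obtain ⟨b', hb', hb⟩ := Subgroup.mem_map.1 h
  -- evaluate both permutations at `σ i 1`
  have h1 := congrArg (fun f : Equiv.Perm T => f (D.σ i 1)) hb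
  simp only [Equiv.Perm.coe_mul, Function.comp_apply, Equiv.Perm.coe_inv, Equiv.symm_apply_apply,
    MulAction.toPermHom_apply, MulAction.toPerm_apply, smul_eq_mul, mul_one] at h1
  -- `h1 : b' * σ i 1 = σ i s`
  set a' : D.A i := (D.e i).symm ⟨b', hb'⟩ with ha'
  have h2 := D.hσ i a' 1
  rw [mul_one] at h2
  have h3 : (D.e i a' : T) = b' := by
    rw [ha', MulEquiv.apply_symm_apply]
  rw [h3, h1] at h2
  have h4 : s = (a' : T) := (D.σ i).injective h2.symm
  rw [h4]
  exact a'.2

end Cfsg.Agent.Lib.Helper27.VF
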