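import Mathlib
import Cfsg.Agent.Lib.Helper27.VF.Defs
import Cfsg.Agent.Lib.Helper22.VFSTB
import Cfsg.Agent.Lib.Helper27.VF.LFT
import Cfsg.Agent.Lib.Helper27.VF.FGa

/-!
# Project VF, piece T12: the embedding `ι₀` and the HNN relations
-/

set_option autoImplicit false

namespace Cfsg.Agent.Lib.Helper27.VF

universe u
variable {T : Type u} [Group T]

/-- `σ i` conjugates `λ a` to `λ (e i a)` -/
theorem h22_sigma_conj (D : Datum T) (i : D.I) (a : D.A i) :
    D.σ i * lam T (a : T) * (D.σ i)⁻¹ = lam T (D.e i a : T) := by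
  ext t
  have h := D.hσ i a ((D.σ i)⁻¹ t)
  simp only [Equiv.Perm.coe_mul, Function.comp_apply, MulAction.toPermHom_apply,
    MulAction.toPerm_apply, smul_eq_mul]
  rw [h]
  simp

/-- VF-T12 -/
theorem ι₀_injective (D : Datum T) : Function.Injective D.ι₀ := by
  unfold Datum.ι₀
  rw [MonoidHom.coe_comp]
  exact SemidirectProduct.inr_injective.comp h22_lam_injective

theorem t_rel (D : Datum T) (i : D.I) (a : D.A i) :
    D.t i * D.ι₀ (a : T) * (D.t i)⁻¹ = D.ι₀ (D.e i a : T) := by
  have hc := h22_sigma_conj D i a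
  have hfix : (D.σ i * lam T (a : T) * (D.σ i)⁻¹) • D.x i = D.x i := by
    rw [smul_x_iff, hc]
    exact Subgroup.mem_map_of_mem _ (D.e i a).2
  have htl : (D.t i).left = lt (D.x i) true := rfl
  have htr : (D.t i).right = D.σ i := rfl
  apply SemidirectProduct.ext
  · rw [ι₀_left, SemidirectProduct.mul_left, SemidirectProduct.mul_left,
      SemidirectProduct.inv_left, SemidirectProduct.mul_right, ι₀_left, ι₀_right, map_one,
      mul_one, htl, htr, lt_inv, act_lt, act_lt, smul_smul, hfix, ← lt_inv]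
    exact mul_inv_cancel _
  · rw [ι₀_right, SemidirectProduct.mul_right, SemidirectProduct.mul_right,
      SemidirectProduct.inv_right, ι₀_right, htr]
    exact hc

theorem t_rel_symm (D : Datum T) (i : D.I) (b : D.B i) :
    (D.t i)⁻¹ * D.ι₀ (b : T) * D.t i = D.ι₀ ((D.e i).symm b : T) := by
  have h := t_rel D i ((D.e i).symm b)
  rw [MulEquiv.apply_symm_apply] at h
  rw [← h]
  group

end Cfsg.Agent.Lib.Helper27.VF
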