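import Mathlib
import Cfsg.Prelude.Def_GeometricClasses
import Cfsg.Agent.Lib.Helper27.ASC.Defs
import Cfsg.Agent.Lib.Helper19.ASG.Defs
import Cfsg.Agent.Lib.Helper18.ASP.Defs
import Cfsg.Agent.Lib.Helper18.ASPADJ
import Cfsg.Agent.Lib.helper8.ASPC.Defs

set_option autoImplicit false
set_option linter.unusedVariables false
set_option linter.unusedSectionVars false

/-!
# Project ASP, block C (sub-leader helper8), piece C-KUNIQ : uniqueness of the factors of a Kronecker product (helper22)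
-/

namespace Cfsg.Agent.Lib.Helper18.ASP

open Cfsg Cfsg.Geo Cfsg.Agent.Lib.Helper27.ASC Cfsg.Agent.Lib.Helper19.ASG
open scoped MatrixGroups Matrix Kronecker

variable {n : ℕ} {F : Type*} [Field F]

/-- a non-zero matrix has a non-zero entry -/
theorem aspckuniq_entry {κ : Type} (A : Matrix κ κ F) (hA : A ≠ 0) : ∃ i i', A i i' ≠ 0 := by
  by_contra hcon
  simp only [not_exists, not_not] at hcon
  apply hA
  ext i i'
  exact hcon i i'

/-- C-KUNIQ (medium) : uniqueness of the factors of a non-zero Kronecker product (pick `A i₀ i₀' ≠ 0`, `B j₀ j₀' ≠ 0`,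
`μ = X i₀ i₀' / A i₀ i₀'`; entries `X i i' * Y j j' = A i i' * B j j'`). -/
theorem spc_kron_eq_kron {k d : ℕ} (X A : Matrix (Fin k) (Fin k) F) (Y B : Matrix (Fin d) (Fin d) F)
    (hA : A ≠ 0) (hB : B ≠ 0) (h : X ⊗ₖ Y = A ⊗ₖ B) :
    ∃ μ : F, μ ≠ 0 ∧ X = μ • A ∧ Y = μ⁻¹ • B := by
  have hent : ∀ i i' j j', X i i' * Y j j' = A i i' * B j j' := by
    intro i i' j j'
    have := congrFun (congrFun h (i, j)) (i', j')
    simpa [Matrix.kroneckerMap_apply] using this
  obtain ⟨i₀, i₀', ha⟩ := aspckuniq_entry A hA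
  obtain ⟨j₀, j₀', hb⟩ := aspckuniq_entry B hB
  have h0 := hent i₀ i₀' j₀ j₀'
  have hx : X i₀ i₀' ≠ 0 := by
    intro hx
    rw [hx, zero_mul] at h0
    exact mul_ne_zero ha hb h0.symm
  have hy : Y j₀ j₀' ≠ 0 := by
    intro hy
    rw [hy, mul_zero] at h0
    exact mul_ne_zero ha hb h0.symm
  refine ⟨X i₀ i₀' / A i₀ i₀', div_ne_zero hx ha, ?_, ?_⟩
  · ext i i'
    rw [Matrix.smul_apply, smul_eq_mul]
    have h1 := hent i i' j₀ j₀'
    field_simp
    have : (X i i' * A i₀ i₀' - X i₀ i₀' * A i i') * Y j₀ j₀' = 0 := by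
      linear_combination A i₀ i₀' * h1 - A i i' * h0
    rcases mul_eq_zero.mp this with h2 | h2
    · linear_combination h2
    · exact absurd h2 hy
  · ext j j'
    rw [Matrix.smul_apply, smul_eq_mul, inv_div]
    have h1 := hent i₀ i₀' j j'
    field_simp
    linear_combination h1

end Cfsg.Agent.Lib.Helper18.ASP
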