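import Mathlib
import Cfsg.Prelude.Def_GeometricClasses
import Cfsg.Agent.Lib.Helper27.ASC.Defs
import Cfsg.Agent.Lib.Helper19.ASG.Defs
import Cfsg.Agent.Lib.Helper18.ASP.Defs
import Cfsg.Agent.Lib.Helper18.ASPADJ
import Cfsg.Agent.Lib.helper8.ASPC.Defs

set_option autoImplicit false
set_option linter.unusedVariables false
set_option linter.unusedSectionVars false

/-!
# Project ASP, block C (sub-leader helper8), piece C-SWAPF : swapping the factors of a Kronecker Gram matrix (helper22)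
-/

namespace Cfsg.Agent.Lib.Helper18.ASP

open Cfsg Cfsg.Geo Cfsg.Agent.Lib.Helper27.ASC Cfsg.Agent.Lib.Helper19.ASG
open scoped MatrixGroups Matrix Kronecker

variable {n : ℕ} {F : Type*} [Field F]

/-- The form with Gram matrix `A ⊗ B` at `(x ∘ swap, y ∘ swap)` is the form with Gram matrix `B ⊗ A` at `(x, y)`. -/
theorem aspcswapf_formOfGram {k d : ℕ} (A : Matrix (Fin k) (Fin k) F) (B : Matrix (Fin d) (Fin d) F)
    (x y : Fin d × Fin k → F) :
    formOfGram id (A ⊗ₖ B) (x ∘ Equiv.prodComm (Fin k) (Fin d)) (y ∘ Equiv.prodComm (Fin k) (Fin d)) =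
      formOfGram id (B ⊗ₖ A) x y := by
  unfold formOfGram
  rw [← Equiv.sum_comp (Equiv.prodComm (Fin k) (Fin d))]
  refine Finset.sum_congr rfl fun a _ => ?_
  rw [← Equiv.sum_comp (Equiv.prodComm (Fin k) (Fin d))]
  refine Finset.sum_congr rfl fun b _ => ?_
  simp only [Function.comp_apply, Equiv.prodComm_apply, Matrix.kroneckerMap_apply, Prod.fst_swap, Prod.snd_swap, id]
  ring

/-- C-SWAPF (easy) : swapping the factors (`Helper28.OTensSp.form_swap`; `(x ∘ prodComm) ∘ e = x ∘ (e.trans prodComm)`). -/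
theorem spc_krGram_swap (f : (Fin n → F) → (Fin n → F) → F) {k d : ℕ}
    (e : Fin n ≃ Fin k × Fin d) (P : GL (Fin n) F) (A : Matrix (Fin k) (Fin k) F) (B : Matrix (Fin d) (Fin d) F)
    (hK : KrGram f e P A B) : KrGram f (e.trans (Equiv.prodComm (Fin k) (Fin d))) P B A := by
  intro x y
  have hx : x ∘ ⇑(e.trans (Equiv.prodComm (Fin k) (Fin d))) = (x ∘ Equiv.prodComm (Fin k) (Fin d)) ∘ e := rfl
  have hy : y ∘ ⇑(e.trans (Equiv.prodComm (Fin k) (Fin d))) = (y ∘ Equiv.prodComm (Fin k) (Fin d)) ∘ e := rfl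
  rw [hx, hy, hK, aspcswapf_formOfGram]

end Cfsg.Agent.Lib.Helper18.ASP
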