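import Mathlib
import Cfsg.Prelude.Def_GeometricClasses
import Cfsg.Agent.Lib.Helper27.ASC.Defs
import Cfsg.Agent.Lib.helper23.ASCO.Defs
import Cfsg.Agent.Lib.Helper19.ASG.Defs
import Cfsg.Agent.Lib.Helper1.ASGCLIF3
import Cfsg.Agent.Lib.Helper25.ASO.Defs
import Cfsg.Agent.Lib.helper23.ASE.Defs
import Cfsg.Agent.Lib.Helper20.ASE10M.Defs

/-!
# Project E10M (S5850), FIELD block stage 2, piece F5-CANON2 (helper22) : `efield_gen_j`, verbatim vs
`Helper20/ASE10M/FieldSkel5.lean.txt`.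

`f (j u) u = ℓ (s N u)`.  If `s = 0` then `j` itself is a generator (`c = 0`); otherwise `x₁ = s⁻¹ j` is one (`c = 1`,
`f (x₁ u) u = ℓ (N u) = Q u`) and `j = s x₁`.  (No characteristic split, `haniso` not needed.)
-/

set_option autoImplicit false
set_option linter.unusedVariables false
set_option linter.unusedSectionVars false
set_option linter.style.haveILetI false

namespace Cfsg.Agent.Lib.Helper16.E10M

open Cfsg Cfsg.Geo Cfsg.Agent.Lib.Helper27.ASC Cfsg.Agent.Lib.helper23.ASCO Cfsg.Agent.Lib.Helper19.ASG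
  Cfsg.Agent.Lib.Helper25.ASO
open scoped MatrixGroups Matrix Kronecker

variable {n : ℕ} {F : Type*} [Field F] [Fintype F]

open scoped IsMulCommutative in
/-- F5-CANON2 -/
theorem efield_gen_j {r : ℕ} (hr : 0 < r) (Q : QuadraticForm F (Fin n → F))
    (K : Subalgebra F (Matrix (Fin n) (Fin n) F)) (hK : IsFieldSubalgebra r K)
    {ℓ : Matrix (Fin n) (Fin n) F →ₗ[F] F} {v w : Fin n → F} {s β : Matrix (Fin n) (Fin n) F}
    (hc : EFieldCoord (⇑Q) K ℓ v w s β)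
    (haniso : ∀ a ∈ K, ∀ b ∈ K, a * a + s * a * b + β * b * b = 0 → a = 0 ∧ b = 0)
    (j : Matrix (Fin n) (Fin n) F) (hjK : ∀ k ∈ K, j * k = k * j)
    (hj : ∀ a ∈ K, ∀ b ∈ K, j *ᵥ (a *ᵥ v + b *ᵥ w) = (-(β * b)) *ᵥ v + (a + s * b) *ᵥ w) :
    ∃ x₁ ∈ efieldGen (⇑Q) K, ∃ a ∈ K, ∃ b ∈ K, j = a + b * x₁ := by
  classical
  haveI : IsMulCommutative K := ⟨⟨fun x y => Subtype.ext (hK.comm x x.2 y y.2)⟩⟩
  set sK : K := ⟨s, hc.hs⟩ with hsK
  set βK : K := ⟨β, hc.hβ⟩ with hβK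
  let ℓK : K →ₗ[F] F := ℓ.comp K.val.toLinearMap
  let Φ : K → K → (Fin n → F) := fun a b =>
    (a : Matrix (Fin n) (Fin n) F) *ᵥ v + (b : Matrix (Fin n) (Fin n) F) *ᵥ w
  let N : K → K → K := fun a b => a * a + sK * a * b + βK * b * b
  have hquad : ∀ a b : K, Q (Φ a b) = ℓK (N a b) := fun a b => hc.quad a a.2 b b.2
  have hΦadd : ∀ a b a' b' : K, Φ a b + Φ a' b' = Φ (a + a') (b + b') := by
    intro a b a' b'
    simp only [Φ, Subalgebra.coe_add, Matrix.add_mulVec]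
    abel
  have hΦmul : ∀ k a b : K, (k : Matrix (Fin n) (Fin n) F) *ᵥ Φ a b = Φ (k * a) (k * b) := by
    intro k a b
    simp only [Φ, Subalgebra.coe_mul, Matrix.mulVec_add, Matrix.mulVec_mulVec]
  have hsurj : ∀ u : Fin n → F, ∃ a b : K, u = Φ a b := by
    intro u
    obtain ⟨a, ha, b, hb, h⟩ := hc.surj u
    exact ⟨⟨a, ha⟩, ⟨b, hb⟩, h⟩
  have hpolar : ∀ a b a' b' : K, QuadraticMap.polar (⇑Q) (Φ a b) (Φ a' b') =
      ℓK ((a * a' + a * a') + sK * (a * b' + a' * b) + (βK * b * b' + βK * b * b')) := by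
    intro a b a' b'
    unfold QuadraticMap.polar
    rw [hΦadd, hquad, hquad, hquad, ← map_sub, ← map_sub]
    congr 1
    simp only [N]
    ring
  have hjΦ : ∀ a b : K, j *ᵥ Φ a b = Φ (-(βK * b)) (a + sK * b) := fun a b => hj a a.2 b b.2
  by_cases hs0 : s = 0
  · -- `j` itself is a generator
    have hsK0 : sK = 0 := Subtype.ext hs0
    refine ⟨j, ⟨hjK, 0, ?_⟩, 0, K.zero_mem, 1, K.one_mem, by rw [zero_add, one_mul]⟩
    intro u
    obtain ⟨a, b, rfl⟩ := hsurj u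
    rw [hjΦ, hpolar, zero_mul, hsK0]
    have e : (-(βK * b) * a + -(βK * b) * a) + (0 : K) * (-(βK * b) * b + a * (a + 0 * b)) +
        (βK * (a + 0 * b) * b + βK * (a + 0 * b) * b) = 0 := by ring
    rw [e, map_zero]
  · -- `x₁ = s⁻¹ j`
    obtain ⟨y, hy, hsy⟩ := hK.inv s hc.hs hs0
    set yK : K := ⟨y, hy⟩ with hyK
    have hsyK : sK * yK = 1 := Subtype.ext hsy
    refine ⟨y * j, ⟨?_, 1, ?_⟩, 0, K.zero_mem, s, hc.hs, ?_⟩
    · intro k hk
      rw [mul_assoc, hjK k hk, ← mul_assoc, hK.comm y hy k hk, mul_assoc]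
    · intro u
      obtain ⟨a, b, rfl⟩ := hsurj u
      rw [← Matrix.mulVec_mulVec, hjΦ]
      have h1 := hΦmul yK (-(βK * b)) (a + sK * b)
      rw [show ((yK : K) : Matrix (Fin n) (Fin n) F) = y from rfl] at h1
      rw [h1, hpolar, hquad, one_mul]
      congr 1
      simp only [N]
      linear_combination (a * a + sK * a * b + βK * b * b) * hsyK
    · rw [zero_add, ← mul_assoc, hsy, one_mul]

end Cfsg.Agent.Lib.Helper16.E10M
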