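import Mathlib
import Cfsg.Prelude.Def_GeometricClasses
import Cfsg.Agent.Lib.Helper27.ASC.Defs
import Cfsg.Agent.Lib.helper23.ASCO.Defs
import Cfsg.Agent.Lib.Helper19.ASG.Defs
import Cfsg.Agent.Lib.Helper1.ASGCLIF3
import Cfsg.Agent.Lib.Helper25.ASO.Defs
import Cfsg.Agent.Lib.helper23.ASE.Defs
import Cfsg.Agent.Lib.Helper25.ASOADJ
import Cfsg.Agent.Lib.Helper1.ASGCLIF4
import Cfsg.Agent.Lib.Helper22.ASCONORMS

set_option autoImplicit false
set_option linter.unusedVariables false
set_option linter.unusedSectionVars false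
set_option linter.style.haveILetI false

/-!
# Project E10M (S5850), FIELD block, piece F-ODDSA (helper22) : `efield_odd_sa`, verbatim vs
`Helper20/ASE10M/FieldSkel.lean.txt`.

`σ = oadj` restricted to `K` is a ring automorphism of order two of the finite field `K`; if `σ ≠ id` then
`|K| = |Fix σ| ^ 2` (`asconorms_card`), `Fix σ` is an `F`-subspace of `K`, so `|F| ^ r = |F| ^ (2 m)` and `r` is even.
-/

namespace Cfsg.Agent.Lib.Helper16.E10M

open Cfsg Cfsg.Geo Cfsg.Agent.Lib.Helper27.ASC Cfsg.Agent.Lib.helper23.ASCO Cfsg.Agent.Lib.Helper19.ASG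
  Cfsg.Agent.Lib.Helper25.ASO
open scoped MatrixGroups Matrix Kronecker

variable {n : ℕ} {F : Type*} [Field F] [Fintype F]

/-- the ring automorphism of an adjoint-closed commutative subalgebra induced by the adjoint -/
noncomputable def e10mfoddsa_sigma (Q : QuadraticForm F (Fin n → F)) (hQ : (QuadraticMap.polarBilin Q).Nondegenerate)
    (K : Subalgebra F (Matrix (Fin n) (Fin n) F)) (hcomm : ∀ x ∈ K, ∀ y ∈ K, x * y = y * x)
    (hstar : ∀ k ∈ K, oadj (⇑Q) k ∈ K) : K ≃+* K where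
  toFun k := ⟨oadj (⇑Q) (k : Matrix (Fin n) (Fin n) F), hstar _ k.2⟩
  invFun k := ⟨oadj (⇑Q) (k : Matrix (Fin n) (Fin n) F), hstar _ k.2⟩
  left_inv k := Subtype.ext (oadj_oadj Q hQ _)
  right_inv k := Subtype.ext (oadj_oadj Q hQ _)
  map_mul' x y := by
    apply Subtype.ext
    show oadj (⇑Q) ((x : Matrix (Fin n) (Fin n) F) * (y : Matrix (Fin n) (Fin n) F)) =
      oadj (⇑Q) (x : Matrix (Fin n) (Fin n) F) * oadj (⇑Q) (y : Matrix (Fin n) (Fin n) F)
    rw [oadj_mul Q hQ]
    exact hcomm _ (hstar _ y.2) _ (hstar _ x.2)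
  map_add' x y := by
    apply Subtype.ext
    show oadj (⇑Q) ((x : Matrix (Fin n) (Fin n) F) + (y : Matrix (Fin n) (Fin n) F)) =
      oadj (⇑Q) (x : Matrix (Fin n) (Fin n) F) + oadj (⇑Q) (y : Matrix (Fin n) (Fin n) F)
    exact oadj_add Q _ _

/-- the self-adjoint elements of `K`, as an `F`-subspace of `K` -/
noncomputable def e10mfoddsa_fix (Q : QuadraticForm F (Fin n → F))
    (K : Subalgebra F (Matrix (Fin n) (Fin n) F)) : Submodule F K where
  carrier := {k | oadj (⇑Q) (k : Matrix (Fin n) (Fin n) F) = (k : Matrix (Fin n) (Fin n) F)}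
  add_mem' := by
    intro a b ha hb
    show oadj (⇑Q) ((a : Matrix (Fin n) (Fin n) F) + (b : Matrix (Fin n) (Fin n) F)) = _
    rw [oadj_add, ha, hb]
    rfl
  zero_mem' := by
    show oadj (⇑Q) (0 : Matrix (Fin n) (Fin n) F) = 0
    have := oadj_smul Q (0 : F) (0 : Matrix (Fin n) (Fin n) F)
    rwa [zero_smul, zero_smul] at this
  smul_mem' := by
    intro c a ha
    show oadj (⇑Q) (c • (a : Matrix (Fin n) (Fin n) F)) = c • (a : Matrix (Fin n) (Fin n) F)
    rw [oadj_smul, ha]

/-- F-ODDSA -/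
theorem efield_odd_sa (Q : QuadraticForm F (Fin n → F)) (hQ : (QuadraticMap.polarBilin Q).Nondegenerate) {r : ℕ}
    (hr : Odd r) (K : Subalgebra F (Matrix (Fin n) (Fin n) F)) (hK : IsFieldSubalgebra r K)
    (hstar : ∀ k ∈ K, oadj (⇑Q) k ∈ K) : ∀ k ∈ K, oadj (⇑Q) k = k := by
  classical
  by_contra hcon
  push Not at hcon
  obtain ⟨k₀, hk₀, hne⟩ := hcon
  letI : Field K := (asgclif_isField K hK hr.pos).toField
  haveI : Finite K := inferInstance
  letI : Fintype K := Fintype.ofFinite K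
  set σ : K ≃+* K := e10mfoddsa_sigma Q hQ K hK.comm hstar with hσdef
  have hσ1 : σ ≠ RingEquiv.refl K := by
    intro h
    apply hne
    have := congrArg (fun τ : K ≃+* K => ((τ ⟨k₀, hk₀⟩ : K) : Matrix (Fin n) (Fin n) F)) h
    exact this
  have hσ2 : ∀ a : K, σ (σ a) = a := fun a => Subtype.ext (oadj_oadj Q hQ _)
  have hcard := asconorms_card σ hσ1 hσ2
  -- cardinalities
  have hKcard : Nat.card K = Nat.card F ^ r := by
    rw [Module.natCard_eq_pow_finrank (K := F) (V := K), hK.finrank_eq]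
  have hFix : Nat.card ↥(asconormsFix σ) = Nat.card F ^ Module.finrank F (e10mfoddsa_fix Q K) := by
    rw [← Module.natCard_eq_pow_finrank (K := F) (V := e10mfoddsa_fix Q K)]
    apply Nat.card_congr
    refine Equiv.subtypeEquivRight ?_
    intro x
    constructor
    · intro hx
      exact congrArg Subtype.val hx
    · intro hx
      exact Subtype.ext hx
  rw [hKcard, hFix, ← pow_mul] at hcard
  have hF2 : 2 ≤ Nat.card F := by
    rw [Nat.card_eq_fintype_card]
    exact Fintype.one_lt_card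
  have hr2 := Nat.pow_right_injective hF2 hcard
  rw [hr2] at hr
  exact (Nat.not_even_iff_odd.mpr hr) ⟨Module.finrank F (e10mfoddsa_fix Q K), by ring⟩

end Cfsg.Agent.Lib.Helper16.E10M
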