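import Mathlib
import Cfsg.Prelude.Def_GeometricClasses
import Cfsg.Agent.Lib.Helper27.ASC.Defs
import Cfsg.Agent.Lib.helper23.ASCO.Defs
import Cfsg.Agent.Lib.Helper19.ASG.Defs
import Cfsg.Agent.Lib.Helper1.ASGCLIF3
import Cfsg.Agent.Lib.Helper25.ASO.Defs
import Cfsg.Agent.Lib.helper23.ASE.Defs
import Cfsg.Agent.Lib.helper8.ASECdim2
import Cfsg.Agent.Lib.Helper11.ASESIMIL

set_option autoImplicit false
set_option linter.unusedVariables false
set_option linter.unusedSectionVars false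

/-!
# Project ASE (S5826), piece TENSPLUS (helper22) : a tensor decomposition `2 ⊗ d` (`d` even) makes the space of plus type

`tens_plus`, verbatim vs `helper23/ASE/Skel.lean.txt`.  `2 = 0` or skew factors: `Q` vanishes on the pure tensors
(`helper8.ASEC.asec_plus_of_pure_left`).  Symmetric factors, `2 ≠ 0`: an isotropic `u₀` gives the block `u₀ ⊗ F^d`; otherwise
`u₁ = (1, 0)`, `u₂ = (-A₀₁, A₀₀)` is an orthogonal basis, `g` a similitude of `(F^d, B)` with multiplier `-a₁ / a₂`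
(`Helper11.ASESIMIL` `asesimil_odd`) and `{u₁ ⊗ w + u₂ ⊗ g w}` is totally singular of dimension `d`.
-/

namespace Cfsg.Agent.Lib.helper23.ASE

open Cfsg Cfsg.Geo Cfsg.Agent.Lib.Helper27.ASC Cfsg.Agent.Lib.helper23.ASCO Cfsg.Agent.Lib.Helper19.ASG
  Cfsg.Agent.Lib.Helper25.ASO
open scoped MatrixGroups Matrix Kronecker

variable {n : ℕ} {F : Type*} [Field F] [Fintype F]

/-- a skew matrix in characteristic `≠ 2` is alternating -/
theorem asetensplus_skew {k : ℕ} (h2 : (2 : F) ≠ 0) (A : Matrix (Fin k) (Fin k) F) (hA : Aᵀ = -A) (u : Fin k → F) :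
    u ⬝ᵥ (A *ᵥ u) = 0 := by
  have h1 : u ⬝ᵥ (A *ᵥ u) = u ⬝ᵥ (Aᵀ *ᵥ u) := by
    rw [Matrix.mulVec_transpose, Matrix.dotProduct_mulVec, dotProduct_comm]
  rw [hA, Matrix.neg_mulVec, dotProduct_neg] at h1
  have h3 : (2 : F) * (u ⬝ᵥ (A *ᵥ u)) = 0 := by linear_combination h1
  rcases mul_eq_zero.mp h3 with h | h
  · exact absurd h h2
  · exact h

/-- TENSPLUS : a tensor decomposition `2 ⊗ d` (`d` even) makes the space of plus type. -/
theorem tens_plus (Q : QuadraticForm F (Fin n → F)) (hQ : (QuadraticMap.polarBilin Q).Nondegenerate)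
    {d : ℕ} (hd : Even d) (e : Fin n ≃ Fin 2 × Fin d) (P : GL (Fin n) F)
    (A : Matrix (Fin 2) (Fin 2) F) (B : Matrix (Fin d) (Fin d) F) (hA : IsUnit A.det) (hB : IsUnit B.det)
    (hsign : (Aᵀ = A ∧ Bᵀ = B) ∨ (Aᵀ = -A ∧ Bᵀ = -B)) (hAB : KronGram (QuadraticMap.polar (⇑Q)) e P A B)
    (hpure : (2 : F) = 0 → ∀ (u : Fin 2 → F) (w : Fin d → F), Q (pureVec e P u w) = 0) :
    IsPlusTypeOn (⇑Q) ⊤ := by
  classical
  have hn : n = 2 * d := by
    have := Fintype.card_congr e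
    simpa using this
  by_cases h2 : (2 : F) = 0
  · exact Cfsg.Agent.Lib.helper8.ASEC.asec_plus_of_pure_left Q e P (hpure h2)
  -- the polar form on pure tensors
  have hpol : ∀ (u u' : Fin 2 → F) (w w' : Fin d → F),
      QuadraticMap.polar (⇑Q) (pureVec e P u w) (pureVec e P u' w') = (u ⬝ᵥ (A *ᵥ u')) * (w ⬝ᵥ (B *ᵥ w')) :=
    fun u u' w w' => Cfsg.Agent.Lib.Helper18.ASP.spc_krGram_ptv _ e P A B hAB u u' w w'
  have hQpol : ∀ v : Fin n → F, 2 * Q v = QuadraticMap.polar (⇑Q) v v := by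
    intro v
    rw [QuadraticMap.polar_self, two_smul, two_mul]
  have hQpure : ∀ (u : Fin 2 → F) (w : Fin d → F),
      2 * Q (pureVec e P u w) = (u ⬝ᵥ (A *ᵥ u)) * (w ⬝ᵥ (B *ᵥ w)) := by
    intro u w
    rw [hQpol, hpol]
  have hzero : ∀ x : F, 2 * x = 0 → x = 0 := by
    intro x hx
    rcases mul_eq_zero.mp hx with h | h
    · exact absurd h h2
    · exact h
  rcases hsign with ⟨hAs, hBs⟩ | ⟨hAs, hBs⟩
  swap
  · -- skew factors
    apply Cfsg.Agent.Lib.helper8.ASEC.asec_plus_of_pure_left Q e P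
    intro u w
    apply hzero
    have := hQpure u w
    rw [asetensplus_skew h2 A hAs u, zero_mul] at this
    exact this
  -- symmetric factors
  by_cases hiso : ∃ u₀ : Fin 2 → F, u₀ ≠ 0 ∧ u₀ ⬝ᵥ (A *ᵥ u₀) = 0
  · obtain ⟨u₀, hu₀, h0⟩ := hiso
    refine ⟨Cfsg.Agent.Lib.Helper28.OTens.blk e P u₀, le_top, ?_, ?_⟩
    · intro v hv
      obtain ⟨w, rfl⟩ := (Cfsg.Agent.Lib.Helper28.OTens.mem_blk e P _ v).1 hv
      apply hzero
      have := hQpure u₀ w
      rw [h0, zero_mul] at this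
      exact this
    · rw [Cfsg.Agent.Lib.Helper28.OTens.blk_finrank e P hu₀, finrank_top, Module.finrank_fin_fun, hn]
  -- the binary factor is anisotropic
  have hani : ∀ u : Fin 2 → F, u ≠ 0 → u ⬝ᵥ (A *ᵥ u) ≠ 0 := fun u hu h0 => hiso ⟨u, hu, h0⟩
  have hA10 : A 1 0 = A 0 1 := by
    have := congrFun (congrFun hAs 0) 1
    rw [Matrix.transpose_apply] at this
    exact this
  set u₁ : Fin 2 → F := ![1, 0] with hu₁
  set u₂ : Fin 2 → F := ![-(A 0 1), A 0 0] with hu₂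
  have hu₁0 : u₁ ≠ 0 := by
    intro h
    have := congrFun h 0
    simp [hu₁] at this
  have ha₁ : u₁ ⬝ᵥ (A *ᵥ u₁) = A 0 0 := by
    simp [hu₁, Matrix.mulVec, dotProduct, Fin.sum_univ_two]
  have hA00 : A 0 0 ≠ 0 := by
    rw [← ha₁]
    exact hani u₁ hu₁0
  have hu₂0 : u₂ ≠ 0 := by
    intro h
    have := congrFun h 1
    simp [hu₂] at this
    exact hA00 this
  have h12 : u₁ ⬝ᵥ (A *ᵥ u₂) = 0 := by
    simp [hu₁, hu₂, Matrix.mulVec, dotProduct, Fin.sum_univ_two]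
    ring
  have h21 : u₂ ⬝ᵥ (A *ᵥ u₁) = 0 := by
    simp [hu₁, hu₂, Matrix.mulVec, dotProduct, Fin.sum_univ_two]
    rw [hA10]
    ring
  set a₁ : F := u₁ ⬝ᵥ (A *ᵥ u₁) with ha₁def
  set a₂ : F := u₂ ⬝ᵥ (A *ᵥ u₂) with ha₂def
  have ha₁0 : a₁ ≠ 0 := hani u₁ hu₁0
  have ha₂0 : a₂ ≠ 0 := hani u₂ hu₂0
  -- the quadratic form of `B`
  set qB : QuadraticForm F (Fin d → F) := Matrix.toQuadraticForm' B with hqBdef
  have hqB : ∀ w : Fin d → F, qB w = w ⬝ᵥ (B *ᵥ w) := by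
    intro w
    rw [hqBdef, Matrix.toQuadraticForm', LinearMap.BilinMap.toQuadraticMap_apply, Matrix.toLinearMap₂'_apply']
  have hBsym : ∀ w w' : Fin d → F, w' ⬝ᵥ (B *ᵥ w) = w ⬝ᵥ (B *ᵥ w') := by
    intro w w'
    rw [Matrix.dotProduct_mulVec, ← Matrix.mulVec_transpose, hBs, dotProduct_comm]
  have hqBpol : ∀ w w' : Fin d → F, QuadraticMap.polar qB w w' = 2 * (w ⬝ᵥ (B *ᵥ w')) := by
    intro w w'
    rw [hqBdef, Matrix.toQuadraticForm', LinearMap.BilinMap.polar_toQuadraticMap, Matrix.toLinearMap₂'_apply',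
      Matrix.toLinearMap₂'_apply', hBsym w w']
    ring
  have hBinj : ∀ w : Fin d → F, (∀ w' : Fin d → F, w ⬝ᵥ (B *ᵥ w') = 0) → w = 0 := by
    intro w hw
    have h1 : w ᵥ* B = 0 := by
      funext j
      have := hw (Pi.single j 1)
      rw [Matrix.dotProduct_mulVec, dotProduct_single_one] at this
      exact this
    have h3 : (w ᵥ* B) ᵥ* B⁻¹ = 0 := by rw [h1, Matrix.zero_vecMul]
    rw [Matrix.vecMul_vecMul, Matrix.mul_nonsing_inv B hB, Matrix.vecMul_one] at h3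
    exact h3
  have hnd : ∀ w : Fin d → F, w ≠ 0 → ∃ x : Fin d → F, QuadraticMap.polar qB x w ≠ 0 := by
    intro w hw
    by_contra hcon
    push Not at hcon
    apply hw
    apply hBinj
    intro w'
    have := hcon w'
    rw [hqBpol, hBsym] at this
    exact hzero _ this
  have hev : Even (Module.finrank F (Fin d → F)) := by
    rw [Module.finrank_fin_fun]
    exact hd
  have hc0 : -(a₁ / a₂) ≠ 0 := neg_ne_zero.mpr (div_ne_zero ha₁0 ha₂0)
  obtain ⟨g, hg⟩ := asesimil_odd h2 qB hnd hev (-(a₁ / a₂)) hc0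
  -- the totally singular subspace
  set L : (Fin d → F) →ₗ[F] (Fin n → F) :=
    Cfsg.Agent.Lib.Helper28.OTens.tauLin e P u₁ +
      (Cfsg.Agent.Lib.Helper28.OTens.tauLin e P u₂).comp (g : (Fin d → F) →ₗ[F] (Fin d → F)) with hLdef
  have hL : ∀ w : Fin d → F, L w = pureVec e P u₁ w + pureVec e P u₂ (g w) := fun w => rfl
  have hQL : ∀ w : Fin d → F, Q (L w) = 0 := by
    intro w
    apply hzero
    have hadd := QuadraticMap.map_add Q (pureVec e P u₁ w) (pureVec e P u₂ (g w))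
    rw [hL, hadd, mul_add, mul_add, hQpure, hQpure, hpol, h12, zero_mul, mul_zero, add_zero,
      ← ha₁def, ← ha₂def, ← hqB, ← hqB, hg]
    field_simp
    ring
  have hinj : Function.Injective L := by
    rw [injective_iff_map_eq_zero]
    intro w hw
    apply hBinj
    intro w'
    have h1 : QuadraticMap.polar (⇑Q) (L w) (pureVec e P u₁ w') = 0 := by
      rw [hw]
      exact QuadraticMap.polar_zero_left _ _
    rw [hL, QuadraticMap.polar_add_left, hpol, hpol, h21, zero_mul, add_zero, ← ha₁def] at h1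
    rcases mul_eq_zero.mp h1 with h | h
    · exact absurd h ha₁0
    · exact h
  refine ⟨LinearMap.range L, le_top, ?_, ?_⟩
  · rintro v ⟨w, rfl⟩
    exact hQL w
  · rw [LinearMap.finrank_range_of_inj hinj, Module.finrank_fin_fun, finrank_top, Module.finrank_fin_fun, hn]

end Cfsg.Agent.Lib.helper23.ASE
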