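import Mathlib
import Cfsg.Prelude.Def_GeometricClasses
import Cfsg.Agent.Lib.Helper27.ASC.Defs
import Cfsg.Agent.Lib.helper23.ASCO.Defs
import Cfsg.Agent.Lib.Helper19.ASG.Defs
import Cfsg.Agent.Lib.Helper1.ASGCLIF3
import Cfsg.Agent.Lib.Lead.Reindex
import Cfsg.Agent.Lib.Helper25.ASO.Defs

set_option autoImplicit false
set_option linter.unusedVariables false
set_option linter.unusedSectionVars false

/-!
# Project ASO (leader: helper25), piece CSWAPF : `tensorForm_swap` (helper22)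

Swapping the two factors of a tensor form structure.
-/

namespace Cfsg.Agent.Lib.Helper25.ASO

open Cfsg Cfsg.Geo Cfsg.Agent.Lib.Helper27.ASC Cfsg.Agent.Lib.helper23.ASCO Cfsg.Agent.Lib.Helper19.ASG
open scoped MatrixGroups Matrix Kronecker

variable {n : ℕ} {F : Type*} [Field F] [Fintype F]

/-- The form with Gram matrix `A ⊗ B` at `(x ∘ swap, y ∘ swap)` is the form with Gram matrix `B ⊗ A` at `(x, y)`. -/
theorem asocswapf_formOfGram {n₁ n₂ : ℕ} (A : Matrix (Fin n₁) (Fin n₁) F) (B : Matrix (Fin n₂) (Fin n₂) F)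
    (x y : Fin n₂ × Fin n₁ → F) :
    formOfGram id (A ⊗ₖ B) (x ∘ Equiv.prodComm (Fin n₁) (Fin n₂)) (y ∘ Equiv.prodComm (Fin n₁) (Fin n₂)) =
      formOfGram id (B ⊗ₖ A) x y := by
  unfold formOfGram
  rw [← Equiv.sum_comp (Equiv.prodComm (Fin n₁) (Fin n₂))]
  refine Finset.sum_congr rfl fun a _ => ?_
  rw [← Equiv.sum_comp (Equiv.prodComm (Fin n₁) (Fin n₂))]
  refine Finset.sum_congr rfl fun b _ => ?_
  simp only [Function.comp_apply, Equiv.prodComm_apply, Matrix.kroneckerMap_apply, Prod.fst_swap, Prod.snd_swap, id]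
  ring

/-- CSWAPF : swapping the two factors of a tensor form structure (`(A ⊗ B) (i,j) (i',j') = (B ⊗ A) (j,i) (j',i')`;
reindex the double sum by `Equiv.prodComm`). -/
theorem tensorForm_swap {n₁ n₂ : ℕ} (f : (Fin n → F) → (Fin n → F) → F)
    (f₁ : (Fin n₁ → F) → (Fin n₁ → F) → F) (f₂ : (Fin n₂ → F) → (Fin n₂ → F) → F)
    (e : Fin n ≃ Fin n₁ × Fin n₂) (P : GL (Fin n) F) (hT : IsTensorFormStructure id f f₁ f₂ e P) :
    IsTensorFormStructure id f f₂ f₁ (e.trans (Equiv.prodComm (Fin n₁) (Fin n₂))) P := by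
  obtain ⟨c, hc, h⟩ := hT
  refine ⟨c, hc, fun x y => ?_⟩
  have hx : x ∘ ⇑(e.trans (Equiv.prodComm (Fin n₁) (Fin n₂))) = (x ∘ Equiv.prodComm (Fin n₁) (Fin n₂)) ∘ e := rfl
  have hy : y ∘ ⇑(e.trans (Equiv.prodComm (Fin n₁) (Fin n₂))) = (y ∘ Equiv.prodComm (Fin n₁) (Fin n₂)) ∘ e := rfl
  rw [hx, hy, h, asocswapf_formOfGram]

end Cfsg.Agent.Lib.Helper25.ASO
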