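import Mathlib
import Cfsg.Agent.Lib.Lead.BCG.Defs
import Cfsg.Agent.Lib.helper17.ONENDPERPS

/-!
# Project BCG (designer lead), row A11 : `o_flip`, verbatim (written by helper22).
`z = 1 - 2 π_P` for the orthogonal projection `π_P` onto the nondegenerate subspace `P`.
-/

set_option autoImplicit false
set_option linter.unusedVariables false
set_option linter.unusedSectionVars false

namespace Cfsg.Agent.Lib.Lead.BCG

open Polynomial Module Matrix Cfsg.Agent.Lib.Helper13.S5955 Cfsg.Agent.Lib.helper15.S5972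
  Cfsg.Agent.Lib.Helper18.ONE Cfsg.Agent.Lib.Lead.BCS

/-- A11 [M] -/
theorem o_flip {F : Type*} [Field F] (h2 : (2 : F) ≠ 0) {V : Type*} [AddCommGroup V] [Module F V]
    [FiniteDimensional F V] (B : LinearMap.BilinForm F V) (hsymm : ∀ u v, B u v = B v u)
    (hnd : ∀ u, (∀ v, B u v = 0) → u = 0) (P : Submodule F V) (hP : SND B P) :
    ∃ z : Module.End F V, OCtx 2 B z ∧ cycS 2 z = P ∧ fixS z = B.orthogonal P ∧
      ∀ g : Module.End F V, (∀ u v, B (g u) (g v) = B u v) → SInv g P → Commute z g := by
  classical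
  have hTop : SND B ⊤ := fun u _ h => hnd u (fun v => h v Submodule.mem_top)
  obtain ⟨hdisj, hsup, -, horth, -⟩ :=
    Cfsg.Agent.Lib.Helper18.ONE.nd_perp_symm B hsymm ⊤ P hTop le_top hP
  rw [top_inf_eq] at hdisj hsup horth
  set Q : Submodule F V := B.orthogonal P with hQ
  have hcompl : IsCompl P Q := ⟨hdisj, codisjoint_iff.mpr hsup⟩
  have hmemQ : ∀ m, m ∈ Q ↔ ∀ u ∈ P, B u m = 0 := fun m =>
    h5_mem_orth B P m
  have hdec : ∀ v : V, ∃ a ∈ P, ∃ b ∈ Q, v = a + b := by
    intro v
    have hv : v ∈ P ⊔ Q := by rw [hsup]; exact Submodule.mem_top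
    obtain ⟨a, ha, b, hb, rfl⟩ := Submodule.mem_sup.1 hv
    exact ⟨a, ha, b, hb, rfl⟩
  have hPQ : ∀ a ∈ P, ∀ b ∈ Q, B a b = 0 := fun a ha b hb => (hmemQ b).1 hb a ha
  have hQP : ∀ a ∈ P, ∀ b ∈ Q, B b a = 0 := fun a ha b hb => by rw [hsymm]; exact hPQ a ha b hb
  set π : Module.End F V := P.subtype.comp (Submodule.projectionOnto P Q hcompl) with hπ
  set z : Module.End F V := LinearMap.id - (2 : F) • π with hz
  have hπa : ∀ a ∈ P, π a = a := by
    intro a ha
    rw [hπ, LinearMap.comp_apply]
    have := Submodule.projectionOnto_apply_left hcompl ⟨a, ha⟩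
    rw [this]
    rfl
  have hπb : ∀ b ∈ Q, π b = 0 := by
    intro b hb
    rw [hπ, LinearMap.comp_apply]
    have := Submodule.projectionOnto_apply_right hcompl ⟨b, hb⟩
    rw [this]
    rfl
  have hzab : ∀ a ∈ P, ∀ b ∈ Q, z (a + b) = -a + b := by
    intro a ha b hb
    rw [hz, LinearMap.sub_apply, LinearMap.id_apply, LinearMap.smul_apply, map_add, hπa a ha, hπb b hb,
      add_zero, two_smul]
    abel
  have hza : ∀ a ∈ P, z a = -a := by
    intro a ha
    have := hzab a ha 0 Q.zero_mem
    rwa [add_zero, add_zero] at this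
  have hzb : ∀ b ∈ Q, z b = b := by
    intro b hb
    have := hzab 0 P.zero_mem b hb
    rwa [zero_add, neg_zero, zero_add] at this
  have h2v : ∀ v : V, (2 : F) • v = 0 → v = 0 := by
    intro v hv
    rcases smul_eq_zero.1 hv with h | h
    · exact absurd h h2
    · exact h
  refine ⟨z, ⟨hsymm, hnd, ?_, ?_⟩, ?_, ?_, ?_⟩
  · -- isometry
    intro u v
    obtain ⟨a, ha, b, hb, rfl⟩ := hdec u
    obtain ⟨a', ha', b', hb', rfl⟩ := hdec v
    rw [hzab a ha b hb, hzab a' ha' b' hb']
    simp only [map_add, map_neg, LinearMap.add_apply, LinearMap.neg_apply]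
    rw [hPQ a ha b' hb', hQP a' ha' b hb]
    ring
  · -- `z ^ 2 = 1`
    apply LinearMap.ext
    intro v
    obtain ⟨a, ha, b, hb, rfl⟩ := hdec v
    rw [pow_two, Module.End.mul_apply, hzab a ha b hb, hzab (-a) (P.neg_mem ha) b hb, neg_neg,
      Module.End.one_apply]
  · -- `cycS 2 z = P`
    ext v
    rw [bcs_mem_cyc_two]
    constructor
    · intro hv
      obtain ⟨a, ha, b, hb, rfl⟩ := hdec v
      rw [hzab a ha b hb] at hv
      have h3 : (2 : F) • b = 0 := by
        rw [two_smul]
        have : b + b = (-a + b) - (-(a + b)) := by abel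
        rw [this, hv, sub_self]
      rw [h2v b h3, add_zero]
      exact ha
    · intro hv
      exact hza v hv
  · -- `fixS z = Q`
    ext v
    rw [bcs_mem_fixS]
    constructor
    · intro hv
      obtain ⟨a, ha, b, hb, rfl⟩ := hdec v
      rw [hzab a ha b hb] at hv
      have h3 : (2 : F) • a = 0 := by
        rw [two_smul]
        have : a + a = (a + b) - (-a + b) := by abel
        rw [this, hv, sub_self]
      rw [h2v a h3, zero_add]
      exact hb
    · intro hv
      exact hzb v hv
  · -- commutation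
    intro g hg hgP
    have hginj : Function.Injective g := by
      rw [← LinearMap.ker_eq_bot, eq_bot_iff]
      intro u hu
      rw [LinearMap.mem_ker] at hu
      rw [Submodule.mem_bot]
      apply hnd u
      intro v
      rw [← hg u v, hu, map_zero, LinearMap.zero_apply]
    -- `g` maps `P` onto `P`
    have hgPsurj : ∀ a ∈ P, ∃ a' ∈ P, g a' = a := by
      have hinj : Function.Injective (g.restrict hgP) := by
        intro x y hxy
        apply Subtype.ext
        apply hginj
        exact congrArg Subtype.val hxy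
      have hsurj : Function.Surjective (g.restrict hgP) := LinearMap.injective_iff_surjective.mp hinj
      intro a ha
      obtain ⟨a', ha'⟩ := hsurj ⟨a, ha⟩
      refine ⟨a'.1, a'.2, ?_⟩
      exact congrArg Subtype.val ha'
    have hgQ : ∀ b ∈ Q, g b ∈ Q := by
      intro b hb
      rw [hmemQ]
      intro a ha
      obtain ⟨a', ha', rfl⟩ := hgPsurj a ha
      rw [hg]
      exact hPQ a' ha' b hb
    show z * g = g * z
    apply LinearMap.ext
    intro v
    obtain ⟨a, ha, b, hb, rfl⟩ := hdec v
    have h1 : z (g (a + b)) = -g a + g b := by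
      rw [map_add]
      exact hzab (g a) (hgP a ha) (g b) (hgQ b hb)
    have h3 : g (z (a + b)) = -g a + g b := by
      rw [hzab a ha b hb, map_add, map_neg]
    rw [Module.End.mul_apply, Module.End.mul_apply, h1, h3]

end Cfsg.Agent.Lib.Lead.BCG
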