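import Mathlib
import Cfsg.Agent.Lib.Lead.BCS.Defs
import Cfsg.Agent.Lib.Helper18.ONETYCLASS
import Cfsg.Agent.Lib.Lead.ONETYUNIQ
import Cfsg.Agent.Lib.helper15.S5972STDO
import Cfsg.Agent.Lib.Helper16.SpinE3
import Cfsg.Agent.Lib.Helper16.SpinH
import Cfsg.Agent.Lib.helper6.Disc2
import Cfsg.Agent.Lib.helper6.Quad
import Cfsg.Agent.Lib.helper14.S5972INVTOP
import Cfsg.Agent.S0292

/-!
# Project BCS (designer lead), row B12 : `bcs_invol_omega_ty`, verbatim (written by helper22).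
Port of helper14's OTS row INVTOP (`q_invol_top`, helper14/OTSINVTOP.lean) with BOTH directions of the discriminant criterion:
for an involution `x ∈ Ω_{2d+1}(q)` the `(-1)`-eigenspace `V₋ = cycS 2 x` has even dimension `2k`, its Gram determinant is a square
(helper16's `master`), so `V₋` is hyperbolic iff `(-1)^k` is a square iff `q^k ≡ 1 (mod 4)`.
-/

set_option autoImplicit false
set_option linter.unusedVariables false
set_option linter.unusedSectionVars false
set_option linter.style.haveILetI false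

namespace Cfsg.Agent.Lib.Lead.BCS

open Polynomial Module Matrix Cfsg.Agent.Lib.Helper13.S5955 Cfsg.Agent.Lib.helper15.S5972
  Cfsg.Agent.Lib.Helper18.ONE

/-- `q` odd: `q^k ≡ 1 (mod 4)` iff `k` is even or `q ≡ 1 (mod 4)` -/
theorem bcsb12_pow_mod (q k : ℕ) (hq : Odd q) : q ^ k % 4 = 1 ↔ (Even k ∨ q % 4 = 1) := by
  have hq2 : q % 2 = 1 := Nat.odd_iff.mp hq
  have h4 : q % 4 = 1 ∨ q % 4 = 3 := by omega
  rw [Nat.pow_mod]
  rcases h4 with h | h
  · rw [h, one_pow]
    simp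
  · rw [h]
    rcases Nat.even_or_odd' k with ⟨c, hc | hc⟩
    · rw [hc, pow_mul]
      have : (3 ^ 2) ^ c % 4 = 1 := by
        rw [Nat.pow_mod]
        norm_num
      rw [this]
      simp
    · rw [hc, pow_succ, pow_mul, Nat.mul_mod]
      have : (3 ^ 2) ^ c % 4 = 1 := by
        rw [Nat.pow_mod]
        norm_num
      rw [this]
      have hno : ¬ Even (2 * c + 1) := by
        rw [Nat.not_even_iff_odd]
        exact ⟨c, rfl⟩
      simp [hno]

/-- `(-1)^k` is a square iff `q^k ≡ 1 (mod 4)` -/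
theorem bcsb12_neg_one_pow {F : Type*} [Field F] [Fintype F] (hodd : Odd (Fintype.card F)) (k : ℕ) :
    IsSquare ((-1 : F) ^ k) ↔ Fintype.card F ^ k % 4 = 1 := by
  rw [bcsb12_pow_mod _ _ hodd]
  have hq2 : Fintype.card F % 2 = 1 := Nat.odd_iff.mp hodd
  rcases Nat.even_or_odd k with hk | hk
  · rw [hk.neg_one_pow]
    exact ⟨fun _ => Or.inl hk, fun _ => ⟨1, by ring⟩⟩
  · rw [hk.neg_one_pow, FiniteField.isSquare_neg_one_iff]
    constructor
    · intro h
      right
      omega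
    · rintro (h | h)
      · exact absurd h (Nat.not_even_iff_odd.mpr hk)
      · omega

/-- cancelling a non-zero square -/
theorem bcsb12_sq_cancel {F : Type*} [Field F] (a g : F) (hg0 : g ≠ 0) (hg : IsSquare g) :
    IsSquare (a * g) ↔ IsSquare a := by
  obtain ⟨t, ht⟩ := hg
  have ht0 : t ≠ 0 := by
    rintro rfl
    rw [mul_zero] at ht
    exact hg0 ht
  constructor
  · rintro ⟨s, hs⟩
    refine ⟨s / t, ?_⟩
    field_simp
    rw [ht] at hs
    linear_combination hs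
  · rintro ⟨s, hs⟩
    exact ⟨s * t, by rw [hs, ht]; ring⟩

/-- B12 [L] -/
theorem bcs_invol_omega_ty {F : Type*} [Field F] [Fintype F] (hodd : Odd (Fintype.card F)) (d : ℕ)
    (x : GL (Unit ⊕ (Fin d ⊕ Fin d)) F) (hx : x ∈ Cfsg.Geo.omegaGL (Cfsg.quadFormOdd d F))
    (hx2 : x ^ 2 = 1) :
    Even (finrank F (cycS 2 (Matrix.toLin'
        (x : Matrix (Unit ⊕ (Fin d ⊕ Fin d)) (Unit ⊕ (Fin d ⊕ Fin d)) F)))) ∧
      ∀ s : ℤ, (s = 1 ∨ s = -1) →
        OTy (stdO d F) (cycS 2 (Matrix.toLin'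
          (x : Matrix (Unit ⊕ (Fin d ⊕ Fin d)) (Unit ⊕ (Fin d ⊕ Fin d)) F))) s →
        (s = 1 ↔ Fintype.card F ^ (finrank F (cycS 2 (Matrix.toLin'
          (x : Matrix (Unit ⊕ (Fin d ⊕ Fin d)) (Unit ⊕ (Fin d ⊕ Fin d)) F))) / 2) % 4 = 1) := by
  classical
  set Q : QuadraticForm F (Unit ⊕ (Fin d ⊕ Fin d) → F) := Cfsg.Agent.Lib.Helper16.qfOdd d F with hQdef
  have h2 : (2 : F) ≠ 0 := Cfsg.Agent.S0292.two_ne_zero_of_odd rfl hodd
  obtain ⟨g, hgΩ, hgx⟩ := Subgroup.mem_map.1 hx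
  set X : Matrix (Unit ⊕ (Fin d ⊕ Fin d)) (Unit ⊕ (Fin d ⊕ Fin d)) F :=
    (x : Matrix (Unit ⊕ (Fin d ⊕ Fin d)) (Unit ⊕ (Fin d ⊕ Fin d)) F) with hX
  have hXX : X * X = 1 := by
    have := congrArg Units.val hx2
    rwa [Units.val_pow_eq_pow_val, pow_two, Units.val_one] at this
  have hXXv : ∀ v, X.mulVec (X.mulVec v) = v := by
    intro v
    rw [Matrix.mulVec_mulVec, hXX, Matrix.one_mulVec]
  have hXQ : ∀ v, Q (X.mulVec v) = Q v := by
    intro v
    have := g.2 v v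
    rw [hX, ← hgx]
    exact this
  have hpolX : ∀ u v, QuadraticMap.polar (⇑Q) (X.mulVec u) (X.mulVec v) = QuadraticMap.polar (⇑Q) u v := by
    intro u v
    unfold QuadraticMap.polar
    rw [← Matrix.mulVec_add, hXQ, hXQ, hXQ]
  set B : LinearMap.BilinForm F (Unit ⊕ (Fin d ⊕ Fin d) → F) := QuadraticMap.polarBilin Q with hB
  have hBapp : ∀ u v, B u v = QuadraticMap.polar (⇑Q) u v := fun u v => rfl
  have hBsymm : ∀ u v, B u v = B v u := fun u v => by rw [hBapp, hBapp, QuadraticMap.polar_comm]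
  have hBself : ∀ u, B u u = 2 * Q u := by
    intro u
    rw [hBapp, QuadraticMap.polar_self, nsmul_eq_mul]
    norm_num
  have hfacts := stdO_facts h2 d
  have hBnd1 : ∀ u, (∀ v, B u v = 0) → u = 0 := hfacts.2.1
  -- eigenspaces
  set Vp : Submodule F (Unit ⊕ (Fin d ⊕ Fin d) → F) := LinearMap.ker (X.mulVecLin - LinearMap.id) with hVp
  set Vm : Submodule F (Unit ⊕ (Fin d ⊕ Fin d) → F) := LinearMap.ker (X.mulVecLin + LinearMap.id) with hVm
  have hmemp : ∀ v, v ∈ Vp ↔ X.mulVec v = v := by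
    intro v
    rw [hVp, LinearMap.mem_ker, LinearMap.sub_apply, Matrix.mulVecLin_apply, LinearMap.id_apply, sub_eq_zero]
  have hmemm : ∀ v, v ∈ Vm ↔ X.mulVec v = -v := by
    intro v
    rw [hVm, LinearMap.mem_ker, LinearMap.add_apply, Matrix.mulVecLin_apply, LinearMap.id_apply,
      add_eq_zero_iff_eq_neg]
  have hpm : ∀ u ∈ Vp, ∀ w ∈ Vm, B u w = 0 := by
    intro u hu w hw
    have h1 := hpolX u w
    rw [(hmemp u).1 hu, (hmemm w).1 hw, QuadraticMap.polar_neg_right] at h1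
    have h3 : (2 : F) * B u w = 0 := by rw [hBapp]; linear_combination -h1
    rcases mul_eq_zero.1 h3 with h | h
    · exact absurd h h2
    · exact h
  have hdec : ∀ v, ∃ a ∈ Vp, ∃ b ∈ Vm, v = a + b := by
    intro v
    refine ⟨(2 : F)⁻¹ • (v + X.mulVec v), ?_, (2 : F)⁻¹ • (v - X.mulVec v), ?_, ?_⟩
    · rw [hmemp, Matrix.mulVec_smul, Matrix.mulVec_add, hXXv, add_comm]
    · rw [hmemm, Matrix.mulVec_smul, Matrix.mulVec_sub, hXXv, ← smul_neg, neg_sub]
    · rw [← smul_add]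
      have : v + X.mulVec v + (v - X.mulVec v) = (2 : F) • v := by rw [two_smul]; abel
      rw [this, smul_smul, inv_mul_cancel₀ h2, one_smul]
  have hdisj : Vp ⊓ Vm = ⊥ := by
    rw [eq_bot_iff]
    intro v hv
    obtain ⟨hv1, hv2⟩ := Submodule.mem_inf.1 hv
    have h1 := (hmemp v).1 hv1
    have h3 := (hmemm v).1 hv2
    rw [h1] at h3
    have h4 : (2 : F) • v = 0 := by rw [two_smul]; nth_rewrite 1 [h3]; exact neg_add_cancel v
    rw [Submodule.mem_bot]
    rcases smul_eq_zero.1 h4 with h | h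
    · exact absurd h h2
    · exact h
  have hsup : Vp ⊔ Vm = ⊤ := by
    rw [eq_top_iff]
    intro v _
    obtain ⟨a, ha, b, hb, rfl⟩ := hdec v
    exact Submodule.add_mem_sup ha hb
  have hSNDm : SND B Vm := by
    intro u hu huv
    apply hBnd1 u
    intro v
    obtain ⟨a, ha, b, hb, rfl⟩ := hdec v
    rw [map_add, huv b hb, add_zero, hBsymm, hpm a ha u hu]
  have hSNDp : SND B Vp := by
    intro u hu huv
    apply hBnd1 u
    intro v
    obtain ⟨a, ha, b, hb, rfl⟩ := hdec v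
    rw [map_add, huv a ha, zero_add, hpm u hu b hb]
  -- the restricted form on `Vm`
  have hS : B.IsSymm := ⟨fun u v => hBsymm u v⟩
  set Bm : LinearMap.BilinForm F ↥Vm := B.restrict Vm with hBm
  have hSm : Bm.IsSymm := hS.restrict Vm
  have hBmnd : Bm.Nondegenerate := by
    refine (hSm.isRefl.nondegenerate_iff_separatingLeft).mpr ?_
    intro w hw
    apply Subtype.ext
    apply hSNDm w.1 w.2
    intro v hv
    exact hw ⟨v, hv⟩
  haveI : Invertible (2 : F) := invertibleOfNonzero h2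
  obtain ⟨vb, hvb⟩ := LinearMap.BilinForm.exists_orthogonal_basis (LinearMap.BilinForm.isSymm_iff.1 hSm)
  have hvbQ : ∀ j, Q (vb j : Unit ⊕ (Fin d ⊕ Fin d) → F) ≠ 0 := by
    intro j
    have h1 : Bm (vb j) (vb j) ≠ 0 := hvb.not_isOrtho_basis_self_of_separatingLeft hBmnd.1 j
    intro h0
    apply h1
    show B (vb j : Unit ⊕ (Fin d ⊕ Fin d) → F) (vb j) = 0
    rw [hBself, h0, mul_zero]
  have hvborth : ∀ i j, i ≠ j → QuadraticMap.polar (⇑Q) (vb i : Unit ⊕ (Fin d ⊕ Fin d) → F) (vb j) = 0 := by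
    intro i j hij
    exact (LinearMap.isOrthoᵢ_def.1 hvb) i j hij
  set f : Fin (finrank F ↥Vm) → (Unit ⊕ (Fin d ⊕ Fin d) → F) := fun j => (vb j : Unit ⊕ (Fin d ⊕ Fin d) → F) with hf
  have hfinj : Function.Injective f := by
    intro i j hij
    exact vb.injective (Subtype.ext hij)
  set vs : List (Unit ⊕ (Fin d ⊕ Fin d) → F) := List.ofFn f with hvs
  have hvsmem : ∀ v, v ∈ vs ↔ ∃ j, f j = v := by
    intro v
    rw [hvs, List.mem_ofFn]
  have hvsnodup : vs.Nodup := List.nodup_ofFn.2 hfinj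
  have hvsQ : ∀ v ∈ vs, Q v ≠ 0 := by
    intro v hv
    obtain ⟨j, rfl⟩ := (hvsmem v).1 hv
    exact hvbQ j
  set P : Matrix (Unit ⊕ (Fin d ⊕ Fin d)) (Unit ⊕ (Fin d ⊕ Fin d)) F :=
    (vs.map (fun v => Cfsg.reflectionMatrix (⇑Q) v)).prod with hP
  -- `P = X`
  have hPbasis : ∀ j, P.mulVec (f j) = -(f j) := by
    intro j
    obtain ⟨c, hc, hcount⟩ := Cfsg.Agent.Lib.Helper16.prod_refl_ortho h2 Q (f j) (hvbQ j) vs (by
      intro u hu
      obtain ⟨i, rfl⟩ := (hvsmem u).1 hu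
      by_cases hij : i = j
      · left; rw [hij]
      · right; exact hvborth i j hij)
    rw [hP, hc, hcount, List.count_eq_one_of_mem hvsnodup ((hvsmem _).2 ⟨j, rfl⟩), pow_one, neg_one_smul]
  have hPm : ∀ b ∈ Vm, P.mulVec b = -b := by
    intro b hb
    have h1 : (P.mulVecLin.comp Vm.subtype) = -(Vm.subtype) := by
      apply vb.ext
      intro j
      simp only [LinearMap.comp_apply, Submodule.subtype_apply, Matrix.mulVecLin_apply, LinearMap.neg_apply]
      exact hPbasis j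
    have h3 := congrArg (fun L => L ⟨b, hb⟩) h1
    simpa using h3
  have hPp : ∀ a ∈ Vp, P.mulVec a = a := by
    intro a ha
    apply s5972invtop_prod_fix Q vs a
    intro v hv
    obtain ⟨j, rfl⟩ := (hvsmem v).1 hv
    have := hpm a ha (f j) (vb j).2
    rw [hBsymm] at this
    exact this
  have hPX : P = X := by
    apply Matrix.toLin'.injective
    apply LinearMap.ext
    intro v
    obtain ⟨a, ha, b, hb, rfl⟩ := hdec v
    rw [Matrix.toLin'_apply, Matrix.toLin'_apply, Matrix.mulVec_add, Matrix.mulVec_add, hPp a ha, hPm b hb,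
      (hmemp a).1 ha, (hmemm b).1 hb]
  -- spinor norm
  have hgmat : ((g : Matrix.GeneralLinearGroup (Unit ⊕ (Fin d ⊕ Fin d)) F) :
      Matrix (Unit ⊕ (Fin d ⊕ Fin d)) (Unit ⊕ (Fin d ⊕ Fin d)) F) =
      (vs.map (fun v => Cfsg.reflectionMatrix (⇑Q) v)).prod := by
    rw [← hP, hPX, hX, ← hgx]
    rfl
  obtain ⟨heven, hsq⟩ := (Cfsg.Agent.Lib.Helper16.master h2 Q g vs hvsQ hgmat).1 hgΩ
  have hlen : vs.length = finrank F ↥Vm := by rw [hvs, List.length_ofFn]
  rw [hlen] at heven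
  obtain ⟨b, hb⟩ := heven
  have hnb : finrank F ↥Vm = 2 * b := by omega
  have hprodQ : (vs.map (fun v => Q v)).prod = ∏ j, Q (f j) := by
    rw [hvs, List.map_ofFn, List.prod_ofFn]
    rfl
  rw [hprodQ] at hsq
  -- the discriminant
  have hgdet : Cfsg.Agent.Lib.helper6.Disc.gdet vb Bm = ∏ j, (2 * Q (f j)) := by
    unfold Cfsg.Agent.Lib.helper6.Disc.gdet
    have hdiag : LinearMap.BilinForm.toMatrix vb Bm = Matrix.diagonal (fun j => 2 * Q (f j)) := by
      ext i j
      rw [LinearMap.BilinForm.toMatrix_apply]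
      by_cases hij : i = j
      · subst hij
        rw [Matrix.diagonal_apply_eq]
        show B (vb i : Unit ⊕ (Fin d ⊕ Fin d) → F) (vb i) = _
        rw [hBself]
      · rw [Matrix.diagonal_apply_ne _ hij]
        exact hvborth i j hij
    rw [hdiag, Matrix.det_diagonal]
  have hnb2 : finrank F ↥Vm / 2 = b := by omega
  have hG0 : Cfsg.Agent.Lib.helper6.Disc.gdet vb Bm ≠ 0 := by
    rw [hgdet, Finset.prod_ne_zero_iff]
    intro j _
    exact mul_ne_zero h2 (hvbQ j)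
  have hGsq : IsSquare (Cfsg.Agent.Lib.helper6.Disc.gdet vb Bm) := by
    have h2pow : (2 : F) ^ (finrank F ↥Vm) = (2 ^ b) * (2 ^ b) := by
      rw [hnb, two_mul, pow_add]
    rw [hgdet, Finset.prod_mul_distrib, Finset.prod_const, Finset.card_univ, Fintype.card_fin, h2pow]
    obtain ⟨s, hs⟩ := hsq
    refine ⟨2 ^ b * s, ?_⟩
    rw [hs]
    ring
  have hcyc : cycS 2 (Matrix.toLin' X) = Vm := by
    unfold cycS
    rw [cyclotomic_two, hVm]
    congr 1
    simp [Matrix.toLin'_apply', Module.End.one_eq_id]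
  rw [hcyc]
  refine ⟨⟨b, by omega⟩, ?_⟩
  -- hyperbolic iff `(-1)^b` is a square
  have hhyp : SHyp B Vm ↔ IsSquare ((-1 : F) ^ b) := by
    rw [← bcsb12_sq_cancel ((-1 : F) ^ b) _ hG0 hGsq]
    constructor
    · rintro ⟨U, hUle, hUti, hUdim⟩
      set Xm : Submodule F ↥Vm := U.comap Vm.subtype with hXm
      have hXmdim : finrank F Xm = b := by
        have h1 : finrank F Xm = finrank F U :=
          LinearEquiv.finrank_eq (Submodule.comapSubtypeEquivOfLe hUle)
        omega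
      exact Cfsg.Agent.Lib.helper6.Disc.isSquare_of_ti Bm hSm Xm b hXmdim hnb
        (fun u hu w hw => hUti u.1 hu w.1 hw) vb
    · intro hsqd
      obtain ⟨Xm, hXmdim, hXmti⟩ := Cfsg.Agent.Lib.helper6.Disc.exists_ti_of_isSquare h2 Bm hSm hBmnd b
        hnb vb hsqd
      refine ⟨Xm.map Vm.subtype, ?_, ?_, ?_⟩
      · rintro _ ⟨w, _, rfl⟩
        exact w.2
      · rintro _ ⟨u, hu, rfl⟩ _ ⟨w, hw, rfl⟩
        exact hXmti u hu w hw
      · rw [Submodule.finrank_map_subtype_eq, hXmdim, hnb]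
  rw [hnb2]
  intro s hs hty
  have hB' : stdO d F = B := rfl
  rw [hB'] at hty
  rw [← bcsb12_neg_one_pow hodd b, ← hhyp]
  rcases ty_class h2 B hBsymm Vm hSNDm ⟨b, by omega⟩ with ⟨hh, h1⟩ | ⟨hno, h1⟩
  · rcases hs with rfl | rfl
    · exact ⟨fun _ => hh, fun _ => rfl⟩
    · exact absurd hty (fun h => ty_uniq B Vm h1 h)
  · rcases hs with rfl | rfl
    · exact absurd h1 (fun h => ty_uniq B Vm hty h)
    · constructor
      · intro h
        norm_num at h
      · intro h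
        exact absurd h hno

end Cfsg.Agent.Lib.Lead.BCS
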