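import Mathlib
import Cfsg.Agent.Lib.Lead.BCG.Defs
import Cfsg.Agent.Lib.Helper22.BCSB12conv

/-!
# Project BCG (designer lead), row A15 : `invol_omega_mem`, verbatim (written by helper22).
It is `bcsb12_conv` (Helper22/BCSB12conv.lean).
-/

set_option autoImplicit false

namespace Cfsg.Agent.Lib.Lead.BCG

open Polynomial Module Matrix Cfsg.Agent.Lib.Helper13.S5955 Cfsg.Agent.Lib.helper15.S5972
  Cfsg.Agent.Lib.Helper18.ONE Cfsg.Agent.Lib.Lead.BCS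

/-- A15 [L] -/
theorem invol_omega_mem {F : Type*} [Field F] [Fintype F] (hodd : Odd (Fintype.card F)) (d : ℕ)
    (x : GL (Unit ⊕ (Fin d ⊕ Fin d)) F)
    (hx : x ∈ Cfsg.isometryGroup F (Cfsg.quadFormOdd d F)) (hx2 : x ^ 2 = 1) (k : ℕ)
    (hk : finrank F (cycS 2 (Matrix.toLin'
      (x : Matrix (Unit ⊕ (Fin d ⊕ Fin d)) (Unit ⊕ (Fin d ⊕ Fin d)) F))) = 2 * k)
    (s : ℤ) (hs : s = 1 ∨ s = -1)
    (hty : OTy (stdO d F) (cycS 2 (Matrix.toLin'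
      (x : Matrix (Unit ⊕ (Fin d ⊕ Fin d)) (Unit ⊕ (Fin d ⊕ Fin d)) F))) s)
    (hcond : s = 1 ↔ Fintype.card F ^ k % 4 = 1) :
    x ∈ Cfsg.Geo.omegaGL (Cfsg.quadFormOdd d F) :=
  bcsb12_conv hodd d x hx hx2 k hk s hs hty hcond

end Cfsg.Agent.Lib.Lead.BCG
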