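import Mathlib
import Cfsg.Prelude.Def_CaseTheorems
import Cfsg.Agent.Lib.helper7.BR.Defs
import Cfsg.Agent.Lib.Helper18.BRF.Defs
import Cfsg.Agent.Lib.Helper25.Gagola
import Cfsg.Agent.Lib.Helper1.Cores

/-!
# Project BRF (S4700), piece KERP : `ker_trivial`
-/

set_option autoImplicit false
set_option linter.unusedVariables false
set_option linter.unusedSectionVars false

namespace Cfsg.Agent.Lib.Helper18.BRF

open Classical
open Cfsg.Agent.Lib.Helper25
open Cfsg.Agent.Lib.helper7.BR

universe u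

/-- a normal subgroup meeting a Sylow `p`-subgroup trivially has order prime to `p` -/
theorem brfkerp_coprime {G : Type u} [Group G] [Finite G] {p : ℕ} [Fact p.Prime] (P : Sylow p G)
    (K : Subgroup G) [K.Normal] (h : ∀ x ∈ (P : Subgroup G), x ∈ K → x = 1) :
    (Nat.card K).Coprime p := by
  have hp : p.Prime := Fact.out
  rw [Nat.coprime_comm, hp.coprime_iff_not_dvd]
  intro hdvd
  obtain ⟨k, hk⟩ := exists_prime_orderOf_dvd_card' (G := K) p hdvd
  -- `⟨k⟩` is a `p`-subgroup of `G`
  have hkG : orderOf (k : G) = p := by rw [Subgroup.orderOf_coe]; exact hk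
  have hpg : IsPGroup p (Subgroup.zpowers (k : G)) := by
    apply IsPGroup.of_card (n := 1)
    rw [Nat.card_zpowers, hkG, pow_one]
  obtain ⟨Q, hQ⟩ := hpg.exists_le_sylow
  obtain ⟨g, hg⟩ := MulAction.exists_smul_eq G Q P
  have hkQ : (k : G) ∈ (Q : Subgroup G) := hQ (Subgroup.mem_zpowers _)
  have hmem : g * (k : G) * g⁻¹ ∈ (P : Subgroup G) := by
    rw [← hg, Sylow.coe_subgroup_smul]
    have h0 := Subgroup.smul_mem_pointwise_smul (k : G) (MulAut.conj g) (Q : Subgroup G) hkQ
    rwa [MulAut.smul_def, MulAut.conj_apply] at h0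
  have hK : g * (k : G) * g⁻¹ ∈ K := Subgroup.Normal.conj_mem inferInstance _ k.2 g
  have h1 := h _ hmem hK
  have hk1 : (k : G) = 1 := by
    have : (k : G) = g⁻¹ * (g * (k : G) * g⁻¹) * g := by group
    rw [this, h1]
    group
  rw [hk1, orderOf_one] at hkG
  exact hp.one_lt.ne hkG

section main

variable {G : Type u} [Group G] [Fintype G] {p : ℕ} [Fact p.Prime]

/-- KERP : if `O_{p'}(G) = 1`, an irreducible character which is non-trivial on every `1 ≠ x ∈ P` is faithful.
(`Helper25.irrKer χ` is normal and meets the Sylow subgroup `P` trivially, so its order is prime to `p`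
(`P ⊓ K` is a Sylow subgroup of the normal subgroup `K`); `Helper1.le_pPrimeCore`.) -/
theorem ker_trivial (hcore : Cfsg.pPrimeCore p G = ⊥) (P : Sylow p G) (χ : Cfsg.IrrCharacter G)
    (hne : ∀ x ∈ (P : Subgroup G), x ≠ 1 → (χ : G → ℂ) x ≠ (χ : G → ℂ) 1) (g : G)
    (hg : (χ : G → ℂ) g = (χ : G → ℂ) 1) : g = 1 := by
  have hcop : (Nat.card (irrKer χ)).Coprime p := by
    apply brfkerp_coprime P (irrKer χ)
    intro x hxP hxK
    by_contra hx1
    exact hne x hxP hx1 ((mem_irrKer χ x).mp hxK)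
  have hle : irrKer χ ≤ Cfsg.pPrimeCore p G :=
    Cfsg.Agent.Lib.Helper1.le_pPrimeCore (irrKer_normal χ) hcop
  rw [hcore] at hle
  have hmem : g ∈ irrKer χ := (mem_irrKer χ g).mpr hg
  exact (Subgroup.mem_bot).mp (hle hmem)

end main

end Cfsg.Agent.Lib.Helper18.BRF
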