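import Mathlib
import Cfsg.Prelude.Def_CaseTheorems
import Cfsg.Agent.Lib.helper7.BR.Defs
import Cfsg.Agent.Lib.Helper18.BRF.Defs

/-!
# Project BRF (S4700), piece VKER : `val_cen_reg`
-/

set_option autoImplicit false
set_option linter.unusedVariables false
set_option linter.unusedSectionVars false

namespace Cfsg.Agent.Lib.Helper18.BRF

open Classical
open Cfsg.Agent.Lib.Helper25
open Cfsg.Agent.Lib.helper7.BR

universe u

/-- the sum of a monoid hom over a finite group is `|H|` times an idempotent -/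
theorem brfvker_sum_sq {H R : Type*} [Group H] [Fintype H] [Semiring R] (φ : H →* R) :
    (∑ a : H, φ a) * (∑ b : H, φ b) = Fintype.card H • ∑ b : H, φ b := by
  rw [Finset.sum_mul]
  have h1 : ∀ a : H, φ a * ∑ b : H, φ b = ∑ b : H, φ b := by
    intro a
    rw [Finset.mul_sum]
    simp_rw [← map_mul]
    exact Fintype.sum_equiv (Equiv.mulLeft a) _ _ (fun b => rfl)
  rw [Finset.sum_congr rfl (fun a _ => h1 a), Finset.sum_const, Finset.card_univ]

/-- a sum over a group of prime order `p` of a function which is `-1` off the identity -/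
theorem brfvker_sum_eq {H : Type*} [Group H] [Fintype H] {p : ℕ} (hH : Fintype.card H = p)
    (F : H → ℂ) (hF : ∀ x : H, x ≠ 1 → F x = -1) :
    ∑ x : H, F x = F 1 - ((p : ℂ) - 1) := by
  rw [← Finset.add_sum_erase Finset.univ F (Finset.mem_univ (1 : H))]
  have h1 : ∑ x ∈ Finset.univ.erase (1 : H), F x = ∑ x ∈ Finset.univ.erase (1 : H), (-1 : ℂ) := by
    refine Finset.sum_congr rfl fun x hx => ?_
    exact hF x (Finset.ne_of_mem_erase hx)
  rw [h1, Finset.sum_const, Finset.card_erase_of_mem (Finset.mem_univ _), Finset.card_univ, hH]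
  have hp1 : 1 ≤ p := by
    rw [← hH]
    exact Fintype.card_pos
  rw [nsmul_eq_mul, Nat.cast_sub hp1]
  push_cast
  ring

section main

variable {G : Type u} [Group G] [Fintype G] {p : ℕ} [Fact p.Prime]

/-- VKER : a character of degree `p - 1` with value `-1` on all `x y` (`1 ≠ x ∈ P`, `y ∈ C_G(P)` `p`-regular)
is trivial on the `p`-regular elements of `C_G(P)`.
(Representation `ρ` affording `χ`; `E = ∑_{x ∈ P} ρ x` satisfies `E ∘ E = p E` and `trace E = ∑_P χ = (p-1) - (p-1) = 0`,
so the idempotent `E / p` has rank `0`, `E = 0`, and `0 = trace (E ∘ ρ y) = χ y + (p - 1)(-1)`.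
Or: expansion along the cyclic group `⟨x₀ y⟩`, `Helper24.GaloisNorm.gn_char_pow_expansion`.) -/
theorem val_cen_reg (P : Sylow p G) (hP : Nat.card ↥(P : Subgroup G) = p) (χ : G → ℂ)
    (hχ : Cfsg.IsCharacter G χ) (hdeg : χ 1 = (p : ℂ) - 1)
    (hval : ∀ x ∈ (P : Subgroup G), x ≠ 1 → ∀ y ∈ cen P, ¬ p ∣ orderOf y → χ (x * y) = -1)
    (y : G) (hy : y ∈ cen P) (hyreg : ¬ p ∣ orderOf y) : χ y = χ 1 := by
  have hp : p.Prime := Fact.out
  obtain ⟨n, ρ, rfl⟩ := hχ
  have hcard : Fintype.card ↥(P : Subgroup G) = p := by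
    rw [← Nat.card_eq_fintype_card]; exact hP
  have hpC : (p : ℂ) ≠ 0 := by exact_mod_cast hp.ne_zero
  -- the sums of the character over the cosets `P y`
  have hsum : ∀ z ∈ cen P, ¬ p ∣ orderOf z →
      ∑ x : ↥(P : Subgroup G), ρ.character ((x : G) * z) = ρ.character z - ((p : ℂ) - 1) := by
    intro z hz hzreg
    have := brfvker_sum_eq hcard (fun x : ↥(P : Subgroup G) => ρ.character ((x : G) * z))
      (fun x hx => hval x x.2 (fun h => hx (Subtype.ext h)) z hz hzreg)
    simpa using this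
  -- the operator `E`
  let φ : ↥(P : Subgroup G) →* Module.End ℂ (Fin n → ℂ) := ρ.comp (P : Subgroup G).subtype
  set E : Module.End ℂ (Fin n → ℂ) := ∑ x : ↥(P : Subgroup G), φ x with hE
  have hEE : E * E = (p : ℂ) • E := by
    have := brfvker_sum_sq φ
    rw [hcard] at this
    rw [hE, this, Nat.cast_smul_eq_nsmul]
  -- the idempotent `E / p`
  have hidem : IsIdempotentElem ((p : ℂ)⁻¹ • E) := by
    unfold IsIdempotentElem
    rw [smul_mul_smul_comm, hEE, smul_smul, mul_assoc, inv_mul_cancel₀ hpC, mul_one]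
  have htrE : LinearMap.trace ℂ (Fin n → ℂ) E = 0 := by
    rw [hE, map_sum]
    have h1 := hsum 1 (Subgroup.one_mem _) (by rw [orderOf_one]; exact hp.not_dvd_one)
    simp only [mul_one] at h1
    rw [hdeg, sub_self] at h1
    exact h1
  have hzero : (p : ℂ)⁻¹ • E = 0 := by
    apply LinearMap.IsIdempotentElem.eq_zero_of_trace_eq_zero hidem
    rw [map_smul, htrE, smul_zero]
  have hE0 : E = 0 := by
    have := congrArg (fun T => (p : ℂ) • T) hzero
    simpa [smul_smul, mul_inv_cancel₀ hpC] using this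
  -- trace of `E * ρ y`
  have h2 : LinearMap.trace ℂ (Fin n → ℂ) (E * ρ y) = ρ.character y - ((p : ℂ) - 1) := by
    rw [hE, Finset.sum_mul, map_sum, ← hsum y hy hyreg]
    refine Finset.sum_congr rfl fun x _ => ?_
    show LinearMap.trace ℂ (Fin n → ℂ) (ρ (x : G) * ρ y) = LinearMap.trace ℂ _ (ρ ((x : G) * y))
    rw [map_mul ρ]
  rw [hE0, zero_mul, map_zero] at h2
  rw [hdeg]
  linear_combination -h2

end main

end Cfsg.Agent.Lib.Helper18.BRF
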