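import Mathlib
import Cfsg.Agent.Lib.Helper16.O9H.Defs

set_option autoImplicit false

/-!
# Project O9H (S2517), row AFREE2 (helper22): `free_two`, verbatim from `Helper16/O9H/Skel.lean.txt`.
Extras: `o9hafree2_aeval_pow_sub` (= KPOW), `o9hafree2_one` (= the statement of AFREE1), and the module-level cores.
-/

namespace Cfsg.Agent.Lib.Helper16.O9H

open Matrix Polynomial Module

section Abstract

variable {F : Type*} [Field F] {V : Type*} [AddCommGroup V] [Module F V]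

/-- `f ∣ P` and `f(L) x = 0` give `P(L) x = 0` -/
theorem o9hafree2_of_dvd (L : Module.End F V) (f P : F[X]) (hfP : f ∣ P) (x : V)
    (hx : aeval L f x = 0) : aeval L P x = 0 := by
  obtain ⟨k, rfl⟩ := hfP
  rw [mul_comm, map_mul, Module.End.mul_apply, hx, map_zero]

/-- irreducible dichotomy on the kernel -/
theorem o9hafree2_dich (L : Module.End F V) (f P : F[X]) (hf : Irreducible f) (x : V)
    (hx : aeval L f x = 0) (hx0 : x ≠ 0) (hP : aeval L P x = 0) : f ∣ P := by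
  rcases hf.isCoprime_or_dvd P with hc | hd
  · exfalso
    obtain ⟨u, v, huv⟩ := hc
    apply hx0
    have h1 : aeval L (u * f + v * P) x = x := by
      rw [huv, map_one, Module.End.one_apply]
    rw [map_add, map_mul, map_mul, LinearMap.add_apply, Module.End.mul_apply, Module.End.mul_apply,
      hx, hP, map_zero, map_zero, add_zero] at h1
    exact h1.symm
  · exact hd

/-- abstract AFREE1 -/
theorem o9hafree2_one_abs (L : Module.End F V) (f : F[X]) (hf : Irreducible f) (o : ℕ)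
    (ho : ∀ j : ℕ, f ∣ (X ^ j - 1 : F[X]) ↔ o ∣ j) (y : V) (hy : aeval L f y = 0) (hy0 : y ≠ 0) (j : ℕ) :
    aeval L (X ^ j - 1 : F[X]) y = 0 ↔ o ∣ j := by
  constructor
  · intro h
    exact (ho j).1 (o9hafree2_dich L f _ hf y hy hy0 h)
  · intro h
    exact o9hafree2_of_dvd L f _ ((ho j).2 h) y hy

/-- abstract AFREE2 -/
theorem o9hafree2_two_abs (L : Module.End F V) (f₁ f₂ : F[X]) (hf₁ : Irreducible f₁) (hf₂ : Irreducible f₂)
    (hcop : IsCoprime f₁ f₂) (o : ℕ) (ho₁ : ∀ j : ℕ, f₁ ∣ (X ^ j - 1 : F[X]) ↔ o ∣ j)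
    (ho₂ : ∀ j : ℕ, f₂ ∣ (X ^ j - 1 : F[X]) ↔ o ∣ j) (y : V) (hy : aeval L (f₁ * f₂) y = 0) (hy0 : y ≠ 0)
    (j : ℕ) : aeval L (X ^ j - 1 : F[X]) y = 0 ↔ o ∣ j := by
  constructor
  · intro h
    have hmem : y ∈ LinearMap.ker (aeval L f₁) ⊔ LinearMap.ker (aeval L f₂) := by
      rw [Polynomial.sup_ker_aeval_eq_ker_aeval_mul_of_coprime L hcop]
      exact LinearMap.mem_ker.2 hy
    obtain ⟨y₁, hy₁, y₂, hy₂, rfl⟩ := Submodule.mem_sup.1 hmem
    rw [LinearMap.mem_ker] at hy₁ hy₂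
    set P : F[X] := X ^ j - 1 with hP
    have hcomm : ∀ (f : F[X]) (x : V), aeval L f (aeval L P x) = aeval L P (aeval L f x) := by
      intro f x
      rw [← Module.End.mul_apply, ← Module.End.mul_apply, ← map_mul, ← map_mul, mul_comm]
    have h1 : aeval L P y₁ ∈ LinearMap.ker (aeval L f₁) := by
      rw [LinearMap.mem_ker, hcomm, hy₁, map_zero]
    have h2 : aeval L P y₂ ∈ LinearMap.ker (aeval L f₂) := by
      rw [LinearMap.mem_ker, hcomm, hy₂, map_zero]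
    have hdis := Polynomial.disjoint_ker_aeval_of_isCoprime L hcop
    rw [map_add] at h
    have h1' : aeval L P y₁ ∈ LinearMap.ker (aeval L f₂) := by
      have : aeval L P y₁ = - aeval L P y₂ := eq_neg_of_add_eq_zero_left h
      rw [this]
      exact Submodule.neg_mem _ h2
    have hz1 : aeval L P y₁ = 0 := by
      have := hdis.le_bot (show aeval L P y₁ ∈ LinearMap.ker (aeval L f₁) ⊓ LinearMap.ker (aeval L f₂) from ⟨h1, h1'⟩)
      simpa using this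
    have hz2 : aeval L P y₂ = 0 := by
      rw [hz1, zero_add] at h
      exact h
    by_cases h10 : y₁ = 0
    · have h20 : y₂ ≠ 0 := by
        intro h20
        apply hy0
        rw [h10, h20, add_zero]
      exact (o9hafree2_one_abs L f₂ hf₂ o ho₂ y₂ hy₂ h20 j).1 hz2
    · exact (o9hafree2_one_abs L f₁ hf₁ o ho₁ y₁ hy₁ h10 j).1 hz1
  · intro h
    have hd : f₁ * f₂ ∣ (X ^ j - 1 : F[X]) := hcop.mul_dvd ((ho₁ j).2 h) ((ho₂ j).2 h)
    exact o9hafree2_of_dvd L _ _ hd y hy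

end Abstract

variable {ι : Type} [Fintype ι] [DecidableEq ι] {F : Type*} [Field F]

/-- `linOf (g ^ n) = (linOf g) ^ n` applied to a vector -/
theorem o9hafree2_linOf_pow (g : GL ι F) (n : ℕ) (x : ι → F) :
    (linOf g ^ n) x = ((g ^ n : GL ι F) : Matrix ι ι F) *ᵥ x := by
  rw [Units.val_pow_eq_pow_val]
  show (Matrix.toLin' (g : Matrix ι ι F) ^ n) x = _
  rw [← Matrix.toLin'_pow, Matrix.toLin'_apply]

/-- (= KPOW) -/
theorem o9hafree2_aeval_pow_sub (g : GL ι F) (n : ℕ) (x : ι → F) :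
    aeval (linOf g) (X ^ n - 1 : F[X]) x = ((g ^ n : GL ι F) : Matrix ι ι F) *ᵥ x - x := by
  rw [map_sub, map_pow, aeval_X, map_one, LinearMap.sub_apply, Module.End.one_apply, o9hafree2_linOf_pow]

/-- (= the statement of AFREE1) -/
theorem o9hafree2_one (g : GL ι F) (f : F[X]) (hf : Irreducible f) (o : ℕ)
    (ho : ∀ j : ℕ, f ∣ (X ^ j - 1 : F[X]) ↔ o ∣ j) (y : ι → F) (hy : y ∈ kerP g f) (hy0 : y ≠ 0) (j : ℕ) :
    ((g ^ j : GL ι F) : Matrix ι ι F) *ᵥ y = y ↔ o ∣ j := by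
  rw [← o9hafree2_one_abs (linOf g) f hf o ho y (LinearMap.mem_ker.1 hy) hy0 j, o9hafree2_aeval_pow_sub, sub_eq_zero]

/-- AFREE2 -/
theorem free_two (g : GL ι F) (f₁ f₂ : F[X]) (hf₁ : Irreducible f₁) (hf₂ : Irreducible f₂) (hcop : IsCoprime f₁ f₂)
    (o : ℕ) (ho₁ : ∀ j : ℕ, f₁ ∣ (X ^ j - 1 : F[X]) ↔ o ∣ j) (ho₂ : ∀ j : ℕ, f₂ ∣ (X ^ j - 1 : F[X]) ↔ o ∣ j)
    (y : ι → F) (hy : y ∈ kerP g (f₁ * f₂)) (hy0 : y ≠ 0) (j : ℕ) :
    ((g ^ j : GL ι F) : Matrix ι ι F) *ᵥ y = y ↔ o ∣ j := by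
  rw [← o9hafree2_two_abs (linOf g) f₁ f₂ hf₁ hf₂ hcop o ho₁ ho₂ y (LinearMap.mem_ker.1 hy) hy0 j,
    o9hafree2_aeval_pow_sub, sub_eq_zero]

end Cfsg.Agent.Lib.Helper16.O9H
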