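import Mathlib
import Cfsg.Prelude.Def_LieTypeChar
import Cfsg.Agent.Lib.helper14.SQD.Defs
import Cfsg.Agent.Lib.helper14.SQD.DefsU
import Cfsg.Agent.Lib.Helper24.SQD.DefsO
import Cfsg.Agent.Lib.Helper29.SQDH1
import Cfsg.Agent.Lib.Helper13.SQDOM2

/-!
Project SQD row OM10b (core): `hsGrp id (omG0 a) (omC a b) ≤ ⁅O, O⁆`, `O` the isometry group of `quadFormMinus`.
H1 (`hsM_mul`, `hsM_zero`) and OM2 (`omC_props`) are cited; the statements of OM10a, OM4c, OM6a, OM6b, OG3 (at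
`φ = embGL 2`), OM9a, OM9b are hypotheses.
-/

set_option autoImplicit false

namespace Cfsg.Agent.Lib.helper14.SQD

open Cfsg Cfsg.Lie Matrix

universe u

section OM
variable {k : ℕ} {F : Type u} [Field F] (a b : F)

/-- every matrix is the sum of its one-column parts -/
theorem sqdom10b_sum_cols (R : Matrix (Fin 2) (Fin k) F) :
    R = ∑ i : Fin k, Matrix.vecMulVec (fun l => R l i) (Pi.single i (1 : F)) := by
  ext l j
  rw [Matrix.sum_apply]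
  simp only [Matrix.vecMulVec_apply, Pi.single_apply, mul_ite, mul_one, mul_zero]
  rw [Finset.sum_ite_eq]
  simp

/-- OM10b core. -/
theorem sqdom10b_core [CharP F 2]
    (hOM10a : ∀ (i : Fin k) (w : Fin 2 → F),
      ∃ C : Matrix (Fin k) (Fin k) F, omC a b (Matrix.vecMulVec w (Pi.single i 1)) C ∧
        ∀ u : GL ((Fin k ⊕ Fin k) ⊕ Fin 2) F,
          (u : Matrix ((Fin k ⊕ Fin k) ⊕ Fin 2) ((Fin k ⊕ Fin k) ⊕ Fin 2) F) =
            hsM (RingHom.id F) (omG0 a) (Matrix.vecMulVec w (Pi.single i 1)) C →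
          u ∈ ⁅isometryGroup F (quadFormMinus k F a b), isometryGroup F (quadFormMinus k F a b)⁆)
    (hOM4c : ∀ (R : Matrix (Fin 2) (Fin k) F) (C C' : Matrix (Fin k) (Fin k) F),
      omC a b R C → omC a b R C' → C - C' ∈ altAdd k F)
    (hOM6a : ∀ (R : Matrix (Fin 2) (Fin k) F) (C : Matrix (Fin k) (Fin k) F),
      ∃ w : GL ((Fin k ⊕ Fin k) ⊕ Fin 2) F,
        (w : Matrix ((Fin k ⊕ Fin k) ⊕ Fin 2) ((Fin k ⊕ Fin k) ⊕ Fin 2) F) = hsM (RingHom.id F) (omG0 a) R C)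
    (hOM6b : ∀ S : Matrix (Fin k) (Fin k) F,
      ((embGL 2 (siegHom (Multiplicative.ofAdd S)) : GL ((Fin k ⊕ Fin k) ⊕ Fin 2) F) :
        Matrix ((Fin k ⊕ Fin k) ⊕ Fin 2) ((Fin k ⊕ Fin k) ⊕ Fin 2) F) = hsM (RingHom.id F) (omG0 a) 0 S)
    (hOG3 : (∀ g : GL (Fin k) F, (embGL 2 : GL (Fin k ⊕ Fin k) F →* _) (levHom (RingHom.id F) g) ∈
        isometryGroup F (quadFormMinus k F a b)) →
      (∀ S ∈ altAdd k F, (embGL 2 : GL (Fin k ⊕ Fin k) F →* _) (siegHom (Multiplicative.ofAdd S)) ∈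
        isometryGroup F (quadFormMinus k F a b)) →
      (siegGrp (altAdd k F)).map (embGL 2) ≤
        ⁅isometryGroup F (quadFormMinus k F a b), isometryGroup F (quadFormMinus k F a b)⁆)
    (hOM9a : ∀ g : GL (Fin k) F,
      embGL 2 (levHom (RingHom.id F) g) ∈ isometryGroup F (quadFormMinus k F a b))
    (hOM9b : ∀ S ∈ altAdd k F,
      embGL 2 (siegHom (Multiplicative.ofAdd S)) ∈ isometryGroup F (quadFormMinus k F a b)) :
    hsGrp (RingHom.id F) (omG0 a) (omC (k := k) a b) ≤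
      ⁅isometryGroup F (quadFormMinus k F a b), isometryGroup F (quadFormMinus k F a b)⁆ := by
  set CO := ⁅isometryGroup F (quadFormMinus k F a b), isometryGroup F (quadFormMinus k F a b)⁆ with hCO
  obtain ⟨hC0, hCmul, -⟩ := omC_props (k := k) a b
  -- the predicate `P`
  have hP0 : ∃ C : Matrix (Fin k) (Fin k) F, omC a b (0 : Matrix (Fin 2) (Fin k) F) C ∧
      ∀ u : GL ((Fin k ⊕ Fin k) ⊕ Fin 2) F,
        (u : Matrix ((Fin k ⊕ Fin k) ⊕ Fin 2) ((Fin k ⊕ Fin k) ⊕ Fin 2) F) =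
          hsM (RingHom.id F) (omG0 a) 0 C → u ∈ CO := by
    refine ⟨0, hC0, fun u hu => ?_⟩
    have : u = 1 := by
      apply Units.ext
      rw [hu, hsM_zero, Units.val_one]
    rw [this]
    exact one_mem _
  have hPadd : ∀ R R' : Matrix (Fin 2) (Fin k) F,
      (∃ C : Matrix (Fin k) (Fin k) F, omC a b R C ∧ ∀ u : GL ((Fin k ⊕ Fin k) ⊕ Fin 2) F,
        (u : Matrix ((Fin k ⊕ Fin k) ⊕ Fin 2) ((Fin k ⊕ Fin k) ⊕ Fin 2) F) =
          hsM (RingHom.id F) (omG0 a) R C → u ∈ CO) →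
      (∃ C : Matrix (Fin k) (Fin k) F, omC a b R' C ∧ ∀ u : GL ((Fin k ⊕ Fin k) ⊕ Fin 2) F,
        (u : Matrix ((Fin k ⊕ Fin k) ⊕ Fin 2) ((Fin k ⊕ Fin k) ⊕ Fin 2) F) =
          hsM (RingHom.id F) (omG0 a) R' C → u ∈ CO) →
      ∃ C : Matrix (Fin k) (Fin k) F, omC a b (R + R') C ∧ ∀ u : GL ((Fin k ⊕ Fin k) ⊕ Fin 2) F,
        (u : Matrix ((Fin k ⊕ Fin k) ⊕ Fin 2) ((Fin k ⊕ Fin k) ⊕ Fin 2) F) =
          hsM (RingHom.id F) (omG0 a) (R + R') C → u ∈ CO := by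
    rintro R R' ⟨C, hC, hu⟩ ⟨C', hC', hu'⟩
    refine ⟨C + C' + tadj (RingHom.id F) R * omG0 a * R', hCmul R C R' C' hC hC', fun u huu => ?_⟩
    obtain ⟨w, hw⟩ := hOM6a R C
    obtain ⟨w', hw'⟩ := hOM6a R' C'
    have : u = w * w' := by
      apply Units.ext
      rw [huu, Units.val_mul, hw, hw', hsM_mul]
    rw [this]
    exact mul_mem (hu w hw) (hu' w' hw')
  have hPall : ∀ R : Matrix (Fin 2) (Fin k) F,
      ∃ C : Matrix (Fin k) (Fin k) F, omC a b R C ∧ ∀ u : GL ((Fin k ⊕ Fin k) ⊕ Fin 2) F,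
        (u : Matrix ((Fin k ⊕ Fin k) ⊕ Fin 2) ((Fin k ⊕ Fin k) ⊕ Fin 2) F) =
          hsM (RingHom.id F) (omG0 a) R C → u ∈ CO := by
    intro R
    rw [sqdom10b_sum_cols R]
    exact Finset.sum_induction _
      (fun R => ∃ C : Matrix (Fin k) (Fin k) F, omC a b R C ∧ ∀ u : GL ((Fin k ⊕ Fin k) ⊕ Fin 2) F,
        (u : Matrix ((Fin k ⊕ Fin k) ⊕ Fin 2) ((Fin k ⊕ Fin k) ⊕ Fin 2) F) =
          hsM (RingHom.id F) (omG0 a) R C → u ∈ CO)
      hPadd hP0 (fun i _ => hOM10a i _)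
  -- the generators
  unfold hsGrp
  rw [Subgroup.closure_le]
  rintro g ⟨R, C, hRC, hg⟩
  obtain ⟨C', hC', hu'⟩ := hPall R
  have hS : C - C' ∈ altAdd k F := hOM4c R C C' hRC hC'
  obtain ⟨w', hw'⟩ := hOM6a R C'
  have hsieg : embGL 2 (siegHom (Multiplicative.ofAdd (C - C'))) ∈ CO := by
    apply hOG3 hOM9a hOM9b
    refine Subgroup.mem_map_of_mem _ ?_
    exact Subgroup.mem_map_of_mem _ hS
  have : g = w' * embGL 2 (siegHom (Multiplicative.ofAdd (C - C'))) := by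
    apply Units.ext
    rw [hg, Units.val_mul, hw', hOM6b, hsM_mul]
    congr 1
    · rw [add_zero]
    · rw [Matrix.mul_zero, add_zero, add_sub_cancel]
  rw [this]
  exact mul_mem (hu' w' hw') hsieg

end OM

end Cfsg.Agent.Lib.helper14.SQD
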