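import Mathlib
import Cfsg.Prelude.Def_LieTypeChar
import Cfsg.Agent.Lib.helper14.SQD.Defs
import Cfsg.Agent.Lib.helper14.SQD.DefsU
import Cfsg.Agent.Lib.Helper24.SQD.DefsO
import Cfsg.Agent.Lib.Helper22.SQDOM10Bcore
import Cfsg.Agent.Lib.Helper29.SQDOM10A
import Cfsg.Agent.Lib.Helper28.SQDOM4
import Cfsg.Agent.Lib.Helper28.SQDOM6AB
import Cfsg.Agent.Lib.Helper12.SQDOG3
import Cfsg.Agent.Lib.Helper16.SQDOM9

/-!
Project SQD row OM10b (verbatim): `hsGrp id (omG0 a) (omC a b) ≤ ⁅O, O⁆`.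
-/

set_option autoImplicit false

namespace Cfsg.Agent.Lib.helper14.SQD

open Cfsg Cfsg.Lie Matrix

universe u v

section OM
variable {k : ℕ} {F : Type u} [Field F] (a b : F)

/-- OM10b [M-H]. -/
theorem hsO_le_comm [CharP F 2] (hk : 3 ≤ k) :
    hsGrp (RingHom.id F) (omG0 a) (omC (k := k) a b) ≤
      ⁅isometryGroup F (quadFormMinus k F a b), isometryGroup F (quadFormMinus k F a b)⁆ :=
  sqdom10b_core a b (fun i w => hs_col_mem_comm a b (by omega) i w)
    (fun R C C' h h' => omC_sub_alt a b R C C' h h')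
    (fun R C => exists_hs_unit _ _ R C) (fun S => hsM_zero_left _ _ S)
    (fun hlev hsieg => sieg_le_comm (embGL 2) _ hk hlev hsieg)
    (fun g => emb_lev_mem_iso_minus a b g)
    (fun S hS => emb_sieg_mem_iso_minus a b S hS)

end OM

end Cfsg.Agent.Lib.helper14.SQD
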