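import Mathlib

/-!
Project SQD row TW10: the `²E₆` cofactor and `gcd 3 (q + 1)` are odd for `q` even (pure `Nat`).
-/

set_option autoImplicit false

namespace Cfsg.Agent.Lib.helper14.SQD

/-- for even `q > 0` and `n > 0`, `q ^ n - 1` is odd -/
theorem sqdtw10_odd_sub (q n : ℕ) (hq : 2 ∣ q) (hq0 : 0 < q) (hn : 0 < n) : ¬ 2 ∣ q ^ n - 1 := by
  have h1 : 2 ∣ q ^ n := dvd_pow hq hn.ne'
  have h2 : 0 < q ^ n := pow_pos hq0 n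
  omega

/-- for even `q` and `n > 0`, `q ^ n + 1` is odd -/
theorem sqdtw10_odd_add (q n : ℕ) (hq : 2 ∣ q) (hn : 0 < n) : ¬ 2 ∣ q ^ n + 1 := by
  have h1 : 2 ∣ q ^ n := dvd_pow hq hn.ne'
  omega

/-- a product of two odd numbers is odd -/
theorem sqdtw10_odd_mul (a b : ℕ) (ha : ¬ 2 ∣ a) (hb : ¬ 2 ∣ b) : ¬ 2 ∣ a * b := by
  intro h
  rcases (Nat.Prime.dvd_mul Nat.prime_two).1 h with h | h
  · exact ha h
  · exact hb h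

/-- TW10 [E]. As TW9; `Nat.gcd 3 (q + 1) ∣ 3`. -/
theorem odd_e6 (q : ℕ) (hq : 2 ∣ q) (hq0 : 0 < q) :
    ¬ 2 ∣ (q ^ 2 - 1) * (q ^ 5 + 1) * (q ^ 6 - 1) * (q ^ 8 - 1) * (q ^ 9 + 1) * (q ^ 12 - 1) ∧
      ¬ 2 ∣ Nat.gcd 3 (q + 1) := by
  refine ⟨?_, ?_⟩
  · refine sqdtw10_odd_mul _ _ (sqdtw10_odd_mul _ _ (sqdtw10_odd_mul _ _ (sqdtw10_odd_mul _ _
      (sqdtw10_odd_mul _ _ ?_ ?_) ?_) ?_) ?_) ?_
    · exact sqdtw10_odd_sub q 2 hq hq0 (by norm_num)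
    · exact sqdtw10_odd_add q 5 hq (by norm_num)
    · exact sqdtw10_odd_sub q 6 hq hq0 (by norm_num)
    · exact sqdtw10_odd_sub q 8 hq hq0 (by norm_num)
    · exact sqdtw10_odd_add q 9 hq (by norm_num)
    · exact sqdtw10_odd_sub q 12 hq hq0 (by norm_num)
  · intro h
    have h3 : (2 : ℕ) ∣ 3 := h.trans (Nat.gcd_dvd_left 3 (q + 1))
    omega

end Cfsg.Agent.Lib.helper14.SQD
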