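import Mathlib
import Cfsg.Agent.Lib.helper15.St2
import Cfsg.Agent.Lib.helper7.StA
import Cfsg.Agent.Lib.helper7.StC
import Cfsg.Agent.Lib.helper7.StE
import Cfsg.Agent.Lib.Helper24.STCI1
import Cfsg.Agent.Lib.helper23.STCX2
import Cfsg.Agent.Lib.Helper27.STU.Defs
import Cfsg.Agent.Lib.Helper27.STU.Defs2
import Cfsg.Agent.Lib.Helper11.STUX1

/-!
Project STU (designer helper27; S2291) row N1: membership of the generators in the subgroups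
`Yg Ag Pg Lg Phat Yj Zg` and the obvious inclusions.  VERBATIM vs `Helper27/STU/Skel2.lean.txt`
(model `Helper26.STCN1`); cites the landed row X1 (`Helper11.STUX1`).
-/

set_option autoImplicit false

namespace Cfsg.Agent.Lib.Helper27.STU

open Cfsg.Agent.Lib.helper15.St2 Cfsg.Agent.Lib.helper7.St Cfsg.Agent.Lib.helper3.STC

namespace SysU

variable {F : Type*} [Field F] [StarRing F] {od : Prop} {ι : Type*} {G : Type*} [Group G] (S : SysU F od ι G)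

theorem stun1_ng_ng (a : ι ⊕ ι) : ng (ng a) = a := by
  cases a <;> rfl

theorem stun1_ne_ng (a : ι ⊕ ι) : a ≠ ng a := by
  cases a <;> simp [ng]

theorem stun1_ne_ng_symm {a b : ι ⊕ ι} (h : a ≠ ng b) : b ≠ ng a := by
  intro h'
  apply h
  rw [h', stun1_ng_ng]

section N
variable (o : ι ⊕ ι)

/-- N1 [S]  membership of the generators (model `Helper26.STCN1`). -/
theorem xs_mem_Yg {a : ι ⊕ ι} (ha : a ≠ o) (ha' : a ≠ ng o) (t : F) : S.xs a o t ∈ S.Yg o :=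
  S.xs_mem_XQ ha ha' rfl t

theorem xs_mem_Yg' {b : ι ⊕ ι} (hb : b ≠ o) (hb' : b ≠ ng o) (t : F) : S.xs (ng o) b t ∈ S.Yg o :=
  S.xs_mem_XQ' (Q := fun _ b => b = o) (Ne.symm hb') (fun h => hb (by rw [← stun1_ng_ng o, h, stun1_ng_ng]))
    (stun1_ng_ng o) t

theorem xl_mem_Yg (ξ : Lam F od) : S.xl (ng o) ξ ∈ S.Yg o :=
  S.xl_mem_XQ (Q := fun _ b => b = o) (stun1_ng_ng o) ξ

theorem xs_mem_Ag {b : ι ⊕ ι} (hb : b ≠ o) (hb' : b ≠ ng o) (t : F) : S.xs o b t ∈ S.Ag o :=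
  S.xs_mem_XQ (Q := fun a _ => a = o) (Ne.symm hb) (stun1_ne_ng_symm hb') rfl t

theorem xs_mem_Ag' {a : ι ⊕ ι} (ha : a ≠ o) (ha' : a ≠ ng o) (t : F) : S.xs a (ng o) t ∈ S.Ag o :=
  S.xs_mem_XQ' (Q := fun a _ => a = o) ha' (by rw [stun1_ng_ng]; exact ha) (stun1_ng_ng o) t

theorem xl_mem_Ag (ξ : Lam F od) : S.xl o ξ ∈ S.Ag o :=
  S.xl_mem_XQ (Q := fun a _ => a = o) rfl ξ

theorem xs_mem_Pg {a b : ι ⊕ ι} (hab : a ≠ b) (hab' : a ≠ ng b) (hb : b ≠ o) (ha : a ≠ ng o) (t : F) : S.xs a b t ∈ S.Pg o :=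
  S.xs_mem_XQ hab hab' ⟨hb, ha⟩ t

theorem xl_mem_Pg {a : ι ⊕ ι} (ha : a ≠ ng o) (ξ : Lam F od) : S.xl a ξ ∈ S.Pg o :=
  S.xl_mem_XQ (Q := fun a b => b ≠ o ∧ a ≠ ng o) ⟨fun h => ha (by rw [← h, stun1_ng_ng]), ha⟩ ξ

theorem xs_mem_Lg {a b : ι ⊕ ι} (hab : a ≠ b) (hab' : a ≠ ng b) (ha : a ≠ o) (ha' : a ≠ ng o) (hb : b ≠ o) (hb' : b ≠ ng o) (t : F) :
    S.xs a b t ∈ S.Lg o :=
  S.xs_mem_XQ hab hab' ⟨⟨ha, ha'⟩, ⟨hb, hb'⟩⟩ t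

theorem xl_mem_Lg {a : ι ⊕ ι} (ha : a ≠ o) (ha' : a ≠ ng o) (ξ : Lam F od) : S.xl a ξ ∈ S.Lg o :=
  S.xl_mem_XQ (Q := fun a b => (a ≠ o ∧ a ≠ ng o) ∧ (b ≠ o ∧ b ≠ ng o))
    ⟨⟨ha, ha'⟩, ⟨fun h => ha' (by rw [← h, stun1_ng_ng]), fun h => ha (by rw [← stun1_ng_ng a, h, stun1_ng_ng])⟩⟩ ξ

theorem Ag_le_Pg : S.Ag o ≤ S.Pg o := by
  apply S.XQ_mono
  rintro a b hab rfl
  exact ⟨Ne.symm hab, stun1_ne_ng a⟩

theorem Lg_le_Pg : S.Lg o ≤ S.Pg o := by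
  apply S.XQ_mono
  rintro a b _ ⟨⟨_, ha'⟩, ⟨hb, _⟩⟩
  exact ⟨hb, ha'⟩

theorem Pg_le_Phat : S.Pg o ≤ S.Phat o := le_sup_left

theorem hs_mem_Phat {b : ι ⊕ ι} (hb : b ≠ o) (hb' : b ≠ ng o) {t : F} (ht : t ≠ 0) : S.hs o b t ∈ S.Phat o :=
  (le_sup_right : S.Hg o ≤ S.Phat o) (Subgroup.subset_closure (Or.inl ⟨b, t, hb, hb', ht, rfl⟩))

theorem hl_mem_Phat {ξ η : Lam F od} (hξ : ξ.c ≠ 0) (hη : η.c ≠ 0) : S.hl o ξ η ∈ S.Phat o :=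
  (le_sup_right : S.Hg o ≤ S.Phat o) (Subgroup.subset_closure (Or.inr ⟨ξ, η, hξ, hη, rfl⟩))

theorem ws_mem_Lg {a b : ι ⊕ ι} (hab : a ≠ b) (hab' : a ≠ ng b) (ha : a ≠ o) (ha' : a ≠ ng o) (hb : b ≠ o) (hb' : b ≠ ng o) (t : F) :
    S.ws a b t ∈ S.Lg o := by
  unfold ws
  exact mul_mem (mul_mem (S.xs_mem_Lg o hab hab' ha ha' hb hb' _)
    (S.xs_mem_Lg o hab.symm (stun1_ne_ng_symm hab') hb hb' ha ha' _)) (S.xs_mem_Lg o hab hab' ha ha' hb hb' _)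

theorem hs_mem_Lg {a b : ι ⊕ ι} (hab : a ≠ b) (hab' : a ≠ ng b) (ha : a ≠ o) (ha' : a ≠ ng o) (hb : b ≠ o) (hb' : b ≠ ng o) (t : F) :
    S.hs a b t ∈ S.Lg o := by
  unfold hs
  exact mul_mem (S.ws_mem_Lg o hab hab' ha ha' hb hb' _) (S.ws_mem_Lg o hab hab' ha ha' hb hb' _)

theorem wl_mem_Lg {a : ι ⊕ ι} (ha : a ≠ o) (ha' : a ≠ ng o) (ξ : Lam F od) : S.wl a ξ ∈ S.Lg o := by
  unfold wl
  have hna : ng a ≠ o := fun h => ha' (by rw [← h, stun1_ng_ng])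
  have hna' : ng a ≠ ng o := fun h => ha (by rw [← stun1_ng_ng a, h, stun1_ng_ng])
  exact mul_mem (mul_mem (S.xl_mem_Lg o ha ha' _) (S.xl_mem_Lg o hna hna' _)) (S.xl_mem_Lg o ha ha' _)

theorem hl_mem_Lg {a : ι ⊕ ι} (ha : a ≠ o) (ha' : a ≠ ng o) (ξ η : Lam F od) : S.hl a ξ η ∈ S.Lg o := by
  unfold hl
  exact mul_mem (S.wl_mem_Lg o ha ha' _) (inv_mem (S.wl_mem_Lg o ha ha' _))

theorem Yj_le_Yg (j : ι ⊕ ι) : S.Yj o j ≤ S.Yg o := by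
  apply S.XQ_mono
  rintro a b _ ⟨hb, _⟩
  exact hb

theorem Zg_le_Yj {j : ι ⊕ ι} (hj : j ≠ ng o) : S.Zg o ≤ S.Yj o j := by
  apply S.XQ_mono
  rintro a b _ ⟨hb, rfl⟩
  exact ⟨hb, Ne.symm hj⟩

end N

end SysU

end Cfsg.Agent.Lib.Helper27.STU
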