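import Mathlib
import Cfsg.Agent.Lib.helper7.CEU.Defs
import Cfsg.Agent.Lib.Helper27.STU.Defs3
import Cfsg.Agent.Lib.Helper27.STUQ1
import Cfsg.Agent.Lib.Helper5.STULA5

/-!
# Project CEU (designer helper7), row E2 (helper22), verbatim: the shape of the elements of the rank one group `SUm F od` in the even case.
-/

set_option autoImplicit false
set_option linter.unusedVariables false

namespace Cfsg.Agent.Lib.helper7.CEU

open Cfsg.Agent.Lib.helper15.St2 Cfsg.Agent.Lib.helper7.Ce Cfsg.Agent.Lib.helper3.STC Cfsg.Agent.Lib.Helper27.STU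

open Cfsg.Agent.Lib.helper7.CEC (I2 I3 I4 U2 U3)

section E

open Matrix

variable {F : Type*} [Field F] [StarRing F] {od : Prop}

/-- the entries of an element of the rank one group in the even case: `a = M 0 0`, `d = M 2 2` are fixed by the involution, `b = M 0 2`, `c = M 2 0` are skew, `a d - b c = 1`. -/
theorem ceue2_skew (hev : ¬ od) (M : ↥(SUm F od)) :
    star (SUm.mat M 0 0) = SUm.mat M 0 0 ∧ star (SUm.mat M 2 2) = SUm.mat M 2 2 ∧ star (SUm.mat M 0 2) = -SUm.mat M 0 2 ∧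
      star (SUm.mat M 2 0) = -SUm.mat M 2 0 ∧ SUm.mat M 0 0 * SUm.mat M 2 2 - SUm.mat M 0 2 * SUm.mat M 2 0 = 1 := by
  induction M using stuq1_induction with
  | hp ξ =>
    rw [SUm.mat_XpU]
    have hc := Lam.c_skew_of_even hev ξ
    simp [XpM, hc]
  | hm ξ =>
    rw [SUm.mat_XmU]
    have hc := Lam.c_skew_of_even hev ξ
    simp [XmM, hc]
  | one =>
    rw [SUm.mat_one]
    simp
  | mul M N hM hN =>
    obtain ⟨a1, a2, a3, a4, a5⟩ := hM
    obtain ⟨b1, b2, b3, b4, b5⟩ := hN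
    obtain ⟨m10, m12, m01, m21, m11⟩ := SUm.mat_even hev M
    obtain ⟨n10, n12, n01, n21, n11⟩ := SUm.mat_even hev N
    rw [SUm.mat_mul]
    simp only [Matrix.mul_apply, Fin.sum_univ_three, m01, m21, n10, n12, mul_zero, add_zero,
      star_add, star_mul', a1, a2, a3, a4, b1, b2, b3, b4]
    refine ⟨by ring, by ring, by ring, by ring, ?_⟩
    linear_combination (SUm.mat N 0 0 * SUm.mat N 2 2 - SUm.mat N 0 2 * SUm.mat N 2 0) * a5 + b5

/-- E2 [M]  the shape of the elements of the rank one group in the even case: `stuq1_induction` (`Helper27.STUQ1`); for the product use `SUm.mat_even` for both factors (`Matrix.mul_apply`, `Fin.sum_univ_three`);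
generators: `XpM`, `XmM` with `ξ.v = 0` (`ξ.hv hev`), `ξ.c` skew (`Lam.c_skew_of_even`), `star (c / γ) = (-c) / (-γ)`. -/
theorem even_entries (hev : ¬ od) {γ : F} (hγ : γ ≠ 0) (hγs : star γ = -γ) (M : ↥(SUm F od)) :
    star (SUm.mat M 0 0) = SUm.mat M 0 0 ∧ star (SUm.mat M 2 2) = SUm.mat M 2 2 ∧ star (SUm.mat M 0 2 / γ) = SUm.mat M 0 2 / γ ∧
      star (γ * SUm.mat M 2 0) = γ * SUm.mat M 2 0 ∧ SUm.mat M 0 0 * SUm.mat M 2 2 - SUm.mat M 0 2 * SUm.mat M 2 0 = 1 := by
  obtain ⟨h1, h2, h3, h4, h5⟩ := ceue2_skew hev M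
  refine ⟨h1, h2, ?_, ?_, h5⟩
  · rw [star_div₀, h3, hγs, neg_div_neg_eq]
  · rw [star_mul', h4, hγs, neg_mul_neg]

end E

end Cfsg.Agent.Lib.helper7.CEU
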