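import Mathlib
import Cfsg.Agent.Lib.Helper22.Sylow2

set_option autoImplicit false

namespace Cfsg.Agent.Lib.Helper22

open MulAction
open scoped Pointwise commutatorElement

theorem stabilizer_eq_of_complement {G : Type*} [Group G] [Finite G] (H : Subgroup G) [H.Normal]
    [IsMulCommutative H] (hcop : Nat.Coprime (Nat.card H) H.index)
    (K : Subgroup G) (hK : Subgroup.IsComplement' H K) :
    ∃ α : H.QuotientDiff, stabilizer G α = K := by
  let T : H.LeftTransversal := ⟨(K : Set G), hK.symm⟩
  let α : H.QuotientDiff := Quotient.mk'' T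
  refine ⟨α, ?_⟩
  have hle : K ≤ stabilizer G α := by
    intro k hk
    rw [mem_stabilizer_iff]
    have hT : (MulOpposite.op k⁻¹ • T) = T := by
      apply Subtype.ext
      show MulOpposite.op k⁻¹ • (K : Set G) = K
      ext x
      rw [Set.mem_smul_set_iff_inv_smul_mem]
      simp only [MulOpposite.smul_eq_mul_unop, MulOpposite.unop_inv, MulOpposite.unop_op, inv_inv,
        SetLike.mem_coe]
      exact K.mul_mem_cancel_right hk
    show (Quotient.mk'' (MulOpposite.op k⁻¹ • T) : H.QuotientDiff) = Quotient.mk'' T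
    rw [hT]
  have h1 : Subgroup.IsComplement' H (stabilizer G α) :=
    Subgroup.isComplement'_stabilizer_of_coprime hcop
  have hc1 : H.index = Nat.card K := hK.symm.index_eq_card
  have hc2 : H.index = Nat.card (stabilizer G α) := h1.symm.index_eq_card
  exact (Subgroup.eq_of_le_of_card_ge hle (by rw [← hc1, ← hc2])).symm

theorem sz_conj_abelian {G : Type*} [Group G] [Finite G] (H : Subgroup G) [H.Normal]
    [IsMulCommutative H] (hcop : Nat.Coprime (Nat.card H) H.index)
    (K K₁ : Subgroup G) (hK : Subgroup.IsComplement' H K) (hK₁ : Subgroup.IsComplement' H K₁) :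
    ∃ h ∈ H, K₁ = K.map (MulAut.conj h).toMonoidHom := by
  obtain ⟨α, hα⟩ := stabilizer_eq_of_complement H hcop K hK
  obtain ⟨β, hβ⟩ := stabilizer_eq_of_complement H hcop K₁ hK₁
  obtain ⟨h, hh⟩ := Subgroup.exists_smul_eq hcop α β
  refine ⟨(h : G), h.2, ?_⟩
  rw [← hα, ← hβ, ← hh]
  exact MulAction.stabilizer_smul_eq_stabilizer_map_conj (h : G) α



theorem card_sup_of_coprime {G : Type*} [Group G] [Finite G] (Z K : Subgroup G) [Z.Normal]
    (hcop : Nat.Coprime (Nat.card Z) (Nat.card K)) :
    Nat.card (Z ⊔ K : Subgroup G) = Nat.card Z * Nat.card K := by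
  have hdis : Z ⊓ K = ⊥ := (Subgroup.disjoint_of_coprime_natCard hcop).eq_bot
  rw [sup_comm, card_sup_normal K Z, ← Subgroup.inf_relIndex_left, inf_comm, hdis,
    Subgroup.relIndex_bot_left]

theorem map_conj_subtype {G : Type*} [Group G] (L : Subgroup G) (h : L) (K' : Subgroup L) :
    (K'.map (MulAut.conj h).toMonoidHom).map L.subtype =
      (K'.map L.subtype).map (MulAut.conj (h : G)).toMonoidHom := by
  rw [Subgroup.map_map, Subgroup.map_map]
  congr 1

theorem sz_conj_abelian_rel {G : Type*} [Group G] [Finite G] (Z : Subgroup G) [Z.Normal]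
    [IsMulCommutative Z] (K K₁ : Subgroup G) (hcard : Nat.card K = Nat.card K₁)
    (hcop : Nat.Coprime (Nat.card Z) (Nat.card K)) (hle : K₁ ≤ Z ⊔ K) :
    ∃ z ∈ Z, K₁ = K.map (MulAut.conj z).toMonoidHom := by
  have hZL : Z ≤ Z ⊔ K := le_sup_left
  have hKL : K ≤ Z ⊔ K := le_sup_right
  have hcL : Nat.card (Z ⊔ K : Subgroup G) = Nat.card Z * Nat.card K := card_sup_of_coprime Z K hcop
  have c1 : Nat.card (Z.subgroupOf (Z ⊔ K)) = Nat.card Z :=
    Nat.card_congr (Subgroup.subgroupOfEquivOfLe hZL).toEquiv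
  have c2 : Nat.card (K.subgroupOf (Z ⊔ K)) = Nat.card K :=
    Nat.card_congr (Subgroup.subgroupOfEquivOfLe hKL).toEquiv
  have c3 : Nat.card (K₁.subgroupOf (Z ⊔ K)) = Nat.card K₁ :=
    Nat.card_congr (Subgroup.subgroupOfEquivOfLe hle).toEquiv
  have hcomp : Subgroup.IsComplement' (Z.subgroupOf (Z ⊔ K)) (K.subgroupOf (Z ⊔ K)) := by
    apply Subgroup.isComplement'_of_coprime
    · rw [c1, c2, hcL]
    · rw [c1, c2]; exact hcop
  have hcomp₁ : Subgroup.IsComplement' (Z.subgroupOf (Z ⊔ K)) (K₁.subgroupOf (Z ⊔ K)) := by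
    apply Subgroup.isComplement'_of_coprime
    · rw [c1, c3, hcL, hcard]
    · rw [c1, c3, ← hcard]; exact hcop
  have hidx : (Z.subgroupOf (Z ⊔ K)).index = Nat.card K := by
    rw [hcomp.symm.index_eq_card, c2]
  have hcop' : Nat.Coprime (Nat.card (Z.subgroupOf (Z ⊔ K))) (Z.subgroupOf (Z ⊔ K)).index := by
    rw [c1, hidx]; exact hcop
  obtain ⟨h, hh, hconj⟩ := sz_conj_abelian (Z.subgroupOf (Z ⊔ K)) hcop' _ _ hcomp hcomp₁
  refine ⟨(h : G), Subgroup.mem_subgroupOf.1 hh, ?_⟩
  have e1 : (K₁.subgroupOf (Z ⊔ K)).map (Z ⊔ K).subtype = K₁ := by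
    rw [Subgroup.subgroupOf_map_subtype, inf_eq_left.2 hle]
  have e2 : (K.subgroupOf (Z ⊔ K)).map (Z ⊔ K).subtype = K := by
    rw [Subgroup.subgroupOf_map_subtype, inf_eq_left.2 hKL]
  rw [← e1, hconj, map_conj_subtype, e2]



theorem card_map_of_disjoint_ker {G G' : Type*} [Group G] [Group G'] (f : G →* G')
    (K : Subgroup G) (h : K ⊓ f.ker = ⊥) : Nat.card (K.map f) = Nat.card K := by
  have hinj : Function.Injective (f.domRestrict K) := by
    rw [injective_iff_map_eq_one]
    intro x hx
    have hx' : f (x : G) = 1 := hx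
    have h1 : (x : G) ∈ K ⊓ f.ker := ⟨x.2, hx'⟩
    rw [h] at h1
    exact Subtype.ext (Subgroup.mem_bot.1 h1)
  rw [← MonoidHom.domRestrict_range]
  exact (Nat.card_congr (MonoidHom.ofInjective hinj).toEquiv).symm

theorem map_conj_map {G G' : Type*} [Group G] [Group G'] (f : G →* G') (K : Subgroup G) (x : G) :
    (K.map (MulAut.conj x).toMonoidHom).map f =
      (K.map f).map (MulAut.conj (f x)).toMonoidHom := by
  rw [Subgroup.map_map, Subgroup.map_map]
  congr 1
  ext y
  simp [MulAut.conj_apply]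

theorem card_map_conj' {G : Type*} [Group G] (g : G) (H : Subgroup G) :
    Nat.card (H.map (MulAut.conj g).toMonoidHom) = Nat.card H :=
  (Nat.card_congr (H.equivMapOfInjective (MulAut.conj g).toMonoidHom
    (MulAut.conj g).injective).toEquiv).symm

theorem map_conj_mul {G : Type*} [Group G] (x y : G) (H : Subgroup G) :
    (H.map (MulAut.conj x).toMonoidHom).map (MulAut.conj y).toMonoidHom =
      H.map (MulAut.conj (y * x)).toMonoidHom := by
  rw [Subgroup.map_map]
  congr 1
  ext z
  simp [MulAut.conj_apply, mul_assoc]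

theorem sz_conj_solvable_aux {G : Type*} [Group G] [Finite G] :
    ∀ (n : ℕ) (N : Subgroup G) [N.Normal], Group.IsSolvable N → Nat.card N ≤ n →
    ∀ K K₁ : Subgroup G, Nat.card K = Nat.card K₁ → Nat.Coprime (Nat.card N) (Nat.card K) →
    K₁ ≤ N ⊔ K → ∃ x ∈ N, K₁ = K.map (MulAut.conj x).toMonoidHom := by
  intro n
  induction n with
  | zero =>
    intro N _ _ hn
    have := Nat.card_pos (α := N)
    omega
  | succ n ih =>
    intro N hNn hsol hn K K₁ hcard hcop hle
    by_cases hbot : N = ⊥
    · refine ⟨1, N.one_mem, ?_⟩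
      rw [hbot, bot_sup_eq] at hle
      have h1 : K₁ = K := Subgroup.eq_of_le_of_card_ge hle (by rw [hcard])
      rw [h1]
      ext y
      simp [Subgroup.mem_map]
    · have : Nontrivial N := (Subgroup.nontrivial_iff_ne_bot N).2 hbot
      have hDN : ⁅N, N⁆ < N := by
        have h1 := Group.IsSolvable.commutator_lt_top_of_nontrivial N
        rw [← Subgroup.map_subtype_commutator]
        have h2 : (⊤ : Subgroup N).map N.subtype = N := by
          rw [← MonoidHom.range_eq_map, Subgroup.range_subtype]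
        conv_rhs => rw [← h2]
        exact (Subgroup.map_lt_map_iff_of_injective N.subtype_injective).2 h1
      have hDnorm : (⁅N, N⁆ : Subgroup G).Normal := Subgroup.commutator_normal N N
      have hDcard : Nat.card (⁅N, N⁆ : Subgroup G) ≤ n := by
        have h1 : Nat.card (⁅N, N⁆ : Subgroup G) < Nat.card N := by
          by_contra hcon
          push Not at hcon
          exact hDN.ne (Subgroup.eq_of_le_of_card_ge hDN.le hcon)
        omega
      have hDdvd : Nat.card (⁅N, N⁆ : Subgroup G) ∣ Nat.card N := Subgroup.card_dvd_of_le hDN.le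
      have hDsol : Group.IsSolvable (⁅N, N⁆ : Subgroup G) :=
        Group.isSolvable_of_isSolvable_injective (f := Subgroup.inclusion hDN.le)
          (Subgroup.inclusion_injective hDN.le)
      set f := QuotientGroup.mk' (⁅N, N⁆ : Subgroup G) with hf
      have hker : f.ker = ⁅N, N⁆ := QuotientGroup.ker_mk' _
      have hNbar : (N.map f).Normal := hNn.map f (QuotientGroup.mk'_surjective _)
      have hNab : IsMulCommutative (N.map f) := by
        refine ⟨⟨?_⟩⟩
        rintro ⟨a, ha⟩ ⟨b, hb⟩
        obtain ⟨x, hx, rfl⟩ := Subgroup.mem_map.1 ha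
        obtain ⟨y, hy, rfl⟩ := Subgroup.mem_map.1 hb
        apply Subtype.ext
        show f x * f y = f y * f x
        have h1 : ⁅x, y⁆ ∈ f.ker := by
          rw [hker]; exact Subgroup.commutator_mem_commutator hx hy
        rw [MonoidHom.mem_ker, commutatorElement_def, map_mul, map_mul, map_mul, map_inv,
          map_inv] at h1
        calc f x * f y = (f x * f y * (f x)⁻¹ * (f y)⁻¹) * (f y * f x) := by group
          _ = f y * f x := by rw [h1, one_mul]
      have hdisj : ∀ K' : Subgroup G, Nat.card K' = Nat.card K → K' ⊓ f.ker = ⊥ := by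
        intro K' hK'
        rw [hker]
        apply (Subgroup.disjoint_of_coprime_natCard _).eq_bot
        rw [hK']
        exact (Nat.Coprime.coprime_dvd_left hDdvd hcop).symm
      have hcK : Nat.card (K.map f) = Nat.card K := card_map_of_disjoint_ker f K (hdisj K rfl)
      have hcK₁ : Nat.card (K₁.map f) = Nat.card K₁ :=
        card_map_of_disjoint_ker f K₁ (hdisj K₁ hcard.symm)
      have hle' : K₁.map f ≤ N.map f ⊔ K.map f := by
        rw [← Subgroup.map_sup]; exact Subgroup.map_mono hle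
      have hcop' : Nat.Coprime (Nat.card (N.map f)) (Nat.card (K.map f)) := by
        rw [hcK]
        exact Nat.Coprime.coprime_dvd_left (Subgroup.card_map_dvd N f) hcop
      obtain ⟨z, hz, hconj⟩ := sz_conj_abelian_rel (N.map f) (K.map f) (K₁.map f)
        (by rw [hcK, hcK₁, hcard]) hcop' hle'
      obtain ⟨x₁, hx₁, rfl⟩ := Subgroup.mem_map.1 hz
      rw [← map_conj_map] at hconj
      have hle2 : K₁ ≤ ⁅N, N⁆ ⊔ K.map (MulAut.conj x₁).toMonoidHom := by
        have h1 : K₁ ≤ Subgroup.comap f (Subgroup.map f K₁) := Subgroup.le_comap_map f K₁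
        rw [hconj, Subgroup.comap_map_eq, hker, sup_comm] at h1
        exact h1
      have hc' : Nat.card (K.map (MulAut.conj x₁).toMonoidHom) = Nat.card K₁ := by
        rw [card_map_conj', hcard]
      have hcop2 : Nat.Coprime (Nat.card (⁅N, N⁆ : Subgroup G))
          (Nat.card (K.map (MulAut.conj x₁).toMonoidHom)) := by
        rw [card_map_conj']
        exact Nat.Coprime.coprime_dvd_left hDdvd hcop
      obtain ⟨y, hy, hfin⟩ := ih ⁅N, N⁆ hDsol hDcard _ K₁ hc' hcop2 hle2
      refine ⟨y * x₁, N.mul_mem (hDN.le hy) hx₁, ?_⟩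
      rw [hfin, map_conj_mul]

theorem sz_conj_solvable {G : Type*} [Group G] [Finite G] (N : Subgroup G) [N.Normal]
    (hsol : Group.IsSolvable N) (K K₁ : Subgroup G) (hcard : Nat.card K = Nat.card K₁)
    (hcop : Nat.Coprime (Nat.card N) (Nat.card K)) (hle : K₁ ≤ N ⊔ K) :
    ∃ x ∈ N, K₁ = K.map (MulAut.conj x).toMonoidHom :=
  sz_conj_solvable_aux (Nat.card N) N hsol le_rfl K K₁ hcard hcop hle

end Cfsg.Agent.Lib.Helper22
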