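import Mathlib
import Cfsg.Agent.Lib.helper8.RSM.Defs
import Cfsg.Agent.Lib.helper4.RSMC1

/-!
# Project RSM (helper8), rows C2 (`x_inv`), C3 (`x_comm_U2`), C4 (`x_comm_mem_U2`):
second copies under own names, exact Skel statements.
-/

set_option autoImplicit false

namespace Cfsg.Agent.Lib.helper8.RSM

open scoped commutatorElement

universe u v w

variable {G : Type u} [Group G] {K : Type v} [Field K] [Fintype K] {m : ℕ}

/-- the first parameter is additive -/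
theorem rsmc4_mul_fst (RU : ReeU G K m) (t u v t' u' v' : K) :
    ∃ a b : K, RU.x t u v * RU.x t' u' v' = RU.x (t + t') a b :=
  ⟨_, _, RU.x_mul t u v t' u' v'⟩

/-- C2 (second copy). -/
theorem rsmc2_h22 (RU : ReeU G K m) (t u v : K) :
    ∃ u' v' : K, (RU.x t u v)⁻¹ = RU.x (-t) u' v' := by
  refine ⟨t * ((-t) ^ 3 ^ m) ^ 3 - u, -v - t * u + 2 * t ^ 2 * ((-t) ^ 3 ^ m) ^ 3, ?_⟩
  apply inv_eq_of_mul_eq_one_right
  rw [RU.x_mul, ← (x_basic RU).1]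
  apply rsmc1_congr RU <;> ring

/-- C3 (second copy). -/
theorem rsmc3_h22 (RU : ReeU G K m) (t u v u' v' : K) :
    ⁅RU.x t u v, RU.x 0 u' v'⁆ = RU.x 0 0 (t * u') := by
  have h : RU.x t u v * RU.x 0 u' v' = RU.x 0 0 (t * u') * (RU.x 0 u' v' * RU.x t u v) := by
    rw [rsmc1_right, rsmc1_left, rsmc1_left]
    apply rsmc1_congr RU <;> ring
  rw [commutatorElement_def, h]
  group

/-- C4 (second copy). -/
theorem rsmc4_h22 (RU : ReeU G K m) (g g' : G) (hg : RU.InU g) (hg' : RU.InU g') :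
    RU.InU2 ⁅g, g'⁆ ∧ RU.InU (g * g') ∧ RU.InU g⁻¹ := by
  obtain ⟨t, u, v, rfl⟩ := hg
  obtain ⟨t', u', v', rfl⟩ := hg'
  refine ⟨?_, ?_, ?_⟩
  · obtain ⟨a, b, hi⟩ := rsmc2_h22 RU t u v
    obtain ⟨a', b', hi'⟩ := rsmc2_h22 RU t' u' v'
    obtain ⟨a1, b1, h1⟩ := rsmc4_mul_fst RU t u v t' u' v'
    obtain ⟨a2, b2, h2⟩ := rsmc4_mul_fst RU (t + t') a1 b1 (-t) a b
    obtain ⟨a3, b3, h3⟩ := rsmc4_mul_fst RU (t + t' + -t) a2 b2 (-t') a' b'
    refine ⟨a3, b3, ?_⟩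
    rw [commutatorElement_def, hi, hi', h1, h2, h3]
    apply rsmc1_congr RU <;> ring
  · obtain ⟨a1, b1, h1⟩ := rsmc4_mul_fst RU t u v t' u' v'
    exact ⟨_, _, _, h1⟩
  · obtain ⟨a, b, hi⟩ := rsmc2_h22 RU t u v
    exact ⟨_, _, _, hi⟩

end Cfsg.Agent.Lib.helper8.RSM
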