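import Mathlib
import Cfsg.Agent.Lib.Helper18.SDM.Defs
import Cfsg.Agent.Lib.Helper18.SDM.Defs2
import Cfsg.Agent.Lib.Helper10.SDMR0c

/-!
# Project SDM, row E3: `diag_step_row`, `SgSet_subset_BQ`.
-/

set_option autoImplicit false
set_option linter.unusedSectionVars false
set_option linter.unusedVariables false

namespace Cfsg.Agent.Lib.Helper18.QBN

open Cfsg.Agent.Lib.helper14.UBN QuadraticMap

universe u v

variable {F : Type u} [Field F] {W : Type v} [AddCommGroup W] [Module F W] {n : ℕ}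

theorem sdme3_xv_ne_zero (k : Fin n) : (xv W k : QV F n W) ≠ 0 := by
  intro h
  have h1 : (xv W k : QV F n W).1 k = 1 := by rw [xv_fst, if_pos rfl]
  rw [h] at h1
  exact zero_ne_one h1

/-- [ROW E3] clearing `g x_{rv a}` with a positive Siegel element centred at `x_a` -/
theorem diag_step_row (hn : Even n) (Q₀ : QuadraticForm F W)
    (j : ℕ) (hj : j < n / 2) (a : Fin n) (ha : rk a = j) (g : GQ n Q₀) (hg : DiagOut j g)
    (hc : ∃ c : F, le g (xv W a) = c • xv W a) :
    ∃ h ∈ SgSet hn Q₀, DiagOut (j + 1) (h * g) := by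
  obtain ⟨c, hc⟩ := hc
  obtain ⟨z, hz⟩ : ∃ z : QV F n W, z = le g (xv W (rv a)) := ⟨_, rfl⟩
  obtain ⟨μ, hμ⟩ : ∃ μ : F, μ = z.1 (rv a) := ⟨_, rfl⟩
  have hra := rk_add_rv a
  have hraa : rv a ≠ a := rv_ne_of_even hn a
  have hnn : 2 * j + 2 ≤ n := by
    obtain ⟨m, hm⟩ := hn
    omega
  -- `c * μ = 1`
  have hcμ : c * μ = 1 := by
    have h1 : polar (frQ n Q₀) z (c • xv W a) = c * μ := by
      rw [polar_smul_right, polar_xv hn, smul_eq_mul, hμ]
    rw [← h1, ← hc, hz, le_polar, polar_xv hn, xv_fst, if_pos rfl]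
  have hμ0 : μ ≠ 0 := by
    intro h0
    rw [h0, mul_zero] at hcμ
    exact zero_ne_one hcμ
  -- the outer coordinates of `z` vanish
  have hout : ∀ i : Fin n, (rk i < j ∨ rk (rv i) < j) → z.1 i = 0 := by
    intro i hi
    have hi' : rk (rv i) < j ∨ rk (rv (rv i)) < j := by
      rw [rv_rv]
      exact hi.symm
    obtain ⟨c', hc'⟩ := hg (rv i) hi'
    have hc'0 : c' ≠ 0 := by
      intro h0
      rw [h0, zero_smul] at hc'
      exact sdme3_xv_ne_zero (rv i) ((le g).map_eq_zero_iff.mp hc')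
    have h1 : polar (frQ n Q₀) z (c' • xv W (rv i)) = c' * z.1 i := by
      rw [polar_smul_right, polar_xv hn, rv_rv, smul_eq_mul]
    have h2 : polar (frQ n Q₀) z (c' • xv W (rv i)) = 0 := by
      rw [← hc', hz, le_polar, polar_xv hn, rv_rv, xv_fst, if_neg]
      intro e
      rw [e, rv_rv] at hi
      omega
    rw [h1] at h2
    exact (mul_eq_zero.mp h2).resolve_left hc'0
  -- the middle part of `z`
  obtain ⟨m, hm⟩ : ∃ m : QV F n W, m = z - z.1 a • xv W a - μ • xv W (rv a) := ⟨_, rfl⟩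
  have hm1 : ∀ i : Fin n, m.1 i =
      z.1 i - z.1 a * (if i = a then 1 else 0) - μ * (if i = rv a then 1 else 0) := by
    intro i
    rw [hm]
    simp only [Prod.fst_sub, Prod.smul_fst, Pi.sub_apply, Pi.smul_apply, xv_fst, smul_eq_mul]
  have hm0 : ∀ i : Fin n, (i = a ∨ i = rv a ∨ rk i < j ∨ rk (rv i) < j) → m.1 i = 0 := by
    intro i hi
    rw [hm1]
    rcases hi with h | h | hi
    · rw [h, if_pos rfl, if_neg hraa.symm]
      ring
    · rw [h, if_neg hraa, if_pos rfl, ← hμ]
      ring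
    · have h1 : i ≠ a := by
        intro e
        rw [e] at hi
        omega
      have h2 : i ≠ rv a := by
        intro e
        rw [e, rv_rv] at hi
        omega
      rw [if_neg h1, if_neg h2, hout i hi]
      ring
  obtain ⟨y, hy⟩ : ∃ y : QV F n W, y = c • m := ⟨_, rfl⟩
  have hy0 : ∀ i : Fin n, (i = a ∨ i = rv a ∨ rk i < j ∨ rk (rv i) < j) → y.1 i = 0 := by
    intro i hi
    rw [hy, Prod.smul_fst, Pi.smul_apply, hm0 i hi, smul_zero]
  have hya : y.1 (rv a) = 0 := hy0 (rv a) (Or.inr (Or.inl rfl))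
  have hμy : μ • y = m := by rw [hy, smul_smul, mul_comm, hcμ, one_smul]
  -- the Siegel element fixes the frame vectors `x_i`, `i ≠ rv a`, `y ⟂ x_i`
  have hfix : ∀ i : Fin n, i ≠ rv a → y.1 (rv i) = 0 →
      le (sgX hn Q₀ a y hya) (xv W i) = xv W i := by
    intro i hi hyi
    rw [sgX_apply, xv_fst, if_neg (fun e => hi e.symm), polar_comm, polar_xv hn, hyi, zero_smul,
      zero_smul, add_zero, sub_zero]
  -- the image of `z`
  have hhz : le (sgX hn Q₀ a y hya) z = μ • xv W (rv a) := by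
    have hQz : frQ n Q₀ z = 0 := by rw [hz, le_Q, frQ_xv Q₀ hn]
    obtain ⟨lam, hlam⟩ : ∃ lam : F, lam = z.1 a + polar (frQ n Q₀) z y - μ * frQ n Q₀ y := ⟨_, rfl⟩
    have h1 : le (sgX hn Q₀ a y hya) z = μ • xv W (rv a) + lam • xv W a := by
      rw [sgX_apply, ← hμ, smul_add, hμy, hlam, hm]
      module
    have h2 : frQ n Q₀ (μ • xv W (rv a) + lam • xv W a) = μ * lam := by
      rw [QuadraticMap.map_add (⇑(frQ n Q₀)) (μ • xv W (rv a)) (lam • xv W a),
        QuadraticMap.map_smul, QuadraticMap.map_smul, frQ_xv Q₀ hn,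
        frQ_xv Q₀ hn, polar_smul_left, polar_smul_right, polar_xv hn, xv_fst, if_pos rfl]
      simp
    have h3 : μ * lam = 0 := by rw [← h2, ← h1, le_Q, hQz]
    have h4 : lam = 0 := (mul_eq_zero.mp h3).resolve_left hμ0
    rw [h1, h4, zero_smul, add_zero]
  refine ⟨sgX hn Q₀ a y hya, ⟨a, y, hya, ?_, ?_, ?_, rfl⟩, ?_⟩
  · omega
  · intro i hi
    apply hy0
    rcases Nat.eq_or_lt_of_le hi with h | h
    · exact Or.inl (rk_injective h)
    · exact Or.inr (Or.inr (Or.inl (by omega)))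
  · intro i hi
    apply hy0
    rcases Nat.eq_or_lt_of_le hi with h | h
    · exact Or.inr (Or.inl (rk_injective h.symm))
    · right; right; right
      have h5 := rk_add_rv i
      omega
  · intro i hi
    by_cases hout_i : rk i < j ∨ rk (rv i) < j
    · obtain ⟨ci, hci⟩ := hg i hout_i
      refine ⟨ci, ?_⟩
      have h6 : i ≠ rv a := by
        intro e
        rw [e, rv_rv] at hout_i
        omega
      have h7 : y.1 (rv i) = 0 := by
        apply hy0
        right; right
        rw [rv_rv]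
        exact hout_i.symm
      rw [le_mul, hci, map_smul, hfix i h6 h7]
    · have h3 : rk i = j ∨ rk (rv i) = j := by omega
      rcases h3 with h3 | h3
      · have hia : i = a := rk_injective (h3.trans ha.symm)
        refine ⟨c, ?_⟩
        rw [hia, le_mul, hc, map_smul, hfix a hraa.symm hya]
      · have hia : rv i = a := rk_injective (h3.trans ha.symm)
        have hia' : i = rv a := by rw [← hia, rv_rv]
        refine ⟨μ, ?_⟩
        rw [hia', le_mul, ← hz]
        exact hhz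

/-- [ROW E3] -/
theorem SgSet_subset_BQ (hn : Even n) (Q₀ : QuadraticForm F W) (h : GQ n Q₀) (hh : h ∈ SgSet hn Q₀) :
    h ∈ BQ n Q₀ := by
  obtain ⟨a, y, hy, ha, _, hy2, rfl⟩ := hh
  exact sgX_mem_BQ hn Q₀ a y hy ha hy2

end Cfsg.Agent.Lib.Helper18.QBN
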