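import Mathlib
import Cfsg.Agent.Lib.Helper18.SDM.Defs3

/-!
# Project SDM, row U3 (core): a diagonal unitriangular element is trivial; `UQ = {g ∈ BQ : IsUniQ g}`;
`BQ` normalises `UQ`.  The statements of the rows B3, U1, U2, E6 enter as hypotheses.
-/

set_option autoImplicit false
set_option linter.unusedSectionVars false
set_option linter.unusedVariables false

namespace Cfsg.Agent.Lib.Helper18.QBN

open Cfsg.Agent.Lib.helper14.UBN QuadraticMap

universe u v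

variable {F : Type u} [Field F] {W : Type v} [AddCommGroup W] [Module F W] {n : ℕ}

/-- a diagonal element with unit diagonal on the lower half and trivial action on `W` is trivial -/
theorem sdmu3_eq_one (hn : Even n) {Q₀ : QuadraticForm F W} (g : GQ n Q₀)
    (hT : IsPermOf g 1) (hg1 : IsUniQ g) : g = 1 := by
  -- the lower half
  have hlow : ∀ i : Fin n, rk i < n / 2 → le g (xv W i) = xv W i := by
    intro i hi
    obtain ⟨c, hc⟩ := hT i
    rw [Equiv.Perm.one_apply] at hc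
    have h1 := hg1.1 i hi
    rw [hc, Prod.smul_fst, Pi.smul_apply, xv_fst, if_pos rfl, smul_eq_mul, mul_one] at h1
    rw [hc, h1, one_smul]
  -- all frame vectors
  have hall : ∀ i : Fin n, le g (xv W i) = xv W i := by
    intro i
    by_cases hi : rk i < n / 2
    · exact hlow i hi
    · have h2 := rk_add_rv i
      have h3 := rk_lt i
      have h4 : rk (rv i) < n / 2 := by
        obtain ⟨m, hm⟩ := hn
        omega
      obtain ⟨c, hc⟩ := hT i
      rw [Equiv.Perm.one_apply] at hc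
      have h5 : polar (frQ n Q₀) (le g (xv W i)) (le g (xv W (rv i))) = 1 := by
        rw [le_polar, polar_xv hn, rv_rv, xv_fst, if_pos rfl]
      rw [hlow (rv i) h4, hc, polar_smul_left, polar_xv hn, rv_rv, xv_fst, if_pos rfl, smul_eq_mul,
        mul_one] at h5
      rw [hc, h5, one_smul]
  -- the anisotropic part
  have hw : ∀ w : W, le g (wv F n w) = wv F n w := by
    intro w
    apply Prod.ext
    · funext i
      have h1 : (le g (wv F n w)).1 i = polar (frQ n Q₀) (le g (wv F n w)) (le g (xv W (rv i))) := by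
        rw [hall, polar_xv hn, rv_rv]
      rw [h1, le_polar, polar_xv hn, rv_rv]
    · rw [hg1.2 w, wv_snd]
  apply GQ_ext
  intro v
  rw [le_one]
  conv_lhs => rw [decomp v]
  rw [map_add, map_sum, hw]
  conv_rhs => rw [decomp v]
  congr 1
  apply Finset.sum_congr rfl
  intro i _
  rw [map_smul, hall]

/-- core of `eq_one_of_isUniQ_of_mem_TQ` -/
theorem sdmu3_eq_one_core (hn : Even n) {Q₀ : QuadraticForm F W}
    (hTQ : ∀ g : GQ n Q₀, g ∈ TQ n Q₀ ↔ IsPermOf g 1)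
    (g : GQ n Q₀) (hg : g ∈ TQ n Q₀) (hg1 : IsUniQ g) : g = 1 :=
  sdmu3_eq_one hn g ((hTQ g).mp hg) hg1

/-- core of `mem_UQ_iff` -/
theorem sdmu3_mem_UQ_iff_core (hn : Even n) (Q₀ : QuadraticForm F W)
    (hTQ : ∀ g : GQ n Q₀, g ∈ TQ n Q₀ ↔ IsPermOf g 1)
    (hmul : ∀ g h : GQ n Q₀, g ∈ BQ n Q₀ → h ∈ BQ n Q₀ → IsUniQ g → IsUniQ h → IsUniQ (g * h))
    (hinv : ∀ g : GQ n Q₀, g ∈ BQ n Q₀ → IsUniQ g → IsUniQ g⁻¹)
    (hUB : UQ hn Q₀ ≤ BQ n Q₀) (hUU : ∀ g : GQ n Q₀, g ∈ UQ hn Q₀ → IsUniQ g)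
    (hE6 : ∀ b : GQ n Q₀, b ∈ BQ n Q₀ →
      ∃ u ∈ Subgroup.closure (SgSet hn Q₀), ∃ t ∈ TQ n Q₀, b = u * t)
    (g : GQ n Q₀) : g ∈ UQ hn Q₀ ↔ g ∈ BQ n Q₀ ∧ IsUniQ g := by
  constructor
  · intro hg
    exact ⟨hUB hg, hUU g hg⟩
  · rintro ⟨hgB, hg1⟩
    obtain ⟨u, hu, t, ht, hgut⟩ := hE6 g hgB
    have huU : u ∈ UQ hn Q₀ := hu
    have huB : u ∈ BQ n Q₀ := hUB huU
    have hui : IsUniQ u⁻¹ := hinv u huB (hUU u huU)
    have ht' : t = u⁻¹ * g := by rw [hgut, inv_mul_cancel_left]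
    have ht1 : IsUniQ t := by
      rw [ht']
      exact hmul u⁻¹ g ((BQ n Q₀).inv_mem huB) hgB hui hg1
    have h1 : t = 1 := sdmu3_eq_one_core hn hTQ t ht ht1
    rw [hgut, h1, mul_one]
    exact huU

/-- core of `UQ_conj_mem` -/
theorem sdmu3_conj_core (hn : Even n) (Q₀ : QuadraticForm F W)
    (hmem : ∀ g : GQ n Q₀, g ∈ UQ hn Q₀ ↔ g ∈ BQ n Q₀ ∧ IsUniQ g)
    (hconj : ∀ b g : GQ n Q₀, b ∈ BQ n Q₀ → g ∈ BQ n Q₀ → IsUniQ g → IsUniQ (b * g * b⁻¹))
    (b u : GQ n Q₀) (hb : b ∈ BQ n Q₀) (hu : u ∈ UQ hn Q₀) : b * u * b⁻¹ ∈ UQ hn Q₀ := by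
  have h1 := (hmem u).mp hu
  rw [hmem]
  exact ⟨(BQ n Q₀).mul_mem ((BQ n Q₀).mul_mem hb h1.1) ((BQ n Q₀).inv_mem hb),
    hconj b u hb h1.1 h1.2⟩

end Cfsg.Agent.Lib.Helper18.QBN
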