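import Mathlib
import Cfsg.Agent.Lib.Helper18.SDM.Defs3
import Cfsg.Agent.Lib.Helper22.SDMU3core
import Cfsg.Agent.Lib.Helper22.SDME3
import Cfsg.Agent.Lib.Helper10.SDMB3
import Cfsg.Agent.Lib.helper2.SDMU1
import Cfsg.Agent.Lib.helper2.SDMU2
import Cfsg.Agent.Lib.helper15.SDME6core

/-!
# Project SDM, row U3: `eq_one_of_isUniQ_of_mem_TQ`, `mem_UQ_iff`, `UQ_conj_mem` (verbatim from `Helper18/SDM/Skel2.lean.txt`).
-/

set_option autoImplicit false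
set_option linter.unusedSectionVars false
set_option linter.unusedVariables false

namespace Cfsg.Agent.Lib.Helper18.QBN

open Cfsg.Agent.Lib.helper14.UBN QuadraticMap

universe u v

variable {F : Type u} [Field F] {W : Type v} [AddCommGroup W] [Module F W] {n : ℕ}

/-- [ROW U3] a diagonal unitriangular element is trivial -/
theorem eq_one_of_isUniQ_of_mem_TQ (hn : Even n) {Q₀ : QuadraticForm F W} (g : GQ n Q₀)
    (hg : g ∈ TQ n Q₀) (hg1 : IsUniQ g) : g = 1 :=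
  sdmu3_eq_one_core hn (fun g => mem_TQ_iff hn g) g hg hg1

/-- [ROW U3] (E6 `BQ_eq_Sg_mul_T` + the previous) -/
theorem mem_UQ_iff (hn : Even n) (Q₀ : QuadraticForm F W) (g : GQ n Q₀) :
    g ∈ UQ hn Q₀ ↔ g ∈ BQ n Q₀ ∧ IsUniQ g :=
  sdmu3_mem_UQ_iff_core hn Q₀ (fun g => mem_TQ_iff hn g)
    (fun g h hg hh hg1 hh1 => isUniQ_mul hn g h hg hh hg1 hh1)
    (fun g hg hg1 => isUniQ_inv hn g hg hg1)
    (UQ_le_BQ hn Q₀) (fun g hg => UQ_isUniQ hn Q₀ g hg)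
    (fun b hb => sdme6_core hn Q₀ (fun j hj a ha g hg hc => diag_step_row hn Q₀ j hj a ha g hg hc)
      (fun h hh => SgSet_subset_BQ hn Q₀ h hh) (fun g => mem_TQ_iff hn g) b hb) g

/-- [ROW U3] -/
theorem UQ_conj_mem (hn : Even n) (Q₀ : QuadraticForm F W) (b u : GQ n Q₀) (hb : b ∈ BQ n Q₀)
    (hu : u ∈ UQ hn Q₀) : b * u * b⁻¹ ∈ UQ hn Q₀ :=
  sdmu3_conj_core hn Q₀ (fun g => mem_UQ_iff hn Q₀ g)
    (fun b g hb hg hg1 => isUniQ_conj hn b g hb hg hg1) b u hb hu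

end Cfsg.Agent.Lib.Helper18.QBN
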