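import Mathlib
import Cfsg.Agent.Lib.Helper18.SDM.Defs
import Cfsg.Agent.Lib.Helper20.SDMB0
import Cfsg.Agent.Lib.Helper20.SDMB1

/-!
# Project SDM, row B4: `BQ_perp`, `BQ_W`.
-/

set_option autoImplicit false
set_option linter.unusedSectionVars false
set_option linter.unusedVariables false

namespace Cfsg.Agent.Lib.Helper18.QBN

open Cfsg.Agent.Lib.helper14.UBN QuadraticMap

universe u v

variable {F : Type u} [Field F] {W : Type v} [AddCommGroup W] [Module F W] {n : ℕ}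

/-- `polar v u = 0` when `v ∈ V_j^⊥` and `u ∈ V_j` -/
theorem sdmb4_polar_zero (hn : Even n) (Q₀ : QuadraticForm F W) (j : ℕ) (v u : QV F n W)
    (hv : ∀ i : Fin n, rk (rv i) < j → v.1 i = 0) (hu : u ∈ Vfl F n W j) :
    polar (frQ n Q₀) v u = 0 := by
  rw [mem_Vfl] at hu
  rw [frQ_polar hn, hu.1, polar_zero_right, add_zero]
  apply Finset.sum_eq_zero
  intro i _
  by_cases h : rk (rv i) < j
  · rw [hv i h, zero_mul]
  · rw [hu.2 (rv i) (not_lt.mp h), mul_zero]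

/-- [ROW B4] `B` stabilises the orthogonal complements `V_j^⊥ = {v : v.1 i = 0 for rk (rv i) < j}` -/
theorem BQ_perp (hn : Even n) {Q₀ : QuadraticForm F W} (b : GQ n Q₀) (hb : b ∈ BQ n Q₀) (j : ℕ)
    (hj : j ≤ n / 2) (v : QV F n W) (hv : ∀ i : Fin n, rk (rv i) < j → v.1 i = 0) :
    ∀ i : Fin n, rk (rv i) < j → (le b v).1 i = 0 := by
  intro i hi
  have h1 : (le b v).1 i = polar (frQ n Q₀) (le b v) (xv W (rv i)) := by
    rw [polar_xv hn, rv_rv]
  have h2 : le b⁻¹ (xv W (rv i)) ∈ Vfl F n W j := hb.2 j hj _ (xv_mem_Vfl (rv i) j hi)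
  have h3 : polar (frQ n Q₀) (le b v) (xv W (rv i)) =
      polar (frQ n Q₀) v (le b⁻¹ (xv W (rv i))) := by
    rw [← le_polar b v (le b⁻¹ (xv W (rv i))), le_inv_apply]
  rw [h1, h3]
  exact sdmb4_polar_zero hn Q₀ j v _ hv h2

/-- [ROW B4] the isometry of `W` induced by `b ∈ B` on `V_m^⊥/V_m` -/
theorem BQ_W (hn : Even n) {Q₀ : QuadraticForm F W} (b : GQ n Q₀) (hb : b ∈ BQ n Q₀) (w : W) :
    Q₀ (le b (wv F n w)).2 = Q₀ w ∧ (∀ i : Fin n, rk (rv i) < n / 2 → (le b (wv F n w)).1 i = 0) ∧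
    ∃ w' : W, (le b (wv F n w')).2 = w := by
  have key : ∀ (b' : GQ n Q₀), b' ∈ BQ n Q₀ → ∀ w₁ : W,
      ∀ i : Fin n, rk (rv i) < n / 2 → (le b' (wv F n w₁)).1 i = 0 := by
    intro b' hb' w₁
    exact BQ_perp hn b' hb' (n / 2) le_rfl (wv F n w₁) (fun i _ => wv_fst w₁ i)
  refine ⟨?_, key b hb w, ?_⟩
  · have h1 : frQ n Q₀ (le b (wv F n w)) = Q₀ w := by rw [le_Q, frQ_wv]
    rw [frQ_apply] at h1
    have h2 : ∑ j ∈ half n, (le b (wv F n w)).1 j * (le b (wv F n w)).1 (rv j) = 0 := by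
      apply Finset.sum_eq_zero
      intro j hjh
      rw [mem_half] at hjh
      have h3 := rk_add_rv j
      have h4 : rk (rv (rv j)) < n / 2 := by
        rw [rv_rv]
        omega
      rw [key b hb w (rv j) h4, mul_zero]
    rw [h2, zero_add] at h1
    exact h1
  · have hbi : b⁻¹ ∈ BQ n Q₀ := (BQ n Q₀).inv_mem hb
    obtain ⟨z, hz⟩ : ∃ z : QV F n W, z = le b⁻¹ (wv F n w) := ⟨_, rfl⟩
    have hz1 : ∀ i : Fin n, rk (rv i) < n / 2 → z.1 i = 0 := by
      rw [hz]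
      exact key b⁻¹ hbi w
    refine ⟨z.2, ?_⟩
    have hu : z - wv F n z.2 ∈ Vfl F n W (n / 2) := by
      rw [mem_Vfl]
      refine ⟨by rw [Prod.snd_sub, wv_snd, sub_self], fun i hi => ?_⟩
      rw [Prod.fst_sub, Pi.sub_apply, wv_fst, sub_zero]
      apply hz1
      have h3 := rk_add_rv i
      obtain ⟨m, hm⟩ := hn
      have h4 := rk_lt i
      omega
    have hbu : le b (z - wv F n z.2) ∈ Vfl F n W (n / 2) := hb.1 (n / 2) le_rfl _ hu
    rw [mem_Vfl] at hbu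
    have h5 : le b z = wv F n w := by rw [hz, le_inv_apply]
    have h6 := hbu.1
    rw [map_sub, h5, Prod.snd_sub, wv_snd, sub_eq_zero] at h6
    exact h6.symm

end Cfsg.Agent.Lib.Helper18.QBN
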