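import Mathlib
import Cfsg.Agent.Lib.Helper18.SNA.Defs

/-! # SNA-CV (helper18 project S2222): covering step -/

set_option autoImplicit false

namespace Cfsg.Agent.Lib.Helper22.SNA

open Cfsg.Agent.Lib.Helper18.SNA Equiv

/-- the covered permutation is unique -/
theorem cv_covered_unique {β : Type*} (σ : Perm (β × Bool)) (τ τ' : Perm β)
    (h : ∀ x : β × Bool, (σ x).1 = τ x.1) (h' : ∀ x : β × Bool, (σ x).1 = τ' x.1) : τ = τ' := by
  ext b
  have h1 := h (b, false)
  have h2 := h' (b, false)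
  simp only at h1 h2
  rw [← h1, ← h2]

theorem mem_lift_of_covers {β : Type*} (K : Subgroup (Perm β)) (hK : SelfNormIn ⊤ K)
    (g : Perm (β × Bool)) (hg : g ∈ lift (⊤ : Subgroup (Perm β)))
    (h1 : ∀ τ ∈ K, g * diag τ * g⁻¹ ∈ lift K)
    (h2 : ∀ τ ∈ K, g⁻¹ * diag τ * g ∈ lift K) : g ∈ lift K := by
  obtain ⟨γ, -, hγ⟩ := hg
  -- g⁻¹ covers γ⁻¹
  have hγi : ∀ x : β × Bool, (g⁻¹ x).1 = γ⁻¹ x.1 := by
    intro x
    have := hγ (g⁻¹ x)
    simp at this
    rw [this]; simp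
  have hmem : γ ∈ K := by
    apply hK γ (Subgroup.mem_top _)
    intro τ
    constructor
    · intro hτ
      obtain ⟨τ', hτ', hc⟩ := h1 τ hτ
      have : γ * τ * γ⁻¹ = τ' := by
        apply cv_covered_unique (g * diag τ * g⁻¹) _ _ _ hc
        intro x
        simp only [Perm.mul_apply, diag_apply]
        rw [hγ, hγi]
      rw [this]; exact hτ'
    · intro hτ
      obtain ⟨τ', hτ', hc⟩ := h2 _ hτ
      have : γ⁻¹ * (γ * τ * γ⁻¹) * γ = τ' := by
        apply cv_covered_unique (g⁻¹ * diag (γ * τ * γ⁻¹) * g) _ _ _ hc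
        intro x
        simp only [Perm.mul_apply, diag_apply]
        rw [hγi, hγ]
      have e : γ⁻¹ * (γ * τ * γ⁻¹) * γ = τ := by group
      rw [e] at this
      rw [this]; exact hτ'
  exact ⟨γ, hmem, hγ⟩

end Cfsg.Agent.Lib.Helper22.SNA
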