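import Mathlib
import Cfsg.Agent.Lib.Helper18.SNA.Defs

/-! # SNA-LP (helper18 project S2222): the lift of a 2-group is a 2-group -/

set_option autoImplicit false

namespace Cfsg.Agent.Lib.Helper22.SNA

open Cfsg.Agent.Lib.Helper18.SNA Equiv

/-- covering is compatible with powers -/
theorem lp_covers_pow {β : Type*} (σ : Perm (β × Bool)) (τ : Perm β)
    (h : ∀ x : β × Bool, (σ x).1 = τ x.1) (m : ℕ) :
    ∀ x : β × Bool, ((σ ^ m) x).1 = (τ ^ m) x.1 := by
  induction m with
  | zero => intro x; simp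
  | succ m ih =>
    intro x
    rw [pow_succ', pow_succ', Perm.mul_apply, Perm.mul_apply, h, ih]

/-- a permutation preserving every fibre squares to one -/
theorem lp_sq_eq_one {β : Type*} (ρ : Perm (β × Bool)) (h : ∀ x : β × Bool, (ρ x).1 = x.1) :
    ρ ^ 2 = 1 := by
  ext1 x
  rw [pow_two, Perm.mul_apply, Perm.one_apply]
  obtain ⟨b, c⟩ := x
  have h1 := h (b, c)
  by_cases hfix : ρ (b, c) = (b, c)
  · rw [hfix, hfix]
  · -- ρ (b,c) = (b, !c)
    have e1 : ρ (b, c) = (b, !c) := by
      apply Prod.ext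
      · exact h1
      · simp only
        by_contra hne
        apply hfix
        apply Prod.ext
        · exact h1
        · simp only
          cases hc : (ρ (b, c)).2 <;> cases c <;> simp_all
    rw [e1]
    have h2 := h (b, !c)
    apply Prod.ext
    · exact h2
    · simp only
      by_contra hne
      have e2 : ρ (b, !c) = (b, !c) := by
        apply Prod.ext
        · exact h2
        · simp only
          cases hc : (ρ (b, !c)).2 <;> cases c <;> simp_all
      have := ρ.injective (e1.trans e2.symm)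
      simp at this

theorem lift_isPGroup {β : Type*} (K : Subgroup (Perm β)) (hK : IsPGroup 2 K) :
    IsPGroup 2 (lift K) := by
  intro g
  obtain ⟨σ, hσm⟩ := g
  obtain ⟨τ, hτ, hσ⟩ := mem_lift.mp hσm
  obtain ⟨k, hk⟩ := hK ⟨τ, hτ⟩
  have hk' : τ ^ 2 ^ k = 1 := by
    have := congrArg Subtype.val hk
    simpa using this
  refine ⟨k + 1, ?_⟩
  apply Subtype.ext
  have e : ((⟨σ, hσm⟩ : lift K) ^ 2 ^ (k + 1) : lift K).1 = σ ^ 2 ^ (k + 1) := by
    simp
  rw [e, Subgroup.coe_one, pow_succ, pow_mul]
  apply lp_sq_eq_one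
  intro x
  rw [lp_covers_pow σ τ hσ, hk']
  rfl

end Cfsg.Agent.Lib.Helper22.SNA
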