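import Mathlib
import Cfsg.Prelude.Def_LieTypeChar
import Cfsg.Prelude.Def_ChevStructure
import Cfsg.Prelude.Def_ChevF4
import Cfsg.Prelude.Def_LieTwisted
import Cfsg.Agent.Lib.helper8.ChevTF35
import Cfsg.Agent.Lib.helper8.ChevTwU2
import Cfsg.Agent.Lib.helper14.SQD.Defs
import Cfsg.Agent.Lib.helper14.SQD.DefsTF

/-!
Project SQD row TF3: in characteristic 2, `n_w x_s(t) n_w⁻¹ = x_{w s}(t)` exactly (from helper8's `h8nWU_conj`).
-/

set_option autoImplicit false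

namespace Cfsg.Agent.Lib.helper14.SQD

open Cfsg Cfsg.Lie Cfsg.Lie.ChevalleyDatum Cfsg.Agent.Lib.helper8

universe u

/-- TF3 [E] LEAF. -/
theorem nWU_conj_char2 {K : Type u} [Field K] [CharP K 2] (hB : H8Base.{u} chevF4) (w : List ℕ)
    (hw : ∀ i ∈ w, i < chevF4.rank) (s : ℕ) (hs : s < chevF4.nroots) (t : K) :
    (h8nWU chevF4 hB w : GL chevF4.Idx K) * h8xU chevF4 hB s t * (h8nWU chevF4 hB w : GL chevF4.Idx K)⁻¹ =
      h8xU chevF4 hB (h8sW chevF4 w s) t := by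
  have hA := h8reflAll chevF4 h8tf_F4_mem
  obtain ⟨η, hη, h1⟩ := h8nWU_conj (F := K) chevF4 hB hA w hw s hs
  have hη1 : ((η : ℤ) : K) = 1 := by
    rcases hη with rfl | rfl
    · simp
    · rw [Int.cast_neg, Int.cast_one, CharTwo.neg_eq]
  rw [mul_inv_eq_iff_eq_mul]
  apply Units.ext
  rw [Units.val_mul, Units.val_mul, h8xU_val, h8xU_val]
  have := h1 t
  rw [hη1, one_mul] at this
  exact this

end Cfsg.Agent.Lib.helper14.SQD
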