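import Cfsg.Agent.Lib.Helper18.SpE.Defs

set_option autoImplicit false
set_option linter.unusedSectionVars false
set_option linter.unusedVariables false

/-! Project SpE (S2333, coordinator helper18), piece D1: characters of the symmetric matrices
correspond to quadratic forms. -/

namespace Cfsg.Agent.Lib.Helper22.SpED1

open Matrix Cfsg.Agent.Lib.Helper18.SpE

section D

variable {F : Type*} [Field F] [Fintype F] {n : ℕ}

/-- the "alternating" matrices: zero diagonal and `N i j + N j i = 0` -/
def IsAlt (N : Matrix (Fin n) (Fin n) F) : Prop := (∀ i, N i i = 0) ∧ ∀ i j, N i j + N j i = 0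

/-- the strictly upper triangular part -/
def sup (N : Matrix (Fin n) (Fin n) F) : Matrix (Fin n) (Fin n) F :=
  fun i j => if i < j then N i j else 0

theorem eq_sup_sub (N : Matrix (Fin n) (Fin n) F) (hN : IsAlt N) : N = sup N - (sup N)ᵀ := by
  ext i j
  rw [Matrix.sub_apply, Matrix.transpose_apply]
  unfold sup
  rcases lt_trichotomy i j with h | h | h
  · rw [if_pos h, if_neg (not_lt.2 h.le), sub_zero]
  · subst h
    rw [if_neg (lt_irrefl _), sub_zero, hN.1]
  · rw [if_neg (not_lt.2 h.le), if_pos h, zero_sub]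
    have := hN.2 i j
    exact eq_neg_of_add_eq_zero_left this

theorem trace_mul_eq_zero_of_alt (N : Matrix (Fin n) (Fin n) F) (hN : IsAlt N)
    (S : Matrix (Fin n) (Fin n) F) (hS : Sᵀ = S) : Matrix.trace (N * S) = 0 := by
  rw [eq_sup_sub N hN, Matrix.sub_mul, Matrix.trace_sub]
  have h1 : Matrix.trace ((sup N)ᵀ * S) = Matrix.trace (sup N * S) := by
    rw [← Matrix.trace_transpose, Matrix.transpose_mul, Matrix.transpose_transpose, hS,
      Matrix.trace_mul_comm]
  rw [h1, sub_self]

theorem qf_eq_zero_of_alt (N : Matrix (Fin n) (Fin n) F) (hN : IsAlt N) (x : Fin n → F) :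
    x ⬝ᵥ N *ᵥ x = 0 := by
  rw [eq_sup_sub N hN, Matrix.sub_mulVec, dotProduct_sub]
  have h1 : x ⬝ᵥ (sup N)ᵀ *ᵥ x = x ⬝ᵥ sup N *ᵥ x := by
    rw [Matrix.dotProduct_mulVec, Matrix.vecMul_transpose, dotProduct_comm]
  rw [h1, sub_self]

theorem single_dot_single (N : Matrix (Fin n) (Fin n) F) (i j : Fin n) :
    (Pi.single i 1 : Fin n → F) ⬝ᵥ N *ᵥ (Pi.single j 1 : Fin n → F) = N i j := by
  simp

theorem alt_of_qf_eq_zero (N : Matrix (Fin n) (Fin n) F) (h : ∀ x : Fin n → F, x ⬝ᵥ N *ᵥ x = 0) :
    IsAlt N := by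
  have hd : ∀ i, N i i = 0 := by
    intro i
    have := h (Pi.single i 1)
    rwa [single_dot_single] at this
  refine ⟨hd, fun i j => ?_⟩
  have := h (Pi.single i 1 + Pi.single j 1)
  rw [Matrix.mulVec_add, add_dotProduct, dotProduct_add, dotProduct_add, single_dot_single,
    single_dot_single, single_dot_single, single_dot_single, hd i, hd j] at this
  linear_combination this

theorem alt_of_trace (N : Matrix (Fin n) (Fin n) F)
    (h : ∀ S : ↥(SymM n F), Matrix.trace (N * (S : Matrix (Fin n) (Fin n) F)) = 0) : IsAlt N := by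
  constructor
  · intro i
    have h1 : (Matrix.single i i (1 : F))ᵀ = Matrix.single i i 1 := Matrix.transpose_single _ _ _
    have := h ⟨Matrix.single i i 1, h1⟩
    rw [Matrix.trace_mul_single] at this
    simpa using this
  · intro i j
    have := h (symE i j 1)
    change Matrix.trace (N * (Matrix.single i j 1 + Matrix.single j i 1)) = 0 at this
    rw [Matrix.mul_add, Matrix.trace_add, Matrix.trace_mul_single, Matrix.trace_mul_single] at this
    simp only [MulOpposite.smul_eq_mul_unop, MulOpposite.unop_op, mul_one] at this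
    linear_combination this

/-- scalar multiples of symmetric matrices -/
def smulS (c : F) (S : ↥(SymM n F)) : ↥(SymM n F) :=
  ⟨c • (S : Matrix (Fin n) (Fin n) F), by
    rw [mem_SymM, Matrix.transpose_smul]
    congr 1
    exact S.2⟩

theorem trace_eq_zero_of_chT (χ0 : AddChar F ℂ) (h1 : χ0 ≠ 1) (N : Matrix (Fin n) (Fin n) F)
    (h : ∀ S : ↥(SymM n F), χ0 (Matrix.trace (N * (S : Matrix (Fin n) (Fin n) F))) = 1)
    (S : ↥(SymM n F)) : Matrix.trace (N * (S : Matrix (Fin n) (Fin n) F)) = 0 := by
  by_contra ht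
  apply h1
  apply DFunLike.ext
  intro a
  rw [AddChar.one_apply]
  have h2 := h (smulS (a / Matrix.trace (N * (S : Matrix (Fin n) (Fin n) F))) S)
  change χ0 (Matrix.trace (N * ((a / Matrix.trace (N * (S : Matrix (Fin n) (Fin n) F))) •
    (S : Matrix (Fin n) (Fin n) F)))) = 1 at h2
  rw [Matrix.mul_smul, Matrix.trace_smul, smul_eq_mul, div_mul_cancel₀ _ ht] at h2
  exact h2

theorem chT_eq_iff_trace (χ0 : AddChar F ℂ) (h1 : χ0 ≠ 1) (T T' : Matrix (Fin n) (Fin n) F) :
    chT χ0 T = chT χ0 T' ↔
      ∀ S : ↥(SymM n F), Matrix.trace ((T - T') * (S : Matrix (Fin n) (Fin n) F)) = 0 := by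
  constructor
  · intro h
    apply trace_eq_zero_of_chT χ0 h1
    intro S
    have h2 := DFunLike.congr_fun h S
    rw [chT_apply, chT_apply] at h2
    rw [Matrix.sub_mul, Matrix.trace_sub, AddChar.map_sub_eq_div, h2, div_self]
    have h5 : χ0 (Matrix.trace (T' * (S : Matrix (Fin n) (Fin n) F))) *
        χ0 (-Matrix.trace (T' * (S : Matrix (Fin n) (Fin n) F))) = 1 := by
      rw [← AddChar.map_add_eq_mul, add_neg_cancel, AddChar.map_zero_eq_one]
    exact left_ne_zero_of_mul_eq_one h5
  · intro h
    apply DFunLike.ext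
    intro S
    rw [chT_apply, chT_apply]
    have h2 := h S
    rw [Matrix.sub_mul, Matrix.trace_sub, sub_eq_zero] at h2
    rw [h2]

/-- D1 -/
theorem chT_eq_iff (χ0 : AddChar F ℂ) (h1 : χ0 ≠ 1) (T T' : Matrix (Fin n) (Fin n) F) :
    chT χ0 T = chT χ0 T' ↔ qfT T = qfT T' := by
  rw [chT_eq_iff_trace χ0 h1]
  constructor
  · intro h
    have hA := alt_of_trace (T - T') h
    ext x
    rw [qfT_apply, qfT_apply]
    have := qf_eq_zero_of_alt _ hA x
    rw [Matrix.sub_mulVec, dotProduct_sub, sub_eq_zero] at this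
    exact this
  · intro h S
    apply trace_mul_eq_zero_of_alt _ _ _ S.2
    apply alt_of_qf_eq_zero
    intro x
    have h2 := DFunLike.congr_fun h x
    rw [qfT_apply, qfT_apply] at h2
    rw [Matrix.sub_mulVec, dotProduct_sub, h2, sub_self]

/-- the upper triangular part (with diagonal) of a matrix -/
def up (S : Matrix (Fin n) (Fin n) F) : Matrix (Fin n) (Fin n) F :=
  fun i j => if i ≤ j then S i j else 0

theorem up_injective (S S' : ↥(SymM n F))
    (h : IsAlt (up (S : Matrix (Fin n) (Fin n) F) - up (S' : Matrix (Fin n) (Fin n) F))) :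
    S = S' := by
  apply Subtype.ext
  have hu : ∀ i j, i ≤ j → (S : Matrix (Fin n) (Fin n) F) i j = (S' : Matrix (Fin n) (Fin n) F) i j := by
    intro i j hij
    rcases hij.lt_or_eq with hlt | rfl
    · have := h.2 i j
      simp only [Matrix.sub_apply, up, if_pos hij, if_neg (not_le.2 hlt), sub_zero, add_zero] at this
      exact sub_eq_zero.1 this
    · have := h.1 i
      simp only [Matrix.sub_apply, up, if_pos le_rfl] at this
      exact sub_eq_zero.1 this
  ext i j
  rcases le_total i j with hij | hij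
  · exact hu i j hij
  · have h1 : (S : Matrix (Fin n) (Fin n) F) i j = (S : Matrix (Fin n) (Fin n) F) j i := by
      have := congrFun (congrFun S.2 i) j
      rw [Matrix.transpose_apply] at this
      exact this.symm
    have h2 : (S' : Matrix (Fin n) (Fin n) F) i j = (S' : Matrix (Fin n) (Fin n) F) j i := by
      have := congrFun (congrFun S'.2 i) j
      rw [Matrix.transpose_apply] at this
      exact this.symm
    rw [h1, h2]
    exact hu j i hij

/-- D1 -/
theorem chT_surj (χ0 : AddChar F ℂ) (h1 : χ0 ≠ 1) (ψ : AddChar ↥(SymM n F) ℂ) :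
    ∃ T : Matrix (Fin n) (Fin n) F, chT χ0 T = ψ := by
  classical
  have hinj : Function.Injective
      (fun S : ↥(SymM n F) => chT χ0 (up (S : Matrix (Fin n) (Fin n) F))) := by
    intro S S' h
    have h2 := (chT_eq_iff_trace χ0 h1 _ _).1 h
    exact up_injective S S' (alt_of_trace _ h2)
  have hbij := hinj.bijective_of_nat_card_le (by
    have : Fintype ↥(SymM n F) := Fintype.ofFinite _
    rw [Nat.card_eq_fintype_card, Nat.card_eq_fintype_card, AddChar.card_eq])
  obtain ⟨S, hS⟩ := hbij.2 ψ
  exact ⟨_, hS⟩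

end D

end Cfsg.Agent.Lib.Helper22.SpED1
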