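import Cfsg.Agent.Lib.Helper18.SpE.Defs

set_option autoImplicit false

/-! Project SpE (S2333, coordinator helper18), piece D2: trace / quadratic form identities. -/

namespace Cfsg.Agent.Lib.Helper22.SpED2

open Matrix Cfsg.Agent.Lib.Helper18.SpE

section D

variable {F : Type*} [Field F] [Fintype F] {n : ℕ}

set_option linter.unusedSectionVars false
set_option linter.unusedVariables false

/-- D2 -/
theorem chT_comp_cgS (χ0 : AddChar F ℂ) (A T : Matrix (Fin n) (Fin n) F) :
    (chT χ0 T).compAddMonoidHom (cgS A) = chT χ0 (Aᵀ * T * A) := by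
  apply DFunLike.ext
  intro S
  rw [AddChar.compAddMonoidHom_apply, chT_apply, chT_apply, coe_cgS]
  congr 1
  generalize (S : Matrix (Fin n) (Fin n) F) = S0
  calc Matrix.trace (T * (A * S0 * Aᵀ))
      = Matrix.trace ((T * (A * S0)) * Aᵀ) := by simp only [Matrix.mul_assoc]
    _ = Matrix.trace (Aᵀ * (T * (A * S0))) := Matrix.trace_mul_comm _ _
    _ = Matrix.trace (Aᵀ * T * A * S0) := by simp only [Matrix.mul_assoc]

/-- D2 -/
theorem qfT_comp (A T : Matrix (Fin n) (Fin n) F) :
    (qfT T).comp (Matrix.toLin' A) = qfT (Aᵀ * T * A) := by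
  ext x
  rw [QuadraticMap.comp_apply, qfT_apply, qfT_apply, Matrix.toLin'_apply]
  rw [Matrix.mul_assoc, ← Matrix.mulVec_mulVec, ← Matrix.mulVec_mulVec,
    Matrix.dotProduct_mulVec x Aᵀ, Matrix.vecMul_transpose]

/-- D2 -/
theorem qfT_surj (Q : QuadraticForm F (Fin n → F)) :
    ∃ T : Matrix (Fin n) (Fin n) F, qfT T = Q := by
  obtain ⟨B, hB⟩ := LinearMap.BilinMap.toQuadraticMap_surjective (R := F) (M := Fin n → F)
    (N := F) Q
  refine ⟨LinearMap.toMatrix₂' F B, ?_⟩
  unfold qfT
  rw [Matrix.toLinearMap₂'_toMatrix', hB]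

theorem qfT_single_single (T : Matrix (Fin n) (Fin n) F) (i j : Fin n) :
    (Pi.single i 1 : Fin n → F) ⬝ᵥ T *ᵥ (Pi.single j 1 : Fin n → F) = T i j := by
  simp

/-- D2 -/
theorem polar_qfT_single (T : Matrix (Fin n) (Fin n) F) (i j : Fin n) (hij : i ≠ j) :
    QuadraticMap.polar (qfT T) (Pi.single i 1) (Pi.single j 1) = T i j + T j i := by
  unfold QuadraticMap.polar
  rw [qfT_apply, qfT_apply, qfT_apply, Matrix.mulVec_add, add_dotProduct, dotProduct_add,
    dotProduct_add, qfT_single_single, qfT_single_single, qfT_single_single, qfT_single_single]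
  ring

/-- D2 -/
theorem chT_symE (χ0 : AddChar F ℂ) (T : Matrix (Fin n) (Fin n) F) (i j : Fin n) (hij : i ≠ j)
    (t : F) : chT χ0 T (symE i j t) = χ0 (t * (T i j + T j i)) := by
  rw [chT_apply]
  congr 1
  show Matrix.trace (T * (Matrix.single i j t + Matrix.single j i t)) = _
  rw [Matrix.mul_add, Matrix.trace_add, Matrix.trace_mul_single, Matrix.trace_mul_single]
  simp only [MulOpposite.smul_eq_mul_unop, MulOpposite.unop_op]
  ring

end D

end Cfsg.Agent.Lib.Helper22.SpED2
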