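import Mathlib
import Cfsg.Agent.Lib.Helper19.AMO.Defs

/-!
# Project AMO, piece SP3 : a `3 × 3` matrix over `F_q` (`q ≥ 3`) whose inverse has the same
characteristic polynomial has order `j` with `2 j (q - 1) ≤ q ^ 3 - 1`.
-/

set_option autoImplicit false
set_option linter.unusedVariables false
set_option linter.unusedSectionVars false
set_option linter.style.haveILetI false

namespace Cfsg.Agent.Lib.Helper19.AMO

open Matrix Polynomial

universe u

section
variable {F : Type u} [Field F]

/-- the quadratic factor -/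
noncomputable def amosp3_g (b : F) : F[X] := X ^ 2 + C b * X + 1

theorem amosp3_g_monic (b : F) : (amosp3_g b).Monic := by
  unfold amosp3_g
  monicity!

theorem amosp3_g_natDegree (b : F) : (amosp3_g b).natDegree = 2 := by
  unfold amosp3_g
  compute_degree!

theorem amosp3_g_coeff_zero (b : F) : (amosp3_g b).coeff 0 = 1 := by
  unfold amosp3_g
  simp

/-- irreducible case: `g ∣ X ^ (q + 1) - 1` by the norm -/
theorem amosp3_irred [Fintype F] (b : F) (hirr : Irreducible (amosp3_g b)) :
    amosp3_g b ∣ X ^ (Fintype.card F + 1) - 1 := by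
  classical
  set g := amosp3_g b with hg
  have hg0 : g ≠ 0 := (amosp3_g_monic b).ne_zero
  haveI : Fact (Irreducible g) := ⟨hirr⟩
  let pb := AdjoinRoot.powerBasis hg0
  haveI : Module.Finite F (AdjoinRoot g) := pb.finite
  haveI : Finite (AdjoinRoot g) := Module.finite_of_finite F
  have hfr : Module.finrank F (AdjoinRoot g) = 2 := by
    rw [pb.finrank, AdjoinRoot.powerBasis_dim, amosp3_g_natDegree]
  have hnorm : Algebra.norm F (AdjoinRoot.root g) = 1 := by
    have h1 := Algebra.PowerBasis.norm_gen_eq_coeff_zero_minpoly pb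
    rw [AdjoinRoot.powerBasis_gen, AdjoinRoot.powerBasis_dim, AdjoinRoot.minpoly_root hg0,
      (amosp3_g_monic b).leadingCoeff, inv_one, map_one, mul_one, amosp3_g_natDegree,
      amosp3_g_coeff_zero] at h1
    rw [h1]
    norm_num
  have h2 := FiniteField.algebraMap_norm_eq_pow_sum F (AdjoinRoot g) (AdjoinRoot.root g)
  rw [hnorm, map_one, hfr, Finset.sum_range_succ, Finset.sum_range_one, pow_zero, pow_one,
    Nat.card_eq_fintype_card, add_comm] at h2
  rw [← AdjoinRoot.mk_eq_zero, map_sub, map_pow, AdjoinRoot.mk_X, map_one, ← h2, sub_self]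

/-- `X - 1 ∣ X ^ n - 1` -/
theorem amosp3_sub_one_dvd (n : ℕ) : (X - 1 : F[X]) ∣ X ^ n - 1 := by
  simpa using sub_dvd_pow_sub_pow (X : F[X]) 1 n

/-- linear factors at distinct points are coprime -/
theorem amosp3_coprime_lin {a c : F} (h : a ≠ c) : IsCoprime (X - C a : F[X]) (X - C c) :=
  Polynomial.isCoprime_X_sub_C_of_isUnit_sub (sub_ne_zero.mpr h).isUnit

/-- the polynomial statement -/
theorem amosp3_poly [Fintype F] (hq : 3 ≤ Fintype.card F) (b : F) :
    ∃ j : ℕ, 0 < j ∧ ((X - 1) * amosp3_g b : F[X]) ∣ X ^ j - 1 ∧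
      2 * j ≤ Fintype.card F ^ 2 + Fintype.card F + 1 := by
  classical
  set q := Fintype.card F with hqdef
  obtain ⟨p, hp⟩ := CharP.exists F
  haveI : Fact p.Prime := ⟨CharP.char_is_prime F p⟩
  have hp2 : 2 ≤ p := (Fact.out : p.Prime).two_le
  have hpq : p ≤ q := by
    obtain ⟨n, -, hn⟩ := FiniteField.card F p
    rw [hqdef, hn]
    calc p = p ^ 1 := (pow_one p).symm
      _ ≤ p ^ (n : ℕ) := Nat.pow_le_pow_right (by omega) n.pos
  have hqsq : q * q = q ^ 2 := (sq q).symm
  by_cases hirr : Irreducible (amosp3_g b)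
  · -- irreducible quadratic factor
    refine ⟨q + 1, by omega, ?_, by nlinarith⟩
    have h1 : amosp3_g b ∣ X ^ (q + 1) - 1 := amosp3_irred b hirr
    have h2 : (X - 1 : F[X]) ∣ X ^ (q + 1) - 1 := amosp3_sub_one_dvd _
    have hcop : IsCoprime (X - 1 : F[X]) (amosp3_g b) := by
      rw [isCoprime_comm]
      refine (hirr.coprime_iff_not_dvd).mpr ?_
      intro hdvd
      have := Polynomial.natDegree_le_of_dvd hdvd (Polynomial.X_sub_C_ne_zero (1 : F))
      rw [amosp3_g_natDegree] at this
      have h3 : (X - C (1 : F)).natDegree = 1 := Polynomial.natDegree_X_sub_C 1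
      rw [map_one] at h3
      omega
    exact hcop.mul_dvd h2 h1
  · -- a root `l` in `F`
    have hroots : (amosp3_g b).roots ≠ 0 := by
      intro h0
      exact hirr (((amosp3_g_monic b).irreducible_iff_roots_eq_zero_of_degree_le_three
        (by rw [amosp3_g_natDegree]) (by rw [amosp3_g_natDegree]; omega)).mpr h0)
    obtain ⟨l, hl⟩ := Multiset.exists_mem_of_ne_zero hroots
    have hlroot : l ^ 2 + b * l + 1 = 0 := by
      have := (Polynomial.mem_roots (amosp3_g_monic b).ne_zero).mp hl
      simpa [amosp3_g, Polynomial.IsRoot] using this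
    have hl0 : l ≠ 0 := by
      rintro rfl
      simp at hlroot
    have hb : b = -(l + l⁻¹) := by
      field_simp
      linear_combination hlroot
    have hfac : amosp3_g b = (X - C l) * (X - C l⁻¹) := by
      unfold amosp3_g
      rw [hb]
      have : C l * C l⁻¹ = (1 : F[X]) := by rw [← C_mul, mul_inv_cancel₀ hl0, map_one]
      simp only [map_neg, map_add]
      linear_combination (-1 : F[X]) * this
    have hone : (X - 1 : F[X]) = X - C (1 : F) := by rw [map_one]
    by_cases h1 : l = 1
    · -- `χ = (X - 1) ^ 3`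
      have hchi : ((X - 1) * amosp3_g b : F[X]) = (X - 1) ^ 3 := by
        rw [hfac, h1, inv_one, map_one]
        ring
      haveI : CharP F[X] p := inferInstance
      by_cases hp3 : 3 ≤ p
      · refine ⟨p, by omega, ?_, by nlinarith⟩
        rw [hchi]
        have : (X - 1 : F[X]) ^ p = X ^ p - 1 := by
          rw [sub_pow_char, one_pow]
        rw [← this]
        exact pow_dvd_pow _ hp3
      · have hp2' : p = 2 := by omega
        refine ⟨4, by norm_num, ?_, by nlinarith⟩
        rw [hchi]
        have : (X - 1 : F[X]) ^ 4 = X ^ 4 - 1 := by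
          have := sub_pow_char_pow (R := F[X]) (p := p) (n := 2) X 1
          rw [hp2'] at this
          norm_num at this
          exact this
        rw [← this]
        exact pow_dvd_pow _ (by norm_num)
    · by_cases h2 : l = l⁻¹
      · -- `l = -1`, `χ = (X - 1) (X + 1) ^ 2`
        have hl2 : l * l = 1 := by
          nth_rewrite 2 [h2]
          exact mul_inv_cancel₀ hl0
        have hlm : l = -1 := by
          have : (l - 1) * (l + 1) = 0 := by linear_combination hl2
          rcases mul_eq_zero.mp this with h | h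
          · exact (h1 (sub_eq_zero.mp h)).elim
          · exact eq_neg_of_add_eq_zero_left h
        have hchi : ((X - 1) * amosp3_g b : F[X]) ∣ (X ^ 2 - 1) ^ 2 := by
          rw [hfac, ← h2, hlm]
          refine ⟨X - 1, ?_⟩
          simp only [map_neg, map_one]
          ring
        haveI : CharP F[X] p := inferInstance
        refine ⟨2 * p, by omega, ?_, by nlinarith⟩
        have : (X ^ 2 - 1 : F[X]) ^ p = X ^ (2 * p) - 1 := by
          rw [sub_pow_char, one_pow, ← pow_mul]
        rw [← this]
        exact hchi.trans (pow_dvd_pow _ hp2)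
      · -- three distinct roots `1, l, l⁻¹`
        have hl1' : l⁻¹ ≠ 1 := by
          intro h
          apply h1
          rw [← inv_inv l, h, inv_one]
        have hq1 : 0 < q - 1 := by omega
        refine ⟨q - 1, hq1, ?_, ?_⟩
        · have hdvd : ∀ a : F, a ≠ 0 → (X - C a : F[X]) ∣ X ^ (q - 1) - 1 := by
            intro a ha
            rw [Polynomial.dvd_iff_isRoot]
            simp [Polynomial.IsRoot, FiniteField.pow_card_sub_one_eq_one a ha, hqdef]
          rw [hfac, hone]
          have c1 : IsCoprime (X - C (1 : F)) ((X - C l) * (X - C l⁻¹)) :=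
            IsCoprime.mul_right (amosp3_coprime_lin (Ne.symm h1)) (amosp3_coprime_lin (Ne.symm hl1'))
          have c2 : IsCoprime (X - C l) (X - C l⁻¹) := amosp3_coprime_lin h2
          exact c1.mul_dvd (hdvd 1 one_ne_zero)
            (c2.mul_dvd (hdvd l hl0) (hdvd l⁻¹ (inv_ne_zero hl0)))
        · have : 2 * (q - 1) ≤ 2 * q := by omega
          nlinarith

/-- shape of a monic cubic with `reverse = - self` -/
theorem amosp3_shape (f : F[X]) (hm : f.Monic) (hd : f.natDegree = 3)
    (hrev : f.reverse = C ((-1 : F) ^ 3) * f) :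
    f = (X - 1) * amosp3_g (f.coeff 2 + 1) := by
  have h0 : f.coeff 0 = -1 := by
    have := congrArg (fun g : F[X] => g.coeff 3) hrev
    simp only [Polynomial.coeff_reverse, Polynomial.coeff_C_mul, hd] at this
    rw [Polynomial.revAt_le (le_refl 3)] at this
    have h3 : f.coeff 3 = 1 := by
      have := hm.coeff_natDegree
      rwa [hd] at this
    simp only [Nat.sub_self] at this
    rw [h3] at this
    rw [this]
    norm_num
  have h1 : f.coeff 1 = -f.coeff 2 := by
    have := congrArg (fun g : F[X] => g.coeff 1) hrev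
    simp only [Polynomial.coeff_reverse, Polynomial.coeff_C_mul, hd] at this
    rw [Polynomial.revAt_le (by norm_num : 1 ≤ 3)] at this
    norm_num at this
    rw [this, neg_neg]
  have h3 : f.coeff 3 = 1 := by
    have := hm.coeff_natDegree
    rwa [hd] at this
  have hsum := Polynomial.as_sum_range' f 4 (by omega)
  obtain ⟨a, ha⟩ : ∃ a, f.coeff 2 = a := ⟨_, rfl⟩
  rw [ha] at h1 ⊢
  rw [hsum]
  simp only [Finset.sum_range_succ, Finset.sum_range_zero, zero_add, h0, h1, h3, ha]
  unfold amosp3_g
  simp only [← Polynomial.C_mul_X_pow_eq_monomial, map_neg, map_one, map_add, pow_zero, pow_one,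
    mul_one, one_mul]
  ring

/-- AMO-SP3 -/
theorem graph_special_three [Fintype F] (hq : 3 ≤ Fintype.card F)
    (hrev : ∀ A B : Matrix (Fin 3) (Fin 3) F, A.det = 1 → A * B = 1 → B.charpoly = A.charpoly →
      A.charpoly.reverse = Polynomial.C ((-1 : F) ^ 3) * A.charpoly)
    (A B : Matrix (Fin 3) (Fin 3) F) (hdet : A.det = 1) (hAB : A * B = 1)
    (hc : B.charpoly = A.charpoly) :
    ∃ j : ℕ, 0 < j ∧ A ^ j = 1 ∧
      (Fintype.card F - 1) * (2 * j) ≤ Fintype.card F ^ 3 - 1 := by
  have hm : A.charpoly.Monic := Matrix.charpoly_monic A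
  have hd : A.charpoly.natDegree = 3 := by
    rw [Matrix.charpoly_natDegree_eq_dim, Fintype.card_fin]
  have hshape := amosp3_shape A.charpoly hm hd (hrev A B hdet hAB hc)
  obtain ⟨j, hj0, hjdvd, hjle⟩ := amosp3_poly hq (A.charpoly.coeff 2 + 1)
  rw [← hshape] at hjdvd
  refine ⟨j, hj0, ?_, ?_⟩
  · obtain ⟨h, hh⟩ := hjdvd
    have := congrArg (Polynomial.aeval A) hh
    rw [map_mul, Matrix.aeval_self_charpoly, zero_mul, map_sub, map_pow, Polynomial.aeval_X,
      map_one] at this
    exact sub_eq_zero.mp this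
  · set q := Fintype.card F with hqdef
    obtain ⟨r, hr⟩ : ∃ r, q = r + 1 := ⟨q - 1, by omega⟩
    rw [hr] at hjle ⊢
    have h1 : (r + 1) ^ 3 - 1 = r * ((r + 1) ^ 2 + (r + 1) + 1) := by
      have : (r + 1) ^ 3 = r * ((r + 1) ^ 2 + (r + 1) + 1) + 1 := by ring
      omega
    rw [h1, Nat.add_sub_cancel]
    exact Nat.mul_le_mul_left r hjle

end

end Cfsg.Agent.Lib.Helper19.AMO
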