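import Mathlib
import Cfsg.Prelude.Def_GeometricClasses
import Cfsg.Agent.Lib.Helper27.ASC.Defs
import Cfsg.Agent.Lib.Helper19.ASG.Defs
import Cfsg.Agent.Lib.Helper26.ASGD1.Defs
import Cfsg.Agent.Lib.Helper19.ASU.Defs
import Cfsg.Agent.Lib.Helper19.ASUADJ
import Cfsg.Agent.Lib.Helper26.ASUC.Defs
import Cfsg.Agent.Lib.Helper19.ASU33Defs

set_option autoImplicit false
set_option linter.unusedVariables false
set_option linter.unusedSectionVars false

/-!
# Project ASU, block C, case C-33, piece 33-TR (helper22) : transport along the Kronecker basis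

`u33_absIrr_transport`, `u33_unitary_transport`, `u33_kron_unitary`, verbatim vs `Helper19/ASU/Skel33.lean.txt`.
-/

namespace Cfsg.Agent.Lib.Helper19.ASU

open Cfsg Cfsg.Geo Cfsg.Agent.Lib.Helper27.ASC Cfsg.Agent.Lib.Helper19.ASG
open scoped MatrixGroups Matrix Kronecker

variable {n : ℕ} {F : Type*} [Field F]

/-- `P⁻¹ P = 1` on matrices -/
theorem asuc33tr_inv_mul (P : GL (Fin n) F) :
    ((P⁻¹ : GL (Fin n) F) : Matrix (Fin n) (Fin n) F) * (P : Matrix (Fin n) (Fin n) F) = 1 := by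
  rw [← Units.val_mul, inv_mul_cancel, Units.val_one]

/-- `P P⁻¹ = 1` on matrices -/
theorem asuc33tr_mul_inv (P : GL (Fin n) F) :
    (P : Matrix (Fin n) (Fin n) F) * ((P⁻¹ : GL (Fin n) F) : Matrix (Fin n) (Fin n) F) = 1 := by
  rw [← Units.val_mul, mul_inv_cancel, Units.val_one]

/-- `R(M) *ᵥ (x ∘ e) = (M *ᵥ x) ∘ e` -/
theorem asuc33tr_reindex_mulVec {k d : ℕ} (e : Fin n ≃ Fin k × Fin d)
    (M : Matrix (Fin k × Fin d) (Fin k × Fin d) F) (x : Fin k × Fin d → F) :
    Matrix.reindexAlgEquiv F F e.symm M *ᵥ (x ∘ e) = (M *ᵥ x) ∘ e := by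
  rw [Matrix.coe_reindexAlgEquiv, Matrix.reindex_apply, Matrix.submatrix_mulVec_equiv]
  congr 2
  funext p
  simp

/-- the action of `ucKr e P M` on `P (x ∘ e)` -/
theorem asuc33tr_act {k d : ℕ} (e : Fin n ≃ Fin k × Fin d) (P : GL (Fin n) F)
    (M : Matrix (Fin k × Fin d) (Fin k × Fin d) F) (x : Fin k × Fin d → F) :
    ucKr e P M *ᵥ ((P : Matrix (Fin n) (Fin n) F) *ᵥ (x ∘ e)) =
      (P : Matrix (Fin n) (Fin n) F) *ᵥ ((M *ᵥ x) ∘ e) := by
  rw [ucKr_def, Matrix.mulVec_mulVec, mul_assoc, asuc33tr_inv_mul, mul_one, ← Matrix.mulVec_mulVec,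
    asuc33tr_reindex_mulVec]

/-- every vector is `P (x ∘ e)` -/
theorem asuc33tr_repr {k d : ℕ} (e : Fin n ≃ Fin k × Fin d) (P : GL (Fin n) F) (u : Fin n → F) :
    (P : Matrix (Fin n) (Fin n) F) *ᵥ
      (((((P⁻¹ : GL (Fin n) F) : Matrix (Fin n) (Fin n) F) *ᵥ u) ∘ e.symm) ∘ e) = u := by
  have h : ((((P⁻¹ : GL (Fin n) F) : Matrix (Fin n) (Fin n) F) *ᵥ u) ∘ e.symm) ∘ e =
      ((P⁻¹ : GL (Fin n) F) : Matrix (Fin n) (Fin n) F) *ᵥ u := by
    funext i
    simp
  rw [h, Matrix.mulVec_mulVec, asuc33tr_mul_inv, Matrix.one_mulVec]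

/-- `P (x ∘ e) = 0` only for `x = 0` -/
theorem asuc33tr_inj {k d : ℕ} (e : Fin n ≃ Fin k × Fin d) (P : GL (Fin n) F) (x : Fin k × Fin d → F)
    (h : (P : Matrix (Fin n) (Fin n) F) *ᵥ (x ∘ e) = 0) : x = 0 := by
  have h1 : ((P⁻¹ : GL (Fin n) F) : Matrix (Fin n) (Fin n) F) *ᵥ
      ((P : Matrix (Fin n) (Fin n) F) *ᵥ (x ∘ e)) = 0 := by rw [h, Matrix.mulVec_zero]
  rw [Matrix.mulVec_mulVec, asuc33tr_inv_mul, Matrix.one_mulVec] at h1
  funext p
  have h2 := congrFun h1 (e.symm p)
  simpa using h2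

/-- 33-TR (i) : transport of absolute irreducibility along `ucKr e P`. -/
theorem u33_absIrr_transport {k d : ℕ} (e : Fin n ≃ Fin k × Fin d) (P : GL (Fin n) F)
    (S : Set (Matrix (Fin k × Fin d) (Fin k × Fin d) F)) (hS : ActsAbsolutelyIrreducibly S)
    (S' : Set (Matrix (Fin n) (Fin n) F)) (h : ∀ s ∈ S, ucKr e P s ∈ S') : ActsAbsolutelyIrreducibly S' := by
  obtain ⟨hirr, hcent⟩ := hS
  -- the linear map `x ↦ P (x ∘ e)`
  let L : (Fin k × Fin d → F) →ₗ[F] (Fin n → F) :=
    (Matrix.toLin' (P : Matrix (Fin n) (Fin n) F)).comp (LinearMap.funLeft F F e)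
  have hL : ∀ x, L x = (P : Matrix (Fin n) (Fin n) F) *ᵥ (x ∘ e) := by
    intro x
    show Matrix.toLin' (P : Matrix (Fin n) (Fin n) F) (LinearMap.funLeft F F e x) = _
    rw [Matrix.toLin'_apply]
    rfl
  refine ⟨?_, ?_⟩
  · intro W' hW'
    have hW : ∀ s ∈ S, (W'.comap L).map (Matrix.toLin' s) ≤ W'.comap L := by
      intro s hs
      rintro _ ⟨x, hx, rfl⟩
      rw [Submodule.mem_comap, Matrix.toLin'_apply, hL, ← asuc33tr_act]
      have hx' : L x ∈ W' := hx
      rw [hL] at hx'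
      have := hW' (ucKr e P s) (h s hs) (Submodule.mem_map_of_mem hx')
      rwa [Matrix.toLin'_apply] at this
    rcases hirr (W'.comap L) hW with h0 | h1
    · left
      rw [Submodule.eq_bot_iff]
      intro u hu
      have hmem : ((((P⁻¹ : GL (Fin n) F) : Matrix (Fin n) (Fin n) F) *ᵥ u) ∘ e.symm) ∈ W'.comap L := by
        rw [Submodule.mem_comap, hL, asuc33tr_repr]
        exact hu
      rw [h0, Submodule.mem_bot] at hmem
      have := asuc33tr_repr e P u
      rw [hmem] at this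
      rw [← this]
      simp
    · right
      rw [Submodule.eq_top_iff']
      intro u
      have hmem : ((((P⁻¹ : GL (Fin n) F) : Matrix (Fin n) (Fin n) F) *ᵥ u) ∘ e.symm) ∈ W'.comap L := by
        rw [h1]
        exact Submodule.mem_top
      rw [Submodule.mem_comap, hL, asuc33tr_repr] at hmem
      exact hmem
  · intro M' hM'
    set R := Matrix.reindexAlgEquiv F F e.symm with hR
    set Pm : Matrix (Fin n) (Fin n) F := (P : Matrix (Fin n) (Fin n) F) with hPm
    set Pi : Matrix (Fin n) (Fin n) F := ((P⁻¹ : GL (Fin n) F) : Matrix (Fin n) (Fin n) F) with hPi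
    have e1 : Pi * Pm = 1 := asuc33tr_inv_mul P
    have e2 : Pm * Pi = 1 := asuc33tr_mul_inv P
    obtain ⟨M, hM⟩ : ∃ M, R M = Pi * M' * Pm := R.surjective _
    have hcomm : ∀ s ∈ S, M * s = s * M := by
      intro s hs
      apply R.injective
      rw [map_mul, map_mul, hM]
      have h3 := hM' (ucKr e P s) (h s hs)
      rw [ucKr_def] at h3
      calc Pi * M' * Pm * R s = Pi * (M' * (Pm * R s * Pi)) * Pm := by
            simp only [mul_assoc]
            rw [e1, mul_one]
        _ = Pi * ((Pm * R s * Pi) * M') * Pm := by rw [h3]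
        _ = R s * (Pi * M' * Pm) := by
            simp only [mul_assoc]
            rw [← mul_assoc Pi Pm, e1, one_mul]
    obtain ⟨c, hc⟩ := hcent M hcomm
    refine ⟨c, ?_⟩
    rw [hc, map_smul, map_one] at hM
    calc M' = Pm * (Pi * M' * Pm) * Pi := by
          simp only [mul_assoc]
          rw [e2, mul_one, ← mul_assoc, e2, one_mul]
      _ = c • (1 : Matrix (Fin n) (Fin n) F) := by
          rw [← hM, Matrix.mul_smul, Matrix.smul_mul, mul_one, e2]

/-- 33-TR (iii) : Kronecker products of unitary matrices are unitary. -/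
theorem u33_kron_unitary (q : ℕ) {k d : ℕ} (a : Matrix (Fin k) (Fin k) F) (b : Matrix (Fin d) (Fin d) F)
    (ha : uadj q a * a = 1) (hb : uadj q b * b = 1) :
    ((a ⊗ₖ b)ᵀ).map (fun x : F => x ^ q) * (a ⊗ₖ b) = 1 := by
  have h : ((a ⊗ₖ b)ᵀ).map (fun x : F => x ^ q) = uadj q a ⊗ₖ uadj q b := by
    ext ⟨i, j⟩ ⟨i', j'⟩
    simp [uadj, Matrix.kroneckerMap_apply, mul_pow]
  rw [h, ← Matrix.mul_kronecker_mul, ha, hb, Matrix.one_kronecker_one]

/-- `formOfGram σ 1` is the standard sesquilinear form -/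
theorem asuc33tr_formOfGram_one {κ : Type} [Fintype κ] [DecidableEq κ] (σ : F → F) (x y : κ → F) :
    formOfGram σ (1 : Matrix κ κ F) x y = ∑ a, x a * σ (y a) := by
  unfold formOfGram
  apply Finset.sum_congr rfl
  intro a _
  rw [Finset.sum_eq_single a]
  · rw [Matrix.one_apply_eq, mul_one]
  · intro b _ hb
    rw [Matrix.one_apply_ne' hb, mul_zero, zero_mul]
  · intro ha
    exact absurd (Finset.mem_univ a) ha

/-- 33-TR (ii) : transport of isometries along `ucKr e P`. -/
theorem u33_unitary_transport [Fintype F] (q : ℕ) (hF : Fintype.card F = q ^ 2) {k d : ℕ} (e : Fin n ≃ Fin k × Fin d)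
    (P : GL (Fin n) F) (hK : UKrGram q e P (1 : Matrix (Fin k) (Fin k) F) (1 : Matrix (Fin d) (Fin d) F))
    (M : Matrix (Fin k × Fin d) (Fin k × Fin d) F) (hM : (Mᵀ).map (fun a : F => a ^ q) * M = 1) (u v : Fin n → F) :
    hermForm n F q (ucKr e P M *ᵥ u) (ucKr e P M *ᵥ v) = hermForm n F q u v := by
  -- entries: `∑ a, M a b * (M a c)^q = δ b c`
  have hM2 : ∀ b c, ∑ a, M a b * (M a c) ^ q = if b = c then 1 else 0 := by
    intro b c
    have h1 := congrFun (congrFun hM b) c
    rw [Matrix.mul_apply, Matrix.one_apply] at h1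
    have h2 := congrArg (ufrob hF) h1
    rw [map_sum] at h2
    have h3 : (ufrob hF) (if b = c then (1 : F) else 0) = if b = c then 1 else 0 := by
      split_ifs <;> simp
    rw [h3] at h2
    rw [← h2]
    apply Finset.sum_congr rfl
    intro a _
    rw [map_mul, ufrob_apply, ufrob_apply, Matrix.map_apply, Matrix.transpose_apply, upow_pow hF]
  have key : ∀ x y : Fin k × Fin d → F,
      formOfGram (fun a : F => a ^ q) ((1 : Matrix (Fin k) (Fin k) F) ⊗ₖ (1 : Matrix (Fin d) (Fin d) F)) (M *ᵥ x) (M *ᵥ y) =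
        formOfGram (fun a : F => a ^ q) ((1 : Matrix (Fin k) (Fin k) F) ⊗ₖ (1 : Matrix (Fin d) (Fin d) F)) x y := by
    intro x y
    rw [Matrix.one_kronecker_one, asuc33tr_formOfGram_one, asuc33tr_formOfGram_one]
    have hy : ∀ a, ((M *ᵥ y) a) ^ q = ∑ c, (M a c) ^ q * (y c) ^ q := by
      intro a
      rw [← ufrob_apply hF, Matrix.mulVec, dotProduct, map_sum]
      apply Finset.sum_congr rfl
      intro c _
      rw [map_mul, ufrob_apply, ufrob_apply]
    calc ∑ a, (M *ᵥ x) a * ((M *ᵥ y) a) ^ q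
        = ∑ a, ∑ b, ∑ c, x b * (y c) ^ q * (M a b * (M a c) ^ q) := by
          apply Finset.sum_congr rfl
          intro a _
          rw [hy a, Matrix.mulVec, dotProduct, Finset.sum_mul_sum]
          apply Finset.sum_congr rfl
          intro b _
          apply Finset.sum_congr rfl
          intro c _
          ring
      _ = ∑ b, ∑ c, x b * (y c) ^ q * ∑ a, (M a b * (M a c) ^ q) := by
          rw [Finset.sum_comm]
          apply Finset.sum_congr rfl
          intro b _
          rw [Finset.sum_comm]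
          apply Finset.sum_congr rfl
          intro c _
          rw [Finset.mul_sum]
      _ = ∑ b, x b * (y b) ^ q := by
          apply Finset.sum_congr rfl
          intro b _
          rw [Finset.sum_eq_single b]
          · rw [hM2, if_pos rfl, mul_one]
          · intro c _ hc
            rw [hM2, if_neg (Ne.symm hc), mul_zero]
          · intro hb
            exact absurd (Finset.mem_univ b) hb
  have hu := asuc33tr_repr e P u
  have hv := asuc33tr_repr e P v
  set x := (((P⁻¹ : GL (Fin n) F) : Matrix (Fin n) (Fin n) F) *ᵥ u) ∘ e.symm with hx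
  set y := (((P⁻¹ : GL (Fin n) F) : Matrix (Fin n) (Fin n) F) *ᵥ v) ∘ e.symm with hy
  rw [← hu, ← hv, asuc33tr_act, asuc33tr_act, hK, hK, key]

end Cfsg.Agent.Lib.Helper19.ASU
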