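import Mathlib
import Cfsg.Prelude.Def_GeometricClasses
import Cfsg.Agent.Lib.Helper27.ASC.Defs
import Cfsg.Agent.Lib.Helper19.ASG.Defs
import Cfsg.Agent.Lib.Helper19.ASU.Defs
import Cfsg.Agent.Lib.Helper26.ASUC.Defs
import Cfsg.Agent.Lib.Helper19.ASUADJ

set_option autoImplicit false
set_option linter.unusedVariables false
set_option linter.unusedSectionVars false

/-!
# Project ASU, block C (sub-leader helper26), piece C-FG : forms given by a hermitian Gram matrix (helper22)

`uc_gram_formOfGram` carries the extra hypothesis `q ≠ 0` (the Skel statement is false for `q = 0`).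
-/

namespace Cfsg.Agent.Lib.Helper19.ASU

open Cfsg Cfsg.Geo Cfsg.Agent.Lib.Helper27.ASC Cfsg.Agent.Lib.Helper19.ASG
open scoped MatrixGroups Matrix Kronecker

variable {n : ℕ} {F : Type*} [Field F]

/-- C-FG : `formOfGram (· ^ q) A` in matrix form. -/
theorem uc_formOfGram_eq_dot (q : ℕ) {κ : Type} [Fintype κ] (A : Matrix κ κ F) (x y : κ → F) :
    formOfGram (fun a : F => a ^ q) A x y = x ⬝ᵥ (A *ᵥ (fun b => y b ^ q)) := by
  unfold formOfGram
  simp only [dotProduct, Matrix.mulVec, Finset.mul_sum, mul_assoc]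

/-- the entrywise `q`-th power of a standard basis vector (`q ≠ 0`) -/
theorem asucfg_single_pow (q : ℕ) (hq : q ≠ 0) {κ : Type} [DecidableEq κ] (b : κ) :
    (fun b' => (Pi.single b (1 : F) : κ → F) b' ^ q) = Pi.single b 1 := by
  ext b'
  by_cases h : b' = b
  · subst h
    simp only [Pi.single_eq_same, one_pow]
  · simp only [Pi.single_eq_of_ne h, zero_pow hq]

/-- C-FG (easy) : the Gram matrix of `formOfGram (· ^ q) A` is `A` (`Pi.single`, `one_pow`, `Finset.sum_eq_single`). -/
theorem uc_gram_formOfGram (q : ℕ) (hq : q ≠ 0) {κ : Type} [Fintype κ] [DecidableEq κ] (A : Matrix κ κ F) :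
    gramMatrix (formOfGram (fun a : F => a ^ q) A) = A := by
  ext a b
  unfold gramMatrix
  rw [uc_formOfGram_eq_dot, asucfg_single_pow q hq]
  simp

/-- C-FG (easy-medium) : a hermitian invertible matrix gives a unitary form.  `a ↦ a ^ q` is a ring endomorphism with
`(a ^ q) ^ q = a` (`Cfsg.Agent.Lib.Helper19.ASUADJ`: `ufrob`); `herm` from `A b a = (A a b) ^ q` (`hAh` entrywise);
non-degeneracy from `det A ≠ 0` as in ASP `spc_formOfGram_nondegenerate` (`Helper22.ASPCFG`), using that `y ↦ y ^ q` is onto. -/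
theorem uc_formOfGram_unitary [Fintype F] (q : ℕ) (hF : Fintype.card F = q ^ 2) {k : ℕ}
    (A : Matrix (Fin k) (Fin k) F) (hA : A.det ≠ 0) (hAh : uadj q A = A) :
    IsUnitaryFormPow q (formOfGram (fun a : F => a ^ q) A) := by
  classical
  have hq : q ≠ 0 := (uq_pos hF).ne'
  refine ⟨fun x y v => ?_, fun c x v => ?_, fun v w => ?_, fun v hv => ⟨?_, ?_⟩⟩
  · rw [uc_formOfGram_eq_dot, uc_formOfGram_eq_dot, uc_formOfGram_eq_dot, add_dotProduct]
  · rw [uc_formOfGram_eq_dot, uc_formOfGram_eq_dot, smul_dotProduct, smul_eq_mul]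
  · -- hermitian
    have hent : ∀ a b, (A a b) ^ q = A b a := by
      intro a b
      have := congrFun (congrFun hAh b) a
      rw [uadj_apply] at this
      exact this
    unfold formOfGram
    rw [← ufrob_apply hF, map_sum, Finset.sum_comm]
    refine Finset.sum_congr rfl fun a _ => ?_
    rw [map_sum]
    refine Finset.sum_congr rfl fun b _ => ?_
    rw [map_mul, map_mul, ufrob_apply, ufrob_apply, ufrob_apply, upow_pow hF, hent]
    ring
  · -- left non-degeneracy
    have h0 : (fun b => v b ^ q) ≠ 0 := by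
      intro h
      apply hv
      ext b
      have := congrFun h b
      simp only [Pi.zero_apply] at this
      exact pow_eq_zero_iff hq |>.mp this
    have h1 : A *ᵥ (fun b => v b ^ q) ≠ 0 := fun h => h0 (Matrix.eq_zero_of_mulVec_eq_zero hA h)
    obtain ⟨i, hi⟩ := Function.ne_iff.mp h1
    refine ⟨Pi.single i 1, ?_⟩
    rw [uc_formOfGram_eq_dot, single_one_dotProduct]
    exact hi
  · -- right non-degeneracy
    have h1 : v ᵥ* A ≠ 0 := fun h => hv (Matrix.eq_zero_of_vecMul_eq_zero hA h)
    obtain ⟨i, hi⟩ := Function.ne_iff.mp h1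
    refine ⟨Pi.single i 1, ?_⟩
    rw [uc_formOfGram_eq_dot, asucfg_single_pow q hq, Matrix.dotProduct_mulVec, dotProduct_single_one]
    exact hi

end Cfsg.Agent.Lib.Helper19.ASU
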