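import Mathlib
import Cfsg.Prelude.Def_GeometricClasses
import Cfsg.Agent.Lib.Helper27.ASC.Defs
import Cfsg.Agent.Lib.Helper19.ASG.Defs
import Cfsg.Agent.Lib.Helper19.ASU.Defs
import Cfsg.Agent.Lib.Helper26.ASUC.Defs
import Cfsg.Agent.Lib.Helper22.ASUCFG

set_option autoImplicit false
set_option linter.unusedVariables false
set_option linter.unusedSectionVars false

/-!
# Project ASU, block C (sub-leader helper26), piece C-POW : equal factors give a tensor power form structure (helper22)

`uc_tensor_pow` carries the extra hypothesis `q ≠ 0` (the Skel statement is false for `q = 0`).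
-/

namespace Cfsg.Agent.Lib.Helper19.ASU

open Cfsg Cfsg.Geo Cfsg.Agent.Lib.Helper27.ASC Cfsg.Agent.Lib.Helper19.ASG
open scoped MatrixGroups Matrix Kronecker

variable {n : ℕ} {F : Type*} [Field F]

/-- The sum over `Fin 2 → Fin k` defining a tensor square form is the form with Gram matrix `G ⊗ G` (any `σ`). -/
theorem asucpow_sum_two (σ : F → F) {k : ℕ} (G : Matrix (Fin k) (Fin k) F) (x y : (Fin 2 → Fin k) → F) :
    ∑ a, ∑ b, x a * (∏ i, G (a i) (b i)) * σ (y b) =
      formOfGram σ (G ⊗ₖ G) (x ∘ (finTwoArrowEquiv (Fin k)).symm) (y ∘ (finTwoArrowEquiv (Fin k)).symm) := by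
  unfold formOfGram
  rw [← Equiv.sum_comp (finTwoArrowEquiv (Fin k))]
  refine Finset.sum_congr rfl fun a _ => ?_
  rw [← Equiv.sum_comp (finTwoArrowEquiv (Fin k))]
  refine Finset.sum_congr rfl fun b _ => ?_
  rw [Function.comp_apply, Function.comp_apply, Equiv.symm_apply_apply, Equiv.symm_apply_apply,
    Fin.prod_univ_two, Matrix.kroneckerMap_apply]
  rfl

/-- C-POW (medium) : equal factors: a tensor power form structure with `t = 2` (`c = 1`, `uc_gram_formOfGram`; the sum over
`Fin 2 → Fin k` is the sum over `Fin k × Fin k` along `finTwoArrowEquiv`, `Fin.prod_univ_two`; model: ASO CPOW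
`tensorForm_pow`, `Helper22.ASOCPOW`). -/
theorem uc_tensor_pow (q : ℕ) (hq : q ≠ 0) {k : ℕ} (e : Fin n ≃ Fin k × Fin k) (P : GL (Fin n) F)
    (A : Matrix (Fin k) (Fin k) F) (hK : UKrGram q e P A A) :
    IsTensorPowerFormStructure (fun a : F => a ^ q) (hermForm n F q) (formOfGram (fun a : F => a ^ q) A)
      (e.trans (finTwoArrowEquiv (Fin k)).symm) P := by
  refine ⟨1, one_ne_zero, fun x y => ?_⟩
  have hx : x ∘ ⇑(e.trans (finTwoArrowEquiv (Fin k)).symm) = (x ∘ (finTwoArrowEquiv (Fin k)).symm) ∘ e := rfl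
  have hy : y ∘ ⇑(e.trans (finTwoArrowEquiv (Fin k)).symm) = (y ∘ (finTwoArrowEquiv (Fin k)).symm) ∘ e := rfl
  rw [hx, hy, hK, uc_gram_formOfGram q hq, one_mul]
  exact (asucpow_sum_two (fun a : F => a ^ q) A x y).symm

end Cfsg.Agent.Lib.Helper19.ASU
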