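import Mathlib
import Cfsg.Agent.Lib.Helper19.G2V.Defs
import Cfsg.Agent.Lib.Helper5.G2VM2
import Cfsg.Agent.Lib.Helper26.G2VE4

/-!
# Project G2V (S2461), row E5 (`reduce`): core on the statements of rows E3 (`bruhat_P`) and Q3 (`Pp_dec`).
-/

set_option autoImplicit false

namespace Cfsg.Agent.Lib.Helper19.G2V

open Cfsg.Lie Cfsg.Lie.ChevalleyDatum Matrix
open Cfsg.Agent.Lib.helper8
open Cfsg.Agent.Lib.helper23.P4V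

universe u

variable {F : Type u} [Field F]

theorem g2ve5_core
    (hE3 : ∀ (g : GG F), g ∈ Gp F →
      g ∈ Pp F ∨ ∃ j ∈ [5, 3, 0], ∃ r : F, r ≠ 0 ∧ ∃ p ∈ Pp F, ∃ p' ∈ Pp F, g = p * X j r * p')
    (hQ3 : ∀ (g : GG F), g ∈ Pp F → ∃ A : GL (Fin 2) F, ∃ u ∈ Qp F, g = iota A * u)
    (hF : ∃ a : F, a ≠ 0 ∧ a ≠ 1) (g : GG F) (hg : g ∈ Gp F) (h1 : g ≠ 1) :
    ∃ y ∈ Gp F, ∃ j ∈ [5, 3, 0], ∃ r : F, r ≠ 0 ∧ ∃ A : GL (Fin 2) F, ∃ u ∈ Qp F,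
      y * g * y⁻¹ = X j r * iota A * u := by
  obtain ⟨y, hy, hny⟩ := exists_conj_not_mem_Pp hF g hg h1
  have hg' : y * g * y⁻¹ ∈ Gp F := mul_mem (mul_mem hy hg) (inv_mem hy)
  rcases hE3 _ hg' with h | ⟨j, hj, r, hr, p, hp, p', hp', heq⟩
  · exact absurd h hny
  · obtain ⟨A, u, hu, hAu⟩ := hQ3 (p' * p) (mul_mem hp' hp)
    refine ⟨p⁻¹ * y, mul_mem (inv_mem (Pp_le_Gp hp)) hy, j, hj, r, hr, A, u, hu, ?_⟩
    have : p⁻¹ * y * g * (p⁻¹ * y)⁻¹ = p⁻¹ * (y * g * y⁻¹) * p := by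
      rw [_root_.mul_inv_rev, inv_inv]
      simp only [mul_assoc]
    rw [this, heq, mul_assoc (X j r), ← hAu]
    simp only [mul_assoc, inv_mul_cancel_left]

end Cfsg.Agent.Lib.Helper19.G2V
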