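import Mathlib
import Cfsg.Agent.Lib.Helper19.G2V.Defs
import Cfsg.Agent.Lib.Helper19.G2VJ4W
import Cfsg.Agent.Lib.helper14.G2T.Long
import Cfsg.Agent.Lib.helper14.G2TB8
import Cfsg.Agent.Lib.helper8.ChevCent2

/-!
# Project G2V (S2461), row J6 (`ident_j6`): core on the statements of rows I3 (`iota_ha`) and N5 (`X_mem_Qm`).
-/

set_option autoImplicit false

namespace Cfsg.Agent.Lib.Helper19.G2V

open Cfsg.Lie Cfsg.Lie.ChevalleyDatum Matrix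
open Cfsg.Agent.Lib.helper8
open Cfsg.Agent.Lib.helper23.P4V

universe u

variable {F : Type u} [Field F]

/-- the `3 × 3` identity behind J6, with the denominators as variables -/
theorem g2vj6_mat_aux (r s s1 s4 D1 D2 : F) (hD1 : D1 ≠ 0) (hD2 : D2 ≠ 0)
    (e1 : D1 = 1 + s * r) (e2 : D2 = 1 + s * r + s1 * s4 * r) :
    (1 + Matrix.single (0 : Fin 3) (1 : Fin 3) s1) * (1 + Matrix.single (1 : Fin 3) (2 : Fin 3) s4) *
      (1 + Matrix.single (0 : Fin 3) (2 : Fin 3) s) * (1 + Matrix.single (2 : Fin 3) (0 : Fin 3) r) =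
    (1 + Matrix.single (1 : Fin 3) (0 : Fin 3) (r * s4 / D2)) *
      (1 + Matrix.single (2 : Fin 3) (1 : Fin 3) (-(r * s1) / D1)) *
      (1 + Matrix.single (2 : Fin 3) (0 : Fin 3) (r / D2)) *
      Matrix.diagonal ![D2, D1 / D2, 1 / D1] *
      (1 + Matrix.single (0 : Fin 3) (1 : Fin 3) (s1 / D2)) *
      (1 + Matrix.single (1 : Fin 3) (2 : Fin 3) (s4 / D1)) *
      (1 + Matrix.single (0 : Fin 3) (2 : Fin 3) (s / D1)) := by
  ext i j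
  fin_cases i <;> fin_cases j <;>
    simp [Matrix.mul_apply, Fin.sum_univ_three, Matrix.single, Matrix.one_apply] <;>
    field_simp <;> subst e1 e2 <;> ring

open Cfsg.Agent.Lib.helper14.G2T in
/-- `iota (diag(D1, D2)) = ha D1 * hb (D1 D2)`, on the statement of `iota_ha` (row I3). -/
theorem g2vj6_iota_diag
    (hIha : ∀ (A : GL (Fin 2) F) (c : F) (_ : c ≠ 0) (_ : (A : M2 F) = !![c, 0; 0, c⁻¹]),
      iota A = ha c)
    (D1 D2 : F) (hD1 : D1 ≠ 0) (hD2 : D2 ≠ 0) (B : GL (Fin 2) F)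
    (hBv : (B : M2 F) = !![D1, 0; 0, D2]) : iota B = ha D1 * hb (D1 * D2) := by
  have hdet : (B : M2 F).det = D1 * D2 := by
    rw [hBv, Matrix.det_fin_two_of]; ring
  have hA'det : (!![D1, 0; 0, D1⁻¹] : M2 F).det ≠ 0 := by
    rw [Matrix.det_fin_two_of, mul_inv_cancel₀ hD1]; simp
  have hA'1 : (!![D1, 0; 0, D1⁻¹] : M2 F).det = 1 := by
    rw [Matrix.det_fin_two_of, mul_inv_cancel₀ hD1]; simp
  have h1 := hIha (mk2 !![D1, 0; 0, D1⁻¹] hA'det) D1 hD1 (mk2_val _ _)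
  have hsl : sl2of (mk2 !![D1, 0; 0, D1⁻¹] hA'det) = sl2of B := by
    apply Subtype.ext
    rw [sl2of_val, sl2of_val, mk2_val, hA'1, hdet, hBv]
    ext i j
    fin_cases i <;> fin_cases j <;> simp
    field_simp
  unfold iota at h1 ⊢
  rw [mk2_val, hA'1, hsl] at h1
  have hb1 : (hb (1 : F) : GG F) = 1 := h8hU_one chevG2 hB 6
  rw [hb1, mul_one] at h1
  rw [h1, hdet]

open Cfsg.Agent.Lib.helper14.G2T in
/-- Row J6 (`ident_j6`) on the statements of rows I3 (`iota_ha`) and N5 (`X_mem_Qm`). -/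
theorem g2vj6_core
    (hIha : ∀ (A : GL (Fin 2) F) (c : F) (_ : c ≠ 0) (_ : (A : M2 F) = !![c, 0; 0, c⁻¹]),
      iota A = ha c)
    (hN5 : ∀ (r : ℕ) (_ : r ∈ [5, 3, 2, 1, 0]) (t : F), X r t ∈ Qm F)
    (r s s1 s4 : F) (hD1 : 1 + s * r ≠ 0) (hD2 : 1 + s * r + s1 * s4 * r ≠ 0)
    (B : GL (Fin 2) F) (hBv : (B : M2 F) = !![1 + s * r, 0; 0, 1 + s * r + s1 * s4 * r]) :
    ∃ v' ∈ Qm F, ∃ u' ∈ Qp F, X 6 s1 * X 10 s4 * X 11 s * X 0 r = v' * iota B * u' := by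
  obtain ⟨D1, e1⟩ : ∃ D1 : F, D1 = 1 + s * r := ⟨_, rfl⟩
  obtain ⟨D2, e2⟩ : ∃ D2 : F, D2 = 1 + s * r + s1 * s4 * r := ⟨_, rfl⟩
  rw [← e2] at hD2 hBv
  rw [← e1] at hD1 hBv
  refine ⟨X 5 (r * s4 / D2) * X 1 (-(r * s1) / D1) * X 0 (r / D2),
    mul_mem (mul_mem (hN5 5 (by simp) _) (hN5 1 (by simp) _)) (hN5 0 (by simp) _),
    X 6 (s1 / D2) * X 10 (s4 / D1) * X 11 (s / D1),
    mul_mem (mul_mem (g2vj4w_X_mem_Qp 6 (by simp) _) (g2vj4w_X_mem_Qp 10 (by simp) _))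
      (g2vj4w_X_mem_Qp 11 (by simp) _), ?_⟩
  rw [g2vj6_iota_diag hIha D1 D2 hD1 hD2 B hBv]
  have hd : Phi (Matrix.diagonal ![D2, D1 / D2, 1 / D1]) = hh D1 (D1 * D2) := by
    rw [Phi_diag _ _ _ (by field_simp)]
    congr 1 <;> field_simp
  apply Units.ext
  simp only [Units.val_mul, X, ha, hb, h8xU_val, h8hU_val]
  have hhh : chevG2.hMat F 7 D1 * chevG2.hMat F 6 (D1 * D2) = hh D1 (D1 * D2) := rfl
  rw [hhh, ← hd, ← Phi_x6 s1, ← Phi_x10 s4, ← Phi_x11 s, ← Phi_x0 r, ← Phi_x5, ← Phi_x1,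
    ← Phi_x0 (r / D2), ← Phi_x6 (s1 / D2), ← Phi_x10 (s4 / D1), ← Phi_x11 (s / D1)]
  simp only [← Phi_mul]
  rw [g2vj6_mat_aux r s s1 s4 D1 D2 hD1 hD2 e1 e2]
  simp only [Matrix.mul_assoc]

end Cfsg.Agent.Lib.Helper19.G2V
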