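import Mathlib
import Cfsg.Agent.Lib.Helper19.G2V.Defs
import Cfsg.Agent.Lib.Helper22.G2VJ6core
import Cfsg.Agent.Lib.Helper25.G2VI3
import Cfsg.Agent.Lib.Helper16.G2VN4

/-!
# Project G2V (S2461), row J6 (`ident_j6`), verbatim.
-/

set_option autoImplicit false

namespace Cfsg.Agent.Lib.Helper19.G2V

open Cfsg.Lie Cfsg.Lie.ChevalleyDatum Matrix
open Cfsg.Agent.Lib.helper8
open Cfsg.Agent.Lib.helper23.P4V

universe u

variable {F : Type u} [Field F]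

/-- own-name copy of the statement of row N5 (`X_mem_Qm`) -/
theorem g2vj6_X_mem_Qm (r : ℕ) (hr : r ∈ [5, 3, 2, 1, 0]) (t : F) : X r t ∈ Qm F := by
  rw [mem_Qm_iff]
  simp only [List.mem_cons, List.mem_nil_iff, or_false] at hr
  rcases hr with rfl | rfl | rfl | rfl | rfl
  · exact ⟨X 10 t, g2vj4w_X_mem_Qp 10 (by simp) _, (nrho_X10 t).symm⟩
  · exact ⟨X 9 t, g2vj4w_X_mem_Qp 9 (by simp) _, (nrho_X9 t).symm⟩
  · exact ⟨X 8 (-t), g2vj4w_X_mem_Qp 8 (by simp) _, by rw [nrho_X8, neg_neg]⟩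
  · exact ⟨X 6 (-t), g2vj4w_X_mem_Qp 6 (by simp) _, by rw [nrho_X6, neg_neg]⟩
  · exact ⟨X 11 (-t), g2vj4w_X_mem_Qp 11 (by simp) _, by rw [nrho_X11, neg_neg]⟩

theorem ident_j6 (r s s1 s4 : F) (hD1 : 1 + s * r ≠ 0) (hD2 : 1 + s * r + s1 * s4 * r ≠ 0)
    (B : GL (Fin 2) F) (hB : (B : M2 F) = !![1 + s * r, 0; 0, 1 + s * r + s1 * s4 * r]) :
    ∃ v' ∈ Qm F, ∃ u' ∈ Qp F, X 6 s1 * X 10 s4 * X 11 s * X 0 r = v' * iota B * u' :=
  g2vj6_core (fun A c hc hA => iota_ha A c hc hA) (fun r hr t => g2vj6_X_mem_Qm r hr t)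
    r s s1 s4 hD1 hD2 B hB

end Cfsg.Agent.Lib.Helper19.G2V
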