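import Mathlib
import Cfsg.Agent.Lib.Helper22.Basic
import Cfsg.Agent.Lib.Helper22.Sylow

set_option autoImplicit false

namespace Cfsg.Agent.Lib.Helper22

open Classical in
theorem totient_dvd_card_orderOf_eq {G : Type*} [Group G] [Finite G] (d : ℕ) :
    d.totient ∣ Nat.card {x : G // orderOf x = d} := by
  let _ : Fintype G := Fintype.ofFinite G
  rw [Nat.card_eq_fintype_card, Fintype.card_subtype,
    Finset.card_eq_sum_card_image (fun x : G => Subgroup.zpowers x)]
  apply Finset.dvd_sum
  intro C hC
  obtain ⟨x₀, hx₀, rfl⟩ := Finset.mem_image.1 hC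
  have hx₀d : orderOf x₀ = d := (Finset.mem_filter.1 hx₀).2
  have h1 := IsCyclic.card_orderOf_eq_totient (α := Subgroup.zpowers x₀) (d := d)
    (by rw [← Nat.card_eq_fintype_card, Nat.card_zpowers, hx₀d])
  rw [← h1]
  apply dvd_of_eq
  symm
  apply Finset.card_bij (fun a ha => (⟨a, by
    have h2 : Subgroup.zpowers a = Subgroup.zpowers x₀ := (Finset.mem_filter.1 ha).2
    rw [← h2]; exact Subgroup.mem_zpowers a⟩ : Subgroup.zpowers x₀))
  · intro a ha
    rw [Finset.mem_filter]
    refine ⟨Finset.mem_univ _, ?_⟩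
    rw [Subgroup.orderOf_mk]
    exact (Finset.mem_filter.1 (Finset.mem_filter.1 ha).1).2
  · intro a ha b hb hab
    exact congrArg Subtype.val hab
  · intro c hc
    have hcd : orderOf c = d := (Finset.mem_filter.1 hc).2
    refine ⟨(c : G), ?_, Subtype.ext rfl⟩
    rw [Finset.mem_filter, Finset.mem_filter]
    have hcd' : orderOf (c : G) = d := by rw [Subgroup.orderOf_coe]; exact hcd
    refine ⟨⟨Finset.mem_univ _, hcd'⟩, ?_⟩
    apply Subgroup.eq_of_le_of_card_ge
    · exact Subgroup.zpowers_le.2 c.2
    · rw [Nat.card_zpowers, Nat.card_zpowers, hcd', hx₀d]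

open Classical in
theorem dvd_sum_of_class_function {G : Type*} [Group G] [Fintype G] (f : G → ℕ)
    (hf : ∀ g y : G, f (g * y * g⁻¹) = f y) (Y : Finset G)
    (hY : ∀ y ∈ Y, ∀ g : G, g * y * g⁻¹ ∈ Y) (m : ℕ)
    (h : ∀ y ∈ Y, m ∣ (Subgroup.centralizer ({y} : Set G)).index * f y) :
    m ∣ ∑ y ∈ Y, f y := by
  rw [← Finset.sum_fiberwise_of_maps_to (t := Y.image ConjClasses.mk) (g := ConjClasses.mk)
    (fun y hy => Finset.mem_image_of_mem _ hy)]
  apply Finset.dvd_sum
  intro c hc
  obtain ⟨y₀, hy₀, rfl⟩ := Finset.mem_image.1 hc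
  have hfilter : Y.filter (fun y => ConjClasses.mk y = ConjClasses.mk y₀) =
      Finset.univ.filter (fun y => IsConj y₀ y) := by
    ext y
    simp only [Finset.mem_filter, Finset.mem_univ, true_and, ConjClasses.mk_eq_mk_iff_isConj]
    constructor
    · rintro ⟨-, hc⟩; exact hc.symm
    · intro hc
      refine ⟨?_, hc.symm⟩
      obtain ⟨g, hg⟩ := isConj_iff.1 hc
      rw [← hg]; exact hY y₀ hy₀ g
  rw [hfilter]
  have hconst : ∀ y ∈ Finset.univ.filter (fun y => IsConj y₀ y), f y = f y₀ := by
    intro y hy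
    obtain ⟨g, hg⟩ := isConj_iff.1 (Finset.mem_filter.1 hy).2
    rw [← hg, hf]
  rw [Finset.sum_congr rfl hconst, Finset.sum_const, smul_eq_mul]
  have hcard : (Finset.univ.filter (fun y => IsConj y₀ y)).card =
      (Subgroup.centralizer ({y₀} : Set G)).index := by
    rw [index_centralizer_eq_ncard_conj, Set.ncard_eq_toFinset_card']
    congr 1
    ext y
    simp
  rw [hcard]
  exact h y₀ hy₀

theorem pow_mul_eq_of_comm {G : Type*} [Group G] (y z : G) (h : z * y = y * z) (k : ℕ) :
    (y * z) ^ k = y ^ k * z ^ k :=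
  (Commute.mul_pow (show Commute y z from h.symm) k)

open Classical in
theorem card_pdecomp {G : Type*} [Group G] [Fintype G] (p : ℕ) [Fact p.Prime] (a m : ℕ)
    (hpm : ¬ p ∣ m) :
    Nat.card {x : G // x ^ (p ^ (a + 1) * m) = 1 ∧ x ^ (p ^ a * m) ≠ 1} =
      ∑ y ∈ Finset.univ.filter (fun y : G => orderOf y = p ^ (a + 1)),
        Nat.card {z : G // z ∈ Subgroup.centralizer ({y} : Set G) ∧ z ^ m = 1} := by
  have hp : p.Prime := Fact.out
  have hcop : Nat.Coprime (p ^ (a + 1)) m :=
    Nat.Coprime.pow_left _ ((Nat.Prime.coprime_iff_not_dvd hp).2 hpm)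
  rw [Finset.sum_subtype (Finset.univ.filter (fun y : G => orderOf y = p ^ (a + 1)))
    (p := fun y : G => orderOf y = p ^ (a + 1)) (fun x => by simp), ← Nat.card_sigma]
  symm
  have hwd : ∀ (y z : G), orderOf y = p ^ (a + 1) → z ∈ Subgroup.centralizer ({y} : Set G) →
      z ^ m = 1 → (y * z) ^ (p ^ (a + 1) * m) = 1 ∧ (y * z) ^ (p ^ a * m) ≠ 1 := by
    intro y z hy hz hzm
    have hzy : z * y = y * z := Subgroup.mem_centralizer_singleton_iff.1 hz
    constructor
    · rw [pow_mul_eq_of_comm y z hzy, pow_mul, ← hy, pow_orderOf_eq_one, one_pow, one_mul,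
        mul_comm, pow_mul, hzm, one_pow]
    · rw [pow_mul_eq_of_comm y z hzy]
      have h1 : z ^ (p ^ a * m) = 1 := by rw [mul_comm, pow_mul, hzm, one_pow]
      rw [h1, mul_one]
      intro h2
      have h3 : p ^ (a + 1) ∣ p ^ a * m := by
        rw [← hy]; exact orderOf_dvd_of_pow_eq_one h2
      rw [pow_succ] at h3
      have h4 : p ∣ m := Nat.dvd_of_mul_dvd_mul_left (pow_pos hp.pos a) h3
      exact hpm h4
  obtain ⟨e, he1, he0⟩ := Nat.chineseRemainder hcop 1 0
  have hpart : ∀ (y z : G), orderOf y = p ^ (a + 1) → z ∈ Subgroup.centralizer ({y} : Set G) →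
      z ^ m = 1 → (y * z) ^ e = y := by
    intro y z hy hz hzm
    have hzy : z * y = y * z := Subgroup.mem_centralizer_singleton_iff.1 hz
    rw [pow_mul_eq_of_comm y z hzy]
    have h1 : y ^ e = y ^ 1 := by
      rw [pow_eq_pow_iff_modEq, hy]; exact he1
    have h2 : z ^ e = 1 := by
      have h3 : m ∣ e := (Nat.modEq_zero_iff_dvd).1 he0
      obtain ⟨t, rfl⟩ := h3
      rw [pow_mul, hzm, one_pow]
    rw [h1, h2, pow_one, mul_one]
  apply Nat.card_eq_of_bijective
    (fun yz : (Σ y : {y : G // orderOf y = p ^ (a + 1)},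
        {z : G // z ∈ Subgroup.centralizer ({(y : G)} : Set G) ∧ z ^ m = 1}) =>
      (⟨(yz.1 : G) * (yz.2 : G), hwd yz.1 yz.2 yz.1.2 yz.2.2.1 yz.2.2.2⟩ :
        {x : G // x ^ (p ^ (a + 1) * m) = 1 ∧ x ^ (p ^ a * m) ≠ 1}))
  constructor
  · rintro ⟨⟨y, hy⟩, ⟨z, hz, hzm⟩⟩ ⟨⟨y', hy'⟩, ⟨z', hz', hzm'⟩⟩ h
    have h1 : y * z = y' * z' := congrArg Subtype.val h
    have h2 : y = y' := by
      rw [← hpart y z hy hz hzm, ← hpart y' z' hy' hz' hzm', h1]
    subst h2
    have h3 : z = z' := mul_left_cancel h1
    subst h3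
    rfl
  · rintro ⟨x, hx1, hx2⟩
    obtain ⟨y, z, hxyz, hcomm, ⟨k, hk⟩, hzcop, -, -⟩ := exists_p_decomp p x
    have hox : orderOf x = p ^ k * orderOf z := by
      rw [hxyz, hcomm.orderOf_mul_eq_mul_orderOf_of_coprime (by rw [hk]; exact (hzcop.symm).pow_left k), hk]
    have hd1 : p ^ k * orderOf z ∣ p ^ (a + 1) * m := by
      rw [← hox]; exact orderOf_dvd_of_pow_eq_one hx1
    have hzm : orderOf z ∣ m := by
      have h1 : orderOf z ∣ p ^ (a + 1) * m := dvd_trans (dvd_mul_left _ _) hd1
      exact (Nat.Coprime.pow_right (a + 1) hzcop).dvd_of_dvd_mul_left h1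
    have hk1 : k ≤ a + 1 := by
      have h1 : p ^ k ∣ p ^ (a + 1) * m := dvd_trans (dvd_mul_right _ _) hd1
      have h2 : p ^ k ∣ p ^ (a + 1) :=
        (Nat.Coprime.pow_left k ((Nat.Prime.coprime_iff_not_dvd hp).2 hpm)).dvd_of_dvd_mul_right h1
      exact (Nat.pow_dvd_pow_iff_le_right hp.one_lt).1 h2
    have hk2 : k = a + 1 := by
      by_contra hne
      have hka : k ≤ a := by omega
      apply hx2
      rw [← orderOf_dvd_iff_pow_eq_one, hox]
      exact Nat.mul_dvd_mul (pow_dvd_pow p hka) hzm
    have hzC : z ∈ Subgroup.centralizer ({y} : Set G) :=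
      Subgroup.mem_centralizer_singleton_iff.2 hcomm.eq.symm
    have hzm1 : z ^ m = 1 := orderOf_dvd_iff_pow_eq_one.1 hzm
    refine ⟨⟨⟨y, by rw [hk, hk2]⟩, ⟨z, hzC, hzm1⟩⟩, ?_⟩
    apply Subtype.ext
    exact hxyz.symm

theorem zpowers_subgroupOf_centralizer_normal {G : Type*} [Group G] (y : G) :
    ((Subgroup.zpowers y).subgroupOf (Subgroup.centralizer ({y} : Set G))).Normal := by
  constructor
  intro z hz c
  rw [Subgroup.mem_subgroupOf] at hz ⊢
  obtain ⟨i, hi⟩ := hz
  have hc : (c : G) * y = y * (c : G) := Subgroup.mem_centralizer_singleton_iff.1 c.2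
  have hcomm : Commute (c : G) (y ^ i) := (show Commute (c : G) y from hc).zpow_right i
  refine ⟨i, ?_⟩
  show y ^ i = ((c * z * c⁻¹ : Subgroup.centralizer ({y} : Set G)) : G)
  have h1 : ((c * z * c⁻¹ : Subgroup.centralizer ({y} : Set G)) : G) = (c : G) * (z : G) * (c : G)⁻¹ := by
    simp
  have hi' : y ^ i = (z : G) := hi
  rw [h1, ← hi', hcomm.eq]
  group

theorem card_K_eq {G : Type*} [Group G] [Finite G] (p : ℕ) [Fact p.Prime] (a m : ℕ)
    (hpm : ¬ p ∣ m) (y : G) (hy : orderOf y = p ^ (a + 1))
    [hZ : ((Subgroup.zpowers y).subgroupOf (Subgroup.centralizer ({y} : Set G))).Normal] :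
    Nat.card {z : G // z ∈ Subgroup.centralizer ({y} : Set G) ∧ z ^ m = 1} =
      Nat.card {q : Subgroup.centralizer ({y} : Set G) ⧸
        (Subgroup.zpowers y).subgroupOf (Subgroup.centralizer ({y} : Set G)) // q ^ m = 1} := by
  have hp : p.Prime := Fact.out
  have hcop : Nat.Coprime (p ^ (a + 1)) m :=
    Nat.Coprime.pow_left _ ((Nat.Prime.coprime_iff_not_dvd hp).2 hpm)
  have hyC : y ∈ Subgroup.centralizer ({y} : Set G) := Subgroup.mem_centralizer_singleton_iff.2 rfl
  apply Nat.card_eq_of_bijective
    (fun z : {z : G // z ∈ Subgroup.centralizer ({y} : Set G) ∧ z ^ m = 1} =>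
      (⟨QuotientGroup.mk (⟨(z : G), z.2.1⟩ : Subgroup.centralizer ({y} : Set G)), by
        rw [← QuotientGroup.mk_pow]
        have : (⟨(z : G), z.2.1⟩ : Subgroup.centralizer ({y} : Set G)) ^ m = 1 := by
          apply Subtype.ext
          simpa using z.2.2
        rw [this]; rfl⟩ :
        {q : Subgroup.centralizer ({y} : Set G) ⧸
          (Subgroup.zpowers y).subgroupOf (Subgroup.centralizer ({y} : Set G)) // q ^ m = 1}))
  constructor
  · rintro ⟨z, hzC, hzm⟩ ⟨z', hz'C, hz'm⟩ h
    have h1 : (QuotientGroup.mk (⟨z, hzC⟩ : Subgroup.centralizer ({y} : Set G)) :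
        Subgroup.centralizer ({y} : Set G) ⧸
          (Subgroup.zpowers y).subgroupOf (Subgroup.centralizer ({y} : Set G))) =
        QuotientGroup.mk (⟨z', hz'C⟩ : Subgroup.centralizer ({y} : Set G)) :=
      congrArg Subtype.val h
    rw [QuotientGroup.eq, Subgroup.mem_subgroupOf] at h1
    obtain ⟨i, hi⟩ := h1
    have hi' : y ^ i = z⁻¹ * z' := by
      have := hi
      simpa using this
    have hzy : z * y = y * z := Subgroup.mem_centralizer_singleton_iff.1 hzC
    have hcomm : Commute z (y ^ i) := (show Commute z y from hzy).zpow_right i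
    have hz' : z' = z * y ^ i := by rw [hi']; group
    have h2 : (y ^ i) ^ m = 1 := by
      have h3 : z' ^ m = z ^ m * (y ^ i) ^ m := by rw [hz', hcomm.mul_pow]
      rw [hz'm, hzm, one_mul] at h3
      exact h3.symm
    have h4 : orderOf (y ^ i) ∣ m := orderOf_dvd_of_pow_eq_one h2
    have h5 : orderOf (y ^ i) ∣ p ^ (a + 1) := by
      rw [← hy]; exact orderOf_dvd_of_mem_zpowers ⟨i, rfl⟩
    have h6 : orderOf (y ^ i) = 1 := by
      have := Nat.dvd_gcd h5 h4
      rw [hcop.gcd_eq_one, Nat.dvd_one] at this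
      exact this
    rw [orderOf_eq_one_iff] at h6
    apply Subtype.ext
    show z = z'
    rw [hz', h6, mul_one]
  · rintro ⟨q, hq⟩
    obtain ⟨w, rfl⟩ := QuotientGroup.mk_surjective q
    rw [← QuotientGroup.mk_pow, QuotientGroup.eq_one_iff, Subgroup.mem_subgroupOf] at hq
    obtain ⟨j, hj⟩ := hq
    have hj' : y ^ j = (w : G) ^ m := by
      have := hj
      simpa using this
    have hbez : (1 : ℤ) = ((p ^ (a + 1) : ℕ) : ℤ) * Nat.gcdA (p ^ (a + 1)) m +
        (m : ℤ) * Nat.gcdB (p ^ (a + 1)) m := by
      have := Nat.gcd_eq_gcd_ab (p ^ (a + 1)) m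
      rw [hcop.gcd_eq_one] at this
      exact_mod_cast this
    have hwy : (w : G) * y = y * (w : G) := Subgroup.mem_centralizer_singleton_iff.1 w.2
    set i : ℤ := -(j * Nat.gcdB (p ^ (a + 1)) m) with hi
    have hcomm : Commute (w : G) (y ^ i) := (show Commute (w : G) y from hwy).zpow_right i
    have hzm : ((w : G) * y ^ i) ^ m = 1 := by
      rw [hcomm.mul_pow, ← hj', ← zpow_natCast (y ^ i) m, ← zpow_mul, ← zpow_add]
      have h1 : j + i * (m : ℤ) = ((p ^ (a + 1) : ℕ) : ℤ) * (j * Nat.gcdA (p ^ (a + 1)) m) := by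
        have h2 : j = j * 1 := (mul_one j).symm
        rw [hi]
        nth_rewrite 1 [h2]
        rw [hbez]
        ring
      rw [h1, zpow_mul, zpow_natCast, ← hy, pow_orderOf_eq_one, one_zpow]
    have hzC : (w : G) * y ^ i ∈ Subgroup.centralizer ({y} : Set G) :=
      Subgroup.mul_mem _ w.2 (Subgroup.zpow_mem _ hyC i)
    refine ⟨⟨(w : G) * y ^ i, hzC, hzm⟩, ?_⟩
    apply Subtype.ext
    show (QuotientGroup.mk (⟨(w : G) * y ^ i, hzC⟩ : Subgroup.centralizer ({y} : Set G)) :
        Subgroup.centralizer ({y} : Set G) ⧸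
          (Subgroup.zpowers y).subgroupOf (Subgroup.centralizer ({y} : Set G))) =
        QuotientGroup.mk w
    rw [QuotientGroup.eq, Subgroup.mem_subgroupOf]
    refine ⟨-i, ?_⟩
    show y ^ (-i) = ((⟨(w : G) * y ^ i, hzC⟩ : Subgroup.centralizer ({y} : Set G))⁻¹ * w :
      Subgroup.centralizer ({y} : Set G))
    have h3 : (((⟨(w : G) * y ^ i, hzC⟩ : Subgroup.centralizer ({y} : Set G))⁻¹ * w :
      Subgroup.centralizer ({y} : Set G)) : G) = ((w : G) * y ^ i)⁻¹ * (w : G) := by simp
    rw [h3]
    group

theorem card_K_conj {G : Type*} [Group G] (m : ℕ) (g y : G) :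
    Nat.card {z : G // z ∈ Subgroup.centralizer ({g * y * g⁻¹} : Set G) ∧ z ^ m = 1} =
      Nat.card {z : G // z ∈ Subgroup.centralizer ({y} : Set G) ∧ z ^ m = 1} := by
  symm
  apply Nat.card_eq_of_bijective
    (fun z : {z : G // z ∈ Subgroup.centralizer ({y} : Set G) ∧ z ^ m = 1} =>
      (⟨g * (z : G) * g⁻¹, by
        obtain ⟨hz1, hz2⟩ := z.2
        rw [Subgroup.mem_centralizer_singleton_iff] at hz1 ⊢
        constructor
        · calc g * (z : G) * g⁻¹ * (g * y * g⁻¹) = g * ((z : G) * y) * g⁻¹ := by group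
            _ = g * (y * (z : G)) * g⁻¹ := by rw [hz1]
            _ = g * y * g⁻¹ * (g * (z : G) * g⁻¹) := by group
        · rw [conj_pow, hz2]; group⟩ :
        {z : G // z ∈ Subgroup.centralizer ({g * y * g⁻¹} : Set G) ∧ z ^ m = 1}))
  constructor
  · intro z z' h
    have h1 : g * (z : G) * g⁻¹ = g * (z' : G) * g⁻¹ := congrArg Subtype.val h
    exact Subtype.ext (mul_left_cancel (mul_right_cancel h1))
  · rintro ⟨w, hw1, hw2⟩
    refine ⟨⟨g⁻¹ * w * g, ?_, ?_⟩, ?_⟩
    · rw [Subgroup.mem_centralizer_singleton_iff] at hw1 ⊢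
      calc g⁻¹ * w * g * y = g⁻¹ * (w * (g * y * g⁻¹)) * g := by group
        _ = g⁻¹ * ((g * y * g⁻¹) * w) * g := by rw [hw1]
        _ = y * (g⁻¹ * w * g) := by group
    · have : g⁻¹ * w * g = g⁻¹ * w * g⁻¹⁻¹ := by rw [inv_inv]
      rw [this, conj_pow, hw2]; group
    · apply Subtype.ext
      show g * (g⁻¹ * w * g) * g⁻¹ = w
      group

open Classical in
theorem ppow_dvd_card_A {G : Type*} [Group G] [Fintype G] (p : ℕ) [Fact p.Prime] (a m : ℕ)
    (hpm : ¬ p ∣ m) :
    p ^ a ∣ Nat.card {x : G // x ^ (p ^ (a + 1) * m) = 1 ∧ x ^ (p ^ a * m) ≠ 1} := by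
  have hp : p.Prime := Fact.out
  rw [Nat.card_eq_fintype_card, Fintype.card_subtype, Finset.card_eq_sum_card_image orderOf]
  apply Finset.dvd_sum
  intro d hd
  obtain ⟨x₀, hx₀, rfl⟩ := Finset.mem_image.1 hd
  obtain ⟨hx1, hx2⟩ := (Finset.mem_filter.1 hx₀).2
  have hd1 : orderOf x₀ ∣ p ^ (a + 1) * m := orderOf_dvd_of_pow_eq_one hx1
  have hd2 : ¬ orderOf x₀ ∣ p ^ a * m := fun h => hx2 (orderOf_dvd_iff_pow_eq_one.1 h)
  have hfib : (Finset.univ.filter (fun x : G => x ^ (p ^ (a + 1) * m) = 1 ∧ x ^ (p ^ a * m) ≠ 1)).filter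
      (fun x => orderOf x = orderOf x₀) = Finset.univ.filter (fun x : G => orderOf x = orderOf x₀) := by
    ext x
    simp only [Finset.mem_filter, Finset.mem_univ, true_and]
    constructor
    · rintro ⟨-, h⟩; exact h
    · intro h
      refine ⟨⟨?_, ?_⟩, h⟩
      · rw [← orderOf_dvd_iff_pow_eq_one, h]; exact hd1
      · rw [Ne, ← orderOf_dvd_iff_pow_eq_one, h]; exact hd2
  rw [hfib]
  have h1 := totient_dvd_card_orderOf_eq (G := G) (orderOf x₀)
  rw [Nat.card_eq_fintype_card, Fintype.card_subtype] at h1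
  refine dvd_trans ?_ h1
  obtain ⟨j, d', hd', hjd⟩ := Nat.exists_eq_pow_mul_and_not_dvd (orderOf_pos x₀).ne' p hp.ne_one
  have hd'm : d' ∣ m := by
    have h2 : d' ∣ p ^ (a + 1) * m := dvd_trans (by rw [hjd]; exact dvd_mul_left _ _) hd1
    exact (Nat.Coprime.pow_right (a + 1) ((Nat.Prime.coprime_iff_not_dvd hp).2 hd').symm).dvd_of_dvd_mul_left h2
  have hj1 : j ≤ a + 1 := by
    have h2 : p ^ j ∣ p ^ (a + 1) * m := dvd_trans (by rw [hjd]; exact dvd_mul_right _ _) hd1
    have h3 : p ^ j ∣ p ^ (a + 1) :=
      (Nat.Coprime.pow_left j ((Nat.Prime.coprime_iff_not_dvd hp).2 hpm)).dvd_of_dvd_mul_right h2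
    exact (Nat.pow_dvd_pow_iff_le_right hp.one_lt).1 h3
  have hj2 : j = a + 1 := by
    by_contra hne
    have hja : j ≤ a := by omega
    apply hd2
    rw [hjd]
    exact Nat.mul_dvd_mul (pow_dvd_pow p hja) hd'm
  have h4 : p ^ (a + 1) ∣ orderOf x₀ := by rw [hjd, hj2]; exact dvd_mul_right _ _
  have h5 := Nat.totient_dvd_of_dvd h4
  rw [Nat.totient_prime_pow_succ hp] at h5
  exact dvd_trans (dvd_mul_right _ _) h5

universe u

open Classical in
theorem frobenius_aux : ∀ (N : ℕ) (G : Type u) [Group G] [Finite G], Nat.card G = N →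
    ∀ n : ℕ, n ∣ N → n ∣ Nat.card {x : G // x ^ n = 1} := by
  intro N
  induction N using Nat.strong_induction_on with
  | _ N ihN =>
    intro G _ _ hGN
    let _ : Fintype G := Fintype.ofFinite G
    have hNpos : 0 < N := hGN ▸ Nat.card_pos
    have inner : ∀ k : ℕ, ∀ n : ℕ, n * k = N → n ∣ Nat.card {x : G // x ^ n = 1} := by
      intro k
      induction k using Nat.strong_induction_on with
      | _ k ihk =>
        intro n hnk
        have hkpos : 0 < k := by
          rcases Nat.eq_zero_or_pos k with rfl | h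
          · rw [mul_zero] at hnk; omega
          · exact h
        have hnpos : 0 < n := by
          rcases Nat.eq_zero_or_pos n with rfl | h
          · rw [zero_mul] at hnk; omega
          · exact h
        by_cases hk1 : k = 1
        · rw [hk1, mul_one] at hnk
          have hall : ∀ x : G, x ^ n = 1 := by
            intro x
            rw [hnk, ← hGN]; exact pow_card_eq_one'
          have h1 : Nat.card {x : G // x ^ n = 1} = Nat.card G :=
            Nat.card_congr (Equiv.subtypeUnivEquiv hall)
          rw [h1, hGN, hnk]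
        · obtain ⟨p, hp, hpk⟩ := Nat.exists_prime_and_dvd hk1
          obtain ⟨k', rfl⟩ := hpk
          have hk'pos : 0 < k' := by
            rcases Nat.eq_zero_or_pos k' with rfl | h
            · rw [mul_zero] at hkpos; omega
            · exact h
          have hk'lt : k' < p * k' := by
            have := hp.one_lt
            nlinarith
          have h1 : n * p ∣ Nat.card {x : G // x ^ (n * p) = 1} :=
            ihk k' hk'lt (n * p) (by rw [mul_assoc]; exact hnk)
          have : Fact p.Prime := ⟨hp⟩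
          obtain ⟨a, m, hpm, rfl⟩ := Nat.exists_eq_pow_mul_and_not_dvd hnpos.ne' p hp.ne_one
          have hnp : p ^ a * m * p = p ^ (a + 1) * m := by ring
          rw [hnp] at h1
          have hcopam : Nat.Coprime (p ^ a) m :=
            Nat.Coprime.pow_left _ ((Nat.Prime.coprime_iff_not_dvd hp).2 hpm)
          have hcop1 : Nat.Coprime m (p ^ (a + 1)) :=
            (Nat.Coprime.pow_left _ ((Nat.Prime.coprime_iff_not_dvd hp).2 hpm)).symm
          have hmN : m ∣ N := by
            rw [← hnk]
            exact dvd_trans (dvd_mul_left m (p ^ a)) (dvd_mul_right _ _)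
          have hsplit : Nat.card {x : G // x ^ (p ^ (a + 1) * m) = 1} =
              Nat.card {x : G // x ^ (p ^ a * m) = 1} +
              Nat.card {x : G // x ^ (p ^ (a + 1) * m) = 1 ∧ x ^ (p ^ a * m) ≠ 1} := by
            rw [Nat.card_eq_fintype_card, Nat.card_eq_fintype_card, Nat.card_eq_fintype_card,
              Fintype.card_subtype, Fintype.card_subtype, Fintype.card_subtype]
            rw [← Finset.card_filter_add_card_filter_not (fun x : G => x ^ (p ^ a * m) = 1)
              (s := Finset.univ.filter (fun x : G => x ^ (p ^ (a + 1) * m) = 1))]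
            congr 1
            · congr 1
              ext x
              simp only [Finset.mem_filter, Finset.mem_univ, true_and]
              constructor
              · rintro ⟨-, h⟩; exact h
              · intro h
                refine ⟨?_, h⟩
                rw [pow_succ, mul_right_comm, pow_mul, h, one_pow]
            · congr 1
              ext x
              simp only [Finset.mem_filter, Finset.mem_univ, true_and, ne_eq]
          have hA : p ^ a * m ∣
              Nat.card {x : G // x ^ (p ^ (a + 1) * m) = 1 ∧ x ^ (p ^ a * m) ≠ 1} := by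
            apply Nat.Coprime.mul_dvd_of_dvd_of_dvd hcopam
            · exact ppow_dvd_card_A p a m hpm
            · rw [card_pdecomp p a m hpm]
              apply dvd_sum_of_class_function
                (fun y : G => Nat.card {z : G // z ∈ Subgroup.centralizer ({y} : Set G) ∧ z ^ m = 1})
                (fun g y => card_K_conj m g y)
              · intro y hy g
                rw [Finset.mem_filter] at hy ⊢
                refine ⟨Finset.mem_univ _, ?_⟩
                rw [← hy.2]
                symm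
                apply SemiconjBy.orderOf_eq g
                unfold SemiconjBy
                group
              · intro y hy
                have hyo : orderOf y = p ^ (a + 1) := (Finset.mem_filter.1 hy).2
                have hZn := zpowers_subgroupOf_centralizer_normal y
                show m ∣ (Subgroup.centralizer ({y} : Set G)).index *
                  Nat.card {z : G // z ∈ Subgroup.centralizer ({y} : Set G) ∧ z ^ m = 1}
                rw [card_K_eq p a m hpm y hyo]
                have hcardZ : Nat.card ((Subgroup.zpowers y).subgroupOf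
                    (Subgroup.centralizer ({y} : Set G))) = p ^ (a + 1) := by
                  have hle : Subgroup.zpowers y ≤ Subgroup.centralizer ({y} : Set G) :=
                    Subgroup.zpowers_le.2 (Subgroup.mem_centralizer_singleton_iff.2 rfl)
                  rw [Nat.card_congr (Subgroup.subgroupOfEquivOfLe hle).toEquiv, Nat.card_zpowers, hyo]
                have hcardC := Subgroup.card_eq_card_quotient_mul_card_subgroup
                  ((Subgroup.zpowers y).subgroupOf (Subgroup.centralizer ({y} : Set G)))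
                rw [hcardZ] at hcardC
                have hidx := Subgroup.index_mul_card (Subgroup.centralizer ({y} : Set G))
                rw [hGN] at hidx
                have hQpos : 0 < Nat.card (Subgroup.centralizer ({y} : Set G) ⧸
                    (Subgroup.zpowers y).subgroupOf (Subgroup.centralizer ({y} : Set G))) := Nat.card_pos
                have hQlt : Nat.card (Subgroup.centralizer ({y} : Set G) ⧸
                    (Subgroup.zpowers y).subgroupOf (Subgroup.centralizer ({y} : Set G))) < N := by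
                  have h2 : 2 ≤ p ^ (a + 1) := by
                    calc 2 ≤ p := hp.two_le
                      _ = p ^ 1 := (pow_one p).symm
                      _ ≤ p ^ (a + 1) := Nat.pow_le_pow_right hp.pos (by omega)
                  have hCle : Nat.card (Subgroup.centralizer ({y} : Set G)) ≤ N := by
                    rw [← hGN]; exact Subgroup.card_le_card_group _
                  nlinarith
                set Q := Subgroup.centralizer ({y} : Set G) ⧸
                    (Subgroup.zpowers y).subgroupOf (Subgroup.centralizer ({y} : Set G)) with hQ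
                have hIH := ihN (Nat.card Q) hQlt Q rfl (Nat.gcd m (Nat.card Q)) (Nat.gcd_dvd_right _ _)
                have hequiv : Nat.card {q : Q // q ^ m = 1} =
                    Nat.card {q : Q // q ^ (Nat.gcd m (Nat.card Q)) = 1} := by
                  apply Nat.card_congr
                  apply Equiv.subtypeEquivRight
                  intro q
                  rw [← orderOf_dvd_iff_pow_eq_one, ← orderOf_dvd_iff_pow_eq_one]
                  constructor
                  · intro h
                    exact Nat.dvd_gcd h (orderOf_dvd_natCard q)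
                  · intro h
                    exact dvd_trans h (Nat.gcd_dvd_left _ _)
                rw [hequiv]
                have hm1 : m ∣ (Subgroup.centralizer ({y} : Set G)).index * Nat.card Q := by
                  have h3 : m ∣ (Subgroup.centralizer ({y} : Set G)).index * Nat.card Q * p ^ (a + 1) := by
                    rw [mul_assoc, ← hcardC, hidx]; exact hmN
                  exact hcop1.dvd_of_dvd_mul_right h3
                have hm2 : m ∣ (Subgroup.centralizer ({y} : Set G)).index * Nat.gcd m (Nat.card Q) := by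
                  rw [← Nat.gcd_mul_left]
                  exact Nat.dvd_gcd (dvd_mul_left _ _) hm1
                exact dvd_trans hm2 (Nat.mul_dvd_mul_left _ hIH)
          have h2 : p ^ a * m ∣ Nat.card {x : G // x ^ (p ^ (a + 1) * m) = 1} := by
            refine dvd_trans ?_ h1
            rw [pow_succ, mul_right_comm]
            exact dvd_mul_right _ _
          rw [hsplit] at h2
          exact (Nat.dvd_add_left hA).1 h2
    intro n hn
    obtain ⟨k, hk⟩ := hn
    exact inner k n hk.symm

theorem frobenius {G : Type*} [Group G] [Finite G] (n : ℕ) (hn : n ∣ Nat.card G) :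
    n ∣ Nat.card {g : G // g ^ n = 1} :=
  frobenius_aux (Nat.card G) G rfl n hn

end Cfsg.Agent.Lib.Helper22
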