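import Mathlib
import Cfsg.Prelude.Def_Classical
import Cfsg.Agent.Lib.Helper19.O9U.Defs

set_option autoImplicit false
set_option linter.unusedVariables false

/-!
# Project O9U (S2517), arithmetic rows: common base (helper22).
`q = 2 r + 1` odd; all members of `T9` and all `tyN q e ε` as polynomials in `r` (no subtraction, no halving).
-/

namespace Cfsg.Agent.Lib.Helper19.O9U

/-! ### `q ^ e ∓ 1` in terms of `r` -/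

theorem o9uar_q1m (r : ℕ) : (2 * r + 1) - 1 = 2 * r := by omega

theorem o9uar_q2m (r : ℕ) : (2 * r + 1) ^ 2 - 1 = 4 * r * (r + 1) := by
  have : (2 * r + 1) ^ 2 = 4 * r * (r + 1) + 1 := by ring
  omega

theorem o9uar_q2p (r : ℕ) : (2 * r + 1) ^ 2 + 1 = 2 * (2 * r ^ 2 + 2 * r + 1) := by ring

theorem o9uar_q3m (r : ℕ) : (2 * r + 1) ^ 3 - 1 = 2 * r * (4 * r ^ 2 + 6 * r + 3) := by
  have : (2 * r + 1) ^ 3 = 2 * r * (4 * r ^ 2 + 6 * r + 3) + 1 := by ring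
  omega

theorem o9uar_q3p (r : ℕ) : (2 * r + 1) ^ 3 + 1 = 2 * (r + 1) * (4 * r ^ 2 + 2 * r + 1) := by ring

theorem o9uar_q4m (r : ℕ) : (2 * r + 1) ^ 4 - 1 = 8 * r * (r + 1) * (2 * r ^ 2 + 2 * r + 1) := by
  have : (2 * r + 1) ^ 4 = 8 * r * (r + 1) * (2 * r ^ 2 + 2 * r + 1) + 1 := by ring
  omega

theorem o9uar_q4p (r : ℕ) :
    (2 * r + 1) ^ 4 + 1 = 2 * (8 * r ^ 4 + 16 * r ^ 3 + 12 * r ^ 2 + 4 * r + 1) := by ring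

/-! ### `tyN` in terms of `r` -/

theorem o9uar_ty1t (r : ℕ) : tyN (2 * r + 1) 1 true = 2 * r := by
  rw [tyN_true, pow_one, o9uar_q1m]

theorem o9uar_ty1f (r : ℕ) : tyN (2 * r + 1) 1 false = 2 * (r + 1) := by
  rw [tyN_false, pow_one]; ring

theorem o9uar_ty2t (r : ℕ) : tyN (2 * r + 1) 2 true = 4 * r * (r + 1) := by
  rw [tyN_true, o9uar_q2m]

theorem o9uar_ty2f (r : ℕ) : tyN (2 * r + 1) 2 false = 2 * (2 * r ^ 2 + 2 * r + 1) := by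
  rw [tyN_false, o9uar_q2p]

theorem o9uar_ty3t (r : ℕ) : tyN (2 * r + 1) 3 true = 2 * r * (4 * r ^ 2 + 6 * r + 3) := by
  rw [tyN_true, o9uar_q3m]

theorem o9uar_ty3f (r : ℕ) : tyN (2 * r + 1) 3 false = 2 * (r + 1) * (4 * r ^ 2 + 2 * r + 1) := by
  rw [tyN_false, o9uar_q3p]

theorem o9uar_ty4t (r : ℕ) :
    tyN (2 * r + 1) 4 true = 8 * r * (r + 1) * (2 * r ^ 2 + 2 * r + 1) := by
  rw [tyN_true, o9uar_q4m]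

theorem o9uar_ty4f (r : ℕ) :
    tyN (2 * r + 1) 4 false = 2 * (8 * r ^ 4 + 16 * r ^ 3 + 12 * r ^ 2 + 4 * r + 1) := by
  rw [tyN_false, o9uar_q4p]

/-! ### the members of `T9` in terms of `r` -/

/-- `(q^4+1)/2` -/
theorem o9uar_T1 (r p : ℕ) : InT9 (2 * r + 1) p (8 * r ^ 4 + 16 * r ^ 3 + 12 * r ^ 2 + 4 * r + 1) :=
  Or.inl (by rw [o9uar_q4p])

/-- `(q^4-1)/2` -/
theorem o9uar_T2 (r p : ℕ) : InT9 (2 * r + 1) p (4 * r * (r + 1) * (2 * r ^ 2 + 2 * r + 1)) :=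
  Or.inr (Or.inl (by rw [o9uar_q4m]; ring))

/-- `(q^3-1)(q+1)/2` -/
theorem o9uar_T3 (r p : ℕ) : InT9 (2 * r + 1) p (2 * r * (r + 1) * (4 * r ^ 2 + 6 * r + 3)) :=
  Or.inr (Or.inr (Or.inl (by rw [o9uar_q3m]; ring)))

/-- `(q^3+1)(q-1)/2` -/
theorem o9uar_T4 (r p : ℕ) : InT9 (2 * r + 1) p (2 * r * (r + 1) * (4 * r ^ 2 + 2 * r + 1)) :=
  Or.inr (Or.inr (Or.inr (Or.inl (by rw [o9uar_q3p, o9uar_q1m]; ring))))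

/-- `p(q^3-1)/2` -/
theorem o9uar_T5 (r p : ℕ) : InT9 (2 * r + 1) p (p * (r * (4 * r ^ 2 + 6 * r + 3))) :=
  Or.inr (Or.inr (Or.inr (Or.inr (Or.inl (by rw [o9uar_q3m]; ring)))))

/-- `p(q^3+1)/2` -/
theorem o9uar_T6 (r p : ℕ) : InT9 (2 * r + 1) p (p * ((r + 1) * (4 * r ^ 2 + 2 * r + 1))) :=
  Or.inr (Or.inr (Or.inr (Or.inr (Or.inr (Or.inl (by rw [o9uar_q3p]; ring))))))

/-- `p(q^2+1)(q-1)/2` -/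
theorem o9uar_T7 (r p : ℕ) : InT9 (2 * r + 1) p (2 * p * (2 * r ^ 2 + 2 * r + 1) * r) :=
  Or.inr (Or.inr (Or.inr (Or.inr (Or.inr (Or.inr (Or.inl (by rw [o9uar_q2p, o9uar_q1m]; ring)))))))

/-- `p(q^2+1)(q+1)/2` -/
theorem o9uar_T8 (r p : ℕ) : InT9 (2 * r + 1) p (2 * p * (2 * r ^ 2 + 2 * r + 1) * (r + 1)) :=
  Or.inr (Or.inr (Or.inr (Or.inr (Or.inr (Or.inr (Or.inr (Or.inl (by rw [o9uar_q2p]; ring))))))))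

/-- `p(q^2-1)` -/
theorem o9uar_T9 (r p : ℕ) : InT9 (2 * r + 1) p (4 * p * r * (r + 1)) :=
  Or.inr (Or.inr (Or.inr (Or.inr (Or.inr (Or.inr (Or.inr (Or.inr (Or.inl
    (by rw [o9uar_q2m]; ring)))))))))

/-- `9(q^2+1)/2`, `p = 3` -/
theorem o9uar_T10a (r : ℕ) : InT9 (2 * r + 1) 3 (9 * (2 * r ^ 2 + 2 * r + 1)) :=
  Or.inr (Or.inr (Or.inr (Or.inr (Or.inr (Or.inr (Or.inr (Or.inr (Or.inr (Or.inl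
    ⟨rfl, Or.inl (by rw [o9uar_q2p]; ring)⟩)))))))))

/-- `9(q^2-1)/2`, `p = 3` -/
theorem o9uar_T10b (r : ℕ) : InT9 (2 * r + 1) 3 (18 * r * (r + 1)) :=
  Or.inr (Or.inr (Or.inr (Or.inr (Or.inr (Or.inr (Or.inr (Or.inr (Or.inr (Or.inl
    ⟨rfl, Or.inr (by rw [o9uar_q2m]; ring)⟩)))))))))

/-- `25(q-1)/2`, `p = 5` -/
theorem o9uar_T11a (r : ℕ) : InT9 (2 * r + 1) 5 (25 * r) :=
  Or.inr (Or.inr (Or.inr (Or.inr (Or.inr (Or.inr (Or.inr (Or.inr (Or.inr (Or.inr (Or.inl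
    ⟨rfl, Or.inl (by rw [o9uar_q1m]; ring)⟩))))))))))

/-- `25(q+1)/2`, `p = 5` -/
theorem o9uar_T11b (r : ℕ) : InT9 (2 * r + 1) 5 (25 * (r + 1)) :=
  Or.inr (Or.inr (Or.inr (Or.inr (Or.inr (Or.inr (Or.inr (Or.inr (Or.inr (Or.inr (Or.inl
    ⟨rfl, Or.inr (by ring)⟩))))))))))

/-- `49`, `p = 7` -/
theorem o9uar_T12 (r : ℕ) : InT9 (2 * r + 1) 7 49 :=
  Or.inr (Or.inr (Or.inr (Or.inr (Or.inr (Or.inr (Or.inr (Or.inr (Or.inr (Or.inr (Or.inr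
    ⟨rfl, rfl⟩))))))))))

/-- an odd `q ≥ 3` is `2 r + 1` with `r ≥ 1` -/
theorem o9uar_odd (q : ℕ) (hq : Odd q) (hq3 : 3 ≤ q) : ∃ r : ℕ, 1 ≤ r ∧ q = 2 * r + 1 := by
  obtain ⟨r, hr⟩ := hq
  exact ⟨r, by omega, hr⟩

/-- a prime `p ≥ 3` is `3`, `5`, `7` or `≥ 11` -/
theorem o9uar_prime_cases (p : ℕ) (hp : p.Prime) (hp3 : 3 ≤ p) : p = 3 ∨ p = 5 ∨ p = 7 ∨ 11 ≤ p := by
  by_contra h
  push Not at h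
  obtain ⟨h3, h5, h7, h11⟩ := h
  interval_cases p <;> first | omega | (exact absurd hp (by norm_num))

/-! ### packages `(N, m, t)`: the divisibility facts -/

/-- package A: `N = m = (q^4-1)/2`, `t = 0` -/
theorem o9uar_pkgA (r p : ℕ) :
    4 * r * (r + 1) * (2 * r ^ 2 + 2 * r + 1) * p ^ 0 ∣ 4 * r * (r + 1) * (2 * r ^ 2 + 2 * r + 1) ∧
    2 * r ∣ 4 * r * (r + 1) * (2 * r ^ 2 + 2 * r + 1) ∧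
    2 * (r + 1) ∣ 4 * r * (r + 1) * (2 * r ^ 2 + 2 * r + 1) ∧
    4 * r * (r + 1) ∣ 4 * r * (r + 1) * (2 * r ^ 2 + 2 * r + 1) ∧
    2 * (2 * r ^ 2 + 2 * r + 1) ∣ 4 * r * (r + 1) * (2 * r ^ 2 + 2 * r + 1) ∧
    2 ∣ 4 * r * (r + 1) * (2 * r ^ 2 + 2 * r + 1) :=
  ⟨⟨1, by ring⟩, ⟨2 * (r + 1) * (2 * r ^ 2 + 2 * r + 1), by ring⟩, ⟨2 * r * (2 * r ^ 2 + 2 * r + 1), by ring⟩,
    ⟨2 * r ^ 2 + 2 * r + 1, by ring⟩, ⟨2 * r * (r + 1), by ring⟩,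
    ⟨2 * r * (r + 1) * (2 * r ^ 2 + 2 * r + 1), by ring⟩⟩

/-- package B: `N = m = (q^3-1)(q+1)/2`, `t = 0` -/
theorem o9uar_pkgB (r p : ℕ) :
    2 * r * (r + 1) * (4 * r ^ 2 + 6 * r + 3) * p ^ 0 ∣ 2 * r * (r + 1) * (4 * r ^ 2 + 6 * r + 3) ∧
    2 * r ∣ 2 * r * (r + 1) * (4 * r ^ 2 + 6 * r + 3) ∧
    2 * (r + 1) ∣ 2 * r * (r + 1) * (4 * r ^ 2 + 6 * r + 3) ∧
    2 * r * (4 * r ^ 2 + 6 * r + 3) ∣ 2 * r * (r + 1) * (4 * r ^ 2 + 6 * r + 3) ∧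
    2 ∣ 2 * r * (r + 1) * (4 * r ^ 2 + 6 * r + 3) :=
  ⟨⟨1, by ring⟩, ⟨(r + 1) * (4 * r ^ 2 + 6 * r + 3), by ring⟩, ⟨r * (4 * r ^ 2 + 6 * r + 3), by ring⟩,
    ⟨r + 1, by ring⟩, ⟨r * (r + 1) * (4 * r ^ 2 + 6 * r + 3), by ring⟩⟩

/-- package C: `N = m = (q^3+1)(q-1)/2`, `t = 0` -/
theorem o9uar_pkgC (r p : ℕ) :
    2 * r * (r + 1) * (4 * r ^ 2 + 2 * r + 1) * p ^ 0 ∣ 2 * r * (r + 1) * (4 * r ^ 2 + 2 * r + 1) ∧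
    2 * r ∣ 2 * r * (r + 1) * (4 * r ^ 2 + 2 * r + 1) ∧
    2 * (r + 1) ∣ 2 * r * (r + 1) * (4 * r ^ 2 + 2 * r + 1) ∧
    2 * (r + 1) * (4 * r ^ 2 + 2 * r + 1) ∣ 2 * r * (r + 1) * (4 * r ^ 2 + 2 * r + 1) ∧
    2 ∣ 2 * r * (r + 1) * (4 * r ^ 2 + 2 * r + 1) :=
  ⟨⟨1, by ring⟩, ⟨(r + 1) * (4 * r ^ 2 + 2 * r + 1), by ring⟩, ⟨r * (4 * r ^ 2 + 2 * r + 1), by ring⟩,
    ⟨r, by ring⟩, ⟨r * (r + 1) * (4 * r ^ 2 + 2 * r + 1), by ring⟩⟩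

/-- package D: `N = p(q^2-1)`, `m = q^2-1`, `t = 1` -/
theorem o9uar_pkgD (r p : ℕ) :
    4 * r * (r + 1) * p ^ 1 ∣ 4 * p * r * (r + 1) ∧
    2 * r ∣ 4 * r * (r + 1) ∧ 2 * (r + 1) ∣ 4 * r * (r + 1) ∧ 4 * r * (r + 1) ∣ 4 * r * (r + 1) ∧
    2 ∣ 4 * r * (r + 1) :=
  ⟨⟨1, by ring⟩, ⟨2 * (r + 1), by ring⟩, ⟨2 * r, by ring⟩, dvd_refl _, ⟨2 * r * (r + 1), by ring⟩⟩

/-- package E: `N = p(q^2+1)(q-1)/2`, `m = (q^2+1)(q-1)/2`, `t = 1` -/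
theorem o9uar_pkgE (r p : ℕ) :
    2 * (2 * r ^ 2 + 2 * r + 1) * r * p ^ 1 ∣ 2 * p * (2 * r ^ 2 + 2 * r + 1) * r ∧
    2 * r ∣ 2 * (2 * r ^ 2 + 2 * r + 1) * r ∧
    2 * (2 * r ^ 2 + 2 * r + 1) ∣ 2 * (2 * r ^ 2 + 2 * r + 1) * r ∧
    2 ∣ 2 * (2 * r ^ 2 + 2 * r + 1) * r :=
  ⟨⟨1, by ring⟩, ⟨2 * r ^ 2 + 2 * r + 1, by ring⟩, ⟨r, by ring⟩, ⟨(2 * r ^ 2 + 2 * r + 1) * r, by ring⟩⟩

/-- package F: `N = p(q^2+1)(q+1)/2`, `m = (q^2+1)(q+1)/2`, `t = 1` -/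
theorem o9uar_pkgF (r p : ℕ) :
    2 * (2 * r ^ 2 + 2 * r + 1) * (r + 1) * p ^ 1 ∣ 2 * p * (2 * r ^ 2 + 2 * r + 1) * (r + 1) ∧
    2 * (r + 1) ∣ 2 * (2 * r ^ 2 + 2 * r + 1) * (r + 1) ∧
    2 * (2 * r ^ 2 + 2 * r + 1) ∣ 2 * (2 * r ^ 2 + 2 * r + 1) * (r + 1) ∧
    2 ∣ 2 * (2 * r ^ 2 + 2 * r + 1) * (r + 1) :=
  ⟨⟨1, by ring⟩, ⟨2 * r ^ 2 + 2 * r + 1, by ring⟩, ⟨r + 1, by ring⟩,
    ⟨(2 * r ^ 2 + 2 * r + 1) * (r + 1), by ring⟩⟩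

/-- package G (`p = 3`): `N = 9(q^2-1)/2`, `m = (q^2-1)/2`, `t = 2` -/
theorem o9uar_pkgG (r : ℕ) :
    2 * r * (r + 1) * 3 ^ 2 ∣ 18 * r * (r + 1) ∧
    2 * r ∣ 2 * r * (r + 1) ∧ 2 * (r + 1) ∣ 2 * r * (r + 1) ∧ 2 ∣ 2 * r * (r + 1) :=
  ⟨⟨1, by ring⟩, ⟨r + 1, by ring⟩, ⟨r, by ring⟩, ⟨r * (r + 1), by ring⟩⟩

/-- package H (`p = 5`): `N = 25(q∓1)/2`, `m = (q∓1)/2`, `t = 2` -/
theorem o9uar_pkgH1 (r : ℕ) : r * 5 ^ 2 ∣ 25 * r := ⟨1, by ring⟩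

theorem o9uar_pkgH2 (r : ℕ) : (r + 1) * 5 ^ 2 ∣ 25 * (r + 1) := ⟨1, by ring⟩

/-- package I (`p = 7`): `N = 49`, `m = 1`, `t = 2` -/
theorem o9uar_pkgI : 1 * 7 ^ 2 ∣ 49 := ⟨1, by norm_num⟩

end Cfsg.Agent.Lib.Helper19.O9U
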