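import Mathlib
import Cfsg.Prelude.Def_Classical
import Cfsg.Agent.Lib.Helper19.O9U.Defs
import Cfsg.Agent.Lib.Helper22.O9UARITHbase

set_option autoImplicit false
set_option linter.unusedVariables false
set_option linter.unreachableTactic false
set_option linter.unusedTactic false
set_option maxHeartbeats 1000000

/-!
# Project O9U (S2517), row ARITHC (`arith9_c`), verbatim from `Helper19/O9U/Skel.lean.txt`.  (helper22)
-/

namespace Cfsg.Agent.Lib.Helper19.O9U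

open Polynomial

/-- the arithmetic core with plain naturals, `q = 2 r + 1` -/
theorem o9uarithc_core (r p : ℕ) (hr : 1 ≤ r) (hp : p.Prime) (hp3 : 3 ≤ p) (a c A B C D E3 F3 E4 F4 : ℕ)
    (ha : Odd a) (ha3 : 3 ≤ a) (hc : Even c)
    (hsum : a + c + 2 * ((A + B) + 2 * (C + D) + 3 * (E3 + F3) + 4 * (E4 + F4)) = 9)
    (hns : c ≠ 0 ∨ A + B + C + D + E3 + F3 + E4 + F4 ≠ 1) :
    ∃ N, InT9 (2 * r + 1) p N ∧ ∃ m t : ℕ, m * p ^ t ∣ N ∧
      (A ≠ 0 → 2 * r ∣ m) ∧ (B ≠ 0 → 2 * (r + 1) ∣ m) ∧ (C ≠ 0 → 4 * r * (r + 1) ∣ m) ∧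
      (D ≠ 0 → 2 * (2 * r ^ 2 + 2 * r + 1) ∣ m) ∧
      (E3 ≠ 0 → 2 * r * (4 * r ^ 2 + 6 * r + 3) ∣ m) ∧
      (F3 ≠ 0 → 2 * (r + 1) * (4 * r ^ 2 + 2 * r + 1) ∣ m) ∧
      (E4 ≠ 0 → 8 * r * (r + 1) * (2 * r ^ 2 + 2 * r + 1) ∣ m) ∧
      (F4 ≠ 0 → 2 * (8 * r ^ 4 + 16 * r ^ 3 + 12 * r ^ 2 + 4 * r + 1) ∣ m) ∧
      (c ≠ 0 → 2 ∣ m) ∧ a ≤ p ^ t ∧ c ≤ p ^ t + 1 ∧
      A ≤ p ^ t ∧ B ≤ p ^ t ∧ C ≤ p ^ t ∧ D ≤ p ^ t ∧ E3 ≤ p ^ t ∧ F3 ≤ p ^ t ∧
      E4 ≤ p ^ t ∧ F4 ≤ p ^ t := by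
  have hp0 : p ^ 0 = 1 := pow_zero p
  have hp1 : p ^ 1 = p := pow_one p
  obtain ⟨d0, d1, d2, d3, d4⟩ := o9uar_pkgD r p
  obtain ⟨e0, e1, e2, e3⟩ := o9uar_pkgE r p
  obtain ⟨f0, f1, f2, f3⟩ := o9uar_pkgF r p
  obtain ⟨a', rfl⟩ := ha
  obtain ⟨c', rfl⟩ := hc
  have hE4 : E4 = 0 := by omega
  have hF4 : F4 = 0 := by omega
  subst hE4 hF4
  rcases o9uar_prime_cases p hp hp3 with hp' | hp' | hp' | hp'
  · -- p = 3
    subst hp'
    obtain ⟨g0, g1, g2, g3⟩ := o9uar_pkgG r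
    have h9 : (3 : ℕ) ^ 2 = 9 := by norm_num
    by_cases hD : D ≠ 0
    · by_cases hB : B ≠ 0
      · refine ⟨_, o9uar_T8 r 3, _, 1, f0, ?_, ?_, ?_, ?_, ?_, ?_, ?_, ?_, ?_, ?_, ?_, ?_, ?_, ?_, ?_, ?_, ?_, ?_, ?_⟩
        all_goals first
          | omega
          | (intro h; exfalso; omega)
          | (intro _; assumption)
      · refine ⟨_, o9uar_T7 r 3, _, 1, e0, ?_, ?_, ?_, ?_, ?_, ?_, ?_, ?_, ?_, ?_, ?_, ?_, ?_, ?_, ?_, ?_, ?_, ?_, ?_⟩
        all_goals first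
          | omega
          | (intro h; exfalso; omega)
          | (intro _; assumption)
    push Not at hD
    subst hD
    by_cases hbig : a' = 1 ∧ c' ≤ 2
    · -- a = 3, c ≤ 4: package D
      refine ⟨_, o9uar_T9 r 3, _, 1, d0, ?_, ?_, ?_, ?_, ?_, ?_, ?_, ?_, ?_, ?_, ?_, ?_, ?_, ?_, ?_, ?_, ?_, ?_, ?_⟩
      all_goals first
        | omega
        | (intro h; exfalso; omega)
        | (intro _; assumption)
    · refine ⟨_, o9uar_T10b r, _, 2, g0, ?_, ?_, ?_, ?_, ?_, ?_, ?_, ?_, ?_, ?_, ?_, ?_, ?_, ?_, ?_, ?_, ?_, ?_, ?_⟩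
      all_goals first
        | omega
        | (intro h; exfalso; omega)
        | (intro _; assumption)
  · -- p = 5
    subst hp'
    have h25 : (5 : ℕ) ^ 2 = 25 := by norm_num
    have h51 : (5 : ℕ) ^ 1 = 5 := by norm_num
    by_cases ha7 : 3 ≤ a'
    · -- a = 7 or 9: w = 0
      rcases Nat.even_or_odd r with hre | hro
      · have h2r : 2 ∣ r := hre.two_dvd
        refine ⟨_, o9uar_T11a r, r, 2, o9uar_pkgH1 r, ?_, ?_, ?_, ?_, ?_, ?_, ?_, ?_, ?_, ?_, ?_, ?_, ?_, ?_, ?_, ?_, ?_, ?_, ?_⟩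
        all_goals first
          | omega
          | (intro h; exfalso; omega)
          | (intro _; assumption)
      · have h2r : 2 ∣ r + 1 := by
          obtain ⟨k, hk⟩ := hro
          exact ⟨k + 1, by omega⟩
        refine ⟨_, o9uar_T11b r, r + 1, 2, o9uar_pkgH2 r, ?_, ?_, ?_, ?_, ?_, ?_, ?_, ?_, ?_, ?_, ?_, ?_, ?_, ?_, ?_, ?_, ?_, ?_, ?_⟩
        all_goals first
          | omega
          | (intro h; exfalso; omega)
          | (intro _; assumption)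
    · by_cases hD : D ≠ 0
      · by_cases hB : B ≠ 0
        · refine ⟨_, o9uar_T8 r 5, _, 1, f0, ?_, ?_, ?_, ?_, ?_, ?_, ?_, ?_, ?_, ?_, ?_, ?_, ?_, ?_, ?_, ?_, ?_, ?_, ?_⟩
          all_goals first
            | omega
            | (intro h; exfalso; omega)
            | (intro _; assumption)
        · refine ⟨_, o9uar_T7 r 5, _, 1, e0, ?_, ?_, ?_, ?_, ?_, ?_, ?_, ?_, ?_, ?_, ?_, ?_, ?_, ?_, ?_, ?_, ?_, ?_, ?_⟩
          all_goals first
            | omega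
            | (intro h; exfalso; omega)
            | (intro _; assumption)
      · refine ⟨_, o9uar_T9 r 5, _, 1, d0, ?_, ?_, ?_, ?_, ?_, ?_, ?_, ?_, ?_, ?_, ?_, ?_, ?_, ?_, ?_, ?_, ?_, ?_, ?_⟩
        all_goals first
          | omega
          | (intro h; exfalso; omega)
          | (intro _; assumption)
  · -- p = 7
    subst hp'
    have h49 : (7 : ℕ) ^ 2 = 49 := by norm_num
    have h71 : (7 : ℕ) ^ 1 = 7 := by norm_num
    by_cases ha9 : a' = 4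
    · refine ⟨_, o9uar_T12 r, 1, 2, o9uar_pkgI, ?_, ?_, ?_, ?_, ?_, ?_, ?_, ?_, ?_, ?_, ?_, ?_, ?_, ?_, ?_, ?_, ?_, ?_, ?_⟩
      all_goals first
        | omega
        | (intro h; exfalso; omega)
        | (intro _; assumption)
    · by_cases hD : D ≠ 0
      · by_cases hB : B ≠ 0
        · refine ⟨_, o9uar_T8 r 7, _, 1, f0, ?_, ?_, ?_, ?_, ?_, ?_, ?_, ?_, ?_, ?_, ?_, ?_, ?_, ?_, ?_, ?_, ?_, ?_, ?_⟩
          all_goals first
            | omega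
            | (intro h; exfalso; omega)
            | (intro _; assumption)
        · refine ⟨_, o9uar_T7 r 7, _, 1, e0, ?_, ?_, ?_, ?_, ?_, ?_, ?_, ?_, ?_, ?_, ?_, ?_, ?_, ?_, ?_, ?_, ?_, ?_, ?_⟩
          all_goals first
            | omega
            | (intro h; exfalso; omega)
            | (intro _; assumption)
      · refine ⟨_, o9uar_T9 r 7, _, 1, d0, ?_, ?_, ?_, ?_, ?_, ?_, ?_, ?_, ?_, ?_, ?_, ?_, ?_, ?_, ?_, ?_, ?_, ?_, ?_⟩
        all_goals first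
          | omega
          | (intro h; exfalso; omega)
          | (intro _; assumption)
  · -- p ≥ 11
    by_cases hD : D ≠ 0
    · by_cases hB : B ≠ 0
      · refine ⟨_, o9uar_T8 r p, _, 1, f0, ?_, ?_, ?_, ?_, ?_, ?_, ?_, ?_, ?_, ?_, ?_, ?_, ?_, ?_, ?_, ?_, ?_, ?_, ?_⟩
        all_goals first
          | omega
          | (intro h; exfalso; omega)
          | (intro _; assumption)
      · refine ⟨_, o9uar_T7 r p, _, 1, e0, ?_, ?_, ?_, ?_, ?_, ?_, ?_, ?_, ?_, ?_, ?_, ?_, ?_, ?_, ?_, ?_, ?_, ?_, ?_⟩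
        all_goals first
          | omega
          | (intro h; exfalso; omega)
          | (intro _; assumption)
    · refine ⟨_, o9uar_T9 r p, _, 1, d0, ?_, ?_, ?_, ?_, ?_, ?_, ?_, ?_, ?_, ?_, ?_, ?_, ?_, ?_, ?_, ?_, ?_, ?_, ?_⟩
      all_goals first
        | omega
        | (intro h; exfalso; omega)
        | (intro _; assumption)

/-- ARITHC -/
theorem arith9_c (q p : ℕ) (hq : Odd q) (hq3 : 3 ≤ q) (hp : p.Prime) (hp3 : 3 ≤ p) (a c : ℕ)
    (w : ℕ → Bool → ℕ) (ha : Odd a) (ha3 : 3 ≤ a) (hc : Even c)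
    (hsum : a + c + 2 * ∑ e ∈ Finset.range 5, e * (w e true + w e false) = 9)
    (hsupp : ∀ e ε, w e ε ≠ 0 → 1 ≤ e ∧ e ≤ 4)
    (hns : c ≠ 0 ∨ ∑ e ∈ Finset.range 5, (w e true + w e false) ≠ 1) :
    ∃ N, InT9 q p N ∧ ∃ m t : ℕ, m * p ^ t ∣ N ∧ (∀ e ε, w e ε ≠ 0 → tyN q e ε ∣ m) ∧ (c ≠ 0 → 2 ∣ m) ∧
      a ≤ p ^ t ∧ c ≤ p ^ t + 1 ∧ ∀ e ε, w e ε ≤ p ^ t := by
  obtain ⟨r, hr, rfl⟩ := o9uar_odd q hq hq3
  have hs : ∑ e ∈ Finset.range 5, e * (w e true + w e false) =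
      (w 1 true + w 1 false) + 2 * (w 2 true + w 2 false) + 3 * (w 3 true + w 3 false) +
        4 * (w 4 true + w 4 false) := by
    simp [Finset.sum_range_succ]
  have h0t : w 0 true = 0 := by
    by_contra h
    have := hsupp 0 true h
    omega
  have h0f : w 0 false = 0 := by
    by_contra h
    have := hsupp 0 false h
    omega
  have hcnt : ∑ e ∈ Finset.range 5, (w e true + w e false) =
      (w 1 true + w 1 false) + (w 2 true + w 2 false) + (w 3 true + w 3 false) +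
        (w 4 true + w 4 false) := by
    simp [Finset.sum_range_succ, h0t, h0f]
  rw [hs] at hsum
  rw [hcnt] at hns
  obtain ⟨N, hN, m, t, hNm, h1t, h1f, h2t, h2f, h3t, h3f, h4t, h4f, hc2, hat, hct, b1t, b1f, b2t, b2f,
    b3t, b3f, b4t, b4f⟩ := o9uarithc_core r p hr hp hp3 a c (w 1 true) (w 1 false) (w 2 true) (w 2 false)
      (w 3 true) (w 3 false) (w 4 true) (w 4 false) ha ha3 hc (by omega) (by omega)
  refine ⟨N, hN, m, t, hNm, ?_, hc2, hat, hct, ?_⟩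
  · intro e ε hne
    obtain ⟨he1, he4⟩ := hsupp e ε hne
    interval_cases e <;> cases ε
    · rw [o9uar_ty1f]; exact h1f hne
    · rw [o9uar_ty1t]; exact h1t hne
    · rw [o9uar_ty2f]; exact h2f hne
    · rw [o9uar_ty2t]; exact h2t hne
    · rw [o9uar_ty3f]; exact h3f hne
    · rw [o9uar_ty3t]; exact h3t hne
    · rw [o9uar_ty4f]; exact h4f hne
    · rw [o9uar_ty4t]; exact h4t hne
  · intro e ε
    by_cases hne : w e ε = 0
    · rw [hne]; exact Nat.zero_le _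
    obtain ⟨he1, he4⟩ := hsupp e ε hne
    interval_cases e <;> cases ε
    · exact b1f
    · exact b1t
    · exact b2f
    · exact b2t
    · exact b3f
    · exact b3t
    · exact b4f
    · exact b4t

end Cfsg.Agent.Lib.Helper19.O9U
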