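import Mathlib
import Cfsg.Prelude.Def_GeometricClasses
import Cfsg.Agent.Lib.Helper19.OU.Defs
import Cfsg.Agent.Lib.Helper10.OUEXSS
import Cfsg.Agent.Lib.Helper20.OUKLIN

set_option autoImplicit false
set_option linter.unusedVariables false
set_option linter.unusedSectionVars false

/-!
# Project OU (leader: helper19) -> S5700, piece HODEC (helper22), CORE : `ho_decomp` from the STATEMENTS of
EXSP (`ex_sing_perp`), EXSS (`ex_sing_solve`, `r = 4`), `kl_li2`, `kl_sing`, `kl_finrank_le` taken as hypotheses.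
The verbatim wrapper is `OUHODEC.lean`.
-/

namespace Cfsg.Agent.Lib.Helper19.OU

open Matrix Cfsg.Agent.Lib.Helper28.HForm Cfsg.Agent.Lib.Helper28.OGen
  Cfsg.Agent.Lib.Helper28.OMax Cfsg.Agent.Lib.Helper28.OQ Cfsg.Agent.Lib.Helper28.OMax2
  Cfsg.Agent.Lib.Helper28.OIwa Cfsg.Agent.Lib.Helper28.OPair

variable {n : ℕ} {F : Type*} [Field F] {Q : (Fin n → F) → F}
  {f : (Fin n → F) → (Fin n → F) → F} {θ : Matrix (Fin n) (Fin n) F} {t N : F}
  {G M : Subgroup (Matrix.GeneralLinearGroup (Fin n) F)}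

/-- HODEC, core: with the statements of EXSP (`ex_sing_perp`), EXSS (`ex_sing_solve`), `kl_li2`, `kl_sing`,
`kl_finrank_le` as hypotheses. -/
theorem ouhodec_core (hq : QF Q f)
    (hexsp : ∀ S : Submodule F (Fin n → F), 2 * Module.finrank F S + 3 ≤ n →
      ∃ w, Q w = 0 ∧ (∀ s ∈ S, f s w = 0) ∧ w ∉ S)
    (hexss : ∀ (a : Fin 4 → (Fin n → F)), LinearIndependent F a → ∀ (c : Fin 4 → F) (j : Fin 4),
      c j ≠ 0 → Q (a j) = 0 → (∀ i, f (a i) (a j) = 0) → ∃ w, Q w = 0 ∧ ∀ i, f (a i) w = c i)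
    (hn : 9 ≤ n) {u : Fin n → F} (hu : Q u = 0)
    (hli2 : LinearIndependent F ![u, θ *ᵥ u])
    (hsing : ∀ x ∈ Kl θ u, Q x = 0)
    (hfr : Module.finrank F (Kl θ u) ≤ 2)
    (z : Fin n → F) (hz : HO f θ u z) :
    ∃ y₁ y₂, z = y₁ + y₂ ∧ Q y₁ = 0 ∧ Q y₂ = 0 ∧ HO f θ u y₁ ∧ HO f θ u y₂ := by
  have hs := hq.sym
  by_cases hQz : Q z = 0
  · refine ⟨z, 0, (add_zero z).symm, hQz, Q_zero hq, hz, ?_, ?_⟩
    · exact f_zero_right hs u
    · exact f_zero_right hs _
  -- `z ∉ K u`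
  have hzK : z ∉ Kl θ u := fun h => hQz (hsing z h)
  -- the subspace `S = K u ⊔ ⟨z⟩`
  obtain ⟨S, hS⟩ : ∃ S : Submodule F (Fin n → F), S = Kl θ u ⊔ Submodule.span F {z} := ⟨_, rfl⟩
  have hSfr : Module.finrank F S ≤ 3 := by
    have h1 := Submodule.finrank_add_le_finrank_add_finrank (Kl θ u) (Submodule.span F {z})
    have h2 : Module.finrank F (Submodule.span F ({z} : Set (Fin n → F))) ≤ 1 := by
      have := finrank_span_le_card (R := F) ({z} : Set (Fin n → F))
      simpa using this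
    rw [← hS] at h1
    omega
  obtain ⟨s, hQs, hsS, hsn⟩ := hexsp S (by omega)
  have huS : u ∈ S := by
    rw [hS]
    exact Submodule.mem_sup_left (Submodule.subset_span (Set.mem_insert _ _))
  have hθuS : θ *ᵥ u ∈ S := by
    rw [hS]
    exact Submodule.mem_sup_left (Submodule.subset_span (Set.mem_insert_of_mem _ rfl))
  have hzS : z ∈ S := by
    rw [hS]
    exact Submodule.mem_sup_right (Submodule.subset_span rfl)
  -- independence of `![s, z, u, θ u]`
  have hspan2 : Submodule.span F (Set.range ![u, θ *ᵥ u]) = Kl θ u := by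
    unfold Kl
    congr 1
    ext x
    simp only [Set.mem_range, Fin.exists_fin_two, Matrix.cons_val_zero, Matrix.cons_val_one,
      Set.mem_insert_iff, Set.mem_singleton_iff]
    constructor
    · rintro (h | h)
      · exact Or.inl h.symm
      · exact Or.inr h.symm
    · rintro (h | h)
      · exact Or.inl h.symm
      · exact Or.inr h.symm
  have hli3 : LinearIndependent F ![z, u, θ *ᵥ u] := by
    have : (![z, u, θ *ᵥ u] : Fin 3 → (Fin n → F)) = Fin.cons z ![u, θ *ᵥ u] := rfl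
    rw [this, linearIndependent_finCons]
    exact ⟨hli2, by rw [hspan2]; exact hzK⟩
  have hspan3 : Submodule.span F (Set.range ![z, u, θ *ᵥ u]) ≤ S := by
    rw [Submodule.span_le]
    rintro x ⟨i, rfl⟩
    fin_cases i
    · exact hzS
    · exact huS
    · exact hθuS
  have hli4 : LinearIndependent F ![s, z, u, θ *ᵥ u] := by
    have : (![s, z, u, θ *ᵥ u] : Fin 4 → (Fin n → F)) = Fin.cons s ![z, u, θ *ᵥ u] := rfl
    rw [this, linearIndependent_finCons]
    exact ⟨hli3, fun h => hsn (hspan3 h)⟩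
  obtain ⟨e, hQe, he⟩ := hexss ![s, z, u, θ *ᵥ u] hli4 ![1, 1, 0, 0] 0 (by simp) hQs (by
    intro i
    fin_cases i
    · show f s s = 0
      rw [f_self hq, hQs, mul_zero]
    · exact hsS z hzS
    · exact hsS u huS
    · exact hsS _ hθuS)
  have hze : f z e = 1 := he 1
  have hue : f u e = 0 := he 2
  have hθue : f (θ *ᵥ u) e = 0 := he 3
  refine ⟨Q z • e, z - Q z • e, by abel, ?_, ?_, ?_, ?_⟩
  · rw [hq.smul, hQe, mul_zero]
  · have h1 : z - Q z • e = z + (-(Q z)) • e := by rw [neg_smul, sub_eq_add_neg]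
    rw [h1, hq.polar, hq.smul, hQe, mul_zero, add_zero, s_smul_right hs, hze]
    ring
  · exact ⟨by rw [s_smul_right hs, hue, mul_zero], by rw [s_smul_right hs, hθue, mul_zero]⟩
  · refine ⟨?_, ?_⟩
    · rw [f_sub_right hs, s_smul_right hs, hue, mul_zero, sub_zero]; exact hz.1
    · rw [f_sub_right hs, s_smul_right hs, hθue, mul_zero, sub_zero]; exact hz.2

/-- the `K`-line of a singular vector is totally singular (own copy of the FORM statement `kl_sing`) -/
theorem ouhodec_kl_sing (ks : KS Q f θ t N) {u : Fin n → F} (hu : Q u = 0) : ∀ x ∈ Kl θ u, Q x = 0 := by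
  intro x hx
  unfold Kl at hx
  obtain ⟨a, b, rfl⟩ := Submodule.mem_span_pair.mp hx
  have hs := ks.hq.sym
  rw [ks.hq.polar, ks.hq.smul, ks.hq.smul, ks.Qθ, hu, hs.smul_left, s_smul_right hs, ks.fθ, hu]
  ring

/-- HODEC with only the statement of EXSP (`ex_sing_perp`) as a hypothesis (EXSS, KLIN are landed). -/
theorem ouhodec_core2 (hn : 9 ≤ n) (ks : KS Q f θ t N)
    (hexsp : ∀ S : Submodule F (Fin n → F), 2 * Module.finrank F S + 3 ≤ n →
      ∃ w, Q w = 0 ∧ (∀ s ∈ S, f s w = 0) ∧ w ∉ S)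
    {u : Fin n → F} (hu : Q u = 0) (hu0 : u ≠ 0) (z : Fin n → F) (hz : HO f θ u z) :
    ∃ y₁ y₂, z = y₁ + y₂ ∧ Q y₁ = 0 ∧ Q y₂ = 0 ∧ HO f θ u y₁ ∧ HO f θ u y₂ :=
  ouhodec_core ks.hq hexsp
    (fun a ha c j hj hQj hfj => ex_sing_solve ks.hq a ha c j hj hQj hfj) hn hu (kl_li2 ks hu0)
    (ouhodec_kl_sing ks hu) (kl_finrank_le θ u) z hz

end Cfsg.Agent.Lib.Helper19.OU
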