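import Mathlib

/-!
# Project PSB (helper10), piece CPL : Schur–Zassenhaus existence inside `K`
-/

set_option autoImplicit false

namespace Cfsg.Agent.Lib.Helper10.PSB

-- piece CPL  (Schur–Zassenhaus existence in the group ↥K:
-- Mathlib `Subgroup.exists_right_complement'_of_coprime` for Q.subgroupOf K)
theorem exists_compl {G : Type*} [Group G] [Finite G] (p : ℕ) [Fact p.Prime]
    (Q K : Subgroup G) [Q.Normal] (hQK : Q ≤ K) (hQ : IsPGroup p Q)
    (hidx : (Q.relIndex K).Coprime p) :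
    ∃ H : Subgroup G, H ≤ K ∧ H ⊓ Q = ⊥ ∧ H ⊔ Q = K ∧ (Nat.card H).Coprime p := by
  haveI : (Q.subgroupOf K).Normal := Subgroup.normal_subgroupOf
  obtain ⟨a, ha⟩ := (IsPGroup.iff_card).mp hQ
  have hcardQ' : Nat.card ↥(Q.subgroupOf K) = Nat.card ↥Q :=
    Nat.card_congr (Subgroup.subgroupOfEquivOfLe hQK).toEquiv
  have hcop : Nat.Coprime (Nat.card ↥(Q.subgroupOf K)) (Q.subgroupOf K).index := by
    rw [hcardQ', ha]
    apply Nat.Coprime.pow_left
    exact hidx.symm
  obtain ⟨H', hH'⟩ := Subgroup.exists_right_complement'_of_coprime hcop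
  refine ⟨H'.map K.subtype, ?_, ?_, ?_, ?_⟩
  · intro x hx
    obtain ⟨h, _, rfl⟩ := Subgroup.mem_map.mp hx
    exact h.2
  · rw [eq_bot_iff]
    intro x hx
    obtain ⟨hxH, hxQ⟩ := Subgroup.mem_inf.mp hx
    obtain ⟨h, hh, rfl⟩ := Subgroup.mem_map.mp hxH
    have hhQ : h ∈ Q.subgroupOf K := Subgroup.mem_subgroupOf.mpr hxQ
    have : h ∈ Q.subgroupOf K ⊓ H' := Subgroup.mem_inf.mpr ⟨hhQ, hh⟩
    rw [hH'.disjoint.eq_bot, Subgroup.mem_bot] at this
    rw [Subgroup.mem_bot, this]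
    rfl
  · have h1 : (Q.subgroupOf K ⊔ H').map K.subtype = K := by
      rw [hH'.sup_eq_top, ← MonoidHom.range_eq_map, Subgroup.range_subtype]
    rw [Subgroup.map_sup, Subgroup.map_subgroupOf_eq_of_le hQK] at h1
    rw [sup_comm]
    exact h1
  · have h1 : Nat.card ↥(H'.map K.subtype) = Nat.card ↥H' :=
      (Nat.card_congr (H'.equivMapOfInjective K.subtype K.subtype_injective).toEquiv).symm
    rw [h1, ← hH'.symm.index_eq_card]
    exact hidx

end Cfsg.Agent.Lib.Helper10.PSB
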