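import Mathlib
import Cfsg.Agent.Lib.Helper20.Marg.Defs
import Cfsg.Agent.Lib.Helper13.MinDegF

/-!
# S3620 (Marggraf), piece (B) : two Jordan sets of the same size differing in one point
-/

set_option autoImplicit false

open MulAction SubMulAction

namespace Cfsg.Agent.Lib.Helper22.MargB
open Cfsg.Agent.Lib.Helper20.Marg

universe u v

section
variable {G : Type v} [Group G] {α : Type u} [MulAction G α]

/-- an element fixing `s` pointwise preserves the complement of `s` -/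
theorem smul_not_mem_of_fix {s : Set α} {g : G} (hg : ∀ y ∈ s, g • y = y) {x : α} (hx : x ∉ s) :
    g • x ∉ s := by
  intro h
  have h1 : g • (g • x) = g • x := hg _ h
  have h2 : g • x = x := smul_left_cancel g h1
  exact hx (h2 ▸ h)

/-- the pointwise stabilizer of the complement of `insert d Δ₀` is 2-transitive on `insert d Δ₀`
as soon as `Δ₀` is a Jordan set and every point can be moved to `d`. -/
theorem two_trans_aux {Δ₀ : Set α} {d : α} (hd : d ∉ Δ₀) (hJ0 : IsJordanSet G Δ₀)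
    (hT : ∀ x, x ∈ insert d Δ₀ → ∃ g : G, (∀ y, y ∉ insert d Δ₀ → g • y = y) ∧ g • x = d) :
    IsMultiplyPretransitive (fixingSubgroup G (insert d Δ₀)ᶜ)
      (ofFixingSubgroup G (insert d Δ₀)ᶜ) 2 := by
  rw [is_two_pretransitive_iff]
  intro a b c e hab hce
  have ha : (a : α) ∈ insert d Δ₀ := by
    have := a.prop
    rw [mem_ofFixingSubgroup_iff] at this
    exact Set.notMem_compl_iff.1 this
  have hb : (b : α) ∈ insert d Δ₀ := by
    have := b.prop
    rw [mem_ofFixingSubgroup_iff] at this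
    exact Set.notMem_compl_iff.1 this
  have hc : (c : α) ∈ insert d Δ₀ := by
    have := c.prop
    rw [mem_ofFixingSubgroup_iff] at this
    exact Set.notMem_compl_iff.1 this
  have he : (e : α) ∈ insert d Δ₀ := by
    have := e.prop
    rw [mem_ofFixingSubgroup_iff] at this
    exact Set.notMem_compl_iff.1 this
  obtain ⟨g, hgfix, hgb⟩ := hT b hb
  obtain ⟨h, hhfix, hhe⟩ := hT e he
  have hgfix' : ∀ y ∈ (insert d Δ₀)ᶜ, g • y = y := fun y hy => hgfix y hy
  have hhfix' : ∀ y ∈ (insert d Δ₀)ᶜ, h • y = y := fun y hy => hhfix y hy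
  -- images of a and c lie in Δ₀
  have hga : g • (a : α) ∈ Δ₀ := by
    have h1 : g • (a : α) ∈ insert d Δ₀ := by
      by_contra hcon
      have := smul_not_mem_of_fix (s := (insert d Δ₀)ᶜ) hgfix' (x := (a : α)) (Set.notMem_compl_iff.2 ha)
      exact this hcon
    rcases h1 with h1 | h1
    · exfalso
      apply hab
      apply Subtype.ext
      have : g • (a : α) = g • (b : α) := by rw [h1, hgb]
      exact smul_left_cancel g this
    · exact h1
  have hhc : h • (c : α) ∈ Δ₀ := by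
    have h1 : h • (c : α) ∈ insert d Δ₀ := by
      by_contra hcon
      have := smul_not_mem_of_fix (s := (insert d Δ₀)ᶜ) hhfix' (x := (c : α)) (Set.notMem_compl_iff.2 hc)
      exact this hcon
    rcases h1 with h1 | h1
    · exfalso
      apply hce
      apply Subtype.ext
      have : h • (c : α) = h • (e : α) := by rw [h1, hhe]
      exact smul_left_cancel h this
    · exact h1
  obtain ⟨k, hkfix, hk⟩ := hJ0 _ hga _ hhc
  have hkd : k • d = d := hkfix d hd
  have hmem : h⁻¹ * k * g ∈ fixingSubgroup G (insert d Δ₀)ᶜ := by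
    rw [mem_fixingSubgroup_iff]
    intro y hy
    have hy' : y ∉ insert d Δ₀ := hy
    have hyΔ : y ∉ Δ₀ := fun h' => hy' (Set.mem_insert_of_mem _ h')
    rw [mul_smul, mul_smul, hgfix y hy', hkfix y hyΔ]
    rw [inv_smul_eq_iff, hhfix y hy']
  refine ⟨⟨h⁻¹ * k * g, hmem⟩, ?_, ?_⟩
  · apply Subtype.ext
    change (h⁻¹ * k * g) • (a : α) = (c : α)
    rw [mul_smul, mul_smul, hk, inv_smul_smul]
  · apply Subtype.ext
    change (h⁻¹ * k * g) • (b : α) = (e : α)
    rw [mul_smul, mul_smul, hgb, hkd, inv_smul_eq_iff, hhe]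

end

theorem diffOne : DiffOneProp.{u, v} := by
  intro G _ α _ _ _ hprim Δ₀ Δ₁ hJ0 hJ1 hm hcard hn hdiff
  classical
  obtain ⟨d, hd⟩ := Set.ncard_eq_one.1 hdiff
  have hdmem : d ∈ Δ₁ \ Δ₀ := by rw [hd]; exact Set.mem_singleton d
  have hdΔ1 : d ∈ Δ₁ := hdmem.1
  have hdΔ0 : d ∉ Δ₀ := hdmem.2
  have hsub : Δ₁ ⊆ insert d Δ₀ := by
    intro x hx
    by_cases h : x ∈ Δ₀
    · exact Set.mem_insert_of_mem _ h
    · have h1 : x ∈ Δ₁ \ Δ₀ := ⟨hx, h⟩
      rw [hd] at h1
      rw [Set.mem_singleton_iff.1 h1]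
      exact Set.mem_insert _ _
  -- a common point
  obtain ⟨c, hc1, hcd⟩ := Set.exists_ne_of_one_lt_ncard (by omega : 1 < Δ₁.ncard) d
  have hc0 : c ∈ Δ₀ := by
    rcases hsub hc1 with h | h
    · exact absurd h hcd
    · exact h
  have hT : ∀ x, x ∈ insert d Δ₀ →
      ∃ g : G, (∀ y, y ∉ insert d Δ₀ → g • y = y) ∧ g • x = d := by
    intro x hx
    rcases hx with rfl | hx
    · exact ⟨1, fun y _ => one_smul _ y, one_smul _ _⟩
    · obtain ⟨g0, hg0, hg0x⟩ := hJ0 x hx c hc0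
      obtain ⟨g1, hg1, hg1c⟩ := hJ1 c hc1 d hdΔ1
      refine ⟨g1 * g0, ?_, ?_⟩
      · intro y hy
        have hy0 : y ∉ Δ₀ := fun h => hy (Set.mem_insert_of_mem _ h)
        have hy1 : y ∉ Δ₁ := fun h => hy (hsub h)
        rw [mul_smul, hg0 y hy0, hg1 y hy1]
      · rw [mul_smul, hg0x, hg1c]
  have h2 := two_trans_aux hdΔ0 hJ0 hT
  have hprimL := isPreprimitive_of_is_two_pretransitive h2
  -- cardinalities
  have hSig : (insert d Δ₀).ncard = Δ₀.ncard + 1 :=
    Set.ncard_insert_of_notMem hdΔ0 (Set.toFinite _)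
  have hs : ((insert d Δ₀)ᶜ).ncard + (Δ₀.ncard + 1) = Fintype.card α := by
    rw [← hSig, add_comm, Set.ncard_add_ncard_compl, Nat.card_eq_fintype_card]
  obtain ⟨N, hN⟩ : ∃ N, Fintype.card α = N + 1 + (Δ₀.ncard + 1) :=
    ⟨Fintype.card α - Δ₀.ncard - 2, by omega⟩
  have hmp : IsMultiplyPreprimitive G α (N + 2) :=
    hprim.isMultiplyPreprimitive (s := (insert d Δ₀)ᶜ) (n := N) (by omega)
      (by rw [Nat.card_eq_fintype_card]; omega) hprimL
  haveI : IsMultiplyPretransitive G α (N + 2) :=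
    IsMultiplyPreprimitive.isMultiplyPretransitive G α (N + 2)
  haveI : IsMultiplyPretransitive G α Δ₀.ncard :=
    isMultiplyPretransitive_of_le (n := N + 2) (by omega)
      (by rw [Nat.card_eq_fintype_card]; omega)
  -- the set A
  have hA : (Δ₀ \ {c}).ncard + 1 = Δ₀.ncard :=
    Set.ncard_sdiff_singleton_add_one hc0 (Set.toFinite _)
  haveI : IsMultiplyPretransitive (fixingSubgroup G (Δ₀ \ {c})) (ofFixingSubgroup G (Δ₀ \ {c})) 1 :=
    ofFixingSubgroup.isMultiplyPretransitive G (Δ₀ \ {c}) hA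
  have htr : IsPretransitive (fixingSubgroup G (Δ₀ \ {c})) (ofFixingSubgroup G (Δ₀ \ {c})) :=
    is_one_pretransitive_iff.1 inferInstance
  have hcA : c ∉ Δ₀ \ {c} := fun h => h.2 rfl
  have hdA : d ∉ Δ₀ \ {c} := fun h => hdΔ0 h.1
  obtain ⟨k', hk'⟩ := htr.exists_smul_eq (⟨c, hcA⟩ : ofFixingSubgroup G (Δ₀ \ {c})) ⟨d, hdA⟩
  have hk'c : (k' : G) • c = d := congrArg Subtype.val hk'
  have hk'fix : ∀ y ∈ Δ₀ \ {c}, (k' : G) • y = y := (mem_fixingSubgroup_iff G).1 k'.2
  obtain ⟨c', hc'0, hc'c⟩ := Set.exists_ne_of_one_lt_ncard (by omega : 1 < Δ₀.ncard) c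
  obtain ⟨k, hkfix, hkc⟩ := hJ0 c hc0 c' hc'0
  have h3 : (MulAction.toPermHom G α k * MulAction.toPermHom G α (k' : G) *
      (MulAction.toPermHom G α k)⁻¹ * (MulAction.toPermHom G α (k' : G))⁻¹).IsThreeCycle := by
    apply Cfsg.Agent.Lib.Helper13.MinDeg.isThreeCycle_commutator _ _ c
    · change k • c ≠ c
      rw [hkc]; exact hc'c
    · change (k' : G) • c ≠ c
      rw [hk'c]
      intro h
      exact hdΔ0 (h ▸ hc0)
    · intro x hσ hτ
      have hσ' : k • x ≠ x := hσ
      have hτ' : (k' : G) • x ≠ x := hτ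
      have hx0 : x ∈ Δ₀ := by
        by_contra h
        exact hσ' (hkfix x h)
      by_contra hxc
      exact hτ' (hk'fix x ⟨hx0, hxc⟩)
  have hrange : IsPreprimitive (MulAction.toPermHom G α).range α := by
    let φ : G → (MulAction.toPermHom G α).range := (MulAction.toPermHom G α).rangeRestrict
    let f : α →ₑ[φ] α := { toFun := id, map_smul' := fun g ω => rfl }
    exact IsPreprimitive.of_surjective (f := f) Function.surjective_id
  apply Equiv.Perm.alternatingGroup_le_of_isPreprimitive_of_isThreeCycle_mem hrange h3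
  exact Subgroup.mul_mem _ (Subgroup.mul_mem _ (Subgroup.mul_mem _ ⟨k, rfl⟩ ⟨(k' : G), rfl⟩)
    (Subgroup.inv_mem _ ⟨k, rfl⟩)) (Subgroup.inv_mem _ ⟨(k' : G), rfl⟩)

end Cfsg.Agent.Lib.Helper22.MargB
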