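import Mathlib
import Cfsg.Prelude.Def_LieExceptional
import Cfsg.Agent.S4216

/-! # S496-INV (helper3 project S0496): the involution of `N(P) = P⟨s⟩` inverts the abelian Sylow `P`
of a nonabelian simple group (Grün's first theorem with `P' = 1`). -/

set_option autoImplicit false

namespace Cfsg.Agent.Lib.helper3.S496

open scoped commutatorElement

/-- a nonabelian simple group is perfect -/
theorem inv_commutator_eq_top {G : Type*} [Group G] [IsSimpleGroup G] (hG : ¬ IsMulCommutative G) :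
    commutator G = ⊤ := by
  rcases (inferInstance : (commutator G).Normal).eq_bot_or_eq_top with h | h
  · exfalso
    apply hG
    have hc : Subgroup.center G = ⊤ := (commutator_eq_bot_iff_center_eq_top G).mp h
    refine ⟨⟨fun a b => ?_⟩⟩
    have ha : a ∈ Subgroup.center G := by rw [hc]; exact Subgroup.mem_top a
    exact ((Subgroup.mem_center_iff.mp ha) b).symm
  · exact h

/-- `P ≤ [N, N]` for an abelian Sylow subgroup of a perfect group -/
theorem inv_le_commutator_normalizer {G : Type*} [Group G] [Finite G] (hperf : commutator G = ⊤)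
    (p : ℕ) [Fact p.Prime] (P : Sylow p G)
    (hab : ∀ x ∈ (P : Subgroup G), ∀ y ∈ (P : Subgroup G), x * y = y * x) :
    (P : Subgroup G) ≤ ⁅Subgroup.normalizer ((P : Subgroup G) : Set G),
      Subgroup.normalizer ((P : Subgroup G) : Set G)⁆ := by
  have hg := Cfsg.Agent.S4216.result P
  have hPP : ⁅(P : Subgroup G), (P : Subgroup G)⁆ = ⊥ := by
    rw [eq_bot_iff, Subgroup.commutator_le]
    intro a ha b hb
    rw [Subgroup.mem_bot, commutatorElement_def, hab a ha b hb]
    group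
  rw [hperf, hPP] at hg
  simp only [Subgroup.map_bot, inf_top_eq, inf_bot_eq, iSup_bot, sup_bot_eq] at hg
  intro x hx
  rw [hg] at hx
  exact hx.2

theorem invol_inverts {G : Type*} [Group G] [Finite G] [IsSimpleGroup G] (hG : ¬ IsMulCommutative G)
    (p : ℕ) [Fact p.Prime] (P : Sylow p G) (hab : ∀ x ∈ (P : Subgroup G), ∀ y ∈ (P : Subgroup G), x * y = y * x)
    (hN : Nat.card (Subgroup.normalizer ((P : Subgroup G) : Set G)) = 2 * Nat.card (P : Subgroup G))
    (s : G) (hs : s ∈ Subgroup.normalizer ((P : Subgroup G) : Set G)) (hs2 : orderOf s = 2) :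
    ∀ x ∈ (P : Subgroup G), s * x * s⁻¹ = x⁻¹ := by
  classical
  set N := Subgroup.normalizer ((P : Subgroup G) : Set G) with hNdef
  have hPN : (P : Subgroup G) ≤ N := Subgroup.le_normalizer
  have hss : s * s = 1 := by
    have := pow_orderOf_eq_one s
    rwa [hs2, pow_two] at this
  have hsinv : s⁻¹ = s := inv_eq_of_mul_eq_one_left hss
  -- conjugation by s preserves P
  have hconj : ∀ x ∈ (P : Subgroup G), s * x * s⁻¹ ∈ (P : Subgroup G) := fun x hx =>
    (Subgroup.mem_normalizer_iff.mp hs x).mp hx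
  -- s ∉ P
  have hsP : s ∉ (P : Subgroup G) := by
    intro hsP
    -- then p = 2 and 2 |P| divides |G|
    have h2 : orderOf s ∣ Nat.card (P : Subgroup G) := by
      have := orderOf_dvd_natCard (⟨s, hsP⟩ : (P : Subgroup G))
      rwa [Subgroup.orderOf_mk] at this
    rw [hs2] at h2
    obtain ⟨k, hk⟩ := IsPGroup.iff_card.mp P.isPGroup'
    have hp2 : p = 2 := by
      rw [hk] at h2
      exact ((Nat.prime_dvd_prime_iff_eq Nat.prime_two Fact.out).mp
        (Nat.Prime.dvd_of_dvd_pow Nat.prime_two h2)).symm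
    have hdvd : Nat.card N ∣ Nat.card G := Subgroup.card_subgroup_dvd_card N
    rw [hN] at hdvd
    have hnot : ¬ p ∣ (P : Subgroup G).index := P.not_dvd_index
    apply hnot
    have hidx : Nat.card (P : Subgroup G) * (P : Subgroup G).index = Nat.card G :=
      Subgroup.card_mul_index _
    rw [← hidx, mul_comm 2] at hdvd
    have hpos : 0 < Nat.card (P : Subgroup G) := Nat.card_pos
    have h2i : 2 ∣ (P : Subgroup G).index := (Nat.mul_dvd_mul_iff_left hpos).mp hdvd
    exact hp2 ▸ h2i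
  -- P has index 2 in N
  have hrel : (P : Subgroup G).relIndex N = 2 := by
    have h2 : Nat.card (P : Subgroup G) * (P : Subgroup G).relIndex N = Nat.card N := by
      have := Subgroup.card_mul_index ((P : Subgroup G).subgroupOf N)
      rw [Nat.card_congr (Subgroup.subgroupOfEquivOfLe hPN).toEquiv] at this
      exact this
    rw [hN] at h2
    have hpos : 0 < Nat.card (P : Subgroup G) := Nat.card_pos
    have : Nat.card (P : Subgroup G) * (P : Subgroup G).relIndex N =
        Nat.card (P : Subgroup G) * 2 := by rw [h2]; ring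
    exact Nat.eq_of_mul_eq_mul_left hpos this
  -- every element of N is x or x * s with x ∈ P
  have hdecomp : ∀ n ∈ N, n ∈ (P : Subgroup G) ∨ n * s ∈ (P : Subgroup G) := by
    intro n hn
    by_cases hnP : n ∈ (P : Subgroup G)
    · exact Or.inl hnP
    · right
      have hidx : ((P : Subgroup G).subgroupOf N).index = 2 := hrel
      have := Subgroup.mul_mem_iff_of_index_two hidx (a := ⟨n, hn⟩) (b := ⟨s, hs⟩)
      simp only [Subgroup.mem_subgroupOf, Subgroup.coe_mul] at this
      exact this.mpr ⟨fun h => absurd h hnP, fun h => absurd h hsP⟩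
  -- the endomorphism φ x = x⁻¹ (s x s⁻¹) of P
  let φ : (P : Subgroup G) →* (P : Subgroup G) :=
    { toFun := fun x => ⟨x.1⁻¹ * (s * x.1 * s⁻¹),
        (P : Subgroup G).mul_mem ((P : Subgroup G).inv_mem x.2) (hconj x.1 x.2)⟩
      map_one' := by
        apply Subtype.ext
        simp
      map_mul' := by
        intro x y
        apply Subtype.ext
        simp only [Subgroup.coe_mul, mul_inv_rev]
        have h1 := hab (s * x.1 * s⁻¹) (hconj x.1 x.2) (y.1⁻¹) ((P : Subgroup G).inv_mem y.2)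
        have h2 := hab (x.1⁻¹) ((P : Subgroup G).inv_mem x.2) (y.1⁻¹) ((P : Subgroup G).inv_mem y.2)
        calc y.1⁻¹ * x.1⁻¹ * (s * (x.1 * y.1) * s⁻¹)
            = (y.1⁻¹ * x.1⁻¹) * ((s * x.1 * s⁻¹) * (s * y.1 * s⁻¹)) := by group
          _ = (x.1⁻¹ * y.1⁻¹) * ((s * x.1 * s⁻¹) * (s * y.1 * s⁻¹)) := by rw [h2]
          _ = x.1⁻¹ * (y.1⁻¹ * (s * x.1 * s⁻¹)) * (s * y.1 * s⁻¹) := by group
          _ = x.1⁻¹ * ((s * x.1 * s⁻¹) * y.1⁻¹) * (s * y.1 * s⁻¹) := by rw [h1]
          _ = x.1⁻¹ * (s * x.1 * s⁻¹) * (y.1⁻¹ * (s * y.1 * s⁻¹)) := by group }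
  have hφ : ∀ x : (P : Subgroup G), (φ x).1 = x.1⁻¹ * (s * x.1 * s⁻¹) := fun _ => rfl
  let B : Subgroup G := φ.range.map (P : Subgroup G).subtype
  have hBmem : ∀ x : (P : Subgroup G), (φ x).1 ∈ B := fun x =>
    Subgroup.mem_map.mpr ⟨φ x, ⟨x, rfl⟩, rfl⟩
  -- [N, N] ≤ B
  have hcomm : ⁅N, N⁆ ≤ B := by
    rw [Subgroup.commutator_le]
    -- key computations
    have key2 : ∀ x ∈ (P : Subgroup G), ∀ y ∈ (P : Subgroup G),
        ⁅x, y * s⁆ ∈ B := by
      intro x hx y hy
      have e : ⁅x, y * s⁆ = (φ ⟨x⁻¹, (P : Subgroup G).inv_mem hx⟩).1 := by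
        rw [hφ, commutatorElement_def]
        simp only [inv_inv, mul_inv_rev]
        have h1 := hab y hy (s * x⁻¹ * s⁻¹) (hconj _ ((P : Subgroup G).inv_mem hx))
        calc x * (y * s) * x⁻¹ * (s⁻¹ * y⁻¹)
            = x * (y * (s * x⁻¹ * s⁻¹)) * y⁻¹ := by group
          _ = x * ((s * x⁻¹ * s⁻¹) * y) * y⁻¹ := by rw [h1]
          _ = x * (s * x⁻¹ * s⁻¹) := by group
      rw [e]; exact hBmem _
    have key4 : ∀ x ∈ (P : Subgroup G), ∀ y ∈ (P : Subgroup G),
        ⁅x * s, y * s⁆ ∈ B := by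
      intro x hx y hy
      have e : ⁅x * s, y * s⁆ = (φ ⟨x⁻¹, (P : Subgroup G).inv_mem hx⟩).1 * (φ ⟨y, hy⟩).1 := by
        rw [hφ, hφ, commutatorElement_def]
        simp only [inv_inv, mul_inv_rev]
        have hyc := hconj y hy
        have hxc := hconj _ ((P : Subgroup G).inv_mem hx)
        have h1 := hab (s * y * s⁻¹) hyc (s * x⁻¹ * s⁻¹) hxc
        have h2 := hab (s * y * s⁻¹) hyc (y⁻¹) ((P : Subgroup G).inv_mem hy)
        calc x * s * (y * s) * (s⁻¹ * x⁻¹) * (s⁻¹ * y⁻¹)
            = x * ((s * y * s⁻¹) * (s * x⁻¹ * s⁻¹)) * y⁻¹ := by group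
          _ = x * ((s * x⁻¹ * s⁻¹) * (s * y * s⁻¹)) * y⁻¹ := by rw [h1]
          _ = x * (s * x⁻¹ * s⁻¹) * ((s * y * s⁻¹) * y⁻¹) := by group
          _ = x * (s * x⁻¹ * s⁻¹) * (y⁻¹ * (s * y * s⁻¹)) := by rw [h2]
      rw [e]; exact B.mul_mem (hBmem _) (hBmem _)
    intro a ha b hb
    rcases hdecomp a ha with haP | haP <;> rcases hdecomp b hb with hbP | hbP
    · have : ⁅a, b⁆ = 1 := by
        rw [commutatorElement_def, hab a haP b hbP]; group
      rw [this]; exact B.one_mem
    · have e : b = (b * s) * s := by rw [mul_assoc, hss, mul_one]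
      rw [e]; exact key2 a haP _ hbP
    · have e : a = (a * s) * s := by rw [mul_assoc, hss, mul_one]
      have h := key2 b hbP _ haP
      rw [← e] at h
      have : ⁅a, b⁆ = ⁅b, a⁆⁻¹ := (commutatorElement_inv b a).symm
      rw [this]; exact B.inv_mem h
    · have ea : a = (a * s) * s := by rw [mul_assoc, hss, mul_one]
      have eb : b = (b * s) * s := by rw [mul_assoc, hss, mul_one]
      rw [ea, eb]; exact key4 _ haP _ hbP
  -- P ≤ B, so φ is surjective, hence injective
  have hPB : (P : Subgroup G) ≤ B :=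
    (inv_le_commutator_normalizer (inv_commutator_eq_top hG) p P hab).trans hcomm
  have hsurj : Function.Surjective φ := by
    intro y
    obtain ⟨w, ⟨x, rfl⟩, hw⟩ := Subgroup.mem_map.mp (hPB y.2)
    exact ⟨x, Subtype.ext hw⟩
  have hinj : Function.Injective φ := Finite.injective_iff_surjective.mpr hsurj
  intro x hx
  -- y = x * (s x s⁻¹) is killed by φ
  have hy : x * (s * x * s⁻¹) ∈ (P : Subgroup G) := (P : Subgroup G).mul_mem hx (hconj x hx)
  have hφy : φ ⟨x * (s * x * s⁻¹), hy⟩ = 1 := by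
    apply Subtype.ext
    rw [hφ]
    have h1 := hab x hx (s * x * s⁻¹) (hconj x hx)
    show (x * (s * x * s⁻¹))⁻¹ * (s * (x * (s * x * s⁻¹)) * s⁻¹) = 1
    calc (x * (s * x * s⁻¹))⁻¹ * (s * (x * (s * x * s⁻¹)) * s⁻¹)
        = (x * (s * x * s⁻¹))⁻¹ * ((s * x * s⁻¹) * ((s * s) * x * (s * s)⁻¹)) := by group
      _ = (x * (s * x * s⁻¹))⁻¹ * ((s * x * s⁻¹) * x) := by rw [hss]; group
      _ = (x * (s * x * s⁻¹))⁻¹ * (x * (s * x * s⁻¹)) := by rw [h1]
      _ = 1 := by group
  have hy1 : (⟨x * (s * x * s⁻¹), hy⟩ : (P : Subgroup G)) = 1 := hinj (hφy.trans (map_one φ).symm)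
  have hy2 : x * (s * x * s⁻¹) = 1 := congrArg Subtype.val hy1
  exact (eq_inv_of_mul_eq_one_right hy2)

end Cfsg.Agent.Lib.helper3.S496
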