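import Cfsg.Agent.Lib.helper7.SAP.Defs

/-!
Project SAP row PRES4 (core): evaluation of the basic words; the statements of PERM9 (`gh_pow_ez`, `gh_pow_et`) and
PERM1 (`ah_pow_conj_zh`) are hypotheses.
-/

namespace Cfsg.Agent.Lib.helper7.SAP

open Equiv

universe u

section pres
variable (p k l : ℕ)

theorem sappres4_evP_wA : evP p k l wA = ah p k := by
  unfold evP wA
  rw [FreeGroup.lift_apply_of]
  rfl

theorem sappres4_evP_wG : evP p k l wG = zh (Sum.inl 0) * th p k l := by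
  unfold evP wG
  rw [FreeGroup.lift_apply_of]
  rfl

/-- PRES4 core.  `hez` = `gh_pow_ez p k l hlp ez hz3 hzm`, `het` = `gh_pow_et p k l hlp et ht3 htm`,
`hconj` = `fun i x => ah_pow_conj_zh p k i x`. -/
theorem sappres4_core [NeZero p] (ez et : ℕ)
    (hez : (zh (Sum.inl 0 : Ix p k) * th p k l) ^ ez = zh (Sum.inl 0 : Ix p k))
    (het : (zh (Sum.inl 0 : Ix p k) * th p k l) ^ et = th p k l)
    (hconj : ∀ (i : ℕ) (x : ZMod p),
      (ah p k) ^ i * zh (Sum.inl x) * ((ah p k) ^ i)⁻¹ = zh (Sum.inl (x + (i : ZMod p)) : Ix p k)) :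
    evP p k l wA = ah p k ∧ evP p k l (wG ^ ez) = zh (Sum.inl 0) ∧ evP p k l (wG ^ et) = th p k l ∧
      ∀ x : ZMod p, evP p k l (zo wA (wG ^ ez) x) = zh (Sum.inl x) := by
  have h1 : evP p k l (wG ^ ez) = zh (Sum.inl 0) := by
    rw [map_pow, sappres4_evP_wG, hez]
  refine ⟨sappres4_evP_wA p k l, h1, ?_, fun x => ?_⟩
  · rw [map_pow, sappres4_evP_wG, het]
  · unfold zo
    rw [map_mul, map_mul, map_inv, map_pow, h1, sappres4_evP_wA, hconj, zero_add, ZMod.natCast_zmod_val]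

end pres

end Cfsg.Agent.Lib.helper7.SAP
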