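import Mathlib
import Cfsg.Agent.Lib.Helper20.GLO.Defs
import Cfsg.Agent.Lib.Helper20.GLO.DefsP
import Cfsg.Agent.Lib.Helper20.GLO.DefsM
import Cfsg.Agent.Lib.Helper27.STU.Frob

/-!
Project GLO (designer helper20; odd gluing block of PSU, S2291) row P3 (`glue_of_words`), VERBATIM vs `Helper20/GLO/SkelP.lean.txt`
(port of Helper26's GLE P3).  EXPRESS: the cited rows P1 (`evG_inN evG_inL`), P2 (`evG_Wc`) were not on main when this was written; the file has
own-name copies `glop3_evG_inN glop3_evG_inL glop3_evG_Wc` with the exact Skel statements.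
-/

set_option autoImplicit false
set_option linter.unusedSectionVars false

namespace Cfsg.Agent.Lib.Helper20.GLO

open Cfsg.Agent.Lib.helper3.STC (ng ab)
open Cfsg.Agent.Lib.helper3.SPM (Pts pe sgm sn sig2 ptsFin pe2 evN)
open Cfsg.Agent.Lib.Helper20.GLE (lamC lamP)
open Cfsg.Agent.Lib.Helper27.STU
open Cfsg.Agent.Lib.helper17.SLP (cm)

universe u v w x v' y

/-- commuting with the images of a generating set implies commuting with the images of the closure -/
theorem glop3_commute_closure {A : Type*} {G : Type*} [Group A] [Group G] (f : A →* G) (S : Set A) (y : G)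
    (h : ∀ x ∈ S, Commute (f x) y) : ∀ x ∈ Subgroup.closure S, Commute (f x) y := by
  intro x hx
  induction hx using Subgroup.closure_induction with
  | mem x hx => exact h x hx
  | one => rw [map_one]; exact Commute.one_left y
  | mul x z _ _ hx hz => rw [map_mul]; exact hx.mul_left hz
  | inv x _ hx => rw [map_inv]; exact hx.inv_left

theorem glop3_commute_of_cm {G : Type*} [Group G] {x y : G} (h : cm x y = 1) : Commute x y :=
  (Cfsg.Agent.Lib.helper17.SLP.cm_eq_one_iff x y).mp h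

theorem glop3_conj_of_commute {G : Type*} [Group G] {x y : G} (h : Commute x y) : x * y * x⁻¹ = y :=
  mul_inv_eq_iff_eq_mul.mpr h.eq

section P

variable {F : Type u} [Field F] [StarRing F] {L : Type x} [Group L] {ι : Type w} [Fintype ι] [DecidableEq ι] {k l : ℕ}
  (S₂ : SysU F True (Fin 2) L) (swL : L)

/-- own-name copy of P1 `evG_inN` -/
theorem glop3_evG_inN {G : Type v} [Group G] (s : Fin k → G) (g : Fin l → G) (x : FreeGroup (Fin k)) :
    evG s g (inN x) = evN s x := by
  have h : (evG s g).comp inN = evN s := by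
    apply FreeGroup.ext_hom
    intro i
    simp [evG, inN, evN]
  exact DFunLike.congr_fun h x

/-- own-name copy of P1 `evG_inL` -/
theorem glop3_evG_inL {G : Type v} [Group G] (s : Fin k → G) (g : Fin l → G) (x : FreeGroup (Fin l)) :
    evG s g (inL x) = evN g x := by
  have h : (evG s g).comp inL = evN g := by
    apply FreeGroup.ext_hom
    intro i
    simp [evG, inL, evN]
  exact DFunLike.congr_fun h x

/-- own-name copy of P2 `evG_Wc` -/
theorem glop3_evG_Wc {G : Type v} [Group G] (wN : Equiv.Perm ι → FreeGroup (Fin k)) (wL : L → FreeGroup (Fin l))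
    (s : Fin k → G) (g : Fin l → G) (ν : Equiv.Perm ι →* G) (lam : L →* G)
    (hν : ∀ σ, ν σ = evN s (wN σ)) (hlam : ∀ m, lam m = evN g (wL m)) (σ : Equiv.Perm ι) (m : L) :
    evG s g (Wc wN wL σ m) = lamC ν lam σ m := by
  unfold Wc
  rw [map_mul, map_mul, map_inv, glop3_evG_inN, glop3_evG_inL, ← hν, ← hlam]
  rfl

/-- P3 [M] -/
theorem glue_of_words (p : Pts ι) (wN : Equiv.Perm ι → FreeGroup (Fin k)) (wL : L → FreeGroup (Fin l))
    (c d c' d' : Equiv.Perm ι) {nb : ℕ} (b : Fin nb → L)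
    (hcd : ∀ σ : Equiv.Perm ι, σ p.o1 = p.o1 → σ ∈ Subgroup.closure ({c, d} : Set (Equiv.Perm ι)))
    (hcd' : ∀ σ : Equiv.Perm ι, σ p.o0 = p.o0 → σ p.o1 = p.o1 → σ ∈ Subgroup.closure ({c', d'} : Set (Equiv.Perm ι)))
    (hB : (B1 S₂ : Set L) ⊆ Subgroup.closure (Set.range b))
    {G : Type v} [Group G] (s : Fin k → G) (g : Fin l → G) (ν : Equiv.Perm ι →* G) (lam : L →* G)
    (hν : ∀ σ, ν σ = evN s (wN σ)) (hlam : ∀ m, lam m = evN g (wL m))
    (hrel : ∀ r ∈ wordsGlue S₂ swL p wN wL c d c' d' b, evG s g r = 1) : Glue S₂ swL p ν lam := by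
  have hW : ∀ σ m, evG s g (Wc wN wL σ m) = lamC ν lam σ m :=
    fun σ m => glop3_evG_Wc wN wL s g ν lam hν hlam σ m
  have hN : ∀ σ, evG s g (inN (wN σ)) = ν σ := fun σ => by rw [glop3_evG_inN, ← hν]
  have hL : ∀ m, evG s g (inL (wL m)) = lam m := fun m => by rw [glop3_evG_inL, ← hlam]
  -- the words
  have r_sw := hrel (inN (wN (Equiv.swap p.o0 p.o1)) * (inL (wL swL))⁻¹) (by unfold wordsGlue; simp)
  have r_st : ∀ σ ∈ ({c, d} : Set (Equiv.Perm ι)), ∀ i : Fin nb,
      evG s g (cm (inN (wN σ)) (inL (wL (b i)))) = 1 := by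
    intro σ hσ i
    apply hrel
    unfold wordsGlue
    simp only [Set.mem_insert_iff, Set.mem_singleton_iff] at hσ
    simp only [List.mem_append, List.mem_ofFn]
    rcases hσ with rfl | rfl
    · exact Or.inl (Or.inl (Or.inl (Or.inl (Or.inl (Or.inr ⟨i, rfl⟩)))))
    · exact Or.inl (Or.inl (Or.inl (Or.inl (Or.inr ⟨i, rfl⟩))))
  have r_st' : ∀ σ ∈ ({c', d'} : Set (Equiv.Perm ι)),
      evG s g (cm (inN (wN σ)) (inL (wL (uA S₂ 1)))) = 1 := by
    intro σ hσ
    apply hrel
    unfold wordsGlue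
    simp only [Set.mem_insert_iff, Set.mem_singleton_iff] at hσ
    rcases hσ with rfl | rfl <;> simp
  have r_d3 : ∀ i : Fin nb,
      evG s g (cm (inL (wL (uA S₂ 1))) (Wc wN wL (Equiv.swap p.o1 p.o2) (b i))) = 1 := by
    intro i
    apply hrel
    unfold wordsGlue
    simp only [List.mem_append, List.mem_ofFn]
    exact Or.inl (Or.inl (Or.inr ⟨i, rfl⟩))
  have r_c1 :
      evG s g (cm (inL (wL (uA S₂ 1))) (Wc wN wL (Equiv.swap p.o0 p.o1 * Equiv.swap p.o1 p.o2) (uA S₂ 1)) *
        (Wc wN wL (Equiv.swap p.o1 p.o2) (uA S₂ 1))⁻¹) = 1 := by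
    apply hrel
    unfold wordsGlue
    simp
  have r_c2 :
      evG s g (cm (inL (wL (uA S₂ 1))) (Wc wN wL (Equiv.swap p.o1 p.o2) (uA S₂ 1))) = 1 := by
    apply hrel
    unfold wordsGlue
    simp
  refine ⟨?_, ?_, ?_, ?_, ?_, ?_, ?_⟩
  · -- sw
    rw [map_mul, map_inv, hN, hL, mul_inv_eq_one] at r_sw
    exact r_sw
  · -- stab1
    intro σ hσ m hm
    have h1 : ∀ τ ∈ ({c, d} : Set (Equiv.Perm ι)), Commute (ν τ) (lam m) := by
      intro τ hτ
      have h2 : ∀ b' ∈ Set.range b, Commute (lam b') (ν τ) := by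
        rintro _ ⟨i, rfl⟩
        have := r_st τ hτ i
        rw [Cfsg.Agent.Lib.helper17.SLP.map_cm, hN, hL] at this
        exact (glop3_commute_of_cm this).symm
      exact (glop3_commute_closure lam _ (ν τ) h2 m (hB hm)).symm
    exact glop3_conj_of_commute (glop3_commute_closure ν _ (lam m) h1 σ (hcd σ hσ))
  · -- stab01
    intro σ h0 h1
    have h2 : ∀ τ ∈ ({c', d'} : Set (Equiv.Perm ι)), Commute (ν τ) (lam (uA S₂ 1)) := by
      intro τ hτ
      have := r_st' τ hτ
      rw [Cfsg.Agent.Lib.helper17.SLP.map_cm, hN, hL] at this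
      exact glop3_commute_of_cm this
    exact glop3_conj_of_commute (glop3_commute_closure ν _ (lam (uA S₂ 1)) h2 σ (hcd' σ h0 h1))
  · -- d3
    intro m hm
    have h2 : ∀ b' ∈ Set.range b,
        Commute (lamC ν lam (Equiv.swap p.o1 p.o2) b') (lam (uA S₂ 1)) := by
      rintro _ ⟨i, rfl⟩
      have := r_d3 i
      rw [Cfsg.Agent.Lib.helper17.SLP.map_cm, hL, hW] at this
      exact (glop3_commute_of_cm this).symm
    exact (glop3_commute_closure (lamC ν lam (Equiv.swap p.o1 p.o2)) _ (lam (uA S₂ 1)) h2 m (hB hm)).symm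
  · -- d4
    intro x hx
    have := hrel (cm (inL (wL (uA S₂ 1))) (Wc wN wL (Equiv.swap p.o0 p.o2 * Equiv.swap p.o1 x) (uA S₂ 1))) (by
      unfold wordsGlue
      have h3 : p.o3 = some x := hx
      rw [h3]
      simp)
    rw [Cfsg.Agent.Lib.helper17.SLP.map_cm, hL, hW] at this
    exact glop3_commute_of_cm this
  · -- c1
    have := r_c1
    rw [map_mul, map_inv, Cfsg.Agent.Lib.helper17.SLP.map_cm, hL, hW, hW, mul_inv_eq_one] at this
    exact this
  · -- c2
    have := r_c2
    rw [Cfsg.Agent.Lib.helper17.SLP.map_cm, hL, hW] at this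
    exact glop3_commute_of_cm this

end P

end Cfsg.Agent.Lib.Helper20.GLO
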