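import Mathlib

set_option autoImplicit false

namespace Cfsg.Agent.Lib.Helper22.CamA

open Finset

/-- iterating a fixed point -/
theorem pow_fix {A : Type*} [Group A] (γ : MulAut A) (a : A) (h : γ a = a) (n : ℕ) :
    (γ ^ n) a = a := by
  induction n with
  | zero => simp
  | succ k ih => rw [pow_succ, MulAut.mul_apply, h, ih]

/-- a coprime power of a fixed-point-free automorphism of order dividing `p` is fixed-point-free -/
theorem fpf_pow {A : Type*} [Group A] (γ : MulAut A) (p : ℕ) (hp : p.Prime) (hγ : γ ^ p = 1)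
    (hfpf : ∀ a, γ a = a → a = 1) (i : ℕ) (hi : ¬ p ∣ i) : ∀ a, (γ ^ i) a = a → a = 1 := by
  intro a ha
  have hcop : Nat.Coprime i p := ((Nat.Prime.coprime_iff_not_dvd hp).2 hi).symm
  obtain ⟨u, -, hu⟩ := Nat.exists_mul_mod_eq_one_of_coprime hcop hp.one_lt
  have h1 : (γ ^ i) ^ u = γ := by
    rw [← pow_mul, pow_eq_pow_mod (i * u) hγ, hu, pow_one]
  apply hfpf
  have := pow_fix (γ ^ i) a ha u
  rwa [h1] at this

/-- the norm of a fixed-point-free automorphism of order dividing `n` is trivial -/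
theorem norm_eq_one {A : Type*} [CommGroup A] (γ : MulAut A) (n : ℕ) (hγ : γ ^ n = 1)
    (hfpf : ∀ a, γ a = a → a = 1) (a : A) : ∏ i ∈ range n, (γ ^ i) a = 1 := by
  apply hfpf
  rw [map_prod]
  have h1 : ∀ i ∈ range n, γ ((γ ^ i) a) = (γ ^ (i + 1)) a := by
    intro i _
    rw [pow_succ', MulAut.mul_apply]
  rw [Finset.prod_congr rfl h1]
  have h2 := Finset.prod_range_succ (fun i => (γ ^ i) a) n
  have h3 := Finset.prod_range_succ' (fun i => (γ ^ i) a) n
  rw [h2] at h3
  simp only [hγ, pow_zero, MulAut.one_apply] at h3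
  exact (mul_right_cancel h3).symm

/-- **No fixed-point-free action of `C_p × C_p`**: two commuting automorphisms of order
dividing `p` of a finite abelian `p'`-group such that `β` and all `α β^j` are
fixed-point-free force the group to be trivial. -/
theorem noncyclic_fpf {A : Type*} [CommGroup A] [Finite A] (p : ℕ) (hp : p.Prime)
    (hcop : ¬ p ∣ Nat.card A) (α β : MulAut A) (hc : Commute α β) (hα : α ^ p = 1)
    (hβ : β ^ p = 1) (hfβ : ∀ a, β a = a → a = 1)
    (hfα : ∀ j : ℕ, ∀ a, (α * β ^ j) a = a → a = 1) : ∀ a : A, a = 1 := by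
  intro a
  -- the double product
  have h1 : ∀ j ∈ range p, ∏ i ∈ range p, ((α * β ^ j) ^ i) a = 1 := by
    intro j _
    apply norm_eq_one _ p _ (hfα j)
    rw [(hc.pow_right j).mul_pow, hα, ← pow_mul, mul_comm, pow_mul, hβ, one_pow, one_mul]
  have h2 : ∏ j ∈ range p, ∏ i ∈ range p, ((α * β ^ j) ^ i) a = 1 :=
    Finset.prod_eq_one h1
  rw [Finset.prod_comm] at h2
  have h3 : ∀ i ∈ range p, i ≠ 0 → ∏ j ∈ range p, ((α * β ^ j) ^ i) a = 1 := by
    intro i hi hi0
    have hlt : i < p := Finset.mem_range.1 hi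
    have hnd : ¬ p ∣ i := fun h => hi0 (Nat.eq_zero_of_dvd_of_lt h hlt)
    have h4 : ∀ j ∈ range p, ((α * β ^ j) ^ i) a = (α ^ i) (((β ^ i) ^ j) a) := by
      intro j _
      rw [(hc.pow_right j).mul_pow, MulAut.mul_apply, ← pow_mul, ← pow_mul, mul_comm]
    rw [Finset.prod_congr rfl h4, ← map_prod]
    rw [norm_eq_one (β ^ i) p (by rw [← pow_mul, mul_comm, pow_mul, hβ, one_pow])
      (fpf_pow β p hp hβ hfβ i hnd) a, map_one]
  have hp0 : 0 ∈ range p := Finset.mem_range.2 hp.pos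
  rw [Finset.prod_eq_single_of_mem 0 hp0 h3] at h2
  simp only [pow_zero, MulAut.one_apply, Finset.prod_const, Finset.card_range] at h2
  -- a ^ p = 1 and p coprime to the order of A
  have h5 : orderOf a ∣ p := orderOf_dvd_of_pow_eq_one h2
  have h6 : orderOf a ∣ Nat.card A := orderOf_dvd_natCard a
  rcases (Nat.dvd_prime hp).1 h5 with h | h
  · exact orderOf_eq_one_iff.1 h
  · exact absurd (h ▸ h6) hcop


/-- same idea for injectivity: a power prime to the order determines the element -/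
theorem eq_of_pow_eq {X : Type*} [Group X] (x y : X) (q : ℕ) (hq : q.Prime) (hx : x ^ q = 1)
    (hy : y ^ q = 1) (i : ℕ) (hi : ¬ q ∣ i) (h : x ^ i = y ^ i) : x = y := by
  have hcop : Nat.Coprime i q := ((Nat.Prime.coprime_iff_not_dvd hq).2 hi).symm
  obtain ⟨u, -, hu⟩ := Nat.exists_mul_mod_eq_one_of_coprime hcop hq.one_lt
  have h1 : (x ^ i) ^ u = x := by rw [← pow_mul, pow_eq_pow_mod (i * u) hx, hu, pow_one]
  have h2 : (y ^ i) ^ u = y := by rw [← pow_mul, pow_eq_pow_mod (i * u) hy, hu, pow_one]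
  rw [← h1, ← h2, h]

/-- **Frobenius-type trick**: if `Γ` is a group of automorphisms of a finite abelian group `A`
of order prime to `|A|`, normalized by `η`, and every `η γ` (`γ ∈ Γ`) has order dividing the
prime `q` and is fixed-point-free, then `Γ` acts trivially. -/
theorem frob_trick {A : Type*} [CommGroup A] [Finite A] (Γ : Subgroup (MulAut A)) [Finite Γ]
    (η : MulAut A) (q : ℕ) (hq : q.Prime) (hnorm : ∀ γ ∈ Γ, η⁻¹ * γ * η ∈ Γ)
    (hpow : ∀ γ ∈ Γ, (η * γ) ^ q = 1) (hfpf : ∀ γ ∈ Γ, ∀ a, (η * γ) a = a → a = 1)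
    (hcop : (Nat.card Γ).Coprime (Nat.card A)) : ∀ γ ∈ Γ, ∀ a, γ a = a := by
  classical
  haveI : Fintype Γ := Fintype.ofFinite Γ
  -- the twisted powers
  have hν : ∀ i : ℕ, ∃ ν : Γ → Γ, ∀ γ : Γ, (η * (γ : MulAut A)) ^ i = η ^ i * (ν γ : MulAut A) := by
    intro i
    induction i with
    | zero => exact ⟨fun _ => 1, fun γ => by simp⟩
    | succ k ih =>
      obtain ⟨ν, hν⟩ := ih
      refine ⟨fun γ => ⟨η⁻¹ * (ν γ : MulAut A) * η, hnorm _ (ν γ).2⟩ * γ, fun γ => ?_⟩
      rw [pow_succ, hν γ, pow_succ]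
      simp only [Subgroup.coe_mul]
      group
  -- the key identity
  have key : ∀ a : A, (∏ γ : Γ, (γ : MulAut A) a) = 1 → a = 1 := by
    intro a hTr
    have h1 : ∀ γ : Γ, ∏ i ∈ range q, ((η * (γ : MulAut A)) ^ i) a = 1 := fun γ =>
      norm_eq_one _ q (hpow γ γ.2) (hfpf γ γ.2) a
    have h2 : ∏ γ : Γ, ∏ i ∈ range q, ((η * (γ : MulAut A)) ^ i) a = 1 :=
      Finset.prod_eq_one fun γ _ => h1 γ
    rw [Finset.prod_comm] at h2
    have h3 : ∀ i ∈ range q, i ≠ 0 → ∏ γ : Γ, ((η * (γ : MulAut A)) ^ i) a = 1 := by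
      intro i hi hi0
      have hlt : i < q := Finset.mem_range.1 hi
      have hnd : ¬ q ∣ i := fun h => hi0 (Nat.eq_zero_of_dvd_of_lt h hlt)
      obtain ⟨ν, hν⟩ := hν i
      have hinj : Function.Injective ν := by
        intro γ γ' h
        have h4 : (η * (γ : MulAut A)) ^ i = (η * (γ' : MulAut A)) ^ i := by
          rw [hν γ, hν γ', h]
        have h5 := eq_of_pow_eq _ _ q hq (hpow γ γ.2) (hpow γ' γ'.2) i hnd h4
        exact Subtype.ext (mul_left_cancel h5)
      have hbij : Function.Bijective ν := hinj.bijective_of_finite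
      have h6 : ∀ γ : Γ, ((η * (γ : MulAut A)) ^ i) a = (η ^ i) ((ν γ : MulAut A) a) := by
        intro γ
        rw [hν γ, MulAut.mul_apply]
      rw [Finset.prod_congr rfl fun γ _ => h6 γ, ← map_prod]
      rw [Function.Bijective.prod_comp hbij (fun γ : Γ => (γ : MulAut A) a), hTr, map_one]
    have hq0 : 0 ∈ range q := Finset.mem_range.2 hq.pos
    rw [Finset.prod_eq_single_of_mem 0 hq0 h3] at h2
    simp only [pow_zero, MulAut.one_apply, Finset.prod_const, Finset.card_univ] at h2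
    have h5 : orderOf a ∣ Fintype.card Γ := orderOf_dvd_of_pow_eq_one h2
    rw [← Nat.card_eq_fintype_card] at h5
    have h6 : orderOf a ∣ Nat.card A := orderOf_dvd_natCard a
    have h7 : orderOf a ∣ 1 := by
      rw [← Nat.Coprime.gcd_eq_one hcop]
      exact Nat.dvd_gcd h5 h6
    exact orderOf_eq_one_iff.1 (Nat.dvd_one.1 h7)
  intro γ₀ hγ₀ a
  have h1 : a⁻¹ * γ₀ a = 1 := by
    apply key
    simp only [map_mul, map_inv, Finset.prod_mul_distrib, Finset.prod_inv_distrib]
    have h2 : ∏ γ : Γ, (γ : MulAut A) (γ₀ a) = ∏ γ : Γ, (γ : MulAut A) a := by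
      have := Function.Bijective.prod_comp (Equiv.mulRight (⟨γ₀, hγ₀⟩ : Γ)).bijective
        (fun γ : Γ => (γ : MulAut A) a)
      rw [← this]
      apply Finset.prod_congr rfl
      intro γ _
      simp [MulAut.mul_apply]
    rw [h2, inv_mul_cancel]
  exact (eq_of_inv_mul_eq_one h1).symm


/-- **Rank two from large centralizers**: if `p` divides the order of the finite group `X` and
every nontrivial `p`-element `x` satisfies `p · o(x) ∣ |C_X(x)|`, then `X` contains two commuting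
elements of order dividing `p` generating a non-cyclic group. -/
theorem exists_rank_two {X : Type*} [Group X] [Finite X] (p : ℕ) [hp : Fact p.Prime]
    (hpX : p ∣ Nat.card X)
    (hstar : ∀ x : X, x ≠ 1 → (∃ k, orderOf x = p ^ k) →
      p * orderOf x ∣ Nat.card (Subgroup.centralizer ({x} : Set X))) :
    ∃ e₁ e₂ : X, e₁ ^ p = 1 ∧ e₂ ^ p = 1 ∧ Commute e₁ e₂ ∧ e₂ ≠ 1 ∧ ∀ j : ℕ, e₁ * e₂ ^ j ≠ 1 := by
  classical
  have hp1 := hp.1
  -- a nontrivial p-element of maximal order
  let S : Set X := {x | x ≠ 1 ∧ ∃ k, orderOf x = p ^ k}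
  have hSne : S.Nonempty := by
    obtain ⟨x, hx⟩ := exists_prime_orderOf_dvd_card' p hpX
    refine ⟨x, ?_, 1, by rw [hx, pow_one]⟩
    intro h
    rw [h, orderOf_one] at hx
    exact hp1.one_lt.ne hx
  obtain ⟨x, hxS, hmax⟩ := Set.exists_max_image S orderOf (Set.toFinite S) hSne
  obtain ⟨hx1, k, hk⟩ := hxS
  have hk0 : k ≠ 0 := by
    intro h
    rw [h, pow_zero, orderOf_eq_one_iff] at hk
    exact hx1 hk
  -- the centralizer and a Sylow subgroup of it containing x
  set C := Subgroup.centralizer ({x} : Set X) with hC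
  have hxC : x ∈ C := Subgroup.mem_centralizer_singleton_iff.2 rfl
  let xc : C := ⟨x, hxC⟩
  have hoxc : orderOf xc = p ^ k := by rw [← hk]; exact Subgroup.orderOf_mk x hxC
  have hZ : IsPGroup p (Subgroup.zpowers xc) := by
    apply IsPGroup.of_card (n := k)
    rw [Nat.card_zpowers, hoxc]
  obtain ⟨Q, hQ⟩ := hZ.exists_le_sylow
  have hdiv : p ^ (k + 1) ∣ Nat.card C := by
    have := hstar x hx1 ⟨k, hk⟩
    rwa [hk, ← pow_succ'] at this
  have hQcard : p ^ (k + 1) ∣ Nat.card Q := Q.pow_dvd_card_of_pow_dvd_card hdiv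
  have hlt : Nat.card (Subgroup.zpowers xc) < Nat.card Q := by
    rw [Nat.card_zpowers, hoxc]
    calc p ^ k < p ^ (k + 1) := Nat.pow_lt_pow_right hp1.one_lt (Nat.lt_succ_self k)
      _ ≤ Nat.card Q := Nat.le_of_dvd Nat.card_pos hQcard
  have hex : ∃ t₀ : C, t₀ ∈ (Q : Subgroup C) ∧ t₀ ∉ Subgroup.zpowers xc := by
    by_contra hcon
    push Not at hcon
    have : (Q : Subgroup C) ≤ Subgroup.zpowers xc := fun t ht => hcon t ht
    exact absurd (Subgroup.card_le_of_le this) (not_le.2 hlt)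
  obtain ⟨t₀, ht₀Q, ht₀Z⟩ := hex
  -- an element t of Q outside ⟨x⟩ with t^p ∈ ⟨x⟩
  obtain ⟨b, hb⟩ := (IsPGroup.iff_orderOf.1 Q.2) ⟨t₀, ht₀Q⟩
  rw [Subgroup.orderOf_mk] at hb
  have hP : ∃ j : ℕ, t₀ ^ (p ^ j) ∈ Subgroup.zpowers xc :=
    ⟨b, by rw [← hb, pow_orderOf_eq_one]; exact one_mem _⟩
  set j₀ := Nat.find hP with hj₀
  have hj₀spec : t₀ ^ (p ^ j₀) ∈ Subgroup.zpowers xc := Nat.find_spec hP
  have hj₀0 : j₀ ≠ 0 := by
    intro h
    rw [h, pow_zero, pow_one] at hj₀spec
    exact ht₀Z hj₀spec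
  obtain ⟨j₁, hj₁⟩ := Nat.exists_eq_succ_of_ne_zero hj₀0
  have hj₁lt : j₁ < j₀ := by rw [hj₁]; exact Nat.lt_succ_self j₁
  set t : C := t₀ ^ (p ^ j₁) with ht
  have htZ : t ∉ Subgroup.zpowers xc := Nat.find_min hP hj₁lt
  have htp : t ^ p ∈ Subgroup.zpowers xc := by
    rw [ht, ← pow_mul, ← pow_succ, ← Nat.succ_eq_add_one, ← hj₁]
    exact hj₀spec
  have htQ : t ∈ (Q : Subgroup C) := Subgroup.pow_mem _ ht₀Q _
  obtain ⟨n, hn⟩ := (Submonoid.mem_powers_iff _ _).1 (mem_powers_iff_mem_zpowers.2 htp)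
  -- pass to X
  set tx : X := (t : X) with htx
  have hcomm : Commute tx x := by
    have := Subgroup.mem_centralizer_singleton_iff.1 t.2
    exact this
  have htxp : tx ^ p = x ^ n := by
    have := congrArg (fun c : C => (c : X)) hn
    simp only [Subgroup.coe_pow] at this
    exact this.symm
  have htxZ : tx ∉ Subgroup.zpowers x := by
    intro h
    obtain ⟨m, hm⟩ := Subgroup.mem_zpowers_iff.1 h
    apply htZ
    rw [Subgroup.mem_zpowers_iff]
    refine ⟨m, Subtype.ext ?_⟩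
    rw [Subgroup.coe_zpow]
    exact hm
  have htx1 : tx ≠ 1 := fun h => htxZ (h ▸ one_mem _)
  obtain ⟨c, hc⟩ := (IsPGroup.iff_orderOf.1 Q.2) ⟨t, htQ⟩
  rw [Subgroup.orderOf_mk] at hc
  have hotx : orderOf tx = p ^ c := by rw [← hc]; exact (Subgroup.orderOf_coe t)
  have hc0 : c ≠ 0 := by
    intro h
    rw [h, pow_zero, orderOf_eq_one_iff] at hotx
    exact htx1 hotx
  by_cases hpn : p ∣ n
  · -- the good case
    obtain ⟨n', rfl⟩ := hpn
    obtain ⟨k', rfl⟩ := Nat.exists_eq_succ_of_ne_zero hk0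
    refine ⟨x ^ (p ^ k'), tx * (x ^ n')⁻¹, ?_, ?_, ?_, ?_, ?_⟩
    · rw [← pow_mul, ← pow_succ, ← hk, pow_orderOf_eq_one]
    · rw [(hcomm.pow_right n').inv_right.mul_pow, htxp, inv_pow, ← pow_mul, mul_comm n' p,
        mul_inv_cancel]
    · exact ((hcomm.pow_right _).symm).mul_right
        ((Commute.refl x).pow_pow _ _).inv_right
    · intro h
      apply htxZ
      have : tx = x ^ n' := by rw [← mul_inv_eq_one]; exact h
      rw [this]
      exact Subgroup.pow_mem _ (Subgroup.mem_zpowers x) _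
    · intro j hj
      set e₂ := tx * (x ^ n')⁻¹ with he₂
      have he₂p : e₂ ^ p = 1 := by
        rw [he₂, (hcomm.pow_right n').inv_right.mul_pow, htxp, inv_pow, ← pow_mul,
          mul_comm n' p, mul_inv_cancel]
      have he₂Z : e₂ ∉ Subgroup.zpowers x := by
        intro h
        apply htxZ
        have : tx = e₂ * x ^ n' := by rw [he₂]; group
        rw [this]
        exact Subgroup.mul_mem _ h (Subgroup.pow_mem _ (Subgroup.mem_zpowers x) _)
      have hej : e₂ ^ j = (x ^ (p ^ k'))⁻¹ := by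
        rw [eq_inv_iff_mul_eq_one]
        have hcm : Commute (e₂ ^ j) (x ^ (p ^ k')) := by
          apply Commute.pow_pow
          rw [he₂]
          exact (hcomm).mul_left ((Commute.refl x).pow_left _).inv_left
        rw [hcm.eq]
        exact hj
      by_cases hpj : p ∣ j
      · obtain ⟨j', rfl⟩ := hpj
        rw [pow_mul, he₂p, one_pow] at hej
        have h1 : x ^ (p ^ k') = 1 := by rw [← inv_inj, ← hej, inv_one]
        have h2 := orderOf_dvd_of_pow_eq_one h1
        rw [hk] at h2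
        have := (Nat.pow_dvd_pow_iff_le_right hp1.one_lt).1 h2
        omega
      · apply he₂Z
        have hcop : Nat.Coprime j p := ((Nat.Prime.coprime_iff_not_dvd hp1).2 hpj).symm
        obtain ⟨u, -, hu⟩ := Nat.exists_mul_mod_eq_one_of_coprime hcop hp1.one_lt
        have h1 : (e₂ ^ j) ^ u = e₂ := by
          rw [← pow_mul, pow_eq_pow_mod (j * u) he₂p, hu, pow_one]
        rw [← h1, hej]
        exact Subgroup.pow_mem _ (Subgroup.inv_mem _
          (Subgroup.pow_mem _ (Subgroup.mem_zpowers x) _)) _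
  · -- the bad case: t has larger order than x
    exfalso
    have h1 : orderOf (x ^ n) = orderOf x := by
      apply Nat.Coprime.orderOf_pow
      rw [hk]
      exact Nat.Coprime.pow_left k ((Nat.Prime.coprime_iff_not_dvd hp1).2 hpn)
    have h2 : orderOf (tx ^ p) = p ^ (c - 1) := by
      rw [orderOf_pow' tx hp1.ne_zero, hotx]
      obtain ⟨c', rfl⟩ := Nat.exists_eq_succ_of_ne_zero hc0
      have : Nat.gcd (p ^ (c' + 1)) p = p := Nat.gcd_eq_right (dvd_pow_self p (Nat.succ_ne_zero c'))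
      rw [this, pow_succ, Nat.mul_div_cancel _ hp1.pos]
      simp
    rw [htxp, h1, hk] at h2
    have h3 : k = c - 1 := Nat.pow_right_injective hp1.two_le h2
    have h4 : orderOf tx ≤ orderOf x := hmax tx ⟨htx1, c, hotx⟩
    rw [hotx, hk] at h4
    have := (Nat.pow_le_pow_iff_right hp1.one_lt).1 h4
    omega

end Cfsg.Agent.Lib.Helper22.CamA
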