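import Mathlib
import Cfsg.Agent.Lib.Helper21.BSQ.Defs

/-!
# Project BSQ (helper21, S3912), row A3 (`comap_facts`), verbatim.
-/

set_option autoImplicit false

namespace Cfsg.Agent.Lib.Helper21.BSQ

universe u

variable {G : Type u} [Group G]

/-- A3 [S-M]. `ker mk = N`; `|comap| = |ker| |A'|` (`Subgroup.card_eq_card_quotient_mul_card_subgroup` on the comap, or
`Subgroup.index_comap`/`relIndex`); the commutator maps to `1` as `A'` is commutative, `QuotientGroup.eq_one_iff`. -/
theorem comap_facts [Finite G] (N : Subgroup G) [N.Normal] (A' : Subgroup (G ⧸ N))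
    (hA' : IsMulCommutative ↥A') :
    N ≤ A'.comap (QuotientGroup.mk' N) ∧
      Nat.card ↥(A'.comap (QuotientGroup.mk' N)) = Nat.card ↥N * Nat.card ↥A' ∧
      ∀ x ∈ A'.comap (QuotientGroup.mk' N), ∀ y ∈ A'.comap (QuotientGroup.mk' N),
        x * y * x⁻¹ * y⁻¹ ∈ N := by
  refine ⟨?_, ?_, ?_⟩
  · intro x hx
    rw [Subgroup.mem_comap]
    have : QuotientGroup.mk' N x = 1 := by
      rw [QuotientGroup.mk'_apply, QuotientGroup.eq_one_iff]
      exact hx
    rw [this]
    exact A'.one_mem
  · have hsurj : Function.Surjective (QuotientGroup.mk' N) := QuotientGroup.mk'_surjective N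
    have h1 : (A'.comap (QuotientGroup.mk' N)).index = A'.index :=
      Subgroup.index_comap_of_surjective A' hsurj
    have h2 : Nat.card G = Nat.card (G ⧸ N) * Nat.card ↥N :=
      Subgroup.card_eq_card_quotient_mul_card_subgroup N
    have h3 := Subgroup.index_mul_card A'
    have h4 := Subgroup.index_mul_card (A'.comap (QuotientGroup.mk' N))
    rw [h1] at h4
    have hpos : 0 < A'.index := Nat.pos_of_ne_zero Subgroup.index_ne_zero_of_finite
    have h5 : A'.index * Nat.card ↥(A'.comap (QuotientGroup.mk' N)) =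
        A'.index * (Nat.card ↥N * Nat.card ↥A') := by
      rw [h4, h2, ← h3]
      ring
    exact Nat.eq_of_mul_eq_mul_left hpos h5
  · intro x hx y hy
    rw [Subgroup.mem_comap] at hx hy
    rw [← QuotientGroup.eq_one_iff]
    have hc : (QuotientGroup.mk' N x) * (QuotientGroup.mk' N y) =
        (QuotientGroup.mk' N y) * (QuotientGroup.mk' N x) := by
      have := mul_comm' (⟨_, hx⟩ : ↥A') (⟨_, hy⟩ : ↥A')
      exact congrArg Subtype.val this
    have e : ((x * y * x⁻¹ * y⁻¹ : G) : G ⧸ N) =
        (QuotientGroup.mk' N x) * (QuotientGroup.mk' N y) * (QuotientGroup.mk' N x)⁻¹ *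
          (QuotientGroup.mk' N y)⁻¹ := by
      simp only [QuotientGroup.mk'_apply, QuotientGroup.mk_mul, QuotientGroup.mk_inv]
    rw [e, hc]
    group

end Cfsg.Agent.Lib.Helper21.BSQ
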