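import Mathlib
import Cfsg.Agent.Lib.Helper21.BSQ.Defs

/-!
# Project BSQ (helper21, S3912), row A4 (`sz_in_subgroup`), verbatim.
-/

set_option autoImplicit false

namespace Cfsg.Agent.Lib.Helper21.BSQ

universe u

variable {G : Type u} [Group G]

/-- A4 [M]. Schur-Zassenhaus inside `A`: `S.subgroupOf A` is normal in `↥A` of index `m`, coprime to its order;
`Subgroup.exists_right_complement'_of_coprime` gives `K : Subgroup ↥A`; `H := K.map A.subtype`.
(`IsComplement'` gives `K ⊓ S' = ⊥`, `|K| = index`, and every `a = s * k`.) -/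
theorem sz_in_subgroup [Finite G] (A S : Subgroup G) (hSA : S ≤ A)
    (hn : ∀ a ∈ A, ∀ s ∈ S, a * s * a⁻¹ ∈ S) {m : ℕ} (hcard : Nat.card ↥A = Nat.card ↥S * m)
    (hcop : (Nat.card ↥S).Coprime m) :
    ∃ H : Subgroup G, H ≤ A ∧ H ⊓ S = ⊥ ∧ Nat.card ↥H = m ∧
      ∀ a ∈ A, ∃ s ∈ S, ∃ h ∈ H, a = s * h := by
  classical
  have hnormal : (S.subgroupOf A).Normal := by
    constructor
    intro s hs a
    rw [Subgroup.mem_subgroupOf] at hs ⊢
    have := hn (a : G) a.2 (s : G) hs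
    simpa using this
  have hcardS : Nat.card ↥(S.subgroupOf A) = Nat.card ↥S :=
    Nat.card_congr (Subgroup.subgroupOfEquivOfLe hSA).toEquiv
  have hSpos : 0 < Nat.card ↥S := Nat.card_pos
  have hidx : (S.subgroupOf A).index = m := by
    have h1 := Subgroup.index_mul_card (S.subgroupOf A)
    rw [hcardS, hcard, mul_comm (Nat.card ↥S) m] at h1
    exact Nat.eq_of_mul_eq_mul_right hSpos h1
  have hcop' : Nat.Coprime (Nat.card ↥(S.subgroupOf A)) (S.subgroupOf A).index := by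
    rw [hcardS, hidx]
    exact hcop
  obtain ⟨K, hK⟩ := Subgroup.exists_right_complement'_of_coprime hcop'
  refine ⟨K.map A.subtype, ?_, ?_, ?_, ?_⟩
  · rintro _ ⟨k, _, rfl⟩
    exact k.2
  · rw [eq_bot_iff]
    rintro x ⟨⟨k, hk, rfl⟩, hxS⟩
    have hk2 : k ∈ K ⊓ S.subgroupOf A := by
      refine ⟨hk, ?_⟩
      show k ∈ S.subgroupOf A
      rw [Subgroup.mem_subgroupOf]
      exact hxS
    have hdisj := hK.disjoint
    rw [disjoint_iff, inf_comm] at hdisj
    rw [hdisj, Subgroup.mem_bot] at hk2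
    rw [Subgroup.mem_bot, hk2]
    rfl
  · rw [Nat.card_congr (Subgroup.equivMapOfInjective K A.subtype A.subtype_injective).symm.toEquiv]
    rw [← hidx]
    exact hK.symm.index_eq_card.symm
  · intro a ha
    obtain ⟨⟨s, k⟩, hsk⟩ := hK.2 (⟨a, ha⟩ : ↥A)
    have hs : ((s : ↥A) : G) ∈ S := by
      have := s.2
      rw [SetLike.mem_coe, Subgroup.mem_subgroupOf] at this
      exact this
    refine ⟨((s : ↥A) : G), hs, ((k : ↥A) : G), ⟨(k : ↥A), k.2, rfl⟩, ?_⟩
    have := congrArg (fun x : ↥A => (x : G)) hsk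
    simpa using this.symm

end Cfsg.Agent.Lib.Helper21.BSQ
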