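import Mathlib
import Cfsg.Prelude.Def_Solvable
import Cfsg.Agent.Lib.Helper1.FrobCenter
import Cfsg.Agent.S0039

set_option autoImplicit false

namespace Cfsg.Agent.Lib.Helper22.FrobKernel

open scoped Pointwise

variable {L : Type*} [Group L]

theorem isComplement' [Finite L] (N C : Subgroup L) (hC : Cfsg.IsFrobeniusComplement C)
    (hN : Cfsg.frobeniusKernel C = (N : Set L)) : Subgroup.IsComplement' N C := by
  obtain ⟨N', hN', _, hc⟩ := Cfsg.Agent.Lib.Helper1.frobenius_theorem C hC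
  have h : N' = N := SetLike.coe_injective (hN'.trans hN)
  rw [← h]
  exact hc

theorem kernel_ne_bot [Finite L] (N C : Subgroup L) (hC : Cfsg.IsFrobeniusComplement C)
    (hN : Cfsg.frobeniusKernel C = (N : Set L)) : N ≠ ⊥ := by
  intro h
  have hc := isComplement' N C hC hN
  rw [h] at hc
  have h1 := hc.card_mul_card
  rw [Subgroup.card_bot, one_mul] at h1
  exact hC.2.1 ((Subgroup.card_eq_iff_eq_top C).1 h1)

theorem fpf [Finite L] (N C : Subgroup L) [N.Normal] (hC : Cfsg.IsFrobeniusComplement C)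
    (hN : Cfsg.frobeniusKernel C = (N : Set L)) :
    ∀ h ∈ C, h ≠ 1 → N ⊓ Subgroup.centralizer {h} = ⊥ :=
  (Cfsg.Agent.S0039.result N C (isComplement' N C hC hN) (kernel_ne_bot N C hC hN) hC.1).mp hC

theorem eq_one_of_commute [Finite L] (N C : Subgroup L) [N.Normal]
    (hC : Cfsg.IsFrobeniusComplement C) (hN : Cfsg.frobeniusKernel C = (N : Set L))
    {n c : L} (hn : n ∈ N) (hn1 : n ≠ 1) (hc : c ∈ C) (hcomm : c * n = n * c) : c = 1 := by
  by_contra hc1
  have h := fpf N C hC hN c hc hc1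
  have h2 : n ∈ N ⊓ Subgroup.centralizer {c} := by
    refine ⟨hn, ?_⟩
    apply Subgroup.mem_centralizer_iff.mpr
    intro y hy
    rw [Set.mem_singleton_iff.mp hy]
    exact hcomm
  rw [h, Subgroup.mem_bot] at h2
  exact hn1 h2

theorem centralizer_le [Finite L] (N C : Subgroup L) [hNn : N.Normal]
    (hC : Cfsg.IsFrobeniusComplement C) (hN : Cfsg.frobeniusKernel C = (N : Set L))
    {n : L} (hn : n ∈ N) (hn1 : n ≠ 1) {g : L} (hg : g * n = n * g) : g ∈ N := by
  by_contra hgN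
  have hgK : g ∉ Cfsg.frobeniusKernel C := by
    rw [hN]
    exact hgN
  have h1 : ¬ (g = 1 ∨ ∀ x : L, g ∉ MulAut.conj x • C) := hgK
  push Not at h1
  obtain ⟨hg1, x, hx⟩ := h1
  rw [Cfsg.Agent.Lib.Helper19.mem_conj_smul_iff'] at hx
  have hn' : x⁻¹ * n * x ∈ N := by
    have := hNn.conj_mem n hn x⁻¹
    rwa [inv_inv] at this
  have hn1' : x⁻¹ * n * x ≠ 1 := by
    intro h
    apply hn1
    have : n = x * (x⁻¹ * n * x) * x⁻¹ := by group
    rw [this, h]
    group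
  have hcomm : (x⁻¹ * g * x) * (x⁻¹ * n * x) = (x⁻¹ * n * x) * (x⁻¹ * g * x) := by
    have e1 : (x⁻¹ * g * x) * (x⁻¹ * n * x) = x⁻¹ * (g * n) * x := by group
    have e2 : (x⁻¹ * n * x) * (x⁻¹ * g * x) = x⁻¹ * (n * g) * x := by group
    rw [e1, e2, hg]
  have := eq_one_of_commute N C hC hN hn' hn1' hx hcomm
  apply hg1
  have e : g = x * (x⁻¹ * g * x) * x⁻¹ := by group
  rw [e, this]
  group

theorem coprime [Finite L] (N C : Subgroup L) (hC : Cfsg.IsFrobeniusComplement C)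
    (hN : Cfsg.frobeniusKernel C = (N : Set L)) : Nat.Coprime (Nat.card N) (Nat.card C) := by
  have h1 := Cfsg.Agent.Lib.Helper19.card_frobeniusKernel C hC
  have h2 := Cfsg.Agent.Lib.Helper19.index_coprime_card C hC
  rw [hN] at h1
  have h3 : Nat.card N = C.index := h1
  rw [h3]
  exact h2

theorem involution_inverts [Finite L] (N C : Subgroup L) [hNn : N.Normal]
    (hC : Cfsg.IsFrobeniusComplement C) (hN : Cfsg.frobeniusKernel C = (N : Set L))
    {t : L} (ht : t ∈ C) (ht1 : t ≠ 1) (ht2 : t * t = 1) {n : L} (hn : n ∈ N) :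
    t * n * t⁻¹ = n⁻¹ := by
  have htinv : t⁻¹ = t := inv_eq_of_mul_eq_one_left ht2
  let f : N → N := fun a => ⟨(a : L)⁻¹ * (t * a * t⁻¹), N.mul_mem (N.inv_mem a.2) (hNn.conj_mem _ a.2 t)⟩
  have hf : Function.Injective f := by
    intro a b hab
    have h1 : (a : L)⁻¹ * (t * a * t⁻¹) = (b : L)⁻¹ * (t * b * t⁻¹) := congrArg Subtype.val hab
    have h2 : t * ((b : L) * (a : L)⁻¹) = ((b : L) * (a : L)⁻¹) * t := by
      have e1 : t * ((b : L) * (a : L)⁻¹) = (b : L) * ((b : L)⁻¹ * (t * b * t⁻¹)) * t * (a : L)⁻¹ := by group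
      have e2 : ((b : L) * (a : L)⁻¹) * t = (b : L) * ((a : L)⁻¹ * (t * a * t⁻¹)) * t * (a : L)⁻¹ := by group
      rw [e1, e2, h1]
    have h3 : (b : L) * (a : L)⁻¹ = 1 := by
      by_contra hne
      exact ht1 (eq_one_of_commute N C hC hN (N.mul_mem b.2 (N.inv_mem a.2)) hne ht h2)
    apply Subtype.ext
    exact (mul_inv_eq_one.mp h3).symm
  have hs : Function.Surjective f := Finite.surjective_of_injective hf
  obtain ⟨a, ha⟩ := hs ⟨n, hn⟩
  have h1 : (a : L)⁻¹ * (t * a * t⁻¹) = n := congrArg Subtype.val ha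
  rw [← h1, htinv]
  have e1 : t * ((a : L)⁻¹ * (t * a * t)) * t = t * (a : L)⁻¹ * t * a * (t * t) := by group
  have e2 : ((a : L)⁻¹ * (t * a * t))⁻¹ = t⁻¹ * (a : L)⁻¹ * t⁻¹ * a := by group
  rw [e1, e2, ht2, htinv, mul_one]

theorem involution_unique [Finite L] (N C : Subgroup L) [hNn : N.Normal]
    (hC : Cfsg.IsFrobeniusComplement C) (hN : Cfsg.frobeniusKernel C = (N : Set L))
    {t t' : L} (ht : t ∈ C) (ht1 : t ≠ 1) (ht2 : t * t = 1)
    (ht' : t' ∈ C) (ht1' : t' ≠ 1) (ht2' : t' * t' = 1) : t = t' := by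
  have hNb := kernel_ne_bot N C hC hN
  obtain ⟨n, hn, hn1⟩ := (Subgroup.ne_bot_iff_exists_ne_one.mp hNb |> fun ⟨x, hx⟩ => ⟨(x : L), x.2, fun h => hx (Subtype.ext h)⟩ : ∃ n : L, n ∈ N ∧ n ≠ 1)
  have h1 := involution_inverts N C hC hN ht ht1 ht2 (N.inv_mem hn)
  have h2 := involution_inverts N C hC hN ht' ht1' ht2' hn
  have hcomm : (t * t') * n = n * (t * t') := by
    have e : (t * t') * n = t * (t' * n * t'⁻¹) * t⁻¹ * (t * t') := by group
    rw [e, h2, h1, inv_inv]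
  have h3 := eq_one_of_commute N C hC hN hn hn1 (C.mul_mem ht ht') hcomm
  have htinv : t⁻¹ = t := inv_eq_of_mul_eq_one_left ht2
  rw [← htinv]
  exact (inv_eq_of_mul_eq_one_right h3)


end Cfsg.Agent.Lib.Helper22.FrobKernel
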