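import Mathlib
import Cfsg.Agent.Lib.helper17.SLP.Defs
import Cfsg.Agent.Lib.helper3.SP4.Defs
import Cfsg.Agent.Lib.Helper22.SU4.Defs
import Cfsg.Prelude.Def_Classical
import Cfsg.Agent.Lib.helper15.SUn.Defs

/-!
# Project SU4 (designer helper22), row M6 (`suj_iso`): the abstract core (change of basis) (helper22)

`su4m6_core`: if `P : Matrix (Fin 4) (Fin 2 ⊕ Fin 2) F` is invertible (inverse `Q`) and `Pᵀ * σ(P) = c • J`, `c ≠ 0`
(the columns of `P` form a hyperbolic basis of the standard hermitian space, scaled by a skew element `c`), then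
`A ↦ P * A * Q` is an isomorphism `SUJ σ ≃* Cfsg.SU 4 F q`.
-/

set_option autoImplicit false

namespace Cfsg.Agent.Lib.Helper22.SU4

open Cfsg.Agent.Lib.helper17.SLP Cfsg.Agent.Lib.helper3.SP4

universe u v

section M6

open Matrix

variable {F : Type u} [Field F]

/-- the sesquilinear form with Gram matrix `G` -/
def su4m6_frm {α : Type*} [Fintype α] (σ : F →+* F) (G : Matrix α α F) (x y : α → F) : F :=
  x ⬝ᵥ (G *ᵥ (σ ∘ y))

theorem su4m6_frm_mulVec {α β : Type*} [Fintype α] [Fintype β] (σ : F →+* F) (G : Matrix α α F) (N : Matrix α β F)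
    (x y : β → F) :
    su4m6_frm σ G (N *ᵥ x) (N *ᵥ y) = su4m6_frm σ (Nᵀ * G * N.map σ) x y := by
  unfold su4m6_frm
  have h1 : (σ ∘ (N *ᵥ y)) = N.map σ *ᵥ (σ ∘ y) := by
    funext i
    exact RingHom.map_mulVec σ N y i
  rw [h1, Matrix.mulVec_mulVec, Matrix.mul_assoc Nᵀ, ← Matrix.mulVec_mulVec (σ ∘ y) Nᵀ, Matrix.dotProduct_mulVec x Nᵀ,
    Matrix.vecMul_transpose]

theorem su4m6_frm_single {α : Type*} [Fintype α] [DecidableEq α] (σ : F →+* F) (G : Matrix α α F) (a b : α) :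
    su4m6_frm σ G (Pi.single a 1) (Pi.single b 1) = G a b := by
  unfold su4m6_frm
  have h1 : (σ ∘ (Pi.single b (1 : F) : α → F)) = Pi.single b 1 := by
    funext i
    by_cases h : i = b
    · subst h
      simp
    · simp [h]
  rw [h1, Matrix.mulVec_single_one, single_one_dotProduct]
  rfl

theorem su4m6_frm_ext {α : Type*} [Fintype α] [DecidableEq α] (σ : F →+* F) {G G' : Matrix α α F}
    (h : ∀ x y, su4m6_frm σ G x y = su4m6_frm σ G' x y) : G = G' := by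
  ext a b
  rw [← su4m6_frm_single σ G a b, ← su4m6_frm_single σ G' a b, h]

theorem su4m6_herm {n q : ℕ} (σ : F →+* F) (hσ : ∀ x, σ x = x ^ q) (x y : Fin n → F) :
    Cfsg.hermForm n F q x y = su4m6_frm σ 1 x y := by
  unfold su4m6_frm Cfsg.hermForm
  rw [Matrix.one_mulVec]
  unfold dotProduct
  apply Finset.sum_congr rfl
  intro i _
  rw [Function.comp_apply, hσ]

/-- the matrix form of membership in `Cfsg.SU` -/
theorem su4m6_su_iff {n q : ℕ} (σ : F →+* F) (hσ : ∀ x, σ x = x ^ q) (B : Matrix (Fin n) (Fin n) F) :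
    (∀ u v, Cfsg.hermForm n F q (B *ᵥ u) (B *ᵥ v) = Cfsg.hermForm n F q u v) ↔ Bᵀ * B.map σ = 1 := by
  constructor
  · intro h
    have h1 : Bᵀ * 1 * B.map σ = 1 := by
      apply su4m6_frm_ext σ
      intro x y
      rw [← su4m6_frm_mulVec, ← su4m6_herm σ hσ, ← su4m6_herm σ hσ, h]
    rwa [Matrix.mul_one] at h1
  · intro h u v
    rw [su4m6_herm σ hσ, su4m6_herm σ hσ, su4m6_frm_mulVec, Matrix.mul_one, h]

/-- the abstract core of M6 -/
theorem su4m6_core {q : ℕ} (σ : F →+* F) (hσ : ∀ x, σ x = x ^ q) (P : Matrix (Fin 4) (Fin 2 ⊕ Fin 2) F)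
    (Q : Matrix (Fin 2 ⊕ Fin 2) (Fin 4) F) (hPQ : P * Q = 1) (hQP : Q * P = 1) (c : F) (hc : c ≠ 0)
    (hP : Pᵀ * P.map σ = c • Matrix.J (Fin 2) F) :
    Nonempty (↥(SUJ σ) ≃* ↥(Cfsg.SU 4 F q)) := by
  -- the dual identity
  have hQ : c • (Qᵀ * Matrix.J (Fin 2) F * Q.map σ) = 1 := by
    have h1 : Qᵀ * (Pᵀ * P.map σ) * Q.map σ = 1 := by
      have : Qᵀ * (Pᵀ * P.map σ) * Q.map σ = (P * Q)ᵀ * (P * Q).map σ := by
        rw [Matrix.transpose_mul, Matrix.map_mul]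
        simp only [Matrix.mul_assoc]
      rw [this, hPQ, Matrix.transpose_one, Matrix.map_one _ (map_zero σ) (map_one σ), Matrix.one_mul]
    rw [hP, Matrix.mul_smul, Matrix.smul_mul] at h1
    exact h1
  have fwd : ∀ A : Matrix (Fin 2 ⊕ Fin 2) (Fin 2 ⊕ Fin 2) F, Aᵀ * Matrix.J (Fin 2) F * A.map σ = Matrix.J (Fin 2) F →
      (P * A * Q)ᵀ * (P * A * Q).map σ = 1 := by
    intro A hA
    have : (P * A * Q)ᵀ * (P * A * Q).map σ = Qᵀ * (Aᵀ * (Pᵀ * P.map σ) * A.map σ) * Q.map σ := by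
      rw [Matrix.transpose_mul, Matrix.transpose_mul, Matrix.map_mul, Matrix.map_mul]
      simp only [Matrix.mul_assoc]
    rw [this, hP, Matrix.mul_smul, Matrix.smul_mul, hA, Matrix.mul_smul, Matrix.smul_mul]
    exact hQ
  have bwd : ∀ B : Matrix (Fin 4) (Fin 4) F, Bᵀ * B.map σ = 1 →
      (Q * B * P)ᵀ * Matrix.J (Fin 2) F * (Q * B * P).map σ = Matrix.J (Fin 2) F := by
    intro B hB
    have hQ' : Qᵀ * Matrix.J (Fin 2) F * Q.map σ = c⁻¹ • (1 : Matrix (Fin 4) (Fin 4) F) := by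
      rw [← hQ, smul_smul, inv_mul_cancel₀ hc, one_smul]
    have : (Q * B * P)ᵀ * Matrix.J (Fin 2) F * (Q * B * P).map σ =
        Pᵀ * (Bᵀ * (Qᵀ * Matrix.J (Fin 2) F * Q.map σ) * B.map σ) * P.map σ := by
      rw [Matrix.transpose_mul, Matrix.transpose_mul, Matrix.map_mul, Matrix.map_mul]
      simp only [Matrix.mul_assoc]
    rw [this, hQ', Matrix.mul_smul, Matrix.mul_one, Matrix.smul_mul, hB, Matrix.mul_smul, Matrix.mul_one,
      Matrix.smul_mul, hP, smul_smul, inv_mul_cancel₀ hc, one_smul]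
  have detF : ∀ A : Matrix (Fin 2 ⊕ Fin 2) (Fin 2 ⊕ Fin 2) F, (P * A * Q).det = A.det :=
    fun A => Matrix.det_conj_of_mul_eq_one hPQ hQP
  have detB : ∀ B : Matrix (Fin 4) (Fin 4) F, (Q * B * P).det = B.det :=
    fun B => Matrix.det_conj_of_mul_eq_one hQP hPQ
  refine ⟨{
    toFun := fun A => ⟨⟨P * A.1.1 * Q, by rw [detF]; exact A.1.2⟩, ?_⟩
    invFun := fun B => ⟨⟨Q * B.1.1 * P, by rw [detB]; exact B.1.2⟩, ?_⟩
    left_inv := ?_
    right_inv := ?_
    map_mul' := ?_ }⟩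
  · show ∀ u v, Cfsg.hermForm 4 F q ((P * A.1.1 * Q) *ᵥ u) ((P * A.1.1 * Q) *ᵥ v) = Cfsg.hermForm 4 F q u v
    rw [su4m6_su_iff σ hσ]
    exact fwd _ A.2
  · show (Q * B.1.1 * P)ᵀ * Matrix.J (Fin 2) F * (Q * B.1.1 * P).map σ = Matrix.J (Fin 2) F
    apply bwd
    rw [← su4m6_su_iff σ hσ]
    exact B.2
  · intro A
    apply Subtype.ext
    apply Subtype.ext
    show Q * (P * A.1.1 * Q) * P = A.1.1
    rw [Matrix.mul_assoc P, ← Matrix.mul_assoc Q, hQP, Matrix.one_mul, Matrix.mul_assoc, hQP, Matrix.mul_one]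
  · intro B
    apply Subtype.ext
    apply Subtype.ext
    show P * (Q * B.1.1 * P) * Q = B.1.1
    rw [Matrix.mul_assoc Q, ← Matrix.mul_assoc P, hPQ, Matrix.one_mul, Matrix.mul_assoc, hPQ, Matrix.mul_one]
  · intro A A'
    apply Subtype.ext
    apply Subtype.ext
    show P * (A.1.1 * A'.1.1) * Q = (P * A.1.1 * Q) * (P * A'.1.1 * Q)
    have : (P * A.1.1 * Q) * (P * A'.1.1 * Q) = P * A.1.1 * (Q * P) * A'.1.1 * Q := by
      simp only [Matrix.mul_assoc]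
    rw [this, hQP, Matrix.mul_one]
    simp only [Matrix.mul_assoc]

end M6

end Cfsg.Agent.Lib.Helper22.SU4
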