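import Mathlib
import Cfsg.Agent.Lib.helper17.SLP.Defs
import Cfsg.Agent.Lib.helper3.SP4.Defs
import Cfsg.Agent.Lib.Helper22.SU4.Defs
import Cfsg.Prelude.Def_Classical
import Cfsg.Agent.Lib.Helper22.SU4M6core
import Cfsg.Agent.Lib.Helper19.MODMain
import Cfsg.Agent.Lib.Helper20.GLEM1
import Cfsg.Agent.Lib.Helper27.STU.Frob

/-!
# Project SU4 (designer helper22), row M6 (`suj_iso`), VERBATIM (helper22)

Change of basis: a hyperbolic frame of the standard hermitian space `F⁴` (block MOD: `Helper19.MOD.exists_ctx`), its second half scaled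
by a skew element `c` (`σ c = -c`, `Helper27.STU.frobStar_hyp`), gives `P` with `Pᵀ σ(P) = c • J`; then `su4m6_core`.
-/

set_option autoImplicit false
set_option linter.style.haveILetI false

namespace Cfsg.Agent.Lib.Helper22.SU4

open Cfsg.Agent.Lib.helper17.SLP Cfsg.Agent.Lib.helper3.SP4

universe u v

section M

variable {F : Type u} {K : Type u} [Field F] [Field K]

open Cfsg.Agent.Lib.Helper27.STU Cfsg.Agent.Lib.Helper19.MOD Cfsg.Agent.Lib.helper3.STC in
/-- the matrices of the change of basis -/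
theorem su4m6_exists_PQ [Fintype F] (q : ℕ) (hF : Fintype.card F = q ^ 2) (σ : F →+* F) (hσ : ∀ x, σ x = x ^ q) :
    ∃ (P : Matrix (Fin 4) (Fin 2 ⊕ Fin 2) F) (Q : Matrix (Fin 2 ⊕ Fin 2) (Fin 4) F) (c : F),
      P * Q = 1 ∧ Q * P = 1 ∧ c ≠ 0 ∧ P.transpose * P.map σ = c • Matrix.J (Fin 2) F := by
  letI := frobStar hF
  obtain ⟨C⟩ := exists_ctx hF 4 2 False (Or.inl ⟨not_false, rfl⟩)
  obtain ⟨c, hc0, hc⟩ := (frobStar_hyp hF).ex_skew
  have hcq : c ^ q = -c := hc
  let P : Matrix (Fin 4) (Fin 2 ⊕ Fin 2) F :=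
    Matrix.of fun x a => Sum.elim (fun i => C.fr (Sum.inl i) x) (fun i => c * C.fr (Sum.inr i) x) a
  let Q : Matrix (Fin 2 ⊕ Fin 2) (Fin 4) F :=
    Matrix.of fun a y => Sum.elim (fun i => (C.fr (Sum.inr i) y) ^ q) (fun i => c⁻¹ * (C.fr (Sum.inl i) y) ^ q) a
  have hPQ : P * Q = 1 := by
    ext x y
    have h1 := congrFun (Cfsg.Agent.Lib.Helper20.GLE.frame_span C (Pi.single y 1)) x
    rw [Matrix.mul_apply, Fintype.sum_sum_type]
    rw [Finset.sum_apply, Fintype.sum_sum_type] at h1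
    have h2 : ∀ v : Fin 4 → F, Cfsg.hermForm 4 F q (Pi.single y 1) v = (v y) ^ q := by
      intro v
      unfold Cfsg.hermForm
      rw [Finset.sum_eq_single y]
      · simp
      · intro b _ hb
        simp [hb]
      · intro h
        exact absurd (Finset.mem_univ _) h
    simp only [Pi.smul_apply, smul_eq_mul, h2] at h1
    have h3 : (1 : Matrix (Fin 4) (Fin 4) F) x y = (Pi.single y (1 : F) : Fin 4 → F) x := by
      rw [Matrix.one_apply, Pi.single_apply]
    rw [h3, h1]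
    congr 1
    · apply Finset.sum_congr rfl
      intro i _
      show C.fr (Sum.inl i) x * (C.fr (Sum.inr i) y) ^ q = (C.fr (ng (Sum.inl i)) y) ^ q * C.fr (Sum.inl i) x
      rw [mul_comm]
      rfl
    · apply Finset.sum_congr rfl
      intro i _
      show c * C.fr (Sum.inr i) x * (c⁻¹ * (C.fr (Sum.inl i) y) ^ q) = (C.fr (ng (Sum.inr i)) y) ^ q * C.fr (Sum.inr i) x
      have : ng (Sum.inr i : Fin 2 ⊕ Fin 2) = Sum.inl i := rfl
      rw [this]
      field_simp
  have hQP : Q * P = 1 :=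
    (Matrix.mul_eq_one_comm_of_equiv (A := P) (B := Q) (finSumFinEquiv (m := 2) (n := 2)).symm).mp hPQ
  refine ⟨P, Q, c, hPQ, hQP, hc0, ?_⟩
  have hg : ∀ a b : Fin 2 ⊕ Fin 2, ∑ x, C.fr a x * (C.fr b x) ^ q = if b = ng a then 1 else 0 := fun a b => C.gram a b
  ext (i | i) (j | j)
  · rw [Matrix.mul_apply]
    simp only [Matrix.transpose_apply, Matrix.map_apply, hσ, Matrix.smul_apply, Matrix.J, Matrix.fromBlocks_apply₁₁,
      Matrix.zero_apply, smul_zero]
    show ∑ x, C.fr (Sum.inl i) x * (C.fr (Sum.inl j) x) ^ q = 0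
    rw [hg]
    simp [ng]
  · rw [Matrix.mul_apply]
    simp only [Matrix.transpose_apply, Matrix.map_apply, hσ, Matrix.smul_apply, Matrix.J, Matrix.fromBlocks_apply₁₂,
      Matrix.neg_apply, Matrix.one_apply, smul_eq_mul]
    show ∑ x, C.fr (Sum.inl i) x * (c * C.fr (Sum.inr j) x) ^ q = c * -(if i = j then 1 else 0)
    have : ∀ x, C.fr (Sum.inl i) x * (c * C.fr (Sum.inr j) x) ^ q = c ^ q * (C.fr (Sum.inl i) x * (C.fr (Sum.inr j) x) ^ q) := by
      intro x
      ring
    simp only [this]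
    rw [← Finset.mul_sum, hg, hcq]
    have h4 : ((Sum.inr j : Fin 2 ⊕ Fin 2) = ng (Sum.inl i)) ↔ i = j := by
      show (Sum.inr j : Fin 2 ⊕ Fin 2) = Sum.inr i ↔ i = j
      constructor
      · intro h
        exact (Sum.inr.inj h).symm
      · intro h
        rw [h]
    simp only [h4]
    split_ifs <;> ring
  · rw [Matrix.mul_apply]
    simp only [Matrix.transpose_apply, Matrix.map_apply, hσ, Matrix.smul_apply, Matrix.J, Matrix.fromBlocks_apply₂₁,
      Matrix.one_apply, smul_eq_mul]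
    show ∑ x, c * C.fr (Sum.inr i) x * (C.fr (Sum.inl j) x) ^ q = c * (if i = j then 1 else 0)
    have : ∀ x, c * C.fr (Sum.inr i) x * (C.fr (Sum.inl j) x) ^ q = c * (C.fr (Sum.inr i) x * (C.fr (Sum.inl j) x) ^ q) := by
      intro x
      ring
    simp only [this]
    rw [← Finset.mul_sum, hg]
    have h4 : ((Sum.inl j : Fin 2 ⊕ Fin 2) = ng (Sum.inr i)) ↔ i = j := by
      show (Sum.inl j : Fin 2 ⊕ Fin 2) = Sum.inl i ↔ i = j
      constructor
      · intro h
        exact (Sum.inl.inj h).symm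
      · intro h
        rw [h]
    simp only [h4]
  · rw [Matrix.mul_apply]
    simp only [Matrix.transpose_apply, Matrix.map_apply, hσ, Matrix.smul_apply, Matrix.J, Matrix.fromBlocks_apply₂₂,
      Matrix.zero_apply, smul_zero]
    show ∑ x, c * C.fr (Sum.inr i) x * (c * C.fr (Sum.inr j) x) ^ q = 0
    have : ∀ x, c * C.fr (Sum.inr i) x * (c * C.fr (Sum.inr j) x) ^ q = (c * c ^ q) * (C.fr (Sum.inr i) x * (C.fr (Sum.inr j) x) ^ q) := by
      intro x
      ring
    simp only [this]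
    rw [← Finset.mul_sum, hg]
    simp [ng]

/-- M6 [M-L]  Change of basis. -/
theorem suj_iso [Fintype F] [Fintype K] (q : ℕ) (hF : Fintype.card F = q ^ 2) (D : Tw F K)
    (hσ : ∀ x, D.σ x = x ^ q) : Nonempty (↥(SUJ D.σ) ≃* ↥(Cfsg.SU 4 F q)) := by
  obtain ⟨P, Q, c, hPQ, hQP, hc, hP⟩ := su4m6_exists_PQ q hF D.σ hσ
  exact su4m6_core D.σ hσ P Q hPQ hQP c hc hP

end M

end Cfsg.Agent.Lib.Helper22.SU4
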