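import Mathlib
import Cfsg.Agent.Lib.helper17.SLP.Defs
import Cfsg.Agent.Lib.helper3.SP4.Defs
import Cfsg.Agent.Lib.Helper22.SU4.Defs
import Cfsg.Prelude.Def_Classical
import Cfsg.Agent.S0278

/-!
# Project SU4 (designer helper22), row M7 (`card_SU4`), VERBATIM (helper22)
-/

set_option autoImplicit false

namespace Cfsg.Agent.Lib.Helper22.SU4

open Cfsg.Agent.Lib.helper17.SLP Cfsg.Agent.Lib.helper3.SP4

universe u v

section M

variable {F : Type u} {K : Type u} [Field F] [Field K]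

/-- M7 [S-M]  landed `Cfsg.Agent.S0278.result hF 4`. -/
theorem card_SU4 [Fintype F] (q : ℕ) (hF : Fintype.card F = q ^ 2) :
    Nat.card (Cfsg.SU 4 F q) = (q ^ 2 - 1) * (q - 1) * ((q ^ 2) ^ 2 * q ^ 2) *
      (1 + q ^ 2 + q + 2 * (q ^ 2 * q) + (q ^ 2) ^ 2 * q + q ^ 2 * q ^ 2 + (q ^ 2) ^ 2 * q ^ 2) := by
  have h := Cfsg.Agent.S0278.result hF 4 (by norm_num)
  have hq1 : 1 ≤ q := by
    rcases Nat.eq_zero_or_pos q with h0 | h0
    · exfalso
      rw [h0] at hF
      have : 0 < Fintype.card F := Fintype.card_pos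
      omega
    · exact h0
  have hq2 : 1 ≤ q ^ 2 := Nat.one_le_pow _ _ hq1
  have hq4 : 1 ≤ q ^ 4 := Nat.one_le_pow _ _ hq1
  have e0 : Even 0 := by decide
  have e1 : ¬ Even 1 := by decide
  have e2 : Even 2 := by decide
  have e3 : ¬ Even 3 := by decide
  rw [Finset.prod_range_succ, Finset.prod_range_succ, Finset.prod_range_succ, Finset.prod_range_succ,
    Finset.prod_range_zero, if_pos e0, if_neg e1, if_pos e2, if_neg e3] at h
  norm_num at h
  apply Nat.eq_of_mul_eq_mul_left (Nat.succ_pos q)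
  rw [Nat.succ_eq_add_one, h]
  zify [hq1, hq2, hq4]
  ring

end M

end Cfsg.Agent.Lib.Helper22.SU4
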