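import Mathlib
import Cfsg.Agent.Lib.helper17.SLP.Defs
import Cfsg.Agent.Lib.helper3.SP4.Defs
import Cfsg.Agent.Lib.Helper22.SU4.Defs
import Cfsg.Prelude.Def_Classical
import Cfsg.Agent.Lib.helper2.SLPM1

/-!
# Project SU4 (designer helper22), row M8 (`center_word`), VERBATIM (helper22)
-/

set_option autoImplicit false

namespace Cfsg.Agent.Lib.Helper22.SU4

open Cfsg.Agent.Lib.helper17.SLP Cfsg.Agent.Lib.helper3.SP4

universe u v

section M

variable {F : Type u} {K : Type u} [Field F] [Field K]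

/-- the matrix of `h_a(s) h_b(r)` when `s σ(s) = 1`, `ι r = s²`, `s⁴ = 1`: the scalar `s` -/
theorem su4m8_scalar (D : Tw F K) (s : Fˣ) (r : Kˣ) (h1 : (s : F) * D.σ (s : F) = 1) (h2 : D.ι (r : K) = (s : F) ^ 2)
    (h4 : (s : F) ^ 4 = 1) :
    rhoATm D.σ (hM s).1 * rhoBTm D.ι (hM r).1 = (s : F) • (1 : Matrix (Fin 2 ⊕ Fin 2) (Fin 2 ⊕ Fin 2) F) := by
  have hs : (s : F) ≠ 0 := s.ne_zero
  have hσ : D.σ (s : F) = (s : F)⁻¹ := eq_inv_of_mul_eq_one_right h1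
  have hσi : D.σ ((s : F)⁻¹) = (s : F) := by rw [map_inv₀, hσ, inv_inv]
  have hri : D.ι ((r : K)⁻¹) = ((s : F) ^ 2)⁻¹ := by rw [map_inv₀, h2]
  have h3 : ((s : F) ^ 2)⁻¹ = (s : F) ^ 2 :=
    inv_eq_of_mul_eq_one_right (by rw [← h4]; ring)
  ext (i | i) (j | j) <;> fin_cases i <;> fin_cases j <;>
    simp [rhoATm, rhoBTm, hM, Matrix.mul_apply, Fintype.sum_sum_type, Fin.sum_univ_two, Matrix.smul_apply,
      hσ, hσi, h2, hri, h3] <;> field_simp

/-- M8 [S-M]  the central word and its order. -/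
theorem center_word [Fintype F] [Fintype K] (q : ℕ) (hF : Fintype.card F = q ^ 2) (hK : Fintype.card K = q) (D : Tw F K)
    (hσ : ∀ x, D.σ x = x ^ q) (ζ : Fˣ) (hζ : ∀ y : Fˣ, y ∈ Subgroup.zpowers ζ) (ζ₀ : Kˣ) (hn : D.nmu ζ = ζ₀) :
    rh (rhoAT D) ζ ^ ((q ^ 2 - 1) / Nat.gcd 4 (q + 1)) * rh (rhoBT D) ζ₀ ^ (2 * (q - 1) / Nat.gcd 4 (q + 1)) ∈
        Subgroup.center (SUJ D.σ) ∧
      orderOf (rh (rhoAT D) ζ ^ ((q ^ 2 - 1) / Nat.gcd 4 (q + 1)) *
        rh (rhoBT D) ζ₀ ^ (2 * (q - 1) / Nat.gcd 4 (q + 1))) = Nat.gcd 4 (q + 1) := by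
  classical
  have hq2 : 2 ≤ q := by
    rw [← hK]
    exact Fintype.one_lt_card
  obtain ⟨k, rfl⟩ : ∃ k, q = k + 2 := ⟨q - 2, by omega⟩
  have hg4 : Nat.gcd 4 (k + 2 + 1) ∣ 4 := Nat.gcd_dvd_left _ _
  have hgq : Nat.gcd 4 (k + 2 + 1) ∣ k + 2 + 1 := Nat.gcd_dvd_right _ _
  have hgpos : 0 < Nat.gcd 4 (k + 2 + 1) := Nat.gcd_pos_of_pos_left _ (by norm_num)
  generalize Nat.gcd 4 (k + 2 + 1) = g at hg4 hgq hgpos ⊢
  obtain ⟨a, ha⟩ := hgq
  obtain ⟨c, hc⟩ := hg4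
  have hapos : 0 < a := by
    rcases Nat.eq_zero_or_pos a with h0 | h0
    · rw [h0, mul_zero] at ha
      omega
    · exact h0
  have hk1 : k + 2 - 1 = k + 1 := by omega
  have hN : (k + 2) ^ 2 - 1 = g * ((k + 1) * a) := by
    have : (k + 2) ^ 2 - 1 = (k + 1) * (k + 2 + 1) := by
      have h1 : (k + 2) ^ 2 = (k + 1) * (k + 2 + 1) + 1 := by ring
      omega
    rw [this, ha]
    ring
  have hm1 : ((k + 2) ^ 2 - 1) / g = (k + 1) * a := by
    rw [hN, Nat.mul_div_cancel_left _ hgpos]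
  have h2a : c ≤ 2 * a := by
    have h1 : g * c ≤ g * (2 * a) := by
      have : g * (2 * a) = 2 * (k + 2 + 1) := by rw [ha]; ring
      rw [this, ← hc]
      omega
    exact Nat.le_of_mul_le_mul_left h1 hgpos
  have hM2 : 2 * (k + 2 - 1) = g * (2 * a - c) := by
    rw [Nat.mul_sub g (2 * a) c, ← hc]
    have : g * (2 * a) = 2 * (k + 2 + 1) := by rw [ha]; ring
    rw [this]
    omega
  have hm2 : 2 * (k + 2 - 1) / g = 2 * a - c := by
    rw [hM2, Nat.mul_div_cancel_left _ hgpos]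
  rw [hm1, hm2]
  -- the order of `ζ`
  have hord : orderOf ζ = g * ((k + 1) * a) := by
    rw [orderOf_eq_card_of_forall_mem_zpowers hζ, Nat.card_eq_fintype_card, Fintype.card_units, hF, hN]
  have hζN : ζ ^ (g * ((k + 1) * a)) = 1 := by rw [← hord]; exact pow_orderOf_eq_one ζ
  -- the norm of `ζ`
  have hιζ : D.ιu ζ₀ = ζ ^ (k + 2 + 1) := by
    apply Units.ext
    rw [← hn, D.ιu_coe, D.nmu_coe, D.hnm, hσ, Units.val_pow_eq_pow_val]
    ring
  set lam : Fˣ := ζ ^ ((k + 1) * a) with hlam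
  set mu : Kˣ := ζ₀ ^ (2 * a - c) with hmu
  have hl1 : lam ^ (k + 2 + 1) = 1 := by
    rw [hlam, ← pow_mul, ha]
    have : (k + 1) * a * (g * a) = g * ((k + 1) * a) * a := by ring
    rw [this, pow_mul, hζN, one_pow]
  have hl4 : lam ^ 4 = 1 := by
    rw [hlam, ← pow_mul, hc]
    have : (k + 1) * a * (g * c) = g * ((k + 1) * a) * c := by ring
    rw [this, pow_mul, hζN, one_pow]
  have hmu2 : D.ιu mu = lam ^ 2 := by
    rw [hmu, map_pow, hιζ, hlam, ← pow_mul, ← pow_mul]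
    congr 1
    have h1 : (k + 2 + 1) * (2 * a - c) = a * (g * (2 * a - c)) := by rw [ha]; ring
    rw [h1, ← hM2, hk1]
    ring
  have e1 : rh (rhoAT D) ζ ^ ((k + 1) * a) = rhoAT D (hM lam) := by
    unfold rh
    rw [← map_pow, slpm1_hM_pow]
  have e2 : rh (rhoBT D) ζ₀ ^ (2 * a - c) = rhoBT D (hM mu) := by
    unfold rh
    rw [← map_pow, slpm1_hM_pow]
  rw [e1, e2]
  have hZ : (((rhoAT D (hM lam) * rhoBT D (hM mu) : ↥(SUJ D.σ)) : Matrix.SpecialLinearGroup (Fin 2 ⊕ Fin 2) F) :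
      Matrix (Fin 2 ⊕ Fin 2) (Fin 2 ⊕ Fin 2) F) = (lam : F) • (1 : Matrix (Fin 2 ⊕ Fin 2) (Fin 2 ⊕ Fin 2) F) := by
    rw [Subgroup.coe_mul, Matrix.SpecialLinearGroup.coe_mul, rhoAT_coe, rhoBT_coe]
    apply su4m8_scalar
    · rw [hσ, ← pow_succ', ← Units.val_pow_eq_pow_val, show k + 2 + 1 = k + 2 + 1 from rfl, hl1, Units.val_one]
    · rw [← D.ιu_coe, hmu2, Units.val_pow_eq_pow_val]
    · rw [← Units.val_pow_eq_pow_val, hl4, Units.val_one]
  constructor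
  · rw [Subgroup.mem_center_iff]
    intro B
    apply Subtype.ext
    apply Subtype.ext
    rw [Subgroup.coe_mul, Matrix.SpecialLinearGroup.coe_mul, Subgroup.coe_mul (SUJ D.σ) _ B,
      Matrix.SpecialLinearGroup.coe_mul, hZ, Matrix.mul_smul, Matrix.smul_mul, Matrix.mul_one, Matrix.one_mul]
  · have hpow : ∀ n : ℕ, (rhoAT D (hM lam) * rhoBT D (hM mu)) ^ n = 1 ↔ lam ^ n = 1 := by
      intro n
      constructor
      · intro h
        have h1 := congrArg (fun Z : ↥(SUJ D.σ) => ((Z : Matrix.SpecialLinearGroup (Fin 2 ⊕ Fin 2) F) :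
          Matrix (Fin 2 ⊕ Fin 2) (Fin 2 ⊕ Fin 2) F) (Sum.inl 0) (Sum.inl 0)) h
        simp only [Subgroup.coe_pow, Matrix.SpecialLinearGroup.coe_pow, hZ, smul_pow, one_pow, Subgroup.coe_one,
          Matrix.SpecialLinearGroup.coe_one, Matrix.smul_apply, Matrix.one_apply_eq, smul_eq_mul, mul_one] at h1
        apply Units.ext
        rw [Units.val_pow_eq_pow_val, h1, Units.val_one]
      · intro h
        apply Subtype.ext
        apply Subtype.ext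
        rw [Subgroup.coe_pow, Matrix.SpecialLinearGroup.coe_pow, hZ, smul_pow, one_pow, ← Units.val_pow_eq_pow_val, h,
          Units.val_one, one_smul]
        rfl
    rw [orderOf_eq_orderOf_iff.mpr hpow, hlam, orderOf_pow, hord]
    have hpos : 0 < (k + 1) * a := Nat.mul_pos (Nat.succ_pos k) hapos
    rw [Nat.gcd_mul_left_left, Nat.mul_div_cancel _ hpos]

end M

end Cfsg.Agent.Lib.Helper22.SU4
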