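import Cfsg.Agent.Lib.Helper22.TOOLS1d
import Cfsg.Agent.Lib.Lead.TOOLA4
import Cfsg.Agent.Lib.helper23.TOOLG3

/-!
# Project TOO, LOCAL block, row LS1: `stabPt_of_unip` (verbatim), from the core `tools1_core`, LA4 (`alg_central_O`, lead)
and LG3 (`om_trans_pt`, helper23).
-/

set_option autoImplicit false
set_option linter.unusedSectionVars false
set_option linter.unusedVariables false

namespace Cfsg.Agent.Lib.Helper28.TOO

open Matrix
open scoped Kronecker
open Cfsg.Agent.Lib.helper7.TP Cfsg.Agent.Lib.Helper21.TS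

variable {ι : Type*} [Fintype ι] [DecidableEq ι] {a b : ℕ} {F : Type*} [Field F]
  {J1 : Matrix (Fin a) (Fin a) F} {J2 : Matrix (Fin b) (Fin b) F}
  {M : Subgroup (Matrix.GeneralLinearGroup (Fin a × Fin b) F)}

/-- LS1 [L+]. STAB(points) from UNIP. -/
theorem stabPt_of_unip [Fintype F] (C : OCtx J1 J2) (ha : 3 ≤ a) (hodd : Odd a) (hb : 5 ≤ b)
    (hex : ¬ (Fintype.card F = 3 ∧ a = 3)) (hT : T1 J1 J2 ≤ M) (hM : M ≤ OV J1 J2) (hNT : NTw J1 J2 M)
    (hU : Unip J2 M) : StabPt J2 M :=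
  tools1_core C (by omega) hb
    (fun Z h => alg_central_O C.sym1 C.two C.det1 ha hodd hex Z h)
    (fun w w' hw0 hw'0 hw hw' =>
      om_trans_pt C.sym2 C.two C.det2 (by rw [Fintype.card_fin]; omega) hw0 hw'0 hw hw')
    hT hM hU

end Cfsg.Agent.Lib.Helper28.TOO
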