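import Mathlib
import Cfsg.Agent.Lib.helper8.A7R.Defs

set_option autoImplicit false

namespace Cfsg.Agent.Lib.helper8.A7R

universe u

variable {G : Type u} [Group G]

/-- core of G2 with the extra hypothesis `orderOf g ≠ 0` (the first Skel statement, without any finiteness hypothesis,
is FALSE: `G = ℤ`, `g = 1` has `orderOf g = 0`, `p ∣ 0`, and `SelfC ℤ p` holds vacuously). -/
theorem a7rg2_core (p : ℕ) (hp : p.Prime) (h : SelfC G p) (g : G) (hg : p ∣ orderOf g)
    (h0 : orderOf g ≠ 0) : orderOf g = p := by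
  set z := g ^ (orderOf g / p) with hz
  have hzp : orderOf z = p := orderOf_pow_orderOf_div h0 hg
  have hC : Cz z = Subgroup.zpowers z := h z hzp
  have hgC : g ∈ Cz z := by
    rw [Subgroup.mem_centralizer_iff]
    intro y hy
    rw [Set.mem_singleton_iff] at hy
    subst hy
    rw [hz, ← pow_succ, ← pow_succ']
  rw [hC] at hgC
  obtain ⟨k, hk⟩ := Subgroup.mem_zpowers_iff.1 hgC
  have hzp1 : z ^ p = 1 := by rw [← hzp]; exact pow_orderOf_eq_one z
  have hgp : g ^ p = 1 := by
    rw [← hk, ← zpow_natCast, ← zpow_mul, mul_comm, zpow_mul, zpow_natCast, hzp1, one_zpow]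
  have hd : orderOf g ∣ p := orderOf_dvd_of_pow_eq_one hgp
  exact Nat.dvd_antisymm hd hg

/-- G2 for finite groups. -/
theorem a7rg2_finite [Finite G] (p : ℕ) (hp : p.Prime) (h : SelfC G p) (g : G) (hg : p ∣ orderOf g) :
    orderOf g = p :=
  a7rg2_core p hp h g hg (orderOf_pos g).ne'

end Cfsg.Agent.Lib.helper8.A7R
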