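import Mathlib
import Cfsg.Agent.Lib.helper8.A7R.Defs
import Cfsg.Agent.Lib.Helper22.A7RG2

set_option autoImplicit false

/-!
# Project A7R (S0984), row G2 (helper22): `selfc_ord`, verbatim from `helper8/A7R/SkelB.lean.txt` (the fixed statement with `[Finite G]`).
-/

namespace Cfsg.Agent.Lib.helper8.A7R

universe u

variable {G : Type u} [Group G]

/-- G2 -/
theorem selfc_ord [Finite G] (p : ℕ) (hp : p.Prime) (h : SelfC G p) (g : G) (hg : p ∣ orderOf g) : orderOf g = p :=
  a7rg2_finite p hp h g hg

end Cfsg.Agent.Lib.helper8.A7R
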