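import Mathlib
import Cfsg.Agent.Lib.helper8.A7R.Defs

set_option autoImplicit false

namespace Cfsg.Agent.Lib.helper8.A7R

theorem a7rg3_prime_dvd_lcm (p : ℕ) (hp : p.Prime) (s : Multiset ℕ) (h : p ∣ s.lcm) :
    ∃ a ∈ s, p ∣ a := by
  induction s using Multiset.induction_on with
  | empty =>
    simp at h
    exact absurd h hp.one_lt.ne'
  | cons a s ih =>
    rw [Multiset.lcm_cons] at h
    have h2 : p ∣ a * s.lcm := dvd_trans h (Nat.lcm_dvd_mul a s.lcm)
    rcases (Nat.Prime.dvd_mul hp).1 h2 with h3 | h3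
    · exact ⟨a, Multiset.mem_cons_self a s, h3⟩
    · obtain ⟨b, hb, hpb⟩ := ih h3
      exact ⟨b, Multiset.mem_cons_of_mem hb, hpb⟩

theorem a7rg3_le_sum (s : Multiset ℕ) (a : ℕ) (ha : a ∈ s) : a ≤ s.sum := by
  obtain ⟨t, rfl⟩ := Multiset.exists_cons_of_mem ha
  rw [Multiset.sum_cons]
  omega

theorem a7rg3_add_le_sum (s : Multiset ℕ) (a b : ℕ) (ha : a ∈ s) (hb : b ∈ s) (hab : a ≠ b) :
    a + b ≤ s.sum := by
  obtain ⟨t, rfl⟩ := Multiset.exists_cons_of_mem ha
  have hb' : b ∈ t := by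
    rcases Multiset.mem_cons.1 hb with h | h
    · exact absurd h.symm hab
    · exact h
  have := a7rg3_le_sum t b hb'
  rw [Multiset.sum_cons]
  omega

/-- G3 [M]: a group acting faithfully on `n` points has no element of order `p q` (`p ≠ q` primes) unless `p + q ≤ n`
(the cyclic group `⟨g⟩` of order `pq` acts faithfully: its orbits have sizes in `{1, p, q, pq}` and the lcm of the sizes is `pq`, so there is an
orbit of size `pq`, or one of size `p` and one of size `q`). -/
theorem order_pq_degree {α : Type} [Fintype α] [DecidableEq α] (σ : Equiv.Perm α) (p q : ℕ) (hp : p.Prime) (hq : q.Prime)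
    (hpq : p ≠ q) (hσ : orderOf σ = p * q) : p + q ≤ Fintype.card α := by
  have hl : σ.cycleType.lcm = p * q := by rw [Equiv.Perm.lcm_cycleType, hσ]
  have hsum : σ.cycleType.sum ≤ Fintype.card α := by
    rw [Equiv.Perm.sum_cycleType]
    exact Finset.card_le_univ _
  obtain ⟨a, ha, hpa⟩ := a7rg3_prime_dvd_lcm p hp σ.cycleType (by rw [hl]; exact dvd_mul_right p q)
  obtain ⟨b, hb, hqb⟩ := a7rg3_prime_dvd_lcm q hq σ.cycleType (by rw [hl]; exact dvd_mul_left q p)
  have ha2 : 2 ≤ a := Equiv.Perm.two_le_of_mem_cycleType ha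
  have hb2 : 2 ≤ b := Equiv.Perm.two_le_of_mem_cycleType hb
  have hp2 := hp.two_le
  have hq2 := hq.two_le
  by_cases hab : a = b
  · subst hab
    have hcop : Nat.Coprime p q := (Nat.coprime_primes hp hq).2 hpq
    have hd : p * q ∣ a := Nat.Coprime.mul_dvd_of_dvd_of_dvd hcop hpa hqb
    have h1 : p * q ≤ a := Nat.le_of_dvd (by omega) hd
    have h2 : a ≤ σ.cycleType.sum := a7rg3_le_sum _ a ha
    have h3 : p + q ≤ p * q := by nlinarith
    omega
  · have h1 : p ≤ a := Nat.le_of_dvd (by omega) hpa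
    have h2 : q ≤ b := Nat.le_of_dvd (by omega) hqb
    have h3 := a7rg3_add_le_sum _ a b ha hb hab
    omega

end Cfsg.Agent.Lib.helper8.A7R
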