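import Mathlib
import Cfsg.Agent.Lib.Helper24.APF.Defs
import Cfsg.Agent.Lib.Helper29.APFLOC0
import Cfsg.Agent.Lib.Helper29.APFLOCa
import Cfsg.Agent.Lib.Helper1.APFLOCb1

set_option autoImplicit false

namespace Cfsg.Agent.Lib.Helper24.APF

open Equiv

/-- cycle type is invariant under transport along an equivalence -/
theorem h22_cycleType_permCongr {β γ : Type*} [Fintype β] [DecidableEq β] [Fintype γ]
    [DecidableEq γ] (e : β ≃ γ) (g : Perm β) :
    (e.permCongr g).cycleType = g.cycleType := by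
  classical
  let f : β ≃ Subtype (fun _ : γ => True) :=
    e.trans (Equiv.subtypeUnivEquiv (fun _ => trivial)).symm
  have h1 : g.extendDomain f = e.permCongr g := by
    ext x
    have hx : x = (f (e.symm x) : γ) := by simp [f]
    rw [hx, Equiv.Perm.extendDomain_apply_image]
    simp [f]
  rw [← h1, Equiv.Perm.cycleType_extendDomain]

/-- the transport equivalence `Fin N ⊕ Fin (n - N) ≃ Fin n` -/
noncomputable def h22_split {n N : ℕ} (h : N ≤ n) : Fin N ⊕ Fin (n - N) ≃ Fin n :=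
  finSumFinEquiv.trans (finCongr (by omega))

/-- common core: realise `U` as a conjugate of a transported `sumCongr u u₂` -/
theorem h22_exists_model {n : ℕ} (U : Perm (Fin n)) (N : ℕ) (u : Perm (Fin N))
    (hA : u.cycleType ≤ U.cycleType) (hU : N + (U.cycleType - u.cycleType).sum ≤ n) :
    ∃ (u₂ : Perm (Fin (n - N))) (a : Perm (Fin n)),
      a * (h22_split (n := n) (N := N) (by omega)).permCongr (Equiv.Perm.sumCongr u u₂) * a⁻¹ = U := by
  classical
  have hN : N ≤ n := by omega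
  obtain ⟨u₂, hu₂⟩ : ∃ g : Perm (Fin (n - N)), g.cycleType = U.cycleType - u.cycleType := by
    rw [Equiv.Perm.exists_with_cycleType_iff]
    refine ⟨by simp only [Fintype.card_fin]; omega, fun x hx => ?_⟩
    exact Equiv.Perm.two_le_of_mem_cycleType
      (Multiset.mem_of_le (Multiset.sub_le_self _ _) hx)
  have hct : ((h22_split (n := n) (N := N) hN).permCongr
      (Equiv.Perm.sumCongr u u₂)).cycleType = U.cycleType := by
    rw [h22_cycleType_permCongr, cycleType_sumCongr, hu₂, add_tsub_cancel_of_le hA]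
  have hconj := (Equiv.Perm.isConj_iff_cycleType_eq).2 hct
  obtain ⟨a, ha⟩ := isConj_iff.1 hconj
  exact ⟨u₂, a, ha⟩

theorem good_of_cfg {n : ℕ} (p : ℕ) (hp : p.Prime) (U W : Perm (Fin n)) (A B : Multiset ℕ)
    (N : ℕ) (h : Cfg p A B N) (hA : A ≤ U.cycleType) (hB : B ≤ W.cycleType)
    (hU : N + (U.cycleType - A).sum ≤ n) (hW : N + (W.cycleType - B).sum ≤ n) :
    ∃ g : Perm (Fin n), Good p U (g * W * g⁻¹) := by
  classical
  obtain ⟨u, w, hu, hw, hgood⟩ := h
  subst hu hw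
  have hN : N ≤ n := by omega
  obtain ⟨u₂, a, ha⟩ := h22_exists_model U N u hA hU
  obtain ⟨w₂, b, hb⟩ := h22_exists_model W N w hB hW
  have h1 : Good p (Equiv.Perm.sumCongr u u₂) (Equiv.Perm.sumCongr w w₂) :=
    good_sumCongr p hp u w u₂ w₂ hgood
  have h2 := good_permCongr p (h22_split (n := n) (N := N) hN) _ _ h1
  have h3 := good_conj p a _ _ h2
  rw [ha] at h3
  refine ⟨a * b⁻¹, ?_⟩
  have : a * b⁻¹ * W * (a * b⁻¹)⁻¹ =
      a * (h22_split (n := n) (N := N) hN).permCongr (Equiv.Perm.sumCongr w w₂) * a⁻¹ := by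
    rw [← hb]; group
  rw [this]
  exact h3

theorem good_of_cfg2 {n : ℕ} (p : ℕ) (hp : p.Prime) (U W : Perm (Fin n)) (A B : Multiset ℕ)
    (N : ℕ) (h : Cfg2 p A B N) (hA : A ≤ U.cycleType) (hB : B ≤ W.cycleType)
    (hU : N + (U.cycleType - A).sum ≤ n) (hW : N + (W.cycleType - B).sum ≤ n) :
    ∃ g : Perm (Fin n), Perm.sign g = 1 ∧ Good p U (g * W * g⁻¹) := by
  classical
  obtain ⟨u, w, d, hu, hw, hd, hgood, hgood'⟩ := h
  subst hu hw
  have hN : N ≤ n := by omega
  obtain ⟨u₂, a, ha⟩ := h22_exists_model U N u hA hU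
  obtain ⟨w₂, b, hb⟩ := h22_exists_model W N w hB hW
  set e := h22_split (n := n) (N := N) hN with he
  -- first candidate
  have h1 : Good p (Equiv.Perm.sumCongr u u₂) (Equiv.Perm.sumCongr w w₂) :=
    good_sumCongr p hp u w u₂ w₂ hgood
  have h2 := good_permCongr p e _ _ h1
  have h3 := good_conj p a _ _ h2
  rw [ha] at h3
  have e1 : a * b⁻¹ * W * (a * b⁻¹)⁻¹ =
      a * e.permCongr (Equiv.Perm.sumCongr w w₂) * a⁻¹ := by
    rw [← hb]; group
  -- second candidate
  have h1' : Good p (Equiv.Perm.sumCongr u u₂) (Equiv.Perm.sumCongr (d * w * d⁻¹) w₂) :=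
    good_sumCongr p hp u (d * w * d⁻¹) u₂ w₂ hgood'
  have h2' := good_permCongr p e _ _ h1'
  have h3' := good_conj p a _ _ h2'
  rw [ha] at h3'
  set d' : Perm (Fin n) := e.permCongr (Equiv.Perm.sumCongr d (1 : Perm (Fin (n - N)))) with hd'
  have hsd : Perm.sign d' = -1 := by
    rw [hd', Equiv.Perm.sign_permCongr, Equiv.Perm.sign_sumCongr, hd]; simp
  have hsc : Equiv.Perm.sumCongr (d * w * d⁻¹) w₂ =
      Equiv.Perm.sumCongr d (1 : Perm (Fin (n - N))) * Equiv.Perm.sumCongr w w₂ *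
        (Equiv.Perm.sumCongr d (1 : Perm (Fin (n - N))))⁻¹ := by
    rw [Equiv.Perm.sumCongr_inv, Equiv.Perm.sumCongr_mul, Equiv.Perm.sumCongr_mul]
    simp
  have hpc : e.permCongr (Equiv.Perm.sumCongr (d * w * d⁻¹) w₂) =
      d' * e.permCongr (Equiv.Perm.sumCongr w w₂) * d'⁻¹ := by
    rw [hsc, hd']
    have hmul := fun f g : Perm (Fin N ⊕ Fin (n - N)) => map_mul e.permCongrHom f g
    have hinv := fun f : Perm (Fin N ⊕ Fin (n - N)) => map_inv e.permCongrHom f
    simp only [Equiv.permCongrHom_coe] at hmul hinv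
    rw [hmul, hmul, hinv]
  have e2 : a * d' * b⁻¹ * W * (a * d' * b⁻¹)⁻¹ =
      a * e.permCongr (Equiv.Perm.sumCongr (d * w * d⁻¹) w₂) * a⁻¹ := by
    rw [hpc, ← hb]; group
  rcases Int.units_eq_one_or (Perm.sign (a * b⁻¹)) with hs | hs
  · exact ⟨a * b⁻¹, hs, by rw [e1]; exact h3⟩
  · refine ⟨a * d' * b⁻¹, ?_, by rw [e2]; exact h3'⟩
    have : Perm.sign (a * d' * b⁻¹) = Perm.sign (a * b⁻¹) * Perm.sign d' := by
      simp only [Equiv.Perm.sign_mul, Equiv.Perm.sign_inv]
      rw [mul_right_comm]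
    rw [this, hs, hsd]; simp

end Cfsg.Agent.Lib.Helper24.APF
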