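import Mathlib
import Cfsg.Prelude.Def_GeometricClasses
import Cfsg.Agent.Lib.Helper27.ASC.Defs
import Cfsg.Agent.Lib.helper23.ASCO.Defs
import Cfsg.Agent.Lib.Helper19.ASG.Defs
import Cfsg.Agent.Lib.Helper1.ASGCLIF3
import Cfsg.Agent.Lib.Lead.Reindex
import Cfsg.Agent.Lib.Helper25.ASO.Defs
import Cfsg.Agent.Lib.Helper10.ASGCWR

set_option autoImplicit false
set_option linter.unusedVariables false
set_option linter.unusedSectionVars false

/-!
# Project ASO (leader: helper25), piece CPOW : `tensorForm_pow` (helper22)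

Equal dimensions and similar factors: a tensor power form structure with `t = 2`.
-/

namespace Cfsg.Agent.Lib.Helper25.ASO

open Cfsg Cfsg.Geo Cfsg.Agent.Lib.Helper27.ASC Cfsg.Agent.Lib.helper23.ASCO Cfsg.Agent.Lib.Helper19.ASG
open scoped MatrixGroups Matrix Kronecker

variable {n : ℕ} {F : Type*} [Field F] [Fintype F]

section bil

variable {κ : Type} {f : (κ → F) → (κ → F) → F}

omit [Fintype F] in
theorem asocpow_zero_left (hf : IsBilinearForm f) (v : κ → F) : f 0 v = 0 := by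
  have := hf.smul_left 0 0 v
  simpa using this

omit [Fintype F] in
theorem asocpow_zero_right (hf : IsBilinearForm f) (v : κ → F) : f v 0 = 0 := by
  have := hf.smul_right 0 v 0
  simpa using this

omit [Fintype F] in
theorem asocpow_sum_left (hf : IsBilinearForm f) {J : Type*} (s : Finset J)
    (g : J → (κ → F)) (v : κ → F) : f (∑ i ∈ s, g i) v = ∑ i ∈ s, f (g i) v := by
  classical
  induction s using Finset.induction_on with
  | empty => simp [asocpow_zero_left hf]
  | insert a s ha ih => rw [Finset.sum_insert ha, Finset.sum_insert ha, hf.add_left, ih]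

omit [Fintype F] in
theorem asocpow_sum_right (hf : IsBilinearForm f) {J : Type*} (s : Finset J)
    (g : J → (κ → F)) (v : κ → F) : f v (∑ i ∈ s, g i) = ∑ i ∈ s, f v (g i) := by
  classical
  induction s using Finset.induction_on with
  | empty => simp [asocpow_zero_right hf]
  | insert a s ha ih => rw [Finset.sum_insert ha, Finset.sum_insert ha, hf.add_right, ih]

omit [Fintype F] in
/-- The form with Gram matrix `G` (`σ = id`) is `x ⬝ᵥ G *ᵥ y`. -/
theorem asocpow_formOfGram [Fintype κ] (G : Matrix κ κ F) (x y : κ → F) :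
    formOfGram id G x y = x ⬝ᵥ (G *ᵥ y) := by
  unfold formOfGram
  simp only [dotProduct, Matrix.mulVec, id, Finset.mul_sum, mul_assoc]

omit [Fintype F] in
/-- A bilinear form is given by its Gram matrix. -/
theorem asocpow_gram [Fintype κ] [DecidableEq κ] (hf : IsBilinearForm f) (x y : κ → F) :
    f x y = x ⬝ᵥ (gramMatrix f *ᵥ y) := by
  rw [← asocpow_formOfGram]
  unfold formOfGram
  conv_lhs => rw [pi_eq_sum_univ' x, pi_eq_sum_univ' y]
  rw [asocpow_sum_left hf]
  refine Finset.sum_congr rfl fun a _ => ?_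
  rw [hf.smul_left, asocpow_sum_right hf, Finset.mul_sum]
  refine Finset.sum_congr rfl fun b _ => ?_
  rw [hf.smul_right]
  unfold gramMatrix
  simp only [id]
  ring

omit [Fintype F] in
/-- `(S u) ⬝ᵥ G (S v) = u ⬝ᵥ (Sᵀ G S) v`. -/
theorem asocpow_dot [Fintype κ] (S G : Matrix κ κ F) (u v : κ → F) :
    (S *ᵥ u) ⬝ᵥ (G *ᵥ (S *ᵥ v)) = u ⬝ᵥ ((S.transpose * G * S) *ᵥ v) := by
  rw [← Matrix.mulVec_mulVec, ← Matrix.mulVec_mulVec, Matrix.mulVec_transpose, dotProduct_comm u,
    ← Matrix.dotProduct_mulVec, dotProduct_comm]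

end bil

omit [Fintype F] in
/-- A similitude relation between two bilinear forms, on the Gram matrices. -/
theorem asocpow_gram_sim {k : ℕ} (f₁ f₂ : (Fin k → F) → (Fin k → F) → F) (hf₁ : IsBilinearForm f₁)
    (hf₂ : IsBilinearForm f₂) (S : Matrix (Fin k) (Fin k) F) (μ : F)
    (hS : ∀ u v : Fin k → F, f₂ (S *ᵥ u) (S *ᵥ v) = μ * f₁ u v) :
    S.transpose * gramMatrix f₂ * S = μ • gramMatrix f₁ := by
  ext a b
  have h := hS (Pi.single a 1) (Pi.single b 1)
  rw [asocpow_gram hf₂, asocpow_dot] at h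
  rw [Matrix.smul_apply, smul_eq_mul]
  have h1 : gramMatrix f₁ a b = f₁ (Pi.single a 1) (Pi.single b 1) := rfl
  rw [h1, ← h]
  simp

omit [Fintype F] in
/-- The sum over `Fin 2 → Fin k` defining a tensor square form is the form with Gram matrix `G ⊗ G`. -/
theorem asocpow_sum_two {k : ℕ} (G : Matrix (Fin k) (Fin k) F) (x y : (Fin 2 → Fin k) → F) :
    ∑ a, ∑ b, x a * (∏ i, G (a i) (b i)) * id (y b) =
      formOfGram id (G ⊗ₖ G) (x ∘ (finTwoArrowEquiv (Fin k)).symm) (y ∘ (finTwoArrowEquiv (Fin k)).symm) := by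
  unfold formOfGram
  rw [← Equiv.sum_comp (finTwoArrowEquiv (Fin k))]
  refine Finset.sum_congr rfl fun a _ => ?_
  rw [← Equiv.sum_comp (finTwoArrowEquiv (Fin k))]
  refine Finset.sum_congr rfl fun b _ => ?_
  rw [Function.comp_apply, Function.comp_apply, Equiv.symm_apply_apply, Equiv.symm_apply_apply,
    Fin.prod_univ_two, Matrix.kroneckerMap_apply]
  rfl

omit [Fintype F] in
/-- Changing the base point `P` by a reindexed Kronecker element does not change the tensor product subgroup. -/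
theorem asocpow_tps_le {n₁ n₂ : ℕ} (e : Fin n ≃ Fin n₁ × Fin n₂) (P : GL (Fin n) F)
    (s : GL (Fin n₁ × Fin n₂) F) (hs : s ∈ kroneckerSubgroup n₁ n₂ F) :
    tensorProductSubgroup n₁ n₂ e P ≤ tensorProductSubgroup n₁ n₂ e (P * glReindex e.symm s) := by
  intro g hg
  unfold tensorProductSubgroup at hg ⊢
  obtain ⟨y, hy, rfl⟩ := hg
  obtain ⟨x, hx, rfl⟩ := hy
  refine ⟨glReindex e.symm (s⁻¹ * x * s),
    ⟨s⁻¹ * x * s, (kroneckerSubgroup n₁ n₂ F).mul_mem ((kroneckerSubgroup n₁ n₂ F).mul_mem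
      ((kroneckerSubgroup n₁ n₂ F).inv_mem hs) hx) hs, rfl⟩, ?_⟩
  show (P * glReindex e.symm s) * glReindex e.symm (s⁻¹ * x * s) * (P * glReindex e.symm s)⁻¹ =
    P * glReindex e.symm x * P⁻¹
  rw [map_mul, map_mul, map_inv]
  group

/-- CPOW : equal dimensions and similar factors: a tensor power structure with `t = 2`.
`P' = P * R(1 ⊗ S)` (`R = glReindex e.symm`): `f (P' (x ∘ e)) (P' (y ∘ e)) = c xᵀ (G₁ ⊗ Sᵀ G₂ S) y = c μ xᵀ (G₁ ⊗ G₁) y`;
`R(1 ⊗ S)` lies in the reindexed Kronecker subgroup, so `tensorProductSubgroup k k e P' = tensorProductSubgroup k k e P`;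
then ASG C-WR `tensor_le_wreath` (`Helper10.ASGCWR`); the sum over `Fin 2 → Fin k` is the sum over `Fin k × Fin k`
(`finTwoArrowEquiv`, `Fin.prod_univ_two`). -/
theorem tensorForm_pow {k : ℕ} (f : (Fin n → F) → (Fin n → F) → F) (e : Fin n ≃ Fin k × Fin k) (P : GL (Fin n) F)
    (f₁ f₂ : (Fin k → F) → (Fin k → F) → F) (hf₁ : IsSymmetricForm f₁) (hf₂ : IsSymmetricForm f₂)
    (hT : IsTensorFormStructure id f f₁ f₂ e P) (S : GL (Fin k) F) (μ : F) (hμ : μ ≠ 0)
    (hS : ∀ u v : Fin k → F,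
      f₂ ((S : Matrix (Fin k) (Fin k) F) *ᵥ u) ((S : Matrix (Fin k) (Fin k) F) *ᵥ v) = μ * f₁ u v) :
    ∃ P' : GL (Fin n) F,
      IsTensorPowerFormStructure id f f₁ (e.trans (finTwoArrowEquiv (Fin k)).symm) P' ∧
      tensorProductSubgroup k k e P ≤ tensorWreathSubgroup k 2 (e.trans (finTwoArrowEquiv (Fin k)).symm) P' := by
  classical
  obtain ⟨c, hc, h⟩ := hT
  -- the Kronecker element `1 ⊗ S`
  let s : GL (Fin k × Fin k) F :=
    ⟨(1 : Matrix (Fin k) (Fin k) F) ⊗ₖ (S : Matrix (Fin k) (Fin k) F),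
      (1 : Matrix (Fin k) (Fin k) F) ⊗ₖ ((S⁻¹ : GL (Fin k) F) : Matrix (Fin k) (Fin k) F),
      by rw [← Matrix.mul_kronecker_mul, mul_one, ← Units.val_mul, mul_inv_cancel, Units.val_one,
        Matrix.one_kronecker_one],
      by rw [← Matrix.mul_kronecker_mul, mul_one, ← Units.val_mul, inv_mul_cancel, Units.val_one,
        Matrix.one_kronecker_one]⟩
  have hsval : (s : Matrix (Fin k × Fin k) (Fin k × Fin k) F) =
      (1 : Matrix (Fin k) (Fin k) F) ⊗ₖ (S : Matrix (Fin k) (Fin k) F) := rfl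
  have hs : s ∈ kroneckerSubgroup k k F := ⟨1, S, by rw [hsval, Units.val_one]⟩
  refine ⟨P * glReindex e.symm s, ⟨c * μ, mul_ne_zero hc hμ, fun x y => ?_⟩,
    (asocpow_tps_le e P s hs).trans (tensor_le_wreath e _)⟩
  -- the vectors
  have hvec : ∀ z : (Fin 2 → Fin k) → F,
      ((P * glReindex e.symm s : GL (Fin n) F) : Matrix (Fin n) (Fin n) F) *ᵥ
          (z ∘ ⇑(e.trans (finTwoArrowEquiv (Fin k)).symm)) =
        (P : Matrix (Fin n) (Fin n) F) *ᵥ
          (((s : Matrix (Fin k × Fin k) (Fin k × Fin k) F) *ᵥ (z ∘ (finTwoArrowEquiv (Fin k)).symm)) ∘ e) := by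
    intro z
    rw [Units.val_mul, ← Matrix.mulVec_mulVec]
    congr 1
    have hR : ((glReindex e.symm s : GL (Fin n) F) : Matrix (Fin n) (Fin n) F) =
        (s : Matrix (Fin k × Fin k) (Fin k × Fin k) F).submatrix e e := rfl
    have hz : (z ∘ ⇑(e.trans (finTwoArrowEquiv (Fin k)).symm)) ∘ ⇑e.symm = z ∘ ⇑(finTwoArrowEquiv (Fin k)).symm := by
      ext p
      simp
    rw [hR, Matrix.submatrix_mulVec_equiv, hz]
  rw [hvec x, hvec y, h, asocpow_sum_two, asocpow_formOfGram, asocpow_formOfGram, asocpow_dot, hsval,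
    ← Matrix.kroneckerMap_transpose, ← Matrix.mul_kronecker_mul, ← Matrix.mul_kronecker_mul,
    Matrix.transpose_one, one_mul, mul_one,
    asocpow_gram_sim f₁ f₂ hf₁.bilinear hf₂.bilinear (S : Matrix (Fin k) (Fin k) F) μ hS,
    Matrix.kronecker_smul, Matrix.smul_mulVec, dotProduct_smul, smul_eq_mul, mul_assoc]

end Cfsg.Agent.Lib.Helper25.ASO
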