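import Mathlib
import Cfsg.Prelude.Def_GeometricClasses
import Cfsg.Agent.Lib.Helper27.ASC.Defs
import Cfsg.Agent.Lib.helper23.ASCO.Defs
import Cfsg.Agent.Lib.Helper19.ASG.Defs
import Cfsg.Agent.Lib.Helper1.ASGCLIF3
import Cfsg.Agent.Lib.Lead.Reindex
import Cfsg.Agent.Lib.Helper25.ASO.Defs
import Cfsg.Agent.Lib.Helper16.QuadClass

set_option autoImplicit false
set_option linter.unusedVariables false
set_option linter.unusedSectionVars false
set_option linter.style.haveILetI false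

/-!
# Project ASO, piece SIM : symmetric forms of the same odd dimension over a finite field of odd order are similar
-/

namespace Cfsg.Agent.Lib.Helper25.ASO

open Cfsg Cfsg.Geo Cfsg.Agent.Lib.Helper27.ASC Cfsg.Agent.Lib.helper23.ASCO Cfsg.Agent.Lib.Helper19.ASG
open scoped MatrixGroups Matrix Kronecker

variable {n : ℕ} {F : Type*} [Field F] [Fintype F]

/-- the Mathlib bilinear form of a bilinear form in the sense of the Prelude -/
noncomputable def asosimB {k : ℕ} (f : (Fin k → F) → (Fin k → F) → F) (hf : IsBilinearForm f) :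
    LinearMap.BilinForm F (Fin k → F) :=
  LinearMap.mk₂ F f hf.add_left hf.smul_left hf.add_right hf.smul_right

theorem asosimB_apply {k : ℕ} (f : (Fin k → F) → (Fin k → F) → F) (hf : IsBilinearForm f)
    (u v : Fin k → F) : asosimB f hf u v = f u v := rfl

/-- the quadratic form `v ↦ f v v / 2` -/
noncomputable def asosimQ {k : ℕ} (f : (Fin k → F) → (Fin k → F) → F) (hf : IsBilinearForm f) :
    QuadraticForm F (Fin k → F) :=
  LinearMap.BilinMap.toQuadraticMap ((2 : F)⁻¹ • asosimB f hf)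

theorem asosimQ_apply {k : ℕ} (f : (Fin k → F) → (Fin k → F) → F) (hf : IsBilinearForm f)
    (v : Fin k → F) : asosimQ f hf v = (2 : F)⁻¹ * f v v := by
  unfold asosimQ
  rw [LinearMap.BilinMap.toQuadraticMap_apply]
  rfl

theorem asosim_polar {k : ℕ} (h2 : (2 : F) ≠ 0) (f : (Fin k → F) → (Fin k → F) → F)
    (hf : IsSymmetricForm f) (u v : Fin k → F) :
    QuadraticMap.polar (⇑(asosimQ f hf.bilinear)) u v = f u v := by
  unfold QuadraticMap.polar
  rw [asosimQ_apply, asosimQ_apply, asosimQ_apply, hf.bilinear.add_left, hf.bilinear.add_right,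
    hf.bilinear.add_right, hf.symm v u]
  field_simp
  ring

theorem asosim_nondeg {k : ℕ} (h2 : (2 : F) ≠ 0) (f : (Fin k → F) → (Fin k → F) → F)
    (hf : IsSymmetricForm f) : (QuadraticMap.polarBilin (asosimQ f hf.bilinear)).Nondegenerate := by
  have key : ∀ v : Fin k → F,
      (∀ u, QuadraticMap.polarBilin (asosimQ f hf.bilinear) v u = 0) → v = 0 := by
    intro v hv
    by_contra hne
    obtain ⟨x, hx⟩ := (hf.nondegenerate v hne).2
    apply hx
    have := hv x
    rw [QuadraticMap.polarBilin_apply_apply, asosim_polar h2 f hf] at this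
    exact this
  refine ⟨key, ?_⟩
  intro v hv
  apply key v
  intro u
  have := hv u
  rw [QuadraticMap.polarBilin_apply_apply, QuadraticMap.polar_comm] at this
  rw [QuadraticMap.polarBilin_apply_apply]
  exact this

/-- `2 ≠ 0` in a finite field of odd order -/
theorem asosim_two_ne_zero (hF : Odd (Fintype.card F)) : (2 : F) ≠ 0 := by
  intro h2
  have h1 : ringChar F = 2 := CharP.ringChar_of_prime_eq_zero Nat.prime_two (by exact_mod_cast h2)
  have h3 := FiniteField.even_card_of_char_two h1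
  rcases hF with ⟨m, hm⟩
  omega

/-- SIM : over a finite field of odd order, two non-degenerate symmetric bilinear forms in the same odd dimension are
similar. -/
theorem symm_similar (hF : Odd (Fintype.card F)) {k : ℕ} (hk : Odd k)
    (f₁ f₂ : (Fin k → F) → (Fin k → F) → F) (hf₁ : IsSymmetricForm f₁) (hf₂ : IsSymmetricForm f₂) :
    ∃ (S : GL (Fin k) F) (μ : F), μ ≠ 0 ∧
      ∀ u v : Fin k → F, f₂ ((S : Matrix (Fin k) (Fin k) F) *ᵥ u) ((S : Matrix (Fin k) (Fin k) F) *ᵥ v) = μ * f₁ u v := by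
  classical
  have h2 := asosim_two_ne_zero hF
  obtain ⟨m, rfl⟩ := hk
  set Q₁ := asosimQ f₁ hf₁.bilinear with hQ₁
  set Q₂ := asosimQ f₂ hf₂.bilinear with hQ₂
  have hn₁ := asosim_nondeg h2 f₁ hf₁
  have hn₂ := asosim_nondeg h2 f₂ hf₂
  set D₁ := (LinearMap.BilinForm.toMatrix' (QuadraticMap.polarBilin Q₁)).det with hD₁
  set D₂ := (LinearMap.BilinForm.toMatrix' (QuadraticMap.polarBilin Q₂)).det with hD₂
  have hD₁0 : D₁ ≠ 0 :=
    (Matrix.nondegenerate_iff_det_ne_zero).mp (LinearMap.BilinForm.Nondegenerate.toMatrix' hn₁)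
  have hD₂0 : D₂ ≠ 0 :=
    (Matrix.nondegenerate_iff_det_ne_zero).mp (LinearMap.BilinForm.Nondegenerate.toMatrix' hn₂)
  -- the scalar
  set μ : F := D₁ * D₂ with hμ
  have hμ0 : μ ≠ 0 := mul_ne_zero hD₁0 hD₂0
  -- the scaled form
  have hpolar : QuadraticMap.polarBilin (μ • Q₁) = μ • QuadraticMap.polarBilin Q₁ := by
    ext u v
    simp [QuadraticMap.polar_smul]
  have hnμ : (QuadraticMap.polarBilin (μ • Q₁)).Nondegenerate := by
    rw [hpolar]
    refine ⟨fun x hx => hn₁.1 x (fun y => ?_), fun y hy => hn₁.2 y (fun x => ?_)⟩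
    · have := hx y
      rw [LinearMap.smul_apply, LinearMap.smul_apply, smul_eq_mul] at this
      exact (mul_eq_zero.mp this).resolve_left hμ0
    · have := hy x
      rw [LinearMap.smul_apply, LinearMap.smul_apply, smul_eq_mul] at this
      exact (mul_eq_zero.mp this).resolve_left hμ0
  have hdet : (LinearMap.BilinForm.toMatrix' (QuadraticMap.polarBilin (μ • Q₁))).det =
      μ ^ (2 * m + 1) * D₁ := by
    rw [hpolar, map_smul, Matrix.det_smul, Fintype.card_fin]
  have hsq : IsSquare ((LinearMap.BilinForm.toMatrix' (QuadraticMap.polarBilin (μ • Q₁))).det *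
      (LinearMap.BilinForm.toMatrix' (QuadraticMap.polarBilin Q₂)).det) := by
    rw [hdet]
    refine ⟨μ ^ m * μ, ?_⟩
    rw [← hD₂]
    have : μ ^ (2 * m + 1) * D₁ * D₂ = μ ^ (2 * m + 1) * μ := by rw [hμ]; ring
    rw [this]
    ring
  obtain ⟨g, hg⟩ := Cfsg.Agent.Lib.Helper16.backward h2 (μ • Q₁) Q₂ hnμ hn₂ hsq
  -- polarise
  have hgp : ∀ u v : Fin (2 * m + 1) → F, f₂ (g u) (g v) = μ * f₁ u v := by
    intro u v
    have e1 : QuadraticMap.polar (⇑Q₂) (g u) (g v) = QuadraticMap.polar (⇑(μ • Q₁)) u v := by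
      unfold QuadraticMap.polar
      rw [← map_add, hg, hg, hg]
    rw [asosim_polar h2 f₂ hf₂] at e1
    rw [e1, FunLike.coe_smul, QuadraticMap.polar_smul, asosim_polar h2 f₁ hf₁, smul_eq_mul]
  -- the matrix of `g`
  have hM1 : LinearMap.toMatrix' (g : (Fin (2 * m + 1) → F) →ₗ[F] (Fin (2 * m + 1) → F)) *
      LinearMap.toMatrix' (g.symm : (Fin (2 * m + 1) → F) →ₗ[F] (Fin (2 * m + 1) → F)) = 1 := by
    rw [← LinearMap.toMatrix'_comp]
    have : (g : (Fin (2 * m + 1) → F) →ₗ[F] (Fin (2 * m + 1) → F)) ∘ₗ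
        (g.symm : (Fin (2 * m + 1) → F) →ₗ[F] (Fin (2 * m + 1) → F)) = LinearMap.id := by
      ext x
      simp
    rw [this, LinearMap.toMatrix'_id]
  have hM2 : LinearMap.toMatrix' (g.symm : (Fin (2 * m + 1) → F) →ₗ[F] (Fin (2 * m + 1) → F)) *
      LinearMap.toMatrix' (g : (Fin (2 * m + 1) → F) →ₗ[F] (Fin (2 * m + 1) → F)) = 1 := by
    rw [← LinearMap.toMatrix'_comp]
    have : (g.symm : (Fin (2 * m + 1) → F) →ₗ[F] (Fin (2 * m + 1) → F)) ∘ₗ
        (g : (Fin (2 * m + 1) → F) →ₗ[F] (Fin (2 * m + 1) → F)) = LinearMap.id := by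
      ext x
      simp
    rw [this, LinearMap.toMatrix'_id]
  refine ⟨⟨LinearMap.toMatrix' (g : (Fin (2 * m + 1) → F) →ₗ[F] (Fin (2 * m + 1) → F)),
    LinearMap.toMatrix' (g.symm : (Fin (2 * m + 1) → F) →ₗ[F] (Fin (2 * m + 1) → F)), hM1, hM2⟩,
    μ, hμ0, ?_⟩
  intro u v
  show f₂ (LinearMap.toMatrix' (g : (Fin (2 * m + 1) → F) →ₗ[F] (Fin (2 * m + 1) → F)) *ᵥ u)
    (LinearMap.toMatrix' (g : (Fin (2 * m + 1) → F) →ₗ[F] (Fin (2 * m + 1) → F)) *ᵥ v) = μ * f₁ u v
  rw [LinearMap.toMatrix'_mulVec, LinearMap.toMatrix'_mulVec]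
  exact hgp u v

end Cfsg.Agent.Lib.Helper25.ASO
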