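import Mathlib
import Cfsg.Prelude.Def_GeometricClasses
import Cfsg.Agent.Lib.Helper27.ASC.Defs
import Cfsg.Agent.Lib.Helper19.ASG.Defs
import Cfsg.Agent.Lib.Helper26.ASGD1.Defs
import Cfsg.Agent.Lib.Helper19.ASU.Defs
import Cfsg.Agent.Lib.Helper19.ASUADJ
import Cfsg.Agent.Lib.Helper26.ASUC.Defs
import Cfsg.Agent.Lib.Helper19.ASU33Defs

set_option autoImplicit false
set_option linter.unusedVariables false
set_option linter.unusedSectionVars false

/-!
# Project ASU, block C, case C-33, piece 33-IRR (helper22) : `X ⊗ 1, Y ⊗ 1, 1 ⊗ X, 1 ⊗ Y` act absolutely irreducibly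

`u33_absIrr`, verbatim vs `Helper19/ASU/Skel33.lean.txt`.
-/

namespace Cfsg.Agent.Lib.Helper19.ASU

open Cfsg Cfsg.Geo Cfsg.Agent.Lib.Helper27.ASC Cfsg.Agent.Lib.Helper19.ASG
open scoped MatrixGroups Matrix Kronecker

variable {n : ℕ} {F : Type*} [Field F]

/-- the eigenvalues `1, ω, ω²` of `X` -/
def asuc33irr_x (ω : F) : Fin 3 → F := ![1, ω, ω ^ 2]

theorem asuc33irr_X (ω : F) : u33X ω = Matrix.diagonal (asuc33irr_x ω) := by
  ext i j
  fin_cases i <;> fin_cases j <;> simp [u33X, asuc33irr_x]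

theorem asuc33irr_x_inj (h2 : (2 : F) = 0) (ω : F) (hω : ω ^ 2 + ω + 1 = 0) :
    Function.Injective (asuc33irr_x ω) := by
  have h0 : ω ≠ 0 := by
    intro h
    rw [h] at hω
    simp at hω
  have h1 : ω ≠ 1 := by
    intro h
    rw [h] at hω
    have : (1 : F) = 0 := by linear_combination hω - h2
    exact one_ne_zero this
  have h3 : ω ^ 2 ≠ 1 := by
    intro h
    apply h0
    linear_combination hω - h - h2
  have h4 : ω ^ 2 ≠ ω := by
    intro h
    have : ω * (ω - 1) = 0 := by linear_combination h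
    rcases mul_eq_zero.mp this with h | h
    · exact h0 h
    · exact h1 (sub_eq_zero.mp h)
  intro i j h
  fin_cases i <;> fin_cases j
  · rfl
  · exact absurd (show (1 : F) = ω from h) (Ne.symm h1)
  · exact absurd (show (1 : F) = ω ^ 2 from h) (Ne.symm h3)
  · exact absurd (show ω = 1 from h) h1
  · rfl
  · exact absurd (show ω = ω ^ 2 from h) (Ne.symm h4)
  · exact absurd (show ω ^ 2 = 1 from h) h3
  · exact absurd (show ω ^ 2 = ω from h) h4
  · rfl

theorem asuc33irr_Y (i j : Fin 3) : (u33Y : Matrix (Fin 3) (Fin 3) F) i j = if i = j + 1 then 1 else 0 := by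
  fin_cases i <;> fin_cases j <;> simp [u33Y]

theorem asuc33irr_X1 (ω : F) :
    u33X ω ⊗ₖ (1 : Matrix (Fin 3) (Fin 3) F) = Matrix.diagonal (fun p : Fin 3 × Fin 3 => asuc33irr_x ω p.1) := by
  rw [asuc33irr_X, ← Matrix.diagonal_one, Matrix.diagonal_kronecker_diagonal]
  congr 1
  funext p
  simp

theorem asuc33irr_1X (ω : F) :
    (1 : Matrix (Fin 3) (Fin 3) F) ⊗ₖ u33X ω = Matrix.diagonal (fun p : Fin 3 × Fin 3 => asuc33irr_x ω p.2) := by
  rw [asuc33irr_X, ← Matrix.diagonal_one, Matrix.diagonal_kronecker_diagonal]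
  congr 1
  funext p
  simp

theorem asuc33irr_Y1 (p p' : Fin 3 × Fin 3) :
    ((u33Y : Matrix (Fin 3) (Fin 3) F) ⊗ₖ (1 : Matrix (Fin 3) (Fin 3) F)) p p' =
      if p = (p'.1 + 1, p'.2) then 1 else 0 := by
  obtain ⟨a, b⟩ := p
  obtain ⟨c, d⟩ := p'
  rw [Matrix.kroneckerMap_apply, asuc33irr_Y, Matrix.one_apply]
  simp only [Prod.mk.injEq]
  by_cases h1 : a = c + 1 <;> by_cases h2 : b = d <;> simp [h1, h2]

theorem asuc33irr_1Y (p p' : Fin 3 × Fin 3) :
    ((1 : Matrix (Fin 3) (Fin 3) F) ⊗ₖ (u33Y : Matrix (Fin 3) (Fin 3) F)) p p' =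
      if p = (p'.1, p'.2 + 1) then 1 else 0 := by
  obtain ⟨a, b⟩ := p
  obtain ⟨c, d⟩ := p'
  rw [Matrix.kroneckerMap_apply, asuc33irr_Y, Matrix.one_apply]
  simp only [Prod.mk.injEq]
  by_cases h1 : a = c <;> by_cases h2 : b = d + 1 <;> simp [h1, h2]

/-- a subspace invariant under a diagonal matrix is invariant under `v ↦ ((f p - t) v p)_p` -/
theorem asuc33irr_diag_sub {ι : Type*} [Fintype ι] [DecidableEq ι] (W : Submodule F (ι → F)) (f : ι → F)
    (hW : W.map (Matrix.toLin' (Matrix.diagonal f)) ≤ W) (v : ι → F) (hv : v ∈ W) (t : F) :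
    (fun p => (f p - t) * v p) ∈ W := by
  have h1 : Matrix.diagonal f *ᵥ v ∈ W := by
    have := hW (Submodule.mem_map_of_mem hv)
    rwa [Matrix.toLin'_apply] at this
  have h2 : (fun p => (f p - t) * v p) = Matrix.diagonal f *ᵥ v - t • v := by
    funext p
    rw [Pi.sub_apply, Matrix.mulVec_diagonal, Pi.smul_apply, smul_eq_mul]
    ring
  rw [h2]
  exact W.sub_mem h1 (W.smul_mem t hv)

theorem asuc33irr_diag_prod {ι κ : Type*} [Fintype ι] [DecidableEq ι] [DecidableEq κ] (W : Submodule F (ι → F)) (f : ι → F)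
    (hW : W.map (Matrix.toLin' (Matrix.diagonal f)) ≤ W) (x : κ → F) (s : Finset κ) (v : ι → F) (hv : v ∈ W) :
    (fun p => (∏ c ∈ s, (f p - x c)) * v p) ∈ W := by
  induction s using Finset.induction_on with
  | empty => simpa using hv
  | insert c s hc ih =>
    have := asuc33irr_diag_sub W f hW _ ih (x c)
    have h2 : (fun p => (∏ c ∈ insert c s, (f p - x c)) * v p) =
        fun p => (f p - x c) * ((∏ c ∈ s, (f p - x c)) * v p) := by
      funext p
      rw [Finset.prod_insert hc]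
      ring
    rw [h2]
    exact this

theorem asuc33irr_fin3 : ∀ a c : Fin 3, c = a ∨ c = a + 1 ∨ c = a + 1 + 1 := by decide

/-- 33-IRR : `X ⊗ 1, Y ⊗ 1, 1 ⊗ X, 1 ⊗ Y` act absolutely irreducibly on `F^(3 × 3)`. -/
theorem u33_absIrr (h2 : (2 : F) = 0) (ω : F) (hω : ω ^ 2 + ω + 1 = 0)
    (S : Set (Matrix (Fin 3 × Fin 3) (Fin 3 × Fin 3) F))
    (h1 : u33X ω ⊗ₖ (1 : Matrix (Fin 3) (Fin 3) F) ∈ S) (h2' : (u33Y : Matrix (Fin 3) (Fin 3) F) ⊗ₖ (1 : Matrix (Fin 3) (Fin 3) F) ∈ S)
    (h3 : (1 : Matrix (Fin 3) (Fin 3) F) ⊗ₖ u33X ω ∈ S) (h4 : (1 : Matrix (Fin 3) (Fin 3) F) ⊗ₖ (u33Y : Matrix (Fin 3) (Fin 3) F) ∈ S) :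
    ActsAbsolutelyIrreducibly S := by
  have hinj := asuc33irr_x_inj h2 ω hω
  set x := asuc33irr_x ω with hx
  refine ⟨?_, ?_⟩
  · intro W hW
    by_cases hbot : W = ⊥
    · exact Or.inl hbot
    right
    obtain ⟨v, hv, hv0⟩ := (Submodule.ne_bot_iff W).mp hbot
    obtain ⟨⟨a, b⟩, hab⟩ : ∃ p, v p ≠ 0 := by
      by_contra hcon
      apply hv0
      funext p
      by_contra hp
      exact hcon ⟨p, hp⟩
    have hW1 : W.map (Matrix.toLin' (Matrix.diagonal (fun p : Fin 3 × Fin 3 => x p.1))) ≤ W := by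
      rw [← asuc33irr_X1]
      exact hW _ h1
    have hW2 : W.map (Matrix.toLin' (Matrix.diagonal (fun p : Fin 3 × Fin 3 => x p.2))) ≤ W := by
      rw [← asuc33irr_1X]
      exact hW _ h3
    have hv1 := asuc33irr_diag_prod W _ hW1 x (Finset.univ.erase a) v hv
    have hv2 := asuc33irr_diag_prod W _ hW2 x (Finset.univ.erase b) _ hv1
    -- the coefficient
    have hα : ∀ a c : Fin 3, (∏ c' ∈ Finset.univ.erase a, (x c - x c')) = 0 ↔ c ≠ a := by
      intro a c
      rw [Finset.prod_eq_zero_iff]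
      constructor
      · rintro ⟨c', hc', h⟩
        have : c = c' := hinj (sub_eq_zero.mp h)
        rw [this]
        exact Finset.ne_of_mem_erase hc'
      · intro h
        exact ⟨c, Finset.mem_erase.mpr ⟨h, Finset.mem_univ c⟩, sub_self _⟩
    set γ : F := (∏ c' ∈ Finset.univ.erase b, (x b - x c')) * ((∏ c' ∈ Finset.univ.erase a, (x a - x c')) * v (a, b)) with hγ
    have hγ0 : γ ≠ 0 := by
      rw [hγ]
      refine mul_ne_zero ?_ (mul_ne_zero ?_ hab)
      · intro h
        exact ((hα b b).mp h) rfl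
      · intro h
        exact ((hα a a).mp h) rfl
    have hsingle0 : (Pi.single (a, b) γ : Fin 3 × Fin 3 → F) ∈ W := by
      convert hv2 using 1
      funext p
      obtain ⟨c, d⟩ := p
      by_cases hp : (c, d) = (a, b)
      · rw [hp, Pi.single_eq_same]
      · rw [Pi.single_eq_of_ne hp]
        by_cases hc : c = a
        · have hd : d ≠ b := by
            intro hd
            exact hp (by rw [hc, hd])
          rw [(hα b d).mpr hd, zero_mul]
        · rw [(hα a c).mpr hc, zero_mul, mul_zero]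
    have hsingle1 : (Pi.single (a, b) (1 : F) : Fin 3 × Fin 3 → F) ∈ W := by
      have := W.smul_mem γ⁻¹ hsingle0
      rwa [← Pi.single_smul, smul_eq_mul, inv_mul_cancel₀ hγ0] at this
    -- shifts
    have hsh1 : ∀ c d : Fin 3, (Pi.single (c, d) (1 : F) : Fin 3 × Fin 3 → F) ∈ W →
        (Pi.single (c + 1, d) (1 : F) : Fin 3 × Fin 3 → F) ∈ W := by
      intro c d h
      have := hW _ h2' (Submodule.mem_map_of_mem h)
      rw [Matrix.toLin'_apply, Matrix.mulVec_single_one] at this
      convert this using 1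
      funext p
      rw [Matrix.col_apply, asuc33irr_Y1, Pi.single_apply]
    have hsh2 : ∀ c d : Fin 3, (Pi.single (c, d) (1 : F) : Fin 3 × Fin 3 → F) ∈ W →
        (Pi.single (c, d + 1) (1 : F) : Fin 3 × Fin 3 → F) ∈ W := by
      intro c d h
      have := hW _ h4 (Submodule.mem_map_of_mem h)
      rw [Matrix.toLin'_apply, Matrix.mulVec_single_one] at this
      convert this using 1
      funext p
      rw [Matrix.col_apply, asuc33irr_1Y, Pi.single_apply]
    have hall : ∀ p : Fin 3 × Fin 3, (Pi.single p (1 : F) : Fin 3 × Fin 3 → F) ∈ W := by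
      rintro ⟨c, d⟩
      have hrow : ∀ c, (Pi.single (c, b) (1 : F) : Fin 3 × Fin 3 → F) ∈ W := by
        intro c
        rcases asuc33irr_fin3 a c with h | h | h <;> rw [h]
        · exact hsingle1
        · exact hsh1 _ _ hsingle1
        · exact hsh1 _ _ (hsh1 _ _ hsingle1)
      rcases asuc33irr_fin3 b d with h | h | h <;> rw [h]
      · exact hrow c
      · exact hsh2 _ _ (hrow c)
      · exact hsh2 _ _ (hsh2 _ _ (hrow c))
    rw [Submodule.eq_top_iff']
    intro u
    have hu : u = ∑ p, u p • (Pi.single p (1 : F) : Fin 3 × Fin 3 → F) := by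
      funext r
      simp [Finset.sum_apply, Pi.single_apply]
    rw [hu]
    exact W.sum_mem (fun p _ => W.smul_mem _ (hall p))
  · intro M hM
    have hX1 := hM _ h1
    have hX2 := hM _ h3
    have hY1 := hM _ h2'
    have hY2 := hM _ h4
    rw [asuc33irr_X1] at hX1
    rw [asuc33irr_1X] at hX2
    -- `M` is diagonal
    have hdiag : ∀ p p' : Fin 3 × Fin 3, p ≠ p' → M p p' = 0 := by
      intro p p' hpp
      have e1 := congrFun (congrFun hX1 p) p'
      have e2 := congrFun (congrFun hX2 p) p'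
      rw [Matrix.mul_diagonal, Matrix.diagonal_mul] at e1 e2
      by_contra hne
      apply hpp
      have e1' : x p'.1 = x p.1 := by
        have : M p p' * (x p'.1 - x p.1) = 0 := by linear_combination e1
        rcases mul_eq_zero.mp this with h | h
        · exact absurd h hne
        · exact sub_eq_zero.mp h
      have e2' : x p'.2 = x p.2 := by
        have : M p p' * (x p'.2 - x p.2) = 0 := by linear_combination e2
        rcases mul_eq_zero.mp this with h | h
        · exact absurd h hne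
        · exact sub_eq_zero.mp h
      exact Prod.ext (hinj e1').symm (hinj e2').symm
    -- the diagonal is constant
    have hmul1 : ∀ (K : Matrix (Fin 3 × Fin 3) (Fin 3 × Fin 3) F) (p p' : Fin 3 × Fin 3),
        (M * K) p p' = M p p * K p p' := by
      intro K p p'
      rw [Matrix.mul_apply, Finset.sum_eq_single p]
      · intro r _ hr
        rw [hdiag p r (Ne.symm hr), zero_mul]
      · intro hp
        exact absurd (Finset.mem_univ p) hp
    have hmul2 : ∀ (K : Matrix (Fin 3 × Fin 3) (Fin 3 × Fin 3) F) (p p' : Fin 3 × Fin 3),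
        (K * M) p p' = K p p' * M p' p' := by
      intro K p p'
      rw [Matrix.mul_apply, Finset.sum_eq_single p']
      · intro r _ hr
        rw [hdiag r p' hr, mul_zero]
      · intro hp
        exact absurd (Finset.mem_univ p') hp
    have hs1 : ∀ c d : Fin 3, M (c + 1, d) (c + 1, d) = M (c, d) (c, d) := by
      intro c d
      have e := congrFun (congrFun hY1 (c + 1, d)) (c, d)
      rw [hmul1, hmul2, asuc33irr_Y1, if_pos rfl, mul_one, one_mul] at e
      exact e
    have hs2 : ∀ c d : Fin 3, M (c, d + 1) (c, d + 1) = M (c, d) (c, d) := by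
      intro c d
      have e := congrFun (congrFun hY2 (c, d + 1)) (c, d)
      rw [hmul1, hmul2, asuc33irr_1Y, if_pos rfl, mul_one, one_mul] at e
      exact e
    have hconst : ∀ p : Fin 3 × Fin 3, M p p = M (0, 0) (0, 0) := by
      rintro ⟨c, d⟩
      have hrow : ∀ c : Fin 3, M (c, 0) (c, 0) = M (0, 0) (0, 0) := by
        intro c
        rcases asuc33irr_fin3 0 c with h | h | h <;> rw [h]
        · rw [hs1]
        · rw [hs1, hs1]
      rcases asuc33irr_fin3 0 d with h | h | h <;> rw [h]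
      · exact hrow c
      · rw [hs2]
        exact hrow c
      · rw [hs2, hs2]
        exact hrow c
    refine ⟨M (0, 0) (0, 0), ?_⟩
    ext p p'
    rw [Matrix.smul_apply, Matrix.one_apply, smul_eq_mul]
    by_cases hpp : p = p'
    · rw [if_pos hpp, mul_one, ← hpp, hconst]
    · rw [if_neg hpp, mul_zero, hdiag p p' hpp]

end Cfsg.Agent.Lib.Helper19.ASU
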