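import Mathlib

/-!
# S4150 project: generic lemmas (transitivity, primitivity from a long prime cycle)
-/

set_option autoImplicit false

namespace Cfsg.Agent.Lib.Helper22.AltGenCore

open Equiv Equiv.Perm MulAction

variable {β : Type*} [Fintype β] [DecidableEq β]

/-- a point in the support of a cycle `a ∈ G` lies in the `G`-orbit of any other support point. -/
theorem mem_orbit_of_isCycle (G : Subgroup (Perm β)) {a : Perm β} (ha : a.IsCycle) (haG : a ∈ G)
    {x y : β} (hx : x ∈ a.support) (hy : y ∈ a.support) : y ∈ MulAction.orbit G x := by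
  obtain ⟨i, hi⟩ := ha.sameCycle (mem_support.mp hx) (mem_support.mp hy)
  refine ⟨⟨a ^ i, G.zpow_mem haG i⟩, ?_⟩
  exact hi

/-- every point of an orbit-connected cover: if every point is in the orbit of `c`, the action is
pretransitive. -/
theorem pretransitive_of_orbit_eq (G : Subgroup (Perm β)) (c : β)
    (h : ∀ y : β, y ∈ MulAction.orbit G c) : MulAction.IsPretransitive G β := by
  refine ⟨fun x y => ?_⟩
  obtain ⟨g, hg⟩ := h x
  obtain ⟨k, hk⟩ := h y
  refine ⟨k * g⁻¹, ?_⟩
  have hg' : g • c = x := hg
  have hk' : k • c = y := hk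
  rw [mul_smul, ← hg', inv_smul_smul, hk']

/-- two cycles with meeting supports covering everything generate a transitive group. -/
theorem pretransitive_of_two_cycles (G : Subgroup (Perm β)) {a b : Perm β}
    (ha : a.IsCycle) (haG : a ∈ G) (hb : b.IsCycle) (hbG : b ∈ G)
    (hcover : a.support ∪ b.support = Finset.univ) (hmeet : ¬ Disjoint a.support b.support) :
    MulAction.IsPretransitive G β := by
  rw [Finset.not_disjoint_iff] at hmeet
  obtain ⟨c, hca, hcb⟩ := hmeet
  apply pretransitive_of_orbit_eq G c
  intro y
  have hy : y ∈ a.support ∪ b.support := by rw [hcover]; exact Finset.mem_univ y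
  rcases Finset.mem_union.mp hy with hy | hy
  · exact mem_orbit_of_isCycle G ha haG hca hy
  · exact mem_orbit_of_isCycle G hb hbG hcb hy

/-- A transitive group containing a cycle of prime length `q` with `|β| < 2q` is primitive. -/
theorem preprimitive_of_prime_cycle (G : Subgroup (Perm β)) [MulAction.IsPretransitive G β]
    {q : ℕ} (hq : q.Prime) {b : Perm β} (hb : b.IsCycle) (hbq : b.support.card = q) (hbG : b ∈ G)
    (hcard : Fintype.card β < 2 * q) : MulAction.IsPreprimitive G β := by
  have htr := isPretransitive_of_isCycle_mem hb hbG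
  have hcardX : Nat.card (SubMulAction.ofFixingSubgroup G ((b.support : Set β)ᶜ)) = q := by
    classical
    rw [← hbq, ← Fintype.card_coe b.support, ← Nat.card_eq_fintype_card (α := {x // x ∈ b.support})]
    apply Nat.card_congr
    refine Equiv.subtypeEquivRight (fun x => ?_)
    simp [SubMulAction.mem_ofFixingSubgroup_iff]
  have hprim : MulAction.IsPreprimitive (fixingSubgroup G ((b.support : Set β)ᶜ))
      (SubMulAction.ofFixingSubgroup G ((b.support : Set β)ᶜ)) :=
    MulAction.IsPreprimitive.of_prime_card (by rw [hcardX]; exact hq)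
  apply MulAction.IsPreprimitive.of_card_lt
    (f := SubMulAction.ofFixingSubgroup_equivariantMap G ((b.support : Set β)ᶜ))
  rw [Nat.card_eq_fintype_card]
  refine lt_of_lt_of_le hcard ?_
  apply Nat.mul_le_mul_left
  rw [← hcardX, ← Set.ncard_univ, ← Set.ncard_image_of_injective _
    (SubMulAction.ofFixingSubgroup_equivariantMap_injective (M := G) (s := (b.support : Set β)ᶜ))]
  apply le_of_eq
  congr 1
  ext x
  simp

end Cfsg.Agent.Lib.Helper22.AltGenCore
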