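import Mathlib
import Cfsg.Agent.S0713
import Cfsg.Agent.Lib.Helper22.AltGenCore

/-!
# S4150 project: Jordan step for a pair (p-cycle, q-cycle) and for (type p², q-cycle)
-/

set_option autoImplicit false

namespace Cfsg.Agent.Lib.Helper22.AltGenJordan

open Equiv Equiv.Perm MulAction
open Cfsg.Agent.Lib.Helper22.AltGenCore

variable {β : Type*} [Fintype β] [DecidableEq β]

/-- a cycle of odd length is even. -/
theorem sign_of_isCycle_odd {a : Perm β} (ha : a.IsCycle) (hodd : Odd a.support.card) :
    Equiv.Perm.sign a = 1 := by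
  rw [ha.sign, hodd.neg_one_pow]
  simp

theorem closure_pair_le_alternating {a b : Perm β} (ha : Equiv.Perm.sign a = 1)
    (hb : Equiv.Perm.sign b = 1) :
    Subgroup.closure ({a, b} : Set (Perm β)) ≤ alternatingGroup β := by
  rw [Subgroup.closure_le]
  intro x hx
  rcases hx with rfl | rfl
  · exact Equiv.Perm.mem_alternatingGroup.mpr ha
  · exact Equiv.Perm.mem_alternatingGroup.mpr hb

/-- The Jordan step: a primitive group containing a `p`-cycle, `p` prime with `p + 3 ≤ |β|` or `p = 3`,
contains the alternating group. -/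
theorem alt_le_of_prime_cycle (G : Subgroup (Perm β)) (hG : MulAction.IsPreprimitive G β)
    {p : ℕ} (hp : p.Prime) {a : Perm β} (ha : a.IsCycle) (hap : a.support.card = p) (haG : a ∈ G)
    (hJ : p + 3 ≤ Fintype.card β ∨ p = 3) : alternatingGroup β ≤ G := by
  rcases hJ with hJ | hJ
  · exact Cfsg.Agent.S0713.result G hG hp (by have := hp.two_le; omega) hJ ha hap haG
  · have h3 : a.IsThreeCycle := by
      rw [← card_support_eq_three_iff, hap, hJ]
    exact alternatingGroup_le_of_isPreprimitive_of_isThreeCycle_mem hG h3 haG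

/-- Main generic theorem: a `p`-cycle and a `q`-cycle (odd primes) with meeting supports covering `β`,
`|β| < 2q`, and (`p + 3 ≤ |β|` or `p = 3`) generate the alternating group. -/
theorem closure_eq_alternating_of_cycles {p q : ℕ} (hp : p.Prime) (hq : q.Prime) (hp2 : p ≠ 2)
    (hq2 : q ≠ 2) {a b : Perm β} (ha : a.IsCycle) (hap : a.support.card = p) (hb : b.IsCycle)
    (hbq : b.support.card = q) (hcover : a.support ∪ b.support = Finset.univ)
    (hmeet : ¬ Disjoint a.support b.support) (hcard : Fintype.card β < 2 * q)
    (hJ : p + 3 ≤ Fintype.card β ∨ p = 3) :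
    Subgroup.closure ({a, b} : Set (Perm β)) = alternatingGroup β := by
  set G := Subgroup.closure ({a, b} : Set (Perm β)) with hGdef
  have haG : a ∈ G := Subgroup.subset_closure (by simp)
  have hbG : b ∈ G := Subgroup.subset_closure (by simp)
  apply le_antisymm
  · apply closure_pair_le_alternating
    · exact sign_of_isCycle_odd ha (by rw [hap]; exact hp.odd_of_ne_two hp2)
    · exact sign_of_isCycle_odd hb (by rw [hbq]; exact hq.odd_of_ne_two hq2)
  · have htr : MulAction.IsPretransitive G β :=
      pretransitive_of_two_cycles G ha haG hb hbG hcover hmeet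
    have hprim : MulAction.IsPreprimitive G β :=
      preprimitive_of_prime_cycle G hq hb hbq hbG hcard
    exact alt_le_of_prime_cycle G hprim hp ha hap haG hJ

theorem card_support_cycleOf_mem_cycleType (a : Perm β) (y : β) (hy : a y ≠ y) :
    (a.cycleOf y).support.card ∈ a.cycleType := by
  rw [cycleType_def, Multiset.mem_map]
  refine ⟨a.cycleOf y, ?_, rfl⟩
  rw [← Finset.mem_def, cycleOf_mem_cycleFactorsFinset_iff, mem_support]
  exact hy

/-- transitivity for (type `p²`, `q`-cycle) on `2p` points. -/
theorem pretransitive_psq (G : Subgroup (Perm β)) {p q : ℕ} {a b : Perm β}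
    (hcardβ : Fintype.card β = 2 * p) (hat : a.cycleType = {p, p}) (haG : a ∈ G)
    (hb : b.IsCycle) (hbq : b.support.card = q) (hbG : b ∈ G) (hpq : p < q) :
    MulAction.IsPretransitive G β := by
  have hsupp : a.support = Finset.univ := by
    apply Finset.eq_univ_of_card
    rw [← sum_cycleType, hat, hcardβ]
    simp [two_mul]
  have hbne : b.support.Nonempty := by
    rw [← Finset.card_pos, hbq]; omega
  obtain ⟨c, hc⟩ := hbne
  apply pretransitive_of_orbit_eq G c
  intro y
  have hy : a y ≠ y := by
    rw [← mem_support, hsupp]; exact Finset.mem_univ y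
  have hcard : (a.cycleOf y).support.card = p := by
    have := card_support_cycleOf_mem_cycleType a y hy
    rw [hat] at this
    simpa using this
  have hinter : ((a.cycleOf y).support ∩ b.support).Nonempty := by
    apply Finset.inter_nonempty_of_card_lt_card_add_card (Finset.subset_univ _) (Finset.subset_univ _)
    rw [Finset.card_univ, hcardβ, hcard, hbq]
    omega
  obtain ⟨z, hz⟩ := hinter
  rw [Finset.mem_inter] at hz
  obtain ⟨hz1, hz2⟩ := hz
  rw [mem_support_cycleOf_iff] at hz1
  obtain ⟨i, hi⟩ := hz1.1
  have h1 : z ∈ MulAction.orbit G c := mem_orbit_of_isCycle G hb hbG hc hz2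
  have h2 : y ∈ MulAction.orbit G z := by
    refine ⟨⟨a ^ (-i), G.zpow_mem haG (-i)⟩, ?_⟩
    show (a ^ (-i)) z = y
    rw [← hi, ← Perm.mul_apply, ← zpow_add]
    simp
  rw [← MulAction.orbit_eq_iff] at h1
  rw [← h1]
  exact h2

/-- (type `p²`, `q`-cycle) on `2p` points, `p < q`, `q + 3 ≤ 2p`, generate the alternating group. -/
theorem closure_eq_alternating_psq {p q : ℕ} (hq : q.Prime) (hq2 : q ≠ 2)
    {a b : Perm β} (hcardβ : Fintype.card β = 2 * p) (hat : a.cycleType = {p, p})
    (hb : b.IsCycle) (hbq : b.support.card = q) (hpq : p < q) (hJ : q + 3 ≤ 2 * p) :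
    Subgroup.closure ({a, b} : Set (Perm β)) = alternatingGroup β := by
  set G := Subgroup.closure ({a, b} : Set (Perm β)) with hGdef
  have haG : a ∈ G := Subgroup.subset_closure (by simp)
  have hbG : b ∈ G := Subgroup.subset_closure (by simp)
  apply le_antisymm
  · apply closure_pair_le_alternating
    · rw [sign_of_cycleType, hat]
      simp only [Multiset.insert_eq_cons]
      have h2 : (p ::ₘ {p}).sum + Multiset.card (p ::ₘ {p}) = 2 * (p + 1) := by
        simp; ring
      rw [h2, pow_mul]
      simp
    · exact sign_of_isCycle_odd hb (by rw [hbq]; exact hq.odd_of_ne_two hq2)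
  · have htr : MulAction.IsPretransitive G β :=
      pretransitive_psq G hcardβ hat haG hb hbq hbG hpq
    have hprim : MulAction.IsPreprimitive G β :=
      preprimitive_of_prime_cycle G hq hb hbq hbG (by rw [hcardβ]; omega)
    exact alt_le_of_prime_cycle G hprim hq hb hbq hbG (Or.inl (by rw [hcardβ]; exact hJ))

end Cfsg.Agent.Lib.Helper22.AltGenJordan
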