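import Mathlib
import Cfsg.Agent.Lib.Helper22.AltGenJordan

/-!
# S4150 project: transport to the support, prime chain, and the assembly
(modulo the pieces `ThreePrimesProp`, `TwinProp 5`, `TwinProp 11`, `M6Prop`).
-/

set_option autoImplicit false

namespace Cfsg.Agent.Lib.Helper22.AltGenMain

open Equiv Equiv.Perm MulAction
open Cfsg.Agent.Lib.Helper22.AltGenCore Cfsg.Agent.Lib.Helper22.AltGenJordan

/-- piece NT3 -/
def ThreePrimesProp : Prop :=
  ∀ n : ℕ, 2048 ≤ n → ∃ p1 p2 p3 : ℕ, p1.Prime ∧ p2.Prime ∧ p3.Prime ∧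
    n < p1 ∧ p1 < p2 ∧ p2 < p3 ∧ p3 ≤ 2 * n

/-- twin piece: a `p`-cycle and a `(p+2)`-cycle on `p + 2` points generate at least the alternating
group. -/
def TwinProp (p : ℕ) : Prop :=
  ∀ (β : Type) [Fintype β] [DecidableEq β] (a b : Perm β), Fintype.card β = p + 2 →
    a.IsCycle → a.support.card = p → b.IsCycle → b.support.card = p + 2 →
    alternatingGroup β ≤ Subgroup.closure ({a, b} : Set (Perm β))

/-- piece M6 -/
def M6Prop : Prop :=
  ∀ (a b : Perm (Fin 6)), a.cycleType = {3, 3} → b.cycleType = {5} →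
    ∃ d : ℕ, 5 ≤ d ∧ Nonempty (Subgroup.closure ({a, b} : Set (Perm (Fin 6))) ≃*
      alternatingGroup (Fin d))

section transport

variable {α : Type*} [Fintype α] [DecidableEq α]

theorem exists_subtype_of_support_le (s : Finset α) (a : Perm α) (ha : a.support ⊆ s) :
    ∃ a' : Perm {x // x ∈ s}, (ofSubtype a' : Perm α) = a := by
  have : a ∈ (ofSubtype : Perm {x // x ∈ s} →* Perm α).range := by
    rw [Equiv.Perm.mem_range_ofSubtype_iff]
    intro x hx
    exact ha hx
  obtain ⟨a', ha'⟩ := this
  exact ⟨a', ha'⟩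

theorem transport (s : Finset α) (a b : Perm α) (has : a.support ⊆ s) (hbs : b.support ⊆ s)
    (hs : s ⊆ a.support ∪ b.support) :
    ∃ (a' b' : Perm {x // x ∈ s}),
      a'.cycleType = a.cycleType ∧ b'.cycleType = b.cycleType ∧
      a'.support ∪ b'.support = Finset.univ ∧
      (¬ Disjoint a.support b.support → ¬ Disjoint a'.support b'.support) ∧
      Nonempty (Subgroup.closure ({a, b} : Set (Perm α)) ≃*
        Subgroup.closure ({a', b'} : Set (Perm {x // x ∈ s}))) := by
  obtain ⟨a', ha'⟩ := exists_subtype_of_support_le s a has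
  obtain ⟨b', hb'⟩ := exists_subtype_of_support_le s b hbs
  refine ⟨a', b', ?_, ?_, ?_, ?_, ?_⟩
  · rw [← ha', cycleType_ofSubtype]
  · rw [← hb', cycleType_ofSubtype]
  · ext x
    simp only [Finset.mem_union, Finset.mem_univ, iff_true]
    have hx := hs x.2
    rw [Finset.mem_union] at hx
    rcases hx with hx | hx
    · left
      rw [← ha', mem_support, ofSubtype_apply_coe] at hx
      rw [mem_support]
      exact fun h => hx (congrArg Subtype.val h)
    · right
      rw [← hb', mem_support, ofSubtype_apply_coe] at hx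
      rw [mem_support]
      exact fun h => hx (congrArg Subtype.val h)
  · intro hd hd'
    apply hd
    rw [Finset.disjoint_left] at hd' ⊢
    intro x hxa hxb
    have hxs : x ∈ s := has hxa
    rw [← ha', mem_support, ← Subtype.coe_mk x hxs, ofSubtype_apply_coe] at hxa
    rw [← hb', mem_support, ← Subtype.coe_mk x hxs, ofSubtype_apply_coe] at hxb
    apply hd' (a := ⟨x, hxs⟩)
    · rw [mem_support]
      exact fun h => hxa (congrArg Subtype.val h)
    · rw [mem_support]
      exact fun h => hxb (congrArg Subtype.val h)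
  · have hmap : (Subgroup.closure ({a', b'} : Set (Perm {x // x ∈ s}))).map
        (ofSubtype : Perm {x // x ∈ s} →* Perm α) =
        Subgroup.closure ({a, b} : Set (Perm α)) := by
      rw [MonoidHom.map_closure, Set.image_pair, ha', hb']
    exact ⟨(MulEquiv.subgroupCongr hmap.symm).trans
      (Subgroup.equivMapOfInjective _ _ ofSubtype_injective).symm⟩

theorem isCycle_of_cycleType_singleton {a : Perm α} {p : ℕ} (h : a.cycleType = {p}) :
    a.IsCycle ∧ a.support.card = p := by
  constructor
  · rw [← card_cycleType_eq_one, h]; simp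
  · rw [← sum_cycleType, h]; simp

end transport

/-- A `p`-cycle and a `q`-cycle in `Perm (Fin m)`, `m ≤ 2p`, `p < q` odd primes: the group generated
is isomorphic to an alternating group (given the twin property when needed). -/
theorem iso_of_cycles {m p q : ℕ} (hp : p.Prime) (hq : q.Prime) (hp2 : p ≠ 2) (hpq : p < q)
    (hm : m ≤ 2 * p) (a b : Perm (Fin m)) (ha : a.cycleType = {p}) (hb : b.cycleType = {q})
    (htwin : q = p + 2 → p ≠ 3 → TwinProp p) :
    ∃ d : ℕ, 5 ≤ d ∧ Nonempty (Subgroup.closure ({a, b} : Set (Perm (Fin m))) ≃*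
      alternatingGroup (Fin d)) := by
  obtain ⟨hac, hap⟩ := isCycle_of_cycleType_singleton ha
  obtain ⟨hbc, hbq⟩ := isCycle_of_cycleType_singleton hb
  have hq2 : q ≠ 2 := by have := hp.two_le; omega
  have hp3 : 3 ≤ p := by have := hp.two_le; omega
  have hq_odd : Odd q := hq.odd_of_ne_two hq2
  have hp_odd : Odd p := hp.odd_of_ne_two hp2
  have hqp2 : p + 2 ≤ q := by
    obtain ⟨k, hk⟩ := hq_odd
    obtain ⟨l, hl⟩ := hp_odd
    omega
  -- supports meet
  have hmeet : ¬ Disjoint a.support b.support := by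
    intro hd
    have h1 := Finset.card_union_of_disjoint hd
    have h2 : (a.support ∪ b.support).card ≤ m := by
      have := Finset.card_le_univ (a.support ∪ b.support)
      simpa using this
    rw [hap, hbq] at h1
    omega
  set s := a.support ∪ b.support with hs
  obtain ⟨a', b', ha', hb', hcover, hmeet', ⟨e⟩⟩ :=
    transport s a b Finset.subset_union_left Finset.subset_union_right (le_refl _)
  obtain ⟨hac', hap'⟩ := isCycle_of_cycleType_singleton (ha'.trans ha)
  obtain ⟨hbc', hbq'⟩ := isCycle_of_cycleType_singleton (hb'.trans hb)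
  have hcardβ : Fintype.card {x // x ∈ s} = s.card := Fintype.card_coe s
  have hsq : q ≤ s.card := by
    rw [← hbq]; exact Finset.card_le_card Finset.subset_union_right
  have hsm : s.card ≤ m := by
    have := Finset.card_le_univ s
    simpa using this
  have hcl : Subgroup.closure ({a', b'} : Set (Perm {x // x ∈ s})) =
      alternatingGroup {x // x ∈ s} := by
    by_cases hJ : p + 3 ≤ s.card ∨ p = 3
    · exact closure_eq_alternating_of_cycles hp hq hp2 hq2 hac' hap' hbc' hbq' hcover
        (hmeet' hmeet) (by rw [hcardβ]; omega) (by rw [hcardβ]; exact hJ)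
    · push Not at hJ
      obtain ⟨hJ1, hJ2⟩ := hJ
      have hqeq : q = p + 2 := by omega
      have hseq : s.card = p + 2 := by omega
      apply le_antisymm
      · apply closure_pair_le_alternating
        · exact sign_of_isCycle_odd hac' (by rw [hap']; exact hp_odd)
        · exact sign_of_isCycle_odd hbc' (by rw [hbq']; exact hq_odd)
      · exact htwin hqeq hJ2 _ a' b' (by rw [hcardβ, hseq]) hac' hap' hbc' (by rw [hbq', hqeq])
  refine ⟨s.card, ?_, ?_⟩
  · have : 5 ≤ q := by omega
    omega
  · exact ⟨(e.trans (MulEquiv.subgroupCongr hcl)).trans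
      (Equiv.altCongrHom (Fintype.equivFinOfCardEq hcardβ))⟩

/-- cycle type of an element of prime order `p` in `Perm (Fin m)`, `m ≤ 2p`. -/
theorem cycleType_of_prime_order {m p : ℕ} (hp : p.Prime) (hm : m ≤ 2 * p) (x : Perm (Fin m))
    (hx : orderOf x = p) : x.cycleType = {p} ∨ (m = 2 * p ∧ x.cycleType = {p, p}) := by
  obtain ⟨n, hn⟩ := cycleType_prime_order (σ := x) (by rw [hx]; exact hp)
  rw [hx] at hn
  have hsum : (n + 1) * p ≤ m := by
    have h1 : x.cycleType.sum = x.support.card := sum_cycleType x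
    rw [hn, Multiset.sum_replicate, smul_eq_mul] at h1
    have h2 := Finset.card_le_univ x.support
    rw [Fintype.card_fin] at h2
    omega
  have hppos := hp.pos
  have hn1 : n = 0 ∨ n = 1 := by
    by_contra h
    push Not at h
    have : 2 ≤ n := by omega
    have : 3 * p ≤ (n + 1) * p := Nat.mul_le_mul_right p (by omega)
    omega
  rcases hn1 with rfl | rfl
  · left
    rw [hn]; rfl
  · right
    refine ⟨by omega, ?_⟩
    rw [hn]; rfl

theorem prime_pair (h3 : ThreePrimesProp) (m : ℕ) (hm : 17 ≤ m) :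
    ∃ p q : ℕ, p.Prime ∧ q.Prime ∧ m < 2 * p ∧ p + 4 ≤ q ∧ q ≤ m := by
  by_cases hbig : 4096 ≤ m
  · obtain ⟨p1, p2, p3, hp1, hp2, hp3, h1, h2, h3', h4⟩ := h3 (m / 2) (by omega)
    refine ⟨p1, p3, hp1, hp3, by omega, ?_, by omega⟩
    have o1 : Odd p1 := hp1.odd_of_ne_two (by omega)
    have o2 : Odd p2 := hp2.odd_of_ne_two (by omega)
    have o3 : Odd p3 := hp3.odd_of_ne_two (by omega)
    obtain ⟨k1, hk1⟩ := o1
    obtain ⟨k2, hk2⟩ := o2
    obtain ⟨k3, hk3⟩ := o3
    omega
  · push Not at hbig
    by_cases h1 : m ≤ 25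
    · exact ⟨13, 17, by norm_num, by norm_num, by omega, by omega, by omega⟩
    by_cases h2 : m ≤ 37
    · exact ⟨19, 23, by norm_num, by norm_num, by omega, by omega, by omega⟩
    by_cases h3 : m ≤ 61
    · exact ⟨31, 37, by norm_num, by norm_num, by omega, by omega, by omega⟩
    by_cases h4 : m ≤ 105
    · exact ⟨53, 61, by norm_num, by norm_num, by omega, by omega, by omega⟩
    by_cases h5 : m ≤ 193
    · exact ⟨97, 103, by norm_num, by norm_num, by omega, by omega, by omega⟩
    by_cases h6 : m ≤ 361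
    · exact ⟨181, 193, by norm_num, by norm_num, by omega, by omega, by omega⟩
    by_cases h7 : m ≤ 705
    · exact ⟨353, 359, by norm_num, by norm_num, by omega, by omega, by omega⟩
    by_cases h8 : m ≤ 1381
    · exact ⟨691, 701, by norm_num, by norm_num, by omega, by omega, by omega⟩
    by_cases h9 : m ≤ 2745
    · exact ⟨1373, 1381, by norm_num, by norm_num, by omega, by omega, by omega⟩
    · exact ⟨2731, 2741, by norm_num, by norm_num, by omega, by omega, by omega⟩


theorem pair_ok {m p q : ℕ} (hp : p.Prime) (hq : q.Prime) (hp2 : p ≠ 2) (hpq : p < q)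
    (hm : m ≤ 2 * p) (h5 : 5 ≤ m)
    (htwin : q = p + 2 → p ≠ 3 → TwinProp p)
    (hsq : m = 2 * p → (q + 3 ≤ 2 * p ∨ (m = 6 ∧ p = 3 ∧ q = 5 ∧ M6Prop))) :
    ∀ x y : alternatingGroup (Fin m), orderOf x = p → orderOf y = q →
      ∃ d : ℕ, 5 ≤ d ∧ Nonempty (Subgroup.closure ({x, y} : Set (alternatingGroup (Fin m))) ≃*
        alternatingGroup (Fin d)) := by
  intro x y hx hy
  set a : Perm (Fin m) := (x : Perm (Fin m)) with ha
  set b : Perm (Fin m) := (y : Perm (Fin m)) with hb
  have hoa : orderOf a = p := by rw [ha, Subgroup.orderOf_coe, hx]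
  have hob : orderOf b = q := by rw [hb, Subgroup.orderOf_coe, hy]
  have hmap : (Subgroup.closure ({x, y} : Set (alternatingGroup (Fin m)))).map
      (alternatingGroup (Fin m)).subtype = Subgroup.closure ({a, b} : Set (Perm (Fin m))) := by
    rw [MonoidHom.map_closure, Set.image_pair]
    rfl
  have e0 : Subgroup.closure ({x, y} : Set (alternatingGroup (Fin m))) ≃*
      Subgroup.closure ({a, b} : Set (Perm (Fin m))) :=
    (Subgroup.equivMapOfInjective _ _ (Subgroup.subtype_injective _)).trans
      (MulEquiv.subgroupCongr hmap)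
  have hq2 : q ≠ 2 := by have := hp.two_le; omega
  have hbt : b.cycleType = {q} := by
    rcases cycleType_of_prime_order hq (by omega) b hob with h | ⟨h, -⟩
    · exact h
    · omega
  rcases cycleType_of_prime_order hp hm a hoa with hat | ⟨hm2, hat⟩
  · obtain ⟨d, hd, ⟨e⟩⟩ := iso_of_cycles hp hq hp2 hpq hm a b hat hbt htwin
    exact ⟨d, hd, ⟨e0.trans e⟩⟩
  · rcases hsq hm2 with hJ | ⟨hm6, hp3, hq5, h6⟩
    · obtain ⟨hbc, hbq⟩ := isCycle_of_cycleType_singleton hbt
      have hcl := closure_eq_alternating_psq (β := Fin m) hq hq2 (by simpa using hm2) hat hbc hbq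
        hpq hJ
      exact ⟨m, h5, ⟨e0.trans (MulEquiv.subgroupCongr hcl)⟩⟩
    · subst hm6
      subst hp3
      subst hq5
      obtain ⟨d, hd, ⟨e⟩⟩ := h6 a b hat hbt
      exact ⟨d, hd, ⟨e0.trans e⟩⟩


theorem main (h3 : ThreePrimesProp) (ht5 : TwinProp 5) (ht11 : TwinProp 11) (h6 : M6Prop)
    (m : ℕ) (hm : 5 ≤ m) :
    ∃ p q : ℕ, p.Prime ∧ q.Prime ∧ m ≤ 2 * p ∧ p < q ∧ q ≤ m ∧
      ∀ x y : alternatingGroup (Fin m), orderOf x = p → orderOf y = q →
        ∃ d : ℕ, 5 ≤ d ∧ Nonempty (Subgroup.closure ({x, y} : Set (alternatingGroup (Fin m))) ≃*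
          alternatingGroup (Fin d)) := by
  by_cases h17 : 17 ≤ m
  · obtain ⟨p, q, hp, hq, h1, h2, h3'⟩ := prime_pair h3 m h17
    refine ⟨p, q, hp, hq, by omega, by omega, h3', ?_⟩
    exact pair_ok hp hq (by omega) (by omega) (by omega) hm (fun h => by omega) (fun h => by omega)
  push Not at h17
  by_cases h15 : 15 ≤ m
  · refine ⟨11, 13, by norm_num, by norm_num, by omega, by omega, by omega, ?_⟩
    exact pair_ok (by norm_num) (by norm_num) (by omega) (by omega) (by omega) hm
      (fun _ _ => ht11) (fun h => by omega)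
  push Not at h15
  by_cases h11 : 11 ≤ m
  · refine ⟨7, 11, by norm_num, by norm_num, by omega, by omega, by omega, ?_⟩
    exact pair_ok (by norm_num) (by norm_num) (by omega) (by omega) (by omega) hm
      (fun h => by omega) (fun h => Or.inl (by omega))
  push Not at h11
  by_cases h7 : 7 ≤ m
  · refine ⟨5, 7, by norm_num, by norm_num, by omega, by omega, by omega, ?_⟩
    exact pair_ok (by norm_num) (by norm_num) (by omega) (by omega) (by omega) hm
      (fun _ _ => ht5) (fun h => Or.inl (by omega))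
  push Not at h7
  refine ⟨3, 5, by norm_num, by norm_num, by omega, by omega, by omega, ?_⟩
  exact pair_ok (by norm_num) (by norm_num) (by omega) (by omega) (by omega) hm
    (fun _ h => absurd rfl h) (fun h => Or.inr ⟨by omega, rfl, rfl, h6⟩)


end Cfsg.Agent.Lib.Helper22.AltGenMain
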