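import Mathlib
import Cfsg.Agent.S0678
import Cfsg.Agent.Lib.Helper22.AltGenMain
import Cfsg.Agent.Lib.helper2.AltGenTWD
import Cfsg.Agent.Lib.Helper13.AltGenTWA
import Cfsg.Agent.Lib.Helper13.AltGenTWG
import Cfsg.Agent.Lib.Helper26.AltGenTWE
import Cfsg.Agent.Lib.Helper26.AltGenTWF
import Cfsg.Agent.Lib.Helper24.AltGenSOLV
import Cfsg.Agent.Lib.Helper24.AltGenTWC

/-!
# S4150 project: the twin cases (5,7) and (11,13)
-/

set_option autoImplicit false

namespace Cfsg.Agent.Lib.Helper22.AltGenTwin

open Equiv Equiv.Perm MulAction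
open Cfsg.Agent.Lib.Helper22.AltGenCore Cfsg.Agent.Lib.Helper22.AltGenJordan
open Cfsg.Agent.Lib.Helper22.AltGenMain

/-- a 5-cycle and a 7-cycle on 7 points generate at least `A_7` (landed S0678 + Galois). -/
theorem twin5 : TwinProp 5 := by
  intro β _ _ a b hβ ha hap hb hbq
  set G := Subgroup.closure ({a, b} : Set (Perm β)) with hGdef
  have haG : a ∈ G := Subgroup.subset_closure (by simp)
  have hbG : b ∈ G := Subgroup.subset_closure (by simp)
  have hbuniv : b.support = Finset.univ := by
    apply Finset.eq_univ_of_card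
    rw [hbq, hβ]
  have htr : MulAction.IsPretransitive G β := by
    apply pretransitive_of_two_cycles G ha haG hb hbG
    · rw [hbuniv]
      ext x; simp
    · rw [hbuniv, Finset.not_disjoint_iff]
      have hne : a.support.Nonempty := by
        rw [← Finset.card_pos, hap]; norm_num
      obtain ⟨x, hx⟩ := hne
      exact ⟨x, hx, Finset.mem_univ x⟩
  have h5 : 5 ∣ Nat.card G := by
    have h1 : orderOf (⟨a, haG⟩ : G) = 5 := by
      rw [← Subgroup.orderOf_coe]
      show orderOf a = 5
      rw [ha.orderOf, hap]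
    rw [← h1]
    exact orderOf_dvd_natCard _
  have hns : ¬ Group.IsSolvable G := by
    intro hsolv
    have := Cfsg.Agent.Lib.Helper24.AltGenSOLV.solvable_prime_degree_card (p := 7) (by norm_num)
      hβ G hsolv
    have h542 : 5 ∣ 7 * (7 - 1) := h5.trans this
    norm_num at h542
  by_contra hA
  obtain ⟨h168, -⟩ := Cfsg.Agent.S0678.result hβ G hns hA
  rw [h168] at h5
  norm_num at h5

theorem arith_8580 (r n : ℕ) (hr : r ∣ 12) (hn : n % 13 = 1) (h : 13 * 12 * 55 = 13 * r * n) :
    False := by
  have hr12 : r ≤ 12 := Nat.le_of_dvd (by norm_num) hr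
  have hr0 : 0 < r := Nat.pos_of_dvd_of_pos hr (by norm_num)
  interval_cases r <;> omega

theorem arith_big (r n k : ℕ) (hr : r ∣ 12) (hk : k ∣ 8) (hn : n % 13 = 1)
    (h : 13 * 12 * 11 * 10 * 9 * k = 13 * r * n) : False := by
  have hr12 : r ≤ 12 := Nat.le_of_dvd (by norm_num) hr
  have hr0 : 0 < r := Nat.pos_of_dvd_of_pos hr (by norm_num)
  have hk8 : k ≤ 8 := Nat.le_of_dvd (by norm_num) hk
  have hk0 : 0 < k := Nat.pos_of_dvd_of_pos hk (by norm_num)
  interval_cases r <;> interval_cases k <;> omega

/-- an 11-cycle and a 13-cycle on 13 points generate at least `A_13`. -/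
theorem twin11 : TwinProp 11 := by
  intro β _ _ a b hβ ha hap hb hbq
  set G := Subgroup.closure ({a, b} : Set (Perm β)) with hGdef
  have haG : a ∈ G := Subgroup.subset_closure (by simp)
  have hbG : b ∈ G := Subgroup.subset_closure (by simp)
  have hGA : G ≤ alternatingGroup β := by
    apply closure_pair_le_alternating
    · exact sign_of_isCycle_odd ha (by rw [hap]; decide)
    · exact sign_of_isCycle_odd hb (by rw [hbq]; decide)
  have h3 : IsMultiplyPretransitive G β 3 :=
    Cfsg.Agent.Lib.Helper13.AltGenTWA.twin_three_trans (p := 11) (by norm_num) (by norm_num) hβ G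
      ha hap haG hb hbq hbG
  have hcardβ : Nat.card β = 13 := by rw [Nat.card_eq_fintype_card, hβ]
  have h2 : IsMultiplyPretransitive G β 2 :=
    isMultiplyPretransitive_of_le (n := 3) (by norm_num) (by rw [hcardβ]; norm_num)
  set s : Set β := ((a.support : Set β)ᶜ) with hs
  have hsn : s.ncard = 2 := by
    have h1 := Set.ncard_add_ncard_compl (a.support : Set β)
    rw [Set.ncard_coe_finset, hap, hcardβ, ← hs] at h1
    omega
  have hidx : (fixingSubgroup G s).index = 156 := by
    have h1 := h2.index_of_fixingSubgroup_mul hsn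
    rw [hcardβ] at h1
    have h11 : (13 - 2).factorial = 39916800 := by decide
    have h13 : (13 : ℕ).factorial = 156 * 39916800 := by decide
    rw [h11, h13] at h1
    exact Nat.eq_of_mul_eq_mul_right (by norm_num) h1
  have hcardG : Nat.card G = 156 * Nat.card (fixingSubgroup G s) := by
    rw [← hidx, mul_comm, Subgroup.card_mul_index]
  have h13 : 13 ∣ Nat.card G := by
    rw [hcardG]; exact Dvd.dvd.mul_right (by norm_num) _
  obtain ⟨r, n, hr, hn, hrn⟩ := Cfsg.Agent.Lib.Helper26.AltGenTWF.sylow13_count hβ G h13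
  have haH : (⟨a, haG⟩ : G) ∈ fixingSubgroup G s := by
    rw [mem_fixingSubgroup_iff]
    intro y hy
    rw [hs, Set.mem_compl_iff, Finset.mem_coe, notMem_support] at hy
    exact hy
  have h11 : 11 ∣ Nat.card (fixingSubgroup G s) := by
    have h1 : orderOf (⟨⟨a, haG⟩, haH⟩ : fixingSubgroup G s) = 11 := by
      rw [← Subgroup.orderOf_coe, ← Subgroup.orderOf_coe]
      show orderOf a = 11
      rw [ha.orderOf, hap]
    rw [← h1]
    exact orderOf_dvd_natCard _
  rcases Cfsg.Agent.Lib.Helper24.AltGenTWC.twin_dichotomy (p := 11) (by norm_num) (by norm_num)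
    hβ G hGA h2 ha hap haG with hsolv | h3H
  · have h55 : Nat.card (fixingSubgroup G s) ∣ 55 := by
      have : 2 * Nat.card (fixingSubgroup G s) ∣ 2 * 55 := by simpa using hsolv
      exact (Nat.mul_dvd_mul_iff_left (by norm_num)).mp this
    have hcases : Nat.card (fixingSubgroup G s) = 11 ∨ Nat.card (fixingSubgroup G s) = 55 := by
      have hle : Nat.card (fixingSubgroup G s) ≤ 55 := Nat.le_of_dvd (by norm_num) h55
      have hpos : 0 < Nat.card (fixingSubgroup G s) := Nat.pos_of_dvd_of_pos h55 (by norm_num)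
      generalize Nat.card (fixingSubgroup G s) = c at *
      interval_cases c <;> simp_all
    rcases hcases with h | h
    · exfalso
      exact Cfsg.Agent.Lib.Helper13.AltGenTWG.no_sharp3_13 hβ G h3 (by rw [hcardG, h])
    · exfalso
      rw [hcardG, h] at hrn
      exact arith_8580 r n hr hn (by omega)
  · have h5 : IsMultiplyPretransitive G β 5 :=
      Cfsg.Agent.Lib.helper2.AltGenTWD.multTrans_of_fixingSubgroup s 2 3 hsn h2 h3H
    rcases Cfsg.Agent.Lib.Helper26.AltGenTWE.five_trans_13 hβ G h5 with h | ⟨k, hk, hkG⟩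
    · exact h
    · exfalso
      rw [hkG] at hrn
      exact arith_big r n k hr hk hn hrn

end Cfsg.Agent.Lib.Helper22.AltGenTwin
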