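import Mathlib
import Cfsg.Agent.Lib.Helper1.MinNormal
import Cfsg.Agent.Lib.Helper1.Hall
import Cfsg.Agent.Lib.Helper22.Basic

/-!
# Solvable ambivalent groups with one class of involutions

Elementary lemmas: an element inverted by `g` commutes with `g ^ 2`; if all involutions of a finite
solvable group `G` lie in a normal subgroup `M` of exponent `2`, are all conjugate, and every element
of `G` is conjugate to its inverse, then `G` has at most one involution.
-/

set_option autoImplicit false

namespace Cfsg.Agent.Lib.Helper22.AmbivA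

universe u

section Basic

variable {G : Type*} [Group G]

theorem inv_conj_of_conj {g k : G} (h : g * k * g⁻¹ = k⁻¹) : g * k⁻¹ * g⁻¹ = k := by
  have e : g * k⁻¹ * g⁻¹ = (g * k * g⁻¹)⁻¹ := by group
  rw [e, h, inv_inv]

theorem sq_commute {g k : G} (h : g * k * g⁻¹ = k⁻¹) : Commute (g ^ 2) k := by
  have h1 := inv_conj_of_conj h
  have e : g ^ 2 * k = (g * (g * k * g⁻¹) * g⁻¹) * g ^ 2 := by
    rw [pow_two]; group
  show g ^ 2 * k = k * g ^ 2
  rw [e, h, h1]

theorem pow_even_commute {g k : G} (h : g * k * g⁻¹ = k⁻¹) (i : ℕ) : Commute (g ^ (2 * i)) k := by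
  rw [pow_mul]
  exact (sq_commute h).pow_left i

theorem pow_odd_conj {g k : G} (h : g * k * g⁻¹ = k⁻¹) (i : ℕ) :
    g ^ (2 * i + 1) * k * (g ^ (2 * i + 1))⁻¹ = k⁻¹ := by
  have hc : g ^ (2 * i) * k⁻¹ = k⁻¹ * g ^ (2 * i) := ((pow_even_commute h i).inv_right).eq
  have e : g ^ (2 * i + 1) * k * (g ^ (2 * i + 1))⁻¹ =
      g ^ (2 * i) * (g * k * g⁻¹) * (g ^ (2 * i))⁻¹ := by
    rw [pow_succ]; group
  rw [e, h, hc]; group

theorem sq_eq_one_of_odd_conj {g k : G} (h : g * k * g⁻¹ = k⁻¹) (ho : Odd (orderOf g)) :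
    k * k = 1 := by
  obtain ⟨i, hi⟩ := ho
  have h1 := pow_odd_conj h i
  rw [← hi, pow_orderOf_eq_one, one_mul, inv_one, mul_one] at h1
  calc k * k = k * k⁻¹ := by rw [← h1]
    _ = 1 := mul_inv_cancel k

theorem eq_one_of_sq_of_odd {k : G} (h : k * k = 1) (ho : Odd (orderOf k)) : k = 1 := by
  have h1 : orderOf k ∣ 2 := orderOf_dvd_of_pow_eq_one (by rw [pow_two]; exact h)
  have h2 : orderOf k = 1 := by
    rcases (Nat.dvd_prime Nat.prime_two).1 h1 with h3 | h3
    · exact h3
    · rw [h3] at ho; exact absurd ho (by decide)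
  exact orderOf_eq_one_iff.1 h2

theorem orderOf_two_of {j : G} (h : j * j = 1) (h1 : j ≠ 1) : orderOf j = 2 :=
  orderOf_eq_prime (by rw [pow_two]; exact h) h1

end Basic

section Key

variable {G : Type*} [Group G] [Finite G]

/-- a nontrivial real element of odd order commutes with an involution, provided all involutions lie
in a normal subgroup of exponent two -/
theorem exists_comm_invol (M : Subgroup G) [hMn : M.Normal] (hM2 : ∀ x ∈ M, x * x = 1)
    (hinv : ∀ v : G, orderOf v = 2 → v ∈ M) (k : G) (hk : Odd (orderOf k)) (hk1 : k ≠ 1)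
    (hreal : IsConj k k⁻¹) : ∃ v : G, orderOf v = 2 ∧ k * v = v * k := by
  obtain ⟨g, hg⟩ := isConj_iff.1 hreal
  rcases Nat.even_or_odd (orderOf g) with he | ho
  · obtain ⟨o', ho'⟩ := he
    have hopos : 0 < orderOf g := orderOf_pos g
    have ho'pos : 0 < o' := by omega
    set j := g ^ o' with hj
    have hjj : j * j = 1 := by
      rw [hj, ← pow_add, ← ho', pow_orderOf_eq_one]
    have hj1 : j ≠ 1 := pow_ne_one_of_lt_orderOf ho'pos.ne' (by omega)
    have hj2 : orderOf j = 2 := orderOf_two_of hjj hj1
    have hjM : j ∈ M := hinv j hj2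
    rcases Nat.even_or_odd' o' with ⟨i, hi | hi⟩
    · refine ⟨j, hj2, ?_⟩
      rw [hj, hi]
      exact ((pow_even_commute hg i).eq).symm
    · exfalso
      have hjk : j * k * j⁻¹ = k⁻¹ := by rw [hj, hi]; exact pow_odd_conj hg i
      have hw : k⁻¹ * k⁻¹ ∈ M := by
        have h1 : k * j⁻¹ * k⁻¹ ∈ M := hMn.conj_mem _ (M.inv_mem hjM) k
        have h2 : j * (k * j⁻¹ * k⁻¹) ∈ M := M.mul_mem hjM h1
        have e : j * (k * j⁻¹ * k⁻¹) = (j * k * j⁻¹) * k⁻¹ := by group
        rwa [e, hjk] at h2
      have h4 := hM2 _ hw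
      have h5 : (k * k) * (k * k) = 1 := by
        have e5 : (k * k) * (k * k) = (k⁻¹ * k⁻¹ * (k⁻¹ * k⁻¹))⁻¹ := by
          simp [mul_inv_rev, mul_assoc]
        rw [e5, h4, inv_one]
      have hkk : Odd (orderOf (k * k)) := by
        have : orderOf (k * k) ∣ orderOf k := by
          rw [← pow_two]; exact orderOf_pow_dvd 2
        exact Odd.of_dvd_nat hk this
      have h6 : k * k = 1 := eq_one_of_sq_of_odd h5 hkk
      exact hk1 (eq_one_of_sq_of_odd h6 hk)
  · exact absurd (eq_one_of_sq_of_odd (sq_eq_one_of_odd_conj hg ho) hk) hk1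

end Key

section Count

variable {G : Type*} [Group G] [Finite G]

omit [Finite G] in
theorem card_eq_filter [Fintype G] (H : Subgroup G) [DecidablePred (· ∈ H)] :
    Nat.card H = (Finset.univ.filter (· ∈ H)).card := by
  rw [Nat.card_eq_fintype_card, Fintype.card_subtype]

/-- If all involutions of the finite solvable group `G` lie in a normal subgroup `M` of exponent
two and are conjugate, and every element of `G` is conjugate to its inverse, then `G` has at most one
involution. -/
theorem invol_unique_of_normal [Group.IsSolvable G] (M : Subgroup G) [hMn : M.Normal]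
    (hM2 : ∀ x ∈ M, x * x = 1) (hinv : ∀ v : G, orderOf v = 2 → v ∈ M)
    (hreal : ∀ x : G, IsConj x x⁻¹)
    (hone : ∀ s t : G, orderOf s = 2 → orderOf t = 2 → IsConj s t)
    (a b : G) (ha : orderOf a = 2) (hb : orderOf b = 2) : a = b := by
  classical
  by_contra hab
  have : Fintype G := Fintype.ofFinite G
  set X : Finset G := Finset.univ.filter (fun v => orderOf v = 2) with hX
  have hmemX : ∀ v : G, v ∈ X ↔ orderOf v = 2 := by
    intro v; simp [hX]
  have haX : a ∈ X := (hmemX a).2 ha
  have hbX : b ∈ X := (hmemX b).2 hb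
  have hX2 : 2 ≤ X.card := by
    have hsub : ({a, b} : Finset G) ⊆ X := by
      intro x hx
      rcases Finset.mem_insert.1 hx with h | h
      · rw [h]; exact haX
      · rw [Finset.mem_singleton.1 h]; exact hbX
    calc 2 = ({a, b} : Finset G).card := (Finset.card_pair hab).symm
      _ ≤ X.card := Finset.card_le_card hsub
  -- `|M| = |X| + 1`
  have hMX : Finset.univ.filter (· ∈ M) = insert 1 X := by
    ext x
    simp only [Finset.mem_filter, Finset.mem_univ, true_and, Finset.mem_insert, hmemX]
    constructor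
    · intro hx
      by_cases hx1 : x = 1
      · exact Or.inl hx1
      · exact Or.inr (orderOf_two_of (hM2 x hx) hx1)
    · rintro (h | h)
      · rw [h]; exact M.one_mem
      · exact hinv x h
  have h1X : (1 : G) ∉ X := by
    rw [hmemX, orderOf_one]; decide
  have hMcard : Nat.card M = X.card + 1 := by
    rw [card_eq_filter, hMX, Finset.card_insert_of_notMem h1X]
  have hMp : IsPGroup 2 M := by
    intro x
    refine ⟨1, ?_⟩
    apply Subtype.ext
    have := hM2 x x.2
    simp only [pow_one, Subgroup.coe_pow, Subgroup.coe_one]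
    rw [pow_two]; exact this
  obtain ⟨n, hn⟩ := hMp.exists_card_eq
  have hXodd : Odd X.card := by
    have h3 : X.card + 1 = 2 ^ n := by rw [← hMcard, hn]
    have hn2 : 2 ≤ n := by
      by_contra hlt
      push Not at hlt
      interval_cases n <;> omega
    obtain ⟨n', rfl⟩ : ∃ n', n = n' + 2 := ⟨n - 2, by omega⟩
    have : Even (X.card + 1) := by
      rw [h3, pow_succ]; exact even_two.mul_left _
    have h4 := Nat.even_add_one.1 this
    exact Nat.not_even_iff_odd.1 h4
  -- class size
  have hidx : ∀ v ∈ X, (Subgroup.centralizer ({v} : Set G)).index = X.card := by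
    intro v hv
    rw [index_centralizer_eq_ncard_conj]
    have hset : {h : G | IsConj v h} = (X : Set G) := by
      ext h
      simp only [Set.mem_ofPred_eq, Finset.mem_coe, hmemX]
      constructor
      · intro hc
        obtain ⟨c, hc⟩ := isConj_iff.1 hc
        have hsc : SemiconjBy c v h := by
          show c * v = h * c
          rw [← hc]; group
        rw [← hsc.orderOf_eq]
        exact (hmemX v).1 hv
      · intro hh
        exact hone v h ((hmemX v).1 hv) hh
    rw [hset, Set.ncard_coe_finset]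
  -- the odd part and a Hall subgroup
  obtain ⟨e, m, hm, hGm⟩ := Nat.exists_eq_two_pow_mul_odd (n := Nat.card G) Nat.card_pos.ne'
  have hcop : m.Coprime (2 ^ e) := Nat.Coprime.pow_right e (Nat.coprime_two_right.2 hm)
  obtain ⟨K, hK⟩ := Cfsg.Agent.Lib.Helper1.hall_exists m (2 ^ e) (by rw [hGm, mul_comm]) hcop
  have hmpos : 0 < m := hm.pos
  set Kf : Finset G := Finset.univ.filter (· ∈ K) with hKf
  have hKfcard : Kf.card = m := by rw [← hK, card_eq_filter]
  have hKodd : ∀ k ∈ K, Odd (orderOf k) := by
    intro k hk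
    have : orderOf k ∣ m := by
      rw [← hK]; exact Subgroup.orderOf_dvd_natCard K hk
    exact Odd.of_dvd_nat hm this
  -- double counting
  have hdc := Finset.sum_card_bipartiteAbove_eq_sum_card_bipartiteBelow (s := Kf) (t := X)
    (fun k v => k * v = v * k)
  -- lower bound
  have hlow : m + 1 ≤ ∑ k ∈ Kf, (Finset.bipartiteAbove (fun k v => k * v = v * k) X k).card := by
    have h1K : (1 : G) ∈ Kf := by
      rw [hKf]; simp [K.one_mem]
    rw [← Finset.add_sum_erase Kf _ h1K]
    have hfirst : X.card ≤ (Finset.bipartiteAbove (fun k v => k * v = v * k) X 1).card := by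
      apply Finset.card_le_card
      intro v hv
      rw [Finset.mem_bipartiteAbove]
      exact ⟨hv, by rw [one_mul, mul_one]⟩
    have hrest : (Kf.erase 1).card • 1 ≤
        ∑ k ∈ Kf.erase 1, (Finset.bipartiteAbove (fun k v => k * v = v * k) X k).card := by
      apply Finset.card_nsmul_le_sum
      intro k hk
      rw [Finset.mem_erase] at hk
      have hkK : k ∈ K := by
        have := hk.2; rw [hKf] at this; simpa using this
      obtain ⟨v, hv2, hvk⟩ := exists_comm_invol M hM2 hinv k (hKodd k hkK) hk.1 (hreal k)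
      apply Finset.card_pos.2
      exact ⟨v, by rw [Finset.mem_bipartiteAbove]; exact ⟨(hmemX v).2 hv2, hvk⟩⟩
    rw [Finset.card_erase_of_mem h1K, hKfcard, smul_eq_mul, mul_one] at hrest
    omega
  -- upper bound
  have hup : (∑ v ∈ X, (Finset.bipartiteBelow (fun k v => k * v = v * k) Kf v).card) ≤ m := by
    have hterm : ∀ v ∈ X,
        (Finset.bipartiteBelow (fun k v => k * v = v * k) Kf v).card * X.card ≤ m := by
      intro v hv
      set C := Subgroup.centralizer ({v} : Set G) with hC
      have hcv : (Finset.bipartiteBelow (fun k v => k * v = v * k) Kf v).card =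
          Nat.card ↥(K ⊓ C) := by
        rw [card_eq_filter]
        congr 1
        ext k
        simp only [Finset.mem_bipartiteBelow, hKf, Finset.mem_filter, Finset.mem_univ, true_and,
          Subgroup.mem_inf, hC, Subgroup.mem_centralizer_singleton_iff]
      rw [hcv]
      have hd1 : Nat.card ↥(K ⊓ C) ∣ m := by
        rw [← hK]; exact Subgroup.card_dvd_of_le inf_le_left
      have hd2 : Nat.card ↥(K ⊓ C) ∣ Nat.card C := Subgroup.card_dvd_of_le inf_le_right
      have hCG : Nat.card C * X.card = 2 ^ e * m := by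
        rw [← hidx v hv, ← hGm]; exact Subgroup.card_mul_index C
      have hd3 : Nat.card ↥(K ⊓ C) * X.card ∣ 2 ^ e * m := by
        rw [← hCG]; exact Nat.mul_dvd_mul_right hd2 _
      have hodd : Odd (Nat.card ↥(K ⊓ C) * X.card) := (Odd.of_dvd_nat hm hd1).mul hXodd
      have hcop2 : (Nat.card ↥(K ⊓ C) * X.card).Coprime (2 ^ e) :=
        Nat.Coprime.pow_right e (Nat.coprime_two_right.2 hodd)
      exact Nat.le_of_dvd hmpos (hcop2.dvd_of_dvd_mul_left hd3)
    have hXpos : 0 < X.card := by omega
    have h5 : (∑ v ∈ X, (Finset.bipartiteBelow (fun k v => k * v = v * k) Kf v).card) * X.card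
        ≤ X.card * m := by
      rw [Finset.sum_mul]
      calc ∑ v ∈ X, (Finset.bipartiteBelow (fun k v => k * v = v * k) Kf v).card * X.card
          ≤ ∑ _v ∈ X, m := Finset.sum_le_sum hterm
        _ = X.card * m := by rw [Finset.sum_const, smul_eq_mul]
    rw [mul_comm] at h5
    exact Nat.le_of_mul_le_mul_left h5 hXpos
  omega

end Count

section Induct

/-- involutions lift modulo a normal subgroup of odd order -/
theorem lift_invol {G : Type*} [Group G] [Finite G] (M : Subgroup G) [M.Normal]
    (hM : Odd (Nat.card M)) (q : G ⧸ M) (hq : orderOf q = 2) :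
    ∃ x : G, orderOf x = 2 ∧ (x : G ⧸ M) = q := by
  obtain ⟨y, rfl⟩ := QuotientGroup.mk_surjective q
  have hq2 : ((y : G ⧸ M)) ^ 2 = 1 := by rw [← hq]; exact pow_orderOf_eq_one _
  have hyM : y ^ 2 ∈ M := by
    rw [← QuotientGroup.eq_one_iff]
    rw [QuotientGroup.mk_pow]; exact hq2
  have hpow : (y ^ 2) ^ (Nat.card M) = 1 := by
    have h1 : (⟨y ^ 2, hyM⟩ : M) ^ (Nat.card M) = 1 := pow_card_eq_one'
    have h2 := congrArg Subtype.val h1
    rw [Subgroup.coe_pow, Subgroup.coe_one] at h2
    exact h2
  obtain ⟨i, hi⟩ := hM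
  have himg : ((y ^ (Nat.card M) : G) : G ⧸ M) = (y : G ⧸ M) := by
    rw [QuotientGroup.mk_pow, hi, pow_succ, pow_mul, hq2, one_pow, one_mul]
  refine ⟨y ^ (Nat.card M), ?_, himg⟩
  apply orderOf_two_of
  · rw [← pow_add, ← two_mul, pow_mul]; exact hpow
  · intro h1
    rw [h1, QuotientGroup.mk_one] at himg
    rw [← himg, orderOf_one] at hq
    omega

theorem no_two_invol : ∀ (n : ℕ) (G : Type u) [Group G] [Finite G] [Group.IsSolvable G],
    Nat.card G = n → (∀ x : G, IsConj x x⁻¹) →
    (∀ s t : G, orderOf s = 2 → orderOf t = 2 → IsConj s t) →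
    ∀ a b : G, orderOf a = 2 → orderOf b = 2 → a * b = b * a → a = b := by
  intro n
  induction n using Nat.strong_induction_on with
  | _ n ih =>
    intro G _ _ _ hn hreal hone a b ha hb hab
    have hnt : Nontrivial G :=
      ⟨⟨a, 1, by intro h; rw [h, orderOf_one] at ha; omega⟩⟩
    obtain ⟨M, hMn, hM1, hMmin⟩ := Cfsg.Agent.Lib.Helper1.exists_minimal_normal (G := G)
    obtain ⟨_, p, hp, hMp⟩ := Cfsg.Agent.Lib.Helper1.minimal_normal_of_solvable M hM1 hMmin
    by_cases hp2 : p = 2
    · subst hp2
      have hM2 : ∀ x ∈ M, x * x = 1 := fun x hx => by rw [← pow_two]; exact hMp x hx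
      obtain ⟨m0, hm0, hm01⟩ : ∃ m0 ∈ M, m0 ≠ 1 := by
        by_contra hcon
        push Not at hcon
        exact hM1 ((Subgroup.eq_bot_iff_forall _).mpr hcon)
      have hm02 : orderOf m0 = 2 := orderOf_two_of (hM2 m0 hm0) hm01
      have hinv : ∀ v : G, orderOf v = 2 → v ∈ M := by
        intro v hv
        obtain ⟨c, hc⟩ := isConj_iff.1 (hone m0 v hm02 hv)
        rw [← hc]; exact hMn.conj_mem _ hm0 c
      exact invol_unique_of_normal M hM2 hinv hreal hone a b ha hb
    · have hpodd : Odd p := hp.odd_of_ne_two hp2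
      have : Fact p.Prime := ⟨hp⟩
      have hMpg : IsPGroup p M := by
        intro x
        refine ⟨1, ?_⟩
        apply Subtype.ext
        simp only [pow_one, Subgroup.coe_pow, Subgroup.coe_one]
        exact hMp x x.2
      obtain ⟨k, hk⟩ := hMpg.exists_card_eq
      have hModd : Odd (Nat.card M) := by rw [hk]; exact hpodd.pow
      have hnotM : ∀ v : G, orderOf v = 2 → v ∉ M := by
        intro v hv hvM
        have h1 : orderOf v ∣ Nat.card M := Subgroup.orderOf_dvd_natCard M hvM
        rw [hv] at h1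
        have := Odd.of_dvd_nat hModd h1
        exact absurd this (by decide)
      have hcardlt : Nat.card (G ⧸ M) < n := by
        have h1 : Nat.card (G ⧸ M) * Nat.card M = Nat.card G :=
          (Subgroup.card_eq_card_quotient_mul_card_subgroup M).symm
        have h2 : 1 < Nat.card M := (Subgroup.one_lt_card_iff_ne_bot M).mpr hM1
        have h3 : 0 < Nat.card (G ⧸ M) := Nat.card_pos
        rw [← hn, ← h1]
        nlinarith
      have hrealQ : ∀ q : G ⧸ M, IsConj q q⁻¹ := by
        intro q
        obtain ⟨x, rfl⟩ := QuotientGroup.mk_surjective q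
        exact (QuotientGroup.mk' M).map_isConj (hreal x)
      have honeQ : ∀ s t : G ⧸ M, orderOf s = 2 → orderOf t = 2 → IsConj s t := by
        intro s t hs ht
        obtain ⟨x, hx, rfl⟩ := lift_invol M hModd s hs
        obtain ⟨y, hy, rfl⟩ := lift_invol M hModd t ht
        exact (QuotientGroup.mk' M).map_isConj (hone x y hx hy)
      have hordQ : ∀ v : G, orderOf v = 2 → orderOf (v : G ⧸ M) = 2 := by
        intro v hv
        apply orderOf_two_of
        · rw [← QuotientGroup.mk_mul, ← pow_two, ← hv, pow_orderOf_eq_one, QuotientGroup.mk_one]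
        · intro h1
          exact hnotM v hv ((QuotientGroup.eq_one_iff v).1 h1)
      have hQ := ih (Nat.card (G ⧸ M)) hcardlt (G ⧸ M) rfl hrealQ honeQ (a : G ⧸ M) (b : G ⧸ M)
        (hordQ a ha) (hordQ b hb)
        (by rw [← QuotientGroup.mk_mul, ← QuotientGroup.mk_mul, hab])
      have hmem : a⁻¹ * b ∈ M := QuotientGroup.eq.1 hQ
      have hsq : (a⁻¹ * b) * (a⁻¹ * b) = 1 := by
        have ha2 : a * a = 1 := by rw [← pow_two, ← ha, pow_orderOf_eq_one]
        have hb2 : b * b = 1 := by rw [← pow_two, ← hb, pow_orderOf_eq_one]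
        have hainv : a⁻¹ = a := inv_eq_of_mul_eq_one_left ha2
        rw [hainv]
        calc a * b * (a * b) = a * (b * a) * b := by group
          _ = a * (a * b) * b := by rw [hab]
          _ = (a * a) * (b * b) := by group
          _ = 1 := by rw [ha2, hb2, one_mul]
      have hodd : Odd (orderOf (a⁻¹ * b)) :=
        Odd.of_dvd_nat hModd (Subgroup.orderOf_dvd_natCard M hmem)
      have h1 := eq_one_of_sq_of_odd hsq hodd
      exact (inv_mul_eq_one.1 h1)

end Induct

end Cfsg.Agent.Lib.Helper22.AmbivA
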