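import Mathlib
import Cfsg.Agent.Lib.Lead.B3P.Defs

/-!
# Project B3P, piece INTCL: the local ring `locRing M hM` is integrally closed in `ℂ`.
-/

set_option autoImplicit false
set_option linter.unusedVariables false
set_option linter.unusedSectionVars false
set_option linter.style.haveILetI false
open scoped ComplexConjugate
open Classical

namespace Cfsg.Agent.Lib.Lead.B3P

open Cfsg.Agent.Lib.helper7 Cfsg.Agent.Lib.helper7.Br Polynomial

/-- the inclusion of the algebraic integers into the local ring -/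
noncomputable def b3pintcl_incl (M : Ideal Cfsg.AlgInt) (hM : M.IsPrime) :
    Cfsg.AlgInt →+* locRing M hM :=
  RingHom.codRestrict (algebraMap Cfsg.AlgInt ℂ) (locRing M hM)
    (fun a => h7_memLocalRing_of_algInt hM a)

theorem b3pintcl_incl_coe (M : Ideal Cfsg.AlgInt) (hM : M.IsPrime) (a : Cfsg.AlgInt) :
    ((b3pintcl_incl M hM a : locRing M hM) : ℂ) = (a : ℂ) := rfl

/-- piece INTCL : the local ring is integrally closed in `ℂ` -/
theorem locRing_integrallyClosed (M : Ideal Cfsg.AlgInt) (hM : M.IsPrime) (z : ℂ)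
    (hz : IsIntegral (locRing M hM) z) : z ∈ locRing M hM := by
  letI : Algebra Cfsg.AlgInt (locRing M hM) := (b3pintcl_incl M hM).toAlgebra
  haveI : IsScalarTower Cfsg.AlgInt (locRing M hM) ℂ :=
    IsScalarTower.of_algebraMap_eq (fun a => rfl)
  haveI : IsLocalization M.primeCompl (locRing M hM) := by
    refine ⟨?_, ?_, ?_⟩
    · rintro ⟨b, hb⟩
      have hb' : b ∉ M := hb
      have hinv : Cfsg.MemLocalRing M ((b : ℂ)⁻¹) := ⟨1, b, hb', by simp⟩
      have hb0 : (b : ℂ) ≠ 0 := by
        intro h0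
        apply hb'
        have : b = 0 := Subtype.ext h0
        rw [this]
        exact M.zero_mem
      refine isUnit_iff_exists_inv.mpr ⟨⟨(b : ℂ)⁻¹, hinv⟩, ?_⟩
      apply Subtype.ext
      show (b : ℂ) * (b : ℂ)⁻¹ = 1
      exact mul_inv_cancel₀ hb0
    · rintro ⟨w, a, b, hb, hw⟩
      refine ⟨(a, ⟨b, hb⟩), ?_⟩
      apply Subtype.ext
      show w * (b : ℂ) = (a : ℂ)
      have hb0 : (b : ℂ) ≠ 0 := by
        intro h0
        apply hb
        have : b = 0 := Subtype.ext h0
        rw [this]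
        exact M.zero_mem
      rw [← hw]
      field_simp
    · intro x y hxy
      refine ⟨1, ?_⟩
      have h1 : (x : ℂ) = (y : ℂ) := congrArg (fun t : locRing M hM => (t : ℂ)) hxy
      have : x = y := Subtype.ext h1
      rw [this]
  obtain ⟨⟨m, hm⟩, hint⟩ :=
    IsIntegral.exists_multiple_integral_of_isLocalization (Rₘ := locRing M hM) M.primeCompl z hz
  have hm' : m ∉ M := hm
  have h2 : IsIntegral ℤ ((m : ℂ) * z) := by
    have h3 : IsIntegral Cfsg.AlgInt ((m : ℂ) * z) := hint
    exact isIntegral_trans _ h3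
  have hm0 : (m : ℂ) ≠ 0 := by
    intro h0
    apply hm'
    have : m = 0 := Subtype.ext h0
    rw [this]
    exact M.zero_mem
  refine ⟨⟨(m : ℂ) * z, h2⟩, m, hm', ?_⟩
  show (m : ℂ) * z / (m : ℂ) = z
  field_simp

end Cfsg.Agent.Lib.Lead.B3P
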