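import Mathlib
import Cfsg.Agent.Lib.Lead.BCG.Defs
import Cfsg.Agent.Lib.Helper22.BCGA11
import Cfsg.Agent.Lib.Helper22.BCGA15
import Cfsg.Agent.Lib.Helper16.BCGA13
import Cfsg.Agent.Lib.Helper5.BCGA14
import Cfsg.Agent.Lib.Helper19.ONETYEX
import Cfsg.Agent.Lib.helper17.ONENDPERPS
import Cfsg.Agent.Lib.helper15.S5972STDCTX
import Cfsg.Agent.Lib.helper15.S5972STDO
import Cfsg.Agent.Lib.Helper25.S5972OMEGAODD
import Cfsg.Agent.Lib.Helper16.OA25

/-!
# Project BCG (designer lead), row O5 : `o_2p`, verbatim (written by helper22).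
`Ω_{2n+1}(q)`, `q` odd, `n ≥ 3`, contains an element of order `2p`: `Z U` with `Z = -1` on a plane `P` of the right type (A11, A15) and
`U` a Siegel element inside `P^⊥` (A13, A14).
-/

set_option autoImplicit false
set_option linter.unusedVariables false
set_option linter.unusedSectionVars false
set_option linter.style.haveILetI false

namespace Cfsg.Agent.Lib.Lead.BCG

open Polynomial Module Matrix Cfsg.Agent.Lib.Helper13.S5955 Cfsg.Agent.Lib.helper15.S5972
  Cfsg.Agent.Lib.Helper18.ONE Cfsg.Agent.Lib.Lead.BCS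

/-- O5 [M-L] -/
theorem o_2p {F : Type*} [Field F] [Fintype F] {p : ℕ} [Fact p.Prime] [CharP F p]
    (hodd : Odd (Fintype.card F)) (n : ℕ) (hn : 3 ≤ n) : InO n F (2 * p) := by
  classical
  have hpp : p.Prime := Fact.out
  have h2 : (2 : F) ≠ 0 := s5972omegaodd_two_ne hodd
  have hp2 : p ≠ 2 := by
    intro hp
    have h1 : ((Fintype.card F : ℕ) : F) = 0 := Nat.cast_card_eq_zero F
    have h3 : p ∣ Fintype.card F := (CharP.cast_eq_zero_iff F p (Fintype.card F)).1 h1
    rw [hp] at h3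
    rcases hodd with ⟨k, hk⟩
    omega
  have hpodd : Odd p := hpp.odd_of_ne_two hp2
  set Q : QuadraticForm F (Unit ⊕ (Fin n ⊕ Fin n) → F) := Cfsg.Agent.Lib.Helper16.qfOdd n F with hQdef
  set B : LinearMap.BilinForm F (Unit ⊕ (Fin n ⊕ Fin n) → F) := stdO n F with hB
  have hBQ : B = QuadraticMap.polarBilin Q := rfl
  have hQnd : (QuadraticMap.polarBilin Q).Nondegenerate := Cfsg.Agent.Lib.Helper16.OA.qfOdd_nondeg n h2
  obtain ⟨hsymm, hnd, hself, -⟩ := stdO_facts (F := F) h2 n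
  have hBpol : ∀ a b, QuadraticMap.polar (⇑Q) a b = B a b := fun a b => rfl
  have hselfQ : ∀ v, B v v = 2 * Q v := fun v => hself v
  have hTop : SND B ⊤ := fun u _ h => hnd u (fun v => h v Submodule.mem_top)
  have hdimV : finrank F (Unit ⊕ (Fin n ⊕ Fin n) → F) = 2 * n + 1 := by
    rw [Module.finrank_fintype_fun_eq_card]
    simp
    ring
  -- the plane `P`
  set t : ℤ := if Fintype.card F % 4 = 1 then 1 else -1 with ht
  have ht1 : t = 1 ∨ t = -1 := by
    rw [ht]
    split_ifs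
    · exact Or.inl rfl
    · exact Or.inr rfl
  have htcond : t = 1 ↔ Fintype.card F ^ 1 % 4 = 1 := by
    rw [ht, pow_one]
    split_ifs with h
    · exact ⟨fun _ => h, fun _ => rfl⟩
    · constructor
      · intro h1
        norm_num at h1
      · intro h1
        exact absurd h1 h
  obtain ⟨P, -, hP, hPdim, hPty⟩ := ty_ex h2 B hsymm ⊤ hTop 2 (by decide) (by decide)
    (by rw [finrank_top, hdimV]; omega) t ht1
  -- the flip
  obtain ⟨z, hzctx, hzcyc, hzfix, hzcomm⟩ := o_flip h2 B hsymm hnd P hP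
  -- `P^⊥`
  obtain ⟨-, -, hQ'nd, -, hQ'dim⟩ := nd_perp_symm B hsymm ⊤ P hTop le_top hP
  rw [top_inf_eq] at hQ'nd hQ'dim
  rw [finrank_top, hdimV, hPdim] at hQ'dim
  obtain ⟨zz, w, hzzU, hwU, hzz0, hzziso, hzzw, hww⟩ := sing_pair h2 B hsymm (B.orthogonal P) hQ'nd
    (by omega)
  have hQzz : Q zz = 0 := by
    have h1 := hselfQ zz
    rw [hzziso] at h1
    rcases mul_eq_zero.1 h1.symm with h | h
    · exact absurd h h2
    · exact h
  have hQw : Q w ≠ 0 := by
    intro h
    apply hww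
    rw [hselfQ, h, mul_zero]
  obtain ⟨u, huQ, hup, hu1, hucomm⟩ := siegel_elt hp2 Q hQnd zz w hzz0 hQzz (by rw [hBpol]; exact hzzw) hQw
  -- `z` fixes `zz`, `w`
  have hz_zz : z zz = zz := by
    rw [← bcs_mem_fixS, hzfix]
    exact hzzU
  have hz_w : z w = w := by
    rw [← bcs_mem_fixS, hzfix]
    exact hwU
  have hzu : Commute z u := hucomm z (fun a b => by rw [hBpol, hBpol]; exact hzctx.pres a b) hz_zz hz_w
  -- `u` is an isometry
  have hupres : ∀ a b, B (u a) (u b) = B a b := by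
    intro a b
    rw [← hBpol, ← hBpol]
    unfold QuadraticMap.polar
    rw [← map_add, huQ, huQ, huQ]
  have huctx : OCtx p B u := ⟨hsymm, hnd, hupres, hup⟩
  -- realize
  obtain ⟨Z, hZiso, hZlin, hZ2⟩ := o_realize h2 n 2 z hzctx
  obtain ⟨U, hUiso, hUlin, hUp⟩ := o_realize h2 n p u huctx
  -- `Z ≠ 1`, `U ≠ 1`
  have hPne : P ≠ ⊥ := by
    intro h
    rw [h, finrank_bot] at hPdim
    omega
  have hz1 : z ≠ 1 := by
    intro h
    obtain ⟨v, hvP, hv0⟩ := (Submodule.ne_bot_iff P).1 hPne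
    have h1 : z v = -v := by
      rw [← bcs_mem_cyc_two, hzcyc]
      exact hvP
    rw [h, Module.End.one_apply] at h1
    have h3 : (2 : F) • v = 0 := by
      rw [two_smul]
      nth_rewrite 1 [h1]
      exact neg_add_cancel v
    rcases smul_eq_zero.1 h3 with h | h
    · exact h2 h
    · exact hv0 h
  have hZ1 : Z ≠ 1 := by
    intro h
    apply hz1
    rw [← hZlin, h, Units.val_one, Matrix.toLin'_one]
    rfl
  have hU1 : U ≠ 1 := by
    intro h
    apply hu1
    rw [← hUlin, h, Units.val_one, Matrix.toLin'_one]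
    rfl
  have hoZ : orderOf Z = 2 := orderOf_eq_prime hZ2 hZ1
  have hoU : orderOf U = p := orderOf_eq_prime hUp hU1
  -- commute
  have hZU : Commute Z U := by
    show Z * U = U * Z
    apply Units.ext
    apply Matrix.toLin'.injective
    rw [Units.val_mul, Units.val_mul, Matrix.toLin'_mul, Matrix.toLin'_mul, hZlin, hUlin]
    exact hzu
  -- membership in `Ω`
  have hZΩ : Z ∈ Cfsg.Geo.omegaGL (Cfsg.quadFormOdd n F) := by
    apply invol_omega_mem hodd n Z hZiso hZ2 1 _ t ht1 _ htcond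
    · rw [hZlin, hzcyc, hPdim]
    · rw [hZlin, hzcyc]
      exact hPty
  have hUΩ : U ∈ Cfsg.Geo.omegaGL (Cfsg.quadFormOdd n F) := by
    apply omega_of_odd hodd n hn U hUiso
    rw [hoU]
    exact hpodd
  refine ⟨Z * U, Subgroup.mul_mem _ hZΩ hUΩ, ?_⟩
  rw [hZU.orderOf_mul_eq_mul_orderOf_of_coprime (by rw [hoZ, hoU]; exact (Nat.coprime_primes Nat.prime_two hpp).2 (Ne.symm hp2)),
    hoZ, hoU]

end Cfsg.Agent.Lib.Lead.BCG
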