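import Mathlib
import Cfsg.Agent.Lib.Lead.BCG.Defs
import Cfsg.Agent.Lib.Helper22.BCSB12

/-!
# Project BCG (designer lead), row R2 : `crit_arith`, verbatim (written by helper22).
-/

set_option autoImplicit false
set_option linter.unusedVariables false
set_option linter.style.haveILetI false

namespace Cfsg.Agent.Lib.Lead.BCG

open Polynomial Module Matrix Cfsg.Agent.Lib.Helper13.S5955 Cfsg.Agent.Lib.helper15.S5972
  Cfsg.Agent.Lib.Helper18.ONE Cfsg.Agent.Lib.Lead.BCS

/-- an odd number to any power is `1` or `3` mod `4` -/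
theorem bcgr2_odd_pow_mod (q n : ℕ) (hq : Odd q) : q ^ n % 4 = 1 ∨ q ^ n % 4 = 3 := by
  have h : Odd (q ^ n) := hq.pow
  obtain ⟨k, hk⟩ := h
  omega

/-- R2 [S-M] -/
theorem crit_arith (q n s : ℕ) (hq : Odd q) (hs : s.Prime) (hs2 : s ≠ 2) (hsq : ¬ s ∣ q)
    (hn : 1 ≤ n) (hc : cOf q s = 2 * n)
    (hcond : Odd (orderOf ((q : ℕ) : ZMod s)) ↔ q ^ n % 4 = 1) :
    (q % 4 = 1 ∧ s ∣ q ^ n - 1) ∨ (q ^ n % 4 = 3 ∧ s ∣ q ^ n + 1) := by
  haveI : Fact s.Prime := ⟨hs⟩
  have hpos : 1 ≤ q ^ n := Nat.one_le_pow _ _ (by rcases hq with ⟨k, hk⟩; omega)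
  unfold cOf at hc
  by_cases he : Even (orderOf ((q : ℕ) : ZMod s))
  · -- `i = 2n` even
    rw [if_pos he] at hc
    right
    have hnot : ¬ q ^ n % 4 = 1 := by
      intro h
      have := hcond.2 h
      exact (Nat.not_even_iff_odd.mpr this) he
    refine ⟨?_, ?_⟩
    · rcases bcgr2_odd_pow_mod q n hq with h | h
      · exact absurd h hnot
      · exact h
    · have h1 : ((q : ℕ) : ZMod s) ^ (2 * n) = 1 := by
        rw [← hc]
        exact pow_orderOf_eq_one _
      have h2 : ((q : ℕ) : ZMod s) ^ n ≠ 1 := by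
        intro h
        have := orderOf_dvd_of_pow_eq_one h
        rw [hc] at this
        have := Nat.le_of_dvd (by omega) this
        omega
      have h3 : (((q : ℕ) : ZMod s) ^ n - 1) * (((q : ℕ) : ZMod s) ^ n + 1) = 0 := by
        have : (((q : ℕ) : ZMod s) ^ n - 1) * (((q : ℕ) : ZMod s) ^ n + 1) =
            ((q : ℕ) : ZMod s) ^ (2 * n) - 1 := by ring
        rw [this, h1, sub_self]
      rcases mul_eq_zero.1 h3 with h | h
      · exact absurd (sub_eq_zero.1 h) h2
      · rw [← ZMod.natCast_eq_zero_iff]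
        push_cast
        exact h
  · -- `i = n` odd
    rw [if_neg he] at hc
    have hin : orderOf ((q : ℕ) : ZMod s) = n := by omega
    have hodd : Odd (orderOf ((q : ℕ) : ZMod s)) := Nat.not_even_iff_odd.mp he
    left
    have hqn := hcond.1 hodd
    refine ⟨?_, ?_⟩
    · rcases (bcsb12_pow_mod q n hq).1 hqn with h | h
      · rw [hin] at hodd
        exact absurd h (Nat.not_even_iff_odd.mpr hodd)
      · exact h
    · have h1 : ((q : ℕ) : ZMod s) ^ n = 1 := by
        rw [← hin]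
        exact pow_orderOf_eq_one _
      rw [← ZMod.natCast_eq_zero_iff, Nat.cast_sub hpos]
      push_cast
      rw [h1, sub_self]

end Cfsg.Agent.Lib.Lead.BCG
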