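import Mathlib
import Cfsg.Agent.Lib.Lead.BCG.Defs
import Cfsg.Agent.Lib.Helper24.BCGL3
import Cfsg.Agent.Lib.Helper20.BCGR1
import Cfsg.Agent.Lib.helper15.BCGX1h15
import Cfsg.Agent.Lib.Helper20.BCGA17
import Cfsg.Agent.Lib.helper2.BCGT2A
import Cfsg.Agent.Lib.helper7.BCSA9
import Cfsg.Agent.Lib.Helper16.BCGO6
import Cfsg.Agent.Lib.Helper11.BCGX3
import Cfsg.Agent.Lib.Helper11.BCGS5core

set_option autoImplicit false

/-!
# Project BCG, row S7 (second copy by helper22), CORE: `s_2s_nec` with the statement of S4 (`sq_neg_build`) as a hypothesis.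
L3 `ins_two_s` (Helper24), R1 `cof_facts` (Helper20), X1 `bcgx1_h15` (helper15), A17 `s_cyc_dim` (Helper20), T2a `altb_of_sctx` (helper2),
BCS A9 `bcs_invol_cyc` (helper7), O6 `o_type_cond` (Helper16).
-/

namespace Cfsg.Agent.Lib.Lead.BCG

open Polynomial Module Matrix Cfsg.Agent.Lib.Helper13.S5955 Cfsg.Agent.Lib.helper15.S5972
  Cfsg.Agent.Lib.Helper18.ONE Cfsg.Agent.Lib.Lead.BCS

/-- S7 with the conclusion of S4 (for the given `t`, `y`) as a hypothesis -/
theorem bcgs7_core {F : Type*} [Field F] [Fintype F] {p : ℕ} [Fact p.Prime] [CharP F p]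
    (hodd : Odd (Fintype.card F)) (n : ℕ) (hn : 3 ≤ n) (s : ℕ) [Fact s.Prime] (hsp : s ≠ p)
    (hs2 : s ≠ 2)
    (hS4 : cOf (Fintype.card F) s = 2 * n →
      ∀ t y : Matrix.symplecticGroup (Fin n) F, Commute t y → orderOf y = s →
        t * t = Cfsg.Agent.S0246.negOne F n →
        ∃ Z Y : GL (Unit ⊕ (Fin n ⊕ Fin n)) F, Z ∈ Cfsg.Geo.omegaGL (Cfsg.quadFormOdd n F) ∧
          Z ^ 2 = 1 ∧ Y ∈ Cfsg.isometryGroup F (Cfsg.quadFormOdd n F) ∧ Y ^ s = 1 ∧
          cycS 2 (Matrix.toLin'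
            (Z : Matrix (Unit ⊕ (Fin n ⊕ Fin n)) (Unit ⊕ (Fin n ⊕ Fin n)) F)) =
          cycS s (Matrix.toLin'
            (Y : Matrix (Unit ⊕ (Fin n ⊕ Fin n)) (Unit ⊕ (Fin n ⊕ Fin n)) F)) ∧
          finrank F (cycS s (Matrix.toLin'
            (Y : Matrix (Unit ⊕ (Fin n ⊕ Fin n)) (Unit ⊕ (Fin n ⊕ Fin n)) F))) = 2 * n)
    (h : 2 * s ∈ Set.range (orderOf : Cfsg.PSp n F → ℕ)) :
    Crit2 (Fintype.card F) n s := by
  have h2 : (2 : F) ≠ 0 := bcgs5_two_ne hodd
  have hsP : s.Prime := Fact.out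
  obtain ⟨hp2, hsq⟩ := bcgs5_char (p := p) hodd s hsP hsp
  obtain ⟨t, y, hty, hy, htt, ht1, htn⟩ := (ins_two_s h2 n (by omega) s hsP hs2).mp h
  obtain ⟨hceven, hc2, -⟩ := cof_facts (Fintype.card F) s hsP hs2 hsq
  unfold Crit2
  by_cases hcr : cOf (Fintype.card F) s + 2 ≤ 2 * n
  · exact Or.inl hcr
  right
  have hys : y ^ s = 1 := by rw [← hy]; exact pow_orderOf_eq_one y
  have hy1 : y ≠ 1 := by
    intro h1
    rw [h1, orderOf_one] at hy
    exact hsP.one_lt.ne hy
  set y' : Module.End F (Fin n ⊕ Fin n → F) :=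
    Matrix.toLin' ((y : Matrix.symplecticGroup (Fin n) F) :
      Matrix (Fin n ⊕ Fin n) (Fin n ⊕ Fin n) F) with hy'
  set t' : Module.End F (Fin n ⊕ Fin n → F) :=
    Matrix.toLin' ((t : Matrix.symplecticGroup (Fin n) F) :
      Matrix (Fin n ⊕ Fin n) (Fin n ⊕ Fin n) F) with ht'
  have hyctx : SCtx s (stdB n F) y' := bcgx1_h15 n y s hys
  have hyne : y' ≠ 1 := by
    intro h1
    apply hy1
    have := (sp_same n y 1).mpr (by rw [pow_one]; exact h1)
    rwa [pow_one] at this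
  obtain ⟨hgpos, hcdvd, hsum⟩ := s_cyc_dim (p := p) hsp hyctx hyne
  have hV : finrank F (Fin n ⊕ Fin n → F) = 2 * n := by
    rw [Module.finrank_fintype_fun_eq_card, Fintype.card_sum, Fintype.card_fin]
    ring
  rw [hV] at hsum
  set c := cOf (Fintype.card F) s with hc
  set g := finrank F (cycS s y') with hg
  have hcg : c ≤ g := Nat.le_of_dvd hgpos hcdvd
  have hg2n : g ≤ 2 * n := by omega
  have hc2n : c = 2 * n := by
    rcases hceven with ⟨k, hk⟩
    omega
  have hgeq : g = 2 * n := by omega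
  refine ⟨hc2n, ?_⟩
  have hfix0 : finrank F (fixS y') = 0 := by omega
  have hfix : fixS y' = ⊥ := Submodule.finrank_eq_zero.mp hfix0
  have hcyc : cycS s y' = ⊤ := by
    apply Submodule.eq_top_of_finrank_eq
    rw [← hg, hgeq, hV]
  rcases htt with htt | htt
  · -- `t * t = 1`: impossible
    exfalso
    have ht2 : t ^ 2 = 1 := by rw [pow_two]; exact htt
    have htctx : SCtx 2 (stdB n F) t' := bcgx1_h15 n t 2 ht2
    have hcomm : Commute t' y' := by
      show t' * y' = y' * t'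
      rw [hy', ht']
      have e1 : ((t : Matrix.symplecticGroup (Fin n) F) :
          Matrix (Fin n ⊕ Fin n) (Fin n ⊕ Fin n) F) *
          ((y : Matrix.symplecticGroup (Fin n) F) :
          Matrix (Fin n ⊕ Fin n) (Fin n ⊕ Fin n) F) =
          ((y : Matrix.symplecticGroup (Fin n) F) :
          Matrix (Fin n ⊕ Fin n) (Fin n ⊕ Fin n) F) *
          ((t : Matrix.symplecticGroup (Fin n) F) :
          Matrix (Fin n ⊕ Fin n) (Fin n ⊕ Fin n) F) := by
        rw [← Submonoid.coe_mul, ← Submonoid.coe_mul, hty.eq]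
      have e2 := congrArg Matrix.toLin' e1
      rw [Matrix.toLin'_mul, Matrix.toLin'_mul] at e2
      exact e2
    obtain ⟨hoy, htr⟩ := altb_of_sctx (hsP.odd_of_ne_two hs2) hyctx hfix
    have hot : OCtx 2 (altB (stdB n F) y' s) t' :=
      ⟨hoy.symm, hoy.nd, htr t' htctx.pres hcomm, htctx.pow⟩
    have hordc : OrdC (Fintype.card F) n s := ordc_of_cof hc2n
    rcases bcs_invol_cyc (p := p) h2 hsp hs2 hoy hot hcomm n (by omega) hordc
      (by rw [← hg, hgeq]) with hall | hall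
    · apply ht1
      have h1 : t' = 1 := by
        apply LinearMap.ext
        intro w
        rw [hall w (by rw [hcyc]; exact Submodule.mem_top), Module.End.one_apply]
      have := (sp_same n t 1).mpr (by rw [pow_one]; exact h1)
      rwa [pow_one] at this
    · apply htn
      have h1 : t' = -1 := by
        apply LinearMap.ext
        intro w
        rw [hall w (by rw [hcyc]; exact Submodule.mem_top)]
        simp
      apply Subtype.ext
      rw [Cfsg.Agent.S0246.negOne_coe]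
      apply Matrix.toLin'.injective
      rw [← ht', h1, map_neg, Matrix.toLin'_one]
      rfl
  · -- `t * t = negOne`: S4 and O6
    obtain ⟨Z, Y, hZ, hZ2, hY, hYs, heq, hdim⟩ := hS4 hc2n t y hty hy htt
    exact o_type_cond (p := p) hodd n (by omega) s hsp hs2 Z Y hZ hZ2 hY hYs heq hdim hc2n

end Cfsg.Agent.Lib.Lead.BCG
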