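import Mathlib
import Cfsg.Agent.Lib.Helper22.BCGS7core
import Cfsg.Agent.Lib.Helper20.BCGS4

set_option autoImplicit false

/-!
# Project BCG, row S7: SPARE second copy by helper22 under the name `bcgs7_h22` (same statement as `s_2s_nec`; the verbatim row is helper6's).
Skel route: `bcgs7_core` + S4 `sq_neg_build` (Helper20).
-/

namespace Cfsg.Agent.Lib.Lead.BCG

open Polynomial Module Matrix Cfsg.Agent.Lib.Helper13.S5955 Cfsg.Agent.Lib.helper15.S5972
  Cfsg.Agent.Lib.Helper18.ONE Cfsg.Agent.Lib.Lead.BCS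

/-- S7 (spare copy, same statement as `s_2s_nec`) -/
theorem bcgs7_h22 {F : Type*} [Field F] [Fintype F] {p : ℕ} [Fact p.Prime] [CharP F p]
    (hodd : Odd (Fintype.card F)) (n : ℕ) (hn : 3 ≤ n) (s : ℕ) [Fact s.Prime] (hsp : s ≠ p)
    (hs2 : s ≠ 2) (h : 2 * s ∈ Set.range (orderOf : Cfsg.PSp n F → ℕ)) :
    Crit2 (Fintype.card F) n s :=
  bcgs7_core (p := p) hodd n hn s hsp hs2
    (fun hc t y hty hy ht => sq_neg_build (p := p) hodd n (by omega) s hsp hs2 hc t y hty hy ht) h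

end Cfsg.Agent.Lib.Lead.BCG
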