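import Mathlib
import Cfsg.Agent.Lib.Lead.BCS.Defs

/-!
# Project BCS (designer lead), row C1 : `bcs_sp_emb`, verbatim (written by helper22).
`A ↦ A ⊕ 1₂` as `reindex e e (fromBlocks A 0 0 1)`.
-/

set_option autoImplicit false
set_option linter.unusedVariables false
set_option linter.unusedSectionVars false

namespace Cfsg.Agent.Lib.Lead.BCS

open Polynomial Module Matrix Cfsg.Agent.Lib.Helper13.S5955 Cfsg.Agent.Lib.helper15.S5972
  Cfsg.Agent.Lib.Helper18.ONE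

/-- the reindexing `(Fin m ⊕ Fin m) ⊕ (Fin 1 ⊕ Fin 1) ≃ Fin (m+1) ⊕ Fin (m+1)` -/
def bcsc1_e (m : ℕ) : (Fin m ⊕ Fin m) ⊕ (Fin 1 ⊕ Fin 1) ≃ Fin (m + 1) ⊕ Fin (m + 1) :=
  (Equiv.sumSumSumComm (Fin m) (Fin m) (Fin 1) (Fin 1)).trans
    (Equiv.sumCongr finSumFinEquiv finSumFinEquiv)

/-- the block embedding at the level of matrices -/
def bcsc1_psi {F : Type*} [Field F] (m : ℕ) (A : Matrix (Fin m ⊕ Fin m) (Fin m ⊕ Fin m) F) :
    Matrix (Fin (m + 1) ⊕ Fin (m + 1)) (Fin (m + 1) ⊕ Fin (m + 1)) F :=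
  (Matrix.fromBlocks A 0 0 (1 : Matrix (Fin 1 ⊕ Fin 1) (Fin 1 ⊕ Fin 1) F)).submatrix
    (bcsc1_e m).symm (bcsc1_e m).symm

theorem bcsc1_psi_mul {F : Type*} [Field F] (m : ℕ) (A B : Matrix (Fin m ⊕ Fin m) (Fin m ⊕ Fin m) F) :
    bcsc1_psi m (A * B) = bcsc1_psi m A * bcsc1_psi m B := by
  unfold bcsc1_psi
  rw [Matrix.submatrix_mul_equiv, Matrix.fromBlocks_multiply]
  simp

theorem bcsc1_psi_one {F : Type*} [Field F] (m : ℕ) :
    bcsc1_psi m (1 : Matrix (Fin m ⊕ Fin m) (Fin m ⊕ Fin m) F) = 1 := by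
  unfold bcsc1_psi
  rw [Matrix.fromBlocks_one, Matrix.submatrix_one_equiv]

theorem bcsc1_psi_transpose {F : Type*} [Field F] (m : ℕ) (A : Matrix (Fin m ⊕ Fin m) (Fin m ⊕ Fin m) F) :
    (bcsc1_psi m A)ᵀ = bcsc1_psi m Aᵀ := by
  unfold bcsc1_psi
  rw [Matrix.transpose_submatrix, Matrix.fromBlocks_transpose]
  simp

theorem bcsc1_J {F : Type*} [Field F] (m : ℕ) :
    Matrix.J (Fin (m + 1)) F =
      (Matrix.fromBlocks (Matrix.J (Fin m) F) 0 0 (Matrix.J (Fin 1) F)).submatrix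
        (bcsc1_e m).symm (bcsc1_e m).symm := by
  have h : (Matrix.J (Fin (m + 1)) F).submatrix (bcsc1_e m) (bcsc1_e m) =
      Matrix.fromBlocks (Matrix.J (Fin m) F) 0 0 (Matrix.J (Fin 1) F) := by
    ext i j
    rcases i with (i | i) | (i | i) <;> rcases j with (j | j) | (j | j) <;>
      simp [Matrix.J, bcsc1_e, Matrix.one_apply, Fin.ext_iff] <;> omega
  rw [← h]
  ext i j
  simp

theorem bcsc1_psi_mem {F : Type*} [Field F] (m : ℕ) (A : Matrix (Fin m ⊕ Fin m) (Fin m ⊕ Fin m) F)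
    (hA : A ∈ Matrix.symplecticGroup (Fin m) F) :
    bcsc1_psi m A ∈ Matrix.symplecticGroup (Fin (m + 1)) F := by
  rw [SymplecticGroup.mem_iff] at hA ⊢
  rw [bcsc1_psi_transpose, bcsc1_J]
  unfold bcsc1_psi
  rw [Matrix.submatrix_mul_equiv, Matrix.submatrix_mul_equiv, Matrix.fromBlocks_multiply,
    Matrix.fromBlocks_multiply]
  congr 1
  have h1 : (1 : Matrix (Fin 1 ⊕ Fin 1) (Fin 1 ⊕ Fin 1) F)ᵀ = 1 := Matrix.transpose_one
  simp only [Matrix.mul_zero, Matrix.zero_mul, add_zero, zero_add, Matrix.one_mul, Matrix.mul_one, hA]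

theorem bcsc1_psi_inj {F : Type*} [Field F] (m : ℕ) (A B : Matrix (Fin m ⊕ Fin m) (Fin m ⊕ Fin m) F)
    (h : bcsc1_psi m A = bcsc1_psi m B) : A = B := by
  unfold bcsc1_psi at h
  have h2 : Matrix.fromBlocks A 0 0 (1 : Matrix (Fin 1 ⊕ Fin 1) (Fin 1 ⊕ Fin 1) F) =
      Matrix.fromBlocks B 0 0 1 := by
    ext i j
    have := congrFun (congrFun h (bcsc1_e m i)) (bcsc1_e m j)
    simpa using this
  exact (Matrix.fromBlocks_inj.mp h2).1

/-- C1 [M] -/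
theorem bcs_sp_emb {F : Type*} [Field F] (m : ℕ) :
    ∃ (φ : Matrix.symplecticGroup (Fin m) F →* Matrix.symplecticGroup (Fin (m + 1)) F)
      (u : Fin (m + 1) ⊕ Fin (m + 1) → F), Function.Injective φ ∧ u ≠ 0 ∧
      ∀ b : Matrix.symplecticGroup (Fin m) F,
        (φ b : Matrix (Fin (m + 1) ⊕ Fin (m + 1)) (Fin (m + 1) ⊕ Fin (m + 1)) F) *ᵥ u = u := by
  classical
  let φ : Matrix.symplecticGroup (Fin m) F →* Matrix.symplecticGroup (Fin (m + 1)) F :=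
    { toFun := fun b => ⟨bcsc1_psi m (b : Matrix (Fin m ⊕ Fin m) (Fin m ⊕ Fin m) F), bcsc1_psi_mem m _ b.2⟩
      map_one' := by
        apply Subtype.ext
        exact bcsc1_psi_one m
      map_mul' := by
        intro a b
        apply Subtype.ext
        exact bcsc1_psi_mul m _ _ }
  let w : (Fin m ⊕ Fin m) ⊕ (Fin 1 ⊕ Fin 1) → F :=
    Sum.elim (0 : Fin m ⊕ Fin m → F) (Pi.single (Sum.inl 0) 1 : Fin 1 ⊕ Fin 1 → F)
  refine ⟨φ, w ∘ (bcsc1_e m).symm, ?_, ?_, ?_⟩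
  · intro a b hab
    apply Subtype.ext
    apply bcsc1_psi_inj m
    exact congrArg Subtype.val hab
  · intro h
    have h1 := congrFun h (bcsc1_e m (Sum.inr (Sum.inl 0)))
    simp [w] at h1
  · intro b
    show bcsc1_psi m (b : Matrix (Fin m ⊕ Fin m) (Fin m ⊕ Fin m) F) *ᵥ (w ∘ (bcsc1_e m).symm) = _
    unfold bcsc1_psi
    rw [Matrix.submatrix_mulVec_equiv]
    have hw : (w ∘ (bcsc1_e m).symm) ∘ (bcsc1_e m).symm.symm = w := by
      funext x
      simp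
    rw [hw]
    congr 1
    simp only [w]
    rw [Matrix.fromBlocks_mulVec]
    funext x
    rcases x with x | x
    · have h0 : (Sum.elim (0 : Fin m ⊕ Fin m → F)
          (Pi.single (Sum.inl 0) 1 : Fin 1 ⊕ Fin 1 → F)) ∘ Sum.inl = 0 := by
        funext y
        simp
      rw [h0]
      simp only [Sum.elim_inl, Matrix.mulVec_zero, Matrix.zero_mulVec, add_zero, Pi.zero_apply]
    · have h1 : (Sum.elim (0 : Fin m ⊕ Fin m → F)
          (Pi.single (Sum.inl 0) 1 : Fin 1 ⊕ Fin 1 → F)) ∘ Sum.inr =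
            (Pi.single (Sum.inl 0) 1 : Fin 1 ⊕ Fin 1 → F) := by
        funext y
        simp only [Function.comp_apply, Sum.elim_inr]
      rw [h1]
      simp only [Sum.elim_inr, Matrix.zero_mulVec, Matrix.one_mulVec, zero_add]

end Cfsg.Agent.Lib.Lead.BCS
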