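import Mathlib
import Cfsg.Agent.Lib.helper7.BD.D1Defs
import Cfsg.Agent.Lib.helper7.BD.D1Defs2
import Cfsg.Agent.Lib.helper7.Clifford
import Cfsg.Agent.Lib.Helper24.CyclicInertial3
import Cfsg.Agent.Lib.Helper13.BD4VAL0
import Cfsg.Agent.Lib.Helper24.BD3VAL
import Cfsg.Agent.Lib.helper14.BD4SINGCONJ
import Cfsg.Agent.Lib.Lead.BD4THETAPOW

/-!
# Project BD, stage B, wave 4, piece XRAT : the non-exceptional characters are `p`-rational
-/

set_option autoImplicit false
set_option linter.unusedVariables false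
set_option linter.unusedSectionVars false
set_option linter.style.haveILetI false

namespace Cfsg.Agent.Lib.helper7.BD

open Cfsg.Agent.Lib.helper7

universe u

/-- a `p`-regular element of a finite group is fixed by the power maps `g ↦ g ^ m`, `m ≡ 1` modulo the `p'`-part of
the group order -/
theorem bd4xrat_regular_pow {G : Type u} [Group G] [Finite G] {p : ℕ} [Fact p.Prime] (m : ℕ)
    (hm1 : m ≡ 1 [MOD Nat.card G / p ^ (Nat.card G).factorization p]) (g : G)
    (hg : ¬ p ∣ orderOf g) : g ^ m = g := by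
  have hp := (Fact.out : p.Prime)
  have hdvd : orderOf g ∣ Nat.card G := orderOf_dvd_natCard g
  have hsplit : p ^ (Nat.card G).factorization p * (Nat.card G / p ^ (Nat.card G).factorization p) =
      Nat.card G := Nat.ordProj_mul_ordCompl_eq_self (Nat.card G) p
  have hcop : Nat.Coprime (orderOf g) (p ^ (Nat.card G).factorization p) := by
    apply Nat.Coprime.pow_right
    exact ((Nat.Prime.coprime_iff_not_dvd hp).mpr hg).symm
  have hdvd' : orderOf g ∣ Nat.card G / p ^ (Nat.card G).factorization p := by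
    rw [← hsplit] at hdvd
    exact hcop.dvd_of_dvd_mul_left hdvd
  have h1 : m ≡ 1 [MOD orderOf g] := hm1.of_dvd hdvd'
  have h2 : g ^ m = g ^ 1 := (pow_eq_pow_iff_modEq).mpr h1
  rw [h2, pow_one]

section root

variable {G : Type u} [Group G] [Fintype G] {M : Ideal Cfsg.AlgInt} {p : ℕ} [Fact p.Prime]
  {P : Sylow p G} {B : Set (Cfsg.IrrCharacter G)}
  {b : Set (Cfsg.IrrCharacter (Subgroup.centralizer ((P : Subgroup G) : Set G)))}
  {θ : Cfsg.IrrCharacter (Subgroup.centralizer ((P : Subgroup G) : Set G))} {T : Subgroup G}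

variable [Fintype ↥(Subgroup.centralizer ((P : Subgroup G) : Set G))]
  [Fintype ↥(Subgroup.normalizer ((P : Subgroup G) : Set G))]

/-- XRAT : the non-exceptional characters are `p`-rational -/
theorem root_X_rational (h : RootHyp p M P B b θ T) {t : ℕ}
    (r : Fin t → Cfsg.IrrCharacter (Subgroup.centralizer ((P : Subgroup G) : Set G)))
    (hr : IsReps P b θ T ((Subgroup.centralizer ((P : Subgroup G) : Set G)).relIndex T) t r)
    (χ : Cfsg.IrrCharacter G) (hχ : χ ∈ B) (ε : ℤ)
    (hmul : ∀ j,
      Cfsg.classInner (r j : ↥(Subgroup.centralizer ((P : Subgroup G) : Set G)) → ℂ)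
          (fun c : ↥(Subgroup.centralizer ((P : Subgroup G) : Set G)) => (χ : G → ℂ) (c : G)) -
        Cfsg.classInner (θ : ↥(Subgroup.centralizer ((P : Subgroup G) : Set G)) → ℂ)
          (fun c : ↥(Subgroup.centralizer ((P : Subgroup G) : Set G)) => (χ : G → ℂ) (c : G)) =
        ((ε : ℤ) : ℂ))
    (m : ℕ) (hm : m.Coprime (Nat.card G))
    (hm1 : m ≡ 1 [MOD Nat.card G / p ^ (Nat.card G).factorization p]) (g : G) :
    (χ : G → ℂ) (g ^ m) = (χ : G → ℂ) g := by
  classical
  have hp := (Fact.out : p.Prime)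
  by_cases hg : p ∣ orderOf g
  · -- `p`-singular
    obtain ⟨k, hk⟩ := sing_conj_mem_centralizer P h.card_P g hg
    have hcl := h7_irr_isClassFunction χ.2
    set c : ↥(Subgroup.centralizer ((P : Subgroup G) : Set G)) := ⟨k * g * k⁻¹, hk⟩ with hc
    have hcg : (c : G) = k * g * k⁻¹ := rfl
    have hcm : ((c ^ m : ↥(Subgroup.centralizer ((P : Subgroup G) : Set G))) : G) =
        k * g ^ m * k⁻¹ := by
      rw [Subgroup.coe_pow, hcg, conj_pow]
    have hoc : orderOf c = orderOf g := by
      rw [← Subgroup.orderOf_coe, hcg]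
      have := (MulAut.conj k).orderOf_eq g
      rwa [MulAut.conj_apply] at this
    have hpc : p ∣ orderOf c := hoc ▸ hg
    have hcopc : Nat.Coprime (orderOf c) m := by
      have h1 : orderOf c ∣ Nat.card G := by
        rw [hoc]
        exact orderOf_dvd_natCard g
      exact (Nat.Coprime.coprime_dvd_right h1 hm).symm
    have hpcm : p ∣ orderOf (c ^ m) := by
      rw [hcopc.orderOf_pow]
      exact hpc
    have hV1 := bd4val_X_of h r hr χ hχ ε hmul (c ^ m) hpcm (root_value_sing h χ hχ (c ^ m) hpcm)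
    have hV2 := bd4val_X_of h r hr χ hχ ε hmul c hpc (root_value_sing h χ hχ c hpc)
    have hsum : ∑ n : ↥(Subgroup.normalizer ((P : Subgroup G) : Set G)),
        (cjIrr (Subgroup.centralizer ((P : Subgroup G) : Set G)) (n : G) θ :
          ↥(Subgroup.centralizer ((P : Subgroup G) : Set G)) → ℂ) (c ^ m) =
        ∑ n : ↥(Subgroup.normalizer ((P : Subgroup G) : Set G)),
        (cjIrr (Subgroup.centralizer ((P : Subgroup G) : Set G)) (n : G) θ :
          ↥(Subgroup.centralizer ((P : Subgroup G) : Set G)) → ℂ) c := by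
      apply Finset.sum_congr rfl
      intro n _
      have hn : (n : G) ∈ Subgroup.normalizer
          ((Subgroup.centralizer ((P : Subgroup G) : Set G) : Subgroup G) : Set G) :=
        Cfsg.Agent.Lib.Helper24.ci_normalizer_le (P : Subgroup G) n.2
      rw [cjIrr_apply _ hn, cjIrr_apply _ hn, map_pow]
      exact root_theta_pow h m hm hm1 _
    rw [hsum, ← hV2, hcm, hcg, hcl, hcl] at hV1
    have hT : (Nat.card T : ℂ) ≠ 0 := by
      have : 0 < Nat.card T := Nat.card_pos
      exact_mod_cast this.ne'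
    exact mul_left_cancel₀ hT hV1
  · rw [bd4xrat_regular_pow m hm1 g hg]

end root

end Cfsg.Agent.Lib.helper7.BD
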