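import Mathlib
import Cfsg.Agent.Lib.Helper10.BGL.AlgDefs
import Cfsg.Agent.Lib.helper8.ChevBaseAll
import Cfsg.Agent.Lib.helper8.ChevUnits
import Cfsg.Agent.Lib.helper8.ChevBN2

/-!
# Project BGL (designer helper10), block ALG, row AL3 (`alg_word`), VERBATIM (helper22)
-/

set_option autoImplicit false

namespace Cfsg.Agent.Lib.Helper10.BGL

open Cfsg.Lie Cfsg.Lie.ChevalleyDatum Cfsg.Agent.Lib.helper8 Cfsg.Agent.Lib.helper7.Sf

universe u

/-- the inverse of a word in root elements is the reversed word with the opposite parameters -/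
theorem bglal3_wordU_inv (D : ChevalleyDatum) (hB : H8Base.{u} D) {k : Type u} [Field k] (w : List (ℕ × k)) :
    (h8wordU D hB w)⁻¹ = h8wordU D hB (w.reverse.map fun p => (p.1, -p.2)) := by
  induction w with
  | nil => simp [h8wordU]
  | cons p w ih =>
    rw [h8wordU_cons, mul_inv_rev, ih, h8xU_inv, List.reverse_cons, List.map_append, h8wordU_append]
    congr 1
    simp [h8wordU]

/-- AL3 [S].  Closure induction; `x_r(t)⁻¹ = x_r(-t)` (`h8xU_inv`, `h8base_all`), concatenate
words (`h8wordMat_append`), generators of `D.group` are `D.xMat k r t = D.x k r t`. -/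
theorem alg_word (D : ChevalleyDatum)
    (hD : D ∈ [chevG2, chevB2, chevD4, chevF4, chevE6, chevE7, chevE8])
    {k : Type u} [Field k] (g : GL D.Idx k) (hg : g ∈ D.group k) :
    ∃ w : List (ℕ × k), (g : Matrix D.Idx D.Idx k) = D.wordMat k w := by
  have hB : H8Base.{u} D := h8base_all D hD
  unfold ChevalleyDatum.group at hg
  induction hg using Subgroup.closure_induction with
  | mem x hx =>
    obtain ⟨r, t, hx⟩ := hx
    refine ⟨[(r.val, t)], ?_⟩
    rw [hx, h8wordMat_cons, h8wordMat_nil, mul_one]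
    unfold ChevalleyDatum.x
    rw [dif_pos r.isLt]
  | one => exact ⟨[], by rw [h8wordMat_nil]; rfl⟩
  | mul x y _ _ hx hy =>
    obtain ⟨w1, h1⟩ := hx
    obtain ⟨w2, h2⟩ := hy
    exact ⟨w1 ++ w2, by rw [h8wordMat_append, ← h1, ← h2]; rfl⟩
  | inv x _ hx =>
    obtain ⟨w, hw⟩ := hx
    have h1 : x = h8wordU D hB w := by
      apply Units.ext
      rw [hw, h8wordU_val]
    refine ⟨w.reverse.map fun p => (p.1, -p.2), ?_⟩
    rw [h1, bglal3_wordU_inv, h8wordU_val]

end Cfsg.Agent.Lib.Helper10.BGL
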