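import Mathlib
import Cfsg.Agent.Lib.helper14.BGL.UKDefs
import Cfsg.Agent.Lib.helper14.ChevNormVk
import Cfsg.Agent.Lib.helper14.ChevFiltAll
import Cfsg.Agent.Lib.helper8.ChevCommAll
import Cfsg.Agent.Lib.helper8.ChevOrdAll
import Cfsg.Agent.Lib.helper8.ChevHProd
import Cfsg.Agent.Lib.helper8.ChevBN2
import Cfsg.Agent.Lib.Helper25.BGLPC05
import Cfsg.Agent.Lib.helper14.BGLUKL4
import Cfsg.Agent.Lib.helper14.BGLUKT2
import Cfsg.Agent.Lib.helper23.BGLUKB2

/-!
# BGL block UK, row UKC1 (helper22): CORE of `uk_ind`

`bglukc1b_core` (names with `b`: helper14 landed a backup core `helper14.BGLUKC1core.bglukc1_core` at the same time): the downward induction for `uk_main`, with the statements of the rows UKS5 `uk_spec_B2` and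
UKS6 `uk_spec_F4` as hypotheses (`hS5 hS6`); UKL5 `uk_kap_lead`, UKT2 `ukLT_up`, UKB1 `uk_x_mem`, UKB2 `uk_rat_lead`
are cited from main.
-/

set_option autoImplicit false

namespace Cfsg.Agent.Lib.helper14.BGLUK

open Cfsg.Lie Cfsg.Lie.ChevalleyDatum Cfsg.Agent.Lib.helper8 Cfsg.Agent.Lib.helper14
  Cfsg.Agent.Lib.Helper10.BGL

universe u

variable {K : Type u} [Field K]

/-- `V_m = V_{m+1}` if `m` is not a positive root. -/
theorem bglukc1b_V_skip (D : ChevalleyDatum) (m : ℕ) (hm : ¬ D.IsPosRoot m) : ukV D K m ≤ ukV D K (m + 1) := by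
  unfold ukV
  apply Subgroup.closure_mono
  rintro g ⟨r, t, hr, hmr, hg⟩
  refine ⟨r, t, hr, ?_, hg⟩
  rcases Nat.eq_or_lt_of_le hmr with e | e
  · subst e; exact absurd hr hm
  · exact e

/-- the filtration is decreasing -/
theorem bglukc1b_V_mono (D : ChevalleyDatum) {m m' : ℕ} (h : m ≤ m') : ukV D K m' ≤ ukV D K m := by
  unfold ukV
  apply Subgroup.closure_mono
  rintro g ⟨r, t, hr, hmr, hg⟩
  exact ⟨r, t, hr, le_trans h hmr, hg⟩

/-- `x_m(t) ∈ V_m` -/
theorem bglukc1b_x_mem_V (D : ChevalleyDatum) (hB : H8Base.{u} D) (m : ℕ) (hm : D.IsPosRoot m) (t : K) :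
    h8xU D hB m t ∈ ukV D K m :=
  Subgroup.subset_closure ⟨m, t, hm, le_refl _, h8xU_val D hB m t⟩

section C

variable [Finite K] [CharP K 2]

/-- CORE of UKC1 `uk_ind`; `hS5 hS6` are the statements of `uk_spec_B2`, `uk_spec_F4`. -/
theorem bglukc1b_core (D : ChevalleyDatum) (hD : Seven D) (a : ℕ) (H : Subgroup (GL D.Idx K))
    (hL : Lq D K (2 ^ a) ≤ H) (hR : RootRat D (2 ^ a) H)
    (hS5 : D = chevB2 → ∀ (hB : H8Base.{u} D) (t1 : K) (v : GL D.Idx K), v ∈ ukV D K 7 →
      h8xU D hB 6 t1 * v ∈ H → t1 ^ 2 ^ a = t1)
    (hS6 : D = chevF4 → ∀ (hB : H8Base.{u} D),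
      (∀ g ∈ H, g ∈ ukV D K 45 → g ∈ ratS (K := K) 2 D a) →
      ∀ (t1 : K) (v : GL D.Idx K), v ∈ ukV D K 45 → h8xU D hB 44 t1 * v ∈ H → t1 ^ 2 ^ a = t1) :
    ∀ n m : ℕ, m + n = D.nroots → ∀ g ∈ H, g ∈ ukV D K m → g ∈ ratS (K := K) 2 D a := by
  have hB := h8base_all.{u} D hD
  have hC : H8CommAll.{u} D := h8commAll D hD
  obtain ⟨hO, hO2⟩ := h8ord_all D hD
  have hM := cfMax_all D hD
  have : Fact (Nat.Prime 2) := ⟨Nat.prime_two⟩
  intro n
  induction n using Nat.strong_induction_on with
  | _ n ih =>
    intro m hm g hg hgV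
    rcases Nat.eq_zero_or_pos n with hn0 | hnpos
    · -- `m = nroots`
      have hbot : ukV D K m = ⊥ := cf_Vk_top D m (by omega)
      rw [hbot, Subgroup.mem_bot] at hgV
      rw [hgV]
      exact Subgroup.one_mem _
    · by_cases hpos : D.IsPosRoot m
      · obtain ⟨t, v, hv, rfl⟩ := h8Vk_step D hB hC hO m hpos g hgV
        have hv' : v ∈ ukV D K (m + 1) := hv
        -- the induction hypothesis for larger indices
        have hIH : ∀ m' : ℕ, m < m' → m' ≤ D.nroots → ∀ g ∈ H, g ∈ ukV D K m' → g ∈ ratS (K := K) 2 D a := by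
          intro m' hmm' hm'n g hg hgV
          exact ih (D.nroots - m') (by omega) m' (by omega) g hg hgV
        -- the leading coefficient is rational
        have ht : t ^ 2 ^ a = t := by
          by_cases h1 : m + 1 = D.nroots
          · -- the highest root
            have hbot : ukV D K (m + 1) = ⊥ := cf_Vk_top D (m + 1) (by omega)
            rw [hbot, Subgroup.mem_bot] at hv'
            rw [hv', mul_one] at hg
            exact hR m hpos.1 t _ (h8xU_val D hB m t) hg
          · by_cases h2 : D.nroots = 8 ∧ m = 6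
            · -- `B₂`, `m = 6`
              obtain ⟨h2a, h2b⟩ := h2
              have hDB : D = chevB2 := by
                simp only [Seven, List.mem_cons, List.not_mem_nil, or_false] at hD
                rcases hD with rfl | rfl | rfl | rfl | rfl | rfl | rfl
                · exact absurd h2a (by decide)
                · rfl
                · exact absurd h2a (by decide)
                · exact absurd h2a (by decide)
                · exact absurd h2a (by decide)
                · exact absurd h2a (by decide)
                · exact absurd h2a (by decide)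
              subst h2b
              exact hS5 hDB hB t v hv' hg
            · by_cases h3 : D.nroots = 48 ∧ m = 44
              · obtain ⟨h3a, h3b⟩ := h3
                have hDF : D = chevF4 := by
                  simp only [Seven, List.mem_cons, List.not_mem_nil, or_false] at hD
                  rcases hD with rfl | rfl | rfl | rfl | rfl | rfl | rfl
                  · exact absurd h3a (by decide)
                  · exact absurd h3a (by decide)
                  · exact absurd h3a (by decide)
                  · rfl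
                  · exact absurd h3a (by decide)
                  · exact absurd h3a (by decide)
                  · exact absurd h3a (by decide)
                subst h3b
                exact hS6 hDF hB (hIH 45 (by omega) (by omega)) t v hv' hg
              · -- generic: a table row going up
                obtain ⟨γ, m', hLT, hmm'⟩ := ukLT_up D hD m hpos h1 h2 h3
                obtain ⟨w, hw, hkap⟩ := uk_kap_lead D hB hC hO hM m γ m' hLT t v hv'
                have hxγ : h8xU D hB γ (1 : K) ∈ Lq D K (2 ^ a) := (uk_x_mem 2 D hB a γ 1 (one_pow _)).1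
                have hxγH : h8xU D hB γ (1 : K) ∈ H := hL hxγ
                have hkg : ukKap D hB γ (h8xU D hB m t * v) ∈ H := by
                  unfold ukKap
                  exact H.mul_mem (H.mul_mem (H.mul_mem (H.inv_mem hxγH) (H.inv_mem hg)) hxγH) hg
                have hkV : ukKap D hB γ (h8xU D hB m t * v) ∈ ukV D K m' := by
                  rw [hkap]
                  exact Subgroup.mul_mem _ (bglukc1b_x_mem_V D hB m' hLT.hm' t)
                    (bglukc1b_V_mono D (Nat.le_succ m') hw)
                have hkrat := hIH m' hmm' (le_of_lt hLT.hm'.1) _ hkg hkV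
                rw [hkap] at hkrat
                exact uk_rat_lead 2 D hB hO2 a m' hLT.hm' t w hw hkrat
        obtain ⟨hx1, hx2⟩ := uk_x_mem 2 D hB a m t ht
        have hvH : v ∈ H := by
          have e : v = (h8xU D hB m t)⁻¹ * (h8xU D hB m t * v) := by group
          rw [e]
          exact H.mul_mem (H.inv_mem (hL hx1)) hg
        have hvr := hIH (m + 1) (by omega) (by have := hpos.1; omega) v hvH hv'
        exact Subgroup.mul_mem _ hx2 hvr
      · exact ih (n - 1) (by omega) (m + 1) (by omega) g hg (bglukc1b_V_skip D m hpos hgV)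

end C

end Cfsg.Agent.Lib.helper14.BGLUK
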