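import Mathlib
import Cfsg.Agent.Lib.Helper22.BGLUKC1core
import Cfsg.Agent.Lib.Helper10.BGLUKS5
import Cfsg.Agent.Lib.Helper10.BGLUKS6

/-!
# BGL block UK, row UKC1 `uk_ind` (helper22): VERBATIM wrapper of `bglukc1b_core` on UKS5 `uk_spec_B2` and UKS6 `uk_spec_F4` (Helper10).
-/

set_option autoImplicit false

namespace Cfsg.Agent.Lib.helper14.BGLUK

open Cfsg.Lie Cfsg.Lie.ChevalleyDatum Cfsg.Agent.Lib.helper8 Cfsg.Agent.Lib.helper14
  Cfsg.Agent.Lib.Helper10.BGL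

universe u

variable {K : Type u} [Field K]

section C

variable [Finite K] [CharP K 2]

/-- UKC1 [M].  downward induction on `m`. -/
theorem uk_ind (D : ChevalleyDatum) (hD : Seven D) (a : ℕ) (H : Subgroup (GL D.Idx K))
    (hL : Lq D K (2 ^ a) ≤ H) (hR : RootRat D (2 ^ a) H) :
    ∀ n m : ℕ, m + n = D.nroots → ∀ g ∈ H, g ∈ ukV D K m → g ∈ ratS (K := K) 2 D a :=
  bglukc1b_core D hD a H hL hR
    (fun hDB hB t1 v hv hg => by subst hDB; exact uk_spec_B2 hB a H hL hR t1 v hv hg)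
    (fun hDF hB hIH t1 v hv hg => by subst hDF; exact uk_spec_F4 hB a H hL hR hIH t1 v hv hg)

end C

end Cfsg.Agent.Lib.helper14.BGLUK
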