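import Mathlib
import Cfsg.Agent.Lib.Helper28.BP2.Defs
import Cfsg.Agent.S2302

/-!
# Project BP2 (helper28, S5736), row AE1 (`invol_conj_char2`), verbatim.
-/

set_option autoImplicit false

namespace Cfsg.Agent.Lib.Helper28.BP2

open Cfsg.Agent.Lib.helper14

universe u v w

section AEven

variable {F : Type u} [Field F] [Fintype F]

omit [Fintype F] in
/-- in characteristic 2 the centre of `SL₂(F)` is trivial, so `pr` is injective (own copy of U3). -/
theorem bp2ae1_pr_inj [CharP F 2] : Function.Injective (pr F) := by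
  rw [injective_iff_map_eq_one]
  intro g hg
  have hker : g ∈ (pr F).ker := hg
  rw [pr, QuotientGroup.ker_mk'] at hker
  rw [Matrix.SpecialLinearGroup.mem_center_iff] at hker
  obtain ⟨r, hr, hrg⟩ := hker
  rw [Fintype.card_fin] at hr
  have h2 : (2 : F) = 0 := by exact_mod_cast CharP.cast_eq_zero F 2
  have hr1 : r = 1 := by
    have : (r - 1) ^ 2 = 0 := by linear_combination hr + (1 - r) * h2
    exact sub_eq_zero.mp (pow_eq_zero_iff (two_ne_zero) |>.mp this)
  apply Subtype.ext
  rw [← hrg, hr1, map_one]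
  rfl

omit [Fintype F] in
theorem bp2ae1_pr_surj : Function.Surjective (pr F) := QuotientGroup.mk'_surjective _

/-- **AE1**  (S2302 through U3). -/
theorem invol_conj_char2 [CharP F 2] :
    ∀ x y : PSL2 F, orderOf x = 2 → orderOf y = 2 → IsConj x y := by
  intro x y hx hy
  obtain ⟨g, rfl⟩ := bp2ae1_pr_surj x
  obtain ⟨h, rfl⟩ := bp2ae1_pr_surj y
  rw [orderOf_injective (pr F) bp2ae1_pr_inj] at hx hy
  exact (pr F).map_isConj (Cfsg.Agent.S2302.result g h hx hy).1

end AEven

end Cfsg.Agent.Lib.Helper28.BP2
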