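import Mathlib
import Cfsg.Agent.Lib.Helper28.BP2.Defs
import Cfsg.Agent.Lib.Helper22.BP2AE1

/-!
# Project BP2 (helper28, S5736), row AE2 (`stepA_even`): core on the statements of U6, T3, T10, G1, B3.
-/

set_option autoImplicit false

namespace Cfsg.Agent.Lib.Helper28.BP2

open Cfsg.Agent.Lib.helper14

universe u v w

section AEven

variable {F : Type u} [Field F]

theorem bp2ae2_mem_PU (s : PSL2 F) : s ∈ PU F ↔ ∃ x : F, pr F (uS x) = s := by
  constructor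
  · rintro ⟨g, hg, rfl⟩
    obtain ⟨x, rfl⟩ := (mem_US g).mp hg
    exact ⟨x, rfl⟩
  · rintro ⟨x, rfl⟩
    exact ⟨uS x, uS_mem x, rfl⟩

theorem bp2ae2_order [CharP F 2] (x : F) (hx : x ≠ 0) : orderOf (pr F (uS x)) = 2 := by
  have h2 : (2 : F) = 0 := by exact_mod_cast CharP.cast_eq_zero F 2
  apply orderOf_eq_prime
  · rw [pow_two, ← map_mul, uS_mul]
    have : x + x = 0 := by linear_combination x * h2
    rw [this, uS_zero, map_one]
  · intro h
    rw [← map_one (pr F)] at h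
    have h1 := bp2ae1_pr_inj h
    rw [← uS_zero] at h1
    exact hx (uS_injective h1)

theorem bp2ae2_comm (x y : F) : Commute (pr F (uS x)) (pr F (uS y)) := by
  unfold Commute SemiconjBy
  rw [← map_mul, ← map_mul, uS_mul, uS_mul, add_comm]

theorem bp2ae2_map_conj_top {G : Type u} [Group G] (H : Subgroup G) (g : G)
    (h : H.map (MulAut.conj g).toMonoidHom = ⊤) : H = ⊤ := by
  rw [eq_top_iff]
  intro x _
  have hx : (MulAut.conj g) x ∈ H.map (MulAut.conj g).toMonoidHom := by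
    rw [h]
    exact Subgroup.mem_top _
  obtain ⟨y, hy, hyx⟩ := hx
  have : y = x := (MulAut.conj g).injective hyx
  rwa [← this]

/-- AE2 core. -/
theorem bp2ae2_core [Finite (PSL2 F)] [CharP F 2]
    (hU6 : ∀ P : Sylow 2 (PSL2 F), ∃ g : PSL2 F,
      (P : Subgroup (PSL2 F)) = (PU F).map (MulAut.conj g).toMonoidHom)
    (hT3 : ∀ (H : Subgroup (PSL2 F)) (g : PSL2 F),
      BinS (H.map (MulAut.conj g).toMonoidHom) ↔ BinS H)
    (hT10 : ∀ H : Subgroup (PSL2 F), BinS H →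
      (∀ x y : PSL2 F, orderOf x = 2 → orderOf y = 2 → IsConj x y) → ∀ t s : PSL2 F, t ∈ H →
        orderOf t = 2 → orderOf s = 2 → Commute t s → s ∈ H)
    (hAE1 : ∀ x y : PSL2 F, orderOf x = 2 → orderOf y = 2 → IsConj x y)
    (hG1 : ∀ H : Subgroup (PSL2 F), PU F ≤ H → H ≠ ⊤ → H ≤ PB F)
    (hB3 : ∀ H : Subgroup (PSL2 F), PU F ≤ H → H ≤ PB F → BinS H → H = PU F)
    (H : Subgroup (PSL2 F)) (hBin : BinS H) (hH : H ≠ ⊤)
    (h2 : 2 ∣ Nat.card H) : ∃ P : Sylow 2 (PSL2 F), H = (P : Subgroup (PSL2 F)) := by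
  have : Fact (Nat.Prime 2) := ⟨Nat.prime_two⟩
  obtain ⟨t0, ht0⟩ := exists_prime_orderOf_dvd_card' 2 h2
  set t : PSL2 F := (t0 : PSL2 F) with htdef
  have htH : t ∈ H := t0.2
  have ht2 : orderOf t = 2 := by rw [htdef, Subgroup.orderOf_coe]; exact ht0
  have hpg : IsPGroup 2 (Subgroup.zpowers t) := by
    apply IsPGroup.of_card (n := 1)
    rw [Nat.card_zpowers, ht2, pow_one]
  obtain ⟨Q, hQ⟩ := hpg.exists_le_sylow
  obtain ⟨g, hg⟩ := hU6 Q
  have htQ : t ∈ (Q : Subgroup (PSL2 F)) := hQ (Subgroup.mem_zpowers t)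
  rw [hg] at htQ
  obtain ⟨u0, hu0, hu0t⟩ := htQ
  obtain ⟨x0, rfl⟩ := (bp2ae2_mem_PU u0).mp hu0
  have hx0 : x0 ≠ 0 := by
    rintro rfl
    rw [uS_zero, map_one, map_one] at hu0t
    rw [← hu0t, orderOf_one] at ht2
    omega
  set H' : Subgroup (PSL2 F) := H.map (MulAut.conj g⁻¹).toMonoidHom with hH'
  have hBin' : BinS H' := (hT3 H g⁻¹).mpr hBin
  have huH' : pr F (uS x0) ∈ H' := by
    refine ⟨t, htH, ?_⟩
    rw [← hu0t]
    simp [MulAut.conj_apply, mul_assoc]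
  have hU : PU F ≤ H' := by
    intro s hs
    obtain ⟨x, rfl⟩ := (bp2ae2_mem_PU s).mp hs
    by_cases hx : x = 0
    · rw [hx, uS_zero, map_one]
      exact H'.one_mem
    · exact hT10 H' hBin' hAE1 _ _ huH' (bp2ae2_order x0 hx0) (bp2ae2_order x hx)
        (bp2ae2_comm x0 x)
  have hH'top : H' ≠ ⊤ := fun h => hH (bp2ae2_map_conj_top H g⁻¹ h)
  have hH'B : H' ≤ PB F := hG1 H' hU hH'top
  have hH'eq : H' = PU F := hB3 H' hU hH'B hBin'
  refine ⟨Q, ?_⟩
  rw [hg, ← hH'eq, hH', Subgroup.map_map]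
  have : (MulAut.conj g).toMonoidHom.comp (MulAut.conj g⁻¹).toMonoidHom = MonoidHom.id _ := by
    ext y
    simp [MulAut.conj_apply, mul_assoc]
  rw [this, Subgroup.map_id]

end AEven

end Cfsg.Agent.Lib.Helper28.BP2
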