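import Mathlib
import Cfsg.Agent.Lib.Helper28.BP2.Defs
import Cfsg.Agent.Lib.Helper22.BP2AE1
import Cfsg.Agent.Lib.Helper22.BP2AE2core
import Cfsg.Agent.Lib.Helper29.BP2U6
import Cfsg.Agent.Lib.Helper26.BP2T3
import Cfsg.Agent.Lib.Helper11.BP2T10
import Cfsg.Agent.Lib.helper4.BP2G1
import Cfsg.Agent.Lib.helper17.BP2B3

/-!
# Project BP2 (helper28, S5736), row AE2 (`stepA_even`), verbatim: wrapper of `bp2ae2_core`.
-/

set_option autoImplicit false

namespace Cfsg.Agent.Lib.Helper28.BP2

open Cfsg.Agent.Lib.helper14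

universe u v w

section AEven

variable {F : Type u} [Field F] [Fintype F]

/-- **AE2**.  An involution of `H` lies in a Sylow 2-subgroup, conjugate (U6, T3) so that it lies in
`PU F`, whose nontrivial elements are commuting involutions: T10 gives `PU F ≤ H'`; G1, B3. -/
theorem stepA_even [CharP F 2] (H : Subgroup (PSL2 F)) (hBin : BinS H) (hH : H ≠ ⊤)
    (h2 : 2 ∣ Nat.card H) : ∃ P : Sylow 2 (PSL2 F), H = (P : Subgroup (PSL2 F)) := by
  classical
  have : Fact (Nat.Prime 2) := ⟨Nat.prime_two⟩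
  exact bp2ae2_core (fun P => sylow_conj_PU 2 P) (fun H g => binS_conj H g)
    (fun H hB hconj t s ht ht2 hs2 hts => binS_invol_closed H hB hconj t s ht ht2 hs2 hts)
    invol_conj_char2 (fun H hU hH => le_PB_of_PU_le H hU hH)
    (fun H hU hB hBin => (stepB 2 H hU hB hBin).2) H hBin hH h2

end AEven

end Cfsg.Agent.Lib.Helper28.BP2
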