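import Mathlib
import Cfsg.Agent.Lib.helper3.BSZ.Defs
import Cfsg.Agent.Lib.Helper5.BSZA01
import Cfsg.Agent.Lib.helper17.BSZA10

/-!
# Project BSZ (helper3, S5737), row G04 (`main_lie`): core on the statement of G03 (`main_sz`).
-/

set_option autoImplicit false

namespace Cfsg.Agent.Lib.helper3.BSZ

open Cfsg Cfsg.Agent.Lib.helper3

theorem bszg04_map_map {G G' : Type*} [Group G] [Group G'] (e : G ≃* G') (H : Subgroup G') :
    (H.map e.symm.toMonoidHom).map e.toMonoidHom = H := by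
  ext x
  constructor
  · rintro ⟨y, ⟨z, hz, rfl⟩, rfl⟩
    simpa using hz
  · intro hx
    exact ⟨e.symm x, ⟨x, hx, rfl⟩, by simp⟩

/-- G04 core: transport of `main_sz` (hypothesis `hG03`) along `szLieEquiv`. -/
theorem bszg04_core {F : Type*} [Field F] [Fintype F] (a : ℕ) (ha : 1 ≤ a)
    (hF : Fintype.card F = 2 ^ (2 * a + 1))
    (hG03 : ∀ H : Subgroup (Sz F a), H ≠ ⊤ → (BinH H ↔ (H = ⊥ ∨ IsSylCen H)))
    (H : Subgroup (Cfsg.Lie.Sz F (2 ^ (a + 1)))) (hH : H ≠ ⊤) :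
    BinH H ↔ (H = ⊥ ∨ IsSylCen H) := by
  set e := szLieEquiv hF ha with he
  set H₀ : Subgroup (Sz F a) := H.map e.symm.toMonoidHom with hH₀
  have hmap : H₀.map e.toMonoidHom = H := bszg04_map_map e H
  have htop : H₀ ≠ ⊤ := by
    intro h
    apply hH
    rw [← hmap, h]
    exact Subgroup.map_top_of_surjective _ e.surjective
  have hbot : H₀ = ⊥ ↔ H = ⊥ := by
    rw [hH₀]
    exact Subgroup.map_eq_bot_iff_of_injective H e.symm.injective
  have h1 := binary_iso e H₀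
  have h2 := isSylCen_map_iff e H₀
  rw [hmap] at h1 h2
  rw [← h1, h2, ← hbot]
  exact hG03 H₀ htop

end Cfsg.Agent.Lib.helper3.BSZ
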