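import Mathlib
import Cfsg.Agent.Lib.helper3.BSZ.Defs
import Cfsg.Agent.Lib.Helper22.BSZG04core
import Cfsg.Agent.Lib.Helper9.BSZG02

/-!
# Project BSZ (helper3, S5737), row G04 (`main_lie`), verbatim: wrapper of `bszg04_core` on G03.
-/

set_option autoImplicit false

namespace Cfsg.Agent.Lib.helper3.BSZ

open Cfsg Cfsg.Agent.Lib.helper3

/-- G04 [S-M] (cites A02, A10, G03): `e := szLieEquiv hF ha : Sz F a ≃* Cfsg.Lie.Sz F (2^(a+1))`; `H₀ := H.map e.symm.toMonoidHom`, `H = H₀.map e.toMonoidHom`; A02, A10; `H₀ = ⊤ ↔ H = ⊤`, `H₀ = ⊥ ↔ H = ⊥`. -/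
theorem main_lie {F : Type*} [Field F] [Fintype F] (a : ℕ) (ha : 1 ≤ a) (hF : Fintype.card F = 2 ^ (2 * a + 1))
    (H : Subgroup (Cfsg.Lie.Sz F (2 ^ (a + 1)))) (hH : H ≠ ⊤) : BinH H ↔ (H = ⊥ ∨ IsSylCen H) :=
  bszg04_core a ha hF (fun H hH => main_sz hF ha H hH) H hH

end Cfsg.Agent.Lib.helper3.BSZ
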