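import Mathlib
import Cfsg.Prelude.Def_ChevStructure
import Cfsg.Prelude.Def_LieTypes
import Cfsg.Prelude.Def_ChevB2
import Cfsg.Agent.Lib.helper8.BTT.Defs
import Cfsg.Agent.Lib.helper8.ChevW0
import Cfsg.Agent.Lib.helper8.ChevReflAll
import Cfsg.Agent.S1095

/-!
Project BTT row GRP4: `n_{p_i}` carries the grading of `L` to that of `L ∘ w_i` (S1095 for the matrix of `n_{p_i}`,
`H8Refl.invol` for the involutivity of the reflection).
-/

set_option autoImplicit false

namespace Cfsg.Agent.Lib.helper8.BTT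

open Cfsg.Lie Cfsg.Lie.ChevalleyDatum
open Cfsg.Agent.Lib.helper8

universe u

section grp
variable {F : Type u} [Field F] (D : ChevalleyDatum)

/-- GRP4 [M]: `n_{p_i}` carries the grading of `L` to that of `L ∘ w_i`. -/
theorem n_lev (hD : D ∈ [chevG2, chevB2, chevD4, chevF4, chevE6, chevE7, chevE8])
    (i : ℕ) (hi : i < D.rank) (L : Fin D.nroots → ℝ) :
    Lev (lvl D L) (lvl D (reflL D i L)) (D.nMat F (D.simple i) 1) := by
  obtain ⟨η, -, -, -, -, hmat⟩ := Cfsg.Agent.S1095.result (F := F) D hD i hi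
  obtain ⟨η', hR⟩ := h8reflAll_spec D (h8reflAll D hD) i hi
  intro a b hab
  rw [hmat] at hab
  rcases a with j' | s' <;> rcases b with j | s
  · rfl
  · exact absurd rfl hab
  · exact absurd rfl hab
  · simp only [Matrix.of_apply, Sum.elim_inr] at hab
    have hs' : (s' : ℕ) = D.reflectRoot i s := by
      by_contra h
      exact hab (if_neg h)
    show reflL D i L s' = L s
    unfold reflL
    rw [hs', hR.invol s s.isLt]
    unfold lv
    rw [dif_pos s.isLt]

end grp

end Cfsg.Agent.Lib.helper8.BTT
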