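import Mathlib
import Cfsg.Agent.Lib.helper3.C6U.Defs
import Cfsg.Agent.Lib.helper15.C6UE0
import Cfsg.Agent.Lib.Helper26.C6UE1
import Cfsg.Agent.Lib.Helper25.C6UB1
import Cfsg.Agent.Lib.Helper22.C6UA3
import Cfsg.Agent.Lib.helper15.OTSINVDET
import Cfsg.Agent.Lib.Helper11.S5953T9

set_option autoImplicit false
set_option linter.unusedVariables false
set_option linter.unusedSectionVars false

/-!
# Project C6U (designer helper3), row E2 : CORE of `suff_two_u` (written by helper22), with the statement of W2 (`wit_two_u`) as a hypothesis.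
-/

namespace Cfsg.Agent.Lib.helper3.C6U

open Polynomial Matrix
open Cfsg.Agent.Lib.Helper10.C6P
open scoped MatrixGroups

variable {F : Type*} [Field F]

section fin

variable [Fintype F] {p : ℕ} [Fact p.Prime] [CharP F p]

/-- the Gram matrix of a scalar multiple -/
theorem c6ue2_gram_smul (c : F) (A : M4 F) : gram p (c • A) = c ^ (p + 1) • gram p A := by
  unfold gram
  ext a b
  simp only [Matrix.mul_apply, Matrix.transpose_apply, Matrix.smul_apply, Matrix.map_apply, smul_eq_mul,
    Finset.mul_sum]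
  refine Finset.sum_congr rfl fun k _ => ?_
  rw [mul_pow, pow_succ]
  ring

/-- every fourth root of unity is a square in `F_{p²}`, `p` odd -/
theorem c6ue2_sqrt (hF : Fintype.card F = p ^ 2) (hp2 : p ≠ 2) (z : F) (hz : z ^ 4 = 1) : ∃ w : F, w * w = z := by
  have hz0 : z ≠ 0 := by
    rintro rfl
    norm_num at hz
  have hpp : p.Prime := Fact.out
  have hodd : p % 2 = 1 := by
    rcases hpp.eq_two_or_odd with h | h
    · exact absurd h hp2
    · exact h
  have h2F : ringChar F ≠ 2 := by
    rw [ringChar.eq F p]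
    exact hp2
  have h8 : ∃ k, p ^ 2 = 8 * k + 1 := by
    obtain ⟨t, ht⟩ : ∃ t, p = 2 * t + 1 := ⟨p / 2, by omega⟩
    rcases Nat.even_or_odd' t with ⟨s, hs | hs⟩
    · exact ⟨2 * s * s + s, by rw [ht, hs]; ring⟩
    · exact ⟨2 * s * s + 3 * s + 1, by rw [ht, hs]; ring⟩
  obtain ⟨k, hk⟩ := h8
  have hsq : IsSquare z := by
    rw [FiniteField.isSquare_iff h2F hz0, hF, hk]
    have : (8 * k + 1) / 2 = 4 * k := by omega
    rw [this, pow_mul, hz, one_pow]
  obtain ⟨w, hw⟩ := hsq
  exact ⟨w, hw.symm⟩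

/-- the standard hermitian form is non-degenerate -/
theorem c6ue2_hnd : Cfsg.Agent.Lib.helper3.S5953.HND (F := F) (ι := Fin 4) p ⊤ := by
  classical
  intro u _ hu
  funext k
  have h := hu (Pi.single k 1) Submodule.mem_top
  unfold Cfsg.Agent.Lib.helper3.S5953.hermI at h
  rw [Finset.sum_eq_single k] at h
  · simpa using h
  · intro b _ hb
    rw [Pi.single_eq_of_ne hb, zero_pow (Nat.Prime.ne_zero Fact.out), mul_zero]
  · intro hk
    exact absurd (Finset.mem_univ k) hk

/-- an involution whose Gram matrix is `-1` has determinant one (both eigenspaces are totally isotropic, hence of dimension 2) -/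
theorem c6ue2_det_one (hF : Fintype.card F = p ^ 2) (h2 : (2 : F) ≠ 0) (hp2 : p ≠ 2) (u : M4 F) (huu : u * u = 1)
    (hg : gram p u = -1) : u.det = 1 := by
  classical
  have hpp : p.Prime := Fact.out
  have hodd : Odd p := hpp.odd_of_ne_two hp2
  -- a scalar of norm `-1`
  obtain ⟨c, hc⟩ := norm_onto hF (-1 : F) (neg_ne_zero.mpr one_ne_zero) (hodd.neg_one_pow)
  have hcu : gram p (c • u) = 1 := by
    rw [c6ue2_gram_smul, hc, hg]
    simp
  have hpres := (c6ub1_preserves (p := p) (c • u)).2 hcu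
  have hneg : ∀ a b : Fin 4 → F, Cfsg.Agent.Lib.helper3.S5953.hermI (Fin 4) F p (u *ᵥ a) (u *ᵥ b) =
      - Cfsg.Agent.Lib.helper3.S5953.hermI (Fin 4) F p a b := by
    intro a b
    have h := hpres a b
    rw [Matrix.smul_mulVec, Matrix.smul_mulVec] at h
    change Cfsg.Agent.Lib.helper3.S5953.hermI (Fin 4) F p (c • u *ᵥ a) (c • u *ᵥ b) =
      Cfsg.Agent.Lib.helper3.S5953.hermI (Fin 4) F p a b at h
    rw [Cfsg.Agent.Lib.helper3.S5953.hermI_smul_left, Cfsg.Agent.Lib.helper3.S5953.hermI_smul_right, ← mul_assoc,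
      ← pow_succ', hc] at h
    linear_combination (-1 : F) * h
  set X : Module.End F (Fin 4 → F) := Matrix.toLin' u with hX
  have hXX : ∀ v, X (X v) = v := by
    intro v
    rw [hX, Matrix.toLin'_apply, Matrix.toLin'_apply, Matrix.mulVec_mulVec, huu, Matrix.one_mulVec]
  have hti : ∀ ε : F, ε * ε = 1 → ∀ T : Submodule F (Fin 4 → F), (∀ v ∈ T, u *ᵥ v = ε • v) →
      Cfsg.Agent.Lib.helper3.S5953.HTI p T := by
    intro ε hε T hT a ha b hb
    have h := hneg a b
    rw [hT a ha, hT b hb, Cfsg.Agent.Lib.helper3.S5953.hermI_smul_left,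
      Cfsg.Agent.Lib.helper3.S5953.hermI_smul_right] at h
    have hεp : ε ^ p = ε := by
      have h1 : ε = 1 ∨ ε = -1 := mul_self_eq_one_iff.mp hε
      rcases h1 with rfl | rfl
      · exact one_pow _
      · exact hodd.neg_one_pow
    rw [hεp, ← mul_assoc, hε, one_mul] at h
    have h3 : (2 : F) * Cfsg.Agent.Lib.helper3.S5953.hermI (Fin 4) F p a b = 0 := by linear_combination h
    exact (mul_eq_zero.mp h3).resolve_left h2
  have hVp : Cfsg.Agent.Lib.helper3.S5953.HTI p (LinearMap.ker (X - 1)) := by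
    apply hti 1 (one_mul 1)
    intro v hv
    rw [LinearMap.mem_ker, LinearMap.sub_apply, Module.End.one_apply, sub_eq_zero, hX, Matrix.toLin'_apply] at hv
    rw [hv, one_smul]
  have hVm : Cfsg.Agent.Lib.helper3.S5953.HTI p (LinearMap.ker (X + 1)) := by
    apply hti (-1) (by ring)
    intro v hv
    rw [LinearMap.mem_ker, LinearMap.add_apply, Module.End.one_apply, add_eq_zero_iff_eq_neg, hX,
      Matrix.toLin'_apply] at hv
    rw [hv, neg_one_smul]
  have hdimV : Module.finrank F (⊤ : Submodule F (Fin 4 → F)) = 4 := by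
    rw [finrank_top, Module.finrank_fin_fun]
  have h1 := Cfsg.Agent.Lib.helper3.S5953.ti_le_half hF ⊤ (LinearMap.ker (X - 1)) c6ue2_hnd le_top hVp
  have h2' := Cfsg.Agent.Lib.helper3.S5953.ti_le_half hF ⊤ (LinearMap.ker (X + 1)) c6ue2_hnd le_top hVm
  rw [hdimV] at h1 h2'
  have h3 : Module.finrank F (LinearMap.range (X + 1)) + Module.finrank F (LinearMap.ker (X + 1)) = 4 := by
    rw [LinearMap.finrank_range_add_finrank_ker, Module.finrank_fin_fun]
  have h4 : LinearMap.range (X + 1) ≤ LinearMap.ker (X - 1) := by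
    rintro _ ⟨v, rfl⟩
    rw [LinearMap.mem_ker, LinearMap.sub_apply, Module.End.one_apply, LinearMap.add_apply, Module.End.one_apply,
      map_add, hXX]
    abel
  have h5 := Submodule.finrank_mono h4
  have h6 : Module.finrank F (LinearMap.ker (X + 1)) = 2 := by omega
  have hdet := Cfsg.Agent.Lib.Helper13.OTS.otsinvdet_det h2 X hXX
  rw [h6, hX, LinearMap.det_toLin'] at hdet
  rw [hdet]
  norm_num

/-- the diagonal adjusting matrix `diag(δ, 1, 1, 1)` -/
theorem c6ue2_adjust (j : ℕ) (δ : F) (hδ : δ ^ (p + 1) = 1) :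
    ∃ C : GL (Fin 4) F,
      (C : M4 F).transpose * (1 : M4 F) * (C : M4 F).map (fun a => a ^ p) = 1 ∧ (C : M4 F) * D2 F j = D2 F j * (C : M4 F) ∧
      (C : M4 F).det = δ := by
  have hδ0 : δ ≠ 0 := by
    rintro rfl
    rw [zero_pow (by omega)] at hδ
    exact zero_ne_one hδ
  set M : M4 F := Matrix.diagonal ![δ, 1, 1, 1] with hM
  have hdet : M.det = δ := by
    rw [hM, Matrix.det_diagonal, Fin.prod_univ_four]
    simp
  have hu : IsUnit M.det := by rw [hdet]; exact isUnit_iff_ne_zero.mpr hδ0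
  refine ⟨Matrix.GeneralLinearGroup.mk'' M hu, ?_, ?_, ?_⟩
  · show Mᵀ * (1 : M4 F) * M.map (fun a => a ^ p) = 1
    rw [Matrix.mul_one, hM, Matrix.diagonal_transpose]
    have : (Matrix.diagonal ![δ, 1, 1, 1] : M4 F).map (fun a => a ^ p) = Matrix.diagonal ![δ ^ p, 1, 1, 1] := by
      ext a b
      fin_cases a <;> fin_cases b <;> simp [Matrix.diagonal, zero_pow (Nat.Prime.ne_zero (Fact.out : p.Prime))]
    rw [this, Matrix.diagonal_mul_diagonal, ← Matrix.diagonal_one]
    congr 1
    funext k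
    fin_cases k
    · show δ * δ ^ p = 1
      rw [← pow_succ']; exact hδ
    · simp
    · simp
    · simp
  · show M * D2 F j = D2 F j * M
    rw [hM]
    unfold D2
    rw [Matrix.diagonal_mul_diagonal, Matrix.diagonal_mul_diagonal]
    congr 1
    funext k
    exact mul_comm _ _
  · exact hdet

/-- CORE of E2: the statement of W2 (`wit_two_u`) as a hypothesis -/
theorem c6ue2_core (hF : Fintype.card F = p ^ 2) (hp4 : p % 4 = 3) {i : F} {R : Subgroup (GL (Fin 4) F)} (hctx : RCtx i R)
    (hstd : HasStdU p i R)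
    (hW2 : ∀ R' : Subgroup (GL (Fin 4) F), IsStd i R' → ∀ j : ℕ, 1 ≤ j → j ≤ 3 → NrmU p R' (D2 F j)) :
    AllFixU p R 2 := by
  classical
  have h2 : (2 : F) ≠ 0 := hctx.two
  have hp2 : p ≠ 2 := by omega
  intro x hx ⟨z, hz⟩ hns
  have hxx : (x : M4 F) * (x : M4 F) = z • (1 : M4 F) := by
    rw [← hz, Units.val_pow_eq_pow_val, pow_two]
  have hxU : IsU p (x : M4 F) := c6uw1_isU_of_mem x hx.1
  have hdetx : (x : M4 F).det = 1 := by
    have h : Matrix.GeneralLinearGroup.det x = 1 := MonoidHom.mem_ker.mp hx.2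
    have h' := congrArg (fun t : Fˣ => (t : F)) h
    simpa using h'
  -- the norm of `z`
  have hzn : z ^ (p + 1) = 1 := by
    have h := c6uw1_isU_mul _ _ hxU hxU
    rw [hxx] at h
    unfold IsU at h
    rw [c6ue2_gram_smul] at h
    have h1 : gram p (1 : M4 F) = 1 := by
      unfold gram
      rw [Matrix.transpose_one, Matrix.one_mul]
      ext a b
      by_cases hab : a = b
      · subst hab; simp
      · simp [Matrix.one_apply_ne hab, zero_pow (Nat.Prime.ne_zero (Fact.out : p.Prime))]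
    rw [h1] at h
    have h00 := congrFun (congrFun h 0) 0
    simpa using h00
  -- `z ^ 4 = 1`
  have hz4 : z ^ 4 = 1 := by
    have h := congrArg Matrix.det hxx
    rw [Matrix.det_mul, hdetx, Matrix.det_smul, Matrix.det_one, Fintype.card_fin] at h
    simpa using h.symm
  obtain ⟨w, hw⟩ := c6ue2_sqrt hF hp2 z hz4
  have hw0 : w ≠ 0 := by
    rintro rfl
    rw [mul_zero] at hw
    rw [← hw] at hz4
    norm_num at hz4
  -- the involution `u`
  have huu : (w⁻¹ • (x : M4 F)) * (w⁻¹ • (x : M4 F)) = 1 := by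
    rw [smul_mul_smul_comm, hxx, smul_smul, ← hw]
    have : w⁻¹ * w⁻¹ * (w * w) = 1 := by field_simp
    rw [this, one_smul]
  have hu1 : w⁻¹ • (x : M4 F) ≠ 1 := by
    intro h1
    apply hns w
    have := congrArg (fun m : M4 F => w • m) h1
    simp only [smul_smul, mul_inv_cancel₀ hw0, one_smul] at this
    exact this
  have hu1' : w⁻¹ • (x : M4 F) ≠ -1 := by
    intro h1
    apply hns (-w)
    have := congrArg (fun m : M4 F => w • m) h1
    simp only [smul_smul, mul_inv_cancel₀ hw0, one_smul, smul_neg] at this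
    rw [this, neg_smul]
  -- the norm of `w` is `± 1`
  have hn2 : (w ^ (p + 1)) * (w ^ (p + 1)) = 1 := by
    rw [← mul_pow, hw]; exact hzn
  have hgu : gram p (w⁻¹ • (x : M4 F)) = (w ^ (p + 1))⁻¹ • (1 : M4 F) := by
    rw [c6ue2_gram_smul, inv_pow]
    congr 1
  have hn1 : w ^ (p + 1) = 1 := by
    rcases mul_self_eq_one_iff.mp hn2 with h | h
    · exact h
    · exfalso
      have hg : gram p (w⁻¹ • (x : M4 F)) = -1 := by
        rw [hgu, h]
        simp
      have hdet := c6ue2_det_one hF h2 hp2 _ huu hg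
      rw [Matrix.det_smul, hdetx, mul_one, Fintype.card_fin, inv_pow] at hdet
      have hw4 : w ^ 4 = 1 := by
        have := inv_eq_one.mp hdet
        exact this
      obtain ⟨k, hk⟩ : ∃ k, p + 1 = 4 * k := ⟨(p + 1) / 4, by omega⟩
      rw [hk, pow_mul, hw4, one_pow] at h
      have : (2 : F) = 0 := by linear_combination h
      exact h2 this
  have hU : IsU p (w⁻¹ • (x : M4 F)) := by
    unfold IsU
    rw [hgu, hn1, inv_one, one_smul]
  obtain ⟨j, B, hj4, hBU, hBD⟩ := nf_two hF h2 _ hU huu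
  have hj0 : j ≠ 0 := by
    rintro rfl
    apply hu1'
    have hD : D2 F 0 = -1 := by
      unfold D2
      simp only [not_lt_zero, if_false]
      rw [← Matrix.diagonal_one, ← Matrix.diagonal_neg]
    rw [hD] at hBD
    have := congrArg (fun m : M4 F => (B : M4 F) * m * ((B⁻¹ : GL (Fin 4) F) : M4 F)) hBD
    simp only [← Matrix.mul_assoc] at this
    rw [← Units.val_mul, mul_inv_cancel, Units.val_one, Matrix.one_mul, Matrix.mul_assoc, ← Units.val_mul,
      mul_inv_cancel, Units.val_one, Matrix.mul_one, Matrix.mul_neg, Matrix.mul_one, Matrix.neg_mul, ← Units.val_mul,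
      mul_inv_cancel, Units.val_one] at this
    exact this
  have hj4' : j ≠ 4 := by
    rintro rfl
    apply hu1
    have hD : D2 F 4 = 1 := by
      unfold D2
      rw [← Matrix.diagonal_one]
      congr 1
      funext k
      rw [if_pos k.isLt]
    rw [hD] at hBD
    have := congrArg (fun m : M4 F => (B : M4 F) * m * ((B⁻¹ : GL (Fin 4) F) : M4 F)) hBD
    simp only [← Matrix.mul_assoc] at this
    rw [← Units.val_mul, mul_inv_cancel, Units.val_one, Matrix.one_mul, Matrix.mul_assoc, ← Units.val_mul,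
      mul_inv_cancel, Units.val_one, Matrix.mul_one, Matrix.mul_one, ← Units.val_mul,
      mul_inv_cancel, Units.val_one] at this
    exact this
  obtain ⟨P, hP, hPstd⟩ := hstd
  have hN := hW2 _ hPstd j (by omega) (by omega)
  have hNR := nrmu_transport hF R P hP _ hN
  refine uconj hF R x hx w hn1 _ hNR.1 1 (D2 F j) B P⁻¹ hBU (c6uw1_isU_of_mem P⁻¹ (Subgroup.inv_mem _ hP)) hBD ?_
    (fun δ hδ => c6ue2_adjust j δ hδ)
  rw [inv_inv]
  simp only [← Matrix.mul_assoc]
  rw [← Units.val_mul, mul_inv_cancel, Units.val_one, Matrix.one_mul, Matrix.mul_assoc, ← Units.val_mul,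
    mul_inv_cancel, Units.val_one, Matrix.mul_one]

end fin

end Cfsg.Agent.Lib.helper3.C6U
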