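import Mathlib
import Cfsg.Agent.Lib.helper3.C6U.Defs
import Cfsg.Agent.Lib.Helper22.C6UE2core
import Cfsg.Agent.Lib.Helper16.C6UW2h16

set_option autoImplicit false
set_option linter.unusedVariables false
set_option linter.unusedSectionVars false

/-!
# Project C6U (designer helper3), row E2 : `suff_two_u`, verbatim (written by helper22).
`c6ue2_core` + helper16's second copy `c6uw2_h16` of W2 (`wit_two_u`).
-/

namespace Cfsg.Agent.Lib.helper3.C6U

open Polynomial Matrix
open Cfsg.Agent.Lib.Helper10.C6P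
open scoped MatrixGroups

variable {F : Type*} [Field F]

section fin

variable [Fintype F] {p : ℕ} [Fact p.Prime] [CharP F p]

/-- E2 [M-L] : `r = 2`.  `x² = z`, `z^(p+1) = 1`, `z^4 = det(x)² = 1`.  `w² = z` in `F`; E1-type analysis of `x` itself: eigenvalues `± w`, `det x = w^4 (-1)^(4-j) = 1`;
`z = ± 1`: `w ∈ {1, i}` has norm one; `z = ± i`: `j` odd; if `w^(p+1) ≠ 1` both eigenspaces of `x` are t.i. (`h(u,v) = w^(p+1) h(u,v)`) of dimensions `1, 3`: impossible (T9);
so `w` has norm one, `u = w⁻¹ x` is a unitary involution `≠ ± 1`: E1 (`1 ≤ j ≤ 3`), W2 + W5 (`y = P⁻¹ D2 P`, `By = P⁻¹`), E0 with `G0 = 1`, `D = D2 F j`, `C = diag(δ, 1, 1, 1)`. -/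
theorem suff_two_u (hF : Fintype.card F = p ^ 2) (hp4 : p % 4 = 3) {i : F} {R : Subgroup (GL (Fin 4) F)} (hctx : RCtx i R)
    (hstd : HasStdU p i R) : AllFixU p R 2 :=
  c6ue2_core hF hp4 hctx hstd (fun R' h j hj1 hj3 => c6uw2_h16 h hctx.two j hj1 hj3)

end fin

end Cfsg.Agent.Lib.helper3.C6U
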