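import Mathlib
import Cfsg.Agent.Lib.Helper28.CD3.Defs

/-!
# Project CD3, piece AFR (core) : the Frobenius case of part A (helper22)
-/

set_option autoImplicit false
open scoped commutatorElement

namespace Cfsg.Agent.Lib.Helper28.CD3

universe u

variable {G : Type u} [Group G] [Finite G]

/-- arithmetic of AFR: a degree `s` of `N` is `1` or the degree `d ≠ f` of `G` -/
theorem cd3afr_arith {m n f p s c a : ℕ} (hm : 1 < m) (hmn : m < n) (hcop : Nat.Coprime m n)
    (hp : p.Prime) (hf : f = m ∨ f = n) (hpf : ¬ p ∣ f) (hc : c = 1 ∨ c = m ∨ c = n)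
    (hsc : s ∣ c) (hcs : c / s ∣ f) (ha : 0 < a)
    (hfrob : (f * s = 1 ∨ f * s = m ∨ f * s = n) ∨ p ^ a ∣ s ^ 2) :
    s = 1 ∨ ((f = m → s = n) ∧ (f = n → s = m)) := by
  have hc0 : 0 < c := by rcases hc with rfl | rfl | rfl <;> omega
  have hs0 : 0 < s := Nat.pos_of_dvd_of_pos hsc hc0
  by_cases hs1 : s = 1
  · exact Or.inl hs1
  right
  have hs2 : 2 ≤ s := by omega
  have hf0 : 0 < f := by rcases hf with rfl | rfl <;> omega
  rcases hfrob with hfs | hdiv
  · -- case (a): impossible
    exfalso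
    have hlt : f < f * s := by nlinarith
    rcases hf with rfl | rfl
    · rcases hfs with h1 | h1 | h1
      · omega
      · omega
      · have hdvd : f ∣ n := ⟨s, h1.symm⟩
        have := Nat.dvd_gcd (dvd_refl f) hdvd
        rw [hcop] at this
        have := Nat.dvd_one.mp this
        omega
    · rcases hfs with h1 | h1 | h1 <;> omega
  · -- case (b)
    have hps : p ∣ s := by
      have h1 : p ∣ s ^ 2 := dvd_trans (dvd_pow_self p ha.ne') hdiv
      exact hp.dvd_of_dvd_pow h1
    have hpc : p ∣ c := dvd_trans hps hsc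
    have hcf : c ≠ f := fun e => hpf (e ▸ hpc)
    have hc1 : c ≠ 1 := fun e => by
      rw [e] at hpc
      exact hp.one_lt.ne' (Nat.dvd_one.mp hpc)
    -- `c / s` divides `c` and `f`, which are coprime
    have hcsc : c / s ∣ c := Nat.div_dvd_of_dvd hsc
    have hcopcf : Nat.Coprime c f := by
      rcases hf with rfl | rfl <;> rcases hc with rfl | rfl | rfl
      · exact absurd rfl hc1
      · exact absurd rfl hcf
      · exact hcop.symm
      · exact absurd rfl hc1
      · exact hcop
      · exact absurd rfl hcf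
    have h1 : c / s = 1 := by
      have := Nat.dvd_gcd hcsc hcs
      rw [hcopcf] at this
      exact Nat.dvd_one.mp this
    have hcs' : c = s := by
      have := Nat.div_mul_cancel hsc
      rw [h1, one_mul] at this
      exact this.symm
    subst hcs'
    constructor
    · intro e
      rcases hc with h2 | h2 | h2
      · exact absurd h2 hc1
      · exact absurd (h2.trans e.symm) hcf
      · exact h2
    · intro e
      rcases hc with h2 | h2 | h2
      · exact absurd h2 hc1
      · exact h2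
      · exact absurd (h2.trans e.symm) hcf

/-- AFR with the lower pieces (FROB, OVER, OVERQ, DERQ) as hypotheses -/
theorem cd3afr_core {m n : ℕ} (h : MinCE G m n) (hns : ¬ Group.IsSolvable G)
    (hcop : Nat.Coprime m n) (K N : Subgroup G) (p : ℕ) (hF : FrobData G K N p)
    (hFROB : ∀ ψ : Cfsg.IrrCharacter N,
      N.index * Cfsg.charDegree (ψ : N → ℂ) ∈ Cfsg.charDegrees G ∨
        K.relIndex N ∣ Cfsg.charDegree (ψ : N → ℂ) ^ 2)
    (hOVER : ∀ θ : Cfsg.IrrCharacter N, ∃ χ : Cfsg.IrrCharacter G,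
      Cfsg.charDegree (θ : N → ℂ) ∣ Cfsg.charDegree (χ : G → ℂ) ∧
        Cfsg.charDegree (χ : G → ℂ) / Cfsg.charDegree (θ : N → ℂ) ∣ N.index)
    (hsubK : cdOver K ⊆ Cfsg.charDegrees G)
    (hder : derivedSeries G 1 ≤ N → derivedSeries N 3 = ⊥ → derivedSeries G (1 + 3) = ⊥) :
    False := by
  obtain ⟨a, ha, hrel⟩ := hF.hidx
  have hfcd := hsubK hF.hNcd
  rw [h.hcd] at hfcd
  simp only [Set.mem_insert_iff, Set.mem_singleton_iff] at hfcd
  have hf : N.index = m ∨ N.index = n := by
    rcases hfcd with h1 | h1 | h1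
    · have := hF.hN1; omega
    · exact Or.inl h1
    · exact Or.inr h1
  -- the degree different from `f`
  obtain ⟨d, hd⟩ : ∃ d : ℕ, (N.index = m → d = n) ∧ (N.index = n → d = m) := by
    rcases hf with e | e
    · exact ⟨n, fun _ => rfl, fun e' => by have := h.hmn; omega⟩
    · exact ⟨m, fun e' => by have := h.hmn; omega, fun _ => rfl⟩
  have hcdN : Cfsg.charDegrees N ⊆ {1, d} := by
    rintro s ⟨ψ, rfl⟩
    obtain ⟨χ, hsc, hcs⟩ := hOVER ψ
    have hc : Cfsg.charDegree (χ : G → ℂ) ∈ Cfsg.charDegrees G := ⟨χ, rfl⟩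
    rw [h.hcd] at hc
    simp only [Set.mem_insert_iff, Set.mem_singleton_iff] at hc
    have hfr := hFROB ψ
    rw [h.hcd, hrel] at hfr
    simp only [Set.mem_insert_iff, Set.mem_singleton_iff] at hfr
    rcases cd3afr_arith h.hm h.hmn hcop hF.hp hf hF.hpN hc hsc hcs ha hfr with h1 | ⟨h1, h2⟩
    · exact Or.inl h1
    · right
      rw [Set.mem_singleton_iff]
      rcases hf with e | e
      · rw [h1 e, hd.1 e]
      · rw [h2 e, hd.2 e]
  have hncard : (Cfsg.charDegrees N).ncard ≤ 3 := by
    have h1 : (Cfsg.charDegrees N).ncard ≤ ({1, d} : Set ℕ).ncard :=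
      Set.ncard_le_ncard hcdN (Set.toFinite _)
    have h2 : ({1, d} : Set ℕ).ncard ≤ 2 := by
      have := Set.ncard_insert_le 1 ({d} : Set ℕ)
      rw [Set.ncard_singleton] at this
      exact this
    omega
  have hNtop : N ≠ ⊤ := by
    intro e
    have := hF.hN1
    rw [e, Subgroup.index_top] at this
    omega
  have hN3 := h.hsub N hNtop hncard
  have h1 : derivedSeries G 1 ≤ N := by
    rw [derivedSeries_one]
    exact hF.hGN
  exact hns ⟨⟨1 + 3, hder h1 hN3⟩⟩

end Cfsg.Agent.Lib.Helper28.CD3
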