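import Mathlib
import Cfsg.Agent.Lib.Helper28.CD3.Defs
import Cfsg.Agent.Lib.Helper22.CD3AFRcore
import Cfsg.Agent.Lib.helper23.CD3OVERQ
import Cfsg.Agent.Lib.Helper20.CD3FROB
import Cfsg.Agent.Lib.Helper10.CD3OVER
import Cfsg.Agent.Lib.helper23.CD3DERQ

/-!
# Project CD3, piece AFR : the Frobenius case of part A (helper22)
-/

set_option autoImplicit false
open scoped commutatorElement

namespace Cfsg.Agent.Lib.Helper28.CD3

universe u

variable {G : Type u} [Group G] [Finite G]

-- piece AFR
theorem partA_frob {m n : ℕ} (h : MinCE G m n) (hns : ¬ Group.IsSolvable G)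
    (hcop : Nat.Coprime m n) (K N : Subgroup G) (p : ℕ) (hF : FrobData G K N p) : False := by
  haveI := hF.hKn
  haveI := hF.hNn
  exact cd3afr_core h hns hcop K N p hF
    (fun ψ => frob_degree K N hF.hKN.le hF.hab hF.hfpf ψ)
    (fun θ => over_exists N θ) (cdOver_subset K)
    (fun h1 h2 => derived_of_sub N 1 3 h1 h2)

end Cfsg.Agent.Lib.Helper28.CD3
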