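import Mathlib
import Cfsg.Agent.Lib.Helper28.CD3.Defs

/-!
# Project CD3, piece APG (core) : the case `G/K` a `p`-group of part A (helper22)
-/

set_option autoImplicit false
open scoped commutatorElement

namespace Cfsg.Agent.Lib.Helper28.CD3

universe u

variable {G : Type u} [Group G] [Finite G]

/-- arithmetic: `f, d ∈ {m, n}`, `f ≠ d`, `f * d ∈ {1, m, n}` is impossible for `1 < m < n` -/
theorem cd3apg_arith {m n f d : ℕ} (hm : 1 < m) (hmn : m < n) (hf : f = m ∨ f = n)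
    (hd : d = m ∨ d = n) (hfd : f ≠ d) (hprod : f * d = 1 ∨ f * d = m ∨ f * d = n) : False := by
  have hmn' : m * n = 1 ∨ m * n = m ∨ m * n = n := by
    rcases hf with rfl | rfl <;> rcases hd with rfl | rfl
    · exact absurd rfl hfd
    · exact hprod
    · rwa [mul_comm] at hprod
    · exact absurd rfl hfd
  have h1 : m < m * n := by nlinarith
  have h2 : n < m * n := by nlinarith
  rcases hmn' with h | h | h <;> omega

/-- APG with the lower pieces (PQ, OVERQ) as hypotheses -/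
theorem cd3apg_core {m n : ℕ} (h : MinCE G m n) (hcop : Nat.Coprime m n)
    (K : Subgroup G) [K.Normal] (hK : ¬ commutator G ≤ K) (p : ℕ) (hp : p.Prime)
    (hpK : IsPGroup p (G ⧸ K))
    (hPQ : ∀ χ : Cfsg.IrrCharacter G, ¬ p ∣ Cfsg.charDegree (χ : G → ℂ) →
      ∃ f : ℕ, 1 < f ∧ f ∈ cdOver K ∧ f * Cfsg.charDegree (χ : G → ℂ) ∈ Cfsg.charDegrees G)
    (hsub : cdOver K ⊆ Cfsg.charDegrees G)
    (hdvd : ∀ d ∈ cdOver K, d ∣ K.index) : False := by
  haveI : Fact p.Prime := ⟨hp⟩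
  obtain ⟨k, hk⟩ := (IsPGroup.iff_card (p := p) (G := G ⧸ K)).1 hpK
  have hidx : K.index = p ^ k := by rw [Subgroup.index_eq_card, hk]
  -- a degree `d ∈ {m, n}` prime to `p`
  have hd : ∃ d : ℕ, (d = m ∨ d = n) ∧ ¬ p ∣ d := by
    by_cases hpm : p ∣ m
    · refine ⟨n, Or.inr rfl, fun hpn => ?_⟩
      have := Nat.dvd_gcd hpm hpn
      rw [hcop] at this
      exact hp.one_lt.ne' (Nat.dvd_one.mp this)
    · exact ⟨m, Or.inl rfl, hpm⟩
  obtain ⟨d, hdmn, hpd⟩ := hd
  have hdcd : d ∈ Cfsg.charDegrees G := by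
    rw [h.hcd]
    rcases hdmn with rfl | rfl <;> simp
  obtain ⟨χ, hχ⟩ := hdcd
  obtain ⟨f, hf1, hfK, hfd⟩ := hPQ χ (by rw [hχ]; exact hpd)
  rw [hχ] at hfd
  have hfcd := hsub hfK
  rw [h.hcd] at hfcd hfd
  simp only [Set.mem_insert_iff, Set.mem_singleton_iff] at hfcd hfd
  have hfmn : f = m ∨ f = n := by
    rcases hfcd with h1 | h1 | h1
    · omega
    · exact Or.inl h1
    · exact Or.inr h1
  -- `f` is a nontrivial power of `p`
  have hfp : p ∣ f := by
    have h1 := hdvd f hfK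
    rw [hidx] at h1
    obtain ⟨j, _, rfl⟩ := (Nat.dvd_prime_pow hp).1 h1
    rcases j with _ | j
    · simp at hf1
    · exact dvd_pow_self p (Nat.succ_ne_zero j)
  have hne : f ≠ d := fun e => hpd (e ▸ hfp)
  exact cd3apg_arith h.hm h.hmn hfmn hdmn hne hfd

end Cfsg.Agent.Lib.Helper28.CD3
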