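import Mathlib
import Cfsg.Agent.Lib.Helper28.CD3.Defs
import Cfsg.Agent.Lib.Helper22.CD3APGcore
import Cfsg.Agent.Lib.helper2.CD3PQ
import Cfsg.Agent.Lib.helper23.CD3OVERQ
import Cfsg.Agent.Lib.Helper20.CD3FROB
import Cfsg.Agent.Lib.Helper19.CD3BFAB

/-!
# Project CD3, piece APG : the case `G/K` a `p`-group of part A (helper22)
-/

set_option autoImplicit false
open scoped commutatorElement

namespace Cfsg.Agent.Lib.Helper28.CD3

universe u

variable {G : Type u} [Group G] [Finite G]

-- piece APG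
theorem partA_pgroup {m n : ℕ} (h : MinCE G m n) (hcop : Nat.Coprime m n)
    (K : Subgroup G) [K.Normal] (hK : ¬ commutator G ≤ K) (p : ℕ) (hp : p.Prime)
    (hpK : IsPGroup p (G ⧸ K)) : False :=
  cd3apg_core h hcop K hK p hp hpK (fun χ hχ => pquot_degree p hp K hpK hK χ hχ)
    (cdOver_subset K) (fun d hd => cdOver_dvd_index K hd)

end Cfsg.Agent.Lib.Helper28.CD3
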