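import Mathlib
import Cfsg.Agent.Lib.Helper28.CD3.Defs
import Cfsg.Agent.Lib.Helper21.CD3ITOQcore
import Cfsg.Agent.Lib.Helper19.CD3BG
import Cfsg.Agent.Lib.helper23.CD3OVERQ
import Cfsg.Agent.Lib.Helper25.CD3QDIV

/-!
# Project CD3 : the statement of ITOQ (`q_dvd_m`) under another name, assembled from the landed core
`Helper21.CD3ITOQcore` + BG + OVERQ + QDIV (helper22; used by the wrappers NSP / NSF)
-/

set_option autoImplicit false
open scoped commutatorElement

namespace Cfsg.Agent.Lib.Helper28.CD3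

universe u

variable {G : Type u} [Group G] [Finite G]

theorem cd3aux_q_dvd_m {m n q : ℕ} {F : Subgroup G} (h : BData G m n q F) (hqF : q ∣ F.index) :
    q ∣ m ∧ ¬ q ∣ n :=
  cd3itoq_core h hqF (bg_quot h) (fun N _ => cdOver_eq_quot N) (q_dvd_one h)

end Cfsg.Agent.Lib.Helper28.CD3
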