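import Mathlib
import Cfsg.Agent.Lib.Helper28.CD3.Defs
import Cfsg.Agent.Lib.Helper19.CD3BASIC
import Cfsg.Agent.Lib.Helper19.CD3BG
import Cfsg.Agent.Lib.Helper10.CD3OVER

/-!
# Project CD3, piece NSF (core) : part B, `q ∣ |G:F|`, the Frobenius case (helper22)
-/

set_option autoImplicit false
open scoped commutatorElement

namespace Cfsg.Agent.Lib.Helper28.CD3

universe u

variable {G : Type u} [Group G] [Finite G]

/-- a nonabelian `q`-group has an irreducible character of degree divisible by `q` -/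
theorem cd3nsf_nonlinear {P : Type u} [Group P] [Finite P] (q : ℕ) (hq : q.Prime)
    (hP : IsPGroup q P) (hna : ¬ ∀ a b : P, a * b = b * a) :
    ∃ φ : Cfsg.IrrCharacter P, q ∣ Cfsg.charDegree (φ : P → ℂ) := by
  haveI : Fact q.Prime := ⟨hq⟩
  have h1 : Cfsg.charDegrees P ≠ {1} := fun e => hna (cd_eq_one_iff.1 e)
  have h2 : ∃ d ∈ Cfsg.charDegrees P, d ≠ 1 := by
    by_contra hcon
    push Not at hcon
    apply h1
    ext d
    constructor
    · intro hd
      rw [Set.mem_singleton_iff]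
      exact hcon d hd
    · intro hd
      rw [Set.mem_singleton_iff] at hd
      rw [hd]
      exact one_mem_cd P
  obtain ⟨d, hd, hd1⟩ := h2
  have hdvd := cd_dvd_card hd
  obtain ⟨e, he⟩ := (IsPGroup.iff_card (p := q) (G := P)).1 hP
  rw [he] at hdvd
  obtain ⟨j, _, rfl⟩ := (Nat.dvd_prime_pow hq).1 hdvd
  obtain ⟨φ, hφ⟩ := hd
  refine ⟨φ, ?_⟩
  rw [hφ]
  rcases j with _ | j
  · simp at hd1
  · exact dvd_pow_self q (Nat.succ_ne_zero j)

/-- NSF with the lower pieces (ITOQ, OVERQ, BFAB, FROB) as hypotheses; BASIC, BG, OVER are imported -/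
theorem cd3nsf_core {m n q : ℕ} {F : Subgroup G} (h : BData G m n q F)
    (K N : Subgroup G) (hFK : F ≤ K) (p : ℕ) (hFr : FrobData G K N p)
    (hITOQ : q ∣ m ∧ ¬ q ∣ n)
    (hmono : cdOver K ⊆ cdOver F)
    (hBFAB : ¬ ∀ x ∈ F, ∀ y ∈ F, x * y = y * x)
    (hFROB : ∀ ψ : Cfsg.IrrCharacter N,
      N.index * Cfsg.charDegree (ψ : N → ℂ) ∈ Cfsg.charDegrees G ∨
        K.relIndex N ∣ Cfsg.charDegree (ψ : N → ℂ) ^ 2) : False := by
  have hce := h.hce
  haveI := h.hFn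
  haveI := hFr.hNn
  obtain ⟨a, ha, hrel⟩ := hFr.hidx
  -- `|G:N| = m`
  have hNm : N.index = m := by
    have h1 := bg_quot h (hmono hFr.hNcd)
    simp only [Set.mem_insert_iff, Set.mem_singleton_iff] at h1
    rcases h1 with h1 | h1
    · have := hFr.hN1; omega
    · exact h1
  -- a nonlinear character of `F`
  have hnaF : ¬ ∀ a b : F, a * b = b * a := by
    intro hc
    apply hBFAB
    intro x hx y hy
    have := hc ⟨x, hx⟩ ⟨y, hy⟩
    exact congrArg Subtype.val this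
  obtain ⟨φ, hφ⟩ := cd3nsf_nonlinear q h.hq h.hFq hnaF
  have hFN : F ≤ N := le_trans hFK hFr.hKN.le
  obtain ⟨ψ, hφψ⟩ := over_exists_sub F N hFN φ
  obtain ⟨χ, hψχ, _⟩ := over_exists N ψ
  have hqψ : q ∣ Cfsg.charDegree (ψ : N → ℂ) := dvd_trans hφ hφψ
  have hqχ : q ∣ Cfsg.charDegree (χ : G → ℂ) := dvd_trans hqψ hψχ
  have hc : Cfsg.charDegree (χ : G → ℂ) ∈ Cfsg.charDegrees G := ⟨χ, rfl⟩
  rw [hce.hcd] at hc
  simp only [Set.mem_insert_iff, Set.mem_singleton_iff] at hc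
  have hχm : Cfsg.charDegree (χ : G → ℂ) = m := by
    rcases hc with h1 | h1 | h1
    · rw [h1] at hqχ
      exact absurd (Nat.dvd_one.mp hqχ) h.hq.one_lt.ne'
    · exact h1
    · rw [h1] at hqχ
      exact absurd hqχ hITOQ.2
  have hm := hce.hm
  have hmn := hce.hmn
  have hψ2 : 2 ≤ Cfsg.charDegree (ψ : N → ℂ) := by
    have h0 : 0 < Cfsg.charDegree (ψ : N → ℂ) := cd_pos ⟨ψ, rfl⟩
    have := Nat.le_of_dvd h0 hqψ
    have := h.hq.two_le
    omega
  rcases hFROB ψ with h1 | h1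
  · -- `m ψ(1) ∈ cd(G)`
    rw [hNm, hce.hcd] at h1
    simp only [Set.mem_insert_iff, Set.mem_singleton_iff] at h1
    have hlt : m < m * Cfsg.charDegree (ψ : N → ℂ) := by nlinarith
    rcases h1 with h2 | h2 | h2
    · omega
    · omega
    · apply hITOQ.2
      rw [← h2]
      exact dvd_mul_of_dvd_right hqψ m
  · -- `p ∣ ψ(1) ∣ m = |G:N|`
    rw [hrel] at h1
    have hp1 : p ∣ Cfsg.charDegree (ψ : N → ℂ) ^ 2 := dvd_trans (dvd_pow_self p ha.ne') h1
    have hp2 : p ∣ Cfsg.charDegree (ψ : N → ℂ) := hFr.hp.dvd_of_dvd_pow hp1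
    apply hFr.hpN
    rw [hNm, ← hχm]
    exact dvd_trans hp2 hψχ

end Cfsg.Agent.Lib.Helper28.CD3
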