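import Mathlib
import Cfsg.Agent.Lib.Helper28.CD3.Defs
import Cfsg.Agent.Lib.Helper22.CD3NSFcore
import Cfsg.Agent.Lib.helper2.CD3PQ
import Cfsg.Agent.Lib.Helper22.CD3AUX
import Cfsg.Agent.Lib.helper23.CD3OVERQ
import Cfsg.Agent.Lib.Helper20.CD3FROB
import Cfsg.Agent.Lib.Helper19.CD3BFAB

/-!
# Project CD3, piece NSF : part B, `q ∣ |G:F|`, the Frobenius case (helper22)
-/

set_option autoImplicit false
open scoped commutatorElement

namespace Cfsg.Agent.Lib.Helper28.CD3

universe u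

variable {G : Type u} [Group G] [Finite G]

-- piece NSF
theorem nonsyl_frob {m n q : ℕ} {F : Subgroup G} (h : BData G m n q F) (hqF : q ∣ F.index)
    (K N : Subgroup G) (hFK : F ≤ K) (p : ℕ) (hFr : FrobData G K N p) : False := by
  haveI := hFr.hKn
  haveI := hFr.hNn
  exact cd3nsf_core h K N hFK p hFr (cd3aux_q_dvd_m h hqF) (cdOver_mono hFK) (F_not_abelian h)
    (fun ψ => frob_degree K N hFr.hKN.le hFr.hab hFr.hfpf ψ)

end Cfsg.Agent.Lib.Helper28.CD3
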