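import Mathlib
import Cfsg.Agent.Lib.Helper28.CD3.Defs
import Cfsg.Agent.Lib.Helper19.CD3BG

/-!
# Project CD3, piece NSP (core) : part B, `q ∣ |G:F|`, the case `G/K` a `p`-group (helper22)
-/

set_option autoImplicit false
open scoped commutatorElement

namespace Cfsg.Agent.Lib.Helper28.CD3

universe u

variable {G : Type u} [Group G] [Finite G]

/-- NSP with the lower pieces (ITOQ, OVERQ, PQ) as hypotheses; BG is imported -/
theorem cd3nsp_core {m n q : ℕ} {F : Subgroup G} (h : BData G m n q F)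
    (K : Subgroup G) [K.Normal] (hFK : F ≤ K) (hK : ¬ commutator G ≤ K) (p : ℕ) (hp : p.Prime)
    (hpK : IsPGroup p (G ⧸ K))
    (hITOQ : q ∣ m ∧ ¬ q ∣ n)
    (hex : ∃ d ∈ cdOver K, 1 < d)
    (hmono : cdOver K ⊆ cdOver F)
    (hdvd : ∀ d ∈ cdOver K, d ∣ K.index)
    (hPQ : ∀ χ : Cfsg.IrrCharacter G, ¬ p ∣ Cfsg.charDegree (χ : G → ℂ) →
      ∃ f : ℕ, 1 < f ∧ f ∈ cdOver K ∧ f * Cfsg.charDegree (χ : G → ℂ) ∈ Cfsg.charDegrees G) :
    False := by
  have hce := h.hce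
  haveI : Fact p.Prime := ⟨hp⟩
  obtain ⟨k, hk⟩ := (IsPGroup.iff_card (p := p) (G := G ⧸ K)).1 hpK
  have hidx : K.index = p ^ k := by rw [Subgroup.index_eq_card, hk]
  obtain ⟨f, hfK, hf1⟩ := hex
  have hfF := bg_quot h (hmono hfK)
  simp only [Set.mem_insert_iff, Set.mem_singleton_iff] at hfF
  have hfm : f = m := by
    rcases hfF with h1 | h1
    · omega
    · exact h1
  subst hfm
  -- `q = p`
  have hqp : q = p := by
    have h1 := hdvd f hfK
    rw [hidx] at h1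
    have h2 : q ∣ p ^ k := dvd_trans hITOQ.1 h1
    exact (Nat.prime_dvd_prime_iff_eq h.hq hp).1 (h.hq.dvd_of_dvd_pow h2)
  subst hqp
  -- a character of degree `n`
  have hn : n ∈ Cfsg.charDegrees G := by rw [hce.hcd]; simp
  obtain ⟨χ, hχ⟩ := hn
  obtain ⟨f', hf'1, _, hf'n⟩ := hPQ χ (by rw [hχ]; exact hITOQ.2)
  rw [hχ, hce.hcd] at hf'n
  simp only [Set.mem_insert_iff, Set.mem_singleton_iff] at hf'n
  have hmn := hce.hmn
  have hm := hce.hm
  have hlt : n < f' * n := by nlinarith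
  rcases hf'n with h1 | h1 | h1 <;> omega

end Cfsg.Agent.Lib.Helper28.CD3
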