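import Mathlib
import Cfsg.Agent.Lib.helper6.CEB.Defs
import Cfsg.Agent.Lib.helper7.CEDM8
import Cfsg.Agent.Lib.Helper24.CECM3
import Cfsg.Agent.Lib.Helper24.CECM4
import Cfsg.Agent.Lib.Helper29.CECZ7
import Cfsg.Agent.Lib.Helper18.CEBA1

/-!
# Project CEB (designer helper6), row A6 CORE (helper22): the assembly of the long lift for three indices, with the conclusions of A3 `Ys_B_hs` and A5 `Ys_I_three`
(`PB S.toSysD h`, `PI S.toSysD h`) as hypotheses.
-/

set_option autoImplicit false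

namespace Cfsg.Agent.Lib.helper6.CEB

open Cfsg.Agent.Lib.helper15.St2 Cfsg.Agent.Lib.helper7.Ce Cfsg.Agent.Lib.helper3.STC Cfsg.Agent.Lib.Lead.STD
  Cfsg.Agent.Lib.helper7.CED Cfsg.Agent.Lib.Lead.STB
open Cfsg.Agent.Lib.helper7.CEC (I2 I3 I4 U3)

universe v w w'

section A

variable {K : Type*} [Field K] {ι : Type*} {Γ G : Type*} [Group Γ] [Group G] {S : SysB K ι G} {σ : Γ →* G}

/-- A6 core: from `HT`, `PB`, `PI` for `S.toSysD` -/
theorem ceba6_core [DecidableEq ι] [Finite K] (h : IsCE σ) (h3 : I3 ι) (hT : HT S.toSysD σ)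
    (hBI : HC S.toSysD σ → PB S.toSysD h ∧ PI S.toSysD h) :
    ∃ P : SysD K ι Γ, ∀ a b t, σ (P.x a b t) = S.x a b t := by
  have hC : HC S.toSysD σ := HC_of_HT hT
  obtain ⟨hB, hI⟩ := hBI hC
  obtain ⟨L, -⟩ := rootLift_four h hC h3 hB hI
  exact exists_sysD hC S.toSysD.hW_all h3 L

end A

end Cfsg.Agent.Lib.helper6.CEB
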