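import Mathlib
import Cfsg.Agent.Lib.Helper22.CEBA6core
import Cfsg.Agent.Lib.helper14.CEBA3

/-!
# Project CEB (designer helper6), row A6 (helper22), VERBATIM: the assembly of the long lift for three indices.
-/

set_option autoImplicit false

namespace Cfsg.Agent.Lib.helper6.CEB

open Cfsg.Agent.Lib.helper15.St2 Cfsg.Agent.Lib.helper7.Ce Cfsg.Agent.Lib.helper3.STC Cfsg.Agent.Lib.Lead.STD
  Cfsg.Agent.Lib.helper7.CED Cfsg.Agent.Lib.Lead.STB
open Cfsg.Agent.Lib.helper7.CEC (I2 I3 I4 U3)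

universe v w w'

section A

variable {K : Type*} [Field K] {ι : Type*} {Γ G : Type*} [Group Γ] [Group G] {S : SysB K ι G} {σ : Γ →* G}

/-- A6 [S-M]  `HT_three`, CED T7 `HC_of_HT` (`helper6.CEDT7`), `Ys_B_hs`, `Ys_I_three`, CED Y10 `rootLift_four` (`Helper5.CEDY10`; it only needs `h3`, `hB`, `hI`), CED S5 `exists_sysD` (`helper7.CEDS5`) with
`S.toSysD.hW_all` (`helper6.STDW14`). -/
theorem exists_lift_three [DecidableEq ι] [Finite K] (h : IsCE σ) (hCs : HCs S σ) (h3 : I3 ι) (u3 : U3 ι) (v : K) (hv0 : v ≠ 0) (hv2 : v ^ 2 ≠ 1) :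
    ∃ P : SysD K ι Γ, ∀ a b t, σ (P.x a b t) = S.x a b t :=
  ceba6_core h h3 (HT_three h h3 u3 v hv0 hv2)
    (fun hC => ⟨Ys_B_hs h hC v hv0 hv2, Ys_I_three h hCs u3 (Ys_B_hs h hC v hv0 hv2)⟩)

end A

end Cfsg.Agent.Lib.helper6.CEB
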