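import Mathlib
import Cfsg.Agent.Lib.helper17.CEM.Defs

/-!
# Project CEM (designer helper17), row M4 CORE (helper22): the main theorem `cem_split` from the STATEMENTS of Y5 `exists_longLift`, S9 `exists_sysM_of_longLift` and M3 `split_of_sysM`
(at `ι = l = Fin m`).
-/

set_option autoImplicit false

namespace Cfsg.Agent.Lib.helper17.CEM

open Cfsg.Agent.Lib.helper15.St2 Cfsg.Agent.Lib.helper7.Ce Cfsg.Agent.Lib.helper3.STC Cfsg.Agent.Lib.Lead.STD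
  Cfsg.Agent.Lib.helper7.CEC Cfsg.Agent.Lib.helper7.CED Cfsg.Agent.Lib.helper17.STM

section M

universe v w w'

variable {F : Type*} [Field F] {A B : F} [Fact (∀ r : F, r ^ 2 ≠ -B + A * r)]

/-- M4 core: `hY5`, `hS9`, `hM3` are the statements of Y5, S9 (at `I3_fin hm`, `I2_fin _`) and M3 (at `S`, `R`, `hgen`, `a`, `hspin`). -/
theorem cemm4_core {m : ℕ} {Γ : Type w} {G : Type w'} [Group Γ] [Group G]
    (S : SysM F A B (Fin m) G) {σ : Γ →* G}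
    (hY5 : Nonempty (LongLift S σ))
    (hS9 : ∀ _ : LongLift S σ, ∃ Q : SysM F A B (Fin m) Γ, (∀ a b t, σ (Q.x a b t) = S.x a b t) ∧ ∀ a u, σ (Q.xs a u) = S.xs a u)
    (hM3 : ∀ Q : SysM F A B (Fin m) Γ, (∀ a b t, σ (Q.x a b t) = S.x a b t) → (∀ a u, σ (Q.xs a u) = S.xs a u) →
      ∃ s : G →* Γ, ∀ g, σ (s g) = g) :
    ∃ s : G →* Γ, ∀ g, σ (s g) = g := by
  obtain ⟨L⟩ := hY5
  obtain ⟨Q, hQ, hQs⟩ := hS9 L
  exact hM3 Q hQ hQs

end M

end Cfsg.Agent.Lib.helper17.CEM
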