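import Mathlib
import Cfsg.Agent.Lib.Helper22.CEMM4core
import Cfsg.Agent.Lib.Helper24.CECM3
import Cfsg.Agent.Lib.Helper18.CEMY5
import Cfsg.Agent.Lib.Helper12.CEMS9
import Cfsg.Agent.Lib.Helper11.CEMM3

/-!
# Project CEM (designer helper17), row M4 (helper22), VERBATIM: the main theorem `cem_split` (the interface `CemSplitAt` of the lead's SPM2).
-/

set_option autoImplicit false

namespace Cfsg.Agent.Lib.helper17.CEM

open Cfsg.Agent.Lib.helper15.St2 Cfsg.Agent.Lib.helper7.Ce Cfsg.Agent.Lib.helper3.STC Cfsg.Agent.Lib.Lead.STD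
  Cfsg.Agent.Lib.helper7.CEC Cfsg.Agent.Lib.helper7.CED Cfsg.Agent.Lib.helper17.STM

section M

universe v w w'

variable {F : Type*} [Field F] [Finite F] {A B : F} [Fact (∀ r : F, r ^ 2 ≠ -B + A * r)]

/-- M4 [S]  **the main theorem of CEM** (the interface for the lead's SPM2): Y5 `exists_longLift hm h`, S9 `exists_sysM_of_longLift h L (I3_fin hm) (I2_fin _)`, M3 `split_of_sysM`. -/
theorem cem_split {m : ℕ} (hm : 3 ≤ m) {Γ : Type w} {G : Type w'} [Group Γ] [Group G]
    (S : SysM F A B (Fin m) G) (R : S.Rep (Fin m)) (hgen : S.XQ (fun _ _ => True) (fun _ => True) = ⊤) (a : Fin m ⊕ Fin m)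
    (hspin : S.hs a (-1) = 1 → (2 : F) = 0) {σ : Γ →* G} (h : IsCE σ) :
    ∃ s : G →* Γ, ∀ g, σ (s g) = g :=
  cemm4_core S (exists_longLift hm h)
    (fun L => exists_sysM_of_longLift h L (I3_fin hm) (I2_fin (by omega)))
    (fun Q hQ hQs => split_of_sysM S R hgen a hspin Q hQ hQs)

end M

end Cfsg.Agent.Lib.helper17.CEM
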