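import Mathlib
import Cfsg.Agent.Lib.helper3.CEUO.Defs2
import Cfsg.Agent.Lib.Helper27.STU.Defs3
import Cfsg.Agent.Lib.Helper27.STU.Frob
import Cfsg.Agent.Lib.Helper27.STUH8

/-!
# Project CEUO (sub-designer helper3), row A1 (helper22), VERBATIM: the elements of the form parameter group with `v = 0` are traces.
-/

set_option autoImplicit false

namespace Cfsg.Agent.Lib.helper3.CEUO

open Cfsg.Agent.Lib.helper15.St2 Cfsg.Agent.Lib.helper7.Ce Cfsg.Agent.Lib.helper3.STC Cfsg.Agent.Lib.Helper27.STU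
  Cfsg.Agent.Lib.helper7.CEU

open Cfsg.Agent.Lib.helper7.CEC (I2 I3 I4 U2 U3)

section A

variable {F : Type*} [Field F] [StarRing F] {od : Prop}

/-- A1 [S]  the elements with `v = 0` are traces: `ζ.c` is skew (`ζ.h`); with `γ` from `hF.ex_skew`, `ζ.c / γ` is fixed by `star`, so `ζ.c / γ = y + star y` (`hF.trace_surj`), and `x := γ * y` has
`x - star x = γ * (y + star y) = ζ.c` (`Lam.ext`; model: helper7's G6 `exists_tr`, `Helper18.CEUG6`). -/
theorem exists_tr_of_v (hF : Hyp F) (ζ : Lam F od) (hv : ζ.v = 0) : ∃ x : F, ζ = Lam.tr x := by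
  obtain ⟨γ, hγ0, hγ⟩ := hF.ex_skew
  have hc : star ζ.c = -ζ.c := by
    have h := ζ.h
    rw [hv, zero_mul, add_zero] at h
    exact eq_neg_of_add_eq_zero_right h
  have hfix : star (ζ.c / γ) = ζ.c / γ := by
    rw [star_div₀, hc, hγ, neg_div_neg_eq]
  obtain ⟨y, hy⟩ := hF.trace_surj (ζ.c / γ) hfix
  refine ⟨γ * y, ?_⟩
  apply Lam.ext
  · show ζ.v = 0
    exact hv
  · show ζ.c = γ * y - star (γ * y)
    rw [star_mul', hγ]
    have : ζ.c = γ * (ζ.c / γ) := by field_simp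
    rw [this, ← hy]
    ring

end A

end Cfsg.Agent.Lib.helper3.CEUO
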