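import Mathlib
import Cfsg.Prelude.Def_Transfer
import Cfsg.Prelude.Def_Solvable
import Cfsg.Prelude.Def_CaseTheorems
import Cfsg.Agent.Lib.helper23.PCore
import Cfsg.Agent.Lib.Helper16.SympTrans

set_option autoImplicit false
open Cfsg

namespace Cfsg.Agent.Lib.Helper22.CI

/-- A normal `2`-subgroup of `Sp_{2(m+1)}(F)` over a finite field of even order is trivial:
its fixed vectors form a nonzero invariant set, and the symplectic group is transitive on
nonzero vectors. -/
theorem normal_two_subgroup_sp_eq_bot {F : Type*} [Field F] [Fintype F] (m : ℕ)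
    (hF : Even (Fintype.card F))
    (N : Subgroup (Matrix.symplecticGroup (Fin (m + 1)) F)) [hN : N.Normal]
    (h2 : IsPGroup 2 N) : N = ⊥ := by
  classical
  let V := Fin (m + 1) ⊕ Fin (m + 1) → F
  let actN : MulAction ↥N V :=
    { smul := fun z v => (z.1.1 : Matrix _ _ F).mulVec v
      one_smul := fun v => by
        show ((1 : ↥N).1.1 : Matrix _ _ F).mulVec v = v
        simp
      mul_smul := fun a b v => by
        show ((a * b).1.1 : Matrix _ _ F).mulVec v = (a.1.1 : Matrix _ _ F).mulVec ((b.1.1 : Matrix _ _ F).mulVec v)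
        rw [Matrix.mulVec_mulVec]
        rfl }
  have hsmul : ∀ (z : ↥N) (v : V), z • v = (z.1.1 : Matrix _ _ F).mulVec v := fun _ _ => rfl
  -- number of fixed points is even
  have hmod := h2.card_modEq_card_fixedPoints (α := V)
  have hcardV : Even (Nat.card V) := by
    rw [Nat.card_eq_fintype_card, Fintype.card_fun]
    apply Even.pow_of_ne_zero hF
    simp
  have hfix_even : Even (Nat.card (MulAction.fixedPoints ↥N V)) := by
    have h1 : Nat.card V % 2 = 0 := Nat.even_iff.mp hcardV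
    have h2' : Nat.card (MulAction.fixedPoints ↥N V) % 2 = 0 := by
      have := hmod
      unfold Nat.ModEq at this
      omega
    exact Nat.even_iff.mpr h2'
  -- zero is fixed
  have h0 : (0 : V) ∈ MulAction.fixedPoints ↥N V := by
    intro z
    rw [hsmul, Matrix.mulVec_zero]
  -- hence a nonzero fixed vector exists
  obtain ⟨w, hwfix, hw0⟩ : ∃ w : V, w ∈ MulAction.fixedPoints ↥N V ∧ w ≠ 0 := by
    by_contra hcon
    push Not at hcon
    have hsub : MulAction.fixedPoints ↥N V = {0} := by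
      ext v
      constructor
      · intro hv
        exact hcon v hv
      · intro hv
        rw [Set.mem_singleton_iff] at hv
        rw [hv]; exact h0
    rw [hsub] at hfix_even
    simp at hfix_even
  -- every element of N fixes every vector
  rw [Subgroup.eq_bot_iff_forall]
  intro z hz
  apply Subtype.ext
  show (z : Matrix (Fin (m + 1) ⊕ Fin (m + 1)) (Fin (m + 1) ⊕ Fin (m + 1)) F) = 1
  rw [Matrix.ext_iff_mulVec]
  intro v
  rw [Matrix.one_mulVec]
  by_cases hv : v = 0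
  · rw [hv, Matrix.mulVec_zero]
  · obtain ⟨A, hA⟩ := Cfsg.Agent.Lib.Helper16.sp_transitive m w v hw0 hv
    have hconj : A⁻¹ * z * A ∈ N := by
      have := hN.conj_mem z hz A⁻¹
      simpa using this
    have hfixw := hwfix ⟨A⁻¹ * z * A, hconj⟩
    rw [hsmul] at hfixw
    have hfixw' : ((A⁻¹ * z * A : Matrix.symplecticGroup (Fin (m + 1)) F) : Matrix _ _ F).mulVec w = w := hfixw
    have hAinv : (A : Matrix (Fin (m + 1) ⊕ Fin (m + 1)) (Fin (m + 1) ⊕ Fin (m + 1)) F) *
        ((A⁻¹ : Matrix.symplecticGroup (Fin (m + 1)) F) : Matrix _ _ F) = 1 := by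
      have : A * A⁻¹ = 1 := mul_inv_cancel A
      exact congrArg Subtype.val this
    have hcoe : ((A⁻¹ * z * A : Matrix.symplecticGroup (Fin (m + 1)) F) :
        Matrix (Fin (m + 1) ⊕ Fin (m + 1)) (Fin (m + 1) ⊕ Fin (m + 1)) F) =
        ((A⁻¹ : Matrix.symplecticGroup (Fin (m + 1)) F) :
          Matrix (Fin (m + 1) ⊕ Fin (m + 1)) (Fin (m + 1) ⊕ Fin (m + 1)) F) *
        (z : Matrix (Fin (m + 1) ⊕ Fin (m + 1)) (Fin (m + 1) ⊕ Fin (m + 1)) F) *
        (A : Matrix (Fin (m + 1) ⊕ Fin (m + 1)) (Fin (m + 1) ⊕ Fin (m + 1)) F) := rfl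
    rw [hcoe] at hfixw'
    have := congrArg (fun u => (A : Matrix (Fin (m + 1) ⊕ Fin (m + 1)) (Fin (m + 1) ⊕ Fin (m + 1)) F).mulVec u) hfixw'
    rw [Matrix.mulVec_mulVec, ← Matrix.mul_assoc, ← Matrix.mul_assoc, hAinv, Matrix.one_mul,
      ← Matrix.mulVec_mulVec, hA] at this
    exact this

theorem p2_assemble {C : Type*} [Group C] [Finite C]
    (φ : C →* Matrix.symplecticGroup (Fin 3) (ZMod 2)) (hsurj : Function.Surjective φ)
    (hK : Cfsg.IsExtraspecial 2 ↥φ.ker) (hcard : Nat.card ↥φ.ker = 2 ^ 9) :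
    Cfsg.IsExtraspecial 2 ↥(Cfsg.pCore 2 C) ∧ Nat.card ↥(Cfsg.pCore 2 C) = 2 ^ 9 ∧
      Nonempty (C ⧸ Cfsg.pCore 2 C ≃* Matrix.symplecticGroup (Fin 3) (ZMod 2)) := by
  have : Fact (Nat.Prime 2) := ⟨Nat.prime_two⟩
  have hK2 : IsPGroup 2 ↥φ.ker := hK.1.1
  have hle : φ.ker ≤ Cfsg.pCore 2 C := Cfsg.Agent.Lib.helper23.le_pCore φ.ker hK2
  have hOn : (Cfsg.pCore 2 C).Normal := Cfsg.Agent.Lib.helper23.pCore_normal 2 C
  have hO2 : IsPGroup 2 ↥(Cfsg.pCore 2 C) := Cfsg.Agent.Lib.helper23.pCore_isPGroup 2 C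
  have hmapN : ((Cfsg.pCore 2 C).map φ).Normal := hOn.map φ hsurj
  have hmap2 : IsPGroup 2 ↥((Cfsg.pCore 2 C).map φ) := hO2.map φ
  have hbot : (Cfsg.pCore 2 C).map φ = ⊥ := by
    have hF : Even (Fintype.card (ZMod 2)) := by
      rw [ZMod.card]; exact even_two
    exact normal_two_subgroup_sp_eq_bot (F := ZMod 2) 2 hF _ hmap2
  have hge : Cfsg.pCore 2 C ≤ φ.ker := by
    intro x hx
    rw [MonoidHom.mem_ker]
    have : φ x ∈ (Cfsg.pCore 2 C).map φ := Subgroup.mem_map_of_mem φ hx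
    rw [hbot, Subgroup.mem_bot] at this
    exact this
  have heq : Cfsg.pCore 2 C = φ.ker := le_antisymm hge hle
  refine ⟨?_, ?_, ?_⟩
  · rw [heq]; exact hK
  · rw [heq]; exact hcard
  · exact ⟨(QuotientGroup.quotientMulEquivOfEq heq).trans
      (QuotientGroup.quotientKerEquivOfSurjective φ hsurj)⟩

end Cfsg.Agent.Lib.Helper22.CI
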