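import Cfsg.Agent.Lib.Lead.Co2Inv.Defs

set_option autoImplicit false
open Cfsg

namespace Cfsg.Agent.Lib.Helper22.CI

open Cfsg.Agent.Lib.helper3 Cfsg.Agent.Lib.helper4 Cfsg.Agent.S1571 Cfsg.Agent.S0398
open Cfsg.Agent.Lib.Lead.LC Cfsg.Agent.Lib.Lead.CI


theorem sumFin23' (F : Fin 23 → ℤ) : ∑ x, F x = F 0 + (F 1 + (F 2 + (F 3 + (F 4 + (F 5 + (F 6 + (F 7 + (F 8 + (F 9 + (F 10 + (F 11 + (F 12 + (F 13 + (F 14 + (F 15 + (F 16 + (F 17 + (F 18 + (F 19 + (F 20 + (F 21 + F 22))))))))))))))))))))) := by
  simp only [Fin.sum_univ_succ, Fin.sum_univ_zero, add_zero]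
  rfl

theorem sum24' (F : GolayPt → ℤ) : ∑ p, F p = F none + (F (some 0) + (F (some 1) + (F (some 2) + (F (some 3) + (F (some 4) + (F (some 5) + (F (some 6) + (F (some 7) + (F (some 8) + (F (some 9) + (F (some 10) + (F (some 11) + (F (some 12) + (F (some 13) + (F (some 14) + (F (some 15) + (F (some 16) + (F (some 17) + (F (some 18) + (F (some 19) + (F (some 20) + (F (some 21) + F (some 22))))))))))))))))))))))) := by
  rw [Fintype.sum_option]
  exact congrArg (F none + ·) (sumFin23' (fun x => F (some x)))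

set_option maxRecDepth 1000000 in
/-- a codeword vanishing outside the octad `O` is zero on `O` or one on `O` -/
theorem p7_code : ∀ k : ℕ, k < 4096 → (∀ p : GolayPt, ¬ inO p → gword (golayMask k) p = 0) →
    (∀ p : GolayPt, inO p → gword (golayMask k) p = 0) ∨
      (∀ p : GolayPt, inO p → gword (golayMask k) p = 1) := by
  decide +kernel

theorem sq_mod32_zero (v : ℤ) (h : v % 4 = 0) : v ^ 2 % 32 = (4 * v) % 32 := by
  obtain ⟨q, rfl⟩ : ∃ q, v = 4 * q := ⟨v / 4, by omega⟩
  rcases Int.even_or_odd' q with ⟨r, hr | hr⟩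
  · subst hr
    have : (4 * (2 * r)) ^ 2 = 32 * (2 * r ^ 2) := by ring
    rw [this]; omega
  · subst hr
    have : (4 * (2 * r + 1)) ^ 2 = 32 * (2 * r ^ 2 + 2 * r) + 16 := by ring
    rw [this]; omega

theorem sq_mod32_two (v : ℤ) (h : v % 4 = 2) : v ^ 2 % 32 = 4 := by
  obtain ⟨q, rfl⟩ : ∃ q, v = 4 * q + 2 := ⟨v / 4, by omega⟩
  rcases Int.even_or_odd' q with ⟨r, hr | hr⟩
  · subst hr
    have : (4 * (2 * r) + 2) ^ 2 = 32 * (2 * r ^ 2 + r) + 4 := by ring
    rw [this]; omega
  · subst hr
    have : (4 * (2 * r + 1) + 2) ^ 2 = 32 * (2 * r ^ 2 + 3 * r + 1) + 4 := by ring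
    rw [this]; omega

theorem inO_cases (p : GolayPt) (hp : inO p) :
    p = none ∨ p = some 0 ∨ p = some 1 ∨ p = some 2 ∨ p = some 4 ∨ p = some 13 ∨ p = some 16 ∨
      p = some 22 := by
  revert p
  decide

theorem not_inO_list : ∀ p : GolayPt, p ≠ none → p ≠ some 0 → p ≠ some 1 → p ≠ some 2 → p ≠ some 4 →
    p ≠ some 13 → p ≠ some 16 → p ≠ some 22 → ¬ inO p := by
  decide

/-- the sum over all points of a function vanishing outside `O` -/
theorem sum_O (F : GolayPt → ℤ) (hF : ∀ p, ¬ inO p → F p = 0) :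
    ∑ p, F p = F none + F (some 0) + F (some 1) + F (some 2) + F (some 4) + F (some 13) +
      F (some 16) + F (some 22) := by
  rw [sum24']
  have h3 := hF (some 3) (by decide)
  have h5 := hF (some 5) (by decide)
  have h6 := hF (some 6) (by decide)
  have h7 := hF (some 7) (by decide)
  have h8 := hF (some 8) (by decide)
  have h9 := hF (some 9) (by decide)
  have h10 := hF (some 10) (by decide)
  have h11 := hF (some 11) (by decide)
  have h12 := hF (some 12) (by decide)
  have h14 := hF (some 14) (by decide)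
  have h15 := hF (some 15) (by decide)
  have h17 := hF (some 17) (by decide)
  have h18 := hF (some 18) (by decide)
  have h19 := hF (some 19) (by decide)
  have h20 := hF (some 20) (by decide)
  have h21 := hF (some 21) (by decide)
  rw [h3, h5, h6, h7, h8, h9, h10, h11, h12, h14, h15, h17, h18, h19, h20, h21]
  ring

/-- the norm of a lattice vector supported on `O` is divisible by `32` -/
theorem p7_norm (x : GolayPt → ℤ) (hx : x ∈ leechLattice) (hxO : ∀ p, ¬ inO p → x p = 0) :
    (32 : ℤ) ∣ sqNorm x := by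
  rw [mem_leechLattice_iff, mem_leechSet_iff] at hx
  obtain ⟨m, h1, h2, h3⟩ := hx
  -- m is even
  have hm : m % 2 = 0 := by
    have h := h1 (some 3)
    rw [hxO (some 3) (by decide)] at h
    unfold Int.ModEq at h
    omega
  have heven : ∀ p, x p % 2 = 0 := by
    intro p
    have h := h1 p
    unfold Int.ModEq at h
    omega
  have hsum : (∑ p, x p) % 8 = 0 := by
    unfold Int.ModEq at h2
    omega
  rw [sum_O x hxO] at hsum
  -- the codeword of coordinates ≡ 2 mod 4
  obtain ⟨k, hk, hw⟩ := (Cfsg.Agent.Lib.helper3.mem_golayCode_iff _).mp (h3 2)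
  have hout : ∀ p : GolayPt, ¬ inO p → gword (golayMask k) p = 0 := by
    intro p hp
    rw [← hw]
    unfold ind4
    rw [if_neg]
    rw [hxO p hp]
    unfold Int.ModEq
    decide
  have hsq : sqNorm x = x none ^ 2 + x (some 0) ^ 2 + x (some 1) ^ 2 + x (some 2) ^ 2 + x (some 4) ^ 2 +
      x (some 13) ^ 2 + x (some 16) ^ 2 + x (some 22) ^ 2 := by
    unfold sqNorm
    rw [sum_O (fun p => x p ^ 2) (fun p hp => by show x p ^ 2 = 0; rw [hxO p hp]; ring)]
  rw [hsq]
  have hind : ∀ p, ind4 x 2 p = gword (golayMask k) p := fun p => by rw [hw]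
  rcases p7_code k hk hout with h0 | h1'
  · -- all coordinates on O are ≡ 0 mod 4
    have h4 : ∀ p, inO p → x p % 4 = 0 := by
      intro p hp
      have h := h0 p hp
      rw [← hind] at h
      unfold ind4 at h
      have hne : ¬ (x p ≡ 2 [ZMOD 4]) := by
        intro hc
        rw [if_pos hc] at h
        exact one_ne_zero h
      unfold Int.ModEq at hne
      have := heven p
      omega
    have e0 := sq_mod32_zero _ (h4 none (by decide))
    have e1 := sq_mod32_zero _ (h4 (some 0) (by decide))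
    have e2 := sq_mod32_zero _ (h4 (some 1) (by decide))
    have e3 := sq_mod32_zero _ (h4 (some 2) (by decide))
    have e4 := sq_mod32_zero _ (h4 (some 4) (by decide))
    have e5 := sq_mod32_zero _ (h4 (some 13) (by decide))
    have e6 := sq_mod32_zero _ (h4 (some 16) (by decide))
    have e7 := sq_mod32_zero _ (h4 (some 22) (by decide))
    omega
  · have h4 : ∀ p, inO p → x p % 4 = 2 := by
      intro p hp
      have h := h1' p hp
      rw [← hind] at h
      unfold ind4 at h
      by_contra hne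
      have hne' : ¬ (x p ≡ 2 [ZMOD 4]) := by
        unfold Int.ModEq
        omega
      rw [if_neg hne'] at h
      exact zero_ne_one h
    have e0 := sq_mod32_two _ (h4 none (by decide))
    have e1 := sq_mod32_two _ (h4 (some 0) (by decide))
    have e2 := sq_mod32_two _ (h4 (some 1) (by decide))
    have e3 := sq_mod32_two _ (h4 (some 2) (by decide))
    have e4 := sq_mod32_two _ (h4 (some 4) (by decide))
    have e5 := sq_mod32_two _ (h4 (some 13) (by decide))
    have e6 := sq_mod32_two _ (h4 (some 16) (by decide))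
    have e7 := sq_mod32_two _ (h4 (some 22) (by decide))
    omega

/-! P7 : inner products in the sublattice -/
theorem p7_dot (x y : GolayPt → ℤ) (hx : x ∈ leechLattice) (hy : y ∈ leechLattice)
    (hxO : ∀ p, ¬ inO p → x p = 0) (hyO : ∀ p, ¬ inO p → y p = 0) : (16 : ℤ) ∣ dotInt x y := by
  have hxy : x + y ∈ leechLattice := leechLattice.add_mem hx hy
  have hxyO : ∀ p, ¬ inO p → (x + y) p = 0 := by
    intro p hp
    show x p + y p = 0
    rw [hxO p hp, hyO p hp]; ring
  have e1 := p7_norm x hx hxO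
  have e2 := p7_norm y hy hyO
  have e3 := p7_norm (x + y) hxy hxyO
  have hpol : sqNorm (x + y) = sqNorm x + 2 * dotInt x y + sqNorm y := by
    unfold sqNorm dotInt
    rw [Finset.mul_sum, ← Finset.sum_add_distrib, ← Finset.sum_add_distrib]
    refine Finset.sum_congr rfl (fun p _ => ?_)
    show (x p + y p) ^ 2 = _
    ring
  rw [hpol] at e3
  omega

end Cfsg.Agent.Lib.Helper22.CI
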