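import Cfsg.Agent.Lib.Lead.Co2Inv.Defs

set_option autoImplicit false
open Cfsg

namespace Cfsg.Agent.Lib.Helper22.CI

open Cfsg.Agent.Lib.helper3 Cfsg.Agent.Lib.helper4 Cfsg.Agent.S1571 Cfsg.Agent.S0398
open Cfsg.Agent.Lib.Lead.LC Cfsg.Agent.Lib.Lead.CI

set_option maxRecDepth 100000 in
theorem p8_table : ∀ p q : GolayPt,
    (∑ k : I8, Dv k p * Ev k q) = if p = q ∧ inO p then 16 else 0 := by decide +kernel

/-! P8 : expansion in the basis -/
theorem p8_expand (x : GolayPt → ℤ) (hxO : ∀ p, ¬ inO p → x p = 0) (q : GolayPt) :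
    16 * x q = ∑ k : I8, dotInt x (Dv k) * Ev k q := by
  have h1 : ∑ k : I8, dotInt x (Dv k) * Ev k q = ∑ p : GolayPt, x p * (∑ k : I8, Dv k p * Ev k q) := by
    unfold dotInt
    simp_rw [Finset.sum_mul, Finset.mul_sum]
    rw [Finset.sum_comm]
    refine Finset.sum_congr rfl (fun p _ => Finset.sum_congr rfl (fun k _ => ?_))
    ring
  rw [h1]
  simp_rw [p8_table]
  rw [Finset.sum_eq_single q]
  · by_cases hq : inO q
    · rw [if_pos ⟨rfl, hq⟩]; ring
    · rw [if_neg (fun h => hq h.2), hxO q hq]; ring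
  · intro p _ hpq
    rw [if_neg (fun h => hpq h.1), mul_zero]
  · intro h
    exact absurd (Finset.mem_univ q) h

end Cfsg.Agent.Lib.Helper22.CI
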