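import Mathlib
import Cfsg.Agent.Lib.Helper22.Basic

set_option autoImplicit false

namespace Cfsg.Agent.Lib.Helper22.CamB

open Cfsg.Agent.Lib.Helper22

variable {G : Type*} [Group G]

/-- the Camina condition for the pair `(G, N)` -/
def Cam (N : Subgroup G) : Prop :=
  ∀ g : G, g ∉ N → ∀ n ∈ N, ∃ x : G, x * g * x⁻¹ = g * n

/-- all elements of the coset `g N` have the same order as `g` -/
theorem orderOf_mul_eq {N : Subgroup G} (hcam : Cam N) (g : G) (hg : g ∉ N) (n : G)
    (hn : n ∈ N) : orderOf (g * n) = orderOf g := by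
  obtain ⟨x, hx⟩ := hcam g hg n hn
  have h : SemiconjBy x g (g * n) := by
    unfold SemiconjBy
    rw [← hx]
    group
  exact (h.orderOf_eq x).symm

/-- **F1**: an element of `N` centralized by an `s`-element outside `N` is an `s`-element -/
theorem pow_eq_one_of_commute {N : Subgroup G} (hcam : Cam N) (g : G) (hg : g ∉ N) (m : ℕ)
    (hm : g ^ m = 1) (n : G) (hn : n ∈ N) (hc : Commute g n) : n ^ m = 1 := by
  have h1 : (g * n) ^ m = 1 := by
    rw [← orderOf_dvd_iff_pow_eq_one, orderOf_mul_eq hcam g hg n hn, orderOf_dvd_iff_pow_eq_one]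
    exact hm
  rw [hc.mul_pow, hm, one_mul] at h1
  exact h1

/-- **F1'**: a `p`-element has a nontrivial fixed point on a normal subgroup of order divisible
by `p` -/
theorem exists_fixed [Finite G] (N : Subgroup G) [N.Normal] (p : ℕ) [hp : Fact p.Prime]
    (hpN : p ∣ Nat.card N) (g : G) (k : ℕ) (hk : orderOf g = p ^ k) :
    ∃ n ∈ N, n ≠ 1 ∧ Commute g n := by
  have hP : IsPGroup p (Subgroup.zpowers g) := by
    apply IsPGroup.of_card (n := k)
    rw [Nat.card_zpowers, hk]
  letI : MulAction (Subgroup.zpowers g) N :=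
    MulAction.compHom N ((MulAut.conjNormal (H := N)).comp (Subgroup.zpowers g).subtype)
  have h1 : (1 : N) ∈ MulAction.fixedPoints (Subgroup.zpowers g) N := by
    intro t
    change (MulAut.conjNormal (H := N) (t : G)) (1 : N) = 1
    exact map_one _
  obtain ⟨b, hb, hb1⟩ := hP.exists_fixed_point_of_prime_dvd_card_of_fixed_point N hpN h1
  refine ⟨(b : G), b.2, ?_, ?_⟩
  · intro h
    apply hb1
    exact Subtype.ext h.symm
  · have h2 := hb ⟨g, Subgroup.mem_zpowers g⟩
    change (MulAut.conjNormal (H := N) g) b = b at h2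
    have h3 := congrArg (fun c : N => (c : G)) h2
    simp only [MulAut.conjNormal_apply] at h3
    unfold Commute SemiconjBy
    calc g * (b : G) = g * b * g⁻¹ * g := by group
      _ = b * g := by rw [h3]


/-- the class of `g ∉ N` is the full preimage of the class of its image in `G ⧸ N` -/
theorem conj_iff_quot {N : Subgroup G} [N.Normal] (hcam : Cam N) (g : G) (hg : g ∉ N) (h : G) :
    IsConj g h ↔ IsConj (g : G ⧸ N) (h : G ⧸ N) := by
  constructor
  · intro hc
    obtain ⟨c, hc⟩ := isConj_iff.1 hc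
    rw [isConj_iff]
    refine ⟨(c : G ⧸ N), ?_⟩
    rw [← hc]
    simp
  · intro hc
    obtain ⟨c', hc'⟩ := isConj_iff.1 hc
    obtain ⟨c, rfl⟩ := QuotientGroup.mk_surjective c'
    have h1 : ((c * g * c⁻¹ : G) : G ⧸ N) = (h : G ⧸ N) := by
      rw [← hc']; simp
    have h2 : (c * g * c⁻¹)⁻¹ * h ∈ N := QuotientGroup.eq.1 h1
    have h3 : c * g * c⁻¹ ∉ N := by
      intro hmem
      apply hg
      have := (inferInstance : N.Normal).conj_mem _ hmem c⁻¹
      simpa [mul_assoc] using this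
    obtain ⟨x, hx⟩ := hcam _ h3 _ h2
    rw [isConj_iff]
    refine ⟨x * c, ?_⟩
    have : c * g * c⁻¹ * ((c * g * c⁻¹)⁻¹ * h) = h := by group
    rw [← this, ← hx]
    group

/-- **F2**: `|C_G(g)| = |C_{G/N}(gN)|` for `g ∉ N` -/
theorem card_centralizer_eq [Finite G] {N : Subgroup G} [N.Normal] (hcam : Cam N) (g : G)
    (hg : g ∉ N) :
    Nat.card (Subgroup.centralizer ({g} : Set G)) =
      Nat.card (Subgroup.centralizer ({(g : G ⧸ N)} : Set (G ⧸ N))) := by
  have h1 := index_centralizer_eq_ncard_conj g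
  have h2 := index_centralizer_eq_ncard_conj (g : G ⧸ N)
  have h3 : {h : G | IsConj g h} =
      (QuotientGroup.mk : G → G ⧸ N) ⁻¹' {h' : G ⧸ N | IsConj (g : G ⧸ N) h'} := by
    ext h
    exact conj_iff_quot hcam g hg h
  have h4 := QuotientGroup.card_preimage_mk N {h' : G ⧸ N | IsConj (g : G ⧸ N) h'}
  rw [← h3, Nat.card_coe_set_eq, Nat.card_coe_set_eq, ← h1, ← h2] at h4
  have h5 := Subgroup.card_mul_index (Subgroup.centralizer ({g} : Set G))
  have h6 := Subgroup.card_mul_index (Subgroup.centralizer ({(g : G ⧸ N)} : Set (G ⧸ N)))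
  have h7 := Subgroup.card_eq_card_quotient_mul_card_subgroup N
  have hNpos : 0 < Nat.card N := Nat.card_pos
  have hipos : 0 < (Subgroup.centralizer ({(g : G ⧸ N)} : Set (G ⧸ N))).index :=
    Nat.pos_of_ne_zero Subgroup.index_ne_zero_of_finite
  have h8 : Nat.card (Subgroup.centralizer ({g} : Set G)) *
      (Nat.card N * (Subgroup.centralizer ({(g : G ⧸ N)} : Set (G ⧸ N))).index) =
      Nat.card (Subgroup.centralizer ({(g : G ⧸ N)} : Set (G ⧸ N))) *
      (Nat.card N * (Subgroup.centralizer ({(g : G ⧸ N)} : Set (G ⧸ N))).index) := by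
    calc Nat.card (Subgroup.centralizer ({g} : Set G)) *
          (Nat.card N * (Subgroup.centralizer ({(g : G ⧸ N)} : Set (G ⧸ N))).index)
        = Nat.card G := by rw [← h4, h5]
      _ = Nat.card (G ⧸ N) * Nat.card N := h7
      _ = _ := by rw [← h6]; ring
  exact Nat.eq_of_mul_eq_mul_right (Nat.mul_pos hNpos hipos) h8

/-- **★**: for a Camina pair with `p ∣ |N|`, every nontrivial `p`-element `x̄` of `G ⧸ N`
satisfies `p · o(x̄) ∣ |C(x̄)|` -/
theorem star [Finite G] {N : Subgroup G} [N.Normal] (hcam : Cam N) (p : ℕ) [hp : Fact p.Prime]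
    (hpN : p ∣ Nat.card N) (x' : G ⧸ N) (hx1 : x' ≠ 1) (hxp : ∃ k, orderOf x' = p ^ k) :
    p * orderOf x' ∣ Nat.card (Subgroup.centralizer ({x'} : Set (G ⧸ N))) := by
  have hp1 := hp.1
  obtain ⟨k, hk⟩ := hxp
  obtain ⟨g₀, rfl⟩ := QuotientGroup.mk_surjective x'
  have ho0 : orderOf g₀ ≠ 0 := (orderOf_pos g₀).ne'
  obtain ⟨a, m, hpm, hom⟩ := Nat.exists_eq_pow_mul_and_not_dvd ho0 p hp1.ne_one
  have hm0 : m ≠ 0 := by
    intro h
    rw [h, mul_zero] at hom
    exact ho0 hom
  set g := g₀ ^ m with hg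
  have hog : orderOf g = p ^ a := by
    rw [hg, orderOf_pow_of_dvd hm0 (Dvd.intro_left _ hom.symm), hom,
      Nat.mul_div_cancel _ (Nat.pos_of_ne_zero hm0)]
  have hcop : (orderOf (g₀ : G ⧸ N)).Coprime m := by
    rw [hk]
    exact Nat.Coprime.pow_left k ((Nat.Prime.coprime_iff_not_dvd hp1).2 hpm)
  have hgq : (g : G ⧸ N) = (g₀ : G ⧸ N) ^ m := by rw [hg]; simp
  have hoq : orderOf (g : G ⧸ N) = orderOf (g₀ : G ⧸ N) := by
    rw [hgq]; exact hcop.orderOf_pow
  have hgN : g ∉ N := by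
    intro h
    have : (g : G ⧸ N) = 1 := (QuotientGroup.eq_one_iff g).2 h
    rw [this, orderOf_one] at hoq
    exact hx1 (orderOf_eq_one_iff.1 hoq.symm)
  have hcent : Subgroup.centralizer ({(g : G ⧸ N)} : Set (G ⧸ N)) =
      Subgroup.centralizer ({(g₀ : G ⧸ N)} : Set (G ⧸ N)) := by
    obtain ⟨u, hu⟩ := exists_pow_eq_self_of_coprime hcop.symm
    ext c
    rw [Subgroup.mem_centralizer_singleton_iff, Subgroup.mem_centralizer_singleton_iff, hgq]
    constructor
    · intro h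
      have h' : Commute c ((g₀ : G ⧸ N) ^ m) := h
      have := h'.pow_right u
      rw [hu] at this
      exact this
    · intro h
      have h' : Commute c (g₀ : G ⧸ N) := h
      exact (h'.pow_right m)
  -- the centralizer of g
  obtain ⟨n₀, hn₀N, hn₀1, hn₀c⟩ := exists_fixed N p hpN g a hog
  have hn₀p : n₀ ^ (p ^ a) = 1 :=
    pow_eq_one_of_commute hcam g hgN (p ^ a) (by rw [← hog, pow_orderOf_eq_one]) n₀ hn₀N hn₀c
  set C := Subgroup.centralizer ({g} : Set G) with hC
  let ψ : C →* G ⧸ N := (QuotientGroup.mk' N).comp C.subtype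
  have hcard : Nat.card ψ.ker * Nat.card ψ.range = Nat.card C := by
    rw [← Subgroup.index_ker]; exact Subgroup.card_mul_index _
  have hn₀C : n₀ ∈ C := Subgroup.mem_centralizer_singleton_iff.2 hn₀c.eq.symm
  have hker : (⟨n₀, hn₀C⟩ : C) ∈ ψ.ker := by
    rw [MonoidHom.mem_ker]
    change ((n₀ : G) : G ⧸ N) = 1
    exact (QuotientGroup.eq_one_iff n₀).2 hn₀N
  have hd1 : p ∣ Nat.card ψ.ker := by
    have h1 : orderOf (⟨n₀, hn₀C⟩ : C) ∣ Nat.card ψ.ker := Subgroup.orderOf_dvd_natCard _ hker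
    have h2 : orderOf (⟨n₀, hn₀C⟩ : C) = orderOf n₀ := Subgroup.orderOf_mk n₀ hn₀C
    have h3 : orderOf n₀ ∣ p ^ a := orderOf_dvd_of_pow_eq_one hn₀p
    obtain ⟨i, _, hi⟩ := (Nat.dvd_prime_pow hp1).1 h3
    have hi0 : i ≠ 0 := by
      intro h
      rw [h, pow_zero, orderOf_eq_one_iff] at hi
      exact hn₀1 hi
    rw [h2, hi] at h1
    exact dvd_trans (dvd_pow_self p hi0) h1
  have hgC : g ∈ C := Subgroup.mem_centralizer_singleton_iff.2 rfl
  have hd2 : orderOf (g : G ⧸ N) ∣ Nat.card ψ.range := by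
    apply Subgroup.orderOf_dvd_natCard
    exact ⟨⟨g, hgC⟩, rfl⟩
  have hd3 : p * orderOf (g : G ⧸ N) ∣ Nat.card C := by
    rw [← hcard]; exact Nat.mul_dvd_mul hd1 hd2
  rw [card_centralizer_eq hcam g hgN, hcent, hoq] at hd3
  exact hd3

end Cfsg.Agent.Lib.Helper22.CamB
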