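import Mathlib
import Cfsg.Agent.Lib.Helper22.Basic
import Cfsg.Agent.Lib.Helper22.CamB

set_option autoImplicit false

namespace Cfsg.Agent.Lib.Helper22.CamC

open Cfsg.Agent.Lib.Helper22 Cfsg.Agent.Lib.Helper22.CamB

/-- fibres of a surjective homomorphism -/
theorem card_preimage_surj {A B : Type*} [Group A] [Group B] (φ : A →* B)
    (hφ : Function.Surjective φ) (t : Set B) :
    Nat.card (φ ⁻¹' t) = Nat.card φ.ker * Nat.card t := by
  let e := QuotientGroup.quotientKerEquivOfSurjective φ hφ
  have h1 : φ ⁻¹' t = (QuotientGroup.mk : A → A ⧸ φ.ker) ⁻¹' (e ⁻¹' t) := by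
    ext a
    simp only [Set.mem_preimage]
    rfl
  rw [h1, QuotientGroup.card_preimage_mk, Nat.card_coe_set_eq, Nat.card_coe_set_eq (s := t),
    Set.ncard_preimage_of_injective_subset_range e.injective]
  intro b _
  exact e.surjective b

variable {G : Type*} [Group G]

/-- the restriction of `G → G ⧸ N` to a supplement of `N` is surjective -/
theorem restrict_surj (N H : Subgroup G) [N.Normal] (hHN : H ⊔ N = ⊤) :
    Function.Surjective ((QuotientGroup.mk' N).comp H.subtype) := by
  intro x'
  obtain ⟨x, rfl⟩ := QuotientGroup.mk_surjective x'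
  have hx : x ∈ H ⊔ N := by rw [hHN]; exact Subgroup.mem_top x
  have h1 : x ∈ ((H ⊔ N : Subgroup G) : Set G) := hx
  rw [Subgroup.mul_normal] at h1
  obtain ⟨h, hh, n, hn, rfl⟩ := Set.mem_mul.1 h1
  refine ⟨⟨h, hh⟩, ?_⟩
  change ((h : G) : G ⧸ N) = ((h * n : G) : G ⧸ N)
  rw [QuotientGroup.eq]
  simpa using hn

theorem restrict_ker (N H : Subgroup G) [N.Normal] :
    ((QuotientGroup.mk' N).comp H.subtype).ker = N.subgroupOf H := by
  ext h
  rw [MonoidHom.mem_ker, Subgroup.mem_subgroupOf]
  change ((h : G) : G ⧸ N) = 1 ↔ _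
  exact QuotientGroup.eq_one_iff _

/-- **F3**: a supplement `H` of `N` inherits the Camina property -/
theorem cam_sub [Finite G] {N : Subgroup G} [N.Normal] (hcam : Cam N) (H : Subgroup G)
    (hHN : H ⊔ N = ⊤) : Cam (N.subgroupOf H) := by
  intro h hh n hn
  set φ : H →* G ⧸ N := (QuotientGroup.mk' N).comp H.subtype with hφ
  have hsurj : Function.Surjective φ := restrict_surj N H hHN
  have hker : φ.ker = N.subgroupOf H := restrict_ker N H
  have hhN : (h : G) ∉ N := fun hc => hh (Subgroup.mem_subgroupOf.2 hc)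
  -- the sets
  set S' : Set (G ⧸ N) := {y' | IsConj (φ h) y'} with hS'
  set T : Set H := φ ⁻¹' S' with hT
  set O : Set H := {y | IsConj h y} with hO
  have hOT : O ⊆ T := by
    intro y hy
    obtain ⟨c, hc⟩ := isConj_iff.1 hy
    change IsConj (φ h) (φ y)
    rw [isConj_iff]
    exact ⟨φ c, by rw [← hc]; simp⟩
  have hTcard : Nat.card T = Nat.card (N.subgroupOf H) * Nat.card S' := by
    rw [hT, card_preimage_surj φ hsurj, hker]
  -- cardinalities
  have e1 : (Subgroup.centralizer ({h} : Set H)).index = O.ncard :=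
    index_centralizer_eq_ncard_conj h
  have e2 : (Subgroup.centralizer ({φ h} : Set (G ⧸ N))).index = S'.ncard :=
    index_centralizer_eq_ncard_conj (φ h)
  have e3 := Subgroup.card_mul_index (Subgroup.centralizer ({h} : Set H))
  have e4 := Subgroup.card_mul_index (Subgroup.centralizer ({φ h} : Set (G ⧸ N)))
  have e5 : Nat.card (N.subgroupOf H) * Nat.card (G ⧸ N) = Nat.card H := by
    have hr : Nat.card φ.range = Nat.card (G ⧸ N) := by
      rw [MonoidHom.range_eq_top.2 hsurj]
      exact Subgroup.card_top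
    have := Subgroup.card_mul_index φ.ker
    rwa [Subgroup.index_ker, hr, hker] at this
  have e6 : Nat.card (Subgroup.centralizer ({(h : G)} : Set G)) =
      Nat.card (Subgroup.centralizer ({φ h} : Set (G ⧸ N))) :=
    card_centralizer_eq hcam (h : G) hhN
  have e7 : Nat.card (Subgroup.centralizer ({h} : Set H)) ≤
      Nat.card (Subgroup.centralizer ({(h : G)} : Set G)) := by
    rw [← Subgroup.card_map_of_injective (f := H.subtype) H.subtype_injective]
    apply Subgroup.card_le_of_le
    rintro _ ⟨c, hc, rfl⟩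
    have hc' : c ∈ Subgroup.centralizer ({h} : Set H) := hc
    rw [Subgroup.mem_centralizer_singleton_iff] at hc' ⊢
    have := congrArg (fun z : H => (z : G)) hc'
    simpa using this
  have hcpos : 0 < Nat.card (Subgroup.centralizer ({φ h} : Set (G ⧸ N))) := Nat.card_pos
  have hle : T.ncard ≤ O.ncard := by
    rw [← Nat.card_coe_set_eq, hTcard, Nat.card_coe_set_eq, ← e2, ← e1]
    apply Nat.le_of_mul_le_mul_right _ hcpos
    calc Nat.card (N.subgroupOf H) * (Subgroup.centralizer ({φ h} : Set (G ⧸ N))).index *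
          Nat.card (Subgroup.centralizer ({φ h} : Set (G ⧸ N)))
        = Nat.card (N.subgroupOf H) * Nat.card (G ⧸ N) := by rw [← e4]; ring
      _ = Nat.card H := e5
      _ = (Subgroup.centralizer ({h} : Set H)).index *
            Nat.card (Subgroup.centralizer ({h} : Set H)) := by rw [← e3]; ring
      _ ≤ (Subgroup.centralizer ({h} : Set H)).index *
            Nat.card (Subgroup.centralizer ({φ h} : Set (G ⧸ N))) :=
          Nat.mul_le_mul_left _ (e6 ▸ e7)
  have hfin : T.Finite := Set.toFinite T
  have hEq : O = T := Set.eq_of_subset_of_ncard_le hOT hle hfin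
  have hmem : h * n ∈ T := by
    change IsConj (φ h) (φ (h * n))
    have : φ n = 1 := by
      rw [← MonoidHom.mem_ker, hker]; exact hn
    rw [map_mul, this, mul_one]
  rw [← hEq] at hmem
  obtain ⟨c, hc⟩ := isConj_iff.1 hmem
  exact ⟨c, hc⟩

end Cfsg.Agent.Lib.Helper22.CamC
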