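import Mathlib
import Cfsg.Agent.Lib.Helper22.Basic
import Cfsg.Agent.Lib.Helper22.CamA
import Cfsg.Agent.Lib.Helper22.CamB
import Cfsg.Agent.Lib.Helper22.CamC

set_option autoImplicit false

namespace Cfsg.Agent.Lib.Helper22.CamD

open Cfsg.Agent.Lib.Helper22 Cfsg.Agent.Lib.Helper22.CamA Cfsg.Agent.Lib.Helper22.CamB
  Cfsg.Agent.Lib.Helper22.CamC
open scoped Pointwise

variable {G : Type*} [Group G]

theorem isPGroup_zpowers {X : Type*} [Group X] (p : ℕ) (e : X) (he : e ^ p = 1) :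
    IsPGroup p (Subgroup.zpowers e) := by
  rintro ⟨g, hg⟩
  obtain ⟨z, rfl⟩ := Subgroup.mem_zpowers_iff.1 hg
  refine ⟨1, Subtype.ext ?_⟩
  simp only [pow_one, Subgroup.coe_pow, Subgroup.coe_one]
  rw [← zpow_natCast, ← zpow_mul, mul_comm, zpow_mul, zpow_natCast, he, one_zpow]

/-- **The killer lemma**: in a Camina pair `(G, N)` with `p ∣ |N|` and `p ∣ |G : N|`, a
supplement `H` of `N` cannot act on a nontrivial abelian `p'`-group in such a way that the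
`p`-elements of `H ∩ N` act trivially and the `p`-elements of `H` outside `N` act
fixed-point-freely. -/
theorem killer [Finite G] {N : Subgroup G} [N.Normal] (hcam : Cam N) (p : ℕ) [hp : Fact p.Prime]
    (hpN : p ∣ Nat.card N) (hpI : p ∣ N.index) (H : Subgroup G) (hHN : H ⊔ N = ⊤)
    {𝔸 : Type*} [CommGroup 𝔸] [Finite 𝔸] (hcop : ¬ p ∣ Nat.card 𝔸) (ρ : H →* MulAut 𝔸)
    (h1 : ∀ k : H, (k : G) ∈ N → (∃ j, orderOf k = p ^ j) → ρ k = 1)
    (h2 : ∀ e : H, (e : G) ∉ N → (∃ j, orderOf e = p ^ j) → ∀ a, ρ e a = a → a = 1) :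
    ∀ a : 𝔸, a = 1 := by
  classical
  have hp1 := hp.1
  have hpX : p ∣ Nat.card (G ⧸ N) := by rwa [← Subgroup.index_eq_card]
  obtain ⟨e₁', e₂', h11, h21, hc, he2, hall⟩ :=
    exists_rank_two (X := G ⧸ N) p hpX (star hcam p hpN)
  set φ : H →* G ⧸ N := (QuotientGroup.mk' N).comp H.subtype with hφ
  have hsurj : Function.Surjective φ := restrict_surj N H hHN
  have hker : φ.ker = N.subgroupOf H := restrict_ker N H
  have hkerN : ∀ k : H, φ k = 1 → (k : G) ∈ N := by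
    intro k hk
    have : k ∈ φ.ker := hk
    rw [hker] at this
    exact Subgroup.mem_subgroupOf.1 this
  -- the rank two subgroup of the quotient and a Sylow subgroup containing it
  have hE' : IsPGroup p (Subgroup.zpowers e₁' ⊔ Subgroup.zpowers e₂' : Subgroup (G ⧸ N)) := by
    apply IsPGroup.to_sup_of_normal_right' (isPGroup_zpowers p e₁' h11) (isPGroup_zpowers p e₂' h21)
    intro x hx
    obtain ⟨z, rfl⟩ := Subgroup.mem_zpowers_iff.1 hx
    rw [Subgroup.mem_normalizer_iff]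
    intro y
    have hcz : ∀ w ∈ Subgroup.zpowers e₂', e₁' ^ z * w * (e₁' ^ z)⁻¹ = w := by
      intro w hw
      obtain ⟨z', rfl⟩ := Subgroup.mem_zpowers_iff.1 hw
      have : Commute (e₁' ^ z) (e₂' ^ z') := (hc.zpow_left z).zpow_right z'
      rw [this.eq, mul_inv_cancel_right]
    constructor
    · intro hy
      rw [hcz y hy]; exact hy
    · intro hy
      have := hcz _ hy
      have h3 : y = (e₁' ^ z)⁻¹ * (e₁' ^ z * y * (e₁' ^ z)⁻¹) * (e₁' ^ z) := by group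
      have h4 : (e₁' ^ z)⁻¹ * (e₁' ^ z * y * (e₁' ^ z)⁻¹) * (e₁' ^ z) =
          e₁' ^ z * y * (e₁' ^ z)⁻¹ := by
        have : Commute (e₁' ^ z) (e₁' ^ z * y * (e₁' ^ z)⁻¹) := by
          obtain ⟨z', hz'⟩ := Subgroup.mem_zpowers_iff.1 hy
          rw [← hz']
          exact (hc.zpow_left z).zpow_right z'
        rw [mul_assoc, ← this.eq, inv_mul_cancel_left]
      rw [h3, h4]; exact hy
  obtain ⟨S', hS'⟩ := hE'.exists_le_sylow
  let P₀ : Sylow p H := Classical.arbitrary _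
  let Q' : Sylow p (G ⧸ N) := P₀.mapSurjective hsurj
  obtain ⟨g', hg'⟩ := MulAction.exists_smul_eq (G ⧸ N) Q' S'
  obtain ⟨c, rfl⟩ := hsurj g'
  set Q : Subgroup H := (P₀ : Subgroup H).map (MulAut.conj c).toMonoidHom with hQdef
  have hQ : IsPGroup p Q := P₀.2.map _
  have lift : ∀ e' ∈ (Subgroup.zpowers e₁' ⊔ Subgroup.zpowers e₂' : Subgroup (G ⧸ N)),
      ∃ e : H, e ∈ Q ∧ φ e = e' := by
    intro e' he'
    have h3 : e' ∈ (S' : Subgroup (G ⧸ N)) := hS' he'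
    rw [← hg', Sylow.coe_subgroup_smul, Subgroup.mem_smul_pointwise_iff_exists] at h3
    obtain ⟨s, hs, hse⟩ := h3
    have hs' : s ∈ (P₀ : Subgroup H).map φ := hs
    obtain ⟨y, hy, rfl⟩ := hs'
    refine ⟨c * y * c⁻¹, ⟨y, hy, rfl⟩, ?_⟩
    rw [← hse, MulAut.smul_def, MulAut.conj_apply]
    simp
  obtain ⟨e₁, he₁Q, he₁φ⟩ := lift e₁' (Subgroup.mem_sup_left (Subgroup.mem_zpowers e₁'))
  obtain ⟨e₂, he₂Q, he₂φ⟩ := lift e₂' (Subgroup.mem_sup_right (Subgroup.mem_zpowers e₂'))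
  have hpel : ∀ x : H, x ∈ Q → ∃ j, orderOf x = p ^ j := fun x hx =>
    orderOf_of_mem_pgroup p Q hQ x hx
  -- the two automorphisms
  have hcomm : Commute (ρ e₁) (ρ e₂) := by
    have hk : ρ (e₁ * e₂ * e₁⁻¹ * e₂⁻¹) = 1 := by
      apply h1
      · apply hkerN
        rw [map_mul, map_mul, map_mul, map_inv, map_inv, he₁φ, he₂φ, hc.eq]
        group
      · exact hpel _ (Q.mul_mem (Q.mul_mem (Q.mul_mem he₁Q he₂Q) (Q.inv_mem he₁Q))
          (Q.inv_mem he₂Q))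
    rw [map_mul, map_mul, map_mul, map_inv, map_inv] at hk
    unfold Commute SemiconjBy
    calc ρ e₁ * ρ e₂ = (ρ e₁ * ρ e₂ * (ρ e₁)⁻¹ * (ρ e₂)⁻¹) * (ρ e₂ * ρ e₁) := by group
      _ = ρ e₂ * ρ e₁ := by rw [hk, one_mul]
  have hα : ρ e₁ ^ p = 1 := by
    rw [← map_pow]
    apply h1
    · apply hkerN
      rw [map_pow, he₁φ, h11]
    · exact hpel _ (Q.pow_mem he₁Q p)
  have hβ : ρ e₂ ^ p = 1 := by
    rw [← map_pow]
    apply h1
    · apply hkerN
      rw [map_pow, he₂φ, h21]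
    · exact hpel _ (Q.pow_mem he₂Q p)
  have hfβ : ∀ a, ρ e₂ a = a → a = 1 := by
    apply h2 e₂ _ (hpel _ he₂Q)
    intro hmem
    apply he2
    rw [← he₂φ]
    change ((e₂ : G) : G ⧸ N) = 1
    exact (QuotientGroup.eq_one_iff _).2 hmem
  have hfα : ∀ j : ℕ, ∀ a, (ρ e₁ * ρ e₂ ^ j) a = a → a = 1 := by
    intro j
    rw [← map_pow, ← map_mul]
    apply h2 _ _ (hpel _ (Q.mul_mem he₁Q (Q.pow_mem he₂Q j)))
    intro hmem
    apply hall j
    rw [← he₁φ, ← he₂φ, ← map_pow, ← map_mul]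
    change (((e₁ * e₂ ^ j : H) : G) : G ⧸ N) = 1
    exact (QuotientGroup.eq_one_iff _).2 hmem
  exact noncyclic_fpf p hp1 hcop (ρ e₁) (ρ e₂) hcomm hα hβ hfβ hfα

end Cfsg.Agent.Lib.Helper22.CamD
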