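import Mathlib
import Cfsg.Agent.Lib.Helper22.Basic
import Cfsg.Agent.Lib.Helper22.CamA
import Cfsg.Agent.Lib.Helper22.CamB
import Cfsg.Agent.Lib.Helper22.CamC
import Cfsg.Agent.Lib.Helper22.CamD

set_option autoImplicit false

namespace Cfsg.Agent.Lib.Helper22.CamE

open Cfsg.Agent.Lib.Helper22 Cfsg.Agent.Lib.Helper22.CamA Cfsg.Agent.Lib.Helper22.CamB
  Cfsg.Agent.Lib.Helper22.CamC Cfsg.Agent.Lib.Helper22.CamD

variable {G : Type*} [Group G]

/-- conjugation by an element of the normalizer, as an automorphism -/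
def conjAut (Z : Subgroup G) (h : G) (hh : h ∈ Subgroup.normalizer (Z : Set G)) : MulAut Z where
  toFun a := ⟨h * a * h⁻¹, (Subgroup.mem_normalizer_iff.1 hh a).1 a.2⟩
  invFun a := ⟨h⁻¹ * a * h, by
    have := (Subgroup.mem_normalizer_iff.1 hh (h⁻¹ * a * h)).2
    apply this
    have e : h * (h⁻¹ * (a : G) * h) * h⁻¹ = a := by group
    rw [e]; exact a.2⟩
  left_inv a := Subtype.ext (by simp [mul_assoc])
  right_inv a := Subtype.ext (by simp [mul_assoc])
  map_mul' a b := Subtype.ext (by simp [mul_assoc])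

/-- the conjugation action of a subgroup of the normalizer of `Z` on `Z` -/
def conjHomOn (Z H : Subgroup G) (hle : H ≤ Subgroup.normalizer (Z : Set G)) : H →* MulAut Z where
  toFun h := conjAut Z h (hle h.2)
  map_one' := by
    ext a
    simp [conjAut]
  map_mul' x y := by
    ext a
    simp [conjAut, mul_assoc]

@[simp] theorem conjHomOn_apply (Z H : Subgroup G) (hle : H ≤ Subgroup.normalizer (Z : Set G))
    (h : H) (a : Z) : ((conjHomOn Z H hle h a : Z) : G) = h * a * (h : G)⁻¹ := rfl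

/-- the centre of a subgroup, as a subgroup of the ambient group -/
def zen (R : Subgroup G) : Subgroup G := R ⊓ Subgroup.centralizer (R : Set G)

theorem zen_le (R : Subgroup G) : zen R ≤ R := inf_le_left

theorem zen_comm (R : Subgroup G) (a b : zen R) : a * b = b * a := by
  apply Subtype.ext
  have ha : (a : G) ∈ Subgroup.centralizer (R : Set G) := (Subgroup.mem_inf.1 a.2).2
  have hb : (b : G) ∈ R := (Subgroup.mem_inf.1 b.2).1
  simp only [Subgroup.coe_mul]
  exact (Subgroup.mem_centralizer_iff.1 ha b hb).symm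

theorem normalizer_le_zen (R : Subgroup G) :
    Subgroup.normalizer (R : Set G) ≤ Subgroup.normalizer (zen R : Set G) := by
  intro h hh
  have key : ∀ (g : G), g ∈ Subgroup.normalizer (R : Set G) → ∀ a ∈ zen R, g * a * g⁻¹ ∈ zen R := by
    intro g hg a ha
    have ha' := Subgroup.mem_inf.1 ha
    refine Subgroup.mem_inf.2 ⟨(Subgroup.mem_normalizer_iff.1 hg a).1 ha'.1, ?_⟩
    rw [Subgroup.mem_centralizer_iff]
    intro x hx
    have hx' : g⁻¹ * x * g ∈ R := by
      have := (Subgroup.mem_normalizer_iff.1 hg (g⁻¹ * x * g)).2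
      apply this
      have e : g * (g⁻¹ * x * g) * g⁻¹ = x := by group
      rw [e]; exact hx
    have hc := Subgroup.mem_centralizer_iff.1 ha'.2 _ hx'
    calc x * (g * a * g⁻¹) = g * ((g⁻¹ * x * g) * a) * g⁻¹ := by group
      _ = g * (a * (g⁻¹ * x * g)) * g⁻¹ := by rw [hc]
      _ = g * a * g⁻¹ * x := by group
  rw [Subgroup.mem_normalizer_iff]
  intro a
  constructor
  · exact key h hh a
  · intro ha
    have := key h⁻¹ (Subgroup.inv_mem _ hh) _ ha
    have e : h⁻¹ * (h * a * h⁻¹) * h⁻¹⁻¹ = a := by group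
    rwa [e] at this

/-- the centre of a nontrivial `r`-subgroup is nontrivial -/
theorem zen_nontrivial [Finite G] (r : ℕ) [Fact r.Prime] (R : Subgroup G) (hR : IsPGroup r R)
    (hR1 : R ≠ ⊥) : ∃ a ∈ zen R, a ≠ 1 := by
  haveI : Nontrivial R := (Subgroup.nontrivial_iff_ne_bot R).2 hR1
  have := hR.center_nontrivial
  obtain ⟨⟨z, hz⟩, hz1⟩ := exists_ne (1 : Subgroup.center R)
  refine ⟨(z : G), Subgroup.mem_inf.2 ⟨z.2, ?_⟩, ?_⟩
  · rw [Subgroup.mem_centralizer_iff]
    intro x hx
    have := Subgroup.mem_center_iff.1 hz ⟨x, hx⟩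
    exact congrArg (fun c : R => (c : G)) this
  · intro h
    apply hz1
    exact Subtype.ext (Subtype.ext h)


/-- fixed points of a `p`-element outside `N` on an `r`-subgroup of `N` are trivial -/
theorem fix_trivial {N : Subgroup G} (hcam : Cam N) (p r : ℕ) [hp : Fact p.Prime]
    [hr : Fact r.Prime] (hpr : p ≠ r) (e : G) (heN : e ∉ N) (j : ℕ) (hej : e ^ (p ^ j) = 1)
    (R : Subgroup G) (hR : IsPGroup r R) (hRN : R ≤ N) (a : G) (haR : a ∈ R)
    (hfix : e * a * e⁻¹ = a) : a = 1 := by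
  have hc : Commute e a := by
    unfold Commute SemiconjBy
    calc e * a = e * a * e⁻¹ * e := by group
      _ = a * e := by rw [hfix]
  have h1 : a ^ (p ^ j) = 1 := pow_eq_one_of_commute hcam e heN (p ^ j) hej a (hRN haR) hc
  obtain ⟨k, hk⟩ := orderOf_of_mem_pgroup r R hR a haR
  have h2 : orderOf a ∣ p ^ j := orderOf_dvd_of_pow_eq_one h1
  rw [hk] at h2
  have hk0 : k = 0 := by
    by_contra hk0
    have h3 : r ∣ p ^ j := dvd_trans (dvd_pow_self r hk0) h2
    have h4 : r ∣ p := hr.1.dvd_of_dvd_pow h3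
    exact hpr ((Nat.prime_dvd_prime_iff_eq hr.1 hp.1).1 h4).symm
  rw [hk0, pow_zero, orderOf_eq_one_iff] at hk
  exact hk

/-- the inductive hypothesis used below -/
def IH (G : Type*) [Group G] : Prop :=
  ∀ (H : Subgroup G), H ≠ ⊤ → ∀ (K : Subgroup H) [K.Normal], Cam K → ∀ p r q : ℕ,
    p.Prime → r.Prime → q.Prime → p ≠ r → p ≠ q → p ∣ Nat.card K → r ∣ Nat.card K →
    p ∣ K.index → q ∣ K.index → False

/-- **Step 1**: in a minimal counterexample the Sylow `r`-subgroups of `N` (`r ≠ p`) are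
normal in `G`. -/
theorem step1 [Finite G] (ih : IH G) {N : Subgroup G} [N.Normal] (hcam : Cam N) (p r q : ℕ)
    [hp : Fact p.Prime] [hr : Fact r.Prime] [hq : Fact q.Prime] (hpr : p ≠ r) (hpq : p ≠ q)
    (hpN : p ∣ Nat.card N) (hrN : r ∣ Nat.card N) (hpI : p ∣ N.index) (hqI : q ∣ N.index)
    (R : Sylow r N) : ((R : Subgroup N).map N.subtype).Normal := by
  classical
  set RG : Subgroup G := (R : Subgroup N).map N.subtype with hRGdef
  rw [← Subgroup.normalizer_eq_top_iff]
  by_contra hne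
  set H : Subgroup G := Subgroup.normalizer (RG : Set G) with hH
  have hHN : H ⊔ N = ⊤ := Sylow.normalizer_sup_eq_top R
  have hK : Cam (N.subgroupOf H) := cam_sub hcam H hHN
  have hRG : IsPGroup r RG := R.2.map _
  have hRGN : RG ≤ N := Subgroup.map_subtype_le _
  have hRGH : RG ≤ H := Subgroup.le_normalizer
  have hcardRG : Nat.card RG = Nat.card R :=
    Subgroup.card_map_of_injective N.subtype_injective
  have hrRG : r ∣ Nat.card RG := by rw [hcardRG]; exact R.dvd_card_of_dvd_card hrN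
  have hRG1 : RG ≠ ⊥ := by
    intro h
    rw [h, Subgroup.card_bot] at hrRG
    exact hr.1.one_lt.ne' (Nat.dvd_one.1 hrRG)
  have hindex : (N.subgroupOf H).index = N.index := by
    have h1 : (N.subgroupOf H).index = N.relIndex H := rfl
    rw [h1, ← Subgroup.relIndex_sup_right, hHN, Subgroup.relIndex_top_right]
  have hrK : r ∣ Nat.card (N.subgroupOf H) := by
    have h1 : RG.subgroupOf H ≤ N.subgroupOf H := by
      intro x hx
      exact Subgroup.mem_subgroupOf.2 (hRGN (Subgroup.mem_subgroupOf.1 hx))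
    have h2 : Nat.card (RG.subgroupOf H) = Nat.card RG :=
      Nat.card_congr (Subgroup.subgroupOfEquivOfLe hRGH).toEquiv
    exact dvd_trans (h2 ▸ hrRG) (Subgroup.card_dvd_of_le h1)
  have hpK : ¬ p ∣ Nat.card (N.subgroupOf H) := fun h =>
    ih H hne (N.subgroupOf H) hK p r q hp.1 hr.1 hq.1 hpr hpq h hrK (hindex ▸ hpI) (hindex ▸ hqI)
  -- the killer lemma
  have hZle : H ≤ Subgroup.normalizer (zen RG : Set G) := normalizer_le_zen RG
  letI : CommGroup (zen RG) := { (inferInstance : Group (zen RG)) with mul_comm := zen_comm RG }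
  have hcop : ¬ p ∣ Nat.card (zen RG) := by
    intro h
    obtain ⟨k, hk⟩ := (IsPGroup.iff_card).1 hRG
    have h1 : p ∣ r ^ k := hk ▸ dvd_trans h (Subgroup.card_dvd_of_le (zen_le RG))
    have h2 : p ∣ r := hp.1.dvd_of_dvd_pow h1
    exact hpr ((Nat.prime_dvd_prime_iff_eq hp.1 hr.1).1 h2)
  have key := killer hcam p hpN hpI H hHN (𝔸 := zen RG) hcop (conjHomOn (zen RG) H hZle)
    (by
      intro k hkN ⟨j, hj⟩
      have h1 : orderOf k ∣ Nat.card (N.subgroupOf H) :=
        Subgroup.orderOf_dvd_natCard _ (Subgroup.mem_subgroupOf.2 hkN)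
      have hj0 : j = 0 := by
        by_contra hj0
        rw [hj] at h1
        exact hpK (dvd_trans (dvd_pow_self p hj0) h1)
      rw [hj0, pow_zero, orderOf_eq_one_iff] at hj
      rw [hj, map_one])
    (by
      intro e heN ⟨j, hj⟩ a ha
      have h1 : (e : G) * a * (e : G)⁻¹ = a := by
        have := congrArg (fun c : zen RG => (c : G)) ha
        simpa using this
      have h2 : (e : G) ^ (p ^ j) = 1 := by
        rw [← hj, ← Subgroup.coe_pow, pow_orderOf_eq_one, Subgroup.coe_one]
      have := fix_trivial hcam p r hpr (e : G) heN j h2 RG hRG hRGN (a : G) (zen_le RG a.2) h1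
      exact Subtype.ext this)
  obtain ⟨a, haZ, ha1⟩ := zen_nontrivial r RG hRG hRG1
  exact ha1 (congrArg Subtype.val (key ⟨a, haZ⟩))


theorem top_le_normalizer_zen (R : Subgroup G) (hR : R.Normal) :
    (⊤ : Subgroup G) ≤ Subgroup.normalizer (zen R : Set G) := by
  have h1 : Subgroup.normalizer (R : Set G) = ⊤ := Subgroup.normalizer_eq_top_iff.2 hR
  rw [← h1]
  exact normalizer_le_zen R

/-- a Sylow subgroup of `N` whose image in `G` is normal is normal in `N` -/
theorem normal_in_of_map_normal {N : Subgroup G} (P : Subgroup N)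
    (hP : (P.map N.subtype).Normal) : P.Normal := by
  constructor
  intro x hx n
  have h1 : ((n * x * n⁻¹ : N) : G) ∈ P.map N.subtype := by
    have h2 : (x : G) ∈ P.map N.subtype := ⟨x, hx, rfl⟩
    have := hP.conj_mem _ h2 (n : G)
    simpa using this
  exact (Subgroup.mem_map_iff_mem N.subtype_injective).1 h1

/-- **Case I**: two primes dividing both `|N|` and `|G : N|` -/
theorem caseI [Finite G] (ih : IH G) {N : Subgroup G} [N.Normal] (hcam : Cam N) (p r : ℕ)
    [hp : Fact p.Prime] [hr : Fact r.Prime] (hpr : p ≠ r)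
    (hpN : p ∣ Nat.card N) (hrN : r ∣ Nat.card N) (hpI : p ∣ N.index) (hrI : r ∣ N.index) :
    False := by
  classical
  let R : Sylow r N := Classical.arbitrary _
  let P : Sylow p N := Classical.arbitrary _
  set RG : Subgroup G := (R : Subgroup N).map N.subtype with hRGdef
  set PG : Subgroup G := (P : Subgroup N).map N.subtype with hPGdef
  have hRn : RG.Normal := step1 ih hcam p r r hpr hpr hpN hrN hpI hrI R
  have hPn : PG.Normal := step1 ih hcam r p p hpr.symm hpr.symm hrN hpN hrI hpI P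
  have hRG : IsPGroup r RG := R.2.map _
  have hPG : IsPGroup p PG := P.2.map _
  have hRGN : RG ≤ N := Subgroup.map_subtype_le _
  have hcardRG : Nat.card RG = Nat.card R :=
    Subgroup.card_map_of_injective N.subtype_injective
  have hrRG : r ∣ Nat.card RG := by rw [hcardRG]; exact R.dvd_card_of_dvd_card hrN
  have hRG1 : RG ≠ ⊥ := by
    intro h
    rw [h, Subgroup.card_bot] at hrRG
    exact hr.1.one_lt.ne' (Nat.dvd_one.1 hrRG)
  have hdisj : Disjoint PG RG := IsPGroup.disjoint_of_ne p r hpr PG RG hPG hRG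
  have hPnN : (P : Subgroup N).Normal := normal_in_of_map_normal _ hPn
  have hZle := top_le_normalizer_zen RG hRn
  letI : CommGroup (zen RG) := { (inferInstance : Group (zen RG)) with mul_comm := zen_comm RG }
  have hcop : ¬ p ∣ Nat.card (zen RG) := by
    intro h
    obtain ⟨k, hk⟩ := (IsPGroup.iff_card).1 hRG
    have h1 : p ∣ r ^ k := hk ▸ dvd_trans h (Subgroup.card_dvd_of_le (zen_le RG))
    have h2 : p ∣ r := hp.1.dvd_of_dvd_pow h1
    exact hpr ((Nat.prime_dvd_prime_iff_eq hp.1 hr.1).1 h2)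
  have key := killer hcam p hpN hpI ⊤ (top_sup_eq N) (𝔸 := zen RG) hcop (conjHomOn (zen RG) ⊤ hZle)
    (by
      intro k hkN ⟨j, hj⟩
      have h1 : orderOf (⟨(k : G), hkN⟩ : N) = p ^ j := by
        rw [Subgroup.orderOf_mk, ← hj, Subgroup.orderOf_coe]
      have h2 : (⟨(k : G), hkN⟩ : N) ∈ (P : Subgroup N) :=
        mem_sylow_of_normal p P hPnN _ j h1
      have h3 : (k : G) ∈ PG := ⟨⟨(k : G), hkN⟩, h2, rfl⟩
      ext a
      have hc := Subgroup.commute_of_normal_of_disjoint PG RG hPn hRn hdisj (k : G) (a : G) h3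
        (zen_le RG a.2)
      simp only [conjHomOn_apply, MulAut.one_apply]
      rw [hc.eq, mul_inv_cancel_right])
    (by
      intro e heN ⟨j, hj⟩ a ha
      have h1 : (e : G) * a * (e : G)⁻¹ = a := by
        have := congrArg (fun c : zen RG => (c : G)) ha
        simpa using this
      have h2 : (e : G) ^ (p ^ j) = 1 := by
        rw [← hj, ← Subgroup.coe_pow, pow_orderOf_eq_one, Subgroup.coe_one]
      have := fix_trivial hcam p r hpr (e : G) heN j h2 RG hRG hRGN (a : G) (zen_le RG a.2) h1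
      exact Subtype.ext this)
  obtain ⟨a, haZ, ha1⟩ := zen_nontrivial r RG hRG hRG1
  exact ha1 (congrArg Subtype.val (key ⟨a, haZ⟩))


/-- **Case II**: a prime `q` dividing `|G : N|` but not `|N|` -/
theorem caseII [Finite G] (ih : IH G) {N : Subgroup G} [N.Normal] (hcam : Cam N) (p r q : ℕ)
    [hp : Fact p.Prime] [hr : Fact r.Prime] [hq : Fact q.Prime] (hpr : p ≠ r) (hpq : p ≠ q)
    (hpN : p ∣ Nat.card N) (hrN : r ∣ Nat.card N) (hpI : p ∣ N.index) (hqI : q ∣ N.index)
    (hqN : ¬ q ∣ Nat.card N) : False := by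
  classical
  have hqr : q ≠ r := fun h => hqN (h ▸ hrN)
  let R : Sylow r N := Classical.arbitrary _
  set RG : Subgroup G := (R : Subgroup N).map N.subtype with hRGdef
  have hRn : RG.Normal := step1 ih hcam p r q hpr hpq hpN hrN hpI hqI R
  have hRG : IsPGroup r RG := R.2.map _
  have hRGN : RG ≤ N := Subgroup.map_subtype_le _
  have hcardRG : Nat.card RG = Nat.card R :=
    Subgroup.card_map_of_injective N.subtype_injective
  have hrRG : r ∣ Nat.card RG := by rw [hcardRG]; exact R.dvd_card_of_dvd_card hrN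
  have hRG1 : RG ≠ ⊥ := by
    intro h
    rw [h, Subgroup.card_bot] at hrRG
    exact hr.1.one_lt.ne' (Nat.dvd_one.1 hrRG)
  -- an element of order q
  have hqG : q ∣ Nat.card G := dvd_trans hqI (Subgroup.index_dvd_card N)
  obtain ⟨y, hy⟩ := exists_prime_orderOf_dvd_card' q hqG
  have hyN : y ∉ N := by
    intro h
    apply hqN
    rw [← hy]
    exact Subgroup.orderOf_dvd_natCard N h
  have hZle := top_le_normalizer_zen RG hRn
  letI : CommGroup (zen RG) := { (inferInstance : Group (zen RG)) with mul_comm := zen_comm RG }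
  set ρ : (⊤ : Subgroup G) →* MulAut (zen RG) := conjHomOn (zen RG) ⊤ hZle with hρ
  set f : N →* MulAut (zen RG) := ρ.comp (Subgroup.inclusion (le_top : N ≤ ⊤)) with hf
  have hfapp : ∀ (w : N) (a : zen RG), ((f w a : zen RG) : G) = w * a * (w : G)⁻¹ := by
    intro w a
    rfl
  let y' : (⊤ : Subgroup G) := ⟨y, Subgroup.mem_top y⟩
  have hyw : ∀ w : N, (y * w : G) ^ q = 1 := by
    intro w
    rw [← orderOf_dvd_iff_pow_eq_one, orderOf_mul_eq hcam y hyN w w.2, hy]
  have hywN : ∀ w : N, (y * w : G) ∉ N := by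
    intro w h
    apply hyN
    have := N.mul_mem h (N.inv_mem w.2)
    simpa using this
  have hmul : ∀ w : N, ρ y' * f w = ρ (y' * Subgroup.inclusion (le_top : N ≤ ⊤) w) := by
    intro w
    rw [map_mul]
    rfl
  have hcoe : ∀ w : N, ((y' * Subgroup.inclusion (le_top : N ≤ ⊤) w : (⊤ : Subgroup G)) : G) =
      y * w := fun w => rfl
  have hΓ : ∀ γ ∈ f.range, ∀ a, γ a = a := by
    apply frob_trick f.range (ρ y') q hq.1
    · rintro _ ⟨w, rfl⟩
      have hmem : y⁻¹ * (w : G) * y ∈ N := by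
        have := (inferInstance : N.Normal).conj_mem _ w.2 y⁻¹
        simpa using this
      refine ⟨⟨y⁻¹ * w * y, hmem⟩, ?_⟩
      have h1 : f w = ρ (Subgroup.inclusion (le_top : N ≤ ⊤) w) := rfl
      have h2 : f ⟨y⁻¹ * w * y, hmem⟩ =
          ρ (Subgroup.inclusion (le_top : N ≤ ⊤) ⟨y⁻¹ * w * y, hmem⟩) := rfl
      rw [h1, h2, ← map_inv, ← map_mul, ← map_mul]
      congr 1
    · rintro _ ⟨w, rfl⟩
      rw [hmul, ← map_pow]
      have : (y' * Subgroup.inclusion (le_top : N ≤ ⊤) w) ^ q = 1 := by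
        apply Subtype.ext
        rw [Subgroup.coe_pow, hcoe, hyw w, Subgroup.coe_one]
      rw [this, map_one]
    · rintro _ ⟨w, rfl⟩ a ha
      rw [hmul] at ha
      have h1 : (y * w : G) * a * (y * w : G)⁻¹ = a := by
        have := congrArg (fun c : zen RG => (c : G)) ha
        simp only [hρ, conjHomOn_apply] at this
        rw [hcoe] at this
        exact this
      have h2 : (y * w : G) ^ (q ^ 1) = 1 := by rw [pow_one]; exact hyw w
      have := fix_trivial hcam q r hqr (y * w : G) (hywN w) 1 h2 RG hRG hRGN (a : G)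
        (zen_le RG a.2) h1
      exact Subtype.ext this
    · -- coprimality
      have h1 : Nat.card f.range = f.ker.index := (Subgroup.index_ker f).symm
      have h2 : (R : Subgroup N) ≤ f.ker := by
        intro x hx
        rw [MonoidHom.mem_ker]
        ext a
        rw [hfapp, MulAut.one_apply]
        have hxR : (x : G) ∈ RG := ⟨x, hx, rfl⟩
        have ha : (a : G) ∈ Subgroup.centralizer (RG : Set G) := (Subgroup.mem_inf.1 a.2).2
        have := Subgroup.mem_centralizer_iff.1 ha _ hxR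
        rw [this, mul_inv_cancel_right]
      have h3 : ¬ r ∣ f.ker.index := fun h =>
        R.not_dvd_index (dvd_trans h (Subgroup.index_dvd_of_le h2))
      obtain ⟨k, hk⟩ := (IsPGroup.iff_card).1 (hRG.to_le (zen_le RG))
      rw [h1, hk]
      exact Nat.Coprime.pow_right k ((Nat.Prime.coprime_iff_not_dvd hr.1).2 h3).symm
  have hcop : ¬ p ∣ Nat.card (zen RG) := by
    intro h
    obtain ⟨k, hk⟩ := (IsPGroup.iff_card).1 hRG
    have h1 : p ∣ r ^ k := hk ▸ dvd_trans h (Subgroup.card_dvd_of_le (zen_le RG))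
    have h2 : p ∣ r := hp.1.dvd_of_dvd_pow h1
    exact hpr ((Nat.prime_dvd_prime_iff_eq hp.1 hr.1).1 h2)
  have key := killer hcam p hpN hpI ⊤ (top_sup_eq N) (𝔸 := zen RG) hcop ρ
    (by
      intro k hkN _
      ext a
      have := hΓ (f ⟨(k : G), hkN⟩) ⟨_, rfl⟩ a
      have h2 := congrArg (fun c : zen RG => (c : G)) this
      simp only [hfapp] at h2
      simp only [hρ, conjHomOn_apply, MulAut.one_apply]
      exact h2)
    (by
      intro e heN ⟨j, hj⟩ a ha
      have h1 : (e : G) * a * (e : G)⁻¹ = a := by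
        have := congrArg (fun c : zen RG => (c : G)) ha
        simpa [hρ] using this
      have h2 : (e : G) ^ (p ^ j) = 1 := by
        rw [← hj, ← Subgroup.coe_pow, pow_orderOf_eq_one, Subgroup.coe_one]
      have := fix_trivial hcam p r hpr (e : G) heN j h2 RG hRG hRGN (a : G) (zen_le RG a.2) h1
      exact Subtype.ext this)
  obtain ⟨a, haZ, ha1⟩ := zen_nontrivial r RG hRG hRG1
  exact ha1 (congrArg Subtype.val (key ⟨a, haZ⟩))


universe u

/-- **Main lemma**: in a Camina pair `(G, N)`, if the prime `p` divides both `|N|` and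
`|G : N|`, then no other prime divides `|N|` or no other prime divides `|G : N|`. -/
theorem main_aux : ∀ (n : ℕ) (G : Type u) [Group G] [Finite G], Nat.card G = n →
    ∀ (N : Subgroup G) [N.Normal], Cam N → ∀ p r q : ℕ, p.Prime → r.Prime → q.Prime →
    p ≠ r → p ≠ q → p ∣ Nat.card N → r ∣ Nat.card N → p ∣ N.index → q ∣ N.index → False := by
  intro n
  induction n using Nat.strong_induction_on with
  | _ n ihn =>
    intro G _ _ hn N _ hcam p r q hp hr hq hpr hpq hpN hrN hpI hqI
    have ih : IH G := by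
      intro H hne K _ hK p' r' q' hp' hr' hq' hpr' hpq' h1 h2 h3 h4
      have hlt : Nat.card H < n := by
        rw [← hn]
        by_contra hle
        exact hne (Subgroup.eq_top_of_le_card H (not_lt.1 hle))
      exact ihn (Nat.card H) hlt H rfl K hK p' r' q' hp' hr' hq' hpr' hpq' h1 h2 h3 h4
    haveI : Fact p.Prime := ⟨hp⟩
    haveI : Fact r.Prime := ⟨hr⟩
    haveI : Fact q.Prime := ⟨hq⟩
    by_cases hrI : r ∣ N.index
    · exact caseI ih hcam p r hpr hpN hrN hpI hrI
    · by_cases hqN : q ∣ Nat.card N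
      · exact caseI ih hcam p q hpq hpN hqN hpI hqI
      · exact caseII ih hcam p r q hpr hpq hpN hrN hpI hqI hqN

/-- **Camina's theorem** -/
theorem camina {G : Type u} [Group G] [Finite G] (N : Subgroup G) [N.Normal] (hN1 : N ≠ ⊥)
    (hN2 : N ≠ ⊤) (hcam : Cam N) :
    (∀ x ∈ N, x ≠ 1 → Subgroup.centralizer ({x} : Set G) ≤ N) ∨ IsPrimePow (Nat.card N) ∨
      IsPrimePow N.index := by
  classical
  by_contra hcon
  push Not at hcon
  obtain ⟨⟨x, hxN, hx1, hx⟩, hnN, hnI⟩ := hcon
  -- an element outside N centralizing x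
  obtain ⟨g, hgc, hgN⟩ := Set.not_subset.1 hx
  have hgc' : Commute g x := by
    have := Subgroup.mem_centralizer_singleton_iff.1 hgc
    exact this
  -- a prime dividing the order of the image of g
  have hg1 : (g : G ⧸ N) ≠ 1 := fun h => hgN ((QuotientGroup.eq_one_iff g).1 h)
  have ho1 : orderOf (g : G ⧸ N) ≠ 1 := fun h => hg1 (orderOf_eq_one_iff.1 h)
  obtain ⟨s, hs, hsd⟩ := Nat.exists_prime_and_dvd ho1
  have ho0 : orderOf g ≠ 0 := (orderOf_pos g).ne'
  obtain ⟨a, m, hsm, hom⟩ := Nat.exists_eq_pow_mul_and_not_dvd ho0 s hs.ne_one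
  have hgm : (g ^ m) ^ (s ^ a) = 1 := by
    rw [← pow_mul, mul_comm, ← hom, pow_orderOf_eq_one]
  have hgmN : g ^ m ∉ N := by
    intro h
    have h1 : (g : G ⧸ N) ^ m = 1 := by
      have := (QuotientGroup.eq_one_iff (g ^ m)).2 h
      simpa using this
    exact hsm (dvd_trans hsd (orderOf_dvd_of_pow_eq_one h1))
  have hxs : x ^ (s ^ a) = 1 :=
    pow_eq_one_of_commute hcam (g ^ m) hgmN (s ^ a) hgm x hxN (hgc'.pow_left m)
  have hsN : s ∣ Nat.card N := by
    have h1 : orderOf x ∣ s ^ a := orderOf_dvd_of_pow_eq_one hxs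
    obtain ⟨i, _, hi⟩ := (Nat.dvd_prime_pow hs).1 h1
    have hi0 : i ≠ 0 := by
      intro h
      rw [h, pow_zero, orderOf_eq_one_iff] at hi
      exact hx1 hi
    have h2 : orderOf x ∣ Nat.card N := Subgroup.orderOf_dvd_natCard N hxN
    rw [hi] at h2
    exact dvd_trans (dvd_pow_self s hi0) h2
  have hsI : s ∣ N.index := by
    rw [Subgroup.index_eq_card]
    exact dvd_trans hsd (orderOf_dvd_natCard _)
  -- other primes
  have hex : ∀ k : ℕ, s ∣ k → ¬ IsPrimePow k → k ≠ 0 → ∃ t : ℕ, t.Prime ∧ s ≠ t ∧ t ∣ k := by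
    intro k hsk hk hk0
    by_contra hno
    push Not at hno
    apply hk
    rw [isPrimePow_iff_unique_prime_dvd]
    refine ⟨s, ⟨hs, hsk⟩, ?_⟩
    rintro t ⟨ht, htk⟩
    by_contra hne
    exact hno t ht (fun h => hne h.symm) htk
  obtain ⟨r, hr, hsr, hrN⟩ := hex _ hsN hnN Nat.card_pos.ne'
  obtain ⟨q, hq, hsq, hqI⟩ := hex _ hsI hnI Subgroup.index_ne_zero_of_finite
  exact main_aux (Nat.card G) G rfl N hcam s r q hs hr hq hsr hsq hsN hrN hsI hqI

end Cfsg.Agent.Lib.Helper22.CamE
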