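import Mathlib
import Cfsg.Agent.Lib.Helper18.SylowIn
import Cfsg.Agent.Lib.Helper22.SchurZassenhaus

set_option autoImplicit false

namespace Cfsg.Agent.Lib.Helper22.Subnormalizer

open Cfsg.Agent.Lib.Helper18

variable {G : Type*} [Group G]

noncomputable def gen (H : Subgroup G) (g : G) : Subgroup G :=
  ⨆ i : ℤ, H.map (MulAut.conj (g ^ i)).toMonoidHom

theorem le_gen (H : Subgroup G) (g : G) : H ≤ gen H g := by
  have h0 : H.map (MulAut.conj (g ^ (0 : ℤ))).toMonoidHom = H := by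
    rw [zpow_zero]
    ext x
    simp
  calc H = H.map (MulAut.conj (g ^ (0 : ℤ))).toMonoidHom := h0.symm
    _ ≤ gen H g := le_iSup (fun i : ℤ => H.map (MulAut.conj (g ^ i)).toMonoidHom) 0

theorem map_conj_gen (H : Subgroup G) (g : G) :
    (gen H g).map (MulAut.conj g).toMonoidHom = gen H g := by
  unfold gen
  rw [Subgroup.map_iSup]
  have h1 : ∀ i : ℤ, (H.map (MulAut.conj (g ^ i)).toMonoidHom).map (MulAut.conj g).toMonoidHom =
      H.map (MulAut.conj (g ^ (i + 1))).toMonoidHom := by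
    intro i
    rw [Subgroup.map_map]
    congr 1
    ext y
    simp only [MonoidHom.coe_comp, MulEquiv.coe_toMonoidHom, Function.comp_apply,
      MulAut.conj_apply]
    rw [zpow_add_one, mul_inv_rev]
    have hc : Commute (g ^ i) g := (Commute.refl g).zpow_left i
    rw [hc.eq]
    group
  simp_rw [h1]
  exact (Equiv.addRight (1 : ℤ)).iSup_comp (g := fun i : ℤ => H.map (MulAut.conj (g ^ i)).toMonoidHom)

theorem mem_normalizer_gen (H : Subgroup G) (g : G) :
    g ∈ Subgroup.normalizer ((gen H g : Subgroup G) : Set G) := by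
  rw [Subgroup.mem_normalizer_iff_map_conj_eq]
  exact map_conj_gen H g

theorem gen_le {H R : Subgroup G} {g : G} (hHR : H ≤ R)
    (hg : g ∈ Subgroup.normalizer (R : Set G)) : gen H g ≤ R := by
  unfold gen
  apply iSup_le
  intro i
  have hgi : g ^ i ∈ Subgroup.normalizer (R : Set G) := Subgroup.zpow_mem _ hg i
  rw [Subgroup.mem_normalizer_iff_map_conj_eq] at hgi
  calc H.map (MulAut.conj (g ^ i)).toMonoidHom ≤ R.map (MulAut.conj (g ^ i)).toMonoidHom :=
        Subgroup.map_mono hHR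
    _ = R := hgi

theorem map_gen {G' : Type*} [Group G'] (f : G →* G') (H : Subgroup G) (g : G) :
    (gen H g).map f = gen (H.map f) (f g) := by
  unfold gen
  rw [Subgroup.map_iSup]
  congr 1
  funext i
  rw [Cfsg.Agent.Lib.Helper22.map_conj_map, map_zpow]

def Sn (p : ℕ) (H : Subgroup G) : Set G :=
  {g | ∃ R : Subgroup G, IsPGroup p R ∧ H ≤ R ∧ g ∈ Subgroup.normalizer (R : Set G)}

theorem mem_Sn_iff {p : ℕ} {H : Subgroup G} {g : G} : g ∈ Sn p H ↔ IsPGroup p (gen H g) := by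
  constructor
  · rintro ⟨R, hR, hHR, hg⟩
    exact hR.to_le (gen_le hHR hg)
  · intro h
    exact ⟨gen H g, h, le_gen H g, mem_normalizer_gen H g⟩

theorem map_mem_Sn {G' : Type*} [Group G'] (f : G →* G') {p : ℕ} {H : Subgroup G} {g : G}
    (hg : g ∈ Sn p H) : f g ∈ Sn p (H.map f) := by
  rw [mem_Sn_iff] at hg ⊢
  rw [← map_gen]
  exact hg.map f

theorem card_eq_mul_of_fibers {α β : Type*} [Finite α] [Finite β] (f : α → β) (c : ℕ)
    (h : ∀ b, Nat.card {a // f a = b} = c) : Nat.card α = c * Nat.card β := by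
  classical
  haveI := Fintype.ofFinite β
  rw [← Nat.card_congr (Equiv.sigmaFiberEquiv f), Nat.card_sigma]
  simp [h, mul_comm]

theorem card_set_eq_mul {G' : Type*} [Finite G] [Finite G'] {A : Set G} {B : Set G'} (π : G → G')
    (hAB : ∀ a ∈ A, π a ∈ B) (c : ℕ)
    (h : ∀ b ∈ B, Nat.card {a : G // a ∈ A ∧ π a = b} = c) : Nat.card A = c * Nat.card B := by
  apply card_eq_mul_of_fibers (fun a : A => (⟨π a.1, hAB a.1 a.2⟩ : B)) c
  intro b
  rw [← h b.1 b.2]
  apply Nat.card_congr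
  refine ⟨fun a => ⟨a.1.1, a.1.2, congrArg Subtype.val a.2⟩,
    fun a => ⟨⟨a.1, a.2.1⟩, Subtype.ext a.2.2⟩, ?_, ?_⟩
  · intro a; rfl
  · intro a; rfl

theorem card_fiber_mk [Finite G] (M : Subgroup G) [M.Normal] (b : G ⧸ M) :
    Nat.card {a : G // (QuotientGroup.mk' M) a = b} = Nat.card M := by
  obtain ⟨a₀, rfl⟩ := QuotientGroup.mk'_surjective M b
  have e := (QuotientGroup.mk' M).fiberEquivKer a₀
  rw [QuotientGroup.ker_mk'] at e
  rw [← Nat.card_congr e]
  rfl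

theorem Sn_eq_preimage_of_isPGroup [Finite G] {p : ℕ} [Fact p.Prime] (M : Subgroup G) [M.Normal]
    (hM : IsPGroup p M) (H : Subgroup G) :
    Sn p H = (QuotientGroup.mk' M) ⁻¹' (Sn p (H.map (QuotientGroup.mk' M))) := by
  ext g
  constructor
  · intro hg
    exact map_mem_Sn _ hg
  · intro hg
    rw [Set.mem_preimage, mem_Sn_iff, ← map_gen] at hg
    rw [mem_Sn_iff]
    have hker : IsPGroup p (QuotientGroup.mk' M).ker := by
      rw [QuotientGroup.ker_mk']; exact hM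
    have := hg.comap_of_ker_isPGroup (QuotientGroup.mk' M) hker
    exact this.to_le (Subgroup.le_comap_map _ _)

theorem card_Sn_of_isPGroup [Finite G] {p : ℕ} [Fact p.Prime] (M : Subgroup G) [M.Normal]
    (hM : IsPGroup p M) (H : Subgroup G) :
    Nat.card (Sn p H) = Nat.card M * Nat.card (Sn p (H.map (QuotientGroup.mk' M))) := by
  apply card_set_eq_mul (QuotientGroup.mk' M)
  · intro a ha
    exact map_mem_Sn _ ha
  · intro b hb
    rw [← card_fiber_mk M b]
    apply Nat.card_congr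
    refine ⟨fun a => ⟨a.1, a.2.2⟩, fun a => ⟨a.1, ?_, a.2⟩, ?_, ?_⟩
    · rw [Sn_eq_preimage_of_isPGroup M hM H, Set.mem_preimage, a.2]
      exact hb
    · intro a; rfl
    · intro a; rfl

theorem inf_eq_bot_of_isPGroup [Finite G] {p : ℕ} [Fact p.Prime] {M Q : Subgroup G}
    (hM : (Nat.card M).Coprime p) (hQ : IsPGroup p Q) : Q ⊓ M = ⊥ := by
  rw [← disjoint_iff]
  apply Subgroup.disjoint_of_coprime_natCard
  obtain ⟨k, hk⟩ := IsPGroup.iff_card.mp hQ
  rw [hk]
  exact Nat.Coprime.pow_left k hM.symm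

theorem eq_of_map_le {G' : Type*} [Group G'] (f : G →* G') {A B : Subgroup G} (hAB : A ≤ B)
    (hB : B ⊓ f.ker = ⊥) (h : B.map f ≤ A.map f) : A = B := by
  apply le_antisymm hAB
  intro b hb
  obtain ⟨a, ha, hab⟩ := h (Subgroup.mem_map_of_mem f hb)
  have h0 : a⁻¹ * b ∈ f.ker := by
    rw [MonoidHom.mem_ker, map_mul, map_inv, hab, inv_mul_cancel]
  have h1 : a⁻¹ * b ∈ B ⊓ f.ker :=
    Subgroup.mem_inf.mpr ⟨B.mul_mem (B.inv_mem (hAB ha)) hb, h0⟩
  rw [hB, Subgroup.mem_bot, inv_mul_eq_one] at h1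
  rw [← h1]; exact ha

theorem comm_eq_one_of_conj {M Q : Subgroup G} [M.Normal] (hQM : Q ⊓ M = ⊥) {m h : G}
    (hm : m ∈ M) (hh : h ∈ Q) (hh' : m * h⁻¹ * m⁻¹ ∈ Q) : h * m * h⁻¹ * m⁻¹ = 1 := by
  have h1 : h * m * h⁻¹ * m⁻¹ ∈ Q ⊓ M := by
    rw [Subgroup.mem_inf]
    constructor
    · have : h * m * h⁻¹ * m⁻¹ = h * (m * h⁻¹ * m⁻¹) := by group
      rw [this]; exact Q.mul_mem hh hh'
    · have hn : h * m * h⁻¹ ∈ M := (inferInstance : M.Normal).conj_mem m hm h
      exact M.mul_mem hn (M.inv_mem hm)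
  rw [hQM, Subgroup.mem_bot] at h1
  exact h1

theorem gen_eq_of_mem_normalizer [Finite G] {p : ℕ} [Fact p.Prime] (M : Subgroup G) [M.Normal]
    (hM : (Nat.card M).Coprime p) {H Q : Subgroup G} {f g₁ : G}
    (hf : (QuotientGroup.mk' M) f = (QuotientGroup.mk' M) g₁) (hQ : IsPGroup p Q) (hHQ : H ≤ Q)
    (hQL : Q.map (QuotientGroup.mk' M) ≤
      gen (H.map (QuotientGroup.mk' M)) ((QuotientGroup.mk' M) g₁))
    (hfQ : f ∈ Subgroup.normalizer (Q : Set G)) : gen H f = Q := by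
  apply eq_of_map_le (QuotientGroup.mk' M) (gen_le hHQ hfQ)
  · rw [QuotientGroup.ker_mk']; exact inf_eq_bot_of_isPGroup hM hQ
  · rw [map_gen, hf]; exact hQL

theorem map_conjSub_of_mem {M : Subgroup G} [M.Normal] {m : G} (hm : m ∈ M) (Q : Subgroup G) :
    (conjSub m Q).map (QuotientGroup.mk' M) = Q.map (QuotientGroup.mk' M) := by
  unfold conjSub
  rw [Cfsg.Agent.Lib.Helper22.map_conj_map]
  have : (QuotientGroup.mk' M) m = 1 := by
    rw [QuotientGroup.mk'_apply, QuotientGroup.eq_one_iff]; exact hm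
  rw [this]
  ext x
  simp

theorem card_fiber_Sn [Finite G] {p : ℕ} [Fact p.Prime] (M : Subgroup G) [M.Normal]
    (hM : (Nat.card M).Coprime p) (H : Subgroup G) (hH : IsPGroup p H) (b : G ⧸ M)
    (hb : b ∈ Sn p (H.map (QuotientGroup.mk' M))) :
    Nat.card {a : G // a ∈ Sn p H ∧ (QuotientGroup.mk' M) a = b} =
      Nat.card {u : G // u ∈ M ∧ ∀ h ∈ H, h * u * h⁻¹ * u⁻¹ = 1} := by
  obtain ⟨g₁, rfl⟩ := QuotientGroup.mk'_surjective M b
  set π := QuotientGroup.mk' M with hπ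
  set Rb := gen (H.map π) (π g₁) with hRb
  have hRbp : IsPGroup p Rb := mem_Sn_iff.mp hb
  set L := Rb.comap π with hL
  have hkerπ : π.ker = M := QuotientGroup.ker_mk' M
  have hML : M ≤ L := le_of_eq_of_le hkerπ.symm (Subgroup.ker_le_comap π Rb)
  have hHL : H ≤ L := by
    rw [hL, ← Subgroup.map_le_iff_le_comap]; exact le_gen _ _
  have hg₁L : g₁ ∈ Subgroup.normalizer (L : Set G) := by
    apply Subgroup.le_normalizer_comap π
    rw [Subgroup.mem_comap]
    exact mem_normalizer_gen _ _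
  have hmapL : L.map π = Rb := by
    rw [hL]; exact Subgroup.map_comap_eq_self_of_surjective (QuotientGroup.mk'_surjective M) Rb
  obtain ⟨P, hP⟩ := (hH.comap_subtype : IsPGroup p (H.subgroupOf L)).exists_le_sylow
  set Q₀ := (P : Subgroup L).map L.subtype with hQ₀
  have hSyl : IsSylowIn p Q₀ L := isSylowIn_of_sylow P
  have hHQ₀ : H ≤ Q₀ := by
    intro h hh
    exact ⟨⟨h, hHL hh⟩, hP (Subgroup.mem_subgroupOf.mpr hh), rfl⟩
  have hQ₀p : IsPGroup p Q₀ := hSyl.isPGroup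
  have hQ₀M : Q₀ ⊓ M = ⊥ := inf_eq_bot_of_isPGroup hM hQ₀p
  have hπQ₀le : Q₀.map π ≤ Rb := by
    rw [← hmapL]; exact Subgroup.map_mono hSyl.le
  have hπQ₀ : Q₀.map π = Rb := by
    apply le_antisymm hπQ₀le
    rw [← Subgroup.relIndex_eq_one]
    have h1 : (Q₀.map π).relIndex Rb ∣ Q₀.relIndex L := by
      rw [← hmapL, Subgroup.relIndex_map_map, hkerπ, sup_eq_left.mpr hML]
      exact Subgroup.relIndex_dvd_of_le_left L le_sup_left
    have h2 : (Q₀.map π).relIndex Rb ∣ Nat.card Rb := by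
      unfold Subgroup.relIndex
      exact Subgroup.index_dvd_card _
    obtain ⟨k, hk⟩ := IsPGroup.iff_card.mp hRbp
    rw [hk] at h2
    obtain ⟨j, _, hj⟩ := (Nat.dvd_prime_pow Fact.out).mp h2
    rw [hj] at h1 ⊢
    rcases Nat.eq_zero_or_pos j with h0 | h0
    · rw [h0, pow_zero]
    · exfalso
      exact hSyl.not_dvd ((dvd_pow_self p h0.ne').trans h1)
  obtain ⟨g₀, hg₀N, hg₀π⟩ : ∃ g₀ : G, g₀ ∈ Subgroup.normalizer (Q₀ : Set G) ∧ π g₀ = π g₁ := by
    obtain ⟨n, hnL, hn⟩ := hSyl.frattini hg₁L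
    have hπn : π n ∈ Q₀.map π := by
      rw [hπQ₀, ← hmapL]; exact Subgroup.mem_map_of_mem π hnL
    obtain ⟨q, hq, hqn⟩ := hπn
    refine ⟨q⁻¹ * (n * g₁), ?_, ?_⟩
    · exact Subgroup.mul_mem _ (Subgroup.inv_mem _ (Subgroup.le_normalizer hq)) hn
    · rw [map_mul, map_mul, map_inv, hqn, ← mul_assoc, inv_mul_cancel, one_mul]
  have hU : ∀ (f : G) (Q : Subgroup G), π f = π g₁ → IsPGroup p Q → H ≤ Q → Q.map π ≤ Rb →
      f ∈ Subgroup.normalizer (Q : Set G) → gen H f = Q := by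
    intro f Q hf hQ hHQ hQL hfQ
    exact gen_eq_of_mem_normalizer M hM hf hQ hHQ hQL hfQ
  have hT : ∀ f : G, (f ∈ Sn p H ∧ π f = π g₁) →
      ∃ m : G, (m ∈ M ∧ ∀ h ∈ H, h * m * h⁻¹ * m⁻¹ = 1) ∧ conjSub m Q₀ = gen H f := by
    rintro f ⟨hfS, hfπ⟩
    have hQf : IsPGroup p (gen H f) := mem_Sn_iff.mp hfS
    have hπQf : (gen H f).map π = Rb := by rw [map_gen, hfπ]
    have hQfL : gen H f ≤ L := by
      rw [hL, ← Subgroup.map_le_iff_le_comap, hπQf]
    obtain ⟨x, hxL, hx⟩ := hSyl.exists_conj_le hQfL hQf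
    have hπx : π x ∈ Q₀.map π := by
      rw [hπQ₀, ← hmapL]; exact Subgroup.mem_map_of_mem π hxL
    obtain ⟨q, hq, hqx⟩ := hπx
    have hm'M : q⁻¹ * x ∈ M := by
      rw [← hkerπ, MonoidHom.mem_ker, map_mul, map_inv, hqx, inv_mul_cancel]
    have hle : conjSub (q⁻¹ * x) (gen H f) ≤ Q₀ := by
      rw [← conjSub_mul]
      calc conjSub q⁻¹ (conjSub x (gen H f)) ≤ conjSub q⁻¹ Q₀ := conjSub_mono hx
        _ = Q₀ := conjSub_eq_of_mem_normalizer
            (Subgroup.inv_mem _ (Subgroup.le_normalizer hq))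
    have heq : conjSub (q⁻¹ * x) (gen H f) = Q₀ := by
      apply eq_of_map_le π hle
      · rw [hkerπ]; exact hQ₀M
      · rw [map_conjSub_of_mem hm'M, hπQf, hπQ₀]
    have heq' : conjSub (q⁻¹ * x)⁻¹ Q₀ = gen H f := by
      rw [← heq, conjSub_mul, inv_mul_cancel, conjSub_one]
    refine ⟨(q⁻¹ * x)⁻¹, ⟨M.inv_mem hm'M, ?_⟩, heq'⟩
    intro h hh
    have hQfM : gen H f ⊓ M = ⊥ := inf_eq_bot_of_isPGroup hM hQf
    apply comm_eq_one_of_conj hQfM (M.inv_mem hm'M) (le_gen H f hh)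
    rw [← heq']
    exact conj_mem_conjSub (hHQ₀ (H.inv_mem hh))
  have hN : ∀ c : G, c ∈ M → c ∈ Subgroup.normalizer (Q₀ : Set G) →
      ∀ h ∈ H, h * c * h⁻¹ * c⁻¹ = 1 := by
    intro c hcM hcN h hh
    apply comm_eq_one_of_conj hQ₀M hcM (hHQ₀ hh)
    have := conj_mem_conjSub (g := c) (hHQ₀ (H.inv_mem hh))
    rwa [conjSub_eq_of_mem_normalizer hcN] at this
  choose! mf hmf using hT
  let C0 : Set G := {c | c ∈ M ∧ c ∈ Subgroup.normalizer (Q₀ : Set G)}
  let CMH : Set G := {u | u ∈ M ∧ ∀ h ∈ H, h * u * h⁻¹ * u⁻¹ = 1}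
  let Fib : Set G := {a | a ∈ Sn p H ∧ π a = π g₁}
  have hCMH_sub : ∀ m ∈ CMH, conjSub m Q₀ ≤ L ∧ H ≤ conjSub m Q₀ := by
    intro m hm
    refine ⟨conjSub_le_of_mem hSyl.le (hML hm.1), ?_⟩
    intro h hh
    have h1 : h * m * h⁻¹ * m⁻¹ = 1 := hm.2 h hh
    have h2 : h = m * h * m⁻¹ := by
      have : h * m = m * h := by
        have h3 : h * m * h⁻¹ * m⁻¹ * (m * h) = 1 * (m * h) := by rw [h1]
        rw [one_mul] at h3
        rw [← h3]; group
      rw [← this]; group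
    rw [h2]
    exact conj_mem_conjSub (hHQ₀ hh)
  have hΦ : ∀ c ∈ C0, ∀ m ∈ CMH, m * (g₀ * c) * m⁻¹ ∈ Fib ∧
      gen H (m * (g₀ * c) * m⁻¹) = conjSub m Q₀ := by
    intro c hc m hm
    have hnorm : m * (g₀ * c) * m⁻¹ ∈ Subgroup.normalizer ((conjSub m Q₀ : Subgroup G) : Set G) := by
      have h1 : g₀ * c ∈ Subgroup.normalizer (Q₀ : Set G) := Subgroup.mul_mem _ hg₀N hc.2
      apply mem_normalizer_of_conjSub_le
      rw [conjSub_mul]
      have : m * (g₀ * c) * m⁻¹ * m = m * (g₀ * c) := by group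
      rw [this, ← conjSub_mul, conjSub_eq_of_mem_normalizer h1]
    have hπ1 : π (m * (g₀ * c) * m⁻¹) = π g₁ := by
      have hm1 : π m = 1 := by rw [← MonoidHom.mem_ker, hkerπ]; exact hm.1
      have hc1 : π c = 1 := by rw [← MonoidHom.mem_ker, hkerπ]; exact hc.1
      rw [map_mul, map_mul, map_mul, map_inv, hm1, hc1, hg₀π]
      simp
    have hsub := hCMH_sub m hm
    have hp : IsPGroup p (conjSub m Q₀) := conjSub_isPGroup hQ₀p
    refine ⟨⟨⟨conjSub m Q₀, hp, hsub.2, hnorm⟩, hπ1⟩, ?_⟩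
    apply hU _ _ hπ1 hp hsub.2 _ hnorm
    rw [map_conjSub_of_mem hm.1]; exact hπQ₀le
  have h1C0 : (1 : G) ∈ C0 := ⟨M.one_mem, Subgroup.one_mem _⟩
  have hbij : Set.BijOn (fun x : G × G => (x.2 * (g₀ * x.1) * x.2⁻¹,
      (mf (x.2 * (g₀ * x.1) * x.2⁻¹))⁻¹ * x.2)) (C0 ×ˢ CMH) (Fib ×ˢ C0) := by
    apply Set.InvOn.bijOn (f' := fun y : G × G =>
      (g₀⁻¹ * ((mf y.1 * y.2)⁻¹ * y.1 * (mf y.1 * y.2)), mf y.1 * y.2))
    · constructor
      · rintro ⟨c, m⟩ ⟨hc, hm⟩
        simp only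
        have h1 := hΦ c hc m hm
        have : mf (m * (g₀ * c) * m⁻¹) * ((mf (m * (g₀ * c) * m⁻¹))⁻¹ * m) = m := by group
        rw [this]
        apply Prod.ext
        · simp only; group
        · rfl
      · rintro ⟨f, c'⟩ ⟨hf, hc'⟩
        simp only
        have h2 : mf f * c' * (g₀ * (g₀⁻¹ * ((mf f * c')⁻¹ * f * (mf f * c')))) * (mf f * c')⁻¹ = f := by
          group
        rw [h2]
        apply Prod.ext
        · rfl
        · simp only; group
    · rintro ⟨c, m⟩ ⟨hc, hm⟩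
      have h1 := hΦ c hc m hm
      have h2 := hmf _ h1.1
      refine ⟨h1.1, M.mul_mem (M.inv_mem h2.1.1) hm.1, ?_⟩
      apply mem_normalizer_of_conjSub_le
      rw [← conjSub_mul, ← h1.2, ← h2.2, conjSub_mul, inv_mul_cancel, conjSub_one]
    · rintro ⟨f, c'⟩ ⟨hf, hc'⟩
      have h2 := hmf f hf
      have hmem : mf f * c' ∈ CMH := by
        refine ⟨M.mul_mem h2.1.1 hc'.1, ?_⟩
        intro h hh
        have e1 := h2.1.2 h hh
        have e2 := hN c' hc'.1 hc'.2 h hh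
        have e1' : h * mf f = mf f * h := by
          have h3 : h * mf f * h⁻¹ * (mf f)⁻¹ * (mf f * h) = 1 * (mf f * h) := by rw [e1]
          rw [one_mul] at h3
          rw [← h3]; group
        have e2' : h * c' = c' * h := by
          have h3 : h * c' * h⁻¹ * c'⁻¹ * (c' * h) = 1 * (c' * h) := by rw [e2]
          rw [one_mul] at h3
          rw [← h3]; group
        calc h * (mf f * c') * h⁻¹ * (mf f * c')⁻¹
            = (h * mf f) * c' * h⁻¹ * (mf f * c')⁻¹ := by group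
          _ = mf f * (h * c') * h⁻¹ * (mf f * c')⁻¹ := by rw [e1']; group
          _ = 1 := by rw [e2']; group
      have hfN : f ∈ Subgroup.normalizer ((gen H f : Subgroup G) : Set G) := mem_normalizer_gen H f
      have hgen : conjSub (mf f * c') Q₀ = gen H f := by
        rw [← conjSub_mul, conjSub_eq_of_mem_normalizer hc'.2, h2.2]
      have ha : (mf f * c')⁻¹ * f * (mf f * c') ∈ Subgroup.normalizer (Q₀ : Set G) := by
        apply mem_normalizer_of_conjSub_le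
        have e : conjSub ((mf f * c')⁻¹ * f * (mf f * c')) Q₀ =
            conjSub (mf f * c')⁻¹ (conjSub f (conjSub (mf f * c') Q₀)) := by
          rw [conjSub_mul, conjSub_mul, mul_assoc]
        rw [e, hgen, conjSub_eq_of_mem_normalizer hfN, ← hgen, conjSub_mul, inv_mul_cancel,
          conjSub_one]
      refine ⟨⟨?_, ?_⟩, hmem⟩
      · have hπa : π (g₀⁻¹ * ((mf f * c')⁻¹ * f * (mf f * c'))) = 1 := by
          have hm1 : π (mf f * c') = 1 := by rw [← MonoidHom.mem_ker, hkerπ]; exact hmem.1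
          rw [map_mul, map_mul, map_mul, map_inv, map_inv, hm1, hg₀π, hf.2]
          simp
        rw [← hkerπ, MonoidHom.mem_ker]; exact hπa
      · exact Subgroup.mul_mem _ (Subgroup.inv_mem _ hg₀N) ha
  have hcard := hbij.ncard_eq
  rw [Set.ncard_prod, Set.ncard_prod] at hcard
  have hC0pos : 0 < C0.ncard := by
    rw [Set.ncard_pos (Set.toFinite _)]
    exact ⟨1, h1C0⟩
  have hfinal : Fib.ncard = CMH.ncard := by
    have : C0.ncard * CMH.ncard = C0.ncard * Fib.ncard := by rw [hcard, mul_comm]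
    exact (Nat.eq_of_mul_eq_mul_left hC0pos this).symm
  have e1 : Nat.card {a : G // a ∈ Sn p H ∧ π a = π g₁} = Fib.ncard := Nat.card_coe_set_eq Fib
  have e2 : Nat.card {u : G // u ∈ M ∧ ∀ h ∈ H, h * u * h⁻¹ * u⁻¹ = 1} = CMH.ncard :=
    Nat.card_coe_set_eq CMH
  rw [e1, e2, hfinal]

theorem card_Sn_of_coprime [Finite G] {p : ℕ} [Fact p.Prime] (M : Subgroup G) [M.Normal]
    (hM : (Nat.card M).Coprime p) (H : Subgroup G) (hH : IsPGroup p H) :
    Nat.card (Sn p H) = Nat.card {u : G // u ∈ M ∧ ∀ h ∈ H, h * u * h⁻¹ * u⁻¹ = 1} *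
      Nat.card (Sn p (H.map (QuotientGroup.mk' M))) := by
  apply card_set_eq_mul (QuotientGroup.mk' M)
  · intro a ha; exact map_mem_Sn _ ha
  · intro b hb; exact card_fiber_Sn M hM H hH b hb

theorem card_preimage_mk [Finite G] (N : Subgroup G) [N.Normal] (B : Set (G ⧸ N)) :
    Nat.card ((QuotientGroup.mk' N) ⁻¹' B) = Nat.card N * Nat.card B := by
  apply card_set_eq_mul (QuotientGroup.mk' N)
  · intro a ha; exact ha
  · intro b hb
    rw [← card_fiber_mk N b]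
    apply Nat.card_congr
    refine ⟨fun a => ⟨a.1, a.2.2⟩, fun a => ⟨a.1, ?_, a.2⟩, ?_, ?_⟩
    · rw [Set.mem_preimage, a.2]; exact hb
    · intro a; rfl
    · intro a; rfl

theorem prod_relIndex_chain : ∀ (n : ℕ) (f : Fin (n + 1) → Subgroup G) (_ : Monotone f),
    ∏ i : Fin n, (f i.castSucc).relIndex (f i.succ) = (f 0).relIndex (f (Fin.last n)) := by
  intro n
  induction n with
  | zero =>
    intro f _
    simp
  | succ n ih =>
    intro f hf
    rw [Fin.prod_univ_castSucc]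
    have h1 := ih (fun i => f i.castSucc) (fun a b hab => hf (Fin.castSucc_le_castSucc_iff.mpr hab))
    simp only [Fin.succ_castSucc] at h1 ⊢
    rw [h1, Fin.succ_last]
    exact Subgroup.relIndex_mul_relIndex _ _ _ (hf (Fin.zero_le _))
      (hf (Fin.castSucc_le_castSucc_iff.mpr (Fin.le_last _)) |>.trans (hf (by
        rw [Fin.castSucc_le_castSucc_iff] <;> exact le_rfl)) |>.trans (hf (Fin.le_last _)))

end Cfsg.Agent.Lib.Helper22.Subnormalizer
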