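import Mathlib
import Cfsg.Agent.Lib.Helper18.SylowIn
import Cfsg.Agent.Lib.helper17.PSub
import Cfsg.Agent.Lib.Helper22.Subnormalizer

set_option autoImplicit false

namespace Cfsg.Agent.Lib.Helper22.Casolo

open Cfsg.Agent.Lib.Helper18 Cfsg.Agent.Lib.Helper22.Subnormalizer

open Classical

variable {G : Type*} [Group G] [Finite G] (p : ℕ)

noncomputable def Inv (K : Subgroup G) (g : G) : Finset (Subgroup G) :=
  (Set.toFinite {R : Subgroup G | R ≤ K ∧ IsPGroup p R ∧
    g ∈ Subgroup.normalizer (R : Set G)}).toFinset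

theorem mem_Inv {K : Subgroup G} {g : G} {R : Subgroup G} :
    R ∈ Inv p K g ↔ R ≤ K ∧ IsPGroup p R ∧ g ∈ Subgroup.normalizer (R : Set G) := by
  unfold Inv
  rw [Set.Finite.mem_toFinset]
  rfl

theorem card_lt_of_lt {R R' : Subgroup G} (h : R < R') : Nat.card R < Nat.card R' :=
  Set.Finite.card_lt_card (Set.toFinite _) h

noncomputable def mfun (K : Subgroup G) (g : G) (R : Subgroup G) : ℤ :=
  1 - ∑ R' ∈ ((Inv p K g).filter (fun R' => R < R')).attach, mfun K g R'.1
termination_by Nat.card G - Nat.card R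
decreasing_by
  have h := (Finset.mem_filter.mp R'.2).2
  have h1 := card_lt_of_lt h
  have h2 : Nat.card R'.1 ≤ Nat.card G := Subgroup.card_le_card_group _
  omega

theorem mfun_eq (K : Subgroup G) (g : G) (R : Subgroup G) :
    mfun p K g R = 1 - ∑ R' ∈ (Inv p K g).filter (fun R' => R < R'), mfun p K g R' := by
  rw [mfun, Finset.sum_attach ((Inv p K g).filter (fun R' => R < R')) (fun R' => mfun p K g R')]

theorem sum_ge_mfun {K : Subgroup G} {g : G} {R : Subgroup G} (hR : R ∈ Inv p K g) :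
    ∑ R' ∈ (Inv p K g).filter (fun R' => R ≤ R'), mfun p K g R' = 1 := by
  have h1 : (Inv p K g).filter (fun R' => R ≤ R') =
      insert R ((Inv p K g).filter (fun R' => R < R')) := by
    ext R'
    simp only [Finset.mem_filter, Finset.mem_insert]
    constructor
    · rintro ⟨h1, h2⟩
      rcases eq_or_lt_of_le h2 with h | h
      · exact Or.inl h.symm
      · exact Or.inr ⟨h1, h⟩
    · rintro (h | ⟨h1, h2⟩)
      · rw [h]; exact ⟨hR, le_rfl⟩
      · exact ⟨h1, h2.le⟩
  rw [h1, Finset.sum_insert (by simp), mfun_eq p K g R]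
  ring

theorem upper_sum_unique (𝒟 : Finset (Subgroup G)) (φ ψ : Subgroup G → ℤ)
    (h : ∀ D ∈ 𝒟, ∑ D' ∈ 𝒟.filter (fun D' => D ≤ D'), φ D' =
      ∑ D' ∈ 𝒟.filter (fun D' => D ≤ D'), ψ D') :
    ∀ D ∈ 𝒟, φ D = ψ D := by
  have key : ∀ n : ℕ, ∀ D ∈ 𝒟, Nat.card G - Nat.card D = n → φ D = ψ D := by
    intro n
    induction n using Nat.strong_induction_on with
    | _ n ih =>
      intro D hD hn
      have hsplit : 𝒟.filter (fun D' => D ≤ D') = insert D (𝒟.filter (fun D' => D < D')) := by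
        ext D'
        simp only [Finset.mem_filter, Finset.mem_insert]
        constructor
        · rintro ⟨h1, h2⟩
          rcases eq_or_lt_of_le h2 with h | h
          · exact Or.inl h.symm
          · exact Or.inr ⟨h1, h⟩
        · rintro (h | ⟨h1, h2⟩)
          · rw [h]; exact ⟨hD, le_rfl⟩
          · exact ⟨h1, h2.le⟩
      have h1 := h D hD
      rw [hsplit, Finset.sum_insert (by simp), Finset.sum_insert (by simp)] at h1
      have h2 : ∑ D' ∈ 𝒟.filter (fun D' => D < D'), φ D' =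
          ∑ D' ∈ 𝒟.filter (fun D' => D < D'), ψ D' := by
        apply Finset.sum_congr rfl
        intro D' hD'
        rw [Finset.mem_filter] at hD'
        have hlt := card_lt_of_lt hD'.2
        have hle : Nat.card D' ≤ Nat.card G := Subgroup.card_le_card_group _
        exact ih (Nat.card G - Nat.card D') (by omega) D' hD'.1 rfl
      rw [h2] at h1
      exact add_right_cancel h1
  intro D hD
  exact key _ D hD rfl

theorem gen_mem_Inv {K H R : Subgroup G} {g : G} (hR : R ∈ Inv p K g) (hHR : H ≤ R) :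
    gen H g ∈ Inv p K g := by
  rw [mem_Inv] at hR ⊢
  have hle : gen H g ≤ R := gen_le hHR hR.2.2
  exact ⟨hle.trans hR.1, hR.2.1.to_le hle, mem_normalizer_gen H g⟩

theorem sum_mfun_ge (K H : Subgroup G) (g : G) :
    ∑ R ∈ (Inv p K g).filter (fun R => H ≤ R), mfun p K g R =
      if ∃ R ∈ Inv p K g, H ≤ R then 1 else 0 := by
  split_ifs with h
  · obtain ⟨R, hR, hHR⟩ := h
    have hgen := gen_mem_Inv p hR hHR
    rw [← sum_ge_mfun p hgen]
    apply Finset.sum_congr _ (fun _ _ => rfl)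
    ext R'
    simp only [Finset.mem_filter]
    constructor
    · rintro ⟨h1, h2⟩
      exact ⟨h1, gen_le h2 (mem_Inv p |>.mp h1).2.2⟩
    · rintro ⟨h1, h2⟩
      exact ⟨h1, (le_gen H g).trans h2⟩
  · apply Finset.sum_eq_zero
    intro R hR
    rw [Finset.mem_filter] at hR
    exact absurd ⟨R, hR.1, hR.2⟩ h

variable [Fact p.Prime]

theorem inf_mem_filter {K R R' : Subgroup G} {g : G} (hRK : R ≤ K)
    (hg : g ∈ K ⊓ Subgroup.normalizer (R : Set G))
    (hR' : R' ∈ (Inv p K g).filter (fun R' => R < R')) :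
    R' ⊓ (K ⊓ Subgroup.normalizer (R : Set G)) ∈
      (Inv p (K ⊓ Subgroup.normalizer (R : Set G)) g).filter (fun D => R < D) := by
  rw [Finset.mem_filter, mem_Inv] at hR' ⊢
  obtain ⟨⟨hR'K, hR'p, hgR'⟩, hlt⟩ := hR'
  refine ⟨⟨inf_le_right, hR'p.to_le inf_le_left, ?_⟩, ?_⟩
  · apply Subgroup.inf_normalizer_le_normalizer_inf
    exact Subgroup.mem_inf.mpr ⟨hgR', Subgroup.le_normalizer hg⟩
  · obtain ⟨n, hnR', hnN, hnR⟩ := Cfsg.Agent.Lib.helper17.exists_mem_normalizer_not_mem hR'p hlt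
    apply lt_of_le_of_ne
    · exact le_inf hlt.le (le_inf hRK Subgroup.le_normalizer)
    · intro heq
      apply hnR
      rw [heq]
      exact Subgroup.mem_inf.mpr ⟨hnR', Subgroup.mem_inf.mpr ⟨hR'K hnR', hnN⟩⟩

theorem star_identity {K R : Subgroup G} {g : G} (hRK : R ≤ K)
    (hg : g ∈ K ⊓ Subgroup.normalizer (R : Set G)) :
    ∑ R' ∈ (Inv p K g).filter (fun R' => R < R'), mfun p K g R' =
      ∑ D ∈ (Inv p (K ⊓ Subgroup.normalizer (R : Set G)) g).filter (fun D => R < D),
        mfun p (K ⊓ Subgroup.normalizer (R : Set G)) g D := by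
  set N := K ⊓ Subgroup.normalizer (R : Set G) with hN
  set 𝒮 := (Inv p K g).filter (fun R' => R < R') with h𝒮
  set 𝒟 := (Inv p N g).filter (fun D => R < D) with h𝒟
  have hmaps : ∀ R' ∈ 𝒮, R' ⊓ N ∈ 𝒟 := fun R' hR' => inf_mem_filter p hRK hg hR'
  let μ : Subgroup G → ℤ := fun D => ∑ R' ∈ 𝒮.filter (fun R' => R' ⊓ N = D), mfun p K g R'
  have hb : ∑ D ∈ 𝒟, μ D = ∑ R' ∈ 𝒮, mfun p K g R' :=
    Finset.sum_fiberwise_of_maps_to hmaps _
  have hc : ∀ D ∈ 𝒟, ∑ D' ∈ 𝒟.filter (fun D' => D ≤ D'), μ D' = 1 := by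
    intro D hD
    have hD' := hD
    rw [h𝒟, Finset.mem_filter, mem_Inv] at hD'
    obtain ⟨⟨hDN, hDp, hgD⟩, hRD⟩ := hD'
    have hmaps2 : ∀ R' ∈ 𝒮.filter (fun R' => D ≤ R' ⊓ N), R' ⊓ N ∈ 𝒟.filter (fun D' => D ≤ D') := by
      intro R' hR'
      rw [Finset.mem_filter] at hR' ⊢
      exact ⟨hmaps R' hR'.1, hR'.2⟩
    have h1 := Finset.sum_fiberwise_of_maps_to hmaps2 (fun R' => mfun p K g R')
    have h2 : ∑ D' ∈ 𝒟.filter (fun D' => D ≤ D'), μ D' =
        ∑ D' ∈ 𝒟.filter (fun D' => D ≤ D'),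
          ∑ R' ∈ (𝒮.filter (fun R' => D ≤ R' ⊓ N)).filter (fun R' => R' ⊓ N = D'),
            mfun p K g R' := by
      apply Finset.sum_congr rfl
      intro D' hD'
      rw [Finset.mem_filter] at hD'
      apply Finset.sum_congr _ (fun _ _ => rfl)
      ext R'
      simp only [Finset.mem_filter]
      constructor
      · rintro ⟨h3, h4⟩
        exact ⟨⟨h3, by rw [h4]; exact hD'.2⟩, h4⟩
      · rintro ⟨⟨h3, _⟩, h4⟩
        exact ⟨h3, h4⟩
    rw [h2, h1]
    have hDK : D ∈ Inv p K g := by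
      rw [mem_Inv]
      exact ⟨hDN.trans inf_le_left, hDp, hgD⟩
    rw [← sum_ge_mfun p hDK]
    apply Finset.sum_congr _ (fun _ _ => rfl)
    ext R'
    simp only [h𝒮, Finset.mem_filter]
    constructor
    · rintro ⟨⟨h3, _⟩, h5⟩
      exact ⟨h3, h5.trans inf_le_left⟩
    · rintro ⟨h3, h5⟩
      exact ⟨⟨h3, lt_of_lt_of_le hRD h5⟩, le_inf h5 hDN⟩
  have hd : ∀ D ∈ 𝒟, ∑ D' ∈ 𝒟.filter (fun D' => D ≤ D'), mfun p N g D' = 1 := by
    intro D hD
    have hD' := hD
    rw [h𝒟, Finset.mem_filter] at hD'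
    rw [← sum_ge_mfun p hD'.1]
    apply Finset.sum_congr _ (fun _ _ => rfl)
    ext D'
    simp only [h𝒟, Finset.mem_filter]
    constructor
    · rintro ⟨⟨h3, _⟩, h5⟩
      exact ⟨h3, h5⟩
    · rintro ⟨h3, h5⟩
      exact ⟨⟨h3, lt_of_lt_of_le hD'.2 h5⟩, h5⟩
  have he := upper_sum_unique 𝒟 μ (mfun p N g) (fun D hD => by rw [hc D hD, hd D hD])
  rw [← hb]
  exact Finset.sum_congr rfl he

noncomputable def elts (L : Subgroup G) : Finset G := (Set.toFinite (L : Set G)).toFinset

omit [Fact p.Prime] in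
theorem mem_elts {L : Subgroup G} {g : G} : g ∈ elts L ↔ g ∈ L := by
  unfold elts
  rw [Set.Finite.mem_toFinset]
  rfl

theorem card_elts (L : Subgroup G) : (elts L).card = Nat.card L := by
  unfold elts
  rw [← Set.ncard_eq_toFinset_card (L : Set G) (Set.toFinite _)]
  exact (Nat.card_coe_set_eq (L : Set G)).symm

noncomputable def PSub (K : Subgroup G) : Finset (Subgroup G) :=
  (Set.toFinite {R : Subgroup G | R ≤ K ∧ IsPGroup p R}).toFinset

omit [Fact p.Prime] in
theorem mem_PSub {K R : Subgroup G} : R ∈ PSub p K ↔ R ≤ K ∧ IsPGroup p R := by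
  unfold PSub
  rw [Set.Finite.mem_toFinset]
  rfl

noncomputable def wfun (K R : Subgroup G) : ℤ :=
  ∑ g ∈ elts (K ⊓ Subgroup.normalizer (R : Set G)), mfun p K g R

omit [Fact p.Prime] in
theorem sum_wfun (K : Subgroup G) (Pred : Subgroup G → Prop) :
    ∑ g ∈ elts K, ∑ R ∈ (Inv p K g).filter Pred, mfun p K g R =
      ∑ R ∈ (PSub p K).filter Pred, wfun p K R := by
  unfold wfun
  apply Finset.sum_comm'
  intro g R
  simp only [Finset.mem_filter, mem_Inv, mem_PSub, mem_elts, Subgroup.mem_inf]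
  tauto

noncomputable def SnFin (K H : Subgroup G) : Finset G :=
  (elts K).filter (fun g => ∃ R ∈ Inv p K g, H ≤ R)

omit [Fact p.Prime] in
theorem mem_SnFin {K H : Subgroup G} {g : G} :
    g ∈ SnFin p K H ↔ g ∈ K ∧ ∃ R ∈ Inv p K g, H ≤ R := by
  unfold SnFin
  rw [Finset.mem_filter, mem_elts]

theorem card_Sn_eq_sum (K H : Subgroup G) :
    ((SnFin p K H).card : ℤ) =
      ∑ R ∈ (PSub p K).filter (fun R => H ≤ R), wfun p K R := by
  unfold SnFin
  rw [← sum_wfun p K (fun R => H ≤ R)]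
  rw [Finset.card_filter]
  push_cast
  apply Finset.sum_congr rfl
  intro g _
  rw [sum_mfun_ge p K H g]

theorem exists_isSylowIn_ge {K R : Subgroup G} (hRK : R ≤ K) (hR : IsPGroup p R) :
    ∃ Q : Subgroup G, IsSylowIn p Q K ∧ R ≤ Q := by
  obtain ⟨S, hS⟩ := (hR.comap_subtype : IsPGroup p (R.subgroupOf K)).exists_le_sylow
  refine ⟨(S : Subgroup K).map K.subtype, isSylowIn_of_sylow S, ?_⟩
  intro x hx
  exact ⟨⟨x, hRK hx⟩, hS (Subgroup.mem_subgroupOf.mpr hx), rfl⟩

theorem conjSub_isSylowIn {N D : Subgroup G} (h : IsSylowIn p D N) {x : G} (hx : x ∈ N) :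
    IsSylowIn p (conjSub x D) N := by
  have := h.conjSub x
  rwa [conjSub_eq_of_mem_normalizer (Subgroup.le_normalizer hx)] at this

theorem exists_conj_eq {N D D₀ : Subgroup G} (h : IsSylowIn p D N) (h₀ : IsSylowIn p D₀ N) :
    ∃ x ∈ N, conjSub x D₀ = D := by
  obtain ⟨x, hx, hle⟩ := h.exists_conj_le h₀.le h₀.isPGroup
  refine ⟨x, hx, ?_⟩
  exact ((conjSub_isSylowIn p h₀ hx).eq_of_le h.le h.isPGroup hle).symm

theorem sylow_count (N : Subgroup G) :
    ∑ D ∈ (PSub p N).filter (fun D => IsSylowIn p D N),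
      (Nat.card (N ⊓ Subgroup.normalizer (D : Set G) : Subgroup G) : ℤ) = Nat.card N := by
  obtain ⟨D₀, hD₀, -⟩ := exists_isSylowIn_ge p (bot_le : (⊥ : Subgroup G) ≤ N) IsPGroup.of_bot
  have hmaps : ∀ x ∈ elts N, conjSub x D₀ ∈ (PSub p N).filter (fun D => IsSylowIn p D N) := by
    intro x hx
    rw [mem_elts] at hx
    have h1 := conjSub_isSylowIn p hD₀ hx
    rw [Finset.mem_filter, mem_PSub]
    exact ⟨⟨h1.le, h1.isPGroup⟩, h1⟩
  have h1 := Finset.card_eq_sum_card_fiberwise hmaps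
  rw [card_elts] at h1
  rw [h1]
  push_cast
  apply Finset.sum_congr rfl
  intro D hD
  rw [Finset.mem_filter] at hD
  obtain ⟨x₁, hx₁N, hx₁⟩ := exists_conj_eq p hD.2 hD₀
  rw [← card_elts]
  congr 1
  apply Finset.card_nbij' (fun y => y * x₁) (fun z => z * x₁⁻¹)
  · intro y hy
    simp only [Finset.coe_filter, Set.mem_setOf_eq]
    have hy' := mem_elts.mp (Finset.mem_coe.mp hy)
    rw [Subgroup.mem_inf] at hy'
    refine ⟨mem_elts.mpr (N.mul_mem hy'.1 hx₁N), ?_⟩
    rw [← conjSub_mul, hx₁, conjSub_eq_of_mem_normalizer hy'.2]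
  · intro z hz
    simp only [Finset.coe_filter, Set.mem_setOf_eq] at hz
    have hzN := mem_elts.mp hz.1
    apply Finset.mem_coe.mpr
    rw [mem_elts, Subgroup.mem_inf]
    refine ⟨N.mul_mem hzN (N.inv_mem hx₁N), ?_⟩
    apply mem_normalizer_of_conjSub_le
    have h2 : conjSub x₁⁻¹ D = D₀ := by
      rw [← hx₁, conjSub_mul, inv_mul_cancel, conjSub_one]
    rw [← conjSub_mul, h2, hz.2]
  · intro y _
    simp
  · intro z _
    simp

theorem sylow_sum {N R : Subgroup G} (hRN : R ≤ N) (hN : N ≤ Subgroup.normalizer (R : Set G))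
    (hR : IsPGroup p R) (hns : ¬ IsSylowIn p R N) :
    ∑ D ∈ (PSub p N).filter (fun D => R < D),
      (if IsSylowIn p D N then (Nat.card (N ⊓ Subgroup.normalizer (D : Set G) : Subgroup G) : ℤ)
        else 0) = Nat.card N := by
  rw [← Finset.sum_filter, Finset.filter_filter, ← sylow_count p N]
  apply Finset.sum_congr _ (fun _ _ => rfl)
  ext D
  simp only [Finset.mem_filter]
  constructor
  · rintro ⟨h1, _, h3⟩
    exact ⟨h1, h3⟩
  · rintro ⟨h1, h3⟩
    refine ⟨h1, ?_, h3⟩
    obtain ⟨x, hx, hle⟩ := h3.exists_conj_le hRN hR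
    rw [conjSub_eq_of_mem_normalizer (hN hx)] at hle
    apply lt_of_le_of_ne hle
    intro heq
    apply hns
    rw [heq]; exact h3

theorem not_isSylowIn_normalizer {K R : Subgroup G} (hRK : R ≤ K) (hR : IsPGroup p R)
    (hns : ¬ IsSylowIn p R K) : ¬ IsSylowIn p R (K ⊓ Subgroup.normalizer (R : Set G)) := by
  intro hs
  obtain ⟨Q, hQ, hRQ⟩ := exists_isSylowIn_ge p hRK hR
  have hlt : R < Q := by
    apply lt_of_le_of_ne hRQ
    intro heq
    apply hns
    rw [heq]; exact hQ
  obtain ⟨n, hnQ, hnN, hnR⟩ :=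
    Cfsg.Agent.Lib.helper17.exists_mem_normalizer_not_mem hQ.isPGroup hlt
  have h1 : Q ⊓ (K ⊓ Subgroup.normalizer (R : Set G)) = R :=
    hs.eq_of_le inf_le_right (hQ.isPGroup.to_le inf_le_left)
      (le_inf hRQ (le_inf hRK Subgroup.le_normalizer))
  apply hnR
  rw [← h1]
  exact Subgroup.mem_inf.mpr ⟨hnQ, Subgroup.mem_inf.mpr ⟨hQ.le hnQ, hnN⟩⟩

theorem wfun_eq : ∀ (n : ℕ) (K : Subgroup G), Nat.card K = n → ∀ (k : ℕ) (R : Subgroup G),
    Nat.card K - Nat.card R = k → R ≤ K → IsPGroup p R →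
    wfun p K R = if IsSylowIn p R K then
      (Nat.card (K ⊓ Subgroup.normalizer (R : Set G) : Subgroup G) : ℤ) else 0 := by
  intro n
  induction n using Nat.strong_induction_on with
  | _ n ihn =>
    intro K hKn k
    induction k using Nat.strong_induction_on with
    | _ k ihk =>
      intro R hk hRK hR
      set N := K ⊓ Subgroup.normalizer (R : Set G) with hN
      by_cases hs : IsSylowIn p R K
      · rw [if_pos hs]
        unfold wfun
        rw [← card_elts, Finset.card_eq_sum_ones]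
        push_cast
        apply Finset.sum_congr rfl
        intro g hg
        rw [mfun_eq]
        have hempty : (Inv p K g).filter (fun R' => R < R') = ∅ := by
          rw [Finset.filter_eq_empty_iff]
          intro R' hR' hlt
          rw [mem_Inv] at hR'
          have := hs.eq_of_le hR'.1 hR'.2.1 hlt.le
          exact hlt.ne' this
        rw [hempty, Finset.sum_empty, sub_zero]
      · rw [if_neg hs]
        have hRN : R ≤ N := le_inf hRK Subgroup.le_normalizer
        have hNn : N ≤ Subgroup.normalizer (R : Set G) := inf_le_right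
        have hnsN : ¬ IsSylowIn p R N := not_isSylowIn_normalizer p hRK hR hs
        have h1 : wfun p K R = (Nat.card N : ℤ) -
            ∑ g ∈ elts N, ∑ D ∈ (Inv p N g).filter (fun D => R < D), mfun p N g D := by
          unfold wfun
          rw [← card_elts, Finset.card_eq_sum_ones]
          push_cast
          rw [← Finset.sum_sub_distrib]
          apply Finset.sum_congr rfl
          intro g hg
          rw [mfun_eq, star_identity p hRK (mem_elts.mp hg)]
        rw [h1, sum_wfun p N (fun D => R < D)]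
        have h2 : ∑ D ∈ (PSub p N).filter (fun D => R < D), wfun p N D =
            ∑ D ∈ (PSub p N).filter (fun D => R < D),
              (if IsSylowIn p D N then
                (Nat.card (N ⊓ Subgroup.normalizer (D : Set G) : Subgroup G) : ℤ) else 0) := by
          apply Finset.sum_congr rfl
          intro D hD
          rw [Finset.mem_filter, mem_PSub] at hD
          obtain ⟨⟨hDN, hDp⟩, hRD⟩ := hD
          have hNK : N ≤ K := inf_le_left
          have hle : Nat.card N ≤ Nat.card K := Subgroup.card_le_of_le hNK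
          rcases Nat.lt_or_ge (Nat.card N) n with hlt | hge
          · exact ihn (Nat.card N) hlt N rfl _ D rfl hDN hDp
          · have hNK' : N = K := by
              apply Subgroup.eq_of_le_of_card_ge hNK
              omega
            have hcard := card_lt_of_lt hRD
            have hDK : Nat.card D ≤ Nat.card K := Subgroup.card_le_of_le (hDN.trans hNK)
            have := ihk (Nat.card K - Nat.card D) (by omega) D rfl (hDN.trans hNK) hDp
            rw [hNK']
            exact this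
        rw [h2, sylow_sum p hRN hNn hR hnsN, sub_self]

theorem card_normalizer_sylow (P Q : Sylow p G) :
    Nat.card (Subgroup.normalizer ((Q : Subgroup G) : Set G)) =
      Nat.card (Subgroup.normalizer ((P : Subgroup G) : Set G)) := by
  have h1 : Nat.card (Sylow p G) = (Subgroup.normalizer ((P : Subgroup G) : Set G)).index :=
    Sylow.card_eq_index_normalizer P
  have h2 : Nat.card (Sylow p G) = (Subgroup.normalizer ((Q : Subgroup G) : Set G)).index :=
    Sylow.card_eq_index_normalizer Q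
  have h3 := Subgroup.card_mul_index (Subgroup.normalizer ((P : Subgroup G) : Set G))
  have h4 := Subgroup.card_mul_index (Subgroup.normalizer ((Q : Subgroup G) : Set G))
  rw [← h1] at h3
  rw [← h2] at h4
  have hpos : 0 < Nat.card (Sylow p G) := Nat.card_pos
  exact Nat.eq_of_mul_eq_mul_right hpos (h4.trans h3.symm)

theorem isSylowIn_top_iff {R : Subgroup G} :
    IsSylowIn p R ⊤ ↔ ∃ Q : Sylow p G, (Q : Subgroup G) = R := by
  constructor
  · intro h
    have hidx : ¬ p ∣ R.index := by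
      have := h.not_dvd
      rwa [Subgroup.relIndex_top_right] at this
    exact ⟨h.isPGroup.toSylow hidx, rfl⟩
  · rintro ⟨Q, rfl⟩
    exact isSylowIn_top_of_sylow Q

theorem casolo (H : Subgroup G) (P : Sylow p G) :
    Nat.card (Sn p H) = Nat.card {Q : Sylow p G // H ≤ (Q : Subgroup G)} *
      Nat.card (Subgroup.normalizer ((P : Subgroup G) : Set G)) := by
  have h1 : Nat.card (Sn p H) = (SnFin p (⊤ : Subgroup G) H).card := by
    rw [Nat.card_coe_set_eq, Set.ncard_eq_toFinset_card (Sn p H) (Set.toFinite _)]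
    congr 1
    ext g
    simp only [Set.Finite.mem_toFinset, mem_SnFin, Subgroup.mem_top, true_and,
      mem_Inv, le_top]
    constructor
    · rintro ⟨R, hR, hHR, hg⟩
      exact ⟨R, ⟨hR, hg⟩, hHR⟩
    · rintro ⟨R, ⟨hR, hg⟩, hHR⟩
      exact ⟨R, hR, hHR, hg⟩
  have h2 := card_Sn_eq_sum p (⊤ : Subgroup G) H
  have h3 : ∑ R ∈ (PSub p ⊤).filter (fun R => H ≤ R), wfun p ⊤ R =
      ∑ R ∈ ((PSub p (⊤ : Subgroup G)).filter (fun R => H ≤ R)).filter (fun R => IsSylowIn p R ⊤),
        (Nat.card (Subgroup.normalizer ((P : Subgroup G) : Set G)) : ℤ) := by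
    conv_rhs => rw [Finset.sum_filter]
    apply Finset.sum_congr rfl
    intro R hR
    rw [Finset.mem_filter, mem_PSub] at hR
    rw [wfun_eq p _ ⊤ rfl _ R rfl hR.1.1 hR.1.2]
    split_ifs with hs
    · obtain ⟨Q, rfl⟩ := (isSylowIn_top_iff p).mp hs
      rw [top_inf_eq, card_normalizer_sylow p P Q]
    · rfl
  rw [h3, Finset.sum_const, nsmul_eq_mul] at h2
  have h4 : (((PSub p (⊤ : Subgroup G)).filter (fun R => H ≤ R)).filter
      (fun R => IsSylowIn p R ⊤)).card = Nat.card {Q : Sylow p G // H ≤ (Q : Subgroup G)} := by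
    rw [← Nat.card_eq_finsetCard]
    apply Nat.card_congr
    refine ⟨fun R => ⟨((isSylowIn_top_iff p).mp (Finset.mem_filter.mp R.2).2).choose, ?_⟩,
      fun Q => ⟨(Q.1 : Subgroup G), ?_⟩, ?_, ?_⟩
    · have h5 := ((isSylowIn_top_iff p).mp (Finset.mem_filter.mp R.2).2).choose_spec
      rw [h5]
      exact (Finset.mem_filter.mp (Finset.mem_filter.mp R.2).1).2
    · rw [Finset.mem_filter, Finset.mem_filter, mem_PSub]
      exact ⟨⟨⟨le_top, Q.1.isPGroup'⟩, Q.2⟩, isSylowIn_top_of_sylow Q.1⟩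
    · intro R
      apply Subtype.ext
      exact ((isSylowIn_top_iff p).mp (Finset.mem_filter.mp R.2).2).choose_spec
    · intro Q
      apply Subtype.ext
      apply Sylow.ext
      exact ((isSylowIn_top_iff p).mp
        (isSylowIn_top_of_sylow Q.1)).choose_spec
  rw [h4] at h2
  rw [h1]
  exact_mod_cast h2

end Cfsg.Agent.Lib.Helper22.Casolo
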