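import Mathlib
import Cfsg.Prelude.Def_Solvable
import Cfsg.Agent.Lib.Helper18.PPrimeCore

set_option autoImplicit false

/-! `O_{q'}` of a subgroup, viewed inside the ambient group: basic specification lemmas. -/

namespace Cfsg.Agent.Lib.Helper22.CoreCtlA

open Cfsg.Agent.Lib.Helper18

variable {G : Type*} [Group G]

/-- image in `G` of `O_{q'}(X)` -/
abbrev oq (q : ℕ) (X : Subgroup G) : Subgroup G := (Cfsg.pPrimeCore q ↥X).map X.subtype

theorem oq_le (q : ℕ) (X : Subgroup G) : oq q X ≤ X := Subgroup.map_subtype_le _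

theorem oq_coprime [Finite G] (q : ℕ) (X : Subgroup G) : (Nat.card (oq q X)).Coprime q := by
  unfold oq
  rw [Subgroup.card_map_of_injective X.subtype_injective]
  exact pPrimeCore_card_coprime_h18 q

theorem le_normalizer_oq (q : ℕ) (X : Subgroup G) :
    X ≤ Subgroup.normalizer ((oq q X : Subgroup G) : Set G) := by
  intro x hx
  have hn : (Cfsg.pPrimeCore q ↥X).Normal := pPrimeCore_normal_h18 q ↥X
  have key : ∀ y : G, y ∈ X → ∀ h : G, h ∈ oq q X → y * h * y⁻¹ ∈ oq q X := by
    intro y hy h hh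
    obtain ⟨h', hh', rfl⟩ := hh
    refine ⟨⟨y, hy⟩ * h' * ⟨y, hy⟩⁻¹, hn.conj_mem h' hh' ⟨y, hy⟩, ?_⟩
    simp
  rw [Subgroup.mem_normalizer_iff]
  intro h
  constructor
  · exact key x hx h
  · intro hh
    have := key x⁻¹ (X.inv_mem hx) _ hh
    simpa [mul_assoc] using this

theorem le_oq (q : ℕ) (X Y : Subgroup G) (hYX : Y ≤ X)
    (hn : X ≤ Subgroup.normalizer ((Y : Subgroup G) : Set G)) (hc : (Nat.card Y).Coprime q) :
    Y ≤ oq q X := by
  have hnorm : (Y.subgroupOf X).Normal := (Subgroup.normal_subgroupOf_iff_le_normalizer hYX).mpr hn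
  have hcard : (Nat.card (Y.subgroupOf X)).Coprime q := by
    have : Nat.card (Y.subgroupOf X) = Nat.card Y :=
      Nat.card_congr (Subgroup.subgroupOfEquivOfLe hYX).toEquiv
    rw [this]; exact hc
  have h1 : Y.subgroupOf X ≤ Cfsg.pPrimeCore q ↥X := le_pPrimeCore_h18 hnorm hcard
  intro y hy
  exact ⟨⟨y, hYX hy⟩, h1 (by simpa [Subgroup.mem_subgroupOf] using hy), rfl⟩

/-- anything normalizing `X` normalizes `O_{q'}(X)` -/
theorem normalizer_le_normalizer_oq [Finite G] (q : ℕ) (X : Subgroup G) :
    Subgroup.normalizer ((X : Subgroup G) : Set G) ≤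
      Subgroup.normalizer ((oq q X : Subgroup G) : Set G) := by
  have key : ∀ g : G, g ∈ Subgroup.normalizer ((X : Subgroup G) : Set G) →
      ∀ h : G, h ∈ oq q X → g * h * g⁻¹ ∈ oq q X := by
    intro g hg h hh
    set Y : Subgroup G := (oq q X).map (MulAut.conj g).toMonoidHom with hY
    have hYX : Y ≤ X := by
      rintro _ ⟨y, hy, rfl⟩
      have := (Subgroup.mem_normalizer_iff.mp hg y).mp (oq_le q X hy)
      simpa [MulAut.conj_apply] using this
    have hYn : X ≤ Subgroup.normalizer ((Y : Subgroup G) : Set G) := by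
      intro x hx
      have hx' : g⁻¹ * x * g ∈ X := by
        have h1 := (Subgroup.mem_normalizer_iff.mp (Subgroup.inv_mem _ hg) x).mp hx
        simpa using h1
      have hxn := le_normalizer_oq q X hx'
      have key2 : ∀ x : G, g⁻¹ * x * g ∈ Subgroup.normalizer ((oq q X : Subgroup G) : Set G) →
          ∀ w : G, w ∈ Y → x * w * x⁻¹ ∈ Y := by
        intro x hxn w hw
        obtain ⟨y, hy, rfl⟩ := hw
        refine ⟨(g⁻¹ * x * g) * y * (g⁻¹ * x * g)⁻¹,
          (Subgroup.mem_normalizer_iff.mp hxn y).mp hy, ?_⟩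
        simp only [MulEquiv.coe_toMonoidHom, MulAut.conj_apply]
        group
      rw [Subgroup.mem_normalizer_iff]
      intro w
      constructor
      · exact key2 x hxn w
      · intro hw
        have hx'' : g⁻¹ * x⁻¹ * g ∈ Subgroup.normalizer ((oq q X : Subgroup G) : Set G) := by
          have : g⁻¹ * x⁻¹ * g = (g⁻¹ * x * g)⁻¹ := by group
          rw [this]
          exact Subgroup.inv_mem _ hxn
        have := key2 x⁻¹ hx'' _ hw
        simpa [mul_assoc] using this
    have hYc : (Nat.card Y).Coprime q := by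
      have : Nat.card Y = Nat.card (oq q X) := by
        rw [hY]
        exact Subgroup.card_map_of_injective (MulAut.conj g).injective
      rw [this]
      exact oq_coprime q X
    have h2 := le_oq q X Y hYX hYn hYc
    apply h2
    exact ⟨h, hh, by simp [MulAut.conj_apply]⟩
  intro g hg
  rw [Subgroup.mem_normalizer_iff]
  intro h
  constructor
  · exact key g hg h
  · intro hh
    have := key g⁻¹ (Subgroup.inv_mem _ hg) _ hh
    simpa [mul_assoc] using this

end Cfsg.Agent.Lib.Helper22.CoreCtlA
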