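import Mathlib
import Cfsg.Prelude.Def_Solvable
import Cfsg.Agent.Lib.Helper18.PPrimeCore
import Cfsg.Agent.Lib.Helper18.PCore
import Cfsg.Agent.Lib.Helper1.CFitting
import Cfsg.Agent.Lib.Lead.Coprime
import Cfsg.Agent.S0028
import Cfsg.Agent.Lib.Helper22.CoreCtlA

set_option autoImplicit false
set_option linter.unusedSectionVars false
set_option linter.style.haveILetI false
set_option linter.unusedVariables false

/-! The `O_{q'}(H) = 1` case of the centralizer core control lemma. -/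

namespace Cfsg.Agent.Lib.Helper22.CoreCtlB

open Cfsg.Agent.Lib.Helper22.CoreCtlA
open scoped commutatorElement

variable {G : Type*} [Group G] [Finite G]

/-- image in `G` of `O_q(X)` -/
abbrev pc (q : ℕ) (X : Subgroup G) : Subgroup G := (Cfsg.pCore q ↥X).map X.subtype

theorem pc_le (q : ℕ) (X : Subgroup G) : pc q X ≤ X := Subgroup.map_subtype_le _

theorem pc_isPGroup (q : ℕ) (X : Subgroup G) : IsPGroup q (pc q X) :=
  (Cfsg.Agent.Lib.Helper18.pCore_isPGroup q ↥X).map _

theorem normalizer_le_normalizer_pc (q : ℕ) (X : Subgroup G) :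
    Subgroup.normalizer ((X : Subgroup G) : Set G) ≤
      Subgroup.normalizer ((pc q X : Subgroup G) : Set G) := by
  haveI := Cfsg.Agent.Lib.Helper18.pCore_characteristic q ↥X
  exact Cfsg.Agent.Lib.Lead.le_normalizer_map_characteristic X _ le_rfl (Cfsg.pCore q ↥X)

/-- self-centralizing property of `O_q(X)` in a solvable `X` with `O_{q'}(X) = 1` -/
theorem inf_centralizer_pc_le (q : ℕ) [Fact q.Prime] (X : Subgroup G) (hsol : Group.IsSolvable ↥X)
    (htriv : oq q X = ⊥) :
    X ⊓ Subgroup.centralizer ((pc q X : Subgroup G) : Set G) ≤ pc q X := by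
  have h0 : Cfsg.pPrimeCore q ↥X = ⊥ := by
    rw [eq_bot_iff]
    intro y hy
    have h1 : (y : G) ∈ oq q X := ⟨y, hy, rfl⟩
    rw [htriv, Subgroup.mem_bot] at h1
    rw [Subgroup.mem_bot]
    exact Subtype.ext h1
  have h1 := Cfsg.Agent.Lib.Helper1.centralizer_pCore_le (G := ↥X) q h0
  intro x hx
  obtain ⟨hxX, hxc⟩ := Subgroup.mem_inf.mp hx
  refine ⟨⟨x, hxX⟩, h1 ?_, rfl⟩
  rw [Subgroup.mem_centralizer_iff]
  intro u hu
  apply Subtype.ext
  have h2 : (u : G) ∈ pc q X := ⟨u, hu, rfl⟩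
  exact (Subgroup.mem_centralizer_iff.mp hxc) _ h2


/-- a `q'`-subgroup of `C_H(z)` normalized by `C_H(z)` centralizes every `q`-subgroup `U`
normalized by `H` -/
theorem claimA (q : ℕ) [Fact q.Prime] (H : Subgroup G) (z : G) (hzH : z ∈ H)
    (hz : ∃ k : ℕ, orderOf z = q ^ k)
    (U : Subgroup G) (hU : IsPGroup q U) (hUH : U ≤ H)
    (hHU : H ≤ Subgroup.normalizer ((U : Subgroup G) : Set G))
    (X : Subgroup G) (hX1 : X ≤ H ⊓ Subgroup.centralizer ({z} : Set G))
    (hX2 : (Nat.card X).Coprime q)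
    (hX3 : H ⊓ Subgroup.centralizer ({z} : Set G) ≤ Subgroup.normalizer ((X : Subgroup G) : Set G)) :
    X ≤ Subgroup.centralizer ((U : Subgroup G) : Set G) := by
  have hq : q.Prime := Fact.out
  obtain ⟨k, hk⟩ := hz
  have hZp : IsPGroup q (Subgroup.zpowers z) := by
    rw [IsPGroup.iff_card]
    exact ⟨k, by rw [Nat.card_zpowers, hk]⟩
  have hXH : X ≤ H := fun x hx => (Subgroup.mem_inf.mp (hX1 hx)).1
  have hXz : ∀ x ∈ X, x * z = z * x := fun x hx =>
    Subgroup.mem_centralizer_singleton_iff.mp (Subgroup.mem_inf.mp (hX1 hx)).2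
  apply Cfsg.Agent.S0028.result q (Subgroup.zpowers z) X U hZp hX2 hU
  · -- zpowers z ≤ centralizer X
    rw [Subgroup.zpowers_le]
    rw [Subgroup.mem_centralizer_iff]
    intro x hx
    exact hXz x hx
  · rw [Subgroup.zpowers_le]
    exact hHU hzH
  · exact hXH.trans hHU
  · intro u hu
    obtain ⟨huU, huc⟩ := Subgroup.mem_inf.mp hu
    have huz : u * z = z * u := by
      have := (Subgroup.mem_centralizer_iff.mp huc) z (Subgroup.mem_zpowers z)
      exact this.symm
    have huN : u ∈ Subgroup.normalizer ((X : Subgroup G) : Set G) := by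
      apply hX3
      exact Subgroup.mem_inf.mpr ⟨hUH huU, Subgroup.mem_centralizer_singleton_iff.mpr huz⟩
    rw [Subgroup.mem_centralizer_iff]
    intro x hx
    -- the commutator lies in U ⊓ X = ⊥
    have h1 : u * x * u⁻¹ * x⁻¹ ∈ X :=
      X.mul_mem ((Subgroup.mem_normalizer_iff.mp huN x).mp hx) (X.inv_mem hx)
    have hxN : x ∈ Subgroup.normalizer ((U : Subgroup G) : Set G) := hHU (hXH hx)
    have h2 : u * x * u⁻¹ * x⁻¹ ∈ U := by
      have h3 : x * u⁻¹ * x⁻¹ ∈ U := (Subgroup.mem_normalizer_iff.mp hxN u⁻¹).mp (U.inv_mem huU)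
      have : u * x * u⁻¹ * x⁻¹ = u * (x * u⁻¹ * x⁻¹) := by group
      rw [this]
      exact U.mul_mem huU h3
    have h4 : u * x * u⁻¹ * x⁻¹ = 1 :=
      Cfsg.Agent.Lib.Helper18.eq_one_of_mem_pGroup_of_mem_coprime hU hX2 h2 h1
    have : u * x = x * u := by
      have h5 : u * x * u⁻¹ * x⁻¹ * (x * u) = x * u := by rw [h4, one_mul]
      rw [← h5]; group
    exact this.symm


theorem mem_normalizer_centralizer {U : Subgroup G} {g : G}
    (hg : g ∈ Subgroup.normalizer ((U : Subgroup G) : Set G)) :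
    g ∈ Subgroup.normalizer ((Subgroup.centralizer ((U : Subgroup G) : Set G) : Subgroup G) : Set G) := by
  have key : ∀ g : G, g ∈ Subgroup.normalizer ((U : Subgroup G) : Set G) →
      ∀ c ∈ Subgroup.centralizer ((U : Subgroup G) : Set G),
        g * c * g⁻¹ ∈ Subgroup.centralizer ((U : Subgroup G) : Set G) := by
    intro g hg c hc
    rw [Subgroup.mem_centralizer_iff] at hc ⊢
    intro u hu
    have hu' : g⁻¹ * u * g ∈ U := (Subgroup.mem_normalizer_iff''.mp hg u).mp hu
    have h1 := hc _ hu'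
    calc u * (g * c * g⁻¹) = g * ((g⁻¹ * u * g) * c) * g⁻¹ := by group
      _ = g * (c * (g⁻¹ * u * g)) * g⁻¹ := by rw [h1]
      _ = g * c * g⁻¹ * u := by group
  rw [Subgroup.mem_normalizer_iff]
  intro c
  constructor
  · exact key g hg c
  · intro hc
    have := key g⁻¹ (Subgroup.inv_mem _ hg) _ hc
    simpa [mul_assoc] using this

theorem le_normalizer_inf_of_le {A X Y : Subgroup G}
    (hX : A ≤ Subgroup.normalizer ((X : Subgroup G) : Set G))
    (hY : A ≤ Subgroup.normalizer ((Y : Subgroup G) : Set G)) :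
    A ≤ Subgroup.normalizer ((X ⊓ Y : Subgroup G) : Set G) := by
  rw [Subgroup.le_normalizer_iff]
  intro a ha k hk
  obtain ⟨hkX, hkY⟩ := Subgroup.mem_inf.mp hk
  exact Subgroup.mem_inf.mpr ⟨(Subgroup.le_normalizer_iff.mp hX) a ha k hkX,
    (Subgroup.le_normalizer_iff.mp hY) a ha k hkY⟩

theorem L0 (p q : ℕ) [Fact p.Prime] [Fact q.Prime]
    (H P : Subgroup G) [hHn : H.Normal] (hP : IsPGroup p P) (hHp : (Nat.card H).Coprime p)
    (hsol : Group.IsSolvable ↥⁅H, P⁆)
    (z : G) (hzH : z ∈ H) (hz : ∃ k : ℕ, orderOf z = q ^ k)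
    (htriv : ∀ Y : Subgroup G, Y ≤ H → H ≤ Subgroup.normalizer ((Y : Subgroup G) : Set G) →
      (Nat.card Y).Coprime q → Y = ⊥)
    (D D' : Subgroup G)
    (hD1 : D ≤ H ⊓ Subgroup.centralizer ({z} : Set G)) (hD2 : (Nat.card D).Coprime q)
    (hD3 : H ⊓ Subgroup.centralizer ({z} : Set G) ≤ Subgroup.normalizer ((D : Subgroup G) : Set G))
    (hD'1 : D' ≤ H ⊓ Subgroup.centralizer (P : Set G)) (hD'2 : (Nat.card D').Coprime q)
    (hD'3 : H ⊓ Subgroup.centralizer (P : Set G) ≤ Subgroup.normalizer ((D' : Subgroup G) : Set G)) :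
    D ⊓ D' = ⊥ ∧ (P ≤ Subgroup.normalizer ((D : Subgroup G) : Set G) → ⁅D, P⁆ = ⊥) := by
  have hpp : p.Prime := Fact.out
  obtain ⟨S, hS⟩ : ∃ S : Subgroup G, S = ⁅H, P⁆ := ⟨_, rfl⟩
  have hsolS : Group.IsSolvable ↥S := by rw [hS]; exact hsol
  have hSH : S ≤ H := by rw [hS]; exact Subgroup.commutator_le_left H P
  have hHS : H ≤ Subgroup.normalizer ((S : Subgroup G) : Set G) := by
    rw [hS]; exact Cfsg.Agent.Lib.Lead.left_le_normalizer_commutator H P
  have hPH : P ≤ Subgroup.normalizer ((H : Subgroup G) : Set G) := by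
    rw [Subgroup.normalizer_eq_top_iff.mpr hHn]; exact le_top
  have hPS : P ≤ Subgroup.normalizer ((S : Subgroup G) : Set G) := by
    rw [hS]; exact Cfsg.Agent.Lib.Lead.right_le_normalizer_commutator H P hPH
  have hoq : oq q S = ⊥ :=
    htriv _ ((oq_le q S).trans hSH) (hHS.trans (normalizer_le_normalizer_oq q S)) (oq_coprime q S)
  obtain ⟨U, hUdef⟩ : ∃ U : Subgroup G, U = pc q S := ⟨_, rfl⟩
  have hUS : U ≤ S := by rw [hUdef]; exact pc_le q S
  have hUp : IsPGroup q U := by rw [hUdef]; exact pc_isPGroup q S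
  have hHU : H ≤ Subgroup.normalizer ((U : Subgroup G) : Set G) := by
    rw [hUdef]; exact hHS.trans (normalizer_le_normalizer_pc q S)
  have hPU : P ≤ Subgroup.normalizer ((U : Subgroup G) : Set G) := by
    rw [hUdef]; exact hPS.trans (normalizer_le_normalizer_pc q S)
  have hself : S ⊓ Subgroup.centralizer ((U : Subgroup G) : Set G) ≤ U := by
    rw [hUdef]; exact inf_centralizer_pc_le q S hsolS hoq
  have hUH : U ≤ H := hUS.trans hSH
  have hDU : D ≤ Subgroup.centralizer ((U : Subgroup G) : Set G) :=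
    claimA q H z hzH hz U hUp hUH hHU D hD1 hD2 hD3
  have hDH : D ≤ H := fun x hx => (Subgroup.mem_inf.mp (hD1 hx)).1
  constructor
  · -- Claim 1
    obtain ⟨C, hC⟩ : ∃ C : Subgroup G, C = H ⊓ Subgroup.centralizer ((U : Subgroup G) : Set G) :=
      ⟨_, rfl⟩
    have hCH : C ≤ H := by rw [hC]; exact inf_le_left
    have hCU : C ≤ Subgroup.centralizer ((U : Subgroup G) : Set G) := by rw [hC]; exact inf_le_right
    have hHH : H ≤ Subgroup.normalizer ((H : Subgroup G) : Set G) := Subgroup.le_normalizer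
    have hHC : H ≤ Subgroup.normalizer ((C : Subgroup G) : Set G) := by
      rw [hC]
      exact le_normalizer_inf_of_le hHH (fun h hh => mem_normalizer_centralizer (hHU hh))
    have hPC : P ≤ Subgroup.normalizer ((C : Subgroup G) : Set G) := by
      rw [hC]
      exact le_normalizer_inf_of_le hPH (fun h hh => mem_normalizer_centralizer (hPU hh))
    obtain ⟨Z, hZ⟩ : ∃ Z : Subgroup G, Z = U ⊓ Subgroup.centralizer ((U : Subgroup G) : Set G) :=
      ⟨_, rfl⟩
    have hZU : Z ≤ U := by rw [hZ]; exact inf_le_left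
    have hZC : Z ≤ C := by
      rw [hZ, hC]
      exact inf_le_inf_right _ hUH
    have hCPZ : ⁅C, P⁆ ≤ Z := by
      have h1 : ⁅C, P⁆ ≤ C := Subgroup.le_normalizer_iff_commutator_le_left.mp hPC
      have h2 : ⁅C, P⁆ ≤ S := by rw [hS]; exact Subgroup.commutator_mono hCH le_rfl
      intro x hx
      have hxc : x ∈ Subgroup.centralizer ((U : Subgroup G) : Set G) := hCU (h1 hx)
      rw [hZ]
      exact Subgroup.mem_inf.mpr ⟨hself (Subgroup.mem_inf.mpr ⟨h2 hx, hxc⟩), hxc⟩
    have hZcomm : ∀ c ∈ C, ∀ d ∈ Z, d * c = c * d := by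
      intro c hc d hd
      exact (Subgroup.mem_centralizer_iff.mp (hCU hc)) d (hZU hd)
    have hPZ : P ≤ Subgroup.normalizer ((Z : Subgroup G) : Set G) := by
      rw [hZ]
      exact le_normalizer_inf_of_le hPU (fun h hh => mem_normalizer_centralizer (hPU hh))
    have hcopPZ : (Nat.card P).Coprime (Nat.card Z) := by
      obtain ⟨n, hn⟩ := IsPGroup.iff_card.mp hP
      rw [hn]
      apply Nat.Coprime.pow_left
      exact (Nat.Coprime.coprime_dvd_left (Subgroup.card_dvd_of_le (hZC.trans hCH)) hHp).symm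
    have hPsolv : Group.IsSolvable ↥P := by
      have : Group.IsNilpotent ↥P := hP.isNilpotent
      infer_instance
    have hdec : ∀ c ∈ C, ∃ d ∈ Z, c * d ∈ C ⊓ Subgroup.centralizer ((P : Subgroup G) : Set G) := by
      intro c hc
      obtain ⟨d, hd, hcd⟩ := Cfsg.Agent.Lib.Lead.coset_fixed P Z hPZ hcopPZ (Or.inl hPsolv) c (by
        intro a ha
        apply hCPZ
        have : c⁻¹ * (a * c * a⁻¹) = ⁅c⁻¹, a⁆ := by
          rw [commutatorElement_def]; group
        rw [this]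
        exact Subgroup.commutator_mem_commutator (C.inv_mem hc) ha)
      exact ⟨d, hd, Subgroup.mem_inf.mpr ⟨C.mul_mem hc (hZC hd), hcd⟩⟩
    obtain ⟨W, hW⟩ : ∃ W : Subgroup G, W = D' ⊓ C := ⟨_, rfl⟩
    have hCW : C ≤ Subgroup.normalizer ((W : Subgroup G) : Set G) := by
      rw [Subgroup.le_normalizer_iff]
      intro c hc w hw
      obtain ⟨d, hd, hcd⟩ := hdec c hc
      obtain ⟨hcdC, hcdP⟩ := Subgroup.mem_inf.mp hcd
      rw [hW] at hw ⊢
      obtain ⟨hwD, hwC⟩ := Subgroup.mem_inf.mp hw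
      have hdw : d * w = w * d := hZcomm w hwC d hd
      have e : c * w * c⁻¹ = (c * d) * w * (c * d)⁻¹ := by
        have : (c * d) * w * (c * d)⁻¹ = c * (d * w) * d⁻¹ * c⁻¹ := by group
        rw [this, hdw]; group
      rw [e]
      have hn : c * d ∈ Subgroup.normalizer ((D' : Subgroup G) : Set G) :=
        hD'3 (Subgroup.mem_inf.mpr ⟨hCH hcdC, hcdP⟩)
      refine Subgroup.mem_inf.mpr ⟨(Subgroup.mem_normalizer_iff.mp hn w).mp hwD, ?_⟩
      exact C.mul_mem (C.mul_mem hcdC hwC) (C.inv_mem hcdC)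
    have hY : oq q C = ⊥ :=
      htriv _ ((oq_le q C).trans hCH) (hHC.trans (normalizer_le_normalizer_oq q C)) (oq_coprime q C)
    have hWle : W ≤ oq q C := by
      apply le_oq q C W (by rw [hW]; exact inf_le_right) hCW
      exact Nat.Coprime.coprime_dvd_left
        (Subgroup.card_dvd_of_le (by rw [hW]; exact inf_le_left)) hD'2
    rw [eq_bot_iff]
    intro x hx
    obtain ⟨hxD, hxD'⟩ := Subgroup.mem_inf.mp hx
    have hxW : x ∈ W := by
      rw [hW, hC]
      exact Subgroup.mem_inf.mpr ⟨hxD', Subgroup.mem_inf.mpr ⟨hDH hxD, hDU hxD⟩⟩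
    have := hWle hxW
    rwa [hY] at this
  · -- Claim 2
    intro hPD
    have h1 : ⁅D, P⁆ ≤ D := Subgroup.le_normalizer_iff_commutator_le_left.mp hPD
    have h2 : ⁅D, P⁆ ≤ S := by rw [hS]; exact Subgroup.commutator_mono hDH le_rfl
    rw [eq_bot_iff]
    intro x hx
    have hxU : x ∈ U := hself (Subgroup.mem_inf.mpr ⟨h2 hx, hDU (h1 hx)⟩)
    rw [Subgroup.mem_bot]
    exact Cfsg.Agent.Lib.Helper18.eq_one_of_mem_pGroup_of_mem_coprime hUp hD2 hxU (h1 hx)

end Cfsg.Agent.Lib.Helper22.CoreCtlB
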