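import Mathlib
import Cfsg.Prelude.Def_Solvable
import Cfsg.Agent.Lib.Helper22.CoreCtlB

set_option autoImplicit false
set_option linter.unusedSectionVars false
set_option linter.style.haveILetI false
set_option linter.unusedVariables false

/-! Centralizer core control: the general case, by passing to `G / O_{q'}(H)`. -/

namespace Cfsg.Agent.Lib.Helper22.CoreCtlC

open Cfsg.Agent.Lib.Helper22.CoreCtlA Cfsg.Agent.Lib.Helper22.CoreCtlB
open scoped commutatorElement

variable {G : Type*} [Group G] [Finite G]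

/-- lifting elements of `H̄` centralizing `Ā` to elements of `H` centralizing `A` (coprime) -/
theorem lift_centralizer (A N : Subgroup G) [hN : N.Normal]
    (hcop : (Nat.card A).Coprime (Nat.card N)) (hsolv : Group.IsSolvable ↥A ∨ Group.IsSolvable ↥N)
    (H : Subgroup G) (hNH : N ≤ H) (y' : G ⧸ N)
    (hy1 : y' ∈ H.map (QuotientGroup.mk' N))
    (hy2 : ∀ a ∈ A, (QuotientGroup.mk' N a) * y' = y' * (QuotientGroup.mk' N a)) :
    ∃ y ∈ H ⊓ Subgroup.centralizer ((A : Subgroup G) : Set G), QuotientGroup.mk' N y = y' := by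
  obtain ⟨h, hh, rfl⟩ := hy1
  have hAN : A ≤ Subgroup.normalizer ((N : Subgroup G) : Set G) := by
    rw [Subgroup.normalizer_eq_top_iff.mpr hN]; exact le_top
  obtain ⟨d, hd, hcd⟩ := Cfsg.Agent.Lib.Lead.coset_fixed A N hAN hcop hsolv h (by
    intro a ha
    rw [← QuotientGroup.ker_mk' N, MonoidHom.mem_ker]
    have h1 := hy2 a ha
    rw [map_mul, map_mul, map_mul, map_inv, map_inv, h1]
    group)
  refine ⟨h * d, Subgroup.mem_inf.mpr ⟨H.mul_mem hh (hNH hd), hcd⟩, ?_⟩
  rw [map_mul]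
  have : QuotientGroup.mk' N d = 1 := by
    rw [← MonoidHom.mem_ker, QuotientGroup.ker_mk']; exact hd
  rw [this, mul_one]

theorem main (p q : ℕ) [Fact p.Prime] [Fact q.Prime]
    (H P : Subgroup G) [hHn : H.Normal] (hP : IsPGroup p P) (hHp : (Nat.card H).Coprime p)
    (hsol : Group.IsSolvable ↥⁅H, P⁆)
    (z : G) (hzH : z ∈ H) (hzP : z ∈ Subgroup.centralizer ((P : Subgroup G) : Set G))
    (hz : ∃ k : ℕ, orderOf z = q ^ k) :
    (oq q (H ⊓ Subgroup.centralizer ({z} : Set G)) ⊓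
        oq q (H ⊓ Subgroup.centralizer ((P : Subgroup G) : Set G))) ⊔
      ⁅oq q (H ⊓ Subgroup.centralizer ({z} : Set G)), P⁆ ≤ oq q H := by
  have hpp : p.Prime := Fact.out
  have hqp : q.Prime := Fact.out
  obtain ⟨N, hNdef⟩ : ∃ N : Subgroup G, N = oq q H := ⟨_, rfl⟩
  have hNH : N ≤ H := by rw [hNdef]; exact oq_le q H
  have hNq : (Nat.card N).Coprime q := by rw [hNdef]; exact oq_coprime q H
  have hNp : (Nat.card N).Coprime p :=
    Nat.Coprime.coprime_dvd_left (Subgroup.card_dvd_of_le hNH) hHp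
  haveI hNn : N.Normal := by
    rw [← Subgroup.normalizer_eq_top_iff, hNdef]
    have := normalizer_le_normalizer_oq q H
    rw [Subgroup.normalizer_eq_top_iff.mpr hHn] at this
    exact top_le_iff.mp this
  obtain ⟨D, hDdef⟩ : ∃ D : Subgroup G, D = oq q (H ⊓ Subgroup.centralizer ({z} : Set G)) :=
    ⟨_, rfl⟩
  obtain ⟨D', hD'def⟩ :
      ∃ D' : Subgroup G, D' = oq q (H ⊓ Subgroup.centralizer ((P : Subgroup G) : Set G)) :=
    ⟨_, rfl⟩
  rw [← hNdef, ← hDdef, ← hD'def]
  have hD1 : D ≤ H ⊓ Subgroup.centralizer ({z} : Set G) := by rw [hDdef]; exact oq_le q _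
  have hD2 : (Nat.card D).Coprime q := by rw [hDdef]; exact oq_coprime q _
  have hD3 : H ⊓ Subgroup.centralizer ({z} : Set G) ≤
      Subgroup.normalizer ((D : Subgroup G) : Set G) := by
    rw [hDdef]; exact le_normalizer_oq q _
  have hD'1 : D' ≤ H ⊓ Subgroup.centralizer ((P : Subgroup G) : Set G) := by
    rw [hD'def]; exact oq_le q _
  have hD'2 : (Nat.card D').Coprime q := by rw [hD'def]; exact oq_coprime q _
  have hD'3 : H ⊓ Subgroup.centralizer ((P : Subgroup G) : Set G) ≤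
      Subgroup.normalizer ((D' : Subgroup G) : Set G) := by
    rw [hD'def]; exact le_normalizer_oq q _
  have hPz : ∀ a ∈ P, a * z = z * a := fun a ha => (Subgroup.mem_centralizer_iff.mp hzP a ha)
  have hPD : P ≤ Subgroup.normalizer ((D : Subgroup G) : Set G) := by
    rw [hDdef]
    refine le_trans ?_ (normalizer_le_normalizer_oq q _)
    rw [Subgroup.le_normalizer_iff]
    intro a ha c hc
    obtain ⟨hcH, hcz⟩ := Subgroup.mem_inf.mp hc
    refine Subgroup.mem_inf.mpr ⟨hHn.conj_mem c hcH a, ?_⟩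
    rw [Subgroup.mem_centralizer_singleton_iff] at hcz ⊢
    have haz := hPz a ha
    have haz' : a⁻¹ * z = z * a⁻¹ := by
      calc a⁻¹ * z = a⁻¹ * (z * a) * a⁻¹ := by group
        _ = a⁻¹ * (a * z) * a⁻¹ := by rw [haz]
        _ = z * a⁻¹ := by group
    calc a * c * a⁻¹ * z = a * c * (a⁻¹ * z) := by group
      _ = a * c * (z * a⁻¹) := by rw [haz']
      _ = a * (c * z) * a⁻¹ := by group
      _ = a * (z * c) * a⁻¹ := by rw [hcz]
      _ = (a * z) * c * a⁻¹ := by group
      _ = (z * a) * c * a⁻¹ := by rw [haz]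
      _ = z * (a * c * a⁻¹) := by group
  -- the quotient
  obtain ⟨π, hπ⟩ : ∃ π : G →* G ⧸ N, π = QuotientGroup.mk' N := ⟨_, rfl⟩
  have hπs : Function.Surjective π := by rw [hπ]; exact QuotientGroup.mk'_surjective N
  have hker : ∀ x : G, π x = 1 → x ∈ N := by
    intro x hx
    rw [hπ] at hx
    rwa [← QuotientGroup.ker_mk' N, MonoidHom.mem_ker]
  haveI hHbn : (H.map π).Normal := hHn.map π hπs
  have hPb : IsPGroup p (P.map π) := hP.map π
  have hHbp : (Nat.card (H.map π)).Coprime p :=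
    Nat.Coprime.coprime_dvd_left (Subgroup.card_map_dvd H π) hHp
  have hsolb : Group.IsSolvable ↥⁅H.map π, P.map π⁆ := by
    rw [← Subgroup.map_commutator]
    exact Group.isSolvable_of_surjective (π.subgroupMap_surjective ⁅H, P⁆)
  have hzb : π z ∈ H.map π := Subgroup.mem_map_of_mem π hzH
  have hzbo : ∃ k : ℕ, orderOf (π z) = q ^ k := by
    obtain ⟨k, hk⟩ := hz
    have h1 : orderOf (π z) ∣ q ^ k := hk ▸ orderOf_map_dvd π z
    obtain ⟨j, -, hj⟩ := (Nat.dvd_prime_pow hqp).mp h1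
    exact ⟨j, hj⟩
  have htriv : ∀ Y : Subgroup (G ⧸ N), Y ≤ H.map π →
      H.map π ≤ Subgroup.normalizer ((Y : Subgroup (G ⧸ N)) : Set (G ⧸ N)) →
      (Nat.card Y).Coprime q → Y = ⊥ := by
    intro Y hY1 hY2 hY3
    have hYH : Y.comap π ≤ H := by
      intro y hy
      rw [Subgroup.mem_comap] at hy
      obtain ⟨h, hh, hhy⟩ := hY1 hy
      have h1 : h⁻¹ * y ∈ N := by
        apply hker
        rw [map_mul, map_inv, hhy]; group
      have : y = h * (h⁻¹ * y) := by group
      rw [this]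
      exact H.mul_mem hh (hNH h1)
    have hYn : H ≤ Subgroup.normalizer ((Y.comap π : Subgroup G) : Set G) := by
      rw [Subgroup.le_normalizer_iff]
      intro h hh y hy
      rw [Subgroup.mem_comap] at hy ⊢
      rw [map_mul, map_mul, map_inv]
      exact (Subgroup.le_normalizer_iff.mp hY2) _ (Subgroup.mem_map_of_mem π hh) _ hy
    have hYc : (Nat.card (Y.comap π)).Coprime q := by
      have h1 : Nat.card (Y.comap π) = Nat.card N * Nat.card Y := by
        have := QuotientGroup.card_preimage_mk N (Y : Set (G ⧸ N))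
        rw [hπ]
        exact this
      rw [h1]
      exact Nat.Coprime.mul_left hNq hY3
    have h2 : Y.comap π ≤ N :=
      le_of_le_of_eq (le_oq q H _ hYH hYn hYc) hNdef.symm
    rw [eq_bot_iff]
    intro y hy
    obtain ⟨x, rfl⟩ := hπs y
    have hx : x ∈ N := h2 (Subgroup.mem_comap.mpr hy)
    rw [Subgroup.mem_bot, hπ]
    exact (QuotientGroup.eq_one_iff x).mpr hx
  -- properties of the images of D, D'
  have hDb1 : D.map π ≤ H.map π ⊓ Subgroup.centralizer ({π z} : Set (G ⧸ N)) := by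
    rintro _ ⟨d, hd, rfl⟩
    obtain ⟨hdH, hdz⟩ := Subgroup.mem_inf.mp (hD1 hd)
    refine Subgroup.mem_inf.mpr ⟨Subgroup.mem_map_of_mem π hdH, ?_⟩
    rw [Subgroup.mem_centralizer_singleton_iff] at hdz ⊢
    rw [← map_mul, ← map_mul, hdz]
  have hDb2 : (Nat.card (D.map π)).Coprime q :=
    Nat.Coprime.coprime_dvd_left (Subgroup.card_map_dvd D π) hD2
  have hZsolv : Group.IsSolvable ↥(Subgroup.zpowers z) := inferInstance
  have hZcop : (Nat.card (Subgroup.zpowers z)).Coprime (Nat.card N) := by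
    obtain ⟨k, hk⟩ := hz
    rw [Nat.card_zpowers, hk]
    exact Nat.Coprime.pow_left k hNq.symm
  have hDb3 : H.map π ⊓ Subgroup.centralizer ({π z} : Set (G ⧸ N)) ≤
      Subgroup.normalizer ((D.map π : Subgroup (G ⧸ N)) : Set (G ⧸ N)) := by
    intro y' hy'
    obtain ⟨hy1, hy2⟩ := Subgroup.mem_inf.mp hy'
    rw [Subgroup.mem_centralizer_singleton_iff] at hy2
    obtain ⟨y, hy, rfl⟩ := lift_centralizer (Subgroup.zpowers z) N hZcop (Or.inl hZsolv) H hNH y'
      (by rw [← hπ]; exact hy1) (by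
        intro a ha
        rw [← hπ]
        obtain ⟨n, rfl⟩ := Subgroup.mem_zpowers_iff.mp ha
        rw [map_zpow]
        have hc : Commute y' (π z) := hy2
        exact (hc.zpow_right n).eq.symm)
    rw [← hπ]
    apply Subgroup.le_normalizer_map π
    apply Subgroup.mem_map_of_mem π
    apply hD3
    obtain ⟨hyH, hyc⟩ := Subgroup.mem_inf.mp hy
    refine Subgroup.mem_inf.mpr ⟨hyH, ?_⟩
    rw [Subgroup.mem_centralizer_singleton_iff]
    exact ((Subgroup.mem_centralizer_iff.mp hyc) z (Subgroup.mem_zpowers z)).symm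
  have hD'b1 : D'.map π ≤ H.map π ⊓
      Subgroup.centralizer ((P.map π : Subgroup (G ⧸ N)) : Set (G ⧸ N)) := by
    rintro _ ⟨d, hd, rfl⟩
    obtain ⟨hdH, hdP⟩ := Subgroup.mem_inf.mp (hD'1 hd)
    refine Subgroup.mem_inf.mpr ⟨Subgroup.mem_map_of_mem π hdH, ?_⟩
    rw [Subgroup.mem_centralizer_iff]
    rintro _ ⟨a, ha, rfl⟩
    rw [← map_mul, ← map_mul, (Subgroup.mem_centralizer_iff.mp hdP) a ha]
  have hD'b2 : (Nat.card (D'.map π)).Coprime q :=
    Nat.Coprime.coprime_dvd_left (Subgroup.card_map_dvd D' π) hD'2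
  have hPsolv : Group.IsSolvable ↥P := by
    have : Group.IsNilpotent ↥P := hP.isNilpotent
    infer_instance
  have hPcop : (Nat.card P).Coprime (Nat.card N) := by
    obtain ⟨n, hn⟩ := IsPGroup.iff_card.mp hP
    rw [hn]
    exact Nat.Coprime.pow_left n hNp.symm
  have hD'b3 : H.map π ⊓ Subgroup.centralizer ((P.map π : Subgroup (G ⧸ N)) : Set (G ⧸ N)) ≤
      Subgroup.normalizer ((D'.map π : Subgroup (G ⧸ N)) : Set (G ⧸ N)) := by
    intro y' hy'
    obtain ⟨hy1, hy2⟩ := Subgroup.mem_inf.mp hy'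
    obtain ⟨y, hy, rfl⟩ := lift_centralizer P N hPcop (Or.inl hPsolv) H hNH y'
      (by rw [← hπ]; exact hy1) (by
        intro a ha
        rw [← hπ]
        exact (Subgroup.mem_centralizer_iff.mp hy2) _ (Subgroup.mem_map_of_mem π ha))
    rw [← hπ]
    apply Subgroup.le_normalizer_map π
    apply Subgroup.mem_map_of_mem π
    exact hD'3 hy
  have hPDb : P.map π ≤ Subgroup.normalizer ((D.map π : Subgroup (G ⧸ N)) : Set (G ⧸ N)) := by
    refine le_trans ?_ (Subgroup.le_normalizer_map π)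
    exact Subgroup.map_mono hPD
  obtain ⟨h1, h2⟩ := L0 p q (H.map π) (P.map π) hPb hHbp hsolb (π z) hzb hzbo htriv
    (D.map π) (D'.map π) hDb1 hDb2 hDb3 hD'b1 hD'b2 hD'b3
  have h2' := h2 hPDb
  apply sup_le
  · intro x hx
    apply hker
    have hx' : π x ∈ D.map π ⊓ D'.map π := by
      obtain ⟨hxD, hxD'⟩ := Subgroup.mem_inf.mp hx
      exact Subgroup.mem_inf.mpr ⟨Subgroup.mem_map_of_mem π hxD, Subgroup.mem_map_of_mem π hxD'⟩
    rw [h1, Subgroup.mem_bot] at hx'
    exact hx'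
  · intro x hx
    apply hker
    have hx' : π x ∈ (⁅D, P⁆).map π := Subgroup.mem_map_of_mem π hx
    rw [Subgroup.map_commutator, h2', Subgroup.mem_bot] at hx'
    exact hx'

end Cfsg.Agent.Lib.Helper22.CoreCtlC
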