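import Mathlib

set_option autoImplicit false

namespace Cfsg.Agent.Lib.Helper22

theorem card_ne_one_add_one {K : Type*} [Group K] [Finite K] (A : Subgroup K) :
    Nat.card {a : A // a ≠ 1} + 1 = Nat.card A := by
  have h1 : Nat.card {a : A // a ≠ 1} = Set.ncard ({a : A | a ≠ 1} : Set A) :=
    Nat.card_coe_set_eq _
  have h2 : ({a : A | a ≠ 1} : Set A) = Set.univ \ {1} := by
    ext a; simp
  rw [h1, h2, Set.ncard_sdiff_singleton_of_mem (Set.mem_univ _), Set.ncard_univ]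
  have : 0 < Nat.card A := Nat.card_pos
  omega

theorem conj_out_injective {K : Type*} [Group K] (A : Subgroup K)
    (hA : ∀ k : K, ∀ a ∈ A, a ≠ 1 → k * a * k⁻¹ ∈ A → k ∈ A)
    (q q' : K ⧸ A) (a a' : A) (ha : a ≠ 1)
    (h : q.out * (a : K) * q.out⁻¹ = q'.out * (a' : K) * q'.out⁻¹) : q = q' ∧ a = a' := by
  have ha' : (a : K) ≠ 1 := fun h1 => ha (Subtype.ext h1)
  have h1 : (q'.out⁻¹ * q.out) * (a : K) * (q'.out⁻¹ * q.out)⁻¹ = (a' : K) := by
    calc (q'.out⁻¹ * q.out) * (a : K) * (q'.out⁻¹ * q.out)⁻¹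
        = q'.out⁻¹ * (q.out * (a : K) * q.out⁻¹) * q'.out := by group
      _ = (a' : K) := by rw [h]; group
  have h2 : q'.out⁻¹ * q.out ∈ A := hA _ (a : K) a.2 ha' (by rw [h1]; exact a'.2)
  have h3 : q' = q := by
    rw [← QuotientGroup.out_eq' q', ← QuotientGroup.out_eq' q, QuotientGroup.eq]
    exact h2
  subst h3
  refine ⟨rfl, ?_⟩
  apply Subtype.ext
  exact mul_left_cancel (mul_right_cancel h)

theorem two_families {K : Type*} [Group K] [Finite K] (A B : Subgroup K)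
    (hA1 : A ≠ ⊥) (hB1 : B ≠ ⊥) (hAtop : A ≠ ⊤) (hBtop : B ≠ ⊤)
    (hA : ∀ k : K, ∀ a ∈ A, a ≠ 1 → k * a * k⁻¹ ∈ A → k ∈ A)
    (hB : ∀ k : K, ∀ b ∈ B, b ≠ 1 → k * b * k⁻¹ ∈ B → k ∈ B)
    (hAB : ∀ k : K, ∀ a ∈ A, a ≠ 1 → k * a * k⁻¹ ∉ B) : False := by
  have hne : ∀ (k x : K), x ≠ 1 → k * x * k⁻¹ ≠ 1 := by
    intro k x hx h
    apply hx
    have : x = k⁻¹ * (k * x * k⁻¹) * k := by group
    rw [this, h]; group
  let Ψ : ((K ⧸ A) × {a : A // a ≠ 1}) ⊕ ((K ⧸ B) × {b : B // b ≠ 1}) → {x : K // x ≠ 1} :=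
    fun s => match s with
      | Sum.inl t => ⟨t.1.out * ((t.2 : A) : K) * t.1.out⁻¹,
          hne _ _ (fun h => t.2.2 (Subtype.ext h))⟩
      | Sum.inr t => ⟨t.1.out * ((t.2 : B) : K) * t.1.out⁻¹,
          hne _ _ (fun h => t.2.2 (Subtype.ext h))⟩
  have hinj : Function.Injective Ψ := by
    rintro (⟨q, a⟩ | ⟨q, b⟩) (⟨q', a'⟩ | ⟨q', b'⟩) h
    · have h1 : q.out * ((a : A) : K) * q.out⁻¹ = q'.out * ((a' : A) : K) * q'.out⁻¹ :=
        congrArg Subtype.val h
      obtain ⟨hq, ha⟩ := conj_out_injective A hA q q' a a' a.2 h1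
      rw [hq, Subtype.ext ha]
    · exfalso
      have h1 : q.out * ((a : A) : K) * q.out⁻¹ = q'.out * ((b' : B) : K) * q'.out⁻¹ :=
        congrArg Subtype.val h
      have h2 : (q'.out⁻¹ * q.out) * ((a : A) : K) * (q'.out⁻¹ * q.out)⁻¹ = ((b' : B) : K) := by
        calc (q'.out⁻¹ * q.out) * ((a : A) : K) * (q'.out⁻¹ * q.out)⁻¹
            = q'.out⁻¹ * (q.out * ((a : A) : K) * q.out⁻¹) * q'.out := by group
          _ = ((b' : B) : K) := by rw [h1]; group
      exact hAB _ ((a : A) : K) (a : A).2 (fun h3 => a.2 (Subtype.ext h3)) (by rw [h2]; exact (b' : B).2)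
    · exfalso
      have h1 : q.out * ((b : B) : K) * q.out⁻¹ = q'.out * ((a' : A) : K) * q'.out⁻¹ :=
        congrArg Subtype.val h
      have h2 : (q.out⁻¹ * q'.out) * ((a' : A) : K) * (q.out⁻¹ * q'.out)⁻¹ = ((b : B) : K) := by
        calc (q.out⁻¹ * q'.out) * ((a' : A) : K) * (q.out⁻¹ * q'.out)⁻¹
            = q.out⁻¹ * (q'.out * ((a' : A) : K) * q'.out⁻¹) * q.out := by group
          _ = ((b : B) : K) := by rw [← h1]; group
      exact hAB _ ((a' : A) : K) (a' : A).2 (fun h3 => a'.2 (Subtype.ext h3)) (by rw [h2]; exact (b : B).2)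
    · have h1 : q.out * ((b : B) : K) * q.out⁻¹ = q'.out * ((b' : B) : K) * q'.out⁻¹ :=
        congrArg Subtype.val h
      obtain ⟨hq, hb⟩ := conj_out_injective B hB q q' b b' b.2 h1
      rw [hq, Subtype.ext hb]
  have hcard := Nat.card_le_card_of_injective Ψ hinj
  rw [Nat.card_sum, Nat.card_prod, Nat.card_prod] at hcard
  have hK1 : Nat.card {x : K // x ≠ 1} + 1 = Nat.card K := by
    have := card_ne_one_add_one (⊤ : Subgroup K)
    rw [Nat.card_congr (Subgroup.topEquiv (G := K)).toEquiv] at this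
    rw [← this]
    congr 1
    apply Nat.card_congr
    exact
      { toFun := fun x => ⟨⟨x.1, Subgroup.mem_top _⟩, fun h => x.2 (congrArg Subtype.val h)⟩
        invFun := fun a => ⟨(a.1 : K), fun h => a.2 (Subtype.ext h)⟩
        left_inv := fun x => rfl
        right_inv := fun a => rfl }
  have hAc := card_ne_one_add_one A
  have hBc := card_ne_one_add_one B
  have hAi : A.index * Nat.card A = Nat.card K := Subgroup.index_mul_card A
  have hBi : B.index * Nat.card B = Nat.card K := Subgroup.index_mul_card B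
  have hA2 : 2 ≤ Nat.card A := (Subgroup.one_lt_card_iff_ne_bot A).2 hA1
  have hB2 : 2 ≤ Nat.card B := (Subgroup.one_lt_card_iff_ne_bot B).2 hB1
  have hAi0 : A.index ≠ 0 := Subgroup.index_ne_zero_of_finite
  have hBi0 : B.index ≠ 0 := Subgroup.index_ne_zero_of_finite
  have hAi2 : 2 ≤ A.index := by
    have : A.index ≠ 1 := fun h => hAtop (Subgroup.index_eq_one.1 h)
    omega
  have hBi2 : 2 ≤ B.index := by
    have : B.index ≠ 1 := fun h => hBtop (Subgroup.index_eq_one.1 h)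
    omega
  have hqA : Nat.card (K ⧸ A) = A.index := (Subgroup.index_eq_card A).symm
  have hqB : Nat.card (K ⧸ B) = B.index := (Subgroup.index_eq_card B).symm
  rw [hqA, hqB] at hcard
  set i := A.index
  set j := B.index
  set α := Nat.card {a : A // a ≠ 1}
  set β := Nat.card {b : B // b ≠ 1}
  set n := Nat.card K
  set x := Nat.card {x : K // x ≠ 1}
  have e1 : i * (α + 1) = n := by rw [hAc]; exact hAi
  have e2 : j * (β + 1) = n := by rw [hBc]; exact hBi
  have hα : 1 ≤ α := by omega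
  have hβ : 1 ≤ β := by omega
  nlinarith

end Cfsg.Agent.Lib.Helper22
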