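import Mathlib
import Cfsg.Agent.Lib.Helper22.Frobenius
import Cfsg.Agent.Lib.Helper22.Malnormal

set_option autoImplicit false

universe u

namespace Cfsg.Agent.Lib.Helper22

theorem card_orderOf_eq_prime {Y : Type*} [Group Y] [Finite Y] (p : ℕ) [Fact p.Prime] :
    Nat.card {y : Y // orderOf y = p} =
      Nat.card {C : Subgroup Y // Nat.card C = p} * (p - 1) := by
  classical
  have hp : p.Prime := Fact.out
  let f : {y : Y // orderOf y = p} → {C : Subgroup Y // Nat.card C = p} :=
    fun y => ⟨Subgroup.zpowers (y : Y), by rw [Nat.card_zpowers, y.2]⟩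
  have hfib : ∀ C : {C : Subgroup Y // Nat.card C = p},
      Nat.card {y : {y : Y // orderOf y = p} // f y = C} = p - 1 := by
    intro C
    have h1 : Nat.card {y : {y : Y // orderOf y = p} // f y = C} =
        Nat.card {a : (C : Subgroup Y) // a ≠ 1} := by
      apply Nat.card_congr
      refine
        { toFun := fun y => ⟨⟨(y.1 : Y), ?_⟩, ?_⟩
          invFun := fun a => ⟨⟨((a : (C : Subgroup Y)) : Y), ?_⟩, ?_⟩
          left_inv := fun y => rfl
          right_inv := fun a => rfl }
      · have : Subgroup.zpowers (y.1 : Y) = (C : Subgroup Y) := congrArg Subtype.val y.2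
        rw [← this]; exact Subgroup.mem_zpowers _
      · intro h
        have h2 : (y.1 : Y) = 1 := congrArg Subtype.val h
        have h3 := y.1.2
        rw [h2, orderOf_one] at h3
        exact hp.one_lt.ne h3
      · have h2 : orderOf ((a : (C : Subgroup Y)) : Y) ∣ p := by
          have := orderOf_dvd_natCard (a : (C : Subgroup Y))
          rwa [C.2, ← Subgroup.orderOf_coe] at this
        rcases (Nat.dvd_prime hp).1 h2 with h3 | h3
        · exfalso
          apply a.2
          apply Subtype.ext
          exact orderOf_eq_one_iff.1 h3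
        · exact h3
      · apply Subtype.ext
        show Subgroup.zpowers ((a : (C : Subgroup Y)) : Y) = (C : Subgroup Y)
        apply Subgroup.eq_of_le_of_card_ge
        · rw [Subgroup.zpowers_le]; exact (a : (C : Subgroup Y)).2
        · rw [Nat.card_zpowers, C.2]
          have h2 : orderOf ((a : (C : Subgroup Y)) : Y) ∣ p := by
            have := orderOf_dvd_natCard (a : (C : Subgroup Y))
            rwa [C.2, ← Subgroup.orderOf_coe] at this
          rcases (Nat.dvd_prime hp).1 h2 with h3 | h3
          · exfalso
            apply a.2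
            apply Subtype.ext
            exact orderOf_eq_one_iff.1 h3
          · rw [h3]
    rw [h1]
    have h2 := card_ne_one_add_one (C : Subgroup Y)
    rw [C.2] at h2
    omega
  have hfin : Fintype {C : Subgroup Y // Nat.card C = p} := Fintype.ofFinite _
  rw [← Nat.card_congr (Equiv.sigmaFiberEquiv f), Nat.card_sigma]
  simp only [hfib]
  rw [Finset.sum_const, Finset.card_univ, smul_eq_mul, Nat.card_eq_fintype_card]

theorem card_subgroups_prime_modEq_one {Y : Type*} [Group Y] [Finite Y] (p : ℕ) [Fact p.Prime]
    (hpY : p ∣ Nat.card Y) : Nat.card {C : Subgroup Y // Nat.card C = p} ≡ 1 [MOD p] := by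
  have hp : p.Prime := Fact.out
  have h1 := frobenius (G := Y) p hpY
  have h2 : Nat.card {y : Y // y ^ p = 1} = Nat.card {y : Y // orderOf y = p} + 1 := by
    have e : {y : Y // y ^ p = 1} ≃ Option {y : Y // orderOf y = p} := by
      classical
      refine
        { toFun := fun y => if h : (y : Y) = 1 then none else some ⟨(y : Y), orderOf_eq_prime y.2 h⟩
          invFun := fun o => match o with
            | none => ⟨1, one_pow p⟩
            | some y => ⟨(y : Y), by have := pow_orderOf_eq_one (y : Y); rwa [y.2] at this⟩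
          left_inv := ?_
          right_inv := ?_ }
      · intro y
        by_cases h : (y : Y) = 1
        · simp only [h, dif_pos]
          exact Subtype.ext h.symm
        · simp only [h, dif_neg, not_false_eq_true]
      · intro o
        cases o with
        | none => simp
        | some y =>
          have hy : (y : Y) ≠ 1 := by
            intro h
            have h3 := y.2
            rw [h, orderOf_one] at h3
            exact hp.one_lt.ne h3
          simp [hy]
    rw [Nat.card_congr e, Finite.card_option]
  rw [h2, card_orderOf_eq_prime] at h1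
  set c := Nat.card {C : Subgroup Y // Nat.card C = p} with hc
  obtain ⟨t, ht⟩ := h1
  have hp1 : 1 ≤ p := hp.one_lt.le
  have h3 : p * c + 1 = p * t + c := by
    have : c * (p - 1) + c = p * c := by
      have : c * (p - 1) + c = c * (p - 1 + 1) := by ring
      rw [this, Nat.sub_add_cancel hp1, mul_comm]
    omega
  have h4 : (p * c + 1) % p = (p * t + c) % p := by rw [h3]
  rw [Nat.mul_add_mod, Nat.mul_add_mod] at h4
  exact h4.symm

theorem card_comap_mk' {N : Type*} [Group N] [Finite N] (A' : Subgroup N) [A'.Normal]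
    (C : Subgroup (N ⧸ A')) :
    Nat.card (C.comap (QuotientGroup.mk' A')) = Nat.card C * Nat.card A' := by
  have hle : A' ≤ C.comap (QuotientGroup.mk' A') := QuotientGroup.le_comap_mk' A' C
  have h1 : Nat.card A' * A'.relIndex (C.comap (QuotientGroup.mk' A')) =
      Nat.card (C.comap (QuotientGroup.mk' A')) := by
    have h1 : (⊥ : Subgroup N).relIndex A' * A'.relIndex (C.comap (QuotientGroup.mk' A')) =
        (⊥ : Subgroup N).relIndex (C.comap (QuotientGroup.mk' A')) :=
      Subgroup.relIndex_mul_relIndex ⊥ A' _ bot_le hle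
    simpa [Subgroup.relIndex_bot_left] using h1
  have h2 : A' = (⊥ : Subgroup (N ⧸ A')).comap (QuotientGroup.mk' A') := by
    rw [MonoidHom.comap_bot, QuotientGroup.ker_mk']
  have h3 : A'.relIndex (C.comap (QuotientGroup.mk' A')) = Nat.card C := by
    nth_rewrite 1 [h2]
    rw [Subgroup.relIndex_comap,
      Subgroup.map_comap_eq_self_of_surjective (QuotientGroup.mk'_surjective A'),
      Subgroup.relIndex_bot_left]
  rw [← h1, h3, mul_comm]

theorem card_over_modEq_one {X : Type*} [Group X] [Finite X] (p : ℕ) [Fact p.Prime] (s : ℕ)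
    (hX : p ^ (s + 1) ∣ Nat.card X) (A : Subgroup X) (hA : Nat.card A = p ^ s) :
    Nat.card {B : Subgroup X // A ≤ B ∧ Nat.card B = p ^ (s + 1)} ≡ 1 [MOD p] := by
  have hp : p.Prime := Fact.out
  set N := Subgroup.normalizer (A : Set X) with hN
  have hAN : A ≤ N := Subgroup.le_normalizer
  have hAn : (A.subgroupOf N).Normal := Subgroup.normal_in_normalizer
  have hcardA' : Nat.card (A.subgroupOf N) = p ^ s := by
    rw [← hA]
    exact Nat.card_congr (Subgroup.subgroupOfEquivOfLe hAN).toEquiv
  have hdiv : p ∣ Nat.card (N ⧸ A.subgroupOf N) :=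
    Sylow.prime_dvd_card_quotient_normalizer hX hA
  have h1 := card_subgroups_prime_modEq_one (Y := N ⧸ A.subgroupOf N) p hdiv
  have hΦmem : ∀ C : {C : Subgroup (N ⧸ A.subgroupOf N) // Nat.card C = p},
      A ≤ ((C : Subgroup (N ⧸ A.subgroupOf N)).comap (QuotientGroup.mk' (A.subgroupOf N))).map N.subtype ∧
      Nat.card (((C : Subgroup (N ⧸ A.subgroupOf N)).comap (QuotientGroup.mk' (A.subgroupOf N))).map N.subtype) =
        p ^ (s + 1) := by
    intro C
    constructor
    · intro a ha
      refine Subgroup.mem_map.2 ⟨⟨a, hAN ha⟩, ?_, rfl⟩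
      rw [Subgroup.mem_comap]
      have : (QuotientGroup.mk' (A.subgroupOf N)) ⟨a, hAN ha⟩ = 1 := by
        rw [QuotientGroup.mk'_apply, QuotientGroup.eq_one_iff, Subgroup.mem_subgroupOf]
        exact ha
      rw [this]; exact Subgroup.one_mem _
    · rw [Nat.card_congr (Subgroup.equivMapOfInjective _ N.subtype N.subtype_injective).symm.toEquiv,
        card_comap_mk', C.2, hcardA', pow_succ, mul_comm]
  let Φ : {C : Subgroup (N ⧸ A.subgroupOf N) // Nat.card C = p} →
      {B : Subgroup X // A ≤ B ∧ Nat.card B = p ^ (s + 1)} :=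
    fun C => ⟨_, hΦmem C⟩
  have hbij : Function.Bijective Φ := by
    constructor
    · intro C C' h
      have h2 : ((C : Subgroup (N ⧸ A.subgroupOf N)).comap (QuotientGroup.mk' (A.subgroupOf N))).map N.subtype =
          ((C' : Subgroup (N ⧸ A.subgroupOf N)).comap (QuotientGroup.mk' (A.subgroupOf N))).map N.subtype :=
        congrArg Subtype.val h
      have h3 := Subgroup.map_injective N.subtype_injective h2
      have h4 := Subgroup.comap_injective (QuotientGroup.mk'_surjective (A.subgroupOf N)) h3
      exact Subtype.ext h4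
    · rintro ⟨B, hAB, hB⟩
      have hBN : B ≤ N := by
        have hn : (A.subgroupOf B).Normal := by
          apply Subgroup.normal_of_index_eq_minFac_card
          rw [hB, hp.pow_minFac (Nat.succ_ne_zero s)]
          have h5 : Nat.card (A.subgroupOf B) = p ^ s := by
            rw [← hA]
            exact Nat.card_congr (Subgroup.subgroupOfEquivOfLe hAB).toEquiv
          have h6 := Subgroup.card_mul_index (A.subgroupOf B)
          rw [h5, hB, pow_succ] at h6
          exact Nat.eq_of_mul_eq_mul_left (pow_pos hp.pos s) h6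
        exact (Subgroup.normal_subgroupOf_iff_le_normalizer hAB).1 hn
      have hA'B' : A.subgroupOf N ≤ B.subgroupOf N := by
        intro x hx
        rw [Subgroup.mem_subgroupOf] at hx ⊢
        exact hAB hx
      have hback : (((B.subgroupOf N).map (QuotientGroup.mk' (A.subgroupOf N))).comap
          (QuotientGroup.mk' (A.subgroupOf N))).map N.subtype = B := by
        rw [Subgroup.comap_map_eq, QuotientGroup.ker_mk', sup_eq_left.2 hA'B',
          Subgroup.subgroupOf_map_subtype, inf_eq_left.2 hBN]
      have hcardC : Nat.card ((B.subgroupOf N).map (QuotientGroup.mk' (A.subgroupOf N))) = p := by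
        have h5 := card_comap_mk' (A.subgroupOf N)
          ((B.subgroupOf N).map (QuotientGroup.mk' (A.subgroupOf N)))
        rw [Subgroup.comap_map_eq, QuotientGroup.ker_mk', sup_eq_left.2 hA'B', hcardA',
          Nat.card_congr (Subgroup.subgroupOfEquivOfLe hBN).toEquiv, hB, pow_succ, mul_comm] at h5
        exact (Nat.eq_of_mul_eq_mul_right (pow_pos hp.pos s) h5).symm
      exact ⟨⟨_, hcardC⟩, Subtype.ext hback⟩
  rw [← Nat.card_eq_of_bijective Φ hbij]
  exact h1

theorem sum_modEq_card {ι : Type*} [Fintype ι] (f : ι → ℕ) (p : ℕ) (h : ∀ i, f i ≡ 1 [MOD p]) :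
    ∑ i, f i ≡ Fintype.card ι [MOD p] := by
  have h1 : (∑ i, f i) % p = (∑ _i : ι, 1) % p := by
    rw [Finset.sum_nat_mod, Finset.sum_nat_mod Finset.univ p (fun _ => 1)]
    congr 1
    apply Finset.sum_congr rfl
    intro i _
    exact h i
  rw [Finset.sum_const, Finset.card_univ, smul_eq_mul, mul_one] at h1
  exact h1

theorem card_subgroups_le_equiv {X : Type*} [Group X] (B : Subgroup X) (n : ℕ) :
    Nat.card {A : Subgroup X // A ≤ B ∧ Nat.card A = n} =
      Nat.card {A' : Subgroup B // Nat.card A' = n} := by
  symm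
  let Ψ : {A' : Subgroup B // Nat.card A' = n} → {A : Subgroup X // A ≤ B ∧ Nat.card A = n} :=
    fun A' => ⟨(A' : Subgroup B).map B.subtype, Subgroup.map_subtype_le _, by
      rw [Nat.card_congr (Subgroup.equivMapOfInjective _ B.subtype B.subtype_injective).symm.toEquiv]
      exact A'.2⟩
  apply Nat.card_eq_of_bijective Ψ
  constructor
  · intro A₁ A₂ h
    have h2 : (A₁ : Subgroup B).map B.subtype = (A₂ : Subgroup B).map B.subtype :=
      congrArg Subtype.val h
    exact Subtype.ext (Subgroup.map_injective B.subtype_injective h2)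
  · rintro ⟨A, hAB, hA⟩
    refine ⟨⟨A.subgroupOf B, ?_⟩, ?_⟩
    · rw [Nat.card_congr (Subgroup.subgroupOfEquivOfLe hAB).toEquiv]; exact hA
    · apply Subtype.ext
      show (A.subgroupOf B).map B.subtype = A
      rw [Subgroup.subgroupOf_map_subtype, inf_eq_left.2 hAB]

theorem card_subgroups_ppow_modEq_one : ∀ (m : ℕ) (X : Type u) [Group X] [Finite X] (p : ℕ)
    [Fact p.Prime], Nat.card X = p ^ m → ∀ s : ℕ, s ≤ m →
    Nat.card {H : Subgroup X // Nat.card H = p ^ s} ≡ 1 [MOD p] := by
  intro m
  induction m using Nat.strong_induction_on with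
  | _ m ih =>
    intro X _ _ p _ hX s
    have hp : p.Prime := Fact.out
    induction s with
    | zero =>
      intro _
      have : Nat.card {H : Subgroup X // Nat.card H = p ^ 0} = 1 := by
        rw [Nat.card_eq_one_iff_unique]
        refine ⟨⟨?_⟩, ⟨⟨⊥, by simp⟩⟩⟩
        rintro ⟨H, hH⟩ ⟨K, hK⟩
        apply Subtype.ext
        rw [pow_zero] at hH hK
        show H = K
        rw [Subgroup.card_eq_one.1 hH, Subgroup.card_eq_one.1 hK]
      rw [this]
    | succ s ihs =>
      intro hs
      by_cases hsm : s + 1 = m
      · have : Nat.card {H : Subgroup X // Nat.card H = p ^ (s + 1)} = 1 := by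
          rw [Nat.card_eq_one_iff_unique]
          refine ⟨⟨?_⟩, ⟨⟨⊤, by rw [Subgroup.card_top, hX, hsm]⟩⟩⟩
          rintro ⟨H, hH⟩ ⟨K, hK⟩
          apply Subtype.ext
          rw [hsm, ← hX] at hH hK
          show H = K
          rw [Subgroup.eq_top_of_card_eq H hH, Subgroup.eq_top_of_card_eq K hK]
        rw [this]
      · have hlt : s + 1 < m := lt_of_le_of_ne hs hsm
        have ihs' := ihs (by omega)
        have hdvd : p ^ (s + 1) ∣ Nat.card X := by rw [hX]; exact pow_dvd_pow p hs
        have hF1 : Fintype {H : Subgroup X // Nat.card H = p ^ s} := Fintype.ofFinite _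
        have hF2 : Fintype {H : Subgroup X // Nat.card H = p ^ (s + 1)} := Fintype.ofFinite _
        have e : (Σ A : {H : Subgroup X // Nat.card H = p ^ s},
            {B : Subgroup X // (A : Subgroup X) ≤ B ∧ Nat.card B = p ^ (s + 1)}) ≃
            (Σ B : {H : Subgroup X // Nat.card H = p ^ (s + 1)},
            {A : Subgroup X // A ≤ (B : Subgroup X) ∧ Nat.card A = p ^ s}) :=
          { toFun := fun x => ⟨⟨x.2.1, x.2.2.2⟩, ⟨x.1.1, x.2.2.1, x.1.2⟩⟩
            invFun := fun x => ⟨⟨x.2.1, x.2.2.2⟩, ⟨x.1.1, x.2.2.1, x.1.2⟩⟩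
            left_inv := fun x => rfl
            right_inv := fun x => rfl }
        have h1 := Nat.card_congr e
        rw [Nat.card_sigma, Nat.card_sigma] at h1
        have h2 : ∑ A : {H : Subgroup X // Nat.card H = p ^ s},
            Nat.card {B : Subgroup X // (A : Subgroup X) ≤ B ∧ Nat.card B = p ^ (s + 1)} ≡
            Fintype.card {H : Subgroup X // Nat.card H = p ^ s} [MOD p] := by
          apply sum_modEq_card
          intro A
          exact card_over_modEq_one p s hdvd A.1 A.2
        have h3 : ∑ B : {H : Subgroup X // Nat.card H = p ^ (s + 1)},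
            Nat.card {A : Subgroup X // A ≤ (B : Subgroup X) ∧ Nat.card A = p ^ s} ≡
            Fintype.card {H : Subgroup X // Nat.card H = p ^ (s + 1)} [MOD p] := by
          apply sum_modEq_card
          intro B
          rw [card_subgroups_le_equiv]
          exact ih (s + 1) hlt (B : Subgroup X) p B.2 s (Nat.le_succ s)
        rw [Nat.card_eq_fintype_card]
        rw [Nat.card_eq_fintype_card] at ihs'
        calc Fintype.card {H : Subgroup X // Nat.card H = p ^ (s + 1)}
            ≡ ∑ B : {H : Subgroup X // Nat.card H = p ^ (s + 1)},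
              Nat.card {A : Subgroup X // A ≤ (B : Subgroup X) ∧ Nat.card A = p ^ s} [MOD p] := h3.symm
          _ = ∑ A : {H : Subgroup X // Nat.card H = p ^ s},
              Nat.card {B : Subgroup X // (A : Subgroup X) ≤ B ∧ Nat.card B = p ^ (s + 1)} := h1.symm
          _ ≡ Fintype.card {H : Subgroup X // Nat.card H = p ^ s} [MOD p] := h2
          _ ≡ 1 [MOD p] := ihs'

end Cfsg.Agent.Lib.Helper22
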