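import Mathlib
import Cfsg.Agent.Lib.Helper22.Malnormal

set_option autoImplicit false

namespace Cfsg.Agent.Lib.Helper22

theorem exists_out_conj {G : Type*} [Group G] (K M : Subgroup G)
    (hMK : ∀ m ∈ M, ∀ k ∈ K, m * k * m⁻¹ ∈ K) (x g : G) (hx : x ≠ 1) (hg : g⁻¹ * x * g ∈ K) :
    ∃ (t : G ⧸ M) (c : {c : K // c ≠ 1}), t.out * ((c : K) : G) * t.out⁻¹ = x := by
  obtain ⟨m, hm⟩ := QuotientGroup.mk_out_eq_mul M g
  have hmem : (m : G)⁻¹ * (g⁻¹ * x * g) * ((m : G)⁻¹)⁻¹ ∈ K := hMK _ (M.inv_mem m.2) _ hg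
  have hne : (⟨_, hmem⟩ : K) ≠ 1 := by
    intro h1
    have h2 : (m : G)⁻¹ * (g⁻¹ * x * g) * ((m : G)⁻¹)⁻¹ = 1 := congrArg Subtype.val h1
    apply hx
    have : x = g * (m : G) * ((m : G)⁻¹ * (g⁻¹ * x * g) * ((m : G)⁻¹)⁻¹) * (g * (m : G))⁻¹ := by
      group
    rw [this, h2]; group
  refine ⟨QuotientGroup.mk g, ⟨⟨_, hmem⟩, hne⟩, ?_⟩
  rw [hm]
  group

theorem cover_count {G : Type*} [Group G] [Finite G] (K₁ M₁ K₂ M₂ : Subgroup G)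
    (h₁ : ∀ m ∈ M₁, ∀ k ∈ K₁, m * k * m⁻¹ ∈ K₁) (h₂ : ∀ m ∈ M₂, ∀ k ∈ K₂, m * k * m⁻¹ ∈ K₂)
    (hcov : ∀ x : G, ∃ g : G, g⁻¹ * x * g ∈ K₁ ∨ g⁻¹ * x * g ∈ K₂) :
    Nat.card G + M₁.index + M₂.index ≤ 1 + M₁.index * Nat.card K₁ + M₂.index * Nat.card K₂ := by
  classical
  let Ψ : Option (((G ⧸ M₁) × {c : K₁ // c ≠ 1}) ⊕ ((G ⧸ M₂) × {c : K₂ // c ≠ 1})) → G :=
    fun o => match o with
      | none => 1
      | some (Sum.inl t) => t.1.out * ((t.2 : K₁) : G) * t.1.out⁻¹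
      | some (Sum.inr t) => t.1.out * ((t.2 : K₂) : G) * t.1.out⁻¹
  have hΨ : Function.Surjective Ψ := by
    intro x
    by_cases hx : x = 1
    · exact ⟨none, hx.symm⟩
    obtain ⟨g, hg | hg⟩ := hcov x
    · obtain ⟨t, c, htc⟩ := exists_out_conj K₁ M₁ h₁ x g hx hg
      exact ⟨some (Sum.inl (t, c)), htc⟩
    · obtain ⟨t, c, htc⟩ := exists_out_conj K₂ M₂ h₂ x g hx hg
      exact ⟨some (Sum.inr (t, c)), htc⟩
  have hcard := Nat.card_le_card_of_surjective Ψ hΨ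
  rw [Finite.card_option, Nat.card_sum, Nat.card_prod, Nat.card_prod,
    ← Subgroup.index_eq_card, ← Subgroup.index_eq_card] at hcard
  have e1 := card_ne_one_add_one K₁
  have e2 := card_ne_one_add_one K₂
  rw [← e1, ← e2]
  set α := Nat.card {c : K₁ // c ≠ 1}
  set β := Nat.card {c : K₂ // c ≠ 1}
  have : M₁.index * (α + 1) = M₁.index * α + M₁.index := by ring
  have : M₂.index * (β + 1) = M₂.index * β + M₂.index := by ring
  omega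

end Cfsg.Agent.Lib.Helper22
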