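import Mathlib
import Cfsg.Prelude.Def_GeometricClasses
import Cfsg.Agent.Lib.Helper27.ASC.Defs
import Cfsg.Agent.Lib.helper23.ASCO.Defs
import Cfsg.Agent.Lib.Helper19.ASG.Defs
import Cfsg.Agent.Lib.Helper1.ASGCLIF3
import Cfsg.Agent.Lib.Helper25.ASO.Defs
import Cfsg.Agent.Lib.helper23.ASE.Defs
import Cfsg.Agent.Lib.Helper27.E10P.Defs
import Cfsg.Agent.Lib.Helper24.TX2SPQ5

set_option autoImplicit false
set_option linter.unusedVariables false
set_option linter.unusedSectionVars false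

/-!
# Project E10P (S5847), piece P2Q5 (helper22) : `planes_q5`, verbatim vs `Helper27/E10P/Skel.lean.txt`
= helper24's landed form-generic `Helper15.TX2S.plus_planes_q5`.
-/

namespace Cfsg.Agent.Lib.Helper27.E10P

open Cfsg Cfsg.Geo Cfsg.Agent.Lib.Helper27.ASC Cfsg.Agent.Lib.helper23.ASCO Cfsg.Agent.Lib.Helper19.ASG
  Cfsg.Agent.Lib.Helper25.ASO Cfsg.Agent.Lib.helper23.ASE
open scoped MatrixGroups Matrix Kronecker

variable {n : ℕ} {F : Type*} [Field F] [Fintype F]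

/-- P2Q5 -/
theorem planes_q5 (hq : Fintype.card F = 5) (Q : QuadraticForm F (Fin n → F))
    (hQ : (QuadraticMap.polarBilin Q).Nondegenerate) {t : ℕ} (D : Fin t → Submodule F (Fin n → F))
    (hD : IsOrthogonalMDecomposition (⇑Q) 2 D) (hp : ∀ i, IsPlusTypeOn (⇑Q) (D i)) :
    ∃ D' : Fin n → Submodule F (Fin n → F), IsOrthogonalMDecomposition (⇑Q) 1 D' ∧
      decompositionStabilizer D ⊓ isometryGroup F (⇑Q) ≤ decompositionStabilizer D' :=
  Cfsg.Agent.Lib.Helper15.TX2S.plus_planes_q5 hq Q D hD hp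

end Cfsg.Agent.Lib.Helper27.E10P
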