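import Mathlib
import Cfsg.Prelude.Def_GeometricClasses
import Cfsg.Agent.Lib.Helper27.ASC.Defs
import Cfsg.Agent.Lib.helper23.ASCO.Defs
import Cfsg.Agent.Lib.Helper19.ASG.Defs
import Cfsg.Agent.Lib.Helper1.ASGCLIF3
import Cfsg.Agent.Lib.Helper25.ASO.Defs
import Cfsg.Agent.Lib.helper23.ASE.Defs
import Cfsg.Agent.Lib.Lead.E12M.Defs
import Cfsg.Agent.Lib.Helper10.ASOCGRAMa

set_option autoImplicit false
set_option linter.unusedVariables false
set_option linter.unusedSectionVars false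

/-!
# Project E12M (S5874), piece TFORM (helper22) : `etens_form`, verbatim vs `Lead/E12M/Skel.lean.txt`.

`f₁ = (u, v) ↦ u ⬝ᵥ A *ᵥ v`, `f₂ = (u, v) ↦ u ⬝ᵥ B *ᵥ v` (`Helper10` `asocgram_form`), `c = 1`.  Not plus: a totally singular
`U ≤ F^d` of half dimension for `B` gives the totally singular `T = F^k ⊗ U` of dimension `k * dim U = n / 2` for `Q`.
-/

namespace Cfsg.Agent.Lib.Lead.E12M

open Cfsg Cfsg.Geo Cfsg.Agent.Lib.Helper27.ASC Cfsg.Agent.Lib.helper23.ASCO Cfsg.Agent.Lib.Helper19.ASG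
  Cfsg.Agent.Lib.Helper25.ASO Cfsg.Agent.Lib.helper23.ASE
open scoped MatrixGroups Matrix Kronecker

variable {n : ℕ} {F : Type*} [Field F] [Fintype F]

omit [Fintype F] in
/-- `formOfGram id` of a Kronecker product on "matrix-shaped" vectors -/
theorem e12mtform_kron {k d : ℕ} (A : Matrix (Fin k) (Fin k) F) (B : Matrix (Fin d) (Fin d) F)
    (x y : Fin k → Fin d → F) :
    formOfGram id (A ⊗ₖ B) (fun p : Fin k × Fin d => x p.1 p.2) (fun p : Fin k × Fin d => y p.1 p.2) =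
      ∑ a, ∑ a', A a a' * (x a ⬝ᵥ B *ᵥ y a') := by
  unfold formOfGram
  rw [Fintype.sum_prod_type]
  apply Finset.sum_congr rfl
  intro a _
  simp only [Fintype.sum_prod_type, Matrix.kroneckerMap_apply, id, dotProduct, Matrix.mulVec, Finset.mul_sum]
  rw [Finset.sum_comm]
  apply Finset.sum_congr rfl
  intro a' _
  apply Finset.sum_congr rfl
  intro b _
  apply Finset.sum_congr rfl
  intro b' _
  ring

/-- the linear map `(ω_a)_a ↦ P (∑ e_a ⊗ ω_a)` -/
noncomputable def e12mtform_Phi {k d : ℕ} (e : Fin n ≃ Fin k × Fin d) (P : GL (Fin n) F)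
    (U : Submodule F (Fin d → F)) : (Fin k → U) →ₗ[F] (Fin n → F) where
  toFun ω := (P : Matrix (Fin n) (Fin n) F) *ᵥ ((fun p : Fin k × Fin d => (ω p.1 : Fin d → F) p.2) ∘ e)
  map_add' ω ω' := by
    rw [← Matrix.mulVec_add]
    congr 1
  map_smul' c ω := by
    rw [RingHom.id_apply, ← Matrix.mulVec_smul]
    congr 1

omit [Fintype F] in
theorem e12mtform_Phi_inj {k d : ℕ} (e : Fin n ≃ Fin k × Fin d) (P : GL (Fin n) F)
    (U : Submodule F (Fin d → F)) : Function.Injective (e12mtform_Phi e P U) := by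
  intro ω ω' h
  have h1 : (P : Matrix (Fin n) (Fin n) F) *ᵥ ((fun p : Fin k × Fin d => (ω p.1 : Fin d → F) p.2) ∘ e) =
      (P : Matrix (Fin n) (Fin n) F) *ᵥ ((fun p : Fin k × Fin d => (ω' p.1 : Fin d → F) p.2) ∘ e) := h
  have hPdet : IsUnit (P : Matrix (Fin n) (Fin n) F).det :=
    (Matrix.isUnit_iff_isUnit_det _).mp (Units.isUnit P)
  have h2 := Matrix.mulVec_injective_of_isUnit ((Matrix.isUnit_iff_isUnit_det _).mpr hPdet) h1
  funext a
  apply Subtype.ext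
  funext b
  have := congrFun h2 (e.symm (a, b))
  simpa using this

/-- TFORM -/
theorem etens_form (h2 : (2 : F) ≠ 0) (Q : QuadraticForm F (Fin n → F))
    (hQ : (QuadraticMap.polarBilin Q).Nondegenerate) (hminus : ¬ IsPlusTypeOn (⇑Q) ⊤) {k d : ℕ}
    (e : Fin n ≃ Fin k × Fin d) (P : GL (Fin n) F)
    (A : Matrix (Fin k) (Fin k) F) (B : Matrix (Fin d) (Fin d) F) (hA : IsUnit A.det) (hB : IsUnit B.det)
    (hAs : Aᵀ = A) (hBs : Bᵀ = B) (hAB : KronGram (QuadraticMap.polar (⇑Q)) e P A B) :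
    ∃ (f₁ : (Fin k → F) → (Fin k → F) → F) (f₂ : (Fin d → F) → (Fin d → F) → F),
      IsSymmetricForm f₁ ∧ IsSymmetricForm f₂ ∧ ¬ IsPlusTypeOn (fun v : Fin d → F => f₂ v v) ⊤ ∧
      IsTensorFormStructure id (QuadraticMap.polar (⇑Q)) f₁ f₂ e P := by
  classical
  have hn : n = k * d := by
    have := Fintype.card_congr e
    simpa using this
  obtain ⟨hf₁, hg₁⟩ := asocgram_form A hAs hA.ne_zero
  obtain ⟨hf₂, hg₂⟩ := asocgram_form B hBs hB.ne_zero
  refine ⟨_, _, hf₁, hf₂, ?_, 1, one_ne_zero, fun x y => ?_⟩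
  swap
  · rw [hg₁, hg₂, one_mul]
    exact hAB x y
  -- not of plus type
  rintro ⟨U, -, hUts, hUdim⟩
  apply hminus
  have hBsym : ∀ w w' : Fin d → F, w' ⬝ᵥ (B *ᵥ w) = w ⬝ᵥ (B *ᵥ w') := by
    intro w w'
    rw [Matrix.dotProduct_mulVec, ← Matrix.mulVec_transpose, hBs, dotProduct_comm]
  have hU0 : ∀ w ∈ U, ∀ w' ∈ U, w ⬝ᵥ (B *ᵥ w') = 0 := by
    intro w hw w' hw'
    have h1 : (w + w') ⬝ᵥ (B *ᵥ (w + w')) = 0 := hUts _ (U.add_mem hw hw')
    have h3 : w ⬝ᵥ (B *ᵥ w) = 0 := hUts _ hw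
    have h4 : w' ⬝ᵥ (B *ᵥ w') = 0 := hUts _ hw'
    rw [Matrix.mulVec_add, add_dotProduct, dotProduct_add, dotProduct_add, h3, h4, hBsym w w'] at h1
    have h5 : (2 : F) * (w ⬝ᵥ (B *ᵥ w')) = 0 := by linear_combination h1
    rcases mul_eq_zero.mp h5 with h | h
    · exact absurd h h2
    · exact h
  refine ⟨LinearMap.range (e12mtform_Phi e P U), le_top, ?_, ?_⟩
  · rintro v ⟨ω, rfl⟩
    have hpol : QuadraticMap.polar (⇑Q) (e12mtform_Phi e P U ω) (e12mtform_Phi e P U ω) = 0 := by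
      show QuadraticMap.polar (⇑Q)
        ((P : Matrix (Fin n) (Fin n) F) *ᵥ ((fun p : Fin k × Fin d => (ω p.1 : Fin d → F) p.2) ∘ e))
        ((P : Matrix (Fin n) (Fin n) F) *ᵥ ((fun p : Fin k × Fin d => (ω p.1 : Fin d → F) p.2) ∘ e)) = 0
      rw [hAB, e12mtform_kron A B (fun a => (ω a : Fin d → F)) (fun a => (ω a : Fin d → F))]
      apply Finset.sum_eq_zero
      intro a _
      apply Finset.sum_eq_zero
      intro a' _
      rw [hU0 _ (ω a).2 _ (ω a').2, mul_zero]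
    have h5 : (2 : F) * Q (e12mtform_Phi e P U ω) = 0 := by
      rw [← hpol, QuadraticMap.polar_self, two_smul, two_mul]
    rcases mul_eq_zero.mp h5 with h | h
    · exact absurd h h2
    · exact h
  · rw [LinearMap.finrank_range_of_inj (e12mtform_Phi_inj e P U), Module.finrank_pi_fintype]
    simp only [Finset.sum_const, Finset.card_univ, Fintype.card_fin, smul_eq_mul]
    rw [finrank_top, Module.finrank_fin_fun] at hUdim ⊢
    rw [hn]
    calc 2 * (k * Module.finrank F ↥U) = k * (2 * Module.finrank F ↥U) := by ring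
      _ = k * d := by rw [hUdim]

end Cfsg.Agent.Lib.Lead.E12M
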