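import Mathlib
import Cfsg.Agent.Lib.Helper22.ExtPrimA

set_option autoImplicit false
set_option linter.unusedSectionVars false
set_option linter.unusedVariables false

/-! Semilinear groups `x ↦ a σ(x)` over a finite field: the hom to the automorphism group of the
field and the order bound. -/

namespace Cfsg.Agent.Lib.Helper22.EqSylA

variable {F : Type*} [Field F]

theorem semi_unique {a a' : F} {σ σ' : F ≃+* F} (h : ∀ t, a * σ t = a' * σ' t) (ha : a ≠ 0) :
    a = a' ∧ σ = σ' := by
  have h1 : a = a' := by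
    have := h 1
    simpa using this
  subst h1
  exact ⟨rfl, RingEquiv.ext fun t => mul_left_cancel₀ ha (h t)⟩

variable {W : Type*} [AddCommGroup W] {Γ : Type*} [Group Γ]

theorem rho_inv_apply (ρ : Γ →* AddMonoid.End W) (g : Γ) (w : W) : ρ g⁻¹ (ρ g w) = w := by
  have h1 : ρ g⁻¹ * ρ g = 1 := by rw [← map_mul, inv_mul_cancel, map_one]
  have := congrArg (fun f : AddMonoid.End W => f w) h1
  exact this

theorem rho_apply_inv (ρ : Γ →* AddMonoid.End W) (g : Γ) (w : W) : ρ g (ρ g⁻¹ w) = w := by
  have := rho_inv_apply ρ g⁻¹ w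
  rwa [inv_inv] at this

theorem rho_injective (ρ : Γ →* AddMonoid.End W) (g : Γ) : Function.Injective (ρ g) := by
  intro w w' h
  have := congrArg (ρ g⁻¹) h
  rwa [rho_inv_apply, rho_inv_apply] at this

theorem rho_mul_apply (ρ : Γ →* AddMonoid.End W) (g h : Γ) (w : W) :
    ρ (g * h) w = ρ g (ρ h w) := by
  rw [map_mul]; rfl

/-- The semilinear structure theorem: a hom to the automorphism group of the field and the
order bound. -/
theorem exists_sigma [Finite F] [Finite Γ] (ρ : Γ →* AddMonoid.End W)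
    (hinj : Function.Injective ρ) (e : W ≃+ F)
    (hsemi : ∀ g : Γ, ∃ (a : F) (σ : F ≃+* F), ∀ w : W, e (ρ g w) = a * σ (e w)) :
    ∃ (S : Γ →* (F ≃+* F)) (A : Γ → F), (∀ g w, e (ρ g w) = A g * S g (e w)) ∧
      (∀ g, A g ≠ 0) ∧
      Nat.card Γ ∣ Nat.card (F ≃+* F) * (Nat.card F - 1) := by
  classical
  choose A S hAS using hsemi
  have hA0 : ∀ g, A g ≠ 0 := by
    intro g h0
    have h1 : ∀ w, ρ g w = 0 := by
      intro w
      have := hAS g w
      rw [h0, zero_mul] at this
      exact e.map_eq_zero_iff.mp this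
    have h2 : e.symm 1 = 0 := by
      have := rho_inv_apply ρ g (e.symm 1)
      rw [h1, map_zero] at this
      exact this.symm
    have h3 : (1 : F) = 0 := by
      have := congrArg e h2
      rwa [AddEquiv.apply_symm_apply, map_zero] at this
    exact one_ne_zero h3
  have hmul : ∀ g h : Γ, A (g * h) = A g * S g (A h) ∧ S (g * h) = S g * S h := by
    intro g h
    have key : ∀ t : F, A (g * h) * S (g * h) t = (A g * S g (A h)) * (S g * S h) t := by
      intro t
      have h1 := hAS (g * h) (e.symm t)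
      rw [AddEquiv.apply_symm_apply] at h1
      rw [← h1, rho_mul_apply, hAS g, hAS h, AddEquiv.apply_symm_apply, map_mul, RingAut.mul_apply,
        mul_assoc]
    exact semi_unique key (hA0 _)
  let Sg : Γ →* (F ≃+* F) := MonoidHom.mk' S (fun g h => (hmul g h).2)
  have hSg : ∀ g, Sg g = S g := fun g => rfl
  refine ⟨Sg, A, fun g w => hAS g w, hA0, ?_⟩
  -- the hom from the kernel to the units
  let α : Sg.ker →* Fˣ := MonoidHom.mk' (fun g => Units.mk0 (A g.1) (hA0 g.1)) (by
    intro g h
    apply Units.ext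
    have hg : S g.1 = 1 := g.2
    show A (g.1 * h.1) = A g.1 * A h.1
    rw [(hmul g.1 h.1).1, hg]
    rfl)
  have hα : Function.Injective α := by
    intro g h hgh
    have h1 : A g.1 = A h.1 := congrArg Units.val hgh
    have hg : S g.1 = 1 := g.2
    have hh : S h.1 = 1 := h.2
    apply Subtype.ext
    apply hinj
    refine DFunLike.ext _ _ (fun w => ?_)
    apply e.injective
    rw [hAS, hAS, h1, hg, hh]
  have h1 : Nat.card Sg.ker ∣ Nat.card F - 1 := by
    have := Subgroup.card_dvd_of_injective α hα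
    rwa [Nat.card_units] at this
  have h2 : Nat.card Sg.range ∣ Nat.card (F ≃+* F) := Subgroup.card_subgroup_dvd_card _
  have h3 : Nat.card Γ = Nat.card Sg.ker * Nat.card Sg.range := by
    rw [← Subgroup.index_ker, Subgroup.card_mul_index]
  rw [h3, mul_comm]
  exact Nat.mul_dvd_mul h2 h1

/-- Transport of a semilinear structure to the Galois field. -/
theorem to_galoisField (p n : ℕ) [hp : Fact p.Prime] [Finite W] (hW : Nat.card W = p ^ n)
    (ρ : Γ →* AddMonoid.End W)
    (h : ∃ (F : Type) (_ : Field F) (_ : Fintype F) (e : W ≃+ F),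
      ∀ g : Γ, ∃ (a : F) (σ : F ≃+* F), ∀ v : W, e (ρ g v) = a * σ (e v)) :
    ∃ e : W ≃+ GaloisField p n,
      ∀ g : Γ, ∃ (a : GaloisField p n) (σ : GaloisField p n ≃+* GaloisField p n),
        ∀ v : W, e (ρ g v) = a * σ (e v) := by
  obtain ⟨F, _, _, e, he⟩ := h
  have hF : Nat.card F = p ^ n := by rw [← hW]; exact (Nat.card_congr e.toEquiv).symm
  have : CharP F p := Cfsg.Agent.Lib.Helper22.ExtPrimA.charP_of_card F p n hp.out hF
  let _ : Algebra (ZMod p) F := ZMod.algebra F p
  let φ : F ≃ₐ[ZMod p] GaloisField p n := GaloisField.algEquivGaloisField p n hF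
  refine ⟨e.trans φ.toRingEquiv.toAddEquiv, ?_⟩
  intro g
  obtain ⟨a, σ, h⟩ := he g
  refine ⟨φ a, (φ.symm.toRingEquiv.trans σ).trans φ.toRingEquiv, fun v => ?_⟩
  show φ (e (ρ g v)) = φ a * φ (σ (φ.symm (φ (e v))))
  rw [AlgEquiv.symm_apply_apply, h, map_mul]

end Cfsg.Agent.Lib.Helper22.EqSylA
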