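import Mathlib

set_option autoImplicit false
set_option linter.unusedSectionVars false
set_option linter.unusedVariables false

/-! Counting the planes of a finite vector space over `ZMod p`. -/

namespace Cfsg.Agent.Lib.Helper22.EqSylB

open Module

variable {p : ℕ} [hp : Fact p.Prime] {W : Type*} [AddCommGroup W] [Module (ZMod p) W] [Finite W]

/-- the planes of `W`. -/
abbrev Pl (p : ℕ) [Fact p.Prime] (W : Type*) [AddCommGroup W] [Module (ZMod p) W] : Type _ :=
  {U : Submodule (ZMod p) W // Module.finrank (ZMod p) U = 2}

/-- the independent pairs of `W`. -/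
abbrev Om (p : ℕ) [Fact p.Prime] (W : Type*) [AddCommGroup W] [Module (ZMod p) W] : Type _ :=
  {s : Fin 2 → W // LinearIndependent (ZMod p) s}

/-- the plane spanned by an independent pair. -/
noncomputable def spanPl (s : Om p W) : Pl p W :=
  ⟨Submodule.span (ZMod p) (Set.range s.1), by
    have := finrank_span_eq_card s.2
    simpa using this⟩

/-- the fibre of `spanPl` over a plane `U` is the set of independent pairs of `U`. -/
noncomputable def fibreEquiv (U : Pl p W) :
    {s : Om p W // spanPl s = U} ≃ {t : Fin 2 → U.1 // LinearIndependent (ZMod p) t} where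
  toFun s := ⟨fun i => ⟨s.1.1 i, by
      have h : Submodule.span (ZMod p) (Set.range s.1.1) = U.1 := congrArg Subtype.val s.2
      rw [← h]
      exact Submodule.subset_span (Set.mem_range_self i)⟩, by
    apply LinearIndependent.of_comp U.1.subtype
    exact s.1.2⟩
  invFun t := ⟨⟨fun i => (t.1 i : W), t.2.map' U.1.subtype (Submodule.ker_subtype _)⟩, by
    apply Subtype.ext
    show Submodule.span (ZMod p) (Set.range (fun i => (t.1 i : W))) = U.1
    have h1 : Submodule.span (ZMod p) (Set.range t.1) = ⊤ := by
      apply t.2.span_eq_top_of_card_eq_finrank'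
      rw [U.2]; simp
    have h2 : Set.range (fun i => (t.1 i : W)) = U.1.subtype '' Set.range t.1 := by
      rw [← Set.range_comp]; rfl
    rw [h2, ← Submodule.map_span, h1, Submodule.map_top, Submodule.range_subtype]⟩
  left_inv s := by
    apply Subtype.ext
    apply Subtype.ext
    rfl
  right_inv t := by
    apply Subtype.ext
    rfl

theorem card_planes {n : ℕ} (hW : Nat.card W = p ^ n) (hn : 2 ≤ n) :
    Nat.card (Pl p W) * ((p ^ 2 - 1) * (p ^ 2 - p)) = (p ^ n - 1) * (p ^ n - p) := by
  classical
  have hfr : Module.finrank (ZMod p) W = n := by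
    have h := Module.natCard_eq_pow_finrank (K := ZMod p) (V := W)
    rw [hW, Nat.card_zmod] at h
    exact (Nat.pow_right_injective hp.out.two_le h).symm
  have h1 : Nat.card (Om p W) = (p ^ n - 1) * (p ^ n - p) := by
    have := card_linearIndependent (K := ZMod p) (V := W) (k := 2) (by rw [hfr]; exact hn)
    rw [this, Fin.prod_univ_two, hfr, ZMod.card]
    simp
  have h2 : ∀ U : Pl p W, Nat.card {s : Om p W // spanPl s = U} = (p ^ 2 - 1) * (p ^ 2 - p) := by
    intro U
    rw [Nat.card_congr (fibreEquiv U)]
    have := card_linearIndependent (K := ZMod p) (V := U.1) (k := 2) (by rw [U.2])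
    rw [this, Fin.prod_univ_two, U.2, ZMod.card]
    simp
  rw [← h1, Nat.card_congr (Equiv.sigmaFiberEquiv (spanPl (p := p) (W := W))).symm]
  have : Finite (Pl p W) := inferInstance
  have := Fintype.ofFinite (Pl p W)
  rw [Nat.card_sigma]
  simp_rw [h2]
  rw [Finset.sum_const, Finset.card_univ, Nat.card_eq_fintype_card]
  rfl

end Cfsg.Agent.Lib.Helper22.EqSylB
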