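import Mathlib
import Cfsg.Agent.Lib.Helper22.EqSylA
import Cfsg.Agent.Lib.Helper22.EqSylB

set_option autoImplicit false
set_option linter.unusedSectionVars false
set_option linter.unusedVariables false

/-! Transitivity on planes: the divisibility. -/

namespace Cfsg.Agent.Lib.Helper22.EqSylC

open Module Cfsg.Agent.Lib.Helper22.EqSylA Cfsg.Agent.Lib.Helper22.EqSylB

variable {p : ℕ} [hp : Fact p.Prime] {W : Type*} [AddCommGroup W] [Module (ZMod p) W] [Finite W]
  {Γ : Type*} [Group Γ] [Finite Γ]

theorem card_toZMod (U : AddSubgroup W) :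
    Nat.card (AddSubgroup.toZModSubmodule p U) = Nat.card U :=
  Nat.card_congr (Equiv.subtypeEquivRight (fun w => AddSubgroup.mem_toZModSubmodule p))

theorem finrank_eq_two_iff (S : Submodule (ZMod p) W) :
    Module.finrank (ZMod p) S = 2 ↔ Nat.card S = p ^ 2 := by
  have h := Module.natCard_eq_pow_finrank (K := ZMod p) (V := S)
  rw [Nat.card_zmod] at h
  rw [h]
  constructor
  · intro h2; rw [h2]
  · intro h2; exact Nat.pow_right_injective hp.out.two_le h2

/-- additive subgroups of order `p ^ 2` are the planes. -/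
noncomputable def planeEquiv : {U : AddSubgroup W // Nat.card U = p ^ 2} ≃ Pl p W where
  toFun U := ⟨AddSubgroup.toZModSubmodule p U.1, by
    rw [finrank_eq_two_iff, card_toZMod]; exact U.2⟩
  invFun S := ⟨(AddSubgroup.toZModSubmodule p).symm S.1, by
    have h := card_toZMod (p := p) ((AddSubgroup.toZModSubmodule p).symm S.1)
    rw [OrderIso.apply_symm_apply] at h
    rw [← h, ← finrank_eq_two_iff]; exact S.2⟩
  left_inv U := by
    apply Subtype.ext
    exact OrderIso.symm_apply_apply _ _
  right_inv S := by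
    apply Subtype.ext
    exact OrderIso.apply_symm_apply _ _

/-- the action on additive subgroups. -/
@[instance_reducible] def act (ρ : Γ →* AddMonoid.End W) : MulAction Γ (AddSubgroup W) where
  smul g U := U.map (show W →+ W from ρ g)
  one_smul U := by
    show U.map (show W →+ W from ρ 1) = U
    rw [map_one]
    exact AddSubgroup.map_id U
  mul_smul g h U := by
    show U.map (show W →+ W from ρ (g * h)) =
      (U.map (show W →+ W from ρ h)).map (show W →+ W from ρ g)
    rw [AddSubgroup.map_map, map_mul]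
    rfl

theorem card_map_rho (ρ : Γ →* AddMonoid.End W) (g : Γ) (U : AddSubgroup W) :
    Nat.card (U.map (show W →+ W from ρ g)) = Nat.card U :=
  AddSubgroup.card_map_of_injective (rho_injective ρ g)

theorem planes_dvd {n : ℕ} (hW : Nat.card W = p ^ n) (hn : 2 ≤ n) (ρ : Γ →* AddMonoid.End W)
    (htr2 : ∀ U U' : AddSubgroup W, Nat.card U = p ^ 2 → Nat.card U' = p ^ 2 →
      ∃ g : Γ, U.map (show W →+ W from ρ g) = U')
    (z : (ZMod p)ˣ →* Γ) (hz : ∀ (k : (ZMod p)ˣ) (w : W), ρ (z k) w = (k : ZMod p) • w) :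
    (p ^ n - 1) * (p ^ n - p) * (p - 1) ∣ Nat.card Γ * ((p ^ 2 - 1) * (p ^ 2 - p)) := by
  classical
  have hp2 : 2 ≤ p := hp.out.two_le
  have hcount := card_planes (p := p) (W := W) hW hn
  -- there is a plane
  have hpos : 0 < (p ^ n - 1) * (p ^ n - p) := by
    have h1 : p ^ 2 ≤ p ^ n := Nat.pow_le_pow_right hp.out.pos hn
    have h2 : p < p ^ 2 := by nlinarith
    apply Nat.mul_pos <;> omega
  have hne : Nonempty (Pl p W) := by
    by_contra hcon
    rw [not_nonempty_iff] at hcon
    rw [Nat.card_of_isEmpty, zero_mul] at hcount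
    omega
  obtain ⟨S0⟩ := hne
  let U0 := (planeEquiv (p := p) (W := W)).symm S0
  let _ := act ρ
  have hsmul : ∀ (g : Γ) (U : AddSubgroup W), g • U = U.map (show W →+ W from ρ g) :=
    fun g U => rfl
  have horb : MulAction.orbit Γ U0.1 = {U : AddSubgroup W | Nat.card U = p ^ 2} := by
    ext U
    constructor
    · rintro ⟨g, rfl⟩
      show Nat.card (g • U0.1 : AddSubgroup W) = p ^ 2
      rw [hsmul, card_map_rho]; exact U0.2
    · intro hU
      obtain ⟨g, hg⟩ := htr2 U0.1 U U0.2 hU
      exact ⟨g, hg⟩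
  have hcardorb : Nat.card (MulAction.orbit Γ U0.1) = Nat.card (Pl p W) := by
    rw [horb]
    exact Nat.card_congr planeEquiv
  -- scalars stabilise
  have hzstab : ∀ k : (ZMod p)ˣ, z k ∈ MulAction.stabilizer Γ U0.1 := by
    intro k
    rw [MulAction.mem_stabilizer_iff, hsmul]
    have hle : ∀ (k : (ZMod p)ˣ) (U : AddSubgroup W),
        U.map (show W →+ W from ρ (z k)) ≤ U := by
      intro k U w hw
      obtain ⟨u, hu, rfl⟩ := hw
      show ρ (z k) u ∈ U
      rw [hz]
      have : ((k : ZMod p)) • u = ((k : ZMod p).val) • u := by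
        rw [← Nat.cast_smul_eq_nsmul (ZMod p), ZMod.natCast_zmod_val]
      rw [this]
      exact U.nsmul_mem hu _
    apply le_antisymm (hle k _)
    intro w hw
    refine ⟨ρ (z k⁻¹) w, hle k⁻¹ _ ⟨w, hw, rfl⟩, ?_⟩
    show ρ (z k) (ρ (z k⁻¹) w) = w
    rw [map_inv]
    exact rho_apply_inv ρ (z k) w
  have hW1 : Nontrivial W := by
    have : 1 < Nat.card W := by
      rw [hW]; exact Nat.one_lt_pow (by omega) hp.out.one_lt
    exact Finite.one_lt_card_iff_nontrivial.mp this
  have hzinj : Function.Injective z := by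
    intro k k' hkk
    obtain ⟨w, hw⟩ := exists_ne (0 : W)
    have h1 : (k : ZMod p) • w = (k' : ZMod p) • w := by rw [← hz, ← hz, hkk]
    have h2 : ((k : ZMod p) - (k' : ZMod p)) • w = 0 := by rw [sub_smul, h1, sub_self]
    rcases smul_eq_zero.mp h2 with h3 | h3
    · exact Units.ext (sub_eq_zero.mp h3)
    · exact absurd h3 hw
  let z' : (ZMod p)ˣ →* MulAction.stabilizer Γ U0.1 := z.codRestrict _ hzstab
  have hz'inj : Function.Injective z' := by
    intro k k' hkk
    apply hzinj
    exact congrArg Subtype.val hkk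
  have hdvd1 : p - 1 ∣ Nat.card (MulAction.stabilizer Γ U0.1) := by
    have := Subgroup.card_dvd_of_injective z' hz'inj
    rwa [Nat.card_eq_fintype_card, ZMod.card_units] at this
  have hos : Nat.card (Pl p W) * Nat.card (MulAction.stabilizer Γ U0.1) = Nat.card Γ := by
    rw [← hcardorb, Nat.card_coe_set_eq, ← MulAction.index_stabilizer, mul_comm]
    exact Subgroup.card_mul_index _
  obtain ⟨m, hm⟩ := hdvd1
  refine ⟨m, ?_⟩
  rw [← hos, hm, ← hcount]
  ring

end Cfsg.Agent.Lib.Helper22.EqSylC
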