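import Mathlib

set_option autoImplicit false

namespace Cfsg.Agent.Lib.Helper22.ExtPrimB

variable {G : Type*} [Group G]

/-- conjugation action of `G` on a normal subgroup `N`, as endomorphisms of `Additive N`. -/
def conjEnd (N : Subgroup G) [hN : N.Normal] : G →* AddMonoid.End (Additive N) where
  toFun g := AddMonoidHom.mk'
    (fun x => Additive.ofMul (⟨g * (Additive.toMul x : N).1 * g⁻¹,
      hN.conj_mem _ (Additive.toMul x : N).2 g⟩ : N))
    (by
      intro a b
      apply Additive.toMul.injective
      apply Subtype.ext
      show g * ((Additive.toMul a : N).1 * (Additive.toMul b : N).1) * g⁻¹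
        = (g * (Additive.toMul a : N).1 * g⁻¹) * (g * (Additive.toMul b : N).1 * g⁻¹)
      group)
  map_one' := by
    refine DFunLike.ext _ _ (fun x => ?_)
    apply Additive.toMul.injective
    apply Subtype.ext
    show (1 : G) * (Additive.toMul x : N).1 * (1 : G)⁻¹ = (Additive.toMul x : N).1
    group
  map_mul' g h := by
    refine DFunLike.ext _ _ (fun x => ?_)
    apply Additive.toMul.injective
    apply Subtype.ext
    show (g * h) * (Additive.toMul x : N).1 * (g * h)⁻¹
      = g * (h * (Additive.toMul x : N).1 * h⁻¹) * g⁻¹
    group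

lemma conjEnd_apply (N : Subgroup G) [hN : N.Normal] (g : G) (x : Additive N) :
    ((Additive.toMul (conjEnd N g x) : N) : G) = g * (Additive.toMul x : N).1 * g⁻¹ := rfl

end Cfsg.Agent.Lib.Helper22.ExtPrimB
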