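import Mathlib
import Cfsg.Agent.Lib.Helper1.Nilp

set_option autoImplicit false
set_option linter.unusedSectionVars false

namespace Cfsg.Agent.Lib.Helper22.ExtPrimD

open MulAction

variable {H : Type*} [Group H] {O : Type*} [MulAction H O] [FaithfulSMul H O]

/-- an abelian normal nontrivial subgroup of a faithful primitive group is transitive,
semiregular and self-centralizing. -/
theorem abelian_normal_regular (hprim : IsPreprimitive H O) (Z : Subgroup H) [hZn : Z.Normal]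
    (hZc : ∀ a ∈ Z, ∀ b ∈ Z, a * b = b * a) (hZ1 : Z ≠ ⊥) :
    IsPretransitive Z O ∧ (∀ o : O, ∀ z ∈ Z, z • o = o → z = 1) ∧
      (∀ c : H, (∀ z ∈ Z, c * z = z * c) → c ∈ Z) := by
  have htr : IsPretransitive Z O := by
    apply IsQuasiPreprimitive.isPretransitive_of_normal (G := H) (N := Z)
    intro hfix
    apply hZ1
    rw [Subgroup.eq_bot_iff_forall]
    intro z hz
    apply FaithfulSMul.eq_of_smul_eq_smul (α := O)
    intro o
    rw [one_smul]
    have : o ∈ fixedPoints Z O := by rw [hfix]; trivial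
    exact this ⟨z, hz⟩
  have hsemi : ∀ o : O, ∀ z ∈ Z, z • o = o → z = 1 := by
    intro o z hz hzo
    apply FaithfulSMul.eq_of_smul_eq_smul (α := O)
    intro o'
    obtain ⟨z', hz'⟩ := MulAction.exists_smul_eq Z o o'
    have hz'' : (z' : H) • o = o' := hz'
    rw [one_smul, ← hz'', ← mul_smul, hZc z hz z'.1 z'.2, mul_smul, hzo]
  refine ⟨htr, hsemi, ?_⟩
  intro c hc
  obtain ⟨z0, hz0⟩ := Subgroup.ne_bot_iff_exists_ne_one.1 hZ1
  have hz01 : (z0 : H) ≠ 1 := fun h => hz0 (Subtype.ext h)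
  obtain ⟨o, ho⟩ : ∃ o : O, (z0 : H) • o ≠ o := by
    by_contra hcon
    push Not at hcon
    apply hz01
    apply FaithfulSMul.eq_of_smul_eq_smul (α := O)
    intro o
    rw [one_smul]; exact hcon o
  obtain ⟨z, hz⟩ := MulAction.exists_smul_eq Z o (c • o)
  have hz' : (z : H) • o = c • o := hz
  have hw : (z : H)⁻¹ * c = 1 := by
    apply FaithfulSMul.eq_of_smul_eq_smul (α := O)
    intro o'
    obtain ⟨z', hz'2⟩ := MulAction.exists_smul_eq Z o o'
    have hz'' : (z' : H) • o = o' := hz'2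
    have hcomm : ((z : H)⁻¹ * c) * z' = z' * ((z : H)⁻¹ * c) := by
      rw [mul_assoc, hc z'.1 z'.2, ← mul_assoc, ← mul_assoc,
        hZc _ (inv_mem z.2) z'.1 z'.2]
    rw [one_smul, ← hz'', ← mul_smul, hcomm, mul_smul]
    congr 1
    rw [mul_smul, ← hz', ← mul_smul, inv_mul_cancel, one_smul]
  have : c = z := by
    have : c = (z : H) * ((z : H)⁻¹ * c) := by group
    rw [this, hw, mul_one]
  rw [this]; exact z.2

/-- Lemma P: a nontrivial nilpotent normal subgroup of a faithful primitive group is abelian,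
regular, self-centralizing and minimal normal. -/
theorem nilpotent_normal (hprim : IsPreprimitive H O) (F : Subgroup H) [hFn : F.Normal]
    [hFnil : Group.IsNilpotent F] (hF1 : F ≠ ⊥) :
    (∀ a ∈ F, ∀ b ∈ F, a * b = b * a) ∧ IsPretransitive F O ∧
      (∀ o : O, ∀ z ∈ F, z • o = o → z = 1) ∧
      (∀ c : H, (∀ z ∈ F, c * z = z * c) → c ∈ F) ∧
      (∀ K : Subgroup H, K.Normal → K ≤ F → K = ⊥ ∨ K = F) := by
  -- Z = Z(F) as a subgroup of H
  let Z : Subgroup H := F ⊓ Subgroup.centralizer (F : Set H)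
  have hZmem : ∀ z, z ∈ Z ↔ z ∈ F ∧ ∀ f ∈ F, f * z = z * f := by
    intro z
    rw [Subgroup.mem_inf, Subgroup.mem_centralizer_iff]
    rfl
  have hZn : Z.Normal := by
    refine ⟨fun z hz g => ?_⟩
    rw [hZmem] at hz ⊢
    refine ⟨hFn.conj_mem z hz.1 g, fun f hf => ?_⟩
    have h1 := hz.2 (g⁻¹ * f * g) (by
      have := hFn.conj_mem f hf g⁻¹
      rwa [inv_inv] at this)
    calc f * (g * z * g⁻¹) = g * ((g⁻¹ * f * g) * z) * g⁻¹ := by group
      _ = g * (z * (g⁻¹ * f * g)) * g⁻¹ := by rw [h1]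
      _ = g * z * g⁻¹ * f := by group
  have hZ1 : Z ≠ ⊥ := by
    have h1 : (⊤ : Subgroup F) ≠ ⊥ := by
      intro h
      apply hF1
      rw [Subgroup.eq_bot_iff_forall]
      intro x hx
      have : (⟨x, hx⟩ : F) ∈ (⊤ : Subgroup F) := trivial
      rw [h, Subgroup.mem_bot] at this
      exact congrArg Subtype.val this
    have h2 := Cfsg.Agent.Lib.Helper1.normal_inf_center_ne_bot (G := F) ⊤ h1
    rw [top_inf_eq] at h2
    obtain ⟨z, hz⟩ := Subgroup.ne_bot_iff_exists_ne_one.1 h2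
    intro hbot
    have hzZ : (z.1 : H) ∈ Z := by
      rw [hZmem]
      refine ⟨z.1.2, fun f hf => ?_⟩
      have := Subgroup.mem_center_iff.1 z.2 ⟨f, hf⟩
      exact congrArg Subtype.val this
    rw [hbot, Subgroup.mem_bot] at hzZ
    apply hz
    apply Subtype.ext
    apply Subtype.ext
    exact hzZ
  have hZc : ∀ a ∈ Z, ∀ b ∈ Z, a * b = b * a := by
    intro a ha b hb
    exact ((hZmem b).1 hb).2 a ((hZmem a).1 ha).1
  obtain ⟨-, -, hZself⟩ := abelian_normal_regular hprim Z hZc hZ1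
  have hFZ : F ≤ Z := by
    intro f hf
    apply hZself
    intro z hz
    exact ((hZmem z).1 hz).2 f hf
  have hFc : ∀ a ∈ F, ∀ b ∈ F, a * b = b * a := fun a ha b hb =>
    hZc a (hFZ ha) b (hFZ hb)
  obtain ⟨hFtr, hFsemi, hFself⟩ := abelian_normal_regular hprim F hFc hF1
  refine ⟨hFc, hFtr, hFsemi, hFself, ?_⟩
  intro K hKn hKF
  by_cases hK1 : K = ⊥
  · exact Or.inl hK1
  right
  have hKc : ∀ a ∈ K, ∀ b ∈ K, a * b = b * a := fun a ha b hb => hFc a (hKF ha) b (hKF hb)
  obtain ⟨hKtr, -, -⟩ := abelian_normal_regular hprim K hKc hK1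
  apply le_antisymm hKF
  intro f hf
  obtain ⟨k0, hk0⟩ := Subgroup.ne_bot_iff_exists_ne_one.1 hK1
  have hk01 : (k0 : H) ≠ 1 := fun h => hk0 (Subtype.ext h)
  obtain ⟨o, ho⟩ : ∃ o : O, (k0 : H) • o ≠ o := by
    by_contra hcon
    push Not at hcon
    apply hk01
    apply FaithfulSMul.eq_of_smul_eq_smul (α := O)
    intro o
    rw [one_smul]; exact hcon o
  obtain ⟨k, hk⟩ := MulAction.exists_smul_eq K o (f • o)
  have hk' : (k : H) • o = f • o := hk
  have h1 : (k : H)⁻¹ * f = 1 := by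
    apply hFsemi o _ (mul_mem (inv_mem (hKF k.2)) hf)
    rw [mul_smul, ← hk', ← mul_smul, inv_mul_cancel, one_smul]
  have : f = k := by
    have : f = (k : H) * ((k : H)⁻¹ * f) := by group
    rw [this, h1, mul_one]
  rw [this]; exact k.2

end Cfsg.Agent.Lib.Helper22.ExtPrimD
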