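import Mathlib
import Cfsg.Agent.Lib.Helper22.ExtPrimB
import Cfsg.Agent.Lib.Helper22.ExtPrimD

set_option autoImplicit false
set_option linter.unusedSectionVars false

namespace Cfsg.Agent.Lib.Helper22.ExtPrimE

open MulAction Cfsg.Agent.Lib.Helper22.ExtPrimB Cfsg.Agent.Lib.Helper22.ExtPrimD

variable {H : Type*} [Group H]

/-- an abelian minimal normal subgroup is elementary abelian. -/
theorem exponent_of_minimal [Finite H] (F : Subgroup H) [hFn : F.Normal]
    (hFc : ∀ a ∈ F, ∀ b ∈ F, a * b = b * a) (hF1 : F ≠ ⊥)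
    (hmin : ∀ K : Subgroup H, K.Normal → K ≤ F → K = ⊥ ∨ K = F) :
    ∃ p : ℕ, p.Prime ∧ (∀ x ∈ F, x ^ p = 1) ∧ ∃ e : ℕ, Nat.card F = p ^ e := by
  have hNne : Nat.card F ≠ 1 := by
    intro h
    rw [Subgroup.card_eq_one] at h
    exact hF1 h
  set p := (Nat.card F).minFac with hp
  have hpp : p.Prime := Nat.minFac_prime hNne
  let M : Subgroup H :=
    { carrier := {x | x ∈ F ∧ x ^ p = 1}
      one_mem' := ⟨one_mem F, one_pow p⟩
      mul_mem' := by
        rintro x y ⟨hx, hxp⟩ ⟨hy, hyp⟩
        refine ⟨mul_mem hx hy, ?_⟩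
        have hc : Commute x y := hFc x hx y hy
        rw [hc.mul_pow, hxp, hyp, one_mul]
      inv_mem' := by
        rintro x ⟨hx, hxp⟩
        exact ⟨inv_mem hx, by rw [inv_pow, hxp, inv_one]⟩ }
  have hMF : M ≤ F := fun x hx => hx.1
  have hMn : M.Normal := by
    refine ⟨fun u hu g => ?_⟩
    refine ⟨hFn.conj_mem u hu.1 g, ?_⟩
    rw [conj_pow, hu.2]; group
  have hM1 : M ≠ ⊥ := by
    have : Fact p.Prime := ⟨hpp⟩
    obtain ⟨x, hx⟩ := exists_prime_orderOf_dvd_card' (G := F) p (Nat.minFac_dvd _)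
    intro hbot
    have hxM : (x : H) ∈ M := by
      refine ⟨x.2, ?_⟩
      have := pow_orderOf_eq_one x
      rw [hx] at this
      have h2 := congrArg Subtype.val this
      simpa using h2
    rw [hbot, Subgroup.mem_bot] at hxM
    have : x = 1 := Subtype.ext hxM
    rw [this, orderOf_one] at hx
    exact hpp.one_lt.ne hx
  have hMeq : M = F := (hmin M hMn hMF).resolve_left hM1
  have hexp : ∀ x ∈ F, x ^ p = 1 := by
    intro x hx
    rw [← hMeq] at hx
    exact hx.2
  refine ⟨p, hpp, hexp, ?_⟩
  have : Fact p.Prime := ⟨hpp⟩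
  have hpg : IsPGroup p F := by
    intro x
    refine ⟨1, ?_⟩
    rw [pow_one]
    apply Subtype.ext
    rw [Subgroup.coe_pow]
    exact hexp x x.2
  exact IsPGroup.iff_card.1 hpg

/-- a faithful primitive group with nontrivial centre has prime order. -/
theorem card_prime_of_center [Finite H] {O : Type*} [MulAction H O] [FaithfulSMul H O]
    (hprim : IsPreprimitive H O) (hZ : Subgroup.center H ≠ ⊥) : (Nat.card H).Prime := by
  have hZc : ∀ a ∈ Subgroup.center H, ∀ b ∈ Subgroup.center H, a * b = b * a := by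
    intro a ha b _
    exact (Subgroup.mem_center_iff.1 ha b).symm
  obtain ⟨htr, hsemi, hself⟩ := abelian_normal_regular hprim (Subgroup.center H) hZc hZ
  have htop : ∀ c : H, c ∈ Subgroup.center H := by
    intro c
    apply hself
    intro z hz
    exact Subgroup.mem_center_iff.1 hz c
  obtain ⟨z0, hz0⟩ := Subgroup.ne_bot_iff_exists_ne_one.1 hZ
  have hz01 : (z0 : H) ≠ 1 := fun h => hz0 (Subtype.ext h)
  obtain ⟨o, ho⟩ : ∃ o : O, (z0 : H) • o ≠ o := by
    by_contra hcon
    push Not at hcon
    apply hz01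
    apply FaithfulSMul.eq_of_smul_eq_smul (α := O)
    intro o
    rw [one_smul]; exact hcon o
  have hnt : Nontrivial O := ⟨⟨_, _, ho⟩⟩
  have hco : IsCoatom (stabilizer H o) :=
    IsPreprimitive.isCoatom_stabilizer_of_isPreprimitive (G := H) (X := O) o
  have hst : stabilizer H o = ⊥ := by
    rw [Subgroup.eq_bot_iff_forall]
    intro c hc
    exact hsemi o c (htop c) hc
  rw [hst] at hco
  have hHnt : Nat.card H ≠ 1 := by
    intro h
    rw [Nat.card_eq_one_iff_unique] at h
    exact hz01 (h.1.elim _ _)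
  set p := (Nat.card H).minFac with hp
  have hpp : p.Prime := Nat.minFac_prime hHnt
  have : Fact p.Prime := ⟨hpp⟩
  obtain ⟨x, hx⟩ := exists_prime_orderOf_dvd_card' (G := H) p (Nat.minFac_dvd _)
  have hx1 : x ≠ 1 := by
    intro h
    rw [h, orderOf_one] at hx
    exact hpp.one_lt.ne hx
  have hzt : Subgroup.zpowers x = ⊤ := by
    apply hco.2
    rw [bot_lt_iff_ne_bot]
    intro h
    apply hx1
    have : x ∈ Subgroup.zpowers x := Subgroup.mem_zpowers x
    rw [h, Subgroup.mem_bot] at this
    exact this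
  have : Nat.card H = p := by
    rw [← hx, ← Nat.card_zpowers, hzt]
    exact (Nat.card_congr Subgroup.topEquiv.toEquiv).symm
  rw [this]; exact hpp

/-- semiregular counting. -/
theorem card_dvd_card_sub_one {K : Type*} [Group K] [Finite K] {Ω : Type*} [Fintype Ω]
    [MulAction K Ω] (α : Ω) (hfix : ∀ k : K, k • α = α)
    (hsemi : ∀ k : K, ∀ ω : Ω, ω ≠ α → k • ω = ω → k = 1) :
    Nat.card K ∣ Fintype.card Ω - 1 := by
  classical
  let X := {ω : Ω // ω ≠ α}
  let inst : MulAction K X :=
    { smul := fun k x => ⟨k • x.1, fun h => x.2 (by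
        have := congrArg (fun y => k⁻¹ • y) h
        simp only [inv_smul_smul] at this
        rw [this, inv_smul_eq_iff, hfix])⟩
      one_smul := fun x => Subtype.ext (one_smul K x.1)
      mul_smul := fun k k' x => Subtype.ext (mul_smul k k' x.1) }
  have hsm : ∀ (k : K) (x : X), ((k • x : X) : Ω) = k • x.1 := fun _ _ => rfl
  have key : Nat.card K ∣ Nat.card X * 1 := by
    have e := MulAction.selfEquivSigmaOrbitsQuotientStabilizer K X
    have : Fintype (Quotient (MulAction.orbitRel K X)) := Fintype.ofFinite _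
    rw [Nat.card_congr e, Nat.card_sigma, Finset.sum_mul]
    apply Finset.dvd_sum
    intro ω _
    have h := Subgroup.card_eq_card_quotient_mul_card_subgroup (MulAction.stabilizer K ω.out)
    have hst : MulAction.stabilizer K ω.out = ⊥ := by
      rw [Subgroup.eq_bot_iff_forall]
      intro k hk
      have h1 : k • ω.out = ω.out := hk
      have h2 := congrArg Subtype.val h1
      rw [hsm] at h2
      exact hsemi k _ ω.out.2 h2
    have hc : Nat.card (MulAction.stabilizer K ω.out) = 1 := by
      rw [hst, Subgroup.card_bot]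
    rw [hc] at h
    rw [← h]
  rw [mul_one] at key
  have hX : Nat.card X = Fintype.card Ω - 1 := by
    rw [Nat.card_eq_fintype_card]
    exact Fintype.card_subtype_compl (fun ω => ω = α) |>.trans (by
      rw [Fintype.card_subtype_eq])
  rwa [hX] at key

end Cfsg.Agent.Lib.Helper22.ExtPrimE
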