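import Mathlib
import Cfsg.Agent.Lib.Helper22.EqSylA
import Cfsg.Agent.Lib.Helper22.ExtPrimE
import Cfsg.Agent.Lib.Helper1.MinNormal

set_option autoImplicit false
set_option linter.unusedSectionVars false
set_option linter.unusedVariables false

/-! No solvable `{5,13}`-group of order divisible by `65` acts faithfully on `3 ^ 4`. -/

namespace Cfsg.Agent.Lib.Helper22.EqSylD

open Cfsg.Agent.Lib.Helper22.EqSylA

variable {W : Type*} [AddCommGroup W] [Finite W] {L : Type*} [Group L] [Finite L]

/-- fixed points of `g`. -/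
def fixW (ρ : L →* AddMonoid.End W) (g : L) : AddSubgroup W where
  carrier := {w | ρ g w = w}
  zero_mem' := map_zero _
  add_mem' := by
    intro a b ha hb
    have ha' : ρ g a = a := ha
    have hb' : ρ g b = b := hb
    show ρ g (a + b) = a + b
    rw [map_add, ha', hb']
  neg_mem' := by
    intro a ha
    have ha' : ρ g a = a := ha
    show ρ g (-a) = -a
    rw [map_neg, ha']

theorem mem_fixW (ρ : L →* AddMonoid.End W) (g : L) (w : W) : w ∈ fixW ρ g ↔ ρ g w = w := Iff.rfl

theorem card_fix_modEq (ρ : L →* AddMonoid.End W) (r : ℕ) [hr : Fact r.Prime] (g : L)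
    (hg : g ^ r = 1) : Nat.card W ≡ Nat.card (fixW ρ g) [MOD r] := by
  let _ : MulAction L W := MulAction.compHom W ρ
  have hsmul : ∀ (h : L) (w : W), h • w = ρ h w := fun h w => rfl
  have hP : IsPGroup r (Subgroup.zpowers g) := by
    have h1 : Nat.card (Subgroup.zpowers g) = orderOf g := Nat.card_zpowers g
    have h2 : orderOf g ∣ r := orderOf_dvd_of_pow_eq_one hg
    rcases (Nat.dvd_prime hr.out).1 h2 with h3 | h3
    · exact IsPGroup.of_card (n := 0) (by rw [h1, h3, pow_zero])
    · exact IsPGroup.of_card (n := 1) (by rw [h1, h3, pow_one])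
  have h := hP.card_modEq_card_fixedPoints W
  have e : MulAction.fixedPoints (Subgroup.zpowers g) W ≃ fixW ρ g := by
    refine Equiv.subtypeEquivRight (fun w => ?_)
    constructor
    · intro hw
      have := hw ⟨g, Subgroup.mem_zpowers g⟩
      exact this
    · intro hw h
      have hle : Subgroup.zpowers g ≤ MulAction.stabilizer L w := by
        rw [Subgroup.zpowers_le]
        exact hw
      exact hle h.2
  rwa [Nat.card_congr e] at h

theorem card_fix_pow (ρ : L →* AddMonoid.End W) (hW : Nat.card W = 81) (g : L) :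
    ∃ k, k ≤ 4 ∧ Nat.card (fixW ρ g) = 3 ^ k := by
  have h1 : Nat.card (fixW ρ g) ∣ 3 ^ 4 := by
    have := AddSubgroup.card_addSubgroup_dvd_card (fixW ρ g)
    rw [hW] at this
    exact this
  exact (Nat.dvd_prime_pow Nat.prime_three).1 h1

theorem eq_one_of_fix_top (ρ : L →* AddMonoid.End W) (hinj : Function.Injective ρ) (g : L)
    (h : Nat.card (fixW ρ g) = Nat.card W) : g = 1 := by
  have h1 : fixW ρ g = ⊤ := (AddSubgroup.card_eq_iff_eq_top _).1 h
  apply hinj
  rw [map_one]
  refine DFunLike.ext _ _ (fun w => ?_)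
  have : w ∈ fixW ρ g := by rw [h1]; exact AddSubgroup.mem_top w
  exact this

theorem fix_five (ρ : L →* AddMonoid.End W) (hinj : Function.Injective ρ) (hW : Nat.card W = 81)
    (g : L) (hg : g ^ 5 = 1) (hg1 : g ≠ 1) (w : W) (hw : ρ g w = w) : w = 0 := by
  have : Fact (Nat.Prime 5) := ⟨by norm_num⟩
  have h1 := card_fix_modEq ρ 5 g hg
  obtain ⟨k, hk, hk2⟩ := card_fix_pow ρ hW g
  rw [hW, hk2] at h1
  have h3 : k = 0 := by
    interval_cases k
    · rfl
    · exact absurd h1 (by decide)
    · exact absurd h1 (by decide)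
    · exact absurd h1 (by decide)
    · exfalso
      apply hg1
      apply eq_one_of_fix_top ρ hinj
      rw [hk2, hW]; norm_num
  rw [h3, pow_zero] at hk2
  have h4 : fixW ρ g = ⊥ := AddSubgroup.eq_bot_of_card_eq _ hk2
  have : w ∈ fixW ρ g := hw
  rw [h4] at this
  exact this

theorem fix_thirteen (ρ : L →* AddMonoid.End W) (hinj : Function.Injective ρ)
    (hW : Nat.card W = 81)
    (g : L) (hg : g ^ 13 = 1) (hg1 : g ≠ 1) : Nat.card (fixW ρ g) = 3 := by
  have : Fact (Nat.Prime 13) := ⟨by norm_num⟩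
  have h1 := card_fix_modEq ρ 13 g hg
  obtain ⟨k, hk, hk2⟩ := card_fix_pow ρ hW g
  rw [hW, hk2] at h1
  have h3 : k = 1 := by
    interval_cases k
    · exact absurd h1 (by decide)
    · rfl
    · exact absurd h1 (by decide)
    · exact absurd h1 (by decide)
    · exfalso
      apply hg1
      apply eq_one_of_fix_top ρ hinj
      rw [hk2, hW]; norm_num
  rw [hk2, h3, pow_one]

/-- a subgroup of order 3 of an elementary abelian 3-group. -/
theorem three_elements (h3 : ∀ w : W, 3 • w = 0) (U : AddSubgroup W) (hU : Nat.card U = 3)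
    (u : W) (hu : u ∈ U) (hu0 : u ≠ 0) (w : W) (hw : w ∈ U) : w = 0 ∨ w = u ∨ w = -u := by
  have ho : addOrderOf u = 3 := addOrderOf_eq_prime (h3 u) hu0
  have hle : AddSubgroup.zmultiples u ≤ U := by
    rw [AddSubgroup.zmultiples_le]; exact hu
  have hc : Nat.card (AddSubgroup.zmultiples u) = 3 := by
    rw [Nat.card_zmultiples, ho]
  have heq : AddSubgroup.zmultiples u = U :=
    AddSubgroup.eq_of_le_of_card_ge hle (by rw [hc, hU])
  rw [← heq] at hw
  obtain ⟨k, rfl⟩ := AddSubgroup.mem_zmultiples_iff.mp hw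
  have h4 : k • u = (k % 3) • u := by
    conv_lhs => rw [← Int.emod_add_mul_ediv k 3, add_smul, mul_smul]
    have : (3 : ℤ) • u = 0 := by
      have := h3 u
      rw [← natCast_zsmul] at this
      exact this
    rw [smul_comm, this, smul_zero, add_zero]
  have h5 : 0 ≤ k % 3 := Int.emod_nonneg _ (by norm_num)
  have h6 : k % 3 < 3 := Int.emod_lt_of_pos _ (by norm_num)
  rw [h4]
  have h7 : k % 3 = 0 ∨ k % 3 = 1 ∨ k % 3 = 2 := by omega
  rcases h7 with h | h | h <;> rw [h]
  · left; simp
  · right; left; simp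
  · right; right
    have h8 : (3 : ℤ) • u = 0 := by
      have := h3 u
      rw [← natCast_zsmul] at this
      exact this
    have h9 : (2 : ℤ) • u + u = 0 := by
      have : (3 : ℤ) • u = (2 : ℤ) • u + u := by
        rw [show (3 : ℤ) = 2 + 1 by norm_num, add_smul, one_smul]
      rw [← this, h8]
    exact eq_neg_of_add_eq_zero_left h9

theorem odd_fix (ρ : L →* AddMonoid.End W) (h3 : ∀ w : W, 3 • w = 0) (y : L) (m : ℕ)
    (hm : Odd m) (hy : y ^ m = 1) (u : W) (hu0 : u ≠ 0) (h : ρ y u = u ∨ ρ y u = -u) :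
    ρ y u = u := by
  rcases h with h | h
  · exact h
  exfalso
  obtain ⟨j, rfl⟩ := hm
  have h1 : ρ (y ^ 2) u = u := by
    rw [sq, rho_mul_apply, h, map_neg, h, neg_neg]
  have h2 : ∀ i : ℕ, ρ ((y ^ 2) ^ i) u = u := by
    intro i
    induction i with
    | zero => rw [pow_zero, map_one]; rfl
    | succ i ih => rw [pow_succ, rho_mul_apply, h1, ih]
  have h4 : ρ (y ^ (2 * j + 1)) u = -u := by
    rw [pow_succ, pow_mul, rho_mul_apply, h, map_neg, h2]
  rw [hy, map_one] at h4
  have h5 : u = -u := h4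
  have h6 : 2 • u = 0 := by
    rw [two_smul]
    nth_rewrite 2 [h5]
    exact add_neg_cancel u
  have h7 : 3 • u = 2 • u + u := by
    rw [show 3 = 2 + 1 by norm_num, add_smul, one_smul]
  rw [h3, h6, zero_add] at h7
  exact hu0 h7.symm

/-- if `y` normalises fixed points of `x` (e.g. commutes), we get a contradiction. -/
theorem contra_of_preserve (ρ : L →* AddMonoid.End W) (hinj : Function.Injective ρ)
    (hW : Nat.card W = 81) (h3 : ∀ w : W, 3 • w = 0) (x y : L) (hx : x ^ 13 = 1) (hx1 : x ≠ 1)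
    (hy : y ^ 5 = 1) (hy1 : y ≠ 1)
    (hpres : ∀ u : W, ρ x u = u → ρ x (ρ y u) = ρ y u) : False := by
  have hc := fix_thirteen ρ hinj hW x hx hx1
  have hne : fixW ρ x ≠ ⊥ := by
    intro h
    rw [h, AddSubgroup.card_bot] at hc
    omega
  obtain ⟨⟨u, hu⟩, hu0'⟩ := (AddSubgroup.ne_bot_iff_exists_ne_zero).mp hne
  have hu0 : u ≠ 0 := fun h => hu0' (Subtype.ext h)
  have hu1 : ρ x u = u := hu
  have h1 : ρ y u ∈ fixW ρ x := hpres u hu1
  have h2 : ρ y u ≠ 0 := by
    intro h
    apply hu0
    exact rho_injective ρ y (by rw [h, map_zero])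
  rcases three_elements h3 _ hc u hu hu0 _ h1 with h | h
  · exact h2 h
  have h4 := odd_fix ρ h3 y 5 (by decide) hy u hu0 h
  exact hu0 (fix_five ρ hinj hW y hy hy1 u h4)

theorem no81 (ρ : L →* AddMonoid.End W) (hinj : Function.Injective ρ)
    (hW : Nat.card W = 81) (h3 : ∀ w : W, 3 • w = 0) (hsol : Group.IsSolvable L)
    (h5 : 5 ∣ Nat.card L) (h13 : 13 ∣ Nat.card L)
    (hL : ∀ r : ℕ, r.Prime → r ∣ Nat.card L → r = 5 ∨ r = 13) : False := by
  have f5 : Fact (Nat.Prime 5) := ⟨by norm_num⟩
  have f13 : Fact (Nat.Prime 13) := ⟨by norm_num⟩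
  have hnt : Nontrivial L := by
    apply Finite.one_lt_card_iff_nontrivial.mp
    have := Nat.le_of_dvd Nat.card_pos h5
    omega
  have := hsol
  obtain ⟨M, hMn, hM0, hmin⟩ := Cfsg.Agent.Lib.Helper1.exists_minimal_normal (G := L)
  obtain ⟨hMc, r, hr, hexp⟩ := Cfsg.Agent.Lib.Helper1.minimal_normal_of_solvable M hM0 hmin
  obtain ⟨m0, hm0M, hm01⟩ : ∃ m0 ∈ M, m0 ≠ 1 := by
    by_contra hcon
    push Not at hcon
    apply hM0
    rw [Subgroup.eq_bot_iff_forall]
    exact hcon
  have : Fact r.Prime := ⟨hr⟩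
  have hord : orderOf m0 = r := orderOf_eq_prime (hexp m0 hm0M) hm01
  have hrL : r ∣ Nat.card L := by rw [← hord]; exact orderOf_dvd_natCard m0
  obtain ⟨x13, hx13⟩ := exists_prime_orderOf_dvd_card' 13 h13
  obtain ⟨y5, hy5⟩ := exists_prime_orderOf_dvd_card' 5 h5
  have hcomm : ∀ a ∈ M, ∀ b ∈ M, a * b = b * a := by
    intro a ha b hb
    have := hMc.is_comm.comm ⟨a, ha⟩ ⟨b, hb⟩
    exact congrArg Subtype.val this
  rcases hL r hr hrL with h | h
  · -- r = 5
    subst h
    have hy1 : y5 ≠ 1 := by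
      intro h; rw [h, orderOf_one] at hy5; omega
    -- `M` acts semiregularly
    let _ : MulAction M W := MulAction.compHom W (ρ.comp M.subtype)
    have hsm : ∀ (m : M) (w : W), m • w = ρ m.1 w := fun m w => rfl
    have := Fintype.ofFinite W
    have hdvd : Nat.card M ∣ Fintype.card W - 1 := by
      apply Cfsg.Agent.Lib.Helper22.ExtPrimE.card_dvd_card_sub_one (0 : W)
      · intro k; rw [hsm, map_zero]
      · intro k w hw hk
        rw [hsm] at hk
        by_contra hk1
        have hk1' : k.1 ≠ 1 := fun h => hk1 (Subtype.ext h)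
        exact hw (fix_five ρ hinj hW k.1 (hexp k.1 k.2) hk1' w hk)
    rw [← Nat.card_eq_fintype_card, hW] at hdvd
    have hPM : IsPGroup 5 M := by
      intro m
      refine ⟨1, ?_⟩
      apply Subtype.ext
      rw [pow_one, Subgroup.coe_pow]
      exact hexp m.1 m.2
    obtain ⟨k, hk⟩ := IsPGroup.iff_card.mp hPM
    have hk1 : k = 1 := by
      rw [hk] at hdvd
      have hk4 : k < 3 := by
        by_contra hcon
        push Not at hcon
        have : 5 ^ 3 ∣ 5 ^ k := pow_dvd_pow 5 hcon
        have := Nat.dvd_trans this hdvd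
        omega
      interval_cases k
      · exfalso
        rw [pow_zero] at hk
        exact hM0 (Subgroup.eq_bot_of_card_eq _ hk)
      · rfl
      · omega
    rw [hk1, pow_one] at hk
    have hcyc : IsCyclic M := isCyclic_of_prime_card hk
    have haut : Nat.card (MulAut M) = 4 := by
      rw [IsCyclic.card_mulAut, hk]
      decide
    -- x13 centralises M
    have hcent : ∀ m ∈ M, x13 * m = m * x13 := by
      intro m hm
      have h1 : orderOf (MulAut.conjNormal (H := M) x13) ∣ 13 := by
        rw [← hx13]; exact orderOf_map_dvd _ _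
      have h2 : orderOf (MulAut.conjNormal (H := M) x13) ∣ 4 := by
        rw [← haut]; exact orderOf_dvd_natCard _
      have h3' : orderOf (MulAut.conjNormal (H := M) x13) = 1 := by
        have := Nat.dvd_gcd h1 h2
        simpa using this
      rw [orderOf_eq_one_iff] at h3'
      have h4 := congrArg (fun f : MulAut M => ((f ⟨m, hm⟩ : M) : L)) h3'
      simp only [MulAut.conjNormal_apply, MulAut.one_apply] at h4
      calc x13 * m = (x13 * m * x13⁻¹) * x13 := by group
        _ = m * x13 := by rw [h4]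
    have hx1 : x13 ≠ 1 := by
      intro h; rw [h, orderOf_one] at hx13; omega
    have hx : x13 ^ 13 = 1 := by rw [← hx13]; exact pow_orderOf_eq_one _
    refine contra_of_preserve ρ hinj hW h3 x13 m0 hx hx1 (hexp m0 hm0M) hm01 ?_
    intro u hu
    rw [← rho_mul_apply, hcent m0 hm0M, rho_mul_apply, hu]
  · -- r = 13
    subst h
    have hy1 : y5 ≠ 1 := by
      intro h; rw [h, orderOf_one] at hy5; omega
    have hy : y5 ^ 5 = 1 := by rw [← hy5]; exact pow_orderOf_eq_one _
    have hx := hexp m0 hm0M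
    -- all of `M` fixes the fixed points of `m0`
    have hA : ∀ m ∈ M, ∀ u : W, ρ m0 u = u → ρ m u = u := by
      intro m hm u hu
      by_cases hu0 : u = 0
      · rw [hu0, map_zero]
      have hc := fix_thirteen ρ hinj hW m0 hx hm01
      have h1 : ρ m u ∈ fixW ρ m0 := by
        show ρ m0 (ρ m u) = ρ m u
        rw [← rho_mul_apply, hcomm m0 hm0M m hm, rho_mul_apply, hu]
      have h2 : ρ m u ≠ 0 := by
        intro h
        apply hu0
        exact rho_injective ρ m (by rw [h, map_zero])
      rcases three_elements h3 _ hc u hu hu0 _ h1 with h | h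
      · exact absurd h h2
      exact odd_fix ρ h3 m 13 (by decide) (hexp m hm) u hu0 h
    refine contra_of_preserve ρ hinj hW h3 m0 y5 hx hm01 hy hy1 ?_
    intro u hu
    have hconj : y5⁻¹ * m0 * y5 ∈ M := by
      have := hMn.conj_mem m0 hm0M y5⁻¹
      rwa [inv_inv] at this
    have h1 := hA _ hconj u hu
    have h2 : m0 * y5 = y5 * (y5⁻¹ * m0 * y5) := by group
    rw [← rho_mul_apply, h2, rho_mul_apply, h1]

end Cfsg.Agent.Lib.Helper22.EqSylD
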