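import Mathlib

set_option autoImplicit false
set_option linter.unusedSectionVars false
set_option linter.unusedVariables false

/-! The arithmetic: `(p^(n-1) - 1) ∣ n (p^2 - 1)` forces `n = 3` or `(n, p) = (5, 2)`. -/

namespace Cfsg.Agent.Lib.Helper22.EqSylE

theorem two_pow_ge (m : ℕ) (hm : 3 ≤ m) : m + 3 ≤ 2 ^ m := by
  induction m, hm using Nat.le_induction with
  | base => norm_num
  | succ k hk ih => rw [pow_succ]; omega

theorem reduce_dvd (p n G : ℕ) (hp : 2 ≤ p) (hn : 3 ≤ n)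
    (D1 : (p ^ n - 1) * (p ^ n - p) * (p - 1) ∣ G * ((p ^ 2 - 1) * (p ^ 2 - p)))
    (D2 : G ∣ n * (p ^ n - 1)) : p ^ (n - 1) - 1 ∣ n * (p ^ 2 - 1) := by
  have h1 : (p ^ n - 1) * (p ^ n - p) * (p - 1) ∣ n * (p ^ n - 1) * ((p ^ 2 - 1) * (p ^ 2 - p)) :=
    Nat.dvd_trans D1 (Nat.mul_dvd_mul_right D2 _)
  have hpn : p ^ n = p * p ^ (n - 1) := by
    rw [← pow_succ']; congr 1; omega
  have h2 : p ^ n - p = p * (p ^ (n - 1) - 1) := by
    rw [hpn, Nat.mul_sub, mul_one]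
  have h3 : p ^ 2 - p = p * (p - 1) := by
    rw [Nat.mul_sub, mul_one, sq]
  have hc : 0 < (p ^ n - 1) * p * (p - 1) := by
    have : 2 ≤ p ^ n := by
      calc 2 ≤ p := hp
        _ = p ^ 1 := (pow_one p).symm
        _ ≤ p ^ n := Nat.pow_le_pow_right (by omega) (by omega)
    apply Nat.mul_pos (Nat.mul_pos _ _) <;> omega
  apply Nat.dvd_of_mul_dvd_mul_left hc
  have e1 : (p ^ n - 1) * p * (p - 1) * (p ^ (n - 1) - 1)
      = (p ^ n - 1) * (p ^ n - p) * (p - 1) := by rw [h2]; ring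
  have e2 : (p ^ n - 1) * p * (p - 1) * (n * (p ^ 2 - 1))
      = n * (p ^ n - 1) * ((p ^ 2 - 1) * (p ^ 2 - p)) := by rw [h3]; ring
  rw [e1, e2]
  exact h1

theorem arith (p n G : ℕ) (hp : 2 ≤ p) (hn : 3 ≤ n)
    (D1 : (p ^ n - 1) * (p ^ n - p) * (p - 1) ∣ G * ((p ^ 2 - 1) * (p ^ 2 - p)))
    (D2 : G ∣ n * (p ^ n - 1)) : n = 3 ∨ (n = 5 ∧ p = 2) := by
  have h := reduce_dvd p n G hp hn D1 D2
  have hp2 : 4 ≤ p ^ 2 := by nlinarith
  have hpos : 0 < n * (p ^ 2 - 1) := Nat.mul_pos (by omega) (by omega)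
  have hle := Nat.le_of_dvd hpos h
  rcases Nat.lt_or_ge n 6 with h6 | h6
  · interval_cases n
    · left; rfl
    · exfalso
      have hb : p < 4 := by
        by_contra hcon
        push Not at hcon
        have h1 : p ^ (4 - 1) = p * p ^ 2 := by ring
        have h2 : 4 * p ^ 2 ≤ p * p ^ 2 := Nat.mul_le_mul_right _ hcon
        omega
      interval_cases p
      · norm_num at h
      · norm_num at h
    · right
      refine ⟨rfl, ?_⟩
      have hb : p < 3 := by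
        by_contra hcon
        push Not at hcon
        have h1 : p ^ (5 - 1) = p ^ 2 * p ^ 2 := by ring
        have h2 : 9 ≤ p ^ 2 := by nlinarith
        have h3 : 9 * p ^ 2 ≤ p ^ 2 * p ^ 2 := Nat.mul_le_mul_right _ h2
        omega
      omega
  · exfalso
    have h1 : p ^ (n - 1) = p ^ 2 * p ^ (n - 3) := by
      rw [← pow_add]; congr 1; omega
    have h2 : 2 ^ (n - 3) ≤ p ^ (n - 3) := Nat.pow_le_pow_left hp _
    have h3 : (n - 3) + 3 ≤ 2 ^ (n - 3) := two_pow_ge (n - 3) (by omega)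
    have h4 : n ≤ p ^ (n - 3) := by omega
    have h5 : p ^ 2 * n ≤ p ^ 2 * p ^ (n - 3) := Nat.mul_le_mul_left _ h4
    have h6 : n * (p ^ 2 - 1) = p ^ 2 * n - n := by
      rw [Nat.mul_sub, mul_one, mul_comm]
    have h7 : n ≤ p ^ 2 * n := Nat.le_mul_of_pos_left _ (by omega)
    omega

end Cfsg.Agent.Lib.Helper22.EqSylE
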