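import Mathlib
import Cfsg.Agent.Lib.Helper22.EqSylA
import Cfsg.Agent.Lib.Helper22.EqSylC
import Cfsg.Agent.Lib.Helper22.EqSylD
import Cfsg.Agent.Lib.Helper22.EqSylE
import Cfsg.Agent.Lib.Helper22.HupM
import Cfsg.Agent.Lib.Helper1.Hall

set_option autoImplicit false
set_option linter.unusedSectionVars false
set_option linter.unusedVariables false

/-! The linear core: a solvable linear group containing the scalars, transitive on nonzero vectors
and on planes of `(ZMod p)^n`, `n ≥ 3`. -/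

namespace Cfsg.Agent.Lib.Helper22.EqSylF

open Cfsg.Agent.Lib.Helper22.EqSylA Cfsg.Agent.Lib.Helper22.EqSylC Cfsg.Agent.Lib.Helper22.EqSylD
  Cfsg.Agent.Lib.Helper22.EqSylE

theorem exists_hall_5_13 {Γ : Type*} [Group Γ] [Finite Γ] (hsol : Group.IsSolvable Γ)
    (h5 : 5 ∣ Nat.card Γ) (h13 : 13 ∣ Nat.card Γ) :
    ∃ L : Subgroup Γ, 5 ∣ Nat.card L ∧ 13 ∣ Nat.card L ∧
      ∀ r : ℕ, r.Prime → r ∣ Nat.card L → r = 5 ∨ r = 13 := by
  have p5 : Nat.Prime 5 := by norm_num
  have p13 : Nat.Prime 13 := by norm_num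
  set N := Nat.card Γ with hN
  have hN0 : N ≠ 0 := Nat.card_pos.ne'
  set a := N.factorization 5 with ha
  set n1 := N / 5 ^ a with hn1
  have e1 : 5 ^ a * n1 = N := Nat.ordProj_mul_ordCompl_eq_self N 5
  have c1 : Nat.Coprime 5 n1 := Nat.coprime_ordCompl p5 hN0
  have hn10 : n1 ≠ 0 := by
    intro h; rw [h, mul_zero] at e1; exact hN0 e1.symm
  set b := n1.factorization 13 with hb
  set n2 := n1 / 13 ^ b with hn2
  have e2 : 13 ^ b * n2 = n1 := Nat.ordProj_mul_ordCompl_eq_self n1 13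
  have c2 : Nat.Coprime 13 n2 := Nat.coprime_ordCompl p13 hn10
  have c3 : Nat.Coprime 5 n2 := Nat.Coprime.coprime_dvd_right ⟨13 ^ b, by rw [← e2, mul_comm]⟩ c1
  have ha1 : 1 ≤ a := p5.factorization_pos_of_dvd hN0 h5
  have h13' : 13 ∣ n1 := by
    have : 13 ∣ 5 ^ a * n1 := by rw [e1]; exact h13
    exact (Nat.Coprime.dvd_mul_left (Nat.Coprime.pow_right a (by norm_num))).mp this
  have hb1 : 1 ≤ b := p13.factorization_pos_of_dvd hn10 h13'
  have hcop : Nat.Coprime (5 ^ a * 13 ^ b) n2 :=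
    Nat.Coprime.mul_left (Nat.Coprime.pow_left a c3) (Nat.Coprime.pow_left b c2)
  have hG : Nat.card Γ = (5 ^ a * 13 ^ b) * n2 := by
    rw [← hN, ← e1, ← e2]; ring
  have := hsol
  obtain ⟨L, hL⟩ := Cfsg.Agent.Lib.Helper1.hall_exists (G := Γ) _ _ hG hcop
  refine ⟨L, ?_, ?_, ?_⟩
  · rw [hL]; exact Dvd.dvd.mul_right (dvd_pow_self 5 (by omega)) _
  · rw [hL]; exact Dvd.dvd.mul_left (dvd_pow_self 13 (by omega)) _
  · intro r hr hrL
    rw [hL] at hrL
    rcases (Nat.Prime.dvd_mul hr).mp hrL with h | h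
    · left; exact (Nat.prime_dvd_prime_iff_eq hr p5).mp (hr.dvd_of_dvd_pow h)
    · right; exact (Nat.prime_dvd_prime_iff_eq hr p13).mp (hr.dvd_of_dvd_pow h)

theorem core_linear (p n : ℕ) [hp : Fact p.Prime] {W : Type*} [AddCommGroup W] [Module (ZMod p) W]
    [Finite W] (hW : Nat.card W = p ^ n) (hn : 3 ≤ n)
    {Γ : Type*} [Group Γ] [Finite Γ] (hsol : Group.IsSolvable Γ) (ρ : Γ →* AddMonoid.End W)
    (hinj : Function.Injective ρ)
    (htr1 : ∀ v w : W, v ≠ 0 → w ≠ 0 → ∃ g : Γ, ρ g v = w)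
    (htr2 : ∀ U U' : AddSubgroup W, Nat.card U = p ^ 2 → Nat.card U' = p ^ 2 →
      ∃ g : Γ, U.map (show W →+ W from ρ g) = U')
    (z : (ZMod p)ˣ →* Γ) (hz : ∀ (k : (ZMod p)ˣ) (w : W), ρ (z k) w = (k : ZMod p) • w) :
    (n = 3 ∨ (n = 5 ∧ p = 2)) ∧
    (p ^ n - 1) * (p ^ n - p) * (p - 1) ∣ Nat.card Γ * ((p ^ 2 - 1) * (p ^ 2 - p)) ∧
    Nat.card Γ ∣ n * (p ^ n - 1) ∧
    ∃ (e : W ≃+ GaloisField p n) (S : Γ →* (GaloisField p n ≃+* GaloisField p n))
      (A : Γ → GaloisField p n),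
      (∀ g w, e (ρ g w) = A g * S g (e w)) ∧ (∀ g, A g ≠ 0) := by
  have D1 := planes_dvd hW (by omega) ρ htr2 z hz
  have hexp : ∀ v : W, p • v = 0 := by
    intro v
    have h1 : ((p : ℕ) : ZMod p) • v = 0 := by rw [ZMod.natCast_self, zero_smul]
    rwa [Nat.cast_smul_eq_nsmul] at h1
  have hW1 : Nontrivial W := by
    have : 1 < Nat.card W := by
      rw [hW]; exact Nat.one_lt_pow (by omega) hp.out.one_lt
    exact Finite.one_lt_card_iff_nontrivial.mp this
  have tr : Cfsg.Agent.Lib.Helper22.HupA.Tr ρ p :=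
    { hq := hp.out
      exp := hexp
      inj := hinj
      trans := htr1
      nontriv := exists_ne 0 }
  rcases Cfsg.Agent.Lib.Helper22.HupM.main tr hsol with h | h
  · obtain ⟨e, he⟩ := to_galoisField p n hW ρ h
    obtain ⟨S, A, hAS, hA0, hdvd⟩ := exists_sigma ρ hinj e he
    have hcF : Nat.card (GaloisField p n) = p ^ n := GaloisField.card p n (by omega)
    have haut := (Cfsg.Agent.Lib.Helper22.ExtPrimA.card_ringAut (GaloisField p n) p n hp.out hcF).1
    rw [haut, hcF] at hdvd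
    exact ⟨arith p n _ hp.out.two_le hn D1 hdvd, D1, hdvd, e, S, A, hAS, hA0⟩
  · exfalso
    rw [hW] at h
    have hn0 : n ≠ 0 := by omega
    have p3 : Nat.Prime 3 := by norm_num
    have key : ∀ q m : ℕ, q.Prime → m ≠ 0 → p ^ n = q ^ m → p = q ∧ n = m :=
      fun q m hq hm h => Nat.Prime.pow_inj' hp.out hq hn0 hm h
    simp only [Set.mem_insert_iff, Set.mem_singleton_iff] at h
    rcases h with h | h | h | h | h | h
    · have := key 3 2 (by norm_num) (by norm_num) (by rw [h]; norm_num); omega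
    · have := key 5 2 (by norm_num) (by norm_num) (by rw [h]; norm_num); omega
    · have := key 7 2 (by norm_num) (by norm_num) (by rw [h]; norm_num); omega
    · have := key 11 2 (by norm_num) (by norm_num) (by rw [h]; norm_num); omega
    · have := key 23 2 (by norm_num) (by norm_num) (by rw [h]; norm_num); omega
    · obtain ⟨hp3, hn4⟩ := key 3 4 (by norm_num) (by norm_num) (by rw [h]; norm_num)
      subst hn4
      have hp3' : p = 3 := hp3
      rw [hp3'] at D1
      norm_num at D1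
      -- D1 : 12480 ∣ |Γ| * 48
      have h260 : 260 ∣ Nat.card Γ := by
        have : 48 * 260 ∣ 48 * Nat.card Γ := by
          rw [mul_comm 48 (Nat.card Γ)]
          exact D1
        exact Nat.dvd_of_mul_dvd_mul_left (by norm_num) this
      have h5 : 5 ∣ Nat.card Γ := Nat.dvd_trans (by norm_num) h260
      have h13 : 13 ∣ Nat.card Γ := Nat.dvd_trans (by norm_num) h260
      obtain ⟨L, hL5, hL13, hLr⟩ := exists_hall_5_13 hsol h5 h13
      have hsolL : Group.IsSolvable L :=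
        Group.isSolvable_of_isSolvable_injective (f := L.subtype) L.subtype_injective
      have hW81 : Nat.card W = 81 := by rw [hW, hp3']; norm_num
      have h3 : ∀ w : W, 3 • w = 0 := by
        intro w
        have := hexp w
        rwa [hp3'] at this
      exact no81 (ρ.comp L.subtype) (hinj.comp L.subtype_injective) hW81 h3 hsolL hL5 hL13 hLr

end Cfsg.Agent.Lib.Helper22.EqSylF
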