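import Mathlib
import Cfsg.Prelude.Def_CaseTheorems
import Cfsg.Agent.Lib.Helper18.PPrimeCore
import Cfsg.Agent.Lib.Helper22.ExtPrimB

set_option autoImplicit false
set_option linter.unusedSectionVars false
set_option linter.unusedVariables false

/-! Structure of a group with a normal abelian Sylow subgroup: the complement, the `p'`-core and the
affine action. -/

namespace Cfsg.Agent.Lib.Helper22.EqSylG

open Cfsg.Agent.Lib.Helper18 Cfsg.Agent.Lib.Helper22.ExtPrimB

variable {X : Type*} [Group X] [Finite X] {p : ℕ} [hp : Fact p.Prime]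

theorem core_le_compl (V H : Subgroup X) (hV : IsPGroup p V) (hc : V.IsComplement' H)
    (hH : (Nat.card H).Coprime p) : Cfsg.pPrimeCore p X ≤ H := by
  set K := Cfsg.pPrimeCore p X with hK
  have hKn : K.Normal := pPrimeCore_normal_h18 p X
  have hKc : (Nat.card K).Coprime p := pPrimeCore_card_coprime_h18 p
  have hd : Nat.card (H ⊔ K : Subgroup X) ∣ Nat.card H * Nat.card K := card_sup_dvd_mul_h18 H K
  have hcop : (Nat.card (H ⊔ K : Subgroup X)).Coprime p :=
    Nat.Coprime.coprime_dvd_left hd (Nat.Coprime.mul_left hH hKc)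
  obtain ⟨k, hk⟩ := IsPGroup.iff_card.mp hV
  have h1 : Nat.card (H ⊔ K : Subgroup X) ∣ Nat.card H * Nat.card V := by
    rw [mul_comm, hc.card_mul_card]
    exact Subgroup.card_subgroup_dvd_card _
  have h2 : Nat.card (H ⊔ K : Subgroup X) ∣ Nat.card H := by
    rw [hk] at h1
    exact Nat.Coprime.dvd_of_dvd_mul_right (Nat.Coprime.pow_right k hcop) h1
  have h3 : H = H ⊔ K :=
    Subgroup.eq_of_le_of_card_ge le_sup_left (Nat.le_of_dvd Nat.card_pos h2)
  rw [h3]
  exact le_sup_right

theorem core_eq_normalCore (V H : Subgroup X) (hV : IsPGroup p V) (hc : V.IsComplement' H)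
    (hH : (Nat.card H).Coprime p) : Cfsg.pPrimeCore p X = H.normalCore := by
  apply le_antisymm
  · have hKn : (Cfsg.pPrimeCore p X).Normal := pPrimeCore_normal_h18 p X
    rw [Subgroup.normal_le_normalCore]
    exact core_le_compl V H hV hc hH
  · apply le_pPrimeCore_h18 (Subgroup.normalCore_normal H)
    have h1 : Nat.card H.normalCore ∣ Nat.card H :=
      Subgroup.card_dvd_of_le (Subgroup.normalCore_le H)
    exact Nat.Coprime.coprime_dvd_left h1 hH

/-- the bijection of `V` with the cosets of the complement. -/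
noncomputable def beta (V H : Subgroup X) (hc : V.IsComplement' H) : V ≃ X ⧸ H :=
  Equiv.ofBijective (fun v : V => (QuotientGroup.mk (v : X) : X ⧸ H)) (by
    have := Subgroup.isComplement_subgroup_right_iff_bijective.mp hc
    exact this)

theorem beta_apply (V H : Subgroup X) (hc : V.IsComplement' H) (v : V) :
    beta V H hc v = (QuotientGroup.mk (v : X) : X ⧸ H) := rfl

/-- the affine action of `X` on `V`. -/
noncomputable def phi0 (V H : Subgroup X) (hc : V.IsComplement' H) : X →* Equiv.Perm V :=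
  ((beta V H hc).symm.permCongrHom).toMonoidHom.comp (MulAction.toPermHom X (X ⧸ H))

theorem phi0_apply (V H : Subgroup X) (hc : V.IsComplement' H) (x : X) (v : V) :
    beta V H hc (phi0 V H hc x v) = x • beta V H hc v := by
  show beta V H hc ((beta V H hc).symm (x • (beta V H hc).symm.symm v)) = _
  rw [Equiv.apply_symm_apply]
  rfl

theorem phi0_eq_iff (V H : Subgroup X) (hc : V.IsComplement' H) (x : X) (v u : V) :
    phi0 V H hc x v = u ↔ (QuotientGroup.mk (x * (v : X)) : X ⧸ H) = QuotientGroup.mk (u : X) := by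
  rw [← (beta V H hc).apply_eq_iff_eq, phi0_apply, beta_apply, beta_apply]
  rfl

theorem phi0_V (V H : Subgroup X) (hc : V.IsComplement' H) (v u : V) :
    phi0 V H hc (v : X) u = v * u := by
  rw [phi0_eq_iff]
  rfl

theorem phi0_H (V H : Subgroup X) [hVn : V.Normal] (hc : V.IsComplement' H) (h : X) (hh : h ∈ H)
    (u : V) : phi0 V H hc h u = ⟨h * u * h⁻¹, hVn.conj_mem _ u.2 h⟩ := by
  rw [phi0_eq_iff]
  show (QuotientGroup.mk (h * (u : X)) : X ⧸ H) = QuotientGroup.mk (h * u * h⁻¹)
  rw [QuotientGroup.eq]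
  have : (h * (u : X))⁻¹ * (h * u * h⁻¹) = h⁻¹ := by group
  rw [this]
  exact H.inv_mem hh

theorem phi0_ker (V H : Subgroup X) (hc : V.IsComplement' H) :
    (phi0 V H hc).ker = H.normalCore := by
  rw [Subgroup.normalCore_eq_ker]
  ext x
  rw [MonoidHom.mem_ker, MonoidHom.mem_ker]
  show (beta V H hc).symm.permCongrHom (MulAction.toPermHom X (X ⧸ H) x) = 1 ↔ _
  rw [map_eq_one_iff _ (MulEquiv.injective _)]

/-- decomposition along the complement. -/
theorem exists_mul (V H : Subgroup X) (hc : V.IsComplement' H) (x : X) :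
    ∃ v ∈ V, ∃ h ∈ H, x = v * h := by
  have h := Subgroup.IsComplement.equiv_fst_mul_equiv_snd hc x
  exact ⟨_, (hc.equiv x).1.2, _, (hc.equiv x).2.2, h.symm⟩

/-- the conjugation action on `Additive V`, as units. -/
noncomputable def cU (V : Subgroup X) [V.Normal] : X →* (AddMonoid.End (Additive V))ˣ :=
  (conjEnd V).toHomUnits

theorem cU_apply (V : Subgroup X) [V.Normal] (x : X) (w : Additive V) :
    ((Additive.toMul (((cU V x : (AddMonoid.End (Additive V))ˣ) : AddMonoid.End (Additive V)) w)
      : V) : X) = x * (Additive.toMul w : V).1 * x⁻¹ := rfl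

theorem cU_eq_one_iff (V : Subgroup X) [V.Normal] (x : X) :
    cU V x = 1 ↔ ∀ u ∈ V, x * u * x⁻¹ = u := by
  constructor
  · intro h u hu
    have h1 := cU_apply V x (Additive.ofMul ⟨u, hu⟩)
    rw [h] at h1
    exact h1.symm
  · intro h
    apply Units.ext
    refine DFunLike.ext _ _ (fun w => ?_)
    apply Additive.toMul.injective
    apply Subtype.ext
    rw [cU_apply]
    exact h _ (Additive.toMul w : V).2

theorem cU_V (V : Subgroup X) [V.Normal] [hVc : IsMulCommutative V] (v : X) (hv : v ∈ V) :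
    cU V v = 1 := by
  rw [cU_eq_one_iff]
  intro u hu
  have := hVc.is_comm.comm ⟨v, hv⟩ ⟨u, hu⟩
  have h1 : v * u = u * v := congrArg Subtype.val this
  rw [h1]; group

theorem cU_H_eq_one_iff (V H : Subgroup X) [hVn : V.Normal] (hc : V.IsComplement' H) (h : X)
    (hh : h ∈ H) : cU V h = 1 ↔ h ∈ H.normalCore := by
  rw [← phi0_ker V H hc, MonoidHom.mem_ker, cU_eq_one_iff]
  constructor
  · intro h1
    ext u
    rw [phi0_H V H hc h hh]
    exact congrArg Subtype.val (Subtype.ext (h1 u u.2) : (⟨h * u * h⁻¹, _⟩ : V) = u)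
  · intro h1 u hu
    have h2 := phi0_H V H hc h hh ⟨u, hu⟩
    rw [h1] at h2
    exact (congrArg Subtype.val h2).symm

theorem card_quot (V H : Subgroup X) [hVn : V.Normal] [hVc : IsMulCommutative V]
    (hV : IsPGroup p V) (hc : V.IsComplement' H) (hH : (Nat.card H).Coprime p) :
    Nat.card (X ⧸ Cfsg.pPrimeCore p X) = Nat.card V * Nat.card (cU V).range := by
  set K := Cfsg.pPrimeCore p X with hK
  have hKeq : K = H.normalCore := core_eq_normalCore V H hV hc hH
  have hKH : K ≤ H := core_le_compl V H hV hc hH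
  let cH : H →* (AddMonoid.End (Additive V))ˣ := (cU V).comp H.subtype
  have hker : cH.ker = K.subgroupOf H := by
    ext h
    rw [MonoidHom.mem_ker, Subgroup.mem_subgroupOf, hKeq]
    exact cU_H_eq_one_iff V H hc h.1 h.2
  have hrange : cH.range = (cU V).range := by
    apply le_antisymm
    · rintro _ ⟨h, rfl⟩
      exact ⟨h.1, rfl⟩
    · rintro _ ⟨x, rfl⟩
      obtain ⟨v, hv, h, hh, rfl⟩ := exists_mul V H hc x
      refine ⟨⟨h, hh⟩, ?_⟩
      show cU V h = cU V (v * h)
      rw [map_mul, cU_V V v hv, one_mul]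
  have h1 : Nat.card H = Nat.card K * Nat.card (cU V).range := by
    rw [← hrange, ← Subgroup.index_ker, hker, ← Subgroup.card_mul_index (K.subgroupOf H)]
    congr 1
    exact Nat.card_congr (Subgroup.subgroupOfEquivOfLe hKH).toEquiv
  have h2 : Nat.card V * Nat.card H = Nat.card X := hc.card_mul_card
  have h3 : Nat.card K * Nat.card (X ⧸ K) = Nat.card X := by
    rw [← Subgroup.index_eq_card]; exact Subgroup.card_mul_index K
  have h4 : Nat.card K * Nat.card (X ⧸ K) = Nat.card K * (Nat.card V * Nat.card (cU V).range) := by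
    rw [h3, ← h2, h1]; ring
  exact Nat.eq_of_mul_eq_mul_left Nat.card_pos h4

end Cfsg.Agent.Lib.Helper22.EqSylG
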