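import Mathlib
import Cfsg.Prelude.Def_CaseTheorems
import Cfsg.Agent.Lib.Helper22.EqSylF
import Cfsg.Agent.Lib.Helper22.EqSylG

set_option autoImplicit false
set_option linter.unusedSectionVars false
set_option linter.unusedVariables false

/-! From the group `X` with a normal elementary abelian Sylow subgroup `V` to the linear data. -/

namespace Cfsg.Agent.Lib.Helper22.EqSylH

open Cfsg.Agent.Lib.Helper22.ExtPrimB Cfsg.Agent.Lib.Helper22.EqSylG
  Cfsg.Agent.Lib.Helper22.EqSylF Cfsg.Agent.Lib.Helper22.EqSylA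

open scoped IsMulCommutative

variable {X : Type*} [Group X] [Finite X] {p : ℕ} [hp : Fact p.Prime]

/-- the subgroup of `X` of an additive subgroup of `Additive V`. -/
def toX (V : Subgroup X) (A : AddSubgroup (Additive V)) : Subgroup X where
  carrier := {x | ∃ h : x ∈ V, Additive.ofMul (⟨x, h⟩ : V) ∈ A}
  one_mem' := ⟨V.one_mem, A.zero_mem⟩
  mul_mem' := by
    rintro a b ⟨ha, ha'⟩ ⟨hb, hb'⟩
    exact ⟨V.mul_mem ha hb, A.add_mem ha' hb'⟩
  inv_mem' := by
    rintro a ⟨ha, ha'⟩
    exact ⟨V.inv_mem ha, A.neg_mem ha'⟩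

theorem mem_toX (V : Subgroup X) (A : AddSubgroup (Additive V)) (x : X) :
    x ∈ toX V A ↔ ∃ h : x ∈ V, Additive.ofMul (⟨x, h⟩ : V) ∈ A := Iff.rfl

theorem toX_le (V : Subgroup X) (A : AddSubgroup (Additive V)) : toX V A ≤ V := fun x hx => hx.1

theorem card_toX (V : Subgroup X) (A : AddSubgroup (Additive V)) :
    Nat.card (toX V A) = Nat.card A := by
  refine (Nat.card_congr (?_ : A ≃ toX V A)).symm
  exact
    { toFun := fun w => ⟨((Additive.toMul w.1 : V) : X), ⟨(Additive.toMul w.1 : V).2, w.2⟩⟩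
      invFun := fun x => ⟨Additive.ofMul ⟨x.1, x.2.choose⟩, x.2.choose_spec⟩
      left_inv := fun w => by apply Subtype.ext; rfl
      right_inv := fun x => by apply Subtype.ext; rfl }

theorem trans_add (V : Subgroup X) [hVn : V.Normal]
    (htr : ∀ U U' : Subgroup X, U ≤ V → U' ≤ V → Nat.card U = Nat.card U' →
      ∃ x : X, U' = U.map (MulAut.conj x).toMonoidHom)
    (A A' : AddSubgroup (Additive V)) (hAA : Nat.card A = Nat.card A') :
    ∃ x : X, A.map (show Additive V →+ Additive V from conjEnd V x) = A' := by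
  obtain ⟨x, hx⟩ := htr (toX V A) (toX V A') (toX_le V A) (toX_le V A')
    (by rw [card_toX, card_toX, hAA])
  refine ⟨x, ?_⟩
  ext w'
  constructor
  · rintro ⟨w, hw, rfl⟩
    have h1 : ((Additive.toMul w : V) : X) ∈ toX V A := ⟨(Additive.toMul w : V).2, hw⟩
    have h2 : x * ((Additive.toMul w : V) : X) * x⁻¹ ∈ toX V A' := by
      rw [hx]
      exact ⟨_, h1, rfl⟩
    obtain ⟨h3, h4⟩ := h2
    exact h4
  · intro hw'
    have h1 : ((Additive.toMul w' : V) : X) ∈ toX V A' := ⟨(Additive.toMul w' : V).2, hw'⟩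
    rw [hx] at h1
    obtain ⟨y, ⟨hy, hyA⟩, hyx⟩ := h1
    refine ⟨Additive.ofMul ⟨y, hy⟩, hyA, ?_⟩
    apply Additive.toMul.injective
    apply Subtype.ext
    exact hyx

theorem map_zmod_smul' {W : Type*} [AddCommGroup W] [Module (ZMod p) W] (f : W →+ W) (b : ZMod p)
    (w : W) : f (b • w) = b • f w :=
  (AddMonoidHom.toZModLinearMap p f).map_smul b w

/-- the `ZMod p`-module structure on `Additive V`. -/
@[instance_reducible] noncomputable def modW (V : Subgroup X) [hVc : IsMulCommutative V]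
    (hexp : ∀ v ∈ V, v ^ p = 1) : Module (ZMod p) (Additive V) :=
  AddCommGroup.zmodModule (by
    intro x
    apply Additive.toMul.injective
    rw [toMul_nsmul, toMul_zero]
    apply Subtype.ext
    rw [Subgroup.coe_pow]
    exact hexp _ (Additive.toMul x).2)

theorem lin_data (V : Subgroup X) [hVn : V.Normal] [hVc : IsMulCommutative V] (n : ℕ) (hn : 3 ≤ n)
    (hexp : ∀ v ∈ V, v ^ p = 1) (hcard : Nat.card V = p ^ n)
    (htr : ∀ U U' : Subgroup X, U ≤ V → U' ≤ V → Nat.card U = Nat.card U' →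
      ∃ x : X, U' = U.map (MulAut.conj x).toMonoidHom)
    (hsolv : Group.IsSolvable (X ⧸ Cfsg.pPrimeCore p X))
    (hKc : Cfsg.pPrimeCore p X ≤ (cU V).ker) :
    ∃ (e : Additive V ≃+ GaloisField p n) (S : X →* (GaloisField p n ≃+* GaloisField p n))
      (A : X → GaloisField p n) (G : ℕ),
      (n = 3 ∨ (n = 5 ∧ p = 2)) ∧
      (∀ x w, e (conjEnd V x w) = A x * S x (e w)) ∧ (∀ x, A x ≠ 0) ∧
      ((p ^ n - 1) * (p ^ n - p) * (p - 1) ∣ G * ((p ^ 2 - 1) * (p ^ 2 - p))) ∧
      (G ∣ n * (p ^ n - 1)) ∧ (p = 2 → G = Nat.card (cU V).range) ∧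
      (∀ x, orderOf (S x) ∣ G) := by
  classical
  let _ : Module (ZMod p) (Additive V) := modW V hexp
  have hfinV : Finite V := inferInstance
  have hfinW : Finite (Additive V) := Finite.of_equiv V Additive.ofMul
  have hW : Nat.card (Additive V) = p ^ n := by
    rw [← hcard]; exact Nat.card_congr Additive.toMul
  set K := Cfsg.pPrimeCore p X with hK
  let cbar : X ⧸ K →* (AddMonoid.End (Additive V))ˣ := QuotientGroup.lift K (cU V) hKc
  have hcbar : ∀ x : X, cbar (QuotientGroup.mk x) = cU V x := fun x => rfl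
  let s : (ZMod p)ˣ →* (AddMonoid.End (Additive V))ˣ :=
    Units.map (Module.toAddMonoidEnd (ZMod p) (Additive V) : ZMod p →* AddMonoid.End (Additive V))
  have hs : ∀ (k : (ZMod p)ˣ) (w : Additive V),
      ((s k : (AddMonoid.End (Additive V))ˣ) : AddMonoid.End (Additive V)) w = (k : ZMod p) • w :=
    fun k w => rfl
  have hcomm : ∀ (a : X ⧸ K) (b : (ZMod p)ˣ), Commute (cbar a) (s b) := by
    intro a b
    apply Units.ext
    refine DFunLike.ext _ _ (fun w => ?_)
    show ((cbar a : (AddMonoid.End (Additive V))ˣ) : AddMonoid.End (Additive V))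
        (((s b : (AddMonoid.End (Additive V))ˣ) : AddMonoid.End (Additive V)) w) =
      ((s b : (AddMonoid.End (Additive V))ˣ) : AddMonoid.End (Additive V))
        (((cbar a : (AddMonoid.End (Additive V))ˣ) : AddMonoid.End (Additive V)) w)
    rw [hs, hs]
    exact map_zmod_smul' (show Additive V →+ Additive V from
      ((cbar a : (AddMonoid.End (Additive V))ˣ) : AddMonoid.End (Additive V))) _ w
  let ψ : (X ⧸ K) × (ZMod p)ˣ →* (AddMonoid.End (Additive V))ˣ :=
    MonoidHom.noncommCoprod cbar s hcomm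
  have hψ : ∀ (a : X ⧸ K) (b : (ZMod p)ˣ), ψ (a, b) = cbar a * s b := fun a b => rfl
  have hfinΓ : Finite ψ.range := Finite.of_surjective ψ.rangeRestrict ψ.rangeRestrict_surjective
  have hsolΓ : Group.IsSolvable ψ.range := by
    have := hsolv
    exact Group.isSolvable_of_surjective (f := ψ.rangeRestrict) ψ.rangeRestrict_surjective
  let ρ : ψ.range →* AddMonoid.End (Additive V) :=
    (Units.coeHom (AddMonoid.End (Additive V))).comp ψ.range.subtype
  have hρ : ∀ g : ψ.range, ρ g = ((g.1 : (AddMonoid.End (Additive V))ˣ) :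
      AddMonoid.End (Additive V)) := fun g => rfl
  have hρinj : Function.Injective ρ := by
    intro g g' h
    apply Subtype.ext
    apply Units.ext
    exact h
  let γ : X →* ψ.range :=
    ψ.rangeRestrict.comp ((MonoidHom.inl (X ⧸ K) (ZMod p)ˣ).comp (QuotientGroup.mk' K))
  have hγ : ∀ x : X, ρ (γ x) = conjEnd V x := by
    intro x
    show (((cbar (QuotientGroup.mk x) * s 1 : (AddMonoid.End (Additive V))ˣ)) :
      AddMonoid.End (Additive V)) = conjEnd V x
    rw [map_one, mul_one, hcbar]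
    rfl
  let z : (ZMod p)ˣ →* ψ.range :=
    ψ.rangeRestrict.comp (MonoidHom.inr (X ⧸ K) (ZMod p)ˣ)
  have hz : ∀ (k : (ZMod p)ˣ) (w : Additive V), ρ (z k) w = (k : ZMod p) • w := by
    intro k w
    show (((cbar 1 * s k : (AddMonoid.End (Additive V))ˣ)) : AddMonoid.End (Additive V)) w = _
    rw [map_one, one_mul, hs]
  have hexpW : ∀ w : Additive V, p • w = 0 := by
    intro v
    have h1 : ((p : ℕ) : ZMod p) • v = 0 := by rw [ZMod.natCast_self, zero_smul]
    rwa [Nat.cast_smul_eq_nsmul] at h1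
  have htr2 : ∀ U U' : AddSubgroup (Additive V), Nat.card U = p ^ 2 → Nat.card U' = p ^ 2 →
      ∃ g : ψ.range, U.map (show Additive V →+ Additive V from ρ g) = U' := by
    intro U U' hU hU'
    obtain ⟨x, hx⟩ := trans_add V htr U U' (by rw [hU, hU'])
    refine ⟨γ x, ?_⟩
    rw [← hx]
    congr 1
    exact hγ x
  have htr1 : ∀ v w : Additive V, v ≠ 0 → w ≠ 0 → ∃ g : ψ.range, ρ g v = w := by
    intro v w hv hw
    have hov : addOrderOf v = p := addOrderOf_eq_prime (hexpW v) hv
    have how : addOrderOf w = p := addOrderOf_eq_prime (hexpW w) hw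
    obtain ⟨x, hx⟩ := trans_add V htr (AddSubgroup.zmultiples v) (AddSubgroup.zmultiples w)
      (by rw [Nat.card_zmultiples, Nat.card_zmultiples, hov, how])
    rw [AddMonoidHom.map_zmultiples] at hx
    have hw' : w ∈ AddSubgroup.zmultiples ((show Additive V →+ Additive V from conjEnd V x) v) := by
      rw [hx]; exact AddSubgroup.mem_zmultiples w
    obtain ⟨k, hk⟩ := AddSubgroup.mem_zmultiples_iff.mp hw'
    have hk0 : (k : ZMod p) ≠ 0 := by
      intro h0
      apply hw
      rw [← hk, ← Int.cast_smul_eq_zsmul (ZMod p), h0, zero_smul]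
    refine ⟨ψ.rangeRestrict (QuotientGroup.mk x, Units.mk0 (k : ZMod p) hk0), ?_⟩
    show (((cbar (QuotientGroup.mk x) * s (Units.mk0 (k : ZMod p) hk0) :
      (AddMonoid.End (Additive V))ˣ)) : AddMonoid.End (Additive V)) v = w
    rw [Units.val_mul]
    show ((cbar (QuotientGroup.mk x) : (AddMonoid.End (Additive V))ˣ) :
      AddMonoid.End (Additive V))
        (((s (Units.mk0 (k : ZMod p) hk0) : (AddMonoid.End (Additive V))ˣ) :
          AddMonoid.End (Additive V)) v) = w
    rw [hs, hcbar, Units.val_mk0, Int.cast_smul_eq_zsmul, map_zsmul]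
    exact hk
  obtain ⟨hcase, D1, D2, e, S, A, hAS, hA0⟩ :=
    core_linear p n hW hn hsolΓ ρ hρinj htr1 htr2 z hz
  refine ⟨e, S.comp γ, fun x => A (γ x), Nat.card ψ.range, hcase, ?_, fun x => hA0 _, D1, D2, ?_, ?_⟩
  · intro x w
    rw [← hγ x]
    exact hAS (γ x) w
  · intro hp2
    have hsub : Subsingleton (ZMod p)ˣ := by
      subst hp2
      infer_instance
    have hrange : ψ.range = (cU V).range := by
      apply le_antisymm
      · rintro _ ⟨⟨a, b⟩, rfl⟩
        obtain ⟨x, rfl⟩ := QuotientGroup.mk_surjective a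
        refine ⟨x, ?_⟩
        rw [hψ, Subsingleton.elim b 1, map_one, mul_one, hcbar]
      · rintro _ ⟨x, rfl⟩
        refine ⟨(QuotientGroup.mk x, 1), ?_⟩
        rw [hψ, map_one, mul_one, hcbar]
    rw [hrange]
  · intro x
    exact Nat.dvd_trans (orderOf_map_dvd S (γ x)) (orderOf_dvd_natCard _)

end Cfsg.Agent.Lib.Helper22.EqSylH
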