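import Mathlib
import Cfsg.Prelude.Def_Perm

set_option autoImplicit false
set_option linter.unusedSectionVars false
set_option linter.unusedVariables false

/-! Upper bounds for the orders of the one-dimensional affine and semi-affine groups. -/

namespace Cfsg.Agent.Lib.Helper22.EqSylI

theorem finite_ringAut (F : Type*) [Field F] [Finite F] : Finite (F ≃+* F) :=
  Finite.of_injective (fun e : F ≃+* F => (e : F → F)) DFunLike.coe_injective

theorem card_semiaffine_le (F : Type*) [Field F] [Finite F] :
    Nat.card (Cfsg.semiaffineGroup F) ≤ (Nat.card F - 1) * Nat.card F * Nat.card (F ≃+* F) := by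
  classical
  have := finite_ringAut F
  have hmem : ∀ π : Cfsg.semiaffineGroup F, ∃ t : Fˣ × F × (F ≃+* F),
      ∀ x, π.1 x = (t.1 : F) * t.2.2 x + t.2.1 := by
    rintro ⟨π, a, b, φ, h⟩
    exact ⟨(a, b, φ), h⟩
  choose T hT using hmem
  have hinj : Function.Injective T := by
    intro π π' h
    apply Subtype.ext
    ext x
    rw [hT π x, hT π' x, h]
  have := Nat.card_le_card_of_injective T hinj
  rwa [Nat.card_prod, Nat.card_prod, Nat.card_units, ← mul_assoc] at this

theorem card_affine_le (F : Type*) [Field F] [Finite F] :
    Nat.card (Cfsg.affineGroup F) ≤ (Nat.card F - 1) * Nat.card F := by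
  classical
  have hmem : ∀ π : Cfsg.affineGroup F, ∃ t : Fˣ × F,
      ∀ x, π.1 x = (t.1 : F) * x + t.2 := by
    rintro ⟨π, a, b, h⟩
    exact ⟨(a, b), h⟩
  choose T hT using hmem
  have hinj : Function.Injective T := by
    intro π π' h
    apply Subtype.ext
    ext x
    rw [hT π x, hT π' x, h]
  have := Nat.card_le_card_of_injective T hinj
  rwa [Nat.card_prod, Nat.card_units] at this

theorem finite_semiaffine (F : Type*) [Field F] [Finite F] : Finite (Cfsg.semiaffineGroup F) :=
  inferInstance

end Cfsg.Agent.Lib.Helper22.EqSylI
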