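import Mathlib
import Cfsg.Prelude.Def_CaseTheorems
import Cfsg.Prelude.Def_Perm
import Cfsg.Agent.Lib.Helper22.EqSylH
import Cfsg.Agent.Lib.Helper22.EqSylI

set_option autoImplicit false
set_option linter.unusedSectionVars false
set_option linter.unusedVariables false

/-! The final assembly for a group `X` with a normal elementary abelian Sylow subgroup. -/

namespace Cfsg.Agent.Lib.Helper22.EqSylJ

open Cfsg.Agent.Lib.Helper22.ExtPrimB Cfsg.Agent.Lib.Helper22.EqSylG
  Cfsg.Agent.Lib.Helper22.EqSylH Cfsg.Agent.Lib.Helper22.EqSylI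

open scoped IsMulCommutative

variable {X : Type*} [Group X] [Finite X] {p : ℕ} [hp : Fact p.Prime]

theorem lift_inj {P : Type*} [Group P] (K : Subgroup X) [K.Normal] (f0 : X →* P) (T : Subgroup P)
    (hT : ∀ x, f0 x ∈ T) (hker : f0.ker = K) :
    ∃ f : X ⧸ K →* T, Function.Injective f := by
  let f1 : X →* T := f0.codRestrict T hT
  have hk : K ≤ f1.ker := by
    intro k hk
    rw [MonoidHom.mem_ker]
    apply Subtype.ext
    show f0 k = 1
    rw [← MonoidHom.mem_ker, hker]
    exact hk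
  refine ⟨QuotientGroup.lift K f1 hk, ?_⟩
  rw [injective_iff_map_eq_one]
  intro q hq
  obtain ⟨x, rfl⟩ := QuotientGroup.mk_surjective q
  have h1 : f1 x = 1 := hq
  have h2 : f0 x = 1 := congrArg Subtype.val h1
  rw [QuotientGroup.eq_one_iff, ← hker]
  exact h2

theorem main_X' (V : Subgroup X) [hVn : V.Normal] [hVc : IsMulCommutative V] (n : ℕ) (hn : 3 ≤ n)
    (hexp : ∀ v ∈ V, v ^ p = 1) (hcard : Nat.card V = p ^ n)
    (hcop : (Nat.card V).Coprime V.index)
    (htr : ∀ U U' : Subgroup X, U ≤ V → U' ≤ V → Nat.card U = Nat.card U' →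
      ∃ x : X, U' = U.map (MulAut.conj x).toMonoidHom)
    (hsolv : Group.IsSolvable (X ⧸ Cfsg.pPrimeCore p X)) :
    (n = 3 ∨ (n = 5 ∧ p = 2)) ∧
    (∃ f : X ⧸ Cfsg.pPrimeCore p X →* ↥(Cfsg.semiaffineGroup (GaloisField p n)),
      Function.Injective f) ∧
    (p = 2 → Nonempty (X ⧸ Cfsg.pPrimeCore p X ≃* Cfsg.semiaffineGroup (GaloisField p n)) ∨
      (n = 3 ∧ Nonempty (X ⧸ Cfsg.pPrimeCore p X ≃* Cfsg.affineGroup (GaloisField p n)))) := by
  classical
  have hn0 : n ≠ 0 := by omega
  have hVp : IsPGroup p V := IsPGroup.of_card hcard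
  obtain ⟨H, hc⟩ := Subgroup.exists_right_complement'_of_coprime hcop
  have hHcard : V.index = Nat.card H := hc.symm.index_eq_card
  have hH : (Nat.card H).Coprime p := by
    rw [← hHcard]
    rw [hcard] at hcop
    exact (Nat.Coprime.coprime_dvd_left (dvd_pow_self p hn0) hcop).symm
  set K := Cfsg.pPrimeCore p X with hK
  have hKeq : K = H.normalCore := core_eq_normalCore V H hVp hc hH
  have hKH : K ≤ H := core_le_compl V H hVp hc hH
  have hKc : K ≤ (cU V).ker := by
    intro k hk
    rw [MonoidHom.mem_ker, cU_H_eq_one_iff V H hc k (hKH hk), ← hKeq]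
    exact hk
  obtain ⟨e, S, A, G, hcase, hAS, hA0, D1, D2, hG2, hSord⟩ :=
    lin_data V n hn hexp hcard htr hsolv hKc
  let e' : V ≃ GaloisField p n := Additive.ofMul.trans e.toEquiv
  have he'mul : ∀ u v : V, e' (u * v) = e' u + e' v := fun u v => e.map_add _ _
  let f0 : X →* Equiv.Perm (GaloisField p n) :=
    (e'.permCongrHom).toMonoidHom.comp (phi0 V H hc)
  have hf0 : ∀ x t, f0 x t = e' (phi0 V H hc x (e'.symm t)) := fun x t => rfl
  have hf0V : ∀ (v : X) (hv : v ∈ V) (t : GaloisField p n), f0 v t = t + e' ⟨v, hv⟩ := by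
    intro v hv t
    rw [hf0]
    have := phi0_V V H hc ⟨v, hv⟩ (e'.symm t)
    rw [this, he'mul, Equiv.apply_symm_apply, add_comm]
  have hf0H : ∀ (h : X) (hh : h ∈ H) (t : GaloisField p n), f0 h t = A h * S h t := by
    intro h hh t
    rw [hf0, phi0_H V H hc h hh]
    have h1 := hAS h (Additive.ofMul (e'.symm t))
    have h2 : e (Additive.ofMul (e'.symm t)) = t := e'.apply_symm_apply t
    rw [h2] at h1
    rw [← h1]
    rfl
  have hker : f0.ker = K := by
    rw [hKeq, ← phi0_ker V H hc]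
    ext x
    rw [MonoidHom.mem_ker, MonoidHom.mem_ker]
    show e'.permCongrHom (phi0 V H hc x) = 1 ↔ _
    rw [map_eq_one_iff _ (MulEquiv.injective _)]
  have hmemS : ∀ x, f0 x ∈ Cfsg.semiaffineGroup (GaloisField p n) := by
    intro x
    obtain ⟨v, hv, h, hh, rfl⟩ := exists_mul V H hc x
    rw [map_mul]
    apply Subgroup.mul_mem
    · refine ⟨1, e' ⟨v, hv⟩, RingEquiv.refl _, fun t => ?_⟩
      rw [hf0V v hv t]
      simp
    · refine ⟨Units.mk0 (A h) (hA0 h), 0, S h, fun t => ?_⟩
      rw [hf0H h hh t]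
      simp
  obtain ⟨f, hf⟩ := lift_inj K f0 _ hmemS hker
  refine ⟨hcase, ⟨f, hf⟩, ?_⟩
  intro hp2
  have hcq : Nat.card (X ⧸ K) = Nat.card V * Nat.card (cU V).range :=
    card_quot V H hVp hc hH
  rw [← hG2 hp2, hcard] at hcq
  have hcF : Nat.card (GaloisField p n) = p ^ n := GaloisField.card p n hn0
  have haut : Nat.card (GaloisField p n ≃+* GaloisField p n) = n :=
    (Cfsg.Agent.Lib.Helper22.ExtPrimA.card_ringAut (GaloisField p n) p n hp.out hcF).1
  have hbS := card_semiaffine_le (GaloisField p n)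
  have hbA := card_affine_le (GaloisField p n)
  rw [hcF, haut] at hbS
  rw [hcF] at hbA
  have hfinF : Finite (GaloisField p n) := Nat.finite_of_card_ne_zero (by
    rw [hcF]; exact (pow_pos hp.out.pos n).ne')
  rcases hcase with h3 | ⟨h5, _⟩
  · -- n = 3, p = 2
    subst h3
    subst hp2
    norm_num at D1 D2 hcq hbS hbA
    have h7 : 7 ∣ G := by
      have : 6 * 7 ∣ 6 * G := by
        rw [mul_comm 6 G]; exact D1
      exact Nat.dvd_of_mul_dvd_mul_left (by norm_num) this
    obtain ⟨k, hk⟩ := h7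
    have hk3 : k ∣ 3 := by
      have : 7 * k ∣ 7 * 3 := by rw [← hk]; exact D2
      exact Nat.dvd_of_mul_dvd_mul_left (by norm_num) this
    rcases (Nat.dvd_prime Nat.prime_three).mp hk3 with hk1 | hk1
    · -- G = 7: affine
      right
      refine ⟨rfl, ?_⟩
      have hG7 : G = 7 := by rw [hk, hk1]
      have hS1 : ∀ x, S x = 1 := by
        intro x
        have h1 : orderOf (S x) ∣ 7 := by rw [← hG7]; exact hSord x
        have h2 : orderOf (S x) ∣ 3 := by
          have h2' := orderOf_dvd_natCard (S x)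
          rw [haut] at h2'
          exact h2'
        have h3 : orderOf (S x) = 1 := by
          have := Nat.dvd_gcd h1 h2
          simpa using this
        exact orderOf_eq_one_iff.mp h3
      have hmemA : ∀ x, f0 x ∈ Cfsg.affineGroup (GaloisField 2 3) := by
        intro x
        obtain ⟨v, hv, h, hh, rfl⟩ := exists_mul V H hc x
        rw [map_mul]
        apply Subgroup.mul_mem
        · refine ⟨1, e' ⟨v, hv⟩, fun t => ?_⟩
          rw [hf0V v hv t]
          simp
        · refine ⟨Units.mk0 (A h) (hA0 h), 0, fun t => ?_⟩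
          rw [hf0H h hh t, hS1]
          simp
      obtain ⟨f', hf'⟩ := lift_inj K f0 _ hmemA hker
      have hbij : Function.Bijective f' := by
        apply hf'.bijective_of_nat_card_le
        rw [hcq, hG7]
        exact hbA
      exact ⟨MulEquiv.ofBijective f' hbij⟩
    · -- G = 21 : semiaffine
      left
      have hG21 : G = 21 := by rw [hk, hk1]
      have hbij : Function.Bijective f := by
        apply hf.bijective_of_nat_card_le
        rw [hcq, hG21]
        exact hbS
      exact ⟨MulEquiv.ofBijective f hbij⟩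
  · -- n = 5, p = 2
    subst h5
    subst hp2
    left
    norm_num at D1 D2 hcq hbS
    have h155 : 155 ∣ G := by
      have : 6 * 155 ∣ 6 * G := by
        rw [mul_comm 6 G]; exact D1
      exact Nat.dvd_of_mul_dvd_mul_left (by norm_num) this
    have hG : G = 155 := Nat.dvd_antisymm D2 h155
    have hbij : Function.Bijective f := by
      apply hf.bijective_of_nat_card_le
      rw [hcq, hG]
      exact hbS
    exact ⟨MulEquiv.ofBijective f hbij⟩

theorem main_X (V : Subgroup X) [hVn : V.Normal] [hVc : IsMulCommutative V] (n : ℕ) (hn : 3 ≤ n)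
    (hexp : ∀ v ∈ V, v ^ p = 1) (hcard : Nat.card V = p ^ n)
    (hcop : (Nat.card V).Coprime V.index)
    (htr : ∀ U U' : Subgroup X, U ≤ V → U' ≤ V → Nat.card U = Nat.card U' →
      ∃ x : X, U' = U.map (MulAut.conj x).toMonoidHom)
    (hsolv : Group.IsSolvable (X ⧸ Cfsg.pPrimeCore p X)) :
    (n = 3 ∧ (∃ f : X ⧸ Cfsg.pPrimeCore p X →* ↥(Cfsg.semiaffineGroup (GaloisField p 3)),
        Function.Injective f) ∧
      (p = 2 → Nonempty (X ⧸ Cfsg.pPrimeCore p X ≃* Cfsg.semiaffineGroup (GaloisField 2 3)) ∨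
               Nonempty (X ⧸ Cfsg.pPrimeCore p X ≃* Cfsg.affineGroup (GaloisField 2 3)))) ∨
    (n = 5 ∧ p = 2 ∧
      Nonempty (X ⧸ Cfsg.pPrimeCore p X ≃* Cfsg.semiaffineGroup (GaloisField 2 5))) := by
  obtain ⟨hcase, hf, h2⟩ := main_X' V n hn hexp hcard hcop htr hsolv
  rcases hcase with h3 | ⟨h5, hp2⟩
  · left
    subst h3
    refine ⟨rfl, hf, ?_⟩
    intro hp2
    subst hp2
    rcases h2 rfl with h | ⟨_, h⟩
    · exact Or.inl h
    · exact Or.inr h
  · right
    subst h5
    subst hp2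
    refine ⟨rfl, rfl, ?_⟩
    rcases h2 rfl with h | ⟨h, _⟩
    · exact h
    · omega

end Cfsg.Agent.Lib.Helper22.EqSylJ
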