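import Mathlib
import Cfsg.Agent.Lib.Helper22.ExtPrimA
import Cfsg.Agent.Lib.Helper22.ExtPrimB

set_option autoImplicit false

namespace Cfsg.Agent.Lib.Helper22.ExtPrimC

open Cfsg.Agent.Lib.Helper22.ExtPrimA Cfsg.Agent.Lib.Helper22.ExtPrimB

variable {G : Type*} [Group G] {Ω : Type*} [MulAction G Ω]

/-- regularity: two elements of `N` moving `α` to the same point are equal. -/
lemma eq_of_smul_eq (α : Ω) (N : Subgroup G) (hNreg : MulAction.stabilizer N α = ⊥)
    {a b : G} (ha : a ∈ N) (hb : b ∈ N) (h : a • α = b • α) : a = b := by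
  have h2 : b⁻¹ * a ∈ N := mul_mem (inv_mem hb) ha
  have h3 : (⟨_, h2⟩ : N) ∈ MulAction.stabilizer N α := by
    rw [MulAction.mem_stabilizer_iff]
    show (b⁻¹ * a) • α = α
    rw [mul_smul, h, ← mul_smul, inv_mul_cancel, one_smul]
  rw [hNreg, Subgroup.mem_bot] at h3
  have h4 : b⁻¹ * a = 1 := congrArg Subtype.val h3
  have : a = b * (b⁻¹ * a) := by group
  rw [this, h4, mul_one]

/-- for `h` fixing `α` and `n ∈ N`: `(h n h⁻¹) • α = h • n • α`. -/
lemma conj_smul (α : Ω) {h : G} (hh : h ∈ MulAction.stabilizer G α) (n : G) :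
    (h * n * h⁻¹) • α = h • n • α := by
  have ha : h • α = α := hh
  have : h⁻¹ • α = α := by rw [inv_smul_eq_iff, ha]
  rw [mul_smul, mul_smul, this]

open scoped IsMulCommutative in
theorem hyp_of_group [Finite G] [FaithfulSMul G Ω]
    (α : Ω) (N : Subgroup G) [hN : N.Normal] [hNc : IsMulCommutative N]
    (p d : ℕ) (hp : p.Prime) (hNp : ∀ n ∈ N, n ^ p = 1) (hNcard : Nat.card N = p ^ d)
    (hNtr : MulAction.IsPretransitive N Ω) (hNreg : MulAction.stabilizer N α = ⊥)
    (M₀ : Subgroup (MulAction.stabilizer G α)) (hM₀n : M₀.Normal) (hM₀1 : M₀ ≠ ⊥)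
    (hM₀c : ∀ a ∈ M₀, ∀ b ∈ M₀, a * b = b * a) (q : ℕ) (hq : q.Prime)
    (hM₀q : ∀ m ∈ M₀, m ^ q = 1)
    (horb : ∀ ω : Ω, MulAction.orbit (M₀.map (MulAction.stabilizer G α).subtype) ω
      = MulAction.orbit (MulAction.stabilizer G α) ω)
    (hirr : ∀ L : Subgroup G, L ≤ N →
      M₀.map (MulAction.stabilizer G α).subtype ≤ Subgroup.normalizer (L : Set G) →
      L = ⊥ ∨ L = N) :
    Hyp ((conjEnd N).comp (MulAction.stabilizer G α).subtype) M₀ p d q := by
  set ρ := (conjEnd N).comp (MulAction.stabilizer G α).subtype with hρ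
  have hρapp : ∀ (h : MulAction.stabilizer G α) (x : Additive N),
      ((Additive.toMul (ρ h x) : N) : G) = h.1 * (Additive.toMul x : N).1 * h.1⁻¹ :=
    fun h x => rfl
  refine ⟨hp, hq, ?_, ?_, ?_, hM₀n, hM₀c, hM₀q, hM₀1, ?_, ?_⟩
  · rw [← hNcard]; exact Nat.card_congr Additive.toMul
  · intro x
    apply Additive.toMul.injective
    rw [toMul_nsmul, toMul_zero]
    apply Subtype.ext
    rw [Subgroup.coe_pow]
    exact hNp _ (Additive.toMul x).2
  · -- faithful
    intro h h' hhh
    have hcent : ∀ n ∈ N, h.1 * n * h.1⁻¹ = h'.1 * n * h'.1⁻¹ := by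
      intro n hn
      have := congrArg (fun f => ((Additive.toMul (f (Additive.ofMul ⟨n, hn⟩)) : N) : G)) hhh
      exact this
    apply Subtype.ext
    have hone : h'.1⁻¹ * h.1 = 1 := by
      apply FaithfulSMul.eq_of_smul_eq_smul (α := Ω)
      intro c
      obtain ⟨n, hn⟩ := MulAction.exists_smul_eq N α c
      have hn' : (n : G) • α = c := hn
      rw [one_smul, ← hn']
      have h1 := hcent n.1 n.2
      have h2 : (h'.1⁻¹ * h.1) * n.1 = n.1 * (h'.1⁻¹ * h.1) := by
        have : (h'.1⁻¹ * h.1) * n.1 = h'.1⁻¹ * (h.1 * n.1 * h.1⁻¹) * h.1 := by group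
        rw [this, h1]; group
      rw [← mul_smul, h2, mul_smul]
      congr 1
      have h3 : h.1 • α = α := h.2
      have h4 : h'.1 • α = α := h'.2
      rw [mul_smul, h3, inv_smul_eq_iff, h4]
    have : h.1 = h'.1 * (h'.1⁻¹ * h.1) := by group
    rw [this, hone, mul_one]
  · -- irreducible
    intro B hB
    let L : Subgroup G :=
      { carrier := {g | ∃ hg : g ∈ N, Additive.ofMul (⟨g, hg⟩ : N) ∈ B}
        one_mem' := ⟨one_mem N, B.zero_mem⟩
        mul_mem' := by
          rintro a b ⟨ha, hab⟩ ⟨hb, hbb⟩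
          exact ⟨mul_mem ha hb, B.add_mem hab hbb⟩
        inv_mem' := by
          rintro a ⟨ha, hab⟩
          exact ⟨inv_mem ha, B.neg_mem hab⟩ }
    have hLN : L ≤ N := fun g hg => hg.1
    have hfw : ∀ m ∈ M₀, ∀ g ∈ L, m.1 * g * m.1⁻¹ ∈ L := by
      rintro m hm g ⟨hg, hgB⟩
      exact ⟨hN.conj_mem g hg m.1, hB m hm _ hgB⟩
    have hLn : M₀.map (MulAction.stabilizer G α).subtype ≤ Subgroup.normalizer (L : Set G) := by
      rintro _ ⟨m, hm, rfl⟩
      rw [Subgroup.mem_set_normalizer_iff]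
      intro g
      refine ⟨hfw m hm g, fun hg => ?_⟩
      have := hfw m⁻¹ (inv_mem hm) _ hg
      have e : (m⁻¹ : MulAction.stabilizer G α).1
          * ((MulAction.stabilizer G α).subtype m * g * ((MulAction.stabilizer G α).subtype m)⁻¹)
          * (m⁻¹ : MulAction.stabilizer G α).1⁻¹ = g := by
        simp only [Subgroup.coe_inv, Subgroup.coe_subtype]
        group
      rwa [e] at this
    rcases hirr L hLN hLn with h | h
    · left
      rw [AddSubgroup.eq_bot_iff_forall]
      intro x hx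
      have : ((Additive.toMul x : N) : G) ∈ L := ⟨(Additive.toMul x).2, hx⟩
      rw [h, Subgroup.mem_bot] at this
      apply Additive.toMul.injective
      exact Subtype.ext this
    · right
      rw [AddSubgroup.eq_top_iff']
      intro x
      have : ((Additive.toMul x : N) : G) ∈ L := by rw [h]; exact (Additive.toMul x).2
      obtain ⟨_, h2⟩ := this
      exact h2
  · -- orbits
    intro h x
    set n : G := ((Additive.toMul x : N) : G) with hn
    have hnN : n ∈ N := (Additive.toMul x).2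
    have h1 : h.1 • n • α ∈ MulAction.orbit (MulAction.stabilizer G α) (n • α) := ⟨h, rfl⟩
    rw [← horb] at h1
    obtain ⟨t, ht⟩ := h1
    obtain ⟨m, hm, hmt⟩ := t.2
    refine ⟨m, hm, ?_⟩
    apply Additive.toMul.injective
    apply Subtype.ext
    rw [hρapp, hρapp]
    apply eq_of_smul_eq α N hNreg (hN.conj_mem n hnN h.1) (hN.conj_mem n hnN m.1)
    rw [conj_smul α h.2, conj_smul α m.2]
    have ht' : t.1 • n • α = h.1 • n • α := ht
    rw [← ht', ← hmt]
    rfl


open scoped IsMulCommutative in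
/-- consequences in group-theoretic language. -/
theorem main_group [Finite G] [FaithfulSMul G Ω]
    (α : Ω) (N : Subgroup G) [hN : N.Normal] [hNc : IsMulCommutative N]
    (p d : ℕ)
    (hNtr : MulAction.IsPretransitive N Ω) (hNreg : MulAction.stabilizer N α = ⊥)
    (M₀ : Subgroup (MulAction.stabilizer G α)) (q : ℕ)
    (hyp : Hyp ((conjEnd N).comp (MulAction.stabilizer G α).subtype) M₀ p d q) :
    (∀ ω : Ω, ω ≠ α →
      Nat.card (MulAction.orbit (M₀.map (MulAction.stabilizer G α).subtype) ω) = q) ∧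
    Nat.card (M₀.map (MulAction.stabilizer G α).subtype) = q ∧
    (∃ h : G, MulAction.stabilizer G α
      = M₀.map (MulAction.stabilizer G α).subtype ⊔ Subgroup.zpowers h) ∧
    Nat.card (MulAction.stabilizer G α) ∣ q * d := by
  have hTcard : Nat.card (M₀.map (MulAction.stabilizer G α).subtype) = q := by
    rw [Subgroup.card_map_of_injective (MulAction.stabilizer G α).subtype_injective]
    exact hyp.card_M
  refine ⟨?_, hTcard, ?_, hyp.card_H.1⟩
  · intro ω hω
    have horb : Nat.card (MulAction.orbit (M₀.map (MulAction.stabilizer G α).subtype) ω) * Nat.card (MulAction.stabilizer (M₀.map (MulAction.stabilizer G α).subtype) ω)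
        = Nat.card (M₀.map (MulAction.stabilizer G α).subtype) := by
      rw [Nat.card_congr (MulAction.orbitEquivQuotientStabilizer (M₀.map (MulAction.stabilizer G α).subtype) ω)]
      exact (Subgroup.card_eq_card_quotient_mul_card_subgroup _).symm
    have hst : MulAction.stabilizer (M₀.map (MulAction.stabilizer G α).subtype) ω = ⊥ := by
      rw [Subgroup.eq_bot_iff_forall]
      intro t ht
      obtain ⟨n, hn⟩ := MulAction.exists_smul_eq N α ω
      have hn' : (n : G) • α = ω := hn
      have hn1 : (n : G) ≠ 1 := by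
        intro h
        rw [h, one_smul] at hn'
        exact hω hn'.symm
      obtain ⟨m, hm, hmt⟩ := t.2
      have htω : t.1 • ω = ω := ht
      by_contra ht1
      have hm1 : m ≠ 1 := by
        intro h
        apply ht1
        apply Subtype.ext
        rw [← hmt, h]
        rfl
      have hx0 : Additive.ofMul (⟨n.1, n.2⟩ : N) ≠ 0 := by
        intro h
        apply hn1
        have := congrArg (fun z => ((Additive.toMul z : N) : G)) h
        exact this
      apply hyp.semiregular hm hm1 hx0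
      apply Additive.toMul.injective
      apply Subtype.ext
      show m.1 * n.1 * m.1⁻¹ = n.1
      apply eq_of_smul_eq α N hNreg (hN.conj_mem n.1 n.2 m.1) n.2
      rw [conj_smul α m.2, hn']
      have : (MulAction.stabilizer G α).subtype m = m.1 := rfl
      rw [← this, hmt]
      exact htω
    rw [hst, Subgroup.card_bot, mul_one] at horb
    rw [horb, hTcard]
  · obtain ⟨h0, hh0⟩ := hyp.card_H.2
    refine ⟨h0.1, ?_⟩
    have := congrArg (Subgroup.map (MulAction.stabilizer G α).subtype) hh0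
    rw [Subgroup.map_sup, MonoidHom.map_zpowers, ← MonoidHom.range_eq_map,
      Subgroup.range_subtype] at this
    exact this


open scoped IsMulCommutative in
/-- everything together, without mentioning `Hyp`. -/
theorem main_all [Finite G] [FaithfulSMul G Ω]
    (α : Ω) (N : Subgroup G) [hN : N.Normal] [hNc : IsMulCommutative N]
    (p d : ℕ) (hp : p.Prime) (hNp : ∀ n ∈ N, n ^ p = 1) (hNcard : Nat.card N = p ^ d)
    (hNtr : MulAction.IsPretransitive N Ω) (hNreg : MulAction.stabilizer N α = ⊥)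
    (M₀ : Subgroup (MulAction.stabilizer G α)) (hM₀n : M₀.Normal) (hM₀1 : M₀ ≠ ⊥)
    (hM₀c : ∀ a ∈ M₀, ∀ b ∈ M₀, a * b = b * a) (q : ℕ) (hq : q.Prime)
    (hM₀q : ∀ m ∈ M₀, m ^ q = 1)
    (horb : ∀ ω : Ω, MulAction.orbit (M₀.map (MulAction.stabilizer G α).subtype) ω
      = MulAction.orbit (MulAction.stabilizer G α) ω)
    (hirr : ∀ L : Subgroup G, L ≤ N →
      M₀.map (MulAction.stabilizer G α).subtype ≤ Subgroup.normalizer (L : Set G) →
      L = ⊥ ∨ L = N) :
    (∀ ω : Ω, ω ≠ α →
      Nat.card (MulAction.orbit (M₀.map (MulAction.stabilizer G α).subtype) ω) = q) ∧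
    Nat.card (M₀.map (MulAction.stabilizer G α).subtype) = q ∧
    (∃ h : G, MulAction.stabilizer G α
      = M₀.map (MulAction.stabilizer G α).subtype ⊔ Subgroup.zpowers h) ∧
    Nat.card (MulAction.stabilizer G α) ∣ q * d ∧
    q ∣ p ^ d - 1 ∧ ∀ i : ℕ, 0 < i → i < d → ¬ q ∣ p ^ i - 1 := by
  have hyp := hyp_of_group α N p d hp hNp hNcard hNtr hNreg M₀ hM₀n hM₀1 hM₀c q hq hM₀q
    horb hirr
  obtain ⟨h1, h2, h3, h4⟩ := main_group α N p d hNtr hNreg M₀ q hyp
  exact ⟨h1, h2, h3, h4, hyp.ord.1, hyp.ord.2⟩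

end Cfsg.Agent.Lib.Helper22.ExtPrimC
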