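import Mathlib
import Cfsg.Agent.Lib.Helper22.ExtPrimB

set_option autoImplicit false

namespace Cfsg.Agent.Lib.Helper22.ExtPrimF

open Cfsg.Agent.Lib.Helper22.ExtPrimB

/-- endomorphisms of an elementary abelian group of order `p ^ e` embed in `e × e` matrices. -/
theorem exists_matrix_hom (A : Type*) [AddCommGroup A] [Finite A] (p e : ℕ) [hp : Fact p.Prime]
    [Module (ZMod p) A] (hcard : Nat.card A = p ^ e) :
    ∃ Φ : AddMonoid.End A →* Matrix (Fin e) (Fin e) (ZMod p), Function.Injective Φ := by
  have hfr : Module.finrank (ZMod p) A = e := by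
    have h := FiniteField.pow_finrank_eq_natCard p A
    rw [hcard] at h
    exact Nat.pow_right_injective hp.out.two_le h
  let b : Module.Basis (Fin e) (ZMod p) A := Module.finBasisOfFinrankEq (ZMod p) A hfr
  let ψ₁ : AddMonoid.End A →* Module.End (ZMod p) A :=
    { toFun := fun f => AddMonoidHom.toZModLinearMap p f
      map_one' := by ext x; rfl
      map_mul' := fun f g => by ext x; rfl }
  refine ⟨(LinearMap.toMatrixAlgEquiv b).toMulEquiv.toMonoidHom.comp ψ₁, ?_⟩
  intro f g hfg
  have h1 : ψ₁ f = ψ₁ g := (LinearMap.toMatrixAlgEquiv b).injective hfg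
  ext x
  have := congrArg (fun l : Module.End (ZMod p) A => l x) h1
  exact this

open scoped IsMulCommutative in
/-- the conjugation representation on an elementary abelian normal subgroup. -/
theorem exists_GL_hom {H : Type*} [Group H] (F : Subgroup H) [hFn : F.Normal]
    [hFc : IsMulCommutative F] (p e : ℕ) (hp : p.Prime) (hexp : ∀ x ∈ F, x ^ p = 1)
    (hcard : Nat.card F = p ^ e) :
    ∃ φ : H →* GL (Fin e) (ZMod p), φ.ker = Subgroup.centralizer (F : Set H) := by
  have : Fact p.Prime := ⟨hp⟩
  have hfin : Finite F := Nat.finite_of_card_ne_zero (by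
    rw [hcard]; exact (pow_pos hp.pos e).ne')
  have hA : ∀ x : Additive F, p • x = 0 := by
    intro x
    apply Additive.toMul.injective
    rw [toMul_nsmul, toMul_zero]
    apply Subtype.ext
    rw [Subgroup.coe_pow]
    exact hexp _ (Additive.toMul x).2
  let inst : Module (ZMod p) (Additive F) := AddCommGroup.zmodModule hA
  have hfinA : Finite (Additive F) := Finite.of_equiv F Additive.ofMul
  have h2 : Nat.card (Additive F) = p ^ e := by
    rw [← hcard]; exact Nat.card_congr Additive.toMul
  obtain ⟨Φ, hΦ⟩ := @exists_matrix_hom (Additive F) _ hfinA p e _ inst h2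
  let φ : H →* GL (Fin e) (ZMod p) := (Units.map Φ).comp (conjEnd F).toHomUnits
  refine ⟨φ, ?_⟩
  ext h
  rw [MonoidHom.mem_ker, Subgroup.mem_centralizer_iff]
  have happ : ∀ (x : Additive F), (((Additive.toMul (conjEnd F h x) : F)) : H)
      = h * (Additive.toMul x : F).1 * h⁻¹ := fun x => rfl
  constructor
  · intro hφ f hf
    have h1 : (conjEnd F).toHomUnits h = 1 := by
      apply Units.map_injective hΦ
      rw [map_one]
      exact hφ
    have h2 : conjEnd F h = 1 := by
      have := congrArg Units.val h1
      exact this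
    have h3 := happ (Additive.ofMul ⟨f, hf⟩)
    rw [h2] at h3
    have h4 : f = h * f * h⁻¹ := h3
    calc f * h = (h * f * h⁻¹) * h := by rw [← h4]
      _ = h * f := by group
  · intro hc
    have h2 : conjEnd F h = 1 := by
      refine DFunLike.ext _ _ (fun x => ?_)
      apply Additive.toMul.injective
      apply Subtype.ext
      rw [happ]
      have := hc _ (Additive.toMul x).2
      show h * (Additive.toMul x : F).1 * h⁻¹ = (Additive.toMul x : F).1
      rw [← this]; group
    have h1 : (conjEnd F).toHomUnits h = 1 := by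
      apply Units.ext
      exact h2
    show Units.map Φ ((conjEnd F).toHomUnits h) = 1
    rw [h1, map_one]

end Cfsg.Agent.Lib.Helper22.ExtPrimF
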