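import Mathlib
import Cfsg.Agent.Lib.helper23.FrobSemi

set_option autoImplicit false

namespace Cfsg.Agent.Lib.Helper22.FrobProdA

open Finset

/-- If a matrix (over `ZMod ℓ`) is fixed under right multiplication by `R` with
`∑_{i<o} R^i = 0` and `ℓ ∤ o`, it is zero. -/
theorem eq_zero_of_mul_right {ℓ : ℕ} [Fact ℓ.Prime] {m n : ℕ}
    (M : Matrix (Fin m) (Fin n) (ZMod ℓ)) (R : Matrix (Fin n) (Fin n) (ZMod ℓ)) (o : ℕ)
    (ho : ¬ ℓ ∣ o) (hR : ∑ i ∈ range o, R ^ i = 0) (hM : M * R = M) : M = 0 := by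
  have h1 : ∀ i : ℕ, M * R ^ i = M := by
    intro i
    induction i with
    | zero => simp
    | succ i ih => rw [pow_succ', ← Matrix.mul_assoc, hM, ih]
  have h2 : M * ∑ i ∈ range o, R ^ i = o • M := by
    rw [Matrix.mul_sum, Finset.sum_congr rfl (fun i _ => h1 i), Finset.sum_const,
      Finset.card_range]
  rw [hR, Matrix.mul_zero] at h2
  have h3 : ((o : ℕ) : ZMod ℓ) • M = 0 := by
    rw [Nat.cast_smul_eq_nsmul]
    exact h2.symm
  rcases smul_eq_zero.mp h3 with h | h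
  · exfalso
    exact ho ((ZMod.natCast_eq_zero_iff o ℓ).mp h)
  · exact h

theorem eq_zero_of_mul_left {ℓ : ℕ} [Fact ℓ.Prime] {m n : ℕ}
    (M : Matrix (Fin m) (Fin n) (ZMod ℓ)) (R : Matrix (Fin m) (Fin m) (ZMod ℓ)) (o : ℕ)
    (ho : ¬ ℓ ∣ o) (hR : ∑ i ∈ range o, R ^ i = 0) (hM : R * M = M) : M = 0 := by
  have h1 : ∀ i : ℕ, R ^ i * M = M := by
    intro i
    induction i with
    | zero => simp
    | succ i ih => rw [pow_succ, Matrix.mul_assoc, hM, ih]
  have h2 : (∑ i ∈ range o, R ^ i) * M = o • M := by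
    rw [Matrix.sum_mul, Finset.sum_congr rfl (fun i _ => h1 i), Finset.sum_const,
      Finset.card_range]
  rw [hR, Matrix.zero_mul] at h2
  have h3 : ((o : ℕ) : ZMod ℓ) • M = 0 := by
    rw [Nat.cast_smul_eq_nsmul]
    exact h2.symm
  rcases smul_eq_zero.mp h3 with h | h
  · exfalso
    exact ho ((ZMod.natCast_eq_zero_iff o ℓ).mp h)
  · exact h

/-- the two-sided action on rectangular matrices -/
def biAct {A B : Type*} [Group A] [Group B] {R : Type*} [CommRing R] {a b : ℕ}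
    (ρA : A →* Matrix (Fin a) (Fin a) R) (ρB : B →* Matrix (Fin b) (Fin b) R) :
    A × B →* AddMonoid.End (Matrix (Fin b) (Fin a) R) where
  toFun g :=
    { toFun := fun M => ρB g.2 * M * ρA g.1⁻¹
      map_zero' := by simp
      map_add' := fun M N => by rw [Matrix.mul_add, Matrix.add_mul] }
  map_one' := by
    apply AddMonoidHom.ext
    intro M
    show ρB (1 : A × B).2 * M * ρA (1 : A × B).1⁻¹ = M
    simp
  map_mul' := fun g h => by
    apply AddMonoidHom.ext
    intro M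
    show ρB (g * h).2 * M * ρA (g * h).1⁻¹ = ρB g.2 * (ρB h.2 * M * ρA h.1⁻¹) * ρA g.1⁻¹
    simp only [Prod.snd_mul, Prod.fst_mul, mul_inv_rev, map_mul, Matrix.mul_assoc]

theorem biAct_apply {A B : Type*} [Group A] [Group B] {R : Type*} [CommRing R] {a b : ℕ}
    (ρA : A →* Matrix (Fin a) (Fin a) R) (ρB : B →* Matrix (Fin b) (Fin b) R) (g : A × B)
    (M : Matrix (Fin b) (Fin a) R) : biAct ρA ρB g M = ρB g.2 * M * ρA g.1⁻¹ := rfl

end Cfsg.Agent.Lib.Helper22.FrobProdA
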