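import Mathlib
import Cfsg.Agent.Lib.helper23.FrobSemi
import Cfsg.Agent.Lib.Helper22.FrobProdA

set_option autoImplicit false

namespace Cfsg.Agent.Lib.Helper22.FrobProdB

open Finset Cfsg.Agent.Lib.Helper22.FrobProdA

/-- reduction of an integral representation modulo `ℓ` -/
def redRep {A : Type*} [Group A] {a : ℕ} (ℓ : ℕ) (ρA : A →* Matrix (Fin a) (Fin a) ℤ) :
    A →* Matrix (Fin a) (Fin a) (ZMod ℓ) :=
  (Int.castRingHom (ZMod ℓ)).mapMatrix.toMonoidHom.comp ρA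

theorem redRep_sum {A : Type*} [Group A] {a : ℕ} (ℓ : ℕ) (ρA : A →* Matrix (Fin a) (Fin a) ℤ)
    (g : A) (o : ℕ) (h : ∑ i ∈ range o, ρA g ^ i = 0) :
    ∑ i ∈ range o, redRep ℓ ρA g ^ i = 0 := by
  have h1 : ∑ i ∈ range o, redRep ℓ ρA g ^ i =
      (Int.castRingHom (ZMod ℓ)).mapMatrix (∑ i ∈ range o, ρA g ^ i) := by
    rw [map_sum]
    apply Finset.sum_congr rfl
    intro i _
    rw [map_pow]
    rfl
  rw [h1, h, map_zero]

/-- the two-sided action is fixed-point-free -/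
theorem biAct_fpf {A B : Type*} [Group A] [Finite A] [Group B] [Finite B] {a b : ℕ}
    (ρA : A →* Matrix (Fin a) (Fin a) ℤ)
    (hρA : ∀ g : A, g ≠ 1 → ∑ i ∈ range (orderOf g), ρA g ^ i = 0)
    (ρB : B →* Matrix (Fin b) (Fin b) ℤ)
    (hρB : ∀ g : B, g ≠ 1 → ∑ i ∈ range (orderOf g), ρB g ^ i = 0)
    (hcop : (Nat.card A).Coprime (Nat.card B)) (ℓ : ℕ) [Fact ℓ.Prime]
    (hℓA : ¬ ℓ ∣ Nat.card A) (hℓB : ¬ ℓ ∣ Nat.card B) (g : A × B) (hg : g ≠ 1)
    (M : Matrix (Fin b) (Fin a) (ZMod ℓ))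
    (hM : biAct (redRep ℓ ρA) (redRep ℓ ρB) g M = M) : M = 0 := by
  have hpow : ∀ j : ℕ, biAct (redRep ℓ ρA) (redRep ℓ ρB) (g ^ j) M = M := by
    intro j
    induction j with
    | zero => rw [pow_zero, map_one]; rfl
    | succ j ih =>
      rw [pow_succ, map_mul]
      show biAct (redRep ℓ ρA) (redRep ℓ ρB) (g ^ j)
        (biAct (redRep ℓ ρA) (redRep ℓ ρB) g M) = M
      rw [hM, ih]
  obtain ⟨x, y⟩ := g
  by_cases hx : x = 1
  · subst hx
    have hy : y ≠ 1 := by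
      intro h
      apply hg
      rw [h]
      rfl
    rw [biAct_apply] at hM
    simp only [inv_one, map_one, Matrix.mul_one] at hM
    apply eq_zero_of_mul_left M (redRep ℓ ρB y) (orderOf y) _ (redRep_sum ℓ ρB y _ (hρB y hy)) hM
    intro h
    exact hℓB (h.trans (orderOf_dvd_natCard y))
  · have hxj : x ^ orderOf y ≠ 1 := by
      intro h
      apply hx
      have h1 : orderOf x ∣ orderOf y := orderOf_dvd_of_pow_eq_one h
      have h2 : orderOf x ∣ Nat.gcd (Nat.card A) (Nat.card B) :=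
        Nat.dvd_gcd (orderOf_dvd_natCard x) (h1.trans (orderOf_dvd_natCard y))
      rw [hcop.gcd_eq_one, Nat.dvd_one] at h2
      exact orderOf_eq_one_iff.mp h2
    have h3 := hpow (orderOf y)
    rw [biAct_apply] at h3
    simp only [Prod.pow_snd, Prod.pow_fst, pow_orderOf_eq_one, map_one, Matrix.one_mul] at h3
    have hz : (x ^ orderOf y)⁻¹ ≠ 1 := by
      intro h
      apply hxj
      rwa [inv_eq_one] at h
    apply eq_zero_of_mul_right M (redRep ℓ ρA (x ^ orderOf y)⁻¹) (orderOf (x ^ orderOf y)⁻¹) _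
      (redRep_sum ℓ ρA _ _ (hρA _ hz)) h3
    intro h
    exact hℓA (h.trans (orderOf_dvd_natCard _))

end Cfsg.Agent.Lib.Helper22.FrobProdB
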