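import Mathlib
import Cfsg.Agent.Lib.helper23.FrobSemi
import Cfsg.Agent.Lib.Helper22.FrobProdB

set_option autoImplicit false

namespace Cfsg.Agent.Lib.Helper22.FrobProdC

open Finset Cfsg.Agent.Lib.Helper22.FrobProdA Cfsg.Agent.Lib.Helper22.FrobProdB

/-- A group acting freely on a finite nontrivial additive group by a hom into `AddMonoid.End`
is a Frobenius complement. -/
theorem exists_frobenius_of_end {H : Type*} [Group H] [Finite H] [Nontrivial H]
    {W : Type*} [AddCommGroup W] [Finite W] [Nontrivial W] (f : H →* AddMonoid.End W)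
    (hfree : ∀ h : H, h ≠ 1 → ∀ w : W, f h w = w → w = 0) :
    ∃ (L : Type) (_ : Group L) (_ : Finite L) (C : Subgroup L),
      Cfsg.IsFrobeniusComplement C ∧ Nonempty (H ≃* C) := by
  letI : DistribMulAction H W := DistribMulAction.compHom W f
  let φ : H →* MulAut (Multiplicative W) :=
    (MulAutMultiplicative W).symm.toMonoidHom.comp (DistribMulAction.toAddAut H W)
  have hφ : ∀ (h : H) (w : Multiplicative W), φ h w = Multiplicative.ofAdd (f h w.toAdd) :=
    fun h w => rfl
  have hF := Cfsg.Agent.Lib.helper23.isFrobeniusComplement_range_inr φ (by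
    intro h hh n hn
    rw [hφ] at hn
    have h1 : f h n.toAdd = n.toAdd := congrArg Multiplicative.toAdd hn
    have h2 := hfree h hh _ h1
    exact congrArg Multiplicative.ofAdd h2)
  haveI : Finite (Multiplicative W ⋊[φ] H) := Finite.of_equiv _ SemidirectProduct.equivProd.symm
  obtain ⟨L', hg, hf, C', hC', ⟨e⟩⟩ := Cfsg.Agent.Lib.helper23.exists_frobenius_type_zero _ hF
  refine ⟨L', hg, hf, C', hC', ⟨?_⟩⟩
  exact (MonoidHom.ofInjective SemidirectProduct.inr_injective).trans e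

/-- A direct product of groups of coprime orders with integral fixed-point-free forms is a
Frobenius complement. -/
theorem prod_complement_of_zforms {A B : Type*} [Group A] [Finite A] [Nontrivial A]
    [Group B] [Finite B] [Nontrivial B] {a b : ℕ} (ha : 0 < a) (hb : 0 < b)
    (ρA : A →* Matrix (Fin a) (Fin a) ℤ)
    (hρA : ∀ g : A, g ≠ 1 → ∑ i ∈ range (orderOf g), ρA g ^ i = 0)
    (ρB : B →* Matrix (Fin b) (Fin b) ℤ)
    (hρB : ∀ g : B, g ≠ 1 → ∑ i ∈ range (orderOf g), ρB g ^ i = 0)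
    (hcop : (Nat.card A).Coprime (Nat.card B)) :
    ∃ (L : Type) (_ : Group L) (_ : Finite L) (H : Subgroup L),
      Cfsg.IsFrobeniusComplement H ∧ Nonempty ((A × B) ≃* H) := by
  obtain ⟨ℓ, hℓge, hℓ⟩ := Nat.exists_infinite_primes (Nat.card A * Nat.card B + 1)
  haveI : Fact ℓ.Prime := ⟨hℓ⟩
  have hA1 : 0 < Nat.card A := Nat.card_pos
  have hB1 : 0 < Nat.card B := Nat.card_pos
  have hℓA : ¬ ℓ ∣ Nat.card A := by
    apply Nat.not_dvd_of_pos_of_lt hA1
    calc Nat.card A ≤ Nat.card A * Nat.card B := Nat.le_mul_of_pos_right _ hB1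
      _ < ℓ := by omega
  have hℓB : ¬ ℓ ∣ Nat.card B := by
    apply Nat.not_dvd_of_pos_of_lt hB1
    calc Nat.card B ≤ Nat.card A * Nat.card B := Nat.le_mul_of_pos_left _ hA1
      _ < ℓ := by omega
  haveI : Nonempty (Fin a) := ⟨⟨0, ha⟩⟩
  haveI : Nonempty (Fin b) := ⟨⟨0, hb⟩⟩
  haveI : Nontrivial (Matrix (Fin b) (Fin a) (ZMod ℓ)) := inferInstance
  haveI : Finite (Matrix (Fin b) (Fin a) (ZMod ℓ)) := inferInstance
  exact exists_frobenius_of_end (biAct (redRep ℓ ρA) (redRep ℓ ρB))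
    (fun g hg M hM => biAct_fpf ρA hρA ρB hρB hcop ℓ hℓA hℓB g hg M hM)

end Cfsg.Agent.Lib.Helper22.FrobProdC
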