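import Mathlib
import Cfsg.Agent.S0035
import Cfsg.Agent.S0039
import Cfsg.Agent.Lib.helper23.FrobSemi

set_option autoImplicit false

namespace Cfsg.Agent.Lib.Helper22.FrobProdD

open Finset

/-- A nontrivial group embedding into a Frobenius complement is a Frobenius complement. -/
theorem complement_of_injective {L : Type} [Group L] [Finite L] (H : Subgroup L)
    (hH : Cfsg.IsFrobeniusComplement H) {A : Type*} [Group A] [Nontrivial A] (ι : A →* H)
    (hι : Function.Injective ι) :
    ∃ (L' : Type) (_ : Group L') (_ : Finite L') (C : Subgroup L'),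
      Cfsg.IsFrobeniusComplement C ∧ Nonempty (A ≃* C) := by
  haveI : Finite A := Finite.of_injective ι hι
  obtain ⟨N, _, hNn, hNc⟩ := Cfsg.Agent.S0035.result H hH
  haveI := hNn
  have hNbot : N ≠ ⊥ := by
    intro h
    rw [h] at hNc
    exact hH.2.1 (Subgroup.isComplement'_bot_left.mp hNc)
  have hfp := (Cfsg.Agent.S0039.result N H hNc hNbot hH.1).mp hH
  haveI : Nontrivial N := (Subgroup.nontrivial_iff_ne_bot N).mpr hNbot
  let φ : A →* MulAut N := (MulAut.conjNormal (H := N)).comp (H.subtype.comp ι)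
  have hφ : ∀ (x : A) (w : N), ((φ x w : N) : L) = ((ι x : H) : L) * w * ((ι x : H) : L)⁻¹ :=
    fun x w => rfl
  have hF := Cfsg.Agent.Lib.helper23.isFrobeniusComplement_range_inr φ (by
    intro x hx w hw
    have h1 : ((ι x : H) : L) ≠ 1 := by
      intro h
      apply hx
      have : ι x = 1 := Subtype.ext h
      rwa [← map_one ι, hι.eq_iff] at this
    have h2 := hfp (ι x) (ι x).2 h1
    have h3 : (w : L) ∈ N ⊓ Subgroup.centralizer {((ι x : H) : L)} := by
      refine ⟨w.2, ?_⟩
      show (w : L) ∈ Subgroup.centralizer {((ι x : H) : L)}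
      rw [Subgroup.mem_centralizer_iff]
      intro h hh
      rw [Set.mem_singleton_iff] at hh
      subst hh
      have h4 := hφ x w
      rw [hw] at h4
      calc ((ι x : H) : L) * w = ((ι x : H) : L) * w * ((ι x : H) : L)⁻¹ * ((ι x : H) : L) := by
            group
        _ = w * ((ι x : H) : L) := by rw [← h4]
    rw [h2, Subgroup.mem_bot] at h3
    exact Subtype.ext h3)
  haveI : Finite (N ⋊[φ] A) := Finite.of_equiv _ SemidirectProduct.equivProd.symm
  obtain ⟨L', hg, hf, C', hC', ⟨e⟩⟩ := Cfsg.Agent.Lib.helper23.exists_frobenius_type_zero _ hF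
  refine ⟨L', hg, hf, C', hC', ⟨?_⟩⟩
  exact (MonoidHom.ofInjective SemidirectProduct.inr_injective).trans e

/-- A group with an integral fixed-point-free form cannot contain commuting elements of the
same prime order generating a direct product: stated for a product group. -/
theorem coprime_of_zform {A B : Type*} [Group A] [Finite A] [Group B] [Finite B] {d : ℕ}
    (hd : 0 < d) (ρ : A × B →* Matrix (Fin d) (Fin d) ℤ)
    (hρ : ∀ g : A × B, g ≠ 1 → ∑ i ∈ range (orderOf g), ρ g ^ i = 0) :
    (Nat.card A).Coprime (Nat.card B) := by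
  by_contra hnc
  obtain ⟨p, hp, hpA, hpB⟩ := Nat.Prime.not_coprime_iff_dvd.mp hnc
  haveI : Fact p.Prime := ⟨hp⟩
  obtain ⟨a, ha⟩ := exists_prime_orderOf_dvd_card' p hpA
  obtain ⟨b, hb⟩ := exists_prime_orderOf_dvd_card' p hpB
  -- elements (a^i, b) have order p
  have h1 : ∀ i : ℕ, ∑ j ∈ range p, ρ (a ^ i, b) ^ j = 0 := by
    intro i
    have ho : orderOf ((a ^ i, b) : A × B) = p := by
      rw [Prod.orderOf]
      show Nat.lcm (orderOf (a ^ i)) (orderOf b) = p
      rw [hb]
      apply Nat.lcm_eq_right_iff_dvd.mpr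
      rw [← ha]
      exact orderOf_pow_dvd i
    have hne : ((a ^ i, b) : A × B) ≠ 1 := by
      intro h
      have : b = 1 := congrArg Prod.snd h
      rw [this, orderOf_one] at hb
      exact hp.one_lt.ne hb
    have := hρ _ hne
    rwa [ho] at this
  -- elements (a^j, 1) with 0 < j < p have order p
  have h2 : ∀ j : ℕ, 0 < j → j < p → ∑ i ∈ range p, ρ (a ^ j, 1) ^ i = 0 := by
    intro j hj0 hjp
    have hoa : orderOf (a ^ j) = p := by
      rw [Nat.Coprime.orderOf_pow, ha]
      rw [ha]
      exact (Nat.Prime.coprime_iff_not_dvd hp).mpr (Nat.not_dvd_of_pos_of_lt hj0 hjp)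
    have ho : orderOf ((a ^ j, 1) : A × B) = p := by
      rw [Prod.orderOf]
      show Nat.lcm (orderOf (a ^ j)) (orderOf (1 : B)) = p
      rw [hoa, orderOf_one, Nat.lcm_one_right]
    have hne : ((a ^ j, 1) : A × B) ≠ 1 := by
      intro h
      rw [h, orderOf_one] at ho
      exact hp.one_lt.ne ho
    have := hρ _ hne
    rwa [ho] at this
  -- double sum
  have h3 : ∑ i ∈ range p, ∑ j ∈ range p, ρ (a ^ i, b) ^ j = 0 :=
    Finset.sum_eq_zero (fun i _ => h1 i)
  have h4 : ∀ i j : ℕ, ρ (a ^ i, b) ^ j = ρ (a ^ j, 1) ^ i * ρ (1, b ^ j) := by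
    intro i j
    rw [← map_pow, ← map_pow, ← map_mul]
    congr 1
    ext
    · simp [← pow_mul, mul_comm]
    · simp
  rw [Finset.sum_comm] at h3
  simp only [h4] at h3
  simp only [← Finset.sum_mul] at h3
  rw [Finset.sum_eq_single 0] at h3
  · simp only [pow_zero, map_one, one_pow, Finset.sum_const, Finset.card_range, mul_one,
      Prod.mk_one_one] at h3
    have h5 := congrFun (congrFun h3 ⟨0, hd⟩) ⟨0, hd⟩
    simp at h5
    exact hp.ne_zero h5
  · intro j hj hj0
    rw [h2 j (Nat.pos_of_ne_zero hj0) (Finset.mem_range.mp hj), zero_mul]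
  · intro h
    exact absurd (Finset.mem_range.mpr hp.pos) h

end Cfsg.Agent.Lib.Helper22.FrobProdD
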