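import Mathlib
import Cfsg.Agent.Lib.helper14.G2Ma

/-!
# `G₂(4)` on its 6-dimensional module: a word whose packed action fixes no nonzero packed vector
fixes no nonzero vector (helper22, piece F of helper14's project G2M)
-/

set_option autoImplicit false

namespace Cfsg.Agent.Lib.Helper22.G2M

open Matrix Cfsg.Agent.Lib.Lead.F4 Cfsg.Agent.Lib.Helper12.G24 Cfsg.Agent.Lib.helper14.G2M

/-- the packed form of a vector -/
def encV (v : Fin 6 → K) : ℕ :=
  nOfK (v 0) + 4 * nOfK (v 1) + 16 * nOfK (v 2) + 64 * nOfK (v 3) + 256 * nOfK (v 4) +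
    1024 * nOfK (v 5)

theorem nOfK_lt (x : K) : nOfK x < 4 := by cases x <;> decide

theorem nOfK_kOfN {a : ℕ} (ha : a < 4) : nOfK (kOfN a) = a := by
  interval_cases a <;> rfl

theorem encV_lt (v : Fin 6 → K) : encV v < 4096 := by
  have h0 := nOfK_lt (v 0)
  have h1 := nOfK_lt (v 1)
  have h2 := nOfK_lt (v 2)
  have h3 := nOfK_lt (v 3)
  have h4 := nOfK_lt (v 4)
  have h5 := nOfK_lt (v 5)
  unfold encV
  omega

theorem decV_encV (v : Fin 6 → K) : decV (encV v) = v := by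
  obtain ⟨e0, e1, e2, e3, e4, e5⟩ := decN6_pack _ _ _ _ _ _ (nOfK_lt (v 0)) (nOfK_lt (v 1))
    (nOfK_lt (v 2)) (nOfK_lt (v 3)) (nOfK_lt (v 4)) (nOfK_lt (v 5))
  funext i
  show kOfN (decN6 (encV v) i.val) = v i
  unfold encV
  fin_cases i
  · show kOfN (decN6 _ 0) = v 0
    rw [e0, kOfN_nOfK]
  · show kOfN (decN6 _ 1) = v 1
    rw [e1, kOfN_nOfK]
  · show kOfN (decN6 _ 2) = v 2
    rw [e2, kOfN_nOfK]
  · show kOfN (decN6 _ 3) = v 3
    rw [e3, kOfN_nOfK]
  · show kOfN (decN6 _ 4) = v 4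
    rw [e4, kOfN_nOfK]
  · show kOfN (decN6 _ 5) = v 5
    rw [e5, kOfN_nOfK]

theorem encV_decV {n : ℕ} (hn : n < 4096) : encV (decV n) = n := by
  unfold encV
  show nOfK (kOfN (decN6 n 0)) + 4 * nOfK (kOfN (decN6 n 1)) + 16 * nOfK (kOfN (decN6 n 2)) +
    64 * nOfK (kOfN (decN6 n 3)) + 256 * nOfK (kOfN (decN6 n 4)) +
      1024 * nOfK (kOfN (decN6 n 5)) = n
  rw [nOfK_kOfN (decN6_lt _ _), nOfK_kOfN (decN6_lt _ _), nOfK_kOfN (decN6_lt _ _),
    nOfK_kOfN (decN6_lt _ _), nOfK_kOfN (decN6_lt _ _), nOfK_kOfN (decN6_lt _ _)]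
  simp only [decN6_eq]
  norm_num
  omega

theorem mvN_lt (E v : ℕ) : mvN E v < 4096 := by
  rw [mvN_eq]
  have h0 := rowN6_lt E v 0
  have h1 := rowN6_lt E v 1
  have h2 := rowN6_lt E v 2
  have h3 := rowN6_lt E v 3
  have h4 := rowN6_lt E v 4
  have h5 := rowN6_lt E v 5
  omega

theorem actW_lt (w : List (ℕ × ℕ)) {c : ℕ} (hc : c < 4096) : actW w c < 4096 := by
  cases w with
  | nil => exact hc
  | cons p w => exact mvN_lt _ _

theorem decV_zero : decV 0 = 0 := by
  funext i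
  show kOfN (decN6 0 i.val) = 0
  rw [decN6_eq]
  simp
  rfl

/-- a word whose packed action fixes no nonzero packed vector fixes no nonzero vector -/
theorem fpf_of_check (w : List (ℕ × ℕ))
    (h : allN 4096 (fun c => Nat.beq c 0 || !(Nat.beq (actW w c) c)) = true)
    (v : Fin 6 → K) (hv : wordM w *ᵥ v = v) : v = 0 := by
  have hc : encV v < 4096 := encV_lt v
  have h1 : decV (actW w (encV v)) = decV (encV v) := by
    rw [decV_actW, decV_encV, hv]
  have h2 : actW w (encV v) = encV v := by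
    rw [← encV_decV (actW_lt w hc), h1, encV_decV hc]
  have h3 := (allN_iff _ _).1 h (encV v) hc
  simp only [h2] at h3
  have h4 : Nat.beq (encV v) (encV v) = true := Nat.beq_refl _
  rw [h4] at h3
  simp only [Bool.not_true, Bool.or_false] at h3
  have h5 : encV v = 0 := Nat.eq_of_beq_eq_true h3
  rw [← decV_encV v, h5, decV_zero]

end Cfsg.Agent.Lib.Helper22.G2M
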