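import Mathlib
import Cfsg.Agent.Lib.Helper20.GLE.Defs
import Cfsg.Agent.Lib.Helper20.GLE.DefsP
import Cfsg.Agent.Lib.Helper20.GLE.DefsM
import Cfsg.Agent.Lib.Helper27.STU.Frob
import Cfsg.Agent.Lib.helper23.SPMP01

/-!
# Project GLE (designer helper20; block of PSU, S2291), block P, rows P4 (`words_of_glue`), P10 (`pres_target`), P11 (`wordsGlue_length`), VERBATIM (helper22)

Ports of `Helper21.SPM.P02` (P04, P11) and `Helper9.SPMP10core` (P10).  Own-name copy `glep4_evG_Wc` of row P2 (`evG_Wc`).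
-/

set_option autoImplicit false
set_option linter.unusedSectionVars false

namespace Cfsg.Agent.Lib.Helper20.GLE

open Cfsg.Agent.Lib.helper3.STC (ng ab)
open Cfsg.Agent.Lib.helper3.SPM (Pts pe sgm sn sig2 ptsFin pe2 inN inL evG evN evL)
open Cfsg.Agent.Lib.Helper27.STU
open Cfsg.Agent.Lib.helper17.SLP (cm)

universe u v w x v' y

section P

variable {F : Type u} [Field F] [StarRing F] {L : Type x} [Group L] {ι : Type w} [Fintype ι] [DecidableEq ι] {k : ℕ}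
  (S₂ : SysU F False (Fin 2) L) (swL : L) (ζ : F)

/-- own-name copy of P2 `evG_Wc` -/
theorem glep4_evG_Wc {G : Type v} [Group G] (wN : Equiv.Perm ι → FreeGroup (Fin k)) (wL : L → FreeGroup (Fin 6))
    (s : Fin k → G) (g : Fin 6 → G) (ν : Equiv.Perm ι →* G) (lam : L →* G)
    (hν : ∀ σ, ν σ = evN s (wN σ)) (hlam : ∀ m, lam m = evL g (wL m)) (σ : Equiv.Perm ι) (m : L) :
    evG s g (Wc wN wL σ m) = lamC ν lam σ m := by
  unfold Wc
  rw [map_mul, map_mul, map_inv, Cfsg.Agent.Lib.helper3.SPM.evG_inN, Cfsg.Agent.Lib.helper3.SPM.evG_inL, ← hν, ← hlam]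
  rfl

theorem glep4_cm_one {G : Type v} [Group G] (a b : G) (h : Commute a b) : cm a b = 1 :=
  (Cfsg.Agent.Lib.helper17.SLP.cm_eq_one_iff a b).mpr h

theorem glep4_cm_one' {G : Type v} [Group G] (a b : G) (h : a * b * a⁻¹ = b) : cm a b = 1 := by
  unfold cm
  rw [h, mul_inv_cancel]

/-- P4 [M]  model SPM P4: the converse: every word of `wordsGlue` evaluates to an instance of a field of `H` (`evG_Wc`, `evG_inN`, `evG_inL`, `map_mul`). -/
theorem words_of_glue (p : Pts ι) (wN : Equiv.Perm ι → FreeGroup (Fin k)) (wL : L → FreeGroup (Fin 6))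
    (c d c' d' : Equiv.Perm ι) (b : Fin 3 → L)
    (hc : c p.o1 = p.o1) (hd : d p.o1 = p.o1) (hc' : c' p.o0 = p.o0 ∧ c' p.o1 = p.o1) (hd' : d' p.o0 = p.o0 ∧ d' p.o1 = p.o1)
    (hb : ∀ i, b i ∈ B1 S₂)
    {G : Type v} [Group G] (s : Fin k → G) (g : Fin 6 → G) (ν : Equiv.Perm ι →* G) (lam : L →* G)
    (hν : ∀ σ, ν σ = evN s (wN σ)) (hlam : ∀ m, lam m = evL g (wL m)) (H : Glue S₂ swL ζ p ν lam) :
    ∀ r ∈ wordsGlue S₂ swL ζ p wN wL c d c' d' b, evG s g r = 1 := by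
  have hW : ∀ σ m, evG s g (Wc wN wL σ m) = lamC ν lam σ m :=
    fun σ m => glep4_evG_Wc wN wL s g ν lam hν hlam σ m
  have hN : ∀ σ, evG s g (inN (wN σ)) = ν σ := fun σ => by
    rw [Cfsg.Agent.Lib.helper3.SPM.evG_inN, ← hν]
  have hL : ∀ m, evG s g (inL (wL m)) = lam m := fun m => by
    rw [Cfsg.Agent.Lib.helper3.SPM.evG_inL, ← hlam]
  have h1 : (1 : F) = 1 ∨ (1 : F) = ζ := Or.inl rfl
  have hz : ζ = 1 ∨ ζ = ζ := Or.inr rfl
  have hst : ∀ σ, σ p.o1 = p.o1 → ∀ i, evG s g (cm (inN (wN σ)) (inL (wL (b i)))) = 1 := by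
    intro σ hσ i
    rw [Cfsg.Agent.Lib.helper17.SLP.map_cm, hN, hL]
    exact glep4_cm_one' _ _ (H.stab1 σ hσ (b i) (hb i))
  have hst' : ∀ σ, σ p.o0 = p.o0 → σ p.o1 = p.o1 → ∀ t : F, t = 1 ∨ t = ζ →
      evG s g (cm (inN (wN σ)) (inL (wL (uA S₂ t)))) = 1 := by
    intro σ h0 h1 t ht
    rw [Cfsg.Agent.Lib.helper17.SLP.map_cm, hN, hL]
    exact glep4_cm_one' _ _ (H.stab01 σ h0 h1 t ht)
  have hd3 : ∀ t : F, t = 1 ∨ t = ζ → ∀ i,
      evG s g (cm (inL (wL (uA S₂ t))) (Wc wN wL (Equiv.swap p.o1 p.o2) (b i))) = 1 := by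
    intro t ht i
    rw [Cfsg.Agent.Lib.helper17.SLP.map_cm, hL, hW]
    exact glep4_cm_one _ _ (H.d3 t ht (b i) (hb i))
  have hc1 : ∀ t : F, t = 1 ∨ t = ζ → ∀ u : F, u = 1 ∨ u = ζ →
      evG s g (cm (inL (wL (uA S₂ t))) (Wc wN wL (Equiv.swap p.o0 p.o1 * Equiv.swap p.o1 p.o2) (uA S₂ u)) *
        (Wc wN wL (Equiv.swap p.o1 p.o2) (uA S₂ (t * u)))⁻¹) = 1 := by
    intro t ht u hu
    rw [map_mul, map_inv, Cfsg.Agent.Lib.helper17.SLP.map_cm, hL, hW, hW, mul_inv_eq_one]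
    exact H.c1 t ht u hu
  have hc2 : ∀ t : F, t = 1 ∨ t = ζ → ∀ u : F, u = 1 ∨ u = ζ →
      evG s g (cm (inL (wL (uA S₂ t))) (Wc wN wL (Equiv.swap p.o1 p.o2) (uA S₂ u))) = 1 := by
    intro t ht u hu
    rw [Cfsg.Agent.Lib.helper17.SLP.map_cm, hL, hW]
    exact glep4_cm_one _ _ (H.c2 t ht u hu)
  intro r hr
  unfold wordsGlue at hr
  simp only [List.mem_append] at hr
  rcases hr with (((((hr | hr) | hr) | hr) | hr) | hr) | hr
  · simp only [List.mem_cons, List.not_mem_nil, or_false] at hr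
    subst hr
    rw [map_mul, map_inv, hN, hL, mul_inv_eq_one]
    exact H.sw
  · simp only [List.mem_cons, List.not_mem_nil, or_false] at hr
    rcases hr with rfl | rfl | rfl | rfl | rfl | rfl
    · exact hst c hc 0
    · exact hst c hc 1
    · exact hst c hc 2
    · exact hst d hd 0
    · exact hst d hd 1
    · exact hst d hd 2
  · simp only [List.mem_cons, List.not_mem_nil, or_false] at hr
    rcases hr with rfl | rfl | rfl | rfl
    · exact hst' c' hc'.1 hc'.2 1 h1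
    · exact hst' c' hc'.1 hc'.2 ζ hz
    · exact hst' d' hd'.1 hd'.2 1 h1
    · exact hst' d' hd'.1 hd'.2 ζ hz
  · simp only [List.mem_cons, List.not_mem_nil, or_false] at hr
    rcases hr with rfl | rfl | rfl | rfl | rfl | rfl
    · exact hd3 1 h1 0
    · exact hd3 1 h1 1
    · exact hd3 1 h1 2
    · exact hd3 ζ hz 0
    · exact hd3 ζ hz 1
    · exact hd3 ζ hz 2
  · rcases h3 : p.o3 with _ | x
    · rw [h3] at hr
      simp at hr
    · rw [h3] at hr
      have hx : x ∈ p.o3 := by rw [h3]; rfl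
      have hd4 : ∀ t : F, t = 1 ∨ t = ζ → ∀ u : F, u = 1 ∨ u = ζ →
          evG s g (cm (inL (wL (uA S₂ t))) (Wc wN wL (Equiv.swap p.o0 p.o2 * Equiv.swap p.o1 x) (uA S₂ u))) = 1 := by
        intro t ht u hu
        rw [Cfsg.Agent.Lib.helper17.SLP.map_cm, hL, hW]
        exact glep4_cm_one _ _ (H.d4 x hx t ht u hu)
      simp only [List.mem_cons, List.not_mem_nil, or_false] at hr
      rcases hr with rfl | rfl | rfl | rfl
      · exact hd4 1 h1 1 h1
      · exact hd4 1 h1 ζ hz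
      · exact hd4 ζ hz 1 h1
      · exact hd4 ζ hz ζ hz
  · simp only [List.mem_cons, List.not_mem_nil, or_false] at hr
    rcases hr with rfl | rfl | rfl | rfl
    · exact hc1 1 h1 1 h1
    · exact hc1 1 h1 ζ hz
    · exact hc1 ζ hz 1 h1
    · exact hc1 ζ hz ζ hz
  · simp only [List.mem_cons, List.not_mem_nil, or_false] at hr
    rcases hr with rfl | rfl | rfl | rfl
    · exact hc2 1 h1 1 h1
    · exact hc2 1 h1 ζ hz
    · exact hc2 ζ hz 1 h1
    · exact hc2 ζ hz ζ hz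

/-- P10 [M]  model SPM P10: the side of the target group: with `s i := ν₀ (eN (of i))`, `g i := lam₀ (gL i)` all relators hold. -/
theorem pres_target {M : Type v'} [Group M] (p : Pts ι) (gL : Fin 6 → L) (relsN : Set (FreeGroup (Fin k)))
    (eN : PresentedGroup relsN ≃* Equiv.Perm ι)
    (wN : Equiv.Perm ι → FreeGroup (Fin k)) (hwN : ∀ σ, eN (PresentedGroup.mk relsN (wN σ)) = σ)
    (L6 : Finset (FreeGroup (Fin 6))) (hLM : ∀ r ∈ L6, evL gL r = 1)
    (wL : L → FreeGroup (Fin 6)) (hwL : ∀ m, evL gL (wL m) = m)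
    (c d c' d' : Equiv.Perm ι) (b : Fin 3 → L)
    (hc : c p.o1 = p.o1) (hd : d p.o1 = p.o1) (hc' : c' p.o0 = p.o0 ∧ c' p.o1 = p.o1) (hd' : d' p.o0 = p.o0 ∧ d' p.o1 = p.o1)
    (hb : ∀ i, b i ∈ B1 S₂)
    (ν₀ : Equiv.Perm ι →* M) (lam₀ : L →* M) (hglue : Glue S₂ swL ζ p ν₀ lam₀) :
    (∀ r ∈ relsN, evG (fun i => ν₀ (eN (PresentedGroup.of i))) (fun i => lam₀ (gL i)) (inN r) = 1) ∧
      (∀ r ∈ L6, evG (fun i => ν₀ (eN (PresentedGroup.of i))) (fun i => lam₀ (gL i)) (inL r) = 1) ∧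
      (∀ r ∈ wordsGlue S₂ swL ζ p wN wL c d c' d' b,
        evG (fun i => ν₀ (eN (PresentedGroup.of i))) (fun i => lam₀ (gL i)) r = 1) ∧
      (∀ σ, ν₀ σ = evN (fun i => ν₀ (eN (PresentedGroup.of i))) (wN σ)) ∧
      ∀ m, lam₀ m = evL (fun i => lam₀ (gL i)) (wL m) := by
  have hevN : ∀ z : FreeGroup (Fin k),
      evN (fun i => ν₀ (eN (PresentedGroup.of i))) z = ν₀ (eN (PresentedGroup.mk relsN z)) := by
    have hh : evN (fun i => ν₀ (eN (PresentedGroup.of i)))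
        = (ν₀.comp eN.toMonoidHom).comp (PresentedGroup.mk relsN) := by
      apply FreeGroup.ext_hom
      intro i
      simp [evN]
      rfl
    exact fun z => DFunLike.congr_fun hh z
  have hevL : ∀ z : FreeGroup (Fin 6), evL (fun i => lam₀ (gL i)) z = lam₀ (evL gL z) :=
    fun z => (Cfsg.Agent.Lib.helper3.SPM.evL_map lam₀ gL z).symm
  have h4 : ∀ σ, ν₀ σ = evN (fun i => ν₀ (eN (PresentedGroup.of i))) (wN σ) := by
    intro σ
    rw [hevN, hwN]
  have h5 : ∀ m, lam₀ m = evL (fun i => lam₀ (gL i)) (wL m) := by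
    intro m
    rw [hevL, hwL]
  refine ⟨?_, ?_, ?_, h4, h5⟩
  · intro r hr
    rw [Cfsg.Agent.Lib.helper3.SPM.evG_inN, hevN, PresentedGroup.one_of_mem hr, map_one, map_one]
  · intro r hr
    rw [Cfsg.Agent.Lib.helper3.SPM.evG_inL, hevL, hLM r hr, map_one]
  · exact words_of_glue S₂ swL ζ p wN wL c d c' d' b hc hd hc' hd' hb _ _ ν₀ lam₀ h4 h5 hglue

/-- P11 [S]  the length of the gluing list. -/
theorem wordsGlue_length (p : Pts ι) (wN : Equiv.Perm ι → FreeGroup (Fin k)) (wL : L → FreeGroup (Fin 6))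
    (c d c' d' : Equiv.Perm ι) (b : Fin 3 → L) :
    (wordsGlue S₂ swL ζ p wN wL c d c' d' b).length = if p.o3 = none then 25 else 29 := by
  unfold wordsGlue
  rcases h : p.o3 with _ | x
  · simp
  · simp

end P

end Cfsg.Agent.Lib.Helper20.GLE
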