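import Mathlib
import Cfsg.Agent.Lib.Helper1.TwoGroupUnique
import Cfsg.Agent.Lib.Helper10.SubgroupBasic

set_option autoImplicit false

/-!
# Half-transitive linear groups: basic lemmas
-/

namespace Cfsg.Agent.Lib.Helper22.HalfA

variable {K : Type*} [Field K] {V : Type*} [AddCommGroup V] [Module K V]
variable {G : Type*} [Group G] [DistribMulAction G V] [SMulCommClass G K V]

/-- Maschke's theorem for invariant subspaces. -/
theorem exists_invariant_compl [Finite G] (hG : (Nat.card G : K) ≠ 0) (W : Submodule K V)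
    (hW : ∀ g : G, ∀ w ∈ W, g • w ∈ W) :
    ∃ W' : Submodule K V, (∀ g : G, ∀ w ∈ W', g • w ∈ W') ∧ IsCompl W W' := by
  have : NeZero (Nat.card G : K) := ⟨hG⟩
  let r : Representation K G V := Representation.ofDistribMulAction K G V
  let σ : Subrepresentation r := ⟨W, fun g v hv => hW g v hv⟩
  obtain ⟨σ', hσ'⟩ := exists_isCompl σ
  refine ⟨σ'.toSubmodule, fun g w hw => σ'.apply_mem_toSubmodule g hw, ?_⟩
  constructor
  · rw [disjoint_iff]
    have h1 := hσ'.inf_eq_bot
    have h2 := congrArg Subrepresentation.toSubmodule h1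
    exact h2
  · rw [codisjoint_iff]
    have h1 := hσ'.sup_eq_top
    have h2 := congrArg Subrepresentation.toSubmodule h1
    exact h2


omit [SMulCommClass G K V] in
/-- stabilizer of a sum in independent invariant subspaces -/
theorem stabilizer_add_eq (W W' : Submodule K V) (hW : ∀ g : G, ∀ w ∈ W, g • w ∈ W)
    (hW' : ∀ g : G, ∀ w ∈ W', g • w ∈ W') (hdisj : Disjoint W W') (w w' : V) (hw : w ∈ W)
    (hw' : w' ∈ W') :
    MulAction.stabilizer G (w + w') = MulAction.stabilizer G w ⊓ MulAction.stabilizer G w' := by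
  ext g
  rw [Subgroup.mem_inf, MulAction.mem_stabilizer_iff, MulAction.mem_stabilizer_iff,
    MulAction.mem_stabilizer_iff, smul_add]
  constructor
  · intro h
    have h1 : g • w - w = w' - g • w' := by
      rw [sub_eq_sub_iff_add_eq_add, h, add_comm]
    have h2 : g • w - w ∈ W := W.sub_mem (hW g w hw) hw
    have h3 : g • w - w ∈ W' := h1 ▸ W'.sub_mem hw' (hW' g w' hw')
    have h4 : g • w - w = 0 := Submodule.disjoint_def.mp hdisj _ h2 h3
    refine ⟨sub_eq_zero.mp h4, ?_⟩
    have h5 : w' - g • w' = 0 := h1 ▸ h4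
    exact (sub_eq_zero.mp h5).symm
  · rintro ⟨h1, h2⟩
    rw [h1, h2]

/-- A half-transitive reducible group (coprime characteristic) is semiregular. -/
theorem semiregular_of_reducible [Finite G] [FaithfulSMul G V] (hG : (Nat.card G : K) ≠ 0)
    (hhalf : ∀ v w : V, v ≠ 0 → w ≠ 0 →
      Nat.card (MulAction.stabilizer G v) = Nat.card (MulAction.stabilizer G w))
    (W : Submodule K V) (hW : ∀ g : G, ∀ w ∈ W, g • w ∈ W) (hW0 : W ≠ ⊥) (hW1 : W ≠ ⊤) :
    ∀ v : V, v ≠ 0 → ∀ g : G, g • v = v → g = 1 := by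
  obtain ⟨W', hW', hc⟩ := exists_invariant_compl hG W hW
  have hW'0 : W' ≠ ⊥ := by
    intro h
    rw [h] at hc
    exact hW1 (eq_top_of_isCompl_bot hc)
  obtain ⟨w0, hw0, hw0ne⟩ := Submodule.exists_mem_ne_zero_of_ne_bot hW0
  obtain ⟨w0', hw0', hw0'ne⟩ := Submodule.exists_mem_ne_zero_of_ne_bot hW'0
  have key : ∀ w ∈ W, w ≠ 0 → ∀ w' ∈ W', w' ≠ 0 →
      MulAction.stabilizer G w = MulAction.stabilizer G w' := by
    intro w hw hwne w' hw' hw'ne
    have hne : w + w' ≠ 0 := by
      intro h
      have h2 : w = -w' := eq_neg_of_add_eq_zero_left h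
      have h3 : w ∈ W' := h2 ▸ W'.neg_mem hw'
      exact hwne (Submodule.disjoint_def.mp hc.disjoint w hw h3)
    have h1 := stabilizer_add_eq W W' hW hW' hc.disjoint w w' hw hw'
    have e1 : MulAction.stabilizer G (w + w') = MulAction.stabilizer G w :=
      Subgroup.eq_of_le_of_card_ge (h1 ▸ inf_le_left) (hhalf _ _ hwne hne).le
    have e2 : MulAction.stabilizer G (w + w') = MulAction.stabilizer G w' :=
      Subgroup.eq_of_le_of_card_ge (h1 ▸ inf_le_right) (hhalf _ _ hw'ne hne).le
    exact e1.symm.trans e2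
  have hS1 : ∀ w ∈ W, w ≠ 0 → MulAction.stabilizer G w = MulAction.stabilizer G w0 :=
    fun w hw hne => (key w hw hne w0' hw0' hw0'ne).trans (key w0 hw0 hw0ne w0' hw0' hw0'ne).symm
  have hS2 : ∀ w' ∈ W', w' ≠ 0 → MulAction.stabilizer G w' = MulAction.stabilizer G w0 :=
    fun w' hw' hne => (key w0 hw0 hw0ne w' hw' hne).symm
  have hS : MulAction.stabilizer G w0 = ⊥ := by
    rw [Subgroup.eq_bot_iff_forall]
    intro g hg
    apply FaithfulSMul.eq_of_smul_eq_smul (α := V)
    intro v
    rw [one_smul]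
    have hv : v ∈ W ⊔ W' := hc.sup_eq_top ▸ Submodule.mem_top
    obtain ⟨w, hw, w', hw', rfl⟩ := Submodule.mem_sup.mp hv
    rw [smul_add]
    congr 1
    · by_cases h : w = 0
      · rw [h, smul_zero]
      · have h2 := hS1 w hw h
        rw [← h2] at hg
        exact hg
    · by_cases h : w' = 0
      · rw [h, smul_zero]
      · have h2 := hS2 w' hw' h
        rw [← h2] at hg
        exact hg
  intro v hv g hgv
  have h1 : Nat.card (MulAction.stabilizer G v) = 1 := by
    rw [hhalf v w0 hv hw0ne, hS]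
    exact Subgroup.card_bot
  have h2 : MulAction.stabilizer G v = ⊥ := Subgroup.card_eq_one.mp h1
  have h3 : g ∈ MulAction.stabilizer G v := hgv
  rw [h2] at h3
  exact Subgroup.mem_bot.mp h3


omit [SMulCommClass G K V] in
/-- elementwise version of `stabilizer_add_eq` -/
theorem smul_add_eq_iff (W W' : Submodule K V) (hdisj : Disjoint W W') (g : G) (w w' : V)
    (hw : w ∈ W) (hw' : w' ∈ W') (hgw : g • w ∈ W) (hgw' : g • w' ∈ W') :
    g • (w + w') = w + w' ↔ g • w = w ∧ g • w' = w' := by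
  rw [smul_add]
  constructor
  · intro h
    have h1 : g • w - w = w' - g • w' := by
      rw [sub_eq_sub_iff_add_eq_add, h, add_comm]
    have h2 : g • w - w ∈ W := W.sub_mem hgw hw
    have h3 : g • w - w ∈ W' := h1 ▸ W'.sub_mem hw' hgw'
    have h4 : g • w - w = 0 := Submodule.disjoint_def.mp hdisj _ h2 h3
    refine ⟨sub_eq_zero.mp h4, ?_⟩
    have h5 : w' - g • w' = 0 := h1 ▸ h4
    exact (sub_eq_zero.mp h5).symm
  · rintro ⟨h1, h2⟩
    rw [h1, h2]

/-- The fixed space of a group element. -/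
def fixSub (K : Type*) [Field K] (V : Type*) [AddCommGroup V] [Module K V] {G : Type*} [Group G]
    [DistribMulAction G V] [SMulCommClass G K V] (g : G) : Submodule K V where
  carrier := {v | g • v = v}
  add_mem' := by
    intro a b ha hb
    show g • (a + b) = a + b
    rw [smul_add, ha, hb]
  zero_mem' := smul_zero g
  smul_mem' := by
    intro c v hv
    show g • c • v = c • v
    rw [smul_comm, hv]

theorem mem_fixSub (g : G) (v : V) : v ∈ fixSub K V g ↔ g • v = v := Iff.rfl

theorem fixSub_invariant (g x : G) (hc : x * g = g * x) (v : V) (hv : v ∈ fixSub K V g) :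
    x • v ∈ fixSub K V g := by
  rw [mem_fixSub] at hv ⊢
  rw [← mul_smul, ← hc, mul_smul, hv]

/-- a central involution of a faithful irreducible group acts as `-1` -/
theorem central_invol_smul [FaithfulSMul G V]
    (hirr : ∀ W : Submodule K V, (∀ g : G, ∀ w ∈ W, g • w ∈ W) → W = ⊥ ∨ W = ⊤)
    (t : G) (htc : t ∈ Subgroup.center G) (ht2 : t * t = 1) (ht1 : t ≠ 1) (v : V) :
    t • v = -v := by
  have h1 : fixSub K V t = ⊥ := by
    rcases hirr (fixSub K V t) (fun g w hw =>
      fixSub_invariant (K := K) t g (Subgroup.mem_center_iff.mp htc g) w hw) with h | h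
    · exact h
    · exfalso
      apply ht1
      apply FaithfulSMul.eq_of_smul_eq_smul (α := V)
      intro w
      rw [one_smul]
      have : w ∈ fixSub K V t := h ▸ Submodule.mem_top
      exact this
  have h2 : v + t • v ∈ fixSub K V t := by
    rw [mem_fixSub, smul_add, ← mul_smul, ht2, one_smul, add_comm]
  rw [h1, Submodule.mem_bot] at h2
  exact (neg_eq_of_add_eq_zero_right h2).symm

omit [SMulCommClass G K V] in
/-- involutions of a semiregular group act as `-1` -/
theorem invol_smul_of_semiregular (hsr : ∀ v : V, v ≠ 0 → ∀ g : G, g • v = v → g = 1)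
    (t : G) (ht2 : t * t = 1) (ht1 : t ≠ 1) (v : V) : t • v = -v := by
  by_contra hne
  have h1 : v + t • v ≠ 0 := by
    intro h
    exact hne (neg_eq_of_add_eq_zero_right h).symm
  have h2 : t • (v + t • v) = v + t • v := by
    rw [smul_add, ← mul_smul, ht2, one_smul, add_comm]
  exact ht1 (hsr _ h1 t h2)

omit [SMulCommClass G K V] in
theorem invol_unique_of_semiregular [FaithfulSMul G V]
    (hsr : ∀ v : V, v ≠ 0 → ∀ g : G, g • v = v → g = 1)
    (t u : G) (ht2 : t * t = 1) (ht1 : t ≠ 1) (hu2 : u * u = 1) (hu1 : u ≠ 1) : t = u := by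
  apply FaithfulSMul.eq_of_smul_eq_smul (α := V)
  intro v
  rw [invol_smul_of_semiregular hsr t ht2 ht1, invol_smul_of_semiregular hsr u hu2 hu1]

/-- a group with a unique involution has a unique subgroup of order two -/
theorem subgroup_card_two_unique {G : Type*} [Group G]
    (huniq : ∀ t u : G, t * t = 1 → t ≠ 1 → u * u = 1 → u ≠ 1 → t = u)
    (H L : Subgroup G) (hH : Nat.card H = 2) (hL : Nat.card L = 2) : H = L := by
  have key : ∀ M : Subgroup G, Nat.card M = 2 → ∃ t : G, t ∈ M ∧ t * t = 1 ∧ t ≠ 1 ∧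
      M = Subgroup.zpowers t := by
    intro M hM
    have : Finite M := Nat.finite_of_card_ne_zero (by omega)
    have hnt : Nontrivial M := by
      rw [← Finite.one_lt_card_iff_nontrivial, hM]
      norm_num
    obtain ⟨⟨t, htM⟩, ht⟩ := exists_ne (1 : M)
    have ht1 : t ≠ 1 := fun h => ht (Subtype.ext h)
    have ho : orderOf (⟨t, htM⟩ : M) ∣ 2 := hM ▸ orderOf_dvd_natCard _
    have ho' : orderOf t ∣ 2 := by
      rwa [← Subgroup.orderOf_coe] at ho
    have ht2 : t * t = 1 := by
      rw [← pow_two]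
      exact orderOf_dvd_iff_pow_eq_one.mp ho'
    refine ⟨t, htM, ht2, ht1, ?_⟩
    symm
    apply Subgroup.eq_of_le_of_card_ge (Subgroup.zpowers_le.mpr htM)
    rw [hM, Nat.card_zpowers]
    rcases (Nat.dvd_prime Nat.prime_two).mp ho' with h | h
    · exact absurd (orderOf_eq_one_iff.mp h) ht1
    · exact h.ge
  obtain ⟨t, _, ht2, ht1, hHt⟩ := key H hH
  obtain ⟨u, _, hu2, hu1, hLu⟩ := key L hL
  rw [hHt, hLu, huniq t u ht2 ht1 hu2 hu1]

omit [SMulCommClass G K V] in
/-- a semiregular faithful `2`-group is cyclic or generalized quaternion -/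
theorem cyclic_or_quaternion_of_semiregular [Finite G] [FaithfulSMul G V] (hG : IsPGroup 2 G)
    (hsr : ∀ v : V, v ≠ 0 → ∀ g : G, g • v = v → g = 1) :
    IsCyclic G ∨ ∃ n : ℕ, Nonempty (G ≃* QuaternionGroup (2 ^ n)) := by
  apply Cfsg.Agent.Lib.Helper1.cyclic_or_quaternion_of_unique hG
  intro H L hH hL
  exact subgroup_card_two_unique (invol_unique_of_semiregular hsr) H L hH hL

/-- in a `2`-group, a nonidentity element has a power which is an involution -/
theorem exists_pow_invol {G : Type*} [Group G] (hG : IsPGroup 2 G) (g : G) (hg : g ≠ 1) :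
    ∃ k : ℕ, (g ^ k) * (g ^ k) = 1 ∧ g ^ k ≠ 1 := by
  obtain ⟨j, hj⟩ := hG g
  have hj0 : j ≠ 0 := by
    rintro rfl
    rw [pow_zero, pow_one] at hj
    exact hg hj
  -- minimal such j
  classical
  have hex : ∃ j : ℕ, g ^ 2 ^ j = 1 := ⟨j, hj⟩
  set m := Nat.find hex with hm
  have hm1 : g ^ 2 ^ m = 1 := Nat.find_spec hex
  have hm0 : m ≠ 0 := by
    intro h
    rw [h, pow_zero, pow_one] at hm1
    exact hg hm1
  obtain ⟨m', hm'⟩ := Nat.exists_eq_succ_of_ne_zero hm0
  refine ⟨2 ^ m', ?_, ?_⟩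
  · rw [← pow_add, ← two_mul, ← pow_succ', ← Nat.succ_eq_add_one, ← hm', hm1]
  · intro h
    have := Nat.find_min hex (m := m') (by omega)
    exact this h

/-- a faithful irreducible `2`-group with a unique involution is semiregular -/
theorem semiregular_of_unique_invol [FaithfulSMul G V] (hG : IsPGroup 2 G)
    (h2 : (2 : K) ≠ 0)
    (hirr : ∀ W : Submodule K V, (∀ g : G, ∀ w ∈ W, g • w ∈ W) → W = ⊥ ∨ W = ⊤)
    (huniq : ∀ t u : G, t * t = 1 → t ≠ 1 → u * u = 1 → u ≠ 1 → t = u) :
    ∀ v : V, v ≠ 0 → ∀ g : G, g • v = v → g = 1 := by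
  intro v hv g hgv
  by_contra hg
  obtain ⟨k, hk2, hk1⟩ := exists_pow_invol hG g hg
  set t := g ^ k with ht
  have htv : t • v = v := by
    rw [ht]
    clear ht hk2 hk1
    induction k with
    | zero => simp
    | succ k ih => rw [pow_succ, mul_smul, hgv, ih]
  have htc : t ∈ Subgroup.center G := by
    rw [Subgroup.mem_center_iff]
    intro x
    have h1 : (x * t * x⁻¹) * (x * t * x⁻¹) = 1 := by
      have : (x * t * x⁻¹) * (x * t * x⁻¹) = x * (t * t) * x⁻¹ := by group
      rw [this, hk2]; group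
    have h2' : x * t * x⁻¹ ≠ 1 := by
      intro h
      apply hk1
      have : t = x⁻¹ * (x * t * x⁻¹) * x := by group
      rw [this, h]; group
    have h3 := huniq _ _ h1 h2' hk2 hk1
    calc x * t = (x * t * x⁻¹) * x := by group
      _ = t * x := by rw [h3]
  have h4 := central_invol_smul (K := K) hirr t htc hk2 hk1 v
  rw [htv] at h4
  have h5 : (2 : K) • v = 0 := by
    rw [two_smul]
    nth_rewrite 1 [h4]
    exact neg_add_cancel v
  exact hv ((smul_eq_zero.mp h5).resolve_left h2)

end Cfsg.Agent.Lib.Helper22.HalfA
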