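import Mathlib

set_option autoImplicit false

namespace Cfsg.Agent.Lib.Helper22.HalfAutA

open Subgroup MulAction
open scoped Pointwise

/-- generic counting: if all stabilizers have the same order `c`, then `|L|` divides `|X| * c`. -/
theorem card_dvd_of_stab {L X : Type*} [Group L] [MulAction L X] [Finite L] [Finite X] (c : ℕ)
    (hc : ∀ x : X, Nat.card (MulAction.stabilizer L x) = c) : Nat.card L ∣ Nat.card X * c := by
  classical
  have e := MulAction.selfEquivSigmaOrbitsQuotientStabilizer L X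
  have : Fintype (Quotient (MulAction.orbitRel L X)) := Fintype.ofFinite _
  rw [Nat.card_congr e, Nat.card_sigma, Finset.sum_mul]
  apply Finset.dvd_sum
  intro ω _
  have h := Subgroup.card_eq_card_quotient_mul_card_subgroup (MulAction.stabilizer L ω.out)
  rw [hc] at h
  rw [← h]

variable {G : Type*} [Group G]

/-- centralizer of `x` in `A`. -/
def St (A : Subgroup G) (x : G) : Subgroup G := A ⊓ Subgroup.centralizer {x}

lemma mem_St {A : Subgroup G} {x h : G} : h ∈ St A x ↔ h ∈ A ∧ h * x = x * h := by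
  unfold St
  rw [Subgroup.mem_inf, Subgroup.mem_centralizer_singleton_iff]

lemma St_le (A : Subgroup G) (x : G) : St A x ≤ A := inf_le_left

/-- conjugation action of a subgroup on an invariant subset -/
@[reducible] def conjAct (L : Subgroup G) (S : Set G) (hS : ∀ l ∈ L, ∀ y ∈ S, l * y * l⁻¹ ∈ S) :
    MulAction L S where
  smul l y := ⟨l.1 * y.1 * l.1⁻¹, hS l.1 l.2 y.1 y.2⟩
  one_smul y := by
    apply Subtype.ext
    show (1 : G) * y.1 * (1 : G)⁻¹ = y.1
    simp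
  mul_smul l l' y := by
    apply Subtype.ext
    show (l.1 * l'.1) * y.1 * (l.1 * l'.1)⁻¹ = l.1 * (l'.1 * y.1 * l'.1⁻¹) * l.1⁻¹
    simp [mul_assoc]

theorem card_dvd_conj [Finite G] (L : Subgroup G) (S : Set G)
    (hS : ∀ l ∈ L, ∀ y ∈ S, l * y * l⁻¹ ∈ S) (c : ℕ)
    (hc : ∀ y ∈ S, Nat.card (St L y) = c) : Nat.card L ∣ Nat.card S * c := by
  let _ := conjAct L S hS
  apply card_dvd_of_stab
  intro y
  rw [← hc y.1 y.2]
  have hsm : ∀ (l : L) (z : S), ((l • z : S) : G) = l.1 * z.1 * l.1⁻¹ := fun _ _ => rfl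
  refine Nat.card_congr ⟨fun l => ⟨l.1.1, ?_⟩, fun l => ⟨⟨l.1, St_le L _ l.2⟩, ?_⟩, ?_, ?_⟩
  · have h := l.2
    rw [MulAction.mem_stabilizer_iff] at h
    have h2 := congrArg Subtype.val h
    rw [hsm] at h2
    rw [mem_St]
    refine ⟨l.1.2, ?_⟩
    rw [← h2]
    simp
    rw [h2]
  · rw [MulAction.mem_stabilizer_iff]
    apply Subtype.ext
    rw [hsm]
    have h := (mem_St.1 l.2).2
    show l.1 * y.1 * l.1⁻¹ = y.1
    rw [h]; simp
  · intro l; rfl
  · intro l; rfl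


lemma mem_St' {A : Subgroup G} {x h : G} : h ∈ St A x ↔ h ∈ A ∧ Commute h x := mem_St

lemma St_eq_of_le [Finite G] {A : Subgroup G} {x y : G} (hle : St A x ≤ St A y)
    (hc : Nat.card (St A x) = Nat.card (St A y)) : St A x = St A y :=
  Subgroup.eq_of_le_of_card_ge hle (le_of_eq hc.symm)

theorem card_class_dvd [Finite G] (N : Subgroup G) (x : G) :
    Nat.card {z : G | ∃ n ∈ N, z = n * x * n⁻¹} ∣ Nat.card N := by
  let _ := conjAct N Set.univ (fun _ _ _ _ => trivial)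
  have hsm : ∀ (l : N) (z : (Set.univ : Set G)), ((l • z : (Set.univ : Set G)) : G)
      = l.1 * z.1 * l.1⁻¹ := fun _ _ => rfl
  have h1 : Nat.card (MulAction.orbit N (⟨x, trivial⟩ : (Set.univ : Set G))) ∣ Nat.card N := by
    rw [Nat.card_coe_set_eq, ← MulAction.index_stabilizer]
    exact Subgroup.index_dvd_card _
  have h2 : Nat.card {z : G | ∃ n ∈ N, z = n * x * n⁻¹}
      = Nat.card (MulAction.orbit N (⟨x, trivial⟩ : (Set.univ : Set G))) := by
    refine Nat.card_congr ⟨fun z => ⟨⟨z.1, trivial⟩, ?_⟩, fun z => ⟨z.1.1, ?_⟩, ?_, ?_⟩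
    · obtain ⟨n, hn, hz⟩ := z.2
      rw [MulAction.mem_orbit_iff]
      refine ⟨⟨n, hn⟩, ?_⟩
      apply Subtype.ext
      rw [hsm]
      exact hz.symm
    · obtain ⟨n, hn⟩ := MulAction.mem_orbit_iff.1 z.2
      have h := congrArg Subtype.val hn
      rw [hsm] at h
      exact ⟨n.1, n.2, h.symm⟩
    · intro z; rfl
    · intro z; rfl
  rw [h2]
  exact h1

/-- Lemma X: coprime counting. -/
theorem lemmaX [Finite G] (A : Subgroup G) (b : ℕ) (hbpos : 0 < b) (S : Set G)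
    (hb : ∀ y ∈ S, Nat.card (St A y) = b)
    (hnorm : ∀ y ∈ S, St A y ≤ Subgroup.normalizer S)
    (hcop : (Nat.card S).Coprime (Nat.card A / b)) :
    ∀ y ∈ S, ∀ z ∈ S, St A y = St A z := by
  set L : Subgroup G := A ⊓ Subgroup.normalizer S with hL
  have hStL : ∀ y ∈ S, St A y ≤ L := fun y hy => le_inf (St_le A y) (hnorm y hy)
  have hStL2 : ∀ y ∈ S, St L y = St A y := by
    intro y hy
    apply le_antisymm
    · intro h hh
      rw [mem_St] at hh ⊢
      exact ⟨hh.1.1, hh.2⟩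
    · intro h hh
      have := hStL y hy hh
      rw [mem_St] at hh ⊢
      exact ⟨this, hh.2⟩
  have hS : ∀ l ∈ L, ∀ y ∈ S, l * y * l⁻¹ ∈ S := by
    intro l hl y hy
    exact (Subgroup.mem_set_normalizer_iff.1 hl.2 y).1 hy
  have hdvd := card_dvd_conj L S hS b (fun y hy => by rw [hStL2 y hy]; exact hb y hy)
  have key : ∀ y ∈ S, St A y = L := by
    intro y hy
    have h1 : b ∣ Nat.card L := by
      rw [← hb y hy]; exact Subgroup.card_dvd_of_le (hStL y hy)
    have h2 : Nat.card L ∣ Nat.card A := Subgroup.card_dvd_of_le inf_le_left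
    obtain ⟨k, hk⟩ := h1
    have hk1 : k ∣ Nat.card S := by
      rw [hk, mul_comm b k] at hdvd
      exact Nat.dvd_of_mul_dvd_mul_right hbpos hdvd
    have hk2 : k ∣ Nat.card A / b := by
      rw [hk] at h2
      exact Nat.dvd_div_of_mul_dvd h2
    have hk3 : k = 1 := Nat.eq_one_of_dvd_coprimes hcop hk1 hk2
    rw [hk3, mul_one] at hk
    exact Subgroup.eq_of_le_of_card_ge (hStL y hy) (by rw [hk, hb y hy])
  intro y hy z hz
  rw [key y hy, key z hz]

/-- the hypotheses of the core theorem. -/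
structure Hyp [Finite G] (A N : Subgroup G) (b : ℕ) : Prop where
  normal : N.Normal
  h1 : ∀ x ∈ N, x ≠ 1 → Nat.card (St A x) = b
  h2 : ∃ x ∈ N, x ≠ 1 ∧ St A x ≠ ⊥
  h3 : ∀ h ∈ A, (∀ x ∈ N, Commute h x) → h = 1

section core

variable [Finite G] {A N : Subgroup G} {b : ℕ}

lemma Hyp.b_pos (H : Hyp A N b) : 0 < b := by
  obtain ⟨x, hx, hx1, _⟩ := H.h2
  rw [← H.h1 x hx hx1]; exact Nat.card_pos

lemma Hyp.b_dvd (H : Hyp A N b) : b ∣ Nat.card A := by
  obtain ⟨x, hx, hx1, _⟩ := H.h2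
  rw [← H.h1 x hx hx1]; exact Subgroup.card_dvd_of_le (St_le A x)

lemma Hyp.conj_mem (H : Hyp A N b) {x : G} (h : G) (hx : x ∈ N) : h * x * h⁻¹ ∈ N :=
  H.normal.conj_mem x hx h

omit [Finite G] in
lemma conj_ne_one {x : G} (h : G) (hx : x ≠ 1) : h * x * h⁻¹ ≠ 1 := by
  intro h1
  apply hx
  have : x = h⁻¹ * (h * x * h⁻¹) * h := by group
  rw [this, h1]; group

/-- m ∣ |N| - 1 -/
lemma Hyp.m_dvd (H : Hyp A N b) : Nat.card A / b ∣ Nat.card N - 1 := by
  have hS : ∀ l ∈ A, ∀ y ∈ ((N : Set G) \ {1}), l * y * l⁻¹ ∈ ((N : Set G) \ {1}) := by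
    intro l _ y hy
    refine ⟨H.conj_mem l hy.1, ?_⟩
    have : y ≠ 1 := by simpa using hy.2
    simpa using conj_ne_one l this
  have h := card_dvd_conj A ((N : Set G) \ {1}) hS b
    (fun y hy => H.h1 y hy.1 (by simpa using hy.2))
  rw [Nat.card_coe_set_eq, Set.ncard_sdiff_singleton_of_mem (one_mem N),
    ← Nat.card_coe_set_eq] at h
  obtain ⟨m, hm⟩ := H.b_dvd
  rw [hm, Nat.mul_div_cancel_left _ H.b_pos]
  rw [hm, mul_comm b m] at h
  exact Nat.dvd_of_mul_dvd_mul_right H.b_pos h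

lemma Hyp.cop (H : Hyp A N b) {k : ℕ} (hk : k ∣ Nat.card N) : k.Coprime (Nat.card A / b) := by
  have h1 : (Nat.card N).Coprime (Nat.card N - 1) := by
    have h : 0 < Nat.card N := Nat.card_pos
    obtain ⟨k, hk⟩ := Nat.exists_eq_succ_of_ne_zero h.ne'
    rw [hk]
    simp
  exact (h1.coprime_dvd_left hk).coprime_dvd_right H.m_dvd

/-- the stabilizers are not all equal. -/
lemma Hyp.not_all_eq (H : Hyp A N b) (B : Subgroup G) (hB : ∀ y ∈ N, y ≠ 1 → St A y = B) :
    False := by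
  obtain ⟨x0, hx0, hx01, hx02⟩ := H.h2
  apply hx02
  rw [hB x0 hx0 hx01]
  rw [Subgroup.eq_bot_iff_forall]
  intro h hh
  have hhA : h ∈ A := by
    rw [← hB x0 hx0 hx01] at hh
    exact St_le A x0 hh
  apply H.h3 h hhA
  intro y hy
  by_cases hy1 : y = 1
  · rw [hy1]; exact Commute.one_right h
  · rw [← hB y hy hy1] at hh
    exact (mem_St'.1 hh).2


omit [Finite G] in
/-- for an `A`-invariant subgroup, membership is conjugation invariant. -/
lemma inv_iff {A M : Subgroup G} (hMA : ∀ h ∈ A, ∀ u ∈ M, h * u * h⁻¹ ∈ M) {h : G} (hh : h ∈ A)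
    (u : G) : u ∈ M ↔ h * u * h⁻¹ ∈ M := by
  refine ⟨hMA h hh u, fun hu => ?_⟩
  have := hMA h⁻¹ (inv_mem hh) _ hu
  have e : h⁻¹ * (h * u * h⁻¹) * h⁻¹⁻¹ = u := by group
  rwa [e] at this

/-- Claim 1': no proper nontrivial `A`-invariant subgroup of `N`. -/
theorem Hyp.no_invariant (H : Hyp A N b) (M : Subgroup G) (hMN : M ≤ N)
    (hMA : ∀ h ∈ A, ∀ u ∈ M, h * u * h⁻¹ ∈ M) (hM1 : M ≠ ⊥) : M = N := by
  by_contra hne
  have hlt : M < N := lt_of_le_of_ne hMN hne
  -- key: for x ∈ N \ M and u ∈ M#, St x = St u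
  have key : ∀ x ∈ N, x ∉ M → ∀ u ∈ M, u ≠ 1 → St A x = St A u := by
    intro x hxN hxM
    set S : Set G := x • (M : Set G) with hSdef
    have hmemS : ∀ z, z ∈ S ↔ x⁻¹ * z ∈ M := fun z => mem_leftCoset_iff x
    have hSN : ∀ z ∈ S, z ∈ N ∧ z ≠ 1 := by
      intro z hz
      rw [hmemS] at hz
      constructor
      · have : z = x * (x⁻¹ * z) := by group
        rw [this]
        exact mul_mem hxN (hMN hz)
      · intro h1
        rw [h1, mul_one] at hz
        exact hxM (inv_mem_iff.1 hz)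
    have hcardS : Nat.card S = Nat.card M :=
      Nat.card_congr (Subgroup.leftCosetEquivSubgroup x)
    have hnorm : ∀ y ∈ S, St A y ≤ Subgroup.normalizer S := by
      intro y hy h hh
      rw [mem_St'] at hh
      rw [Subgroup.mem_set_normalizer_iff]
      intro z
      rw [hmemS, hmemS]
      rw [hmemS] at hy
      -- x⁻¹ z ∈ M ↔ y⁻¹ z ∈ M
      have e1 : ∀ w, x⁻¹ * w ∈ M ↔ y⁻¹ * w ∈ M := by
        intro w
        have : y⁻¹ * w = (x⁻¹ * y)⁻¹ * (x⁻¹ * w) := by group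
        rw [this]
        exact (Subgroup.mul_mem_cancel_left M (inv_mem hy)).symm
      rw [e1, e1, inv_iff hMA hh.1 (y⁻¹ * z)]
      have hc : Commute h y⁻¹ := hh.2.inv_right
      have : h * (y⁻¹ * z) * h⁻¹ = y⁻¹ * (h * z * h⁻¹) := by
        rw [← mul_assoc, hc.eq]; group
      rw [this]
    have hX := lemmaX A b H.b_pos S (fun y hy => H.h1 y (hSN y hy).1 (hSN y hy).2) hnorm
      (by rw [hcardS]; exact H.cop (Subgroup.card_dvd_of_le hMN))
    intro u hu hu1
    have hxS : x ∈ S := by rw [hmemS]; simp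
    have hxuS : x * u ∈ S := by rw [hmemS]; simpa using hu
    have heq := hX x hxS (x * u) hxuS
    apply St_eq_of_le
    · intro h hh
      have hh2 : h ∈ St A (x * u) := heq ▸ hh
      rw [mem_St'] at hh hh2 ⊢
      refine ⟨hh.1, ?_⟩
      have : u = x⁻¹ * (x * u) := by group
      rw [this]
      exact hh.2.inv_right.mul_right hh2.2
    · rw [H.h1 x hxN (fun h => hxM (h ▸ one_mem M)), H.h1 u (hMN hu) hu1]
  obtain ⟨x1, hx1N, hx1M⟩ := SetLike.exists_of_lt hlt
  obtain ⟨u0, hu0⟩ := Subgroup.ne_bot_iff_exists_ne_one.1 hM1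
  have hu01 : (u0 : G) ≠ 1 := fun h => hu0 (Subtype.ext h)
  apply H.not_all_eq (St A u0)
  intro y hy hy1
  by_cases hyM : y ∈ M
  · rw [← key x1 hx1N hx1M y hyM hy1, key x1 hx1N hx1M u0 u0.2 hu01]
  · exact key y hy hyM u0 u0.2 hu01

/-- Claim 2: stabilizers constant on `N`-classes. -/
theorem Hyp.St_conj (H : Hyp A N b) {n x : G} (hn : n ∈ N) (hx : x ∈ N) (hx1 : x ≠ 1) :
    St A (n * x * n⁻¹) = St A x := by
  set S : Set G := {z : G | ∃ n ∈ N, z = n * x * n⁻¹} with hSdef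
  have hSN : ∀ z ∈ S, z ∈ N ∧ z ≠ 1 := by
    rintro z ⟨k, hk, rfl⟩
    exact ⟨H.conj_mem k hx, conj_ne_one k hx1⟩
  have hnorm : ∀ y ∈ S, St A y ≤ Subgroup.normalizer S := by
    rintro y ⟨k, hk, rfl⟩ h hh
    rw [mem_St'] at hh
    -- h normalizes S
    have hfwd : ∀ g : G, Commute g (k * x * k⁻¹) → ∀ z ∈ S, g * z * g⁻¹ ∈ S := by
      rintro g hg z ⟨l, hl, rfl⟩
      -- g (l x l⁻¹) g⁻¹ = (g l k⁻¹ g⁻¹) (k x k⁻¹) (g l k⁻¹ g⁻¹)⁻¹... use commuting
      refine ⟨g * (l * k⁻¹) * g⁻¹ * k, mul_mem (H.conj_mem g (mul_mem hl (inv_mem hk))) hk, ?_⟩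
      have e : g * (l * x * l⁻¹) * g⁻¹
          = (g * (l * k⁻¹) * g⁻¹) * (g * (k * x * k⁻¹) * g⁻¹) * (g * (l * k⁻¹) * g⁻¹)⁻¹ := by
        group
      have e2 : g * (k * x * k⁻¹) * g⁻¹ = k * x * k⁻¹ := by
        rw [hg.eq]; group
      rw [e, e2]; group
    rw [Subgroup.mem_set_normalizer_iff]
    intro z
    refine ⟨hfwd h hh.2 z, fun hz => ?_⟩
    have := hfwd h⁻¹ hh.2.inv_left _ hz
    have e : h⁻¹ * (h * z * h⁻¹) * h⁻¹⁻¹ = z := by group
    rwa [e] at this
  have hX := lemmaX A b H.b_pos S (fun y hy => H.h1 y (hSN y hy).1 (hSN y hy).2) hnorm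
    (H.cop (card_class_dvd N x))
  exact hX _ ⟨n, hn, rfl⟩ _ ⟨1, one_mem N, by simp⟩

/-- Claim 3(i). -/
theorem Hyp.comm_of_ne (H : Hyp A N b) {x y : G} (hx : x ∈ N) (hx1 : x ≠ 1) (hy : y ∈ N)
    (hy1 : y ≠ 1) (hne : St A x ≠ St A y) : Commute x y := by
  by_contra hxy
  set c : G := x * y * x⁻¹ * y⁻¹ with hc
  have hcN : c ∈ N := mul_mem (mul_mem (mul_mem hx hy) (inv_mem hx)) (inv_mem hy)
  have hc1 : c ≠ 1 := by
    intro h
    apply hxy
    have : x * y = c * (y * x) := by rw [hc]; group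
    show x * y = y * x
    rw [this, h, one_mul]
  have hb := H.h1 c hcN hc1
  have e1 : St A y = St A c := by
    apply St_eq_of_le
    · intro h hh
      have hh2 : h ∈ St A (x * y * x⁻¹) := by rw [H.St_conj hx hy hy1]; exact hh
      rw [mem_St'] at hh hh2 ⊢
      exact ⟨hh.1, hh2.2.mul_right hh.2.inv_right⟩
    · rw [hb, H.h1 y hy hy1]
  have e2 : St A x = St A c := by
    apply St_eq_of_le
    · intro h hh
      have hh2 : h ∈ St A (y * x * y⁻¹) := by rw [H.St_conj hy hx hx1]; exact hh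
      rw [mem_St'] at hh hh2 ⊢
      refine ⟨hh.1, ?_⟩
      have : c = x * (y * x * y⁻¹)⁻¹ := by rw [hc]; group
      rw [this]
      exact hh.2.mul_right hh2.2.inv_right
    · rw [hb, H.h1 x hx hx1]
  exact hne (e2.trans e1.symm)

/-- Claim 3: `N` is commutative. -/
theorem Hyp.comm (H : Hyp A N b) {x y : G} (hx : x ∈ N) (hy : y ∈ N) : Commute x y := by
  by_cases hx1 : x = 1
  · rw [hx1]; exact Commute.one_left y
  by_cases hy1 : y = 1
  · rw [hy1]; exact Commute.one_right x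
  by_cases hne : St A x = St A y
  swap
  · exact H.comm_of_ne hx hx1 hy hy1 hne
  -- pick w with St w ≠ St x
  obtain ⟨w, hw, hw1, hwB⟩ : ∃ w ∈ N, w ≠ 1 ∧ St A w ≠ St A x := by
    by_contra hcon
    push Not at hcon
    exact H.not_all_eq (St A x) hcon
  have hxw : Commute x w := H.comm_of_ne hx hx1 hw hw1 (Ne.symm hwB)
  have hyw1 : y * w ≠ 1 := by
    intro h
    apply hwB
    have hwy : w = y⁻¹ := by
      have : w = y⁻¹ * (y * w) := by group
      rw [this, h, mul_one]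
    rw [hne, hwy]
    ext g
    rw [mem_St', mem_St']
    exact ⟨fun hg => ⟨hg.1, by simpa using hg.2.inv_right⟩, fun hg => ⟨hg.1, hg.2.inv_right⟩⟩
  have hywB : St A (y * w) ≠ St A x := by
    intro h
    apply hwB
    rw [hne]
    apply (St_eq_of_le _ _).symm
    · intro g hg
      have hg2 : g ∈ St A (y * w) := by rw [h, hne]; exact hg
      rw [mem_St'] at hg hg2 ⊢
      refine ⟨hg.1, ?_⟩
      have : w = y⁻¹ * (y * w) := by group
      rw [this]
      exact hg.2.inv_right.mul_right hg2.2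
    · rw [H.h1 y hy hy1, H.h1 w hw hw1]
  have hxyw : Commute x (y * w) :=
    H.comm_of_ne hx hx1 (mul_mem hy hw) hyw1 (Ne.symm hywB)
  have : y = (y * w) * w⁻¹ := by group
  rw [this]
  exact hxyw.mul_right hxw.inv_right


/-- Claim 4: exponent p -/
theorem Hyp.exponent (H : Hyp A N b) : ∃ p : ℕ, p.Prime ∧ ∀ x ∈ N, x ^ p = 1 := by
  obtain ⟨x0, hx0, hx01, _⟩ := H.h2
  have hNne : Nat.card N ≠ 1 := by
    intro h
    rw [Subgroup.card_eq_one] at h
    rw [h, Subgroup.mem_bot] at hx0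
    exact hx01 hx0
  set p := (Nat.card N).minFac with hp
  have hpp : p.Prime := Nat.minFac_prime hNne
  refine ⟨p, hpp, ?_⟩
  let M : Subgroup G :=
    { carrier := {x | x ∈ N ∧ x ^ p = 1}
      one_mem' := ⟨one_mem N, one_pow p⟩
      mul_mem' := by
        rintro x y ⟨hx, hxp⟩ ⟨hy, hyp⟩
        refine ⟨mul_mem hx hy, ?_⟩
        rw [(H.comm hx hy).mul_pow, hxp, hyp, one_mul]
      inv_mem' := by
        rintro x ⟨hx, hxp⟩
        exact ⟨inv_mem hx, by rw [inv_pow, hxp, inv_one]⟩ }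
  have hMN : M ≤ N := fun x hx => hx.1
  have hMA : ∀ h ∈ A, ∀ u ∈ M, h * u * h⁻¹ ∈ M := by
    intro h _ u hu
    refine ⟨H.conj_mem h hu.1, ?_⟩
    rw [conj_pow, hu.2]; group
  have hM1 : M ≠ ⊥ := by
    have : Fact p.Prime := ⟨hpp⟩
    obtain ⟨x, hx⟩ := exists_prime_orderOf_dvd_card' (G := N) p (Nat.minFac_dvd _)
    intro hbot
    have hxM : (x : G) ∈ M := by
      refine ⟨x.2, ?_⟩
      have := pow_orderOf_eq_one x
      rw [hx] at this
      have h2 := congrArg Subtype.val this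
      simpa using h2
    rw [hbot, Subgroup.mem_bot] at hxM
    have : x = 1 := Subtype.ext hxM
    rw [this, orderOf_one] at hx
    exact hpp.one_lt.ne hx
  have := H.no_invariant M hMN hMA hM1
  intro x hx
  rw [← this] at hx
  exact hx.2

/-- Main theorem (Isaacs–Passman). -/
theorem Hyp.main (H : Hyp A N b) (h4 : ∀ g : G, ∃ x ∈ N, x⁻¹ * g ∈ A) :
    (∃ p : ℕ, p.Prime ∧ IsMulCommutative N ∧ ∀ x ∈ N, x ^ p = 1) ∧
    (∀ M : Subgroup G, M.Normal → M ≠ ⊥ → N ≤ M) := by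
  constructor
  · obtain ⟨p, hp, hexp⟩ := H.exponent
    exact ⟨p, hp, ⟨⟨fun x y => Subtype.ext (H.comm x.2 y.2).eq⟩⟩, hexp⟩
  · intro M hMn hM1
    have hK := H.no_invariant (M ⊓ N) inf_le_right
      (fun h _ u hu => Subgroup.mem_inf.2 ⟨hMn.conj_mem u (Subgroup.mem_inf.1 hu).1 h,
        H.conj_mem h (Subgroup.mem_inf.1 hu).2⟩)
    by_cases hK1 : M ⊓ N = ⊥
    · exfalso
      -- M centralizes N
      have hcent : ∀ g ∈ M, ∀ x ∈ N, Commute g x := by
        intro g hg x hx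
        have hmem : g * x * g⁻¹ * x⁻¹ ∈ M ⊓ N := by
          refine Subgroup.mem_inf.2 ⟨?_, ?_⟩
          · have : g * x * g⁻¹ * x⁻¹ = g * (x * g⁻¹ * x⁻¹) := by group
            rw [this]
            exact mul_mem hg (hMn.conj_mem _ (inv_mem hg) x)
          · exact mul_mem (H.conj_mem g hx) (inv_mem hx)
        rw [hK1, Subgroup.mem_bot] at hmem
        show g * x = x * g
        have e : g * x = (g * x * g⁻¹ * x⁻¹) * (x * g) := by group
        rw [e, hmem, one_mul]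
      apply hM1
      rw [Subgroup.eq_bot_iff_forall]
      intro g hg
      obtain ⟨x, hx, hxA⟩ := h4 g
      have h1 : x⁻¹ * g = 1 := by
        apply H.h3 _ hxA
        intro y hy
        exact (H.comm hx hy).inv_left.mul_left (hcent g hg y hy)
      have hgx : g = x := by
        have : g = x * (x⁻¹ * g) := by group
        rw [this, h1, mul_one]
      have : g ∈ M ⊓ N := Subgroup.mem_inf.2 ⟨hg, hgx ▸ hx⟩
      rw [hK1, Subgroup.mem_bot] at this
      exact this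
    · have := hK hK1
      rw [← this]; exact inf_le_left

end core

end Cfsg.Agent.Lib.Helper22.HalfAutA
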