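import Mathlib
import Cfsg.Agent.Lib.Helper22.HalfA

set_option autoImplicit false

/-!
# Half-transitive linear groups: the counting lemma for groups with a cyclic subgroup of index two
-/

namespace Cfsg.Agent.Lib.Helper22.HalfB

open Cfsg.Agent.Lib.Helper22.HalfA

theorem card_ne_add_one {α : Type*} [Finite α] (a : α) :
    Nat.card {x : α // x ≠ a} + 1 = Nat.card α := by
  classical
  rw [← Finite.card_option, Nat.card_congr (Equiv.optionSubtypeNe a)]

/-- a finite cyclic group has at most one involution -/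
theorem invol_unique_of_isCyclic {C : Type*} [Group C] [Finite C] [IsCyclic C] (u z : C)
    (hu2 : u * u = 1) (hu1 : u ≠ 1) (hz2 : z * z = 1) (hz1 : z ≠ 1) : u = z := by
  have hou : orderOf u = 2 := orderOf_eq_prime (by rw [pow_two]; exact hu2) hu1
  have hoz : orderOf z = 2 := orderOf_eq_prime (by rw [pow_two]; exact hz2) hz1
  have h1 := Cfsg.Agent.Lib.Helper10.eq_of_card_eq_of_isCyclic (Subgroup.zpowers u)
    (Subgroup.zpowers z) (by rw [Nat.card_zpowers, Nat.card_zpowers, hou, hoz])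
  have h2 : u ∈ Subgroup.zpowers z := h1 ▸ Subgroup.mem_zpowers u
  obtain ⟨k, hk⟩ := Subgroup.mem_zpowers_iff.mp h2
  rw [← zpow_mod_orderOf, hoz] at hk
  push_cast at hk
  rcases Int.emod_two_eq_zero_or_one k with h | h
  · rw [h, zpow_zero] at hk
    exact absurd hk.symm hu1
  · rw [h, zpow_one] at hk
    exact hk.symm


variable {K : Type*} [Field K] {V : Type*} [AddCommGroup V] [Module K V]
variable {G : Type*} [Group G] [DistribMulAction G V] [SMulCommClass G K V]

/-- conjugate fixed spaces have the same cardinality -/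
theorem card_fixSub_conj (t x : G) :
    Nat.card (fixSub K V (x * t * x⁻¹)) = Nat.card (fixSub K V t) := by
  apply Nat.card_congr
  exact {
    toFun := fun v => ⟨x⁻¹ • (v : V), by
      rw [mem_fixSub]
      have h := (mem_fixSub (K := K) _ _).mp v.2
      calc t • x⁻¹ • (v : V) = x⁻¹ • ((x * t * x⁻¹) • (v : V)) := by simp [mul_smul]
        _ = x⁻¹ • (v : V) := by rw [h]⟩
    invFun := fun w => ⟨x • (w : V), by
      rw [mem_fixSub]
      have h := (mem_fixSub (K := K) _ _).mp w.2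
      calc (x * t * x⁻¹) • x • (w : V) = x • t • (w : V) := by simp [mul_smul]
        _ = x • (w : V) := by rw [h]⟩
    left_inv := fun v => by ext; simp
    right_inv := fun w => by ext; simp }

/-- `V = Fix(t) ⊕ Fix(tz)` for an involution `t` and `z = -1` -/
theorem isCompl_fixSub (h2 : (2 : K) ≠ 0) (t z : G) (ht2 : t * t = 1) (hz : ∀ v : V, z • v = -v) :
    IsCompl (fixSub K V t) (fixSub K V (t * z)) := by
  constructor
  · rw [Submodule.disjoint_def]
    intro v h1 h3
    rw [mem_fixSub] at h1 h3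
    rw [mul_smul, hz, smul_neg, h1] at h3
    have h4 : (2 : K) • v = 0 := by
      rw [two_smul]
      nth_rewrite 1 [← h3]
      exact neg_add_cancel v
    exact (smul_eq_zero.mp h4).resolve_left h2
  · rw [codisjoint_iff, eq_top_iff]
    intro v _
    rw [Submodule.mem_sup]
    refine ⟨(2 : K)⁻¹ • (v + t • v), ?_, (2 : K)⁻¹ • (v - t • v), ?_, ?_⟩
    · rw [mem_fixSub, smul_comm, smul_add, ← mul_smul, ht2, one_smul, add_comm]
    · rw [mem_fixSub, smul_comm, mul_smul, hz, smul_neg, smul_sub, ← mul_smul, ht2, one_smul,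
        neg_sub]
    · rw [← smul_add, add_add_sub_cancel, ← two_smul K v, smul_smul, inv_mul_cancel₀ h2, one_smul]

theorem card_eq_fixSub_sq [Finite V] (h2 : (2 : K) ≠ 0) (t z x : G) (ht2 : t * t = 1)
    (hz : ∀ v : V, z • v = -v) (hx : x * t * x⁻¹ = t * z) :
    Nat.card V = Nat.card (fixSub K V t) * Nat.card (fixSub K V t) := by
  have hc := isCompl_fixSub h2 t z ht2 hz
  have e := Submodule.prodEquivOfIsCompl _ _ hc
  rw [← Nat.card_congr e.toEquiv, Nat.card_prod, ← hx, card_fixSub_conj]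


omit [SMulCommClass G K V] in
theorem pow_smul_eq_of_smul_eq (g : G) (v : V) (h : g • v = v) (k : ℕ) : (g ^ k) • v = v := by
  induction k with
  | zero => simp
  | succ k ih => rw [pow_succ, mul_smul, h, ih]

/-- The counting lemma: a non-semiregular half-transitive irreducible `2`-group with a cyclic
subgroup `C` of index two, all of whose involutions `t` outside `C` are conjugate to `tz`. -/
theorem count_main [Finite G] [Finite V] [FaithfulSMul G V] [Nontrivial V] (hG : IsPGroup 2 G)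
    (h2 : (2 : K) ≠ 0)
    (hirr : ∀ W : Submodule K V, (∀ g : G, ∀ w ∈ W, g • w ∈ W) → W = ⊥ ∨ W = ⊤)
    (C : Subgroup G) (hCi : C.index = 2) [hCc : IsCyclic C] (z : G) (hzC : z ∈ C)
    (hz2 : z * z = 1) (hz1 : z ≠ 1)
    (hb : ∀ t : G, t ∉ C → t * t = 1 → ∃ x : G, x * t * x⁻¹ = t * z)
    (hns : ∀ v : V, v ≠ 0 → ∃ g : G, g ≠ 1 ∧ g • v = v) :
    ∃ N : ℕ, Nat.card V = N * N ∧ N + 1 = Nat.card {t : G // t ∉ C ∧ t * t = 1} := by
  classical
  have huC : ∀ u : G, u ∈ C → u * u = 1 → u ≠ 1 → u = z := by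
    intro u hu hu2 hu1
    have h := invol_unique_of_isCyclic (C := C) ⟨u, hu⟩ ⟨z, hzC⟩ (Subtype.ext hu2)
      (fun h => hu1 (congrArg Subtype.val h)) (Subtype.ext hz2)
      (fun h => hz1 (congrArg Subtype.val h))
    exact congrArg Subtype.val h
  have hCn : C.Normal := Subgroup.normal_of_index_eq_two hCi
  have hzc : z ∈ Subgroup.center G := by
    rw [Subgroup.mem_center_iff]
    intro x
    have h1 : x * z * x⁻¹ ∈ C := hCn.conj_mem z hzC x
    have h3 : (x * z * x⁻¹) * (x * z * x⁻¹) = 1 := by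
      have : (x * z * x⁻¹) * (x * z * x⁻¹) = x * (z * z) * x⁻¹ := by group
      rw [this, hz2]; group
    have h4 : x * z * x⁻¹ ≠ 1 := by
      intro h
      apply hz1
      have : z = x⁻¹ * (x * z * x⁻¹) * x := by group
      rw [this, h]; group
    have h5 := huC _ h1 h3 h4
    calc x * z = (x * z * x⁻¹) * x := by group
      _ = z * x := by rw [h5]
  have hz : ∀ v : V, z • v = -v := central_invol_smul (K := K) hirr z hzc hz2 hz1
  have hneg : ∀ v : V, v = -v → v = 0 := by
    intro v hv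
    have h4 : (2 : K) • v = 0 := by
      rw [two_smul]
      nth_rewrite 1 [hv]
      exact neg_add_cancel v
    exact (smul_eq_zero.mp h4).resolve_left h2
  have hi : ∀ v : V, v ≠ 0 → ∀ c ∈ C, c • v = v → c = 1 := by
    intro v hv c hc hcv
    by_contra hc1
    obtain ⟨k, hk2, hk1⟩ := exists_pow_invol hG c hc1
    have hkC : c ^ k ∈ C := C.pow_mem hc k
    have hkv : (c ^ k) • v = v := pow_smul_eq_of_smul_eq c v hcv k
    rw [huC _ hkC hk2 hk1, hz] at hkv
    exact hv (hneg v hkv.symm)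
  have hex : ∀ v : V, v ≠ 0 → ∃ t : G, (t ∉ C ∧ t * t = 1) ∧ t • v = v := by
    intro v hv
    obtain ⟨g, hg1, hgv⟩ := hns v hv
    have hgC : g ∉ C := fun h => hg1 (hi v hv g h hgv)
    have hgg : g * g = 1 := hi v hv _ (Subgroup.mul_self_mem_of_index_two hCi g)
      (by rw [mul_smul, hgv, hgv])
    exact ⟨g, ⟨hgC, hgg⟩, hgv⟩
  have huq : ∀ v : V, v ≠ 0 → ∀ t t' : G, t ∉ C → t * t = 1 → t • v = v → t' ∉ C →
      t' * t' = 1 → t' • v = v → t = t' := by
    intro v hv t t' ht ht2 htv ht' _ ht'v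
    have h1 : t * t' ∈ C := (Subgroup.mul_mem_iff_of_index_two hCi).mpr (iff_of_false ht ht')
    have h3 := hi v hv _ h1 (by rw [mul_smul, ht'v, htv])
    have h4 : t' = t⁻¹ := eq_inv_of_mul_eq_one_right h3
    rw [h4]
    exact eq_inv_of_mul_eq_one_left ht2
  have hN : ∀ t : {t : G // t ∉ C ∧ t * t = 1},
      Nat.card V = Nat.card (fixSub K V t.1) * Nat.card (fixSub K V t.1) := by
    intro t
    obtain ⟨x, hx⟩ := hb t.1 t.2.1 t.2.2
    exact card_eq_fixSub_sq h2 t.1 z x t.2.2 hz hx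
  obtain ⟨v0, hv0⟩ := exists_ne (0 : V)
  obtain ⟨t0, ht0, _⟩ := hex v0 hv0
  set N := Nat.card (fixSub K V t0) with hNdef
  have hNt : ∀ t : {t : G // t ∉ C ∧ t * t = 1}, Nat.card (fixSub K V t.1) = N := by
    intro t
    have h1 := hN t
    have h0 := hN ⟨t0, ht0⟩
    exact Nat.mul_self_inj.mp (h1.symm.trans h0)
  refine ⟨N, hN ⟨t0, ht0⟩, ?_⟩
  let f : {v : V // v ≠ 0} → {t : G // t ∉ C ∧ t * t = 1} := fun v =>
    ⟨Classical.choose (hex v.1 v.2), (Classical.choose_spec (hex v.1 v.2)).1⟩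
  have hf : ∀ v : {v : V // v ≠ 0}, (f v).1 • v.1 = v.1 :=
    fun v => (Classical.choose_spec (hex v.1 v.2)).2
  have hf' : ∀ (v : {v : V // v ≠ 0}) (t : {t : G // t ∉ C ∧ t * t = 1}),
      f v = t ↔ t.1 • v.1 = v.1 := by
    intro v t
    constructor
    · intro h
      rw [← h]
      exact hf v
    · intro h
      apply Subtype.ext
      exact huq v.1 v.2 _ _ (f v).2.1 (f v).2.2 (hf v) t.2.1 t.2.2 h
  have hfib : ∀ t : {t : G // t ∉ C ∧ t * t = 1},
      Nat.card {a : {v : V // v ≠ 0} // f a = t} + 1 = N := by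
    intro t
    rw [← hNt t, ← card_ne_add_one (0 : fixSub K V t.1)]
    congr 1
    apply Nat.card_congr
    exact {
      toFun := fun a => ⟨⟨a.1.1, (hf' a.1 t).mp a.2⟩, fun h => a.1.2 (congrArg Subtype.val h)⟩
      invFun := fun w => ⟨⟨w.1.1, fun h => w.2 (Subtype.ext h)⟩, (hf' _ t).mpr w.1.2⟩
      left_inv := fun a => rfl
      right_inv := fun w => rfl }
  have : Fintype {t : G // t ∉ C ∧ t * t = 1} := Fintype.ofFinite _
  have h1 : Nat.card {v : V // v ≠ 0}
      = ∑ t : {t : G // t ∉ C ∧ t * t = 1}, Nat.card {a : {v : V // v ≠ 0} // f a = t} := by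
    rw [← Nat.card_sigma]
    exact Nat.card_congr (Equiv.sigmaFiberEquiv f).symm
  have h3 : Nat.card {v : V // v ≠ 0} + 1 = Nat.card V := card_ne_add_one 0
  have hN1 : 1 ≤ N := by
    have := hfib ⟨t0, ht0⟩
    omega
  have h4 : ∑ t : {t : G // t ∉ C ∧ t * t = 1}, Nat.card {a : {v : V // v ≠ 0} // f a = t}
      = Nat.card {t : G // t ∉ C ∧ t * t = 1} * (N - 1) := by
    rw [Finset.sum_congr rfl (fun t _ => show Nat.card {a : {v : V // v ≠ 0} // f a = t} = N - 1
      from by have := hfib t; omega)]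
    rw [Finset.sum_const, Finset.card_univ, smul_eq_mul, Nat.card_eq_fintype_card]
  have h5 : Nat.card V = N * N := hN ⟨t0, ht0⟩
  have h6 : 1 < Nat.card V := Finite.one_lt_card
  have hN2 : 2 ≤ N := by
    by_contra h
    have : N = 1 := by omega
    rw [this] at h5
    omega
  obtain ⟨M, hM⟩ : ∃ M, N = M + 1 := ⟨N - 1, by omega⟩
  have hM1 : 1 ≤ M := by omega
  rw [h1, h4, h5, hM] at h3
  have h7 : Nat.card {t : G // t ∉ C ∧ t * t = 1} * M = (M + 2) * M := by
    have : M + 1 - 1 = M := by omega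
    rw [this] at h3
    nlinarith
  have h8 := Nat.eq_of_mul_eq_mul_right (by omega : 0 < M) h7
  rw [hM, h8]

end Cfsg.Agent.Lib.Helper22.HalfB
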