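import Mathlib
import Cfsg.Agent.Lib.Helper22.HalfB

set_option autoImplicit false

/-!
# Half-transitive linear groups: the dihedral case
-/

namespace Cfsg.Agent.Lib.Helper22.HalfC

open Cfsg.Agent.Lib.Helper22.HalfA Cfsg.Agent.Lib.Helper22.HalfB DihedralGroup

variable {K : Type*} [Field K] {V : Type*} [AddCommGroup V] [Module K V]

theorem mem_zpowers_r_one_iff (n : ℕ) [NeZero n] (g : DihedralGroup n) :
    g ∈ Subgroup.zpowers (r 1 : DihedralGroup n) ↔ ∃ i : ZMod n, g = r i := by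
  constructor
  · intro h
    obtain ⟨k, hk⟩ := Subgroup.mem_zpowers_iff.mp h
    rw [r_one_zpow] at hk
    exact ⟨_, hk.symm⟩
  · rintro ⟨i, rfl⟩
    have h1 : (r 1 : DihedralGroup n) ^ (i.val) = r i := by
      rw [r_one_pow, ZMod.natCast_zmod_val]
    rw [← h1]
    exact Subgroup.pow_mem _ (Subgroup.mem_zpowers _) _

theorem not_mem_zpowers_r_one_iff (n : ℕ) [NeZero n] (g : DihedralGroup n) :
    g ∉ Subgroup.zpowers (r 1 : DihedralGroup n) ↔ ∃ i : ZMod n, g = sr i := by
  rw [mem_zpowers_r_one_iff]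
  constructor
  · intro h
    cases g with
    | r i => exact absurd ⟨i, rfl⟩ h
    | sr i => exact ⟨i, rfl⟩
  · rintro ⟨i, rfl⟩ ⟨j, hj⟩
    cases hj

theorem index_zpowers_r_one (n : ℕ) [NeZero n] :
    (Subgroup.zpowers (r 1 : DihedralGroup n)).index = 2 := by
  have h1 := Subgroup.index_mul_card (Subgroup.zpowers (r 1 : DihedralGroup n))
  rw [Nat.card_zpowers, orderOf_r_one, DihedralGroup.nat_card] at h1
  have hn : 0 < n := Nat.pos_of_ne_zero (NeZero.ne n)
  exact Nat.eq_of_mul_eq_mul_right hn h1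

theorem card_refl (n : ℕ) [NeZero n] :
    Nat.card {t : DihedralGroup n // t ∉ Subgroup.zpowers (r 1 : DihedralGroup n) ∧ t * t = 1}
      = n := by
  have e : ZMod n ≃
      {t : DihedralGroup n // t ∉ Subgroup.zpowers (r 1 : DihedralGroup n) ∧ t * t = 1} :=
    { toFun := fun i => ⟨sr i, (not_mem_zpowers_r_one_iff n _).mpr ⟨i, rfl⟩, sr_mul_self i⟩
      invFun := fun t => match t.1 with
        | r _ => 0
        | sr i => i
      left_inv := fun i => rfl
      right_inv := by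
        rintro ⟨t, ht1, ht2⟩
        obtain ⟨i, rfl⟩ := (not_mem_zpowers_r_one_iff n t).mp ht1
        rfl }
  rw [← Nat.card_congr e, Nat.card_zmod]

/-- The dihedral case of the counting lemma. -/
theorem dihedral_count (n : ℕ) [NeZero n] [DistribMulAction (DihedralGroup n) V]
    [SMulCommClass (DihedralGroup n) K V] [Finite V] [FaithfulSMul (DihedralGroup n) V]
    [Nontrivial V] (hG : IsPGroup 2 (DihedralGroup n)) (h2 : (2 : K) ≠ 0)
    (hirr : ∀ W : Submodule K V, (∀ g : DihedralGroup n, ∀ w ∈ W, g • w ∈ W) → W = ⊥ ∨ W = ⊤)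
    (hns : ∀ v : V, v ≠ 0 → ∃ g : DihedralGroup n, g ≠ 1 ∧ g • v = v) (hn4 : 4 ∣ n) :
    ∃ N : ℕ, Nat.card V = N * N ∧ N + 1 = n := by
  obtain ⟨m, hm⟩ := hn4
  have hn0 : n ≠ 0 := NeZero.ne n
  have hm0 : 0 < m := by
    rcases Nat.eq_zero_or_pos m with h | h
    · rw [h, mul_zero] at hm
      exact absurd hm hn0
    · exact h
  have hcast : ((2 * m : ℕ) : ZMod n) + ((2 * m : ℕ) : ZMod n) = 0 := by
    rw [← Nat.cast_add, ← two_mul, ← mul_assoc, show 2 * 2 = 4 from rfl, ← hm, ZMod.natCast_self]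
  obtain ⟨N, hN1, hN2⟩ := count_main (K := K) (V := V) hG h2 hirr
    (Subgroup.zpowers (r 1 : DihedralGroup n)) (index_zpowers_r_one n)
    (r ((2 * m : ℕ) : ZMod n))
    ((mem_zpowers_r_one_iff n _).mpr ⟨_, rfl⟩)
    (by rw [r_mul_r, hcast]; rfl)
    (by
      intro h
      rw [one_def] at h
      have h1 : ((2 * m : ℕ) : ZMod n) = 0 := by
        injection h
      rw [ZMod.natCast_eq_zero_iff] at h1
      have := Nat.le_of_dvd (by omega) h1
      omega)
    (by
      intro t ht _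
      obtain ⟨i, rfl⟩ := (not_mem_zpowers_r_one_iff n t).mp ht
      refine ⟨r ((m : ℕ) : ZMod n), ?_⟩
      rw [r_mul_sr, inv_r, sr_mul_r, sr_mul_r]
      congr 1
      have h3 : ((2 * m : ℕ) : ZMod n) = (m : ZMod n) + (m : ZMod n) := by
        rw [two_mul, Nat.cast_add]
      have h4 : (m : ZMod n) + (m : ZMod n) + ((m : ZMod n) + (m : ZMod n)) = 0 := by
        rw [← h3]; exact hcast
      rw [h3]
      linear_combination (-1 : ZMod n) * h4)
    hns
  exact ⟨N, hN1, by rw [hN2, card_refl]⟩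

end Cfsg.Agent.Lib.Helper22.HalfC
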