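import Mathlib
import Cfsg.Agent.Lib.Helper22.HalfB

set_option autoImplicit false

/-!
# Half-transitive linear groups: the imprimitive case
-/

namespace Cfsg.Agent.Lib.Helper22.HalfD

open Cfsg.Agent.Lib.Helper22.HalfA Cfsg.Agent.Lib.Helper22.HalfB

variable {K : Type*} [Field K] {V : Type*} [AddCommGroup V] [Module K V]
variable {G : Type*} [Group G] [DistribMulAction G V] [SMulCommClass G K V]

omit [SMulCommClass G K V] in
/-- In the imprimitive situation, every nonzero vector of `W0` is mapped onto a fixed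
vector of `W1` by an element outside `H`. -/
theorem exists_swap [Finite G] [FaithfulSMul G V]
    (hhalf : ∀ v w : V, v ≠ 0 → w ≠ 0 →
      Nat.card (MulAction.stabilizer G v) = Nat.card (MulAction.stabilizer G w))
    (H : Subgroup G) (W0 W1 : Submodule K V) (hc : IsCompl W0 W1)
    (hH0 : ∀ h ∈ H, ∀ w ∈ W0, h • w ∈ W0) (hH1 : ∀ h ∈ H, ∀ w ∈ W1, h • w ∈ W1)
    (hsw0 : ∀ g : G, g ∉ H → ∀ w ∈ W0, g • w ∈ W1)
    (hsw1 : ∀ g : G, g ∉ H → ∀ w ∈ W1, g • w ∈ W0)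
    (h0 : G) (hh0 : h0 ∈ H) (hh01 : h0 ≠ 1) (hh0W : ∀ w ∈ W0, h0 • w = w) :
    ∃ w1s ∈ W1, h0 • w1s ≠ w1s ∧ ∀ w0 ∈ W0, w0 ≠ 0 → ∃ x : G, x ∉ H ∧ x • w0 = w1s := by
  have hmove : ∃ w1s ∈ W1, h0 • w1s ≠ w1s := by
    by_contra hcon
    push Not at hcon
    apply hh01
    apply FaithfulSMul.eq_of_smul_eq_smul (α := V)
    intro v
    rw [one_smul]
    have hv : v ∈ W0 ⊔ W1 := hc.sup_eq_top ▸ Submodule.mem_top
    obtain ⟨w, hw, w', hw', rfl⟩ := Submodule.mem_sup.mp hv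
    rw [smul_add, hh0W w hw, hcon w' hw']
  obtain ⟨w1s, hw1s, hmv⟩ := hmove
  refine ⟨w1s, hw1s, hmv, ?_⟩
  intro w0 hw0 hw0ne
  have hvne : w0 + w1s ≠ 0 := by
    intro h
    have h2 : w0 = -w1s := eq_neg_of_add_eq_zero_left h
    have h3 : w0 ∈ W1 := h2 ▸ W1.neg_mem hw1s
    exact hw0ne (Submodule.disjoint_def.mp hc.disjoint w0 hw0 h3)
  have hex : ∃ x ∈ MulAction.stabilizer G (w0 + w1s), x ∉ H := by
    by_contra hcon
    push Not at hcon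
    have hle : MulAction.stabilizer G (w0 + w1s) ≤ MulAction.stabilizer G w0 := by
      intro g hg
      have hgH := hcon g hg
      rw [MulAction.mem_stabilizer_iff] at hg ⊢
      exact ((smul_add_eq_iff W0 W1 hc.disjoint g w0 w1s hw0 hw1s (hH0 g hgH w0 hw0)
        (hH1 g hgH w1s hw1s)).mp hg).1
    have heq := Subgroup.eq_of_le_of_card_ge hle (hhalf _ _ hw0ne hvne).le
    have h1 : h0 ∈ MulAction.stabilizer G (w0 + w1s) := by
      rw [heq, MulAction.mem_stabilizer_iff]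
      exact hh0W w0 hw0
    rw [MulAction.mem_stabilizer_iff] at h1
    exact hmv ((smul_add_eq_iff W0 W1 hc.disjoint h0 w0 w1s hw0 hw1s (hH0 h0 hh0 w0 hw0)
        (hH1 h0 hh0 w1s hw1s)).mp h1).2
  obtain ⟨x, hx, hxH⟩ := hex
  refine ⟨x, hxH, ?_⟩
  rw [MulAction.mem_stabilizer_iff, smul_add] at hx
  have h1 : x • w0 - w1s = w0 - x • w1s := by
    rw [sub_eq_sub_iff_add_eq_add, hx, add_comm]
  have h2 : x • w0 - w1s ∈ W1 := W1.sub_mem (hsw0 x hxH w0 hw0) hw1s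
  have h3 : x • w0 - w1s ∈ W0 := h1 ▸ W0.sub_mem hw0 (hsw1 x hxH w1s hw1s)
  exact sub_eq_zero.mp (Submodule.disjoint_def.mp hc.disjoint _ h3 h2)

omit [SMulCommClass G K V] in
/-- `H` is transitive on the nonzero vectors of `W0`. -/
theorem transitive_W0 [Finite G] [FaithfulSMul G V]
    (hhalf : ∀ v w : V, v ≠ 0 → w ≠ 0 →
      Nat.card (MulAction.stabilizer G v) = Nat.card (MulAction.stabilizer G w))
    (H : Subgroup G) (hHi : H.index = 2) (W0 W1 : Submodule K V) (hc : IsCompl W0 W1)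
    (hH0 : ∀ h ∈ H, ∀ w ∈ W0, h • w ∈ W0) (hH1 : ∀ h ∈ H, ∀ w ∈ W1, h • w ∈ W1)
    (hsw0 : ∀ g : G, g ∉ H → ∀ w ∈ W0, g • w ∈ W1)
    (hsw1 : ∀ g : G, g ∉ H → ∀ w ∈ W1, g • w ∈ W0)
    (h0 : G) (hh0 : h0 ∈ H) (hh01 : h0 ≠ 1) (hh0W : ∀ w ∈ W0, h0 • w = w) :
    ∀ w ∈ W0, w ≠ 0 → ∀ w' ∈ W0, w' ≠ 0 → ∃ h ∈ H, h • w = w' := by
  obtain ⟨w1s, _, _, hsw⟩ := exists_swap hhalf H W0 W1 hc hH0 hH1 hsw0 hsw1 h0 hh0 hh01 hh0W
  intro w hw hwne w' hw' hw'ne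
  obtain ⟨x, hxH, hx⟩ := hsw w hw hwne
  obtain ⟨x', hx'H, hx'⟩ := hsw w' hw' hw'ne
  refine ⟨x'⁻¹ * x, ?_, ?_⟩
  · rw [Subgroup.mul_mem_iff_of_index_two hHi]
    exact iff_of_false (fun h => hx'H (by simpa using H.inv_mem h)) hxH
  · rw [mul_smul, hx, ← hx', inv_smul_smul]


omit [SMulCommClass G K V] in
/-- `#W0 - 1` is a power of two. -/
theorem card_W0 [Finite G] [Finite V] [FaithfulSMul G V] (hG : IsPGroup 2 G)
    (hhalf : ∀ v w : V, v ≠ 0 → w ≠ 0 →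
      Nat.card (MulAction.stabilizer G v) = Nat.card (MulAction.stabilizer G w))
    (H : Subgroup G) (hHi : H.index = 2) (W0 W1 : Submodule K V) (hc : IsCompl W0 W1)
    (hH0 : ∀ h ∈ H, ∀ w ∈ W0, h • w ∈ W0) (hH1 : ∀ h ∈ H, ∀ w ∈ W1, h • w ∈ W1)
    (hsw0 : ∀ g : G, g ∉ H → ∀ w ∈ W0, g • w ∈ W1)
    (hsw1 : ∀ g : G, g ∉ H → ∀ w ∈ W1, g • w ∈ W0)
    (h0 : G) (hh0 : h0 ∈ H) (hh01 : h0 ≠ 1) (hh0W : ∀ w ∈ W0, h0 • w = w) (hW0 : W0 ≠ ⊥) :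
    ∃ k : ℕ, Nat.card W0 = 2 ^ k + 1 := by
  have htr := transitive_W0 hhalf H hHi W0 W1 hc hH0 hH1 hsw0 hsw1 h0 hh0 hh01 hh0W
  obtain ⟨w0, hw0, hw0ne⟩ := Submodule.exists_mem_ne_zero_of_ne_bot hW0
  have h1 := MulAction.index_stabilizer H w0
  have h2 : (MulAction.stabilizer H w0).index ∣ Nat.card H := Subgroup.index_dvd_card _
  obtain ⟨a, ha⟩ := IsPGroup.iff_card.mp (hG.to_subgroup H)
  rw [ha] at h2
  obtain ⟨k, _, hk⟩ := (Nat.dvd_prime_pow Nat.prime_two).mp h2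
  refine ⟨k, ?_⟩
  have h3 : MulAction.orbit H w0 = {w : V | w ∈ W0 ∧ w ≠ 0} := by
    ext w
    rw [MulAction.mem_orbit_iff, Set.mem_ofPred_eq]
    constructor
    · rintro ⟨h, rfl⟩
      rw [Subgroup.smul_def]
      refine ⟨hH0 _ h.2 w0 hw0, ?_⟩
      intro h4
      exact hw0ne ((smul_eq_zero_iff_eq _).mp h4)
    · rintro ⟨hw, hwne⟩
      obtain ⟨h, hh, hhw⟩ := htr w0 hw0 hw0ne w hw hwne
      exact ⟨⟨h, hh⟩, hhw⟩
  rw [h3, hk] at h1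
  have h4 : ({w : V | w ∈ W0 ∧ w ≠ 0} : Set V).ncard = Nat.card {x : W0 // x ≠ 0} := by
    rw [← Nat.card_coe_set_eq]
    apply Nat.card_congr
    exact {
      toFun := fun w => ⟨⟨w.1, w.2.1⟩, fun h => w.2.2 (congrArg Subtype.val h)⟩
      invFun := fun x => ⟨x.1.1, x.1.2, fun h => x.2 (Subtype.ext h)⟩
      left_inv := fun w => rfl
      right_inv := fun x => rfl }
  rw [h4] at h1
  rw [← card_ne_add_one (0 : W0), ← h1]

omit [SMulCommClass G K V] in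
/-- `#V = #W0 ^ 2`. -/
theorem card_V [Finite V]
    (H : Subgroup G) (hHi : H.index = 2) (W0 W1 : Submodule K V) (hc : IsCompl W0 W1)
    (hsw0 : ∀ g : G, g ∉ H → ∀ w ∈ W0, g • w ∈ W1)
    (hsw1 : ∀ g : G, g ∉ H → ∀ w ∈ W1, g • w ∈ W0) :
    Nat.card V = Nat.card W0 * Nat.card W0 := by
  have hne : H ≠ ⊤ := by
    intro h
    rw [h, Subgroup.index_top] at hHi
    omega
  obtain ⟨x, hx⟩ : ∃ x : G, x ∉ H := by
    by_contra hcon
    push Not at hcon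
    exact hne (eq_top_iff.mpr (fun g _ => hcon g))
  have hx' : x⁻¹ ∉ H := fun h => hx (by simpa using H.inv_mem h)
  have e := Submodule.prodEquivOfIsCompl _ _ hc
  rw [← Nat.card_congr e.toEquiv, Nat.card_prod]
  congr 1
  apply Nat.card_congr
  exact {
    toFun := fun w => ⟨x⁻¹ • w.1, hsw1 _ hx' _ w.2⟩
    invFun := fun w => ⟨x • w.1, hsw0 _ hx _ w.2⟩
    left_inv := fun w => by ext; simp
    right_inv := fun w => by ext; simp }

end Cfsg.Agent.Lib.Helper22.HalfD
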