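import Mathlib
import Cfsg.Agent.Lib.Helper22.HalfD

set_option autoImplicit false

/-!
# Half-transitive linear groups: the Fermat case (both blocks are lines)
-/

namespace Cfsg.Agent.Lib.Helper22.HalfE

open Cfsg.Agent.Lib.Helper22.HalfA Cfsg.Agent.Lib.Helper22.HalfB Cfsg.Agent.Lib.Helper22.HalfD

variable {K : Type*} [Field K] {V : Type*} [AddCommGroup V] [Module K V]
variable {G : Type*} [Group G] [DistribMulAction G V] [SMulCommClass G K V]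

/-- an element of `H` fixing `e0` and `e1` is trivial -/
theorem eq_one_of_fix [FaithfulSMul G V] (W0 W1 : Submodule K V) (hc : IsCompl W0 W1)
    (e0 e1 : V) (hs0 : ∀ w ∈ W0, ∃ c : K, w = c • e0) (hs1 : ∀ w ∈ W1, ∃ c : K, w = c • e1)
    (g : G) (h0 : g • e0 = e0) (h1 : g • e1 = e1) : g = 1 := by
  apply FaithfulSMul.eq_of_smul_eq_smul (α := V)
  intro v
  rw [one_smul]
  have hv : v ∈ W0 ⊔ W1 := hc.sup_eq_top ▸ Submodule.mem_top
  obtain ⟨w, hw, w', hw', rfl⟩ := Submodule.mem_sup.mp hv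
  obtain ⟨c, rfl⟩ := hs0 w hw
  obtain ⟨c', rfl⟩ := hs1 w' hw'
  rw [smul_add, smul_comm, h0, smul_comm, h1]

/-- the swapping elements -/
theorem exists_anti [Finite G] [FaithfulSMul G V]
    (hhalf : ∀ v w : V, v ≠ 0 → w ≠ 0 →
      Nat.card (MulAction.stabilizer G v) = Nat.card (MulAction.stabilizer G w))
    (H : Subgroup G) (W0 W1 : Submodule K V) (hc : IsCompl W0 W1)
    (hH0 : ∀ h ∈ H, ∀ w ∈ W0, h • w ∈ W0) (hH1 : ∀ h ∈ H, ∀ w ∈ W1, h • w ∈ W1)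
    (hsw0 : ∀ g : G, g ∉ H → ∀ w ∈ W0, g • w ∈ W1)
    (hsw1 : ∀ g : G, g ∉ H → ∀ w ∈ W1, g • w ∈ W0)
    (h0 : G) (hh01 : h0 ≠ 1) (hh0W : ∀ w ∈ W0, h0 • w = w)
    (e0 e1 : V) (he0 : e0 ∈ W0) (he1 : e1 ∈ W1) (he0ne : e0 ≠ 0)
    (hs0 : ∀ w ∈ W0, ∃ c : K, w = c • e0) (hs1 : ∀ w ∈ W1, ∃ c : K, w = c • e1)
    (t : K) (ht : t ≠ 0) :
    ∃ x : G, x ∉ H ∧ x • e0 = t⁻¹ • e1 ∧ x • e1 = t • e0 := by
  have hte0 : t • e0 ∈ W0 := W0.smul_mem t he0
  have hte0ne : t • e0 ≠ 0 := smul_ne_zero ht he0ne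
  have hvne : t • e0 + e1 ≠ 0 := by
    intro h
    have h2 : t • e0 = -e1 := eq_neg_of_add_eq_zero_left h
    have h3 : t • e0 ∈ W1 := h2 ▸ W1.neg_mem he1
    exact hte0ne (Submodule.disjoint_def.mp hc.disjoint _ hte0 h3)
  have hS0 : MulAction.stabilizer G e0 ≠ ⊥ := by
    intro h
    have : h0 ∈ MulAction.stabilizer G e0 := hh0W e0 he0
    rw [h, Subgroup.mem_bot] at this
    exact hh01 this
  have hS : MulAction.stabilizer G (t • e0 + e1) ≠ ⊥ := by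
    intro h
    apply hS0
    rw [← Subgroup.card_eq_one, hhalf e0 _ he0ne hvne, h, Subgroup.card_bot]
  obtain ⟨⟨x, hxmem⟩, hx1⟩ := (Subgroup.ne_bot_iff_exists_ne_one (H := _)).mp hS
  have hx1' : x ≠ 1 := fun h => hx1 (Subtype.ext h)
  have hxv : x • (t • e0 + e1) = t • e0 + e1 := hxmem
  have hxH : x ∉ H := by
    intro hxH
    apply hx1'
    have h3 := (smul_add_eq_iff W0 W1 hc.disjoint x (t • e0) e1 hte0 he1
      (hH0 _ hxH _ hte0) (hH1 _ hxH _ he1)).mp hxv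
    have h4 : x • e0 = e0 := by
      have h5 := h3.1
      rw [smul_comm] at h5
      exact smul_right_injective V ht h5
    exact eq_one_of_fix W0 W1 hc e0 e1 hs0 hs1 _ h4 h3.2
  refine ⟨x, hxH, ?_⟩
  rw [smul_add] at hxv
  have h1 : x • (t • e0) - e1 = t • e0 - x • e1 := by
    rw [sub_eq_sub_iff_add_eq_add, hxv, add_comm]
  have h2 : x • (t • e0) - e1 ∈ W1 := W1.sub_mem (hsw0 _ hxH _ hte0) he1
  have h3 : x • (t • e0) - e1 ∈ W0 := h1 ▸ W0.sub_mem hte0 (hsw1 _ hxH _ he1)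
  have h4 : x • (t • e0) - e1 = 0 := Submodule.disjoint_def.mp hc.disjoint _ h3 h2
  have h5 : x • (t • e0) = e1 := sub_eq_zero.mp h4
  have h6 : t • e0 - x • e1 = 0 := h1 ▸ h4
  constructor
  · rw [smul_comm] at h5
    rw [← h5, smul_smul, inv_mul_cancel₀ ht, one_smul]
  · exact (sub_eq_zero.mp h6).symm


/-- the stabilizer of `e0` is `{1, h0}` and `h0` negates `e1` -/
theorem stab_e0 [Finite G] [FaithfulSMul G V]
    (hhalf : ∀ v w : V, v ≠ 0 → w ≠ 0 →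
      Nat.card (MulAction.stabilizer G v) = Nat.card (MulAction.stabilizer G w))
    (H : Subgroup G) (hHi : H.index = 2) (W0 W1 : Submodule K V) (hc : IsCompl W0 W1)
    (hH0 : ∀ h ∈ H, ∀ w ∈ W0, h • w ∈ W0) (hH1 : ∀ h ∈ H, ∀ w ∈ W1, h • w ∈ W1)
    (h0 : G) (hh0 : h0 ∈ H) (hh01 : h0 ≠ 1) (hh0W : ∀ w ∈ W0, h0 • w = w)
    (e0 e1 : V) (he0 : e0 ∈ W0) (he1 : e1 ∈ W1) (he0ne : e0 ≠ 0) (he1ne : e1 ≠ 0)
    (hs0 : ∀ w ∈ W0, ∃ c : K, w = c • e0) (hs1 : ∀ w ∈ W1, ∃ c : K, w = c • e1) :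
    h0 • e1 = -e1 ∧ ∀ g : G, g • e0 = e0 → g = 1 ∨ g = h0 := by
  have hvne : e0 + e1 ≠ 0 := by
    intro h
    have h2 : e0 = -e1 := eq_neg_of_add_eq_zero_left h
    have h3 : e0 ∈ W1 := h2 ▸ W1.neg_mem he1
    exact he0ne (Submodule.disjoint_def.mp hc.disjoint _ he0 h3)
  have hSH : ∀ s : G, s • (e0 + e1) = e0 + e1 → s ∈ H → s = 1 := by
    intro s hs hsH
    have h3 := (smul_add_eq_iff W0 W1 hc.disjoint s e0 e1 he0 he1
      (hH0 _ hsH _ he0) (hH1 _ hsH _ he1)).mp hs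
    exact eq_one_of_fix W0 W1 hc e0 e1 hs0 hs1 _ h3.1 h3.2
  have hcard : Nat.card (MulAction.stabilizer G (e0 + e1)) ≤ 2 := by
    have hfin : Finite (G ⧸ H) := inferInstance
    rw [← hHi, Subgroup.index_eq_card]
    apply Nat.card_le_card_of_injective
      (fun s : MulAction.stabilizer G (e0 + e1) => (QuotientGroup.mk (s : G) : G ⧸ H))
    intro s s' hss
    rw [QuotientGroup.eq] at hss
    have h1 : ((s : G)⁻¹ * (s' : G)) • (e0 + e1) = e0 + e1 := by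
      have := (s⁻¹ * s').2
      exact this
    have h2 := hSH _ h1 hss
    apply Subtype.ext
    exact inv_mul_eq_one.mp h2
  rw [← hhalf e0 _ he0ne hvne] at hcard
  have hh0S : h0 ∈ MulAction.stabilizer G e0 := hh0W e0 he0
  have ho : orderOf h0 = 2 := by
    have h1 := Subgroup.orderOf_dvd_natCard _ hh0S
    have h2 : orderOf h0 ≠ 1 := fun h => hh01 (orderOf_eq_one_iff.mp h)
    have h3 := Nat.le_of_dvd Nat.card_pos h1
    have h4 : orderOf h0 ≠ 0 := (orderOf_pos h0).ne'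
    omega
  have hh0sq : h0 * h0 = 1 := by
    rw [← pow_two, ← ho]
    exact pow_orderOf_eq_one h0
  constructor
  · obtain ⟨β, hβ⟩ := hs1 _ (hH1 h0 hh0 e1 he1)
    have h1 : h0 • h0 • e1 = e1 := by rw [← mul_smul, hh0sq, one_smul]
    rw [hβ, smul_comm, hβ, smul_smul] at h1
    have h2 : (β * β - 1) • e1 = 0 := by rw [sub_smul, h1, one_smul, sub_self]
    have h3 : β * β - 1 = 0 := (smul_eq_zero.mp h2).resolve_right he1ne
    have h4 : (β - 1) * (β + 1) = 0 := by linear_combination h3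
    rcases mul_eq_zero.mp h4 with h5 | h5
    · exfalso
      apply hh01
      have hβ1 : β = 1 := sub_eq_zero.mp h5
      rw [hβ1, one_smul] at hβ
      exact eq_one_of_fix W0 W1 hc e0 e1 hs0 hs1 _ (hh0W e0 he0) hβ
    · have hβ1 : β = -1 := eq_neg_of_add_eq_zero_left h5
      rw [hβ, hβ1, neg_smul, one_smul]
  · intro g hg
    have hgS : g ∈ MulAction.stabilizer G e0 := hg
    have heq : Subgroup.zpowers h0 = MulAction.stabilizer G e0 := by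
      apply Subgroup.eq_of_le_of_card_ge (Subgroup.zpowers_le.mpr hh0S)
      rw [Nat.card_zpowers, ho]
      exact hcard
    rw [← heq] at hgS
    obtain ⟨k, hk⟩ := Subgroup.mem_zpowers_iff.mp hgS
    rw [← zpow_mod_orderOf, ho] at hk
    push_cast at hk
    rcases Int.emod_two_eq_zero_or_one k with h | h
    · rw [h, zpow_zero] at hk
      exact Or.inl hk.symm
    · rw [h, zpow_one] at hk
      exact Or.inr hk.symm


/-- The Fermat case: the group consists exactly of the monomial maps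
`(x, y) ↦ (a x, ± a⁻¹ y)` and `(x, y) ↦ (± a⁻¹ y, a x)`. -/
theorem fermat_main [Finite G] [FaithfulSMul G V]
    (hhalf : ∀ v w : V, v ≠ 0 → w ≠ 0 →
      Nat.card (MulAction.stabilizer G v) = Nat.card (MulAction.stabilizer G w))
    (H : Subgroup G) (hHi : H.index = 2) (W0 W1 : Submodule K V) (hc : IsCompl W0 W1)
    (hH0 : ∀ h ∈ H, ∀ w ∈ W0, h • w ∈ W0) (hH1 : ∀ h ∈ H, ∀ w ∈ W1, h • w ∈ W1)
    (hsw0 : ∀ g : G, g ∉ H → ∀ w ∈ W0, g • w ∈ W1)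
    (hsw1 : ∀ g : G, g ∉ H → ∀ w ∈ W1, g • w ∈ W0)
    (h0 : G) (hh0 : h0 ∈ H) (hh01 : h0 ≠ 1) (hh0W : ∀ w ∈ W0, h0 • w = w)
    (e0 e1 : V) (he0 : e0 ∈ W0) (he1 : e1 ∈ W1) (he0ne : e0 ≠ 0) (he1ne : e1 ≠ 0)
    (hs0 : ∀ w ∈ W0, ∃ c : K, w = c • e0) (hs1 : ∀ w ∈ W1, ∃ c : K, w = c • e1) :
    (∀ a : K, a ≠ 0 → ∀ s : K, (s = 1 ∨ s = -1) →
      (∃ g : G, g • e0 = a • e0 ∧ g • e1 = (s * a⁻¹) • e1) ∧
      (∃ g : G, g • e0 = a • e1 ∧ g • e1 = (s * a⁻¹) • e0)) ∧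
    (∀ g : G, ∃ a s : K, a ≠ 0 ∧ (s = 1 ∨ s = -1) ∧
      ((g • e0 = a • e0 ∧ g • e1 = (s * a⁻¹) • e1) ∨
       (g • e0 = a • e1 ∧ g • e1 = (s * a⁻¹) • e0))) := by
  have hanti := exists_anti hhalf H W0 W1 hc hH0 hH1 hsw0 hsw1 h0 hh01 hh0W e0 e1 he0 he1 he0ne
    hs0 hs1
  obtain ⟨hneg, hstab⟩ := stab_e0 hhalf H hHi W0 W1 hc hH0 hH1 h0 hh0 hh01 hh0W e0 e1 he0 he1
    he0ne he1ne hs0 hs1
  -- the basic swap
  obtain ⟨x1, hx1H, hx1a, hx1b⟩ := hanti 1 one_ne_zero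
  rw [inv_one, one_smul] at hx1a
  rw [one_smul] at hx1b
  -- antidiagonal, s = 1
  have hA1 : ∀ a : K, a ≠ 0 → ∃ g : G, g ∉ H ∧ g • e0 = a • e1 ∧ g • e1 = a⁻¹ • e0 := by
    intro a ha
    obtain ⟨x, hxH, hxa, hxb⟩ := hanti a⁻¹ (inv_ne_zero ha)
    rw [inv_inv] at hxa
    exact ⟨x, hxH, hxa, hxb⟩
  -- diagonal, s = 1
  have hD1 : ∀ a : K, a ≠ 0 → ∃ g : G, g ∈ H ∧ g • e0 = a • e0 ∧ g • e1 = a⁻¹ • e1 := by
    intro a ha
    obtain ⟨x, hxH, hxa, hxb⟩ := hanti a ha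
    refine ⟨x * x1, ?_, ?_, ?_⟩
    · rw [Subgroup.mul_mem_iff_of_index_two hHi]
      exact iff_of_false hxH hx1H
    · rw [mul_smul, hx1a, hxb]
    · rw [mul_smul, hx1b, hxa]
  have part1 : ∀ a : K, a ≠ 0 → ∀ s : K, (s = 1 ∨ s = -1) →
      (∃ g : G, g • e0 = a • e0 ∧ g • e1 = (s * a⁻¹) • e1) ∧
      (∃ g : G, g • e0 = a • e1 ∧ g • e1 = (s * a⁻¹) • e0) := by
    intro a ha s hs
    obtain ⟨d, _, hda, hdb⟩ := hD1 a ha
    obtain ⟨x, _, hxa, hxb⟩ := hA1 a ha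
    rcases hs with rfl | rfl
    · rw [one_mul]
      exact ⟨⟨d, hda, hdb⟩, ⟨x, hxa, hxb⟩⟩
    · constructor
      · refine ⟨d * h0, ?_, ?_⟩
        · rw [mul_smul, hh0W e0 he0, hda]
        · rw [mul_smul, hneg, smul_neg, hdb, neg_mul, one_mul, neg_smul]
      · refine ⟨x * h0, ?_, ?_⟩
        · rw [mul_smul, hh0W e0 he0, hxa]
        · rw [mul_smul, hneg, smul_neg, hxb, neg_mul, one_mul, neg_smul]
  refine ⟨part1, ?_⟩
  -- elements of H
  have hHcase : ∀ g ∈ H, ∃ a s : K, a ≠ 0 ∧ (s = 1 ∨ s = -1) ∧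
      g • e0 = a • e0 ∧ g • e1 = (s * a⁻¹) • e1 := by
    intro g hg
    obtain ⟨α, hα⟩ := hs0 _ (hH0 g hg e0 he0)
    obtain ⟨β, hβ⟩ := hs1 _ (hH1 g hg e1 he1)
    have hα0 : α ≠ 0 := by
      intro h
      rw [h, zero_smul] at hα
      exact he0ne ((smul_eq_zero_iff_eq g).mp hα)
    obtain ⟨d, _, hda, hdb⟩ := hD1 α⁻¹ (inv_ne_zero hα0)
    rw [inv_inv] at hdb
    have h1 : (d * g) • e0 = e0 := by
      rw [mul_smul, hα, smul_comm, hda, smul_smul, mul_inv_cancel₀ hα0, one_smul]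
    have h2 : (d * g) • e1 = (β * α) • e1 := by
      rw [mul_smul, hβ, smul_comm, hdb, smul_smul]
    rcases hstab _ h1 with h3 | h3
    · rw [h3, one_smul] at h2
      have h4 : (β * α - 1) • e1 = 0 := by rw [sub_smul, ← h2, one_smul, sub_self]
      have h5 : β * α - 1 = 0 := (smul_eq_zero.mp h4).resolve_right he1ne
      have h6 : β = α⁻¹ := by
        field_simp
        linear_combination h5
      exact ⟨α, 1, hα0, Or.inl rfl, hα, by rw [one_mul, hβ, h6]⟩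
    · rw [h3, hneg] at h2
      have h4 : (β * α + 1) • e1 = 0 := by rw [add_smul, ← h2, one_smul, neg_add_cancel]
      have h5 : β * α + 1 = 0 := (smul_eq_zero.mp h4).resolve_right he1ne
      have h6 : β = -1 * α⁻¹ := by
        field_simp
        linear_combination h5
      exact ⟨α, -1, hα0, Or.inr rfl, hα, by rw [hβ, h6]⟩
  intro g
  by_cases hg : g ∈ H
  · obtain ⟨a, s, ha, hs, h1, h2⟩ := hHcase g hg
    exact ⟨a, s, ha, hs, Or.inl ⟨h1, h2⟩⟩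
  · have hgx : g * x1 ∈ H := by
      rw [Subgroup.mul_mem_iff_of_index_two hHi]
      exact iff_of_false hg hx1H
    obtain ⟨a, s, ha, hs, h1, h2⟩ := hHcase _ hgx
    rw [mul_smul, hx1a] at h1
    rw [mul_smul, hx1b] at h2
    have hs0' : s ≠ 0 := by
      rcases hs with rfl | rfl
      · exact one_ne_zero
      · exact neg_ne_zero.mpr one_ne_zero
    have hss : s * s = 1 := by
      rcases hs with rfl | rfl
      · exact one_mul 1
      · ring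
    refine ⟨s * a⁻¹, s, mul_ne_zero hs0' (inv_ne_zero ha), hs, Or.inr ⟨h2, ?_⟩⟩
    rw [h1]
    congr 1
    rw [mul_inv, inv_inv, ← mul_assoc]
    have : s * s⁻¹ = 1 := mul_inv_cancel₀ hs0'
    rw [this, one_mul]

end Cfsg.Agent.Lib.Helper22.HalfE
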