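import Mathlib

set_option autoImplicit false

/-!
# Number theory for half-transitive `2`-groups: `q^e ± 1 = 2^k`
-/

namespace Cfsg.Agent.Lib.Helper22.HalfN

theorem pow_odd_modEq (q M : ℕ) (h : q * q ≡ 1 [MOD M]) (n : ℕ) (hn : Odd n) :
    q ^ n ≡ q [MOD M] := by
  obtain ⟨i, rfl⟩ := hn
  rw [pow_succ, pow_mul, pow_two]
  have h1 : (q * q) ^ i ≡ 1 ^ i [MOD M] := h.pow i
  rw [one_pow] at h1
  have h2 := h1.mul_right q
  rwa [one_mul] at h2

/-- `q^e + 1 = 2^k` with `q` odd, `q > 1`, `k ≥ 2` forces `e = 1`. -/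
theorem pow_add_one_eq_two_pow (q e k : ℕ) (hq : Odd q) (hq1 : 1 < q) (hk : 2 ≤ k)
    (h : q ^ e + 1 = 2 ^ k) : e = 1 := by
  have h4 : 4 ∣ 2 ^ k := by
    obtain ⟨k', rfl⟩ : ∃ k', k = 2 + k' := ⟨k - 2, by omega⟩
    rw [pow_add]
    exact Dvd.intro _ rfl
  rcases Nat.even_or_odd e with he | he
  · exfalso
    obtain ⟨j, rfl⟩ := he
    rw [← two_mul, mul_comm, pow_mul, pow_two] at h
    have hodd : Odd (q ^ j) := hq.pow
    obtain ⟨m, hm⟩ := hodd
    rw [hm] at h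
    have : (2 * m + 1) * (2 * m + 1) + 1 = 4 * (m * m + m) + 2 := by ring
    rw [this] at h
    omega
  · by_contra he1
    have he3 : 3 ≤ e := by
      obtain ⟨i, rfl⟩ := he
      omega
    have hd : q + 1 ∣ q ^ e + 1 := by
      have := Odd.nat_add_dvd_pow_add_pow q 1 he
      rwa [one_pow] at this
    rw [h] at hd
    obtain ⟨j, hjk, hj⟩ := (Nat.dvd_prime_pow Nat.prime_two).mp hd
    -- q * q ≡ 1 mod 2^(j+1)
    have hj1 : 1 ≤ j := by
      by_contra hj0
      have : j = 0 := by omega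
      rw [this] at hj
      omega
    have hqq : q * q ≡ 1 [MOD 2 ^ (j + 1)] := by
      have h1 : q * q + 2 ^ (j + 1) = 2 ^ (2 * j) + 1 := by
        have : (q + 1) * (q + 1) = 2 ^ (2 * j) := by rw [hj, ← pow_add, two_mul]
        rw [pow_succ]
        nlinarith
      have h2 : 2 ^ (j + 1) ∣ 2 ^ (2 * j) := pow_dvd_pow 2 (by omega)
      have h3 : q * q + 2 ^ (j + 1) ≡ q * q [MOD 2 ^ (j + 1)] := Nat.add_modEq_right
      have h5 : 2 ^ (2 * j) + 1 ≡ 1 [MOD 2 ^ (j + 1)] := by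
        have : 2 ^ (2 * j) ≡ 0 [MOD 2 ^ (j + 1)] := (Nat.modEq_zero_iff_dvd).mpr h2
        have := this.add_right 1
        rwa [zero_add] at this
      exact h3.symm.trans (h1 ▸ h5)
    have h6 := pow_odd_modEq q _ hqq e he
    have h7 : q ^ e + 1 ≡ q + 1 [MOD 2 ^ (j + 1)] := h6.add_right 1
    rw [h, hj] at h7
    have hjk' : j < k := by
      have h8 : q + 1 < q ^ e + 1 := by
        have : q ^ 1 < q ^ e := Nat.pow_lt_pow_right hq1 (by omega)
        rw [pow_one] at this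
        omega
      rw [h, hj] at h8
      exact (Nat.pow_lt_pow_iff_right (by norm_num)).mp h8
    have h9 : 2 ^ k ≡ 0 [MOD 2 ^ (j + 1)] :=
      (Nat.modEq_zero_iff_dvd).mpr (pow_dvd_pow 2 (by omega))
    have h10 : 2 ^ j ≡ 0 [MOD 2 ^ (j + 1)] := h7.symm.trans h9
    have h11 := (Nat.modEq_zero_iff_dvd).mp h10
    have h12 := Nat.le_of_dvd (by positivity) h11
    have : 2 ^ j < 2 ^ (j + 1) := Nat.pow_lt_pow_right (by norm_num) (by omega)
    omega

/-- `q^n = 2^k + 1` with `q` an odd prime and `n ≥ 1` forces `n = 1` or `(q, n) = (3, 2)`. -/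
theorem pow_eq_two_pow_add_one (q n k : ℕ) (hq : Odd q) (hq1 : 1 < q) (hn : 1 ≤ n)
    (h : q ^ n = 2 ^ k + 1) : n = 1 ∨ (q = 3 ∧ n = 2) := by
  rcases Nat.even_or_odd n with he | he
  · right
    obtain ⟨j, rfl⟩ := he
    have hj1 : 1 ≤ j := by omega
    rw [← two_mul, mul_comm, pow_mul, pow_two] at h
    have hodd : Odd (q ^ j) := hq.pow
    have hq3 : 3 ≤ q := by
      obtain ⟨m, hm⟩ := hq
      omega
    have hqj : 3 ≤ q ^ j := by
      calc 3 ≤ q := hq3
        _ = q ^ 1 := (pow_one q).symm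
        _ ≤ q ^ j := Nat.pow_le_pow_right (by omega) hj1
    obtain ⟨a, ha⟩ : ∃ a, q ^ j = a + 1 := ⟨q ^ j - 1, by omega⟩
    have ha2 : 2 ≤ a := by omega
    have h1 : a * (a + 2) = 2 ^ k := by
      rw [ha] at h
      nlinarith
    have hd1 : a ∣ 2 ^ k := Dvd.intro _ h1
    have hd2 : a + 2 ∣ 2 ^ k := Dvd.intro_left _ h1
    obtain ⟨s, _, hs⟩ := (Nat.dvd_prime_pow Nat.prime_two).mp hd1
    obtain ⟨t, _, ht⟩ := (Nat.dvd_prime_pow Nat.prime_two).mp hd2
    have hs1 : 1 ≤ s := by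
      by_contra h0
      have : s = 0 := by omega
      rw [this] at hs
      omega
    have hst : s < t := by
      have : 2 ^ s < 2 ^ t := by omega
      exact (Nat.pow_lt_pow_iff_right (by norm_num)).mp this
    -- 2^t - 2^s = 2 with 1 ≤ s < t forces s = 1
    have hs' : s = 1 := by
      by_contra hne
      have hs2 : 2 ≤ s := by omega
      have h4s : 4 ∣ 2 ^ s := by
        obtain ⟨s', rfl⟩ : ∃ s', s = 2 + s' := ⟨s - 2, by omega⟩
        rw [pow_add]
        exact Dvd.intro _ rfl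
      have h4t : 4 ∣ 2 ^ t := by
        obtain ⟨t', rfl⟩ : ∃ t', t = 2 + t' := ⟨t - 2, by omega⟩
        rw [pow_add]
        exact Dvd.intro _ rfl
      omega
    rw [hs'] at hs
    have ha' : a = 2 := by omega
    rw [ha'] at ha
    -- q ^ j = 3
    have hj' : j = 1 := by
      by_contra hne
      have hj2 : 2 ≤ j := by omega
      have : q ^ 2 ≤ q ^ j := Nat.pow_le_pow_right (by omega) hj2
      nlinarith
    rw [hj', pow_one] at ha
    exact ⟨by omega, by omega⟩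
  · left
    by_contra hn1
    have hn3 : 3 ≤ n := by
      obtain ⟨i, rfl⟩ := he
      omega
    have hd : q - 1 ∣ q ^ n - 1 := by
      have := Nat.sub_dvd_pow_sub_pow q 1 n
      rwa [one_pow] at this
    have hqn : q ^ n - 1 = 2 ^ k := by rw [h, Nat.add_sub_cancel]
    rw [hqn] at hd
    obtain ⟨s, _, hs⟩ := (Nat.dvd_prime_pow Nat.prime_two).mp hd
    have hq' : q = 2 ^ s + 1 := by omega
    have hs1 : 1 ≤ s := by
      by_contra h0
      have : s = 0 := by omega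
      rw [this] at hq'
      obtain ⟨m, hm⟩ := hq
      omega
    have hqq : q * q ≡ 1 [MOD 2 ^ (s + 1)] := by
      have h1 : q * q = 2 ^ (2 * s) + 2 ^ (s + 1) + 1 := by
        rw [hq', two_mul, pow_add, pow_succ]
        ring
      have h2 : 2 ^ (s + 1) ∣ 2 ^ (2 * s) := pow_dvd_pow 2 (by omega)
      have h3 : 2 ^ (2 * s) + 2 ^ (s + 1) ≡ 0 [MOD 2 ^ (s + 1)] :=
        (Nat.modEq_zero_iff_dvd).mpr (Dvd.dvd.add h2 (dvd_refl _))
      have h5 := h3.add_right 1
      rw [zero_add] at h5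
      rw [h1]
      exact h5
    have h6 := pow_odd_modEq q _ hqq n he
    rw [h, hq'] at h6
    -- 2^k + 1 ≡ 2^s + 1, so 2^k ≡ 2^s
    have h7 : 2 ^ k ≡ 2 ^ s [MOD 2 ^ (s + 1)] := Nat.ModEq.add_right_cancel' 1 h6
    have hsk : s < k := by
      have h8 : q ^ 1 < q ^ n := Nat.pow_lt_pow_right hq1 (by omega)
      rw [pow_one, h] at h8
      have : 2 ^ s < 2 ^ k := by omega
      exact (Nat.pow_lt_pow_iff_right (by norm_num)).mp this
    have h9 : 2 ^ k ≡ 0 [MOD 2 ^ (s + 1)] :=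
      (Nat.modEq_zero_iff_dvd).mpr (pow_dvd_pow 2 (by omega))
    have h10 : 2 ^ s ≡ 0 [MOD 2 ^ (s + 1)] := h7.symm.trans h9
    have h11 := (Nat.modEq_zero_iff_dvd).mp h10
    have h12 := Nat.le_of_dvd (by positivity) h11
    have : 2 ^ s < 2 ^ (s + 1) := Nat.pow_lt_pow_right (by norm_num) (by omega)
    omega

end Cfsg.Agent.Lib.Helper22.HalfN
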