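import Mathlib
import Cfsg.Agent.Lib.Helper22.HalfB

set_option autoImplicit false

/-!
# Half-transitive linear groups: the quasi-dihedral case
-/

namespace Cfsg.Agent.Lib.Helper22.HalfQ

open Cfsg.Agent.Lib.Helper22.HalfA Cfsg.Agent.Lib.Helper22.HalfB

variable {K : Type*} [Field K] {V : Type*} [AddCommGroup V] [Module K V]
variable {G : Type*} [Group G]

/-- structural facts about a quasi-dihedral group -/
theorem qd_structure [Finite G] (n : ℕ) (hn : 3 ≤ n) (hcard : Nat.card G = 2 ^ (n + 1)) (x y : G)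
    (hx : orderOf x = 2 ^ n) (hy : orderOf y = 2)
    (hxy : y * x * y⁻¹ = x ^ (2 ^ (n - 1) - 1)) :
    (Subgroup.zpowers x).index = 2 ∧ y ∉ Subgroup.zpowers x ∧
    (x ^ 2 ^ (n - 1)) * (x ^ 2 ^ (n - 1)) = 1 ∧ x ^ 2 ^ (n - 1) ≠ 1 ∧
    (∀ t : G, t ∉ Subgroup.zpowers x →
      (x ^ 2 ^ (n - 2)) * t * (x ^ 2 ^ (n - 2))⁻¹ = t * x ^ 2 ^ (n - 1)) ∧
    (∀ i : ℕ, (x ^ i * y) * (x ^ i * y) = (x ^ 2 ^ (n - 1)) ^ i) := by
  obtain ⟨n', rfl⟩ : ∃ n', n = n' + 3 := ⟨n - 3, by omega⟩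
  simp only [show n' + 3 - 1 = n' + 2 from rfl, show n' + 3 - 2 = n' + 1 from rfl] at hxy ⊢
  set m := 2 ^ (n' + 2) - 1 with hm
  have hm1 : m + 1 = 2 ^ (n' + 2) := by
    have : 0 < 2 ^ (n' + 2) := by positivity
    omega
  have hpow : x ^ 2 ^ (n' + 3) = 1 := by rw [← hx]; exact pow_orderOf_eq_one x
  have hy2 : y * y = 1 := by
    rw [← pow_two, ← hy]; exact pow_orderOf_eq_one y
  have hidx : (Subgroup.zpowers x).index = 2 := by
    have h1 := Subgroup.index_mul_card (Subgroup.zpowers x)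
    rw [Nat.card_zpowers, hx, hcard, pow_succ _ (n' + 3), mul_comm (2 ^ (n' + 3)) 2] at h1
    exact Nat.eq_of_mul_eq_mul_right (by positivity) h1
  have hyC : y ∉ Subgroup.zpowers x := by
    intro h
    obtain ⟨k, hk⟩ := Subgroup.mem_zpowers_iff.mp h
    have hc : y * x * y⁻¹ = x := by
      rw [← hk]
      have : Commute (x ^ k) x := (Commute.refl x).zpow_left k
      rw [this.eq, mul_inv_cancel_right]
    rw [hxy] at hc
    have h3 : x ^ m = x ^ 1 := by rw [hc, pow_one]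
    rw [pow_eq_pow_iff_modEq, hx] at h3
    have hmlt : m < 2 ^ (n' + 3) := by
      have : 2 ^ (n' + 2) < 2 ^ (n' + 3) := Nat.pow_lt_pow_right (by norm_num) (by omega)
      omega
    have h1lt : 1 < 2 ^ (n' + 3) := Nat.one_lt_two_pow (by omega)
    rw [Nat.ModEq, Nat.mod_eq_of_lt hmlt, Nat.mod_eq_of_lt h1lt] at h3
    have : 4 ≤ 2 ^ (n' + 2) := by
      calc 4 = 2 ^ 2 := by norm_num
        _ ≤ 2 ^ (n' + 2) := Nat.pow_le_pow_right (by norm_num) (by omega)
    omega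
  set z := x ^ 2 ^ (n' + 2) with hz
  set w := x ^ 2 ^ (n' + 1) with hw
  have hzz : z * z = 1 := by
    rw [hz, ← pow_add, ← two_mul, ← pow_succ']
    exact hpow
  have hz1 : z ≠ 1 := by
    intro h
    have h1 := orderOf_dvd_of_pow_eq_one h
    rw [hx] at h1
    have h2 := Nat.le_of_dvd (by positivity) h1
    have : 2 ^ (n' + 2) < 2 ^ (n' + 3) := Nat.pow_lt_pow_right (by norm_num) (by omega)
    omega
  have hww : w * w = z := by
    rw [hw, hz, ← pow_add, ← two_mul, ← pow_succ']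
  have hconj : ∀ i : ℕ, y * x ^ i * y⁻¹ = x ^ (m * i) := by
    intro i
    rw [← conj_pow, hxy, ← pow_mul]
  have hyw : y * w * y⁻¹ = w⁻¹ := by
    rw [hw, hconj]
    apply eq_inv_of_mul_eq_one_left
    rw [← pow_add]
    have : m * 2 ^ (n' + 1) + 2 ^ (n' + 1) = 2 ^ (n' + 3) * 2 ^ n' := by
      have : m * 2 ^ (n' + 1) + 2 ^ (n' + 1) = (m + 1) * 2 ^ (n' + 1) := by ring
      rw [this, hm1, ← pow_add, ← pow_add]
      congr 1
      omega
    rw [this, pow_mul, hpow, one_pow]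
  have hzinv : z⁻¹ = z := (eq_inv_of_mul_eq_one_left hzz).symm
  have hyz : y * z = z * y := by
    have h1 : y * z * y⁻¹ = z := by
      rw [← hww]
      have : y * (w * w) * y⁻¹ = (y * w * y⁻¹) * (y * w * y⁻¹) := by group
      rw [this, hyw, ← mul_inv_rev, hww, hzinv]
    calc y * z = (y * z * y⁻¹) * y := by group
      _ = z * y := by rw [h1]
  refine ⟨hidx, hyC, hzz, hz1, ?_, ?_⟩
  · intro t ht
    have hc : t * y⁻¹ ∈ Subgroup.zpowers x := by
      rw [Subgroup.mul_mem_iff_of_index_two hidx]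
      exact iff_of_false ht (fun h => hyC (by simpa using Subgroup.inv_mem _ h))
    obtain ⟨k, hk⟩ := Subgroup.mem_zpowers_iff.mp hc
    have ht' : t = x ^ k * y := by rw [hk]; group
    have hcw : Commute (x ^ k) w := by
      rw [hw]
      exact ((Commute.refl x).zpow_left k).pow_right _
    have hcz : Commute (x ^ k) z := by
      rw [hz]
      exact ((Commute.refl x).zpow_left k).pow_right _
    have h5 : y * w⁻¹ * y⁻¹ = w := by
      have : y * w⁻¹ * y⁻¹ = (y * w * y⁻¹)⁻¹ := by group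
      rw [this, hyw, inv_inv]
    calc w * t * w⁻¹ = w * (x ^ k * y) * w⁻¹ := by rw [ht']
      _ = (w * x ^ k) * (y * w⁻¹ * y⁻¹) * y := by group
      _ = (x ^ k * w) * w * y := by rw [hcw.eq, h5]
      _ = x ^ k * (w * w) * y := by group
      _ = x ^ k * z * y := by rw [hww]
      _ = x ^ k * (z * y) := by group
      _ = x ^ k * (y * z) := by rw [hyz]
      _ = (x ^ k * y) * z := by group
      _ = t * z := by rw [ht']
  · intro i
    calc (x ^ i * y) * (x ^ i * y) = x ^ i * (y * x ^ i * y⁻¹) * (y * y) := by group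
      _ = x ^ i * x ^ (m * i) := by rw [hconj, hy2, mul_one]
      _ = x ^ (2 ^ (n' + 2) * i) := by
        rw [← pow_add]
        congr 1
        rw [← hm1]
        ring
      _ = z ^ i := by rw [hz, pow_mul]


theorem qd_card_T [Finite G] (n : ℕ) (hn : 3 ≤ n) (hcard : Nat.card G = 2 ^ (n + 1)) (x y : G)
    (hx : orderOf x = 2 ^ n) (hy : orderOf y = 2)
    (hxy : y * x * y⁻¹ = x ^ (2 ^ (n - 1) - 1)) :
    Nat.card {t : G // t ∉ Subgroup.zpowers x ∧ t * t = 1} = 2 ^ (n - 1) := by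
  obtain ⟨hidx, hyC, hzz, hz1, _, hsq⟩ := qd_structure n hn hcard x y hx hy hxy
  have hn1 : 2 ^ (n - 1) * 2 = 2 ^ n := by
    rw [← pow_succ]
    congr 1
    omega
  have hoz : orderOf (x ^ 2 ^ (n - 1)) = 2 :=
    orderOf_eq_prime (by rw [pow_two]; exact hzz) hz1
  let f : Fin (2 ^ (n - 1)) → {t : G // t ∉ Subgroup.zpowers x ∧ t * t = 1} := fun j =>
    ⟨x ^ (2 * j.val) * y, by
      intro h
      exact hyC ((Subgroup.mul_mem_cancel_left _
        (Subgroup.pow_mem _ (Subgroup.mem_zpowers x) _)).mp h), by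
      rw [hsq, pow_mul, pow_two, hzz, one_pow]⟩
  have hf : Function.Bijective f := by
    constructor
    · intro j j' h
      have h1 : x ^ (2 * j.val) * y = x ^ (2 * j'.val) * y := congrArg Subtype.val h
      have h2 : x ^ (2 * j.val) = x ^ (2 * j'.val) := mul_right_cancel h1
      rw [pow_eq_pow_iff_modEq, hx] at h2
      have hj := j.2
      have hj' := j'.2
      rw [Nat.ModEq, Nat.mod_eq_of_lt (by omega), Nat.mod_eq_of_lt (by omega)] at h2
      exact Fin.ext (by omega)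
    · rintro ⟨t, ht1, ht2⟩
      have hc : t * y⁻¹ ∈ Subgroup.zpowers x := by
        rw [Subgroup.mul_mem_iff_of_index_two hidx]
        exact iff_of_false ht1 (fun h => hyC (by simpa using Subgroup.inv_mem _ h))
      have hfin : IsOfFinOrder x := isOfFinOrder_of_finite x
      rw [← mem_powers_iff_mem_zpowers, Submonoid.mem_powers_iff] at hc
      obtain ⟨i, hi⟩ := hc
      rw [← pow_mod_orderOf, hx] at hi
      set i' := i % 2 ^ n with hi'
      have hi'lt : i' < 2 ^ n := Nat.mod_lt _ (by positivity)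
      have ht : t = x ^ i' * y := by rw [hi]; group
      have h3 : (x ^ 2 ^ (n - 1)) ^ i' = 1 := by rw [← hsq, ← ht, ht2]
      have h4 : 2 ∣ i' := by
        rw [← hoz]
        exact orderOf_dvd_of_pow_eq_one h3
      obtain ⟨j, hj⟩ := h4
      refine ⟨⟨j, by omega⟩, ?_⟩
      apply Subtype.ext
      show x ^ (2 * j) * y = t
      rw [ht, hj]
  rw [← Nat.card_congr (Equiv.ofBijective f hf), Nat.card_fin]

/-- The quasi-dihedral case of the counting lemma. -/
theorem qd_count [DistribMulAction G V] [SMulCommClass G K V] [Finite G] [Finite V]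
    [FaithfulSMul G V] [Nontrivial V] (hG : IsPGroup 2 G) (h2 : (2 : K) ≠ 0)
    (hirr : ∀ W : Submodule K V, (∀ g : G, ∀ w ∈ W, g • w ∈ W) → W = ⊥ ∨ W = ⊤)
    (hns : ∀ v : V, v ≠ 0 → ∃ g : G, g ≠ 1 ∧ g • v = v)
    (n : ℕ) (hn : 3 ≤ n) (hcard : Nat.card G = 2 ^ (n + 1)) (x y : G)
    (hx : orderOf x = 2 ^ n) (hy : orderOf y = 2)
    (hxy : y * x * y⁻¹ = x ^ (2 ^ (n - 1) - 1)) :
    ∃ N : ℕ, Nat.card V = N * N ∧ N + 1 = 2 ^ (n - 1) := by
  obtain ⟨hidx, hyC, hzz, hz1, hconj, hsq⟩ := qd_structure n hn hcard x y hx hy hxy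
  obtain ⟨N, hN1, hN2⟩ := count_main (K := K) (V := V) hG h2 hirr (Subgroup.zpowers x) hidx
    (x ^ 2 ^ (n - 1)) (Subgroup.pow_mem _ (Subgroup.mem_zpowers x) _) hzz hz1
    (fun t ht _ => ⟨x ^ 2 ^ (n - 2), hconj t ht⟩) hns
  exact ⟨N, hN1, by rw [hN2, qd_card_T n hn hcard x y hx hy hxy]⟩

end Cfsg.Agent.Lib.Helper22.HalfQ
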