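import Mathlib

set_option autoImplicit false

/-!
# Imprimitivity of irreducible `p`-groups with a noncyclic normal abelian subgroup
-/

namespace Cfsg.Agent.Lib.Helper22.ImprimA

open Module

variable {K : Type*} [Field K] {V : Type*} [AddCommGroup V] [Module K V]
variable {G : Type*} [Group G]

/-- The fixed space of `r x`. -/
def Fix (r : Representation K G V) (x : G) : Submodule K V := LinearMap.ker (r x - 1)

theorem mem_Fix (r : Representation K G V) (x : G) (v : V) : v ∈ Fix r x ↔ r x v = v := by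
  unfold Fix
  rw [LinearMap.mem_ker, LinearMap.sub_apply, Module.End.one_apply, sub_eq_zero]

/-- The norm operator `∑_{k < p} r (x ^ k)`. -/
def Nm (r : Representation K G V) (p : ℕ) (x : G) : V →ₗ[K] V :=
  ∑ k ∈ Finset.range p, r (x ^ k)

theorem Nm_apply (r : Representation K G V) (p : ℕ) (x : G) (v : V) :
    Nm r p x v = ∑ k ∈ Finset.range p, r (x ^ k) v := by
  unfold Nm
  rw [LinearMap.sum_apply]

theorem Nm_mem_Fix (r : Representation K G V) (p : ℕ) (x : G) (hx : x ^ p = 1) (v : V) :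
    Nm r p x v ∈ Fix r x := by
  rw [mem_Fix, Nm_apply, map_sum]
  have h1 : ∀ k, r x (r (x ^ k) v) = r (x ^ (k + 1)) v := by
    intro k
    rw [← Module.End.mul_apply, ← map_mul, ← pow_succ']
  simp only [h1]
  have h2 := Finset.sum_range_succ' (fun k => r (x ^ k) v) p
  have h3 := Finset.sum_range_succ (fun k => r (x ^ k) v) p
  have h4 : r (x ^ p) v = r (x ^ 0) v := by rw [hx, pow_zero]
  rw [h3, h4] at h2
  exact (add_right_cancel h2).symm

theorem Nm_of_mem_Fix (r : Representation K G V) (p : ℕ) (x : G) (v : V) (hv : v ∈ Fix r x) :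
    Nm r p x v = (p : K) • v := by
  rw [mem_Fix] at hv
  have h1 : ∀ k : ℕ, r (x ^ k) v = v := by
    intro k
    induction k with
    | zero => simp
    | succ k ih => rw [pow_succ, map_mul, Module.End.mul_apply, hv, ih]
  rw [Nm_apply]
  simp only [h1]
  rw [Finset.sum_const, Finset.card_range, Nat.cast_smul_eq_nsmul]


theorem Fix_invariant_of_commute (r : Representation K G V) (x g : G) (hc : g * x = x * g)
    (v : V) (hv : v ∈ Fix r x) : r g v ∈ Fix r x := by
  rw [mem_Fix] at hv ⊢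
  rw [← Module.End.mul_apply, ← map_mul, ← hc, map_mul, Module.End.mul_apply, hv]

theorem map_Fix (r : Representation K G V) (x g : G) :
    (Fix r x).map (r g) = Fix r (g * x * g⁻¹) := by
  ext v
  rw [Submodule.mem_map, mem_Fix]
  constructor
  · rintro ⟨w, hw, rfl⟩
    rw [mem_Fix] at hw
    rw [← Module.End.mul_apply, ← map_mul, inv_mul_cancel_right, map_mul, Module.End.mul_apply, hw]
  · intro hv
    refine ⟨r g⁻¹ v, ?_, ?_⟩
    · rw [mem_Fix, ← Module.End.mul_apply, ← map_mul]
      have h1 := congrArg (r g⁻¹) hv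
      rw [← Module.End.mul_apply, ← map_mul] at h1
      rw [← h1]
      congr 2
      group
    · rw [← Module.End.mul_apply, ← map_mul, mul_inv_cancel, map_one, Module.End.one_apply]

theorem Fix_eq_bot_of_central (r : Representation K G V) (hfaith : ∀ g, r g = 1 → g = 1)
    (hirr : ∀ W : Submodule K V, (∀ g, ∀ w ∈ W, r g w ∈ W) → W = ⊥ ∨ W = ⊤)
    (d : G) (hd : d ∈ Subgroup.center G) (hd1 : d ≠ 1) : Fix r d = ⊥ := by
  rcases hirr (Fix r d) (fun g w hw =>
    Fix_invariant_of_commute r d g (Subgroup.mem_center_iff.mp hd g) w hw) with h | h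
  · exact h
  · exfalso
    apply hd1
    apply hfaith
    ext v
    have h2 : v ∈ Fix r d := h ▸ Submodule.mem_top
    rw [mem_Fix] at h2
    simpa using h2

theorem Nm_central_eq_zero (r : Representation K G V) (hfaith : ∀ g, r g = 1 → g = 1)
    (hirr : ∀ W : Submodule K V, (∀ g, ∀ w ∈ W, r g w ∈ W) → W = ⊥ ∨ W = ⊤)
    (p : ℕ) (d : G) (hd : d ∈ Subgroup.center G) (hd1 : d ≠ 1) (hdp : d ^ p = 1) (v : V) :
    Nm r p d v = 0 := by
  have h1 := Nm_mem_Fix r p d hdp v
  rw [Fix_eq_bot_of_central r hfaith hirr d hd hd1] at h1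
  exact (Submodule.mem_bot K).mp h1

theorem sum_central_eq_zero (r : Representation K G V) (hfaith : ∀ g, r g = 1 → g = 1)
    (hirr : ∀ W : Submodule K V, (∀ g, ∀ w ∈ W, r g w ∈ W) → W = ⊥ ∨ W = ⊤)
    (A1 : Subgroup G) (hA1c : A1 ≤ Subgroup.center G) (a : A1) (ha : a ≠ 1) [Fintype A1]
    (v : V) : ∑ u : A1, r (u : G) v = 0 := by
  have h1 : (∑ u : A1, r (u : G) v) ∈ Fix r (a : G) := by
    rw [mem_Fix, map_sum]
    simp_rw [← Module.End.mul_apply, ← map_mul]
    exact Fintype.sum_equiv (Equiv.mulLeft a) _ _ (fun u => by simp)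
  rw [Fix_eq_bot_of_central r hfaith hirr (a : G) (hA1c a.2)
    (fun h => ha (Subtype.ext h))] at h1
  exact (Submodule.mem_bot K).mp h1


theorem sum_Nm_eq (r : Representation K G V) (hfaith : ∀ g, r g = 1 → g = 1)
    (hirr : ∀ W : Submodule K V, (∀ g, ∀ w ∈ W, r g w ∈ W) → W = ⊥ ∨ W = ⊤)
    (p : ℕ) [hp : Fact p.Prime]
    (A1 : Subgroup G) (hA1 : Nat.card A1 = p) (hA1c : A1 ≤ Subgroup.center G) [Fintype A1]
    (b : G) (v : V) : ∑ u : A1, Nm r p ((u : G) * b) v = (p : K) • v := by
  have hcen : ∀ u : A1, ∀ g : G, g * (u : G) = (u : G) * g :=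
    fun u g => Subgroup.mem_center_iff.mp (hA1c u.2) g
  have : Nontrivial A1 := by
    rw [← Finite.one_lt_card_iff_nontrivial, hA1]
    exact hp.out.one_lt
  obtain ⟨a, ha⟩ := exists_ne (1 : A1)
  have h1 : ∀ u : A1, Nm r p ((u : G) * b) v
      = ∑ k ∈ Finset.range p, r (((u ^ k : A1) : G)) (r (b ^ k) v) := by
    intro u
    rw [Nm_apply]
    refine Finset.sum_congr rfl (fun k _ => ?_)
    have hc : Commute (u : G) b := (hcen u b).symm
    rw [hc.mul_pow, map_mul, Module.End.mul_apply, Subgroup.coe_pow]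
  simp_rw [h1]
  rw [Finset.sum_comm]
  rw [Finset.sum_eq_single 0]
  · simp only [pow_zero, Subgroup.coe_one, map_one, Module.End.one_apply, Finset.sum_const,
      Finset.card_univ]
    rw [← Nat.card_eq_fintype_card, hA1, Nat.cast_smul_eq_nsmul]
  · intro k hk hk0
    have hcop : (Nat.card A1).Coprime k := by
      rw [hA1]
      rw [Nat.Prime.coprime_iff_not_dvd hp.out]
      intro hdvd
      have := Nat.le_of_dvd (Nat.pos_of_ne_zero hk0) hdvd
      have := Finset.mem_range.mp hk
      omega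
    have h2 : ∑ u : A1, r (((u ^ k : A1) : G)) (r (b ^ k) v)
        = ∑ u : A1, r ((u : G)) (r (b ^ k) v) :=
      Fintype.sum_equiv (powCoprime hcop) _ _ (fun u => by simp)
    rw [h2]
    exact sum_central_eq_zero r hfaith hirr A1 hA1c a ha _
  · intro h0
    exfalso
    exact h0 (Finset.mem_range.mpr hp.out.pos)


theorem imprim [Finite G] (r : Representation K G V) [Nontrivial V] (p : ℕ) [hp : Fact p.Prime]
    (hpK : (p : K) ≠ 0)
    (hfaith : ∀ g, r g = 1 → g = 1)
    (hirr : ∀ W : Submodule K V, (∀ g, ∀ w ∈ W, r g w ∈ W) → W = ⊥ ∨ W = ⊤)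
    (A1 : Subgroup G) (hA1 : Nat.card A1 = p) (hA1c : A1 ≤ Subgroup.center G)
    (b : G) (hb : b ^ p = 1) (hbA : b ∉ A1) (hcomm : ∀ g, g * b * g⁻¹ * b⁻¹ ∈ A1) :
    ∃ (H : Subgroup G) (c : G → A1) (W : A1 → Submodule K V), H.index = p ∧ iSup W = ⊤ ∧
      iSupIndep W ∧ (∀ h ∈ H, ∀ u, ∀ w ∈ W u, r h w ∈ W u) ∧
      (∀ u, ∃ h ∈ H, h ≠ 1 ∧ ∀ w ∈ W u, r h w = w) ∧ (∀ g, g ∉ H → c g ≠ 1) ∧
      ∀ g u, (W u).map (r g) = W (c g * u) := by
  classical
  have : Fintype A1 := Fintype.ofFinite _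
  have hcen : ∀ u : A1, ∀ g : G, g * (u : G) = (u : G) * g :=
    fun u g => Subgroup.mem_center_iff.mp (hA1c u.2) g
  have hup : ∀ u : A1, (u : G) ^ p = 1 := by
    intro u
    have h1 : u ^ Nat.card A1 = 1 := pow_card_eq_one'
    rw [hA1] at h1
    have h2 := congrArg Subtype.val h1
    simpa using h2
  have hubp : ∀ u : A1, ((u : G) * b) ^ p = 1 := by
    intro u
    have hc : Commute (u : G) b := (hcen u b).symm
    rw [hc.mul_pow, hup, hb, one_mul]
  have hub1 : ∀ u : A1, (u : G) * b ≠ 1 := by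
    intro u h
    apply hbA
    have : b = ((u⁻¹ : A1) : G) := by
      rw [Subgroup.coe_inv]
      exact eq_inv_of_mul_eq_one_right h
    rw [this]
    exact (u⁻¹).2
  -- the spaces
  set W : A1 → Submodule K V := fun u => Fix r ((u : G) * b) with hW
  have hsup : iSup W = ⊤ := by
    rw [eq_top_iff]
    intro v _
    have h1 : (p : K) • v ∈ iSup W := by
      rw [← sum_Nm_eq r hfaith hirr p A1 hA1 hA1c b v]
      exact Submodule.sum_mem _ (fun u _ =>
        Submodule.mem_iSup_of_mem u (Nm_mem_Fix r p _ (hubp u) v))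
    have h2 := Submodule.smul_mem _ ((p : K)⁻¹) h1
    rwa [smul_smul, inv_mul_cancel₀ hpK, one_smul] at h2
  -- the hom
  set c : G → A1 := fun g => ⟨g * b * g⁻¹ * b⁻¹, hcomm g⟩ with hc
  have hcval : ∀ g, ((c g : A1) : G) = g * b * g⁻¹ * b⁻¹ := fun g => rfl
  have hconj : ∀ g, g * b * g⁻¹ = (c g : G) * b := by
    intro g
    rw [hcval]
    group
  have hcmul : ∀ g h, c (g * h) = c g * c h := by
    intro g h
    apply Subtype.ext
    rw [Subgroup.coe_mul, hcval (g * h)]
    have h1 : g * h * b * (g * h)⁻¹ * b⁻¹ = g * (h * b * h⁻¹) * g⁻¹ * b⁻¹ := by group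
    rw [h1, hconj h]
    calc g * ((c h : G) * b) * g⁻¹ * b⁻¹ = (g * (c h : G)) * b * g⁻¹ * b⁻¹ := by group
      _ = ((c h : G) * g) * b * g⁻¹ * b⁻¹ := by rw [hcen (c h) g]
      _ = (c h : G) * (g * b * g⁻¹ * b⁻¹) := by group
      _ = (g * b * g⁻¹ * b⁻¹) * (c h : G) := (hcen (c h) _).symm
      _ = (c g : G) * (c h : G) := by rw [hcval g]
  let cH : G →* A1 := MonoidHom.mk' c hcmul
  have hcH : ∀ g, cH g = c g := fun g => rfl
  have hker : ∀ g, g ∈ cH.ker ↔ g * b = b * g := by
    intro g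
    rw [MonoidHom.mem_ker, hcH, ← Subtype.coe_inj, hcval, Subgroup.coe_one]
    constructor
    · intro h
      have : g * b * g⁻¹ * b⁻¹ * (b * g) = b * g := by rw [h, one_mul]
      rw [← this]; group
    · intro h
      rw [h]; group
  have hconjub : ∀ (g : G) (u : A1), g * ((u : G) * b) * g⁻¹ = ((c g * u : A1) : G) * b := by
    intro g u
    rw [Subgroup.coe_mul]
    calc g * ((u : G) * b) * g⁻¹ = (g * (u : G)) * b * g⁻¹ := by group
      _ = ((u : G) * g) * b * g⁻¹ := by rw [hcen u g]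
      _ = (u : G) * (g * b * g⁻¹) := by group
      _ = (u : G) * ((c g : G) * b) := by rw [hconj]
      _ = ((u : G) * (c g : G)) * b := by group
      _ = ((c g : G) * (u : G)) * b := by rw [← hcen u (c g : G)]
  refine ⟨cH.ker, c, W, ?_, hsup, ?_, ?_, ?_, ?_, ?_⟩
  · -- index
    rw [Subgroup.index_ker]
    have h1 : Nat.card cH.range ∣ p := by
      rw [← hA1]
      exact Subgroup.card_subgroup_dvd_card _
    rcases (Nat.dvd_prime hp.out).mp h1 with h2 | h2
    · exfalso
      rw [Subgroup.card_eq_one] at h2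
      have h3 : ∀ g, c g = 1 := by
        intro g
        have : cH g ∈ cH.range := ⟨g, rfl⟩
        rw [h2, Subgroup.mem_bot] at this
        exact this
      have hbc : b ∈ Subgroup.center G := by
        rw [Subgroup.mem_center_iff]
        intro g
        exact (hker g).mp (MonoidHom.mem_ker.mpr (h3 g))
      have h4 : ∀ u : A1, W u = ⊥ := by
        intro u
        exact Fix_eq_bot_of_central r hfaith hirr _
          (Subgroup.mul_mem _ (hA1c u.2) hbc) (hub1 u)
      have h5 : iSup W = ⊥ := by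
        rw [iSup_eq_bot]
        exact h4
      rw [hsup] at h5
      exact top_ne_bot h5
    · exact h2
  · -- independence
    rw [iSupIndep_def]
    intro u
    rw [Submodule.disjoint_def]
    intro x hx1 hx2
    have h1 : (⨆ (t : A1) (_ : t ≠ u), W t) ≤ LinearMap.ker (Nm r p ((u : G) * b)) := by
      refine iSup₂_le (fun t htu => ?_)
      intro y hy
      rw [LinearMap.mem_ker]
      -- Nm(ub) y = Nm(u t⁻¹) y = 0
      have hy' : r ((t : G) * b) y = y := (mem_Fix r _ y).mp hy
      have hpow : ∀ k : ℕ, r (((t : G) * b) ^ k) y = y := by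
        intro k
        induction k with
        | zero => simp
        | succ k ih => rw [pow_succ, map_mul, Module.End.mul_apply, hy', ih]
      have hd : ((u * t⁻¹ : A1) : G) ≠ 1 := by
        intro h
        apply htu
        have : u * t⁻¹ = 1 := Subtype.ext h
        exact (mul_inv_eq_one.mp this).symm
      have h2 : Nm r p ((u : G) * b) y = Nm r p ((u * t⁻¹ : A1) : G) y := by
        rw [Nm_apply, Nm_apply]
        refine Finset.sum_congr rfl (fun k _ => ?_)
        have h3 : (u : G) * b = ((u * t⁻¹ : A1) : G) * ((t : G) * b) := by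
          rw [Subgroup.coe_mul, Subgroup.coe_inv]; group
        have hc : Commute (((u * t⁻¹ : A1) : G)) ((t : G) * b) := (hcen (u * t⁻¹) _).symm
        rw [h3, hc.mul_pow, map_mul, Module.End.mul_apply, hpow]
      rw [h2]
      exact Nm_central_eq_zero r hfaith hirr p _ (hA1c (u * t⁻¹).2) hd (hup _) y
    have h2 := h1 hx2
    rw [LinearMap.mem_ker, Nm_of_mem_Fix r p _ x hx1] at h2
    exact (smul_eq_zero.mp h2).resolve_left hpK
  · -- invariance
    intro h hh u w hw
    refine Fix_invariant_of_commute r _ h ?_ w hw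
    have h1 := (hker h).mp hh
    rw [← mul_assoc, hcen u h, mul_assoc, h1, mul_assoc]
  · -- unfaithful
    intro u
    refine ⟨(u : G) * b, ?_, hub1 u, fun w hw => (mem_Fix r _ w).mp hw⟩
    rw [hker]
    rw [mul_assoc, ← mul_assoc b, hcen u b, mul_assoc]
  · -- c g ≠ 1
    intro g hg h
    exact hg (MonoidHom.mem_ker.mpr h)
  · -- map
    intro g u
    rw [hW]
    simp only
    rw [map_Fix, hconjub]

end Cfsg.Agent.Lib.Helper22.ImprimA
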