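import Mathlib
import Cfsg.Agent.Lib.Helper9.CycNorm3
import Cfsg.Agent.Lib.Helper24.NormalRank
import Cfsg.Agent.Lib.Helper1.TwoGroupUnique
import Cfsg.Agent.Lib.Helper29.OddCyclic
import Cfsg.Agent.Lib.Helper24.POrderFourClass
import Cfsg.Agent.Lib.Helper1.Nilp
import Cfsg.Agent.Lib.Helper10.SubgroupBasic

set_option autoImplicit false

/-!
# Group-theoretic input for imprimitivity of irreducible `p`-groups
-/

namespace Cfsg.Agent.Lib.Helper22.ImprimB

variable {G : Type*} [Group G]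

theorem exists_abelian_noncyclic [Finite G] (p : ℕ) [hp : Fact p.Prime] (hG : IsPGroup p G)
    (hnc : ¬ IsCyclic G) (hnq : ∀ n : ℕ, ¬ Nonempty (G ≃* QuaternionGroup n)) :
    ∃ B : Subgroup G, IsMulCommutative B ∧ ¬ IsCyclic B := by
  -- two distinct subgroups of order p
  have h1 : ∃ H K : Subgroup G, Nat.card H = p ∧ Nat.card K = p ∧ H ≠ K := by
    by_contra hcon
    push Not at hcon
    by_cases hp2 : p = 2
    · subst hp2
      rcases Cfsg.Agent.Lib.Helper1.cyclic_or_quaternion_of_unique hG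
        (fun H K hH hK => hcon H K hH hK) with h | ⟨n, hn⟩
      · exact hnc h
      · exact hnq _ hn
    · exact hnc (Cfsg.Agent.Lib.Helper29.isCyclic_of_unique_subgroup_odd p hp2 hG
        (fun H K hH hK => hcon H K hH hK))
  obtain ⟨H, K, hH, hK, hHK⟩ := h1
  -- a central element of order p
  have hnt : Nontrivial G := by
    by_contra h
    rw [not_nontrivial_iff_subsingleton] at h
    exact hnc isCyclic_of_subsingleton
  have hcn : Nontrivial (Subgroup.center G) := hG.center_nontrivial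
  have hdvd : p ∣ Nat.card (Subgroup.center G) := by
    rcases (hG.to_subgroup (Subgroup.center G)).card_eq_or_dvd with h | h
    · exfalso
      have := Finite.one_lt_card_iff_nontrivial.mpr hcn
      omega
    · exact h
  obtain ⟨z, hz⟩ := exists_prime_orderOf_dvd_card' p hdvd
  have hzG : orderOf (z : G) = p := by rw [Subgroup.orderOf_coe, hz]
  have hZcard : Nat.card (Subgroup.zpowers (z : G)) = p := by rw [Nat.card_zpowers, hzG]
  -- a subgroup of order p different from Z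
  obtain ⟨L, hL, hLZ⟩ : ∃ L : Subgroup G, Nat.card L = p ∧ L ≠ Subgroup.zpowers (z : G) := by
    by_cases h : H = Subgroup.zpowers (z : G)
    · exact ⟨K, hK, fun h' => hHK (h.trans h'.symm)⟩
    · exact ⟨H, hH, h⟩
  refine ⟨Subgroup.zpowers (z : G) ⊔ L, ?_, ?_⟩
  · rw [Cfsg.Agent.Lib.Helper1.isMulCommutative_subgroup_iff]
    have hLc : IsCyclic L := isCyclic_of_prime_card hL
    have hLcomm : ∀ a ∈ L, ∀ b ∈ L, a * b = b * a := by
      intro a ha b hb
      have : IsMulCommutative L := inferInstance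
      exact (Cfsg.Agent.Lib.Helper1.isMulCommutative_subgroup_iff L).mp this a ha b hb
    have hZc : Subgroup.zpowers (z : G) ≤ Subgroup.center G := by
      rw [Subgroup.zpowers_le]; exact z.2
    have hnorm : L ≤ Subgroup.normalizer (Subgroup.zpowers (z : G) : Set G) :=
      Cfsg.Agent.Lib.Helper10.le_normalizer_of_commute _ _
        (fun a ha b _ => (Subgroup.mem_center_iff.mp (hZc ha) b).symm)
    intro a ha b hb
    obtain ⟨x1, hx1, y1, hy1, rfl⟩ := Cfsg.Agent.Lib.Helper10.exists_mul_of_mem_sup _ _ hnorm a ha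
    obtain ⟨x2, hx2, y2, hy2, rfl⟩ := Cfsg.Agent.Lib.Helper10.exists_mul_of_mem_sup _ _ hnorm b hb
    have c1 := Subgroup.mem_center_iff.mp (hZc hx1)
    have c2 := Subgroup.mem_center_iff.mp (hZc hx2)
    calc x1 * y1 * (x2 * y2) = x1 * (y1 * x2) * y2 := by group
      _ = x1 * (x2 * y1) * y2 := by rw [c2 y1]
      _ = (x1 * x2) * (y1 * y2) := by group
      _ = (x1 * x2) * (y2 * y1) := by rw [hLcomm y1 hy1 y2 hy2]
      _ = (x2 * x1) * y2 * y1 := by rw [c2 x1]; group
      _ = x2 * (x1 * y2) * y1 := by group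
      _ = x2 * (y2 * x1) * y1 := by rw [← c1 y2]
      _ = x2 * y2 * (x1 * y1) := by group
  · intro hcyc
    apply hLZ
    set B := Subgroup.zpowers (z : G) ⊔ L with hB
    have hle1 : Subgroup.zpowers (z : G) ≤ B := le_sup_left
    have hle2 : L ≤ B := le_sup_right
    have hcard1 : Nat.card ((Subgroup.zpowers (z : G)).subgroupOf B) = p := by
      rw [Nat.card_congr (Subgroup.subgroupOfEquivOfLe hle1).toEquiv, hZcard]
    have hcard2 : Nat.card (L.subgroupOf B) = p := by
      rw [Nat.card_congr (Subgroup.subgroupOfEquivOfLe hle2).toEquiv, hL]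
    have heq := Cfsg.Agent.Lib.Helper10.eq_of_card_eq_of_isCyclic
      ((Subgroup.zpowers (z : G)).subgroupOf B) (L.subgroupOf B) (hcard1.trans hcard2.symm)
    rw [Subgroup.subgroupOf_inj, inf_of_le_left hle1, inf_of_le_left hle2] at heq
    exact heq.symm


theorem exists_A1_b [Finite G] (p : ℕ) [hp : Fact p.Prime] (hG : IsPGroup p G)
    (hnc : ¬ IsCyclic G) (hnq : ∀ n : ℕ, ¬ Nonempty (G ≃* QuaternionGroup n))
    (hnd : ∀ n : ℕ, ¬ Nonempty (G ≃* DihedralGroup n)) (hnsd : ¬ Cfsg.IsQuasiDihedral G) :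
    ∃ (A1 : Subgroup G) (b : G), Nat.card A1 = p ∧ A1 ≤ Subgroup.center G ∧ b ^ p = 1 ∧
      b ∉ A1 ∧ ∀ g : G, g * b * g⁻¹ * b⁻¹ ∈ A1 := by
  have hm := exists_abelian_noncyclic p hG hnc hnq
  have h2 : ∃ A : Subgroup G, A.Normal ∧ IsMulCommutative A ∧ ¬ IsCyclic A := by
    by_contra hcon
    push Not at hcon
    obtain ⟨_, h | h | h⟩ := Cfsg.Agent.Lib.Helper9.cn_main p hG
      (fun A hA hAc => hcon A hA hAc) hm
    · obtain ⟨n, hn⟩ := h
      exact hnq n hn
    · obtain ⟨n, _, hn⟩ := h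
      exact hnd n hn
    · exact hnsd h
  obtain ⟨A, hAn, hAc, hAnc⟩ := h2
  obtain ⟨E, hEn, hEea, hEcard⟩ := Cfsg.Agent.Lib.Helper24.nr_case_noncyclic hG A hAc hAnc
  obtain ⟨A1, hA1E, hA1n, hA1card⟩ := Cfsg.Agent.Lib.Helper24.nr_exists_normal_card hG 1 1 E hEcard
  rw [pow_one] at hA1card
  have hA1c : A1 ≤ Subgroup.center G :=
    Cfsg.Agent.Lib.Helper24.pf_le_center_of_card_prime hG A1 hA1card
  -- the quotient
  have hnil : Group.IsNilpotent (G ⧸ A1) := (hG.to_quotient A1).isNilpotent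
  have hEbar : (E.map (QuotientGroup.mk' A1)) ≠ ⊥ := by
    intro h
    rw [Subgroup.map_eq_bot_iff, QuotientGroup.ker_mk'] at h
    have h1 := Subgroup.card_le_of_le h
    rw [hEcard, hA1card] at h1
    have := hp.out.one_lt
    nlinarith
  have hEbarn : (E.map (QuotientGroup.mk' A1)).Normal :=
    Subgroup.Normal.map hEn _ (QuotientGroup.mk'_surjective A1)
  have h3 := Cfsg.Agent.Lib.Helper1.normal_inf_center_ne_bot (E.map (QuotientGroup.mk' A1)) hEbar
  obtain ⟨⟨x, hx⟩, hx1⟩ := (Subgroup.ne_bot_iff_exists_ne_one (H := _)).mp h3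
  have hx1' : x ≠ 1 := fun h => hx1 (Subtype.ext h)
  obtain ⟨hxE, hxc⟩ := Subgroup.mem_inf.mp hx
  obtain ⟨b, hbE, rfl⟩ := Subgroup.mem_map.mp hxE
  refine ⟨A1, b, hA1card, hA1c, hEea.2 b hbE, ?_, ?_⟩
  · intro hb
    apply hx1'
    exact (QuotientGroup.eq_one_iff b).mpr hb
  · intro g
    rw [← QuotientGroup.eq_one_iff]
    have h4 := Subgroup.mem_center_iff.mp hxc (QuotientGroup.mk' A1 g)
    simp only [QuotientGroup.mk'_apply] at h4 ⊢
    rw [QuotientGroup.mk_mul, QuotientGroup.mk_mul, QuotientGroup.mk_mul, QuotientGroup.mk_inv,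
      QuotientGroup.mk_inv, h4]
    group

end Cfsg.Agent.Lib.Helper22.ImprimB
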