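import Mathlib
import Cfsg.Agent.Lib.Helper22.HalfC
import Cfsg.Agent.Lib.Helper22.HalfQ
import Cfsg.Agent.Lib.Helper22.HalfE
import Cfsg.Agent.Lib.Helper22.HalfN
import Cfsg.Agent.Lib.Helper22.ImprimA
import Cfsg.Agent.Lib.Helper22.ImprimB

set_option autoImplicit false

/-!
# Half-transitive linear groups: assembling the cases
-/

namespace Cfsg.Agent.Lib.Helper22.HalfF

open Cfsg.Agent.Lib.Helper22.HalfA Cfsg.Agent.Lib.Helper22.HalfB Cfsg.Agent.Lib.Helper22.HalfC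
  Cfsg.Agent.Lib.Helper22.HalfQ Cfsg.Agent.Lib.Helper22.HalfD Cfsg.Agent.Lib.Helper22.HalfE
  Cfsg.Agent.Lib.Helper22.HalfN

theorem card_eq_pow_finrank' (q : ℕ) [Fact q.Prime] (V : Type*) [AddCommGroup V]
    [Module (ZMod q) V] [Finite V] : Nat.card V = q ^ Module.finrank (ZMod q) V := by
  rw [Module.natCard_eq_pow_finrank (K := ZMod q) (V := V), Nat.card_zmod]

/-- from the counting lemma to `#V = q²`, `q = 2^k - 1` -/
theorem sq_count_to_q (q : ℕ) [hq : Fact q.Prime] (hq2 : q ≠ 2) {V : Type*} [AddCommGroup V]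
    [Module (ZMod q) V] [Finite V] (N k : ℕ) (hk : 2 ≤ k) (h1 : Nat.card V = N * N)
    (h2 : N + 1 = 2 ^ k) : Nat.card V = q ^ 2 ∧ q = 2 ^ k - 1 := by
  have hcard := card_eq_pow_finrank' q V
  have hN : N ∣ q ^ Module.finrank (ZMod q) V := by
    rw [← hcard, h1]
    exact Dvd.intro _ rfl
  obtain ⟨e, _, he⟩ := (Nat.dvd_prime_pow hq.out).mp hN
  have hodd : Odd q := hq.out.odd_of_ne_two hq2
  have he1 : e = 1 := pow_add_one_eq_two_pow q e k hodd hq.out.one_lt hk (by rw [← he, h2])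
  rw [he1, pow_one] at he
  rw [he] at h1 h2
  refine ⟨by rw [h1, pow_two], by omega⟩


theorem two_ne_zero_of_ne_two (q : ℕ) [hq : Fact q.Prime] (hq2 : q ≠ 2) : (2 : ZMod q) ≠ 0 := by
  intro h
  have h1 : ((2 : ℕ) : ZMod q) = 0 := by exact_mod_cast h
  rw [ZMod.natCast_eq_zero_iff] at h1
  exact hq2 ((Nat.prime_dvd_prime_iff_eq hq.out Nat.prime_two).mp h1)

section

variable (q : ℕ) [hq : Fact q.Prime] {V : Type*} [AddCommGroup V] [Module (ZMod q) V]
variable {G : Type*} [Group G] [DistribMulAction G V] [SMulCommClass G (ZMod q) V]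
  [FaithfulSMul G V]

theorem unique_invol_of_comm
    (hirr : ∀ W : Submodule (ZMod q) V, (∀ g : G, ∀ w ∈ W, g • w ∈ W) → W = ⊥ ∨ W = ⊤)
    (hcomm : ∀ a b : G, a * b = b * a) :
    ∀ t u : G, t * t = 1 → t ≠ 1 → u * u = 1 → u ≠ 1 → t = u := by
  intro t u ht2 ht1 hu2 hu1
  apply FaithfulSMul.eq_of_smul_eq_smul (α := V)
  intro v
  rw [central_invol_smul (K := ZMod q) hirr t
      (Subgroup.mem_center_iff.mpr (fun g => hcomm g t)) ht2 ht1,
    central_invol_smul (K := ZMod q) hirr u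
      (Subgroup.mem_center_iff.mpr (fun g => hcomm g u)) hu2 hu1]

/-- the dihedral case -/
theorem dihedral_case [Finite V] [Nontrivial V] [Finite G] (hq2 : q ≠ 2) (hG : IsPGroup 2 G)
    (hirr : ∀ W : Submodule (ZMod q) V, (∀ g : G, ∀ w ∈ W, g • w ∈ W) → W = ⊥ ∨ W = ⊤)
    (hns : ∀ v : V, v ≠ 0 → ∃ g : G, g ≠ 1 ∧ g • v = v)
    (hnu : ¬ ∀ t u : G, t * t = 1 → t ≠ 1 → u * u = 1 → u ≠ 1 → t = u)
    (n : ℕ) (φ : G ≃* DihedralGroup n) :
    Nat.card V = q ^ 2 ∧ ∃ m : ℕ, q = 2 ^ m - 1 ∧ Nonempty (G ≃* DihedralGroup (2 ^ m)) := by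
  have hn0 : n ≠ 0 := by
    rintro rfl
    have h1 : Infinite (DihedralGroup 0) := inferInstance
    have h2 : Finite (DihedralGroup 0) := Finite.of_equiv G φ.toEquiv
    exact not_finite (DihedralGroup 0)
  have : NeZero n := ⟨hn0⟩
  have hcard : Nat.card G = 2 * n := by rw [Nat.card_congr φ.toEquiv, DihedralGroup.nat_card]
  obtain ⟨a, ha⟩ := IsPGroup.iff_card.mp hG
  have ha1 : a ≠ 0 := by
    rintro rfl
    rw [pow_zero] at ha
    omega
  obtain ⟨k, rfl⟩ := Nat.exists_eq_succ_of_ne_zero ha1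
  have hn : n = 2 ^ k := by
    rw [ha, pow_succ] at hcard
    omega
  have hk : 2 ≤ k := by
    by_contra hk
    apply hnu
    apply unique_invol_of_comm q hirr
    have hc : ∀ x y : DihedralGroup n, x * y = y * x := by
      have h12 : n = 1 ∨ n = 2 := by
        have : k = 0 ∨ k = 1 := by omega
        rcases this with rfl | rfl
        · left; rw [hn]; rfl
        · right; rw [hn]; rfl
      rcases h12 with h | h
      · subst h; decide
      · subst h; decide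
    intro x y
    apply φ.injective
    rw [map_mul, map_mul, hc]
  let _ : DistribMulAction (DihedralGroup n) V := DistribMulAction.compHom V φ.symm.toMonoidHom
  have hsm : ∀ (d : DihedralGroup n) (v : V), d • v = φ.symm d • v := fun _ _ => rfl
  have : SMulCommClass (DihedralGroup n) (ZMod q) V :=
    ⟨fun d c v => by rw [hsm, hsm, smul_comm]⟩
  have : FaithfulSMul (DihedralGroup n) V := ⟨fun {d d'} h => by
    apply φ.symm.injective
    apply FaithfulSMul.eq_of_smul_eq_smul (α := V)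
    intro v
    exact h v⟩
  have hG' : IsPGroup 2 (DihedralGroup n) := hG.of_equiv φ
  have h2 : (2 : ZMod q) ≠ 0 := two_ne_zero_of_ne_two q hq2
  have hirr' : ∀ W : Submodule (ZMod q) V,
      (∀ d : DihedralGroup n, ∀ w ∈ W, d • w ∈ W) → W = ⊥ ∨ W = ⊤ := by
    intro W hW
    apply hirr W
    intro g w hw
    have h3 := hW (φ g) w hw
    rw [hsm, φ.symm_apply_apply] at h3
    exact h3
  have hns' : ∀ v : V, v ≠ 0 → ∃ d : DihedralGroup n, d ≠ 1 ∧ d • v = v := by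
    intro v hv
    obtain ⟨g, hg1, hgv⟩ := hns v hv
    refine ⟨φ g, ?_, ?_⟩
    · intro h
      apply hg1
      apply φ.injective
      rw [h, map_one]
    · rw [hsm, φ.symm_apply_apply]
      exact hgv
  have h4 : 4 ∣ n := by
    rw [hn]
    exact pow_dvd_pow 2 hk
  obtain ⟨N, hN1, hN2⟩ := dihedral_count (K := ZMod q) (V := V) n hG' h2 hirr' hns' h4
  obtain ⟨hV, hqk⟩ := sq_count_to_q q hq2 N k hk hN1 (hN2.trans hn)
  exact ⟨hV, k, hqk, ⟨hn ▸ φ⟩⟩

/-- the quasi-dihedral case -/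
theorem qd_case [Finite V] [Nontrivial V] [Finite G] (hq2 : q ≠ 2) (hG : IsPGroup 2 G)
    (hirr : ∀ W : Submodule (ZMod q) V, (∀ g : G, ∀ w ∈ W, g • w ∈ W) → W = ⊥ ∨ W = ⊤)
    (hns : ∀ v : V, v ≠ 0 → ∃ g : G, g ≠ 1 ∧ g • v = v)
    (n : ℕ) (hn : 3 ≤ n) (hcard : Nat.card G = 2 ^ (n + 1)) (x y : G)
    (hx : orderOf x = 2 ^ n) (hy : orderOf y = 2)
    (hxy : y * x * y⁻¹ = x ^ (2 ^ (n - 1) - 1)) :
    Nat.card V = q ^ 2 ∧ ∃ m : ℕ, q = 2 ^ m - 1 ∧ Nat.card G = 2 ^ (m + 2) := by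
  have h2 : (2 : ZMod q) ≠ 0 := two_ne_zero_of_ne_two q hq2
  obtain ⟨N, hN1, hN2⟩ := qd_count (K := ZMod q) (V := V) hG h2 hirr hns n hn hcard x y hx hy hxy
  obtain ⟨hV, hqk⟩ := sq_count_to_q q hq2 N (n - 1) (by omega) hN1 hN2
  refine ⟨hV, n - 1, hqk, ?_⟩
  rw [hcard]
  congr 1
  omega

/-- extraction of the block structure from the imprimitivity theorem -/
theorem exists_blocks [Nontrivial V] [Finite G] (hq2 : q ≠ 2) (hG : IsPGroup 2 G)
    (hirr : ∀ W : Submodule (ZMod q) V, (∀ g : G, ∀ w ∈ W, g • w ∈ W) → W = ⊥ ∨ W = ⊤)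
    (hnc : ¬ IsCyclic G) (hnq : ∀ n : ℕ, ¬ Nonempty (G ≃* QuaternionGroup n))
    (hnd : ∀ n : ℕ, ¬ Nonempty (G ≃* DihedralGroup n)) (hnsd : ¬ Cfsg.IsQuasiDihedral G) :
    ∃ (H : Subgroup G) (W0 W1 : Submodule (ZMod q) V) (h0 : G), H.index = 2 ∧ IsCompl W0 W1 ∧
      (∀ h ∈ H, ∀ w ∈ W0, h • w ∈ W0) ∧ (∀ h ∈ H, ∀ w ∈ W1, h • w ∈ W1) ∧
      (∀ g : G, g ∉ H → ∀ w ∈ W0, g • w ∈ W1) ∧ (∀ g : G, g ∉ H → ∀ w ∈ W1, g • w ∈ W0) ∧
      h0 ∈ H ∧ h0 ≠ 1 ∧ (∀ w ∈ W0, h0 • w = w) ∧ W0 ≠ ⊥ := by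
  have : Fact (Nat.Prime 2) := ⟨Nat.prime_two⟩
  let r : Representation (ZMod q) G V := Representation.ofDistribMulAction (ZMod q) G V
  have hr : ∀ g v, r g v = g • v := fun _ _ => rfl
  have hfaith : ∀ g, r g = 1 → g = 1 := by
    intro g hg
    apply FaithfulSMul.eq_of_smul_eq_smul (α := V)
    intro v
    rw [one_smul, ← hr, hg, Module.End.one_apply]
  have hirr' : ∀ W : Submodule (ZMod q) V, (∀ g, ∀ w ∈ W, r g w ∈ W) → W = ⊥ ∨ W = ⊤ :=
    fun W hW => hirr W hW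
  have hpK : ((2 : ℕ) : ZMod q) ≠ 0 := by
    have := two_ne_zero_of_ne_two q hq2
    exact_mod_cast this
  obtain ⟨A1, b, hA1, hA1c, hb, hbA, hcomm⟩ :=
    Cfsg.Agent.Lib.Helper22.ImprimB.exists_A1_b 2 hG hnc hnq hnd hnsd
  obtain ⟨H, c, W, hidx, hsup, hind, hinv, hunf, hcne, hmap⟩ :=
    Cfsg.Agent.Lib.Helper22.ImprimA.imprim r 2 hpK hfaith hirr' A1 hA1 hA1c b hb hbA hcomm
  -- the two elements of A1
  have hfin : Finite A1 := Nat.finite_of_card_ne_zero (by omega)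
  have hnt : Nontrivial A1 := by
    rw [← Finite.one_lt_card_iff_nontrivial, hA1]
    norm_num
  obtain ⟨a, ha⟩ := exists_ne (1 : A1)
  have hall : ∀ u : A1, u = 1 ∨ u = a := by
    intro u
    by_contra hcon
    push Not at hcon
    have h3 : 3 ≤ Nat.card A1 := by
      classical
      have : Fintype A1 := Fintype.ofFinite _
      rw [Nat.card_eq_fintype_card]
      have hsub : ({1, a, u} : Finset A1) ⊆ Finset.univ := Finset.subset_univ _
      have hc3 : ({1, a, u} : Finset A1).card = 3 := by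
        rw [Finset.card_insert_of_notMem, Finset.card_insert_of_notMem, Finset.card_singleton]
        · simp only [Finset.mem_singleton]
          exact fun h => hcon.2 h.symm
        · simp only [Finset.mem_insert, Finset.mem_singleton, not_or]
          exact ⟨fun h => ha h.symm, fun h => hcon.1 h.symm⟩
      calc 3 = ({1, a, u} : Finset A1).card := hc3.symm
        _ ≤ Finset.univ.card := Finset.card_le_card hsub
        _ = Fintype.card A1 := Finset.card_univ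
    omega
  have haa : a * a = 1 := by
    rcases hall (a * a) with h | h
    · exact h
    · exfalso
      exact ha (mul_left_cancel (h.trans (mul_one a).symm))
  refine ⟨H, W 1, W a, ?_⟩
  obtain ⟨h0, hh0, hh01, hh0W⟩ := hunf 1
  have hcg : ∀ g : G, g ∉ H → c g = a := by
    intro g hg
    rcases hall (c g) with h | h
    · exact absurd h (hcne g hg)
    · exact h
  have hsw0 : ∀ g : G, g ∉ H → ∀ w ∈ W 1, g • w ∈ W a := by
    intro g hg w hw
    have h1 := hmap g 1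
    rw [hcg g hg, mul_one] at h1
    rw [← h1]
    exact Submodule.mem_map_of_mem hw
  have hsw1 : ∀ g : G, g ∉ H → ∀ w ∈ W a, g • w ∈ W 1 := by
    intro g hg w hw
    have h1 := hmap g a
    rw [hcg g hg, haa] at h1
    rw [← h1]
    exact Submodule.mem_map_of_mem hw
  have hcompl : IsCompl (W 1) (W a) := by
    constructor
    · exact hind.pairwiseDisjoint (Ne.symm ha)
    · rw [codisjoint_iff, eq_top_iff, ← hsup]
      apply iSup_le
      intro u
      rcases hall u with rfl | rfl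
      · exact le_sup_left
      · exact le_sup_right
  refine ⟨h0, hidx, hcompl, fun h hh w hw => hinv h hh 1 w hw, fun h hh w hw => hinv h hh a w hw,
    hsw0, hsw1, hh0, hh01, hh0W, ?_⟩
  intro hbot
  -- W a = ⊥ too
  have hne : H ≠ ⊤ := by
    intro h
    rw [h, Subgroup.index_top] at hidx
    omega
  obtain ⟨x, hx⟩ : ∃ x : G, x ∉ H := by
    by_contra hcon
    push Not at hcon
    exact hne (eq_top_iff.mpr (fun g _ => hcon g))
  have hx' : x⁻¹ ∉ H := fun h => hx (by simpa using H.inv_mem h)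
  have hWa : W a = ⊥ := by
    rw [eq_bot_iff]
    intro w hw
    have h1 := hsw1 x⁻¹ hx' w hw
    rw [hbot, Submodule.mem_bot] at h1
    rw [Submodule.mem_bot]
    exact (smul_eq_zero_iff_eq _).mp h1
  have h2 := hcompl.sup_eq_top
  rw [hbot, hWa, bot_sup_eq] at h2
  exact bot_ne_top h2

/-- the imprimitive case -/
theorem imprim_case [Finite V] [Nontrivial V] [Finite G] (hq2 : q ≠ 2) (hG : IsPGroup 2 G)
    (hirr : ∀ W : Submodule (ZMod q) V, (∀ g : G, ∀ w ∈ W, g • w ∈ W) → W = ⊥ ∨ W = ⊤)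
    (hhalf : ∀ v w : V, v ≠ 0 → w ≠ 0 →
      Nat.card (MulAction.stabilizer G v) = Nat.card (MulAction.stabilizer G w))
    (hnc : ¬ IsCyclic G) (hnq : ∀ n : ℕ, ¬ Nonempty (G ≃* QuaternionGroup n))
    (hnd : ∀ n : ℕ, ¬ Nonempty (G ≃* DihedralGroup n)) (hnsd : ¬ Cfsg.IsQuasiDihedral G) :
    (Nat.card V = q ^ 2 ∧ (∃ m : ℕ, q = 2 ^ m + 1) ∧
      ∃ e0 e1 : V, (∀ v : V, ∃ c0 c1 : ZMod q, v = c0 • e0 + c1 • e1) ∧
        (∀ c0 c1 : ZMod q, c0 • e0 + c1 • e1 = 0 → c0 = 0 ∧ c1 = 0) ∧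
        (∀ a : ZMod q, a ≠ 0 → ∀ s : ZMod q, (s = 1 ∨ s = -1) →
          (∃ g : G, g • e0 = a • e0 ∧ g • e1 = (s * a⁻¹) • e1) ∧
          (∃ g : G, g • e0 = a • e1 ∧ g • e1 = (s * a⁻¹) • e0)) ∧
        (∀ g : G, ∃ a s : ZMod q, a ≠ 0 ∧ (s = 1 ∨ s = -1) ∧
          ((g • e0 = a • e0 ∧ g • e1 = (s * a⁻¹) • e1) ∨
           (g • e0 = a • e1 ∧ g • e1 = (s * a⁻¹) • e0)))) ∨
    (Nat.card V = 81 ∧ q = 3) := by
  obtain ⟨H, W0, W1, h0, hHi, hc, hH0, hH1, hsw0, hsw1, hh0, hh01, hh0W, hW0⟩ :=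
    exists_blocks q hq2 hG hirr hnc hnq hnd hnsd
  obtain ⟨k, hk⟩ := card_W0 hG hhalf H hHi W0 W1 hc hH0 hH1 hsw0 hsw1 h0 hh0 hh01 hh0W hW0
  have hV := card_V H hHi W0 W1 hc hsw0 hsw1
  have hW0card := card_eq_pow_finrank' q W0
  set n0 := Module.finrank (ZMod q) W0 with hn0
  have hodd : Odd q := hq.out.odd_of_ne_two hq2
  have hn0' : 1 ≤ n0 := by
    by_contra h
    have h0' : n0 = 0 := by omega
    rw [h0', pow_zero, hk] at hW0card
    have : 0 < 2 ^ k := by positivity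
    omega
  rcases pow_eq_two_pow_add_one q n0 k hodd hq.out.one_lt hn0' (by rw [← hW0card, hk])
    with h1 | ⟨h3, h2⟩
  · left
    rw [h1, pow_one] at hW0card
    refine ⟨by rw [hV, hW0card, pow_two], ⟨k, by rw [← hW0card, hk]⟩, ?_⟩
    -- basis vectors
    obtain ⟨v0, hv0, hv0span⟩ := finrank_eq_one_iff'.mp h1
    have hne : H ≠ ⊤ := by
      intro h
      rw [h, Subgroup.index_top] at hHi
      omega
    obtain ⟨x, hx⟩ : ∃ x : G, x ∉ H := by
      by_contra hcon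
      push Not at hcon
      exact hne (eq_top_iff.mpr (fun g _ => hcon g))
    have hx' : x⁻¹ ∉ H := fun h => hx (by simpa using H.inv_mem h)
    have he0 : (v0 : V) ∈ W0 := v0.2
    have he0ne : (v0 : V) ≠ 0 := fun h => hv0 (Subtype.ext h)
    have he1 : x • (v0 : V) ∈ W1 := hsw0 x hx _ he0
    have he1ne : x • (v0 : V) ≠ 0 := fun h => he0ne ((smul_eq_zero_iff_eq _).mp h)
    have hs0 : ∀ w ∈ W0, ∃ c : ZMod q, w = c • (v0 : V) := by
      intro w hw
      obtain ⟨c, hc'⟩ := hv0span ⟨w, hw⟩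
      exact ⟨c, (congrArg Subtype.val hc').symm⟩
    have hs1 : ∀ w ∈ W1, ∃ c : ZMod q, w = c • (x • (v0 : V)) := by
      intro w hw
      obtain ⟨c, hc'⟩ := hs0 _ (hsw1 x⁻¹ hx' w hw)
      refine ⟨c, ?_⟩
      rw [← smul_comm x c, ← hc', smul_inv_smul]
    obtain ⟨hp1, hp2⟩ := fermat_main hhalf H hHi W0 W1 hc hH0 hH1 hsw0 hsw1 h0 hh0 hh01 hh0W
      (v0 : V) (x • (v0 : V)) he0 he1 he0ne he1ne hs0 hs1
    refine ⟨(v0 : V), x • (v0 : V), ?_, ?_, hp1, hp2⟩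
    · intro v
      have hv : v ∈ W0 ⊔ W1 := hc.sup_eq_top ▸ Submodule.mem_top
      obtain ⟨w, hw, w', hw', rfl⟩ := Submodule.mem_sup.mp hv
      obtain ⟨c0, rfl⟩ := hs0 w hw
      obtain ⟨c1, rfl⟩ := hs1 w' hw'
      exact ⟨c0, c1, rfl⟩
    · intro c0 c1 h
      have h2 : c0 • (v0 : V) = -(c1 • (x • (v0 : V))) := eq_neg_of_add_eq_zero_left h
      have h3 : c0 • (v0 : V) ∈ W1 := h2 ▸ W1.neg_mem (W1.smul_mem c1 he1)
      have h4 : c0 • (v0 : V) = 0 :=
        Submodule.disjoint_def.mp hc.disjoint _ (W0.smul_mem c0 he0) h3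
      rw [h4, zero_add] at h
      exact ⟨(smul_eq_zero.mp h4).resolve_right he0ne, (smul_eq_zero.mp h).resolve_right he1ne⟩
  · right
    have h9 : Nat.card W0 = 9 := by
      rw [hW0card, h2]
      rw [h3]
      norm_num
    refine ⟨by rw [hV, h9], h3⟩

end

end Cfsg.Agent.Lib.Helper22.HalfF
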