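import Mathlib
import Cfsg.Agent.Lib.Helper22.HalfF

set_option autoImplicit false

/-!
# Half-transitive linear `2`-groups: the main theorem in type class form
-/

namespace Cfsg.Agent.Lib.Helper22.HalfG

open Cfsg.Agent.Lib.Helper22.HalfA Cfsg.Agent.Lib.Helper22.HalfB Cfsg.Agent.Lib.Helper22.HalfF

/-- the unique involution of a generalized quaternion group -/
theorem quaternion_invol (n : ℕ) [NeZero n] (t : QuaternionGroup n) (ht2 : t * t = 1)
    (ht1 : t ≠ 1) : t = QuaternionGroup.a (n : ZMod (2 * n)) := by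
  have hn0 : n ≠ 0 := NeZero.ne n
  have : NeZero (2 * n) := ⟨by omega⟩
  have hnn : ((n : ℕ) : ZMod (2 * n)) ≠ 0 := by
    intro h
    rw [ZMod.natCast_eq_zero_iff] at h
    have := Nat.le_of_dvd (by omega) h
    omega
  cases t with
  | a i =>
    rw [QuaternionGroup.a_mul_a, QuaternionGroup.one_def] at ht2
    have h : i + i = 0 := by injection ht2
    have hi0 : i ≠ 0 := fun h0 => ht1 (by rw [h0, QuaternionGroup.one_def])
    congr 1
    have hv := ZMod.val_lt i
    have hv0 : i.val ≠ 0 := fun h0 => hi0 ((ZMod.val_eq_zero i).mp h0)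
    have h2 : ((i.val + i.val : ℕ) : ZMod (2 * n)) = 0 := by
      rw [Nat.cast_add, ZMod.natCast_zmod_val, h]
    rw [ZMod.natCast_eq_zero_iff] at h2
    obtain ⟨c, hc⟩ := h2
    have hc1 : c = 1 := by
      have hc0 : c ≠ 0 := by
        rintro rfl
        omega
      have hc2 : c < 2 := by
        by_contra hge
        have : 2 * n * 2 ≤ 2 * n * c := Nat.mul_le_mul_left _ (by omega)
        omega
      omega
    rw [hc1, mul_one] at hc
    have hin : i.val = n := by omega
    have h5 : ((i.val : ℕ) : ZMod (2 * n)) = ((n : ℕ) : ZMod (2 * n)) := congrArg _ hin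
    rw [ZMod.natCast_zmod_val] at h5
    exact h5
  | xa i =>
    exfalso
    rw [QuaternionGroup.xa_mul_xa, QuaternionGroup.one_def] at ht2
    have h : (n : ZMod (2 * n)) + i - i = 0 := by injection ht2
    rw [add_sub_cancel_right] at h
    exact hnn h

theorem not_cyclic_not_quaternion {G : Type*} [Group G] [Finite G]
    (hnu : ¬ ∀ t u : G, t * t = 1 → t ≠ 1 → u * u = 1 → u ≠ 1 → t = u) :
    ¬ IsCyclic G ∧ ∀ n : ℕ, ¬ Nonempty (G ≃* QuaternionGroup n) := by
  constructor
  · intro hc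
    apply hnu
    intro t u ht2 ht1 hu2 hu1
    exact invol_unique_of_isCyclic t u ht2 ht1 hu2 hu1
  · rintro n ⟨φ⟩
    have hn0 : n ≠ 0 := by
      rintro rfl
      have h2 : Finite (QuaternionGroup 0) := Finite.of_equiv G φ.toEquiv
      have h3 : Infinite (ZMod (2 * 0)) := by
        rw [mul_zero]
        exact (inferInstance : Infinite ℤ)
      have hinj : Function.Injective (QuaternionGroup.a : ZMod (2 * 0) → QuaternionGroup 0) := by
        intro i j h
        injection h
      have h4 : Finite (ZMod (2 * 0)) := Finite.of_injective _ hinj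
      exact not_finite (ZMod (2 * 0))
    have : NeZero n := ⟨hn0⟩
    apply hnu
    intro t u ht2 ht1 hu2 hu1
    apply φ.injective
    rw [quaternion_invol n (φ t) (by rw [← map_mul, ht2, map_one])
        (fun h => ht1 (φ.injective (h.trans (map_one φ).symm))),
      quaternion_invol n (φ u) (by rw [← map_mul, hu2, map_one])
        (fun h => hu1 (φ.injective (h.trans (map_one φ).symm)))]

/-- equal orbit sizes give equal stabilizer orders -/
theorem stab_card_of_orbit_card {G : Type*} [Group G] [Finite G] {V : Type*} [MulAction G V]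
    (v w : V)
    (h : Nat.card {u : V | ∃ g : G, g • v = u} = Nat.card {u : V | ∃ g : G, g • w = u}) :
    Nat.card (MulAction.stabilizer G v) = Nat.card (MulAction.stabilizer G w) := by
  have h1 := MulAction.index_stabilizer G v
  have h2 := MulAction.index_stabilizer G w
  have h3 : (MulAction.orbit G v).ncard = (MulAction.orbit G w).ncard := by
    rw [← Nat.card_coe_set_eq, ← Nat.card_coe_set_eq]
    exact h
  have h4 := Subgroup.index_mul_card (MulAction.stabilizer G v)
  have h5 := Subgroup.index_mul_card (MulAction.stabilizer G w)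
  rw [h1] at h4
  rw [h2, ← h3] at h5
  have hpos : 0 < (MulAction.orbit G v).ncard := by
    rw [← h1]
    exact Nat.pos_of_ne_zero Subgroup.index_ne_zero_of_finite
  exact Nat.eq_of_mul_eq_mul_left hpos (h4.trans h5.symm)


/-- coordinates with respect to two spanning independent vectors -/
theorem exists_coord {K : Type*} [Field K] {V : Type*} [AddCommGroup V] [Module K V] (e0 e1 : V)
    (hspan : ∀ v : V, ∃ c0 c1 : K, v = c0 • e0 + c1 • e1)
    (hind : ∀ c0 c1 : K, c0 • e0 + c1 • e1 = 0 → c0 = 0 ∧ c1 = 0) :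
    ∃ e : V ≃ₗ[K] (Fin 2 → K), ∀ c : Fin 2 → K, e.symm c = c 0 • e0 + c 1 • e1 := by
  let ψ : (Fin 2 → K) →ₗ[K] V :=
    (LinearMap.proj 0).smulRight e0 + (LinearMap.proj 1).smulRight e1
  have hψ : ∀ c : Fin 2 → K, ψ c = c 0 • e0 + c 1 • e1 := fun c => rfl
  have hbij : Function.Bijective ψ := by
    constructor
    · rw [injective_iff_map_eq_zero]
      intro c hc
      rw [hψ] at hc
      obtain ⟨h0, h1⟩ := hind _ _ hc
      funext i
      fin_cases i
      · exact h0
      · exact h1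
    · intro v
      obtain ⟨c0, c1, rfl⟩ := hspan v
      exact ⟨![c0, c1], by rw [hψ]; rfl⟩
  refine ⟨(LinearEquiv.ofBijective ψ hbij).symm, fun c => ?_⟩
  rw [LinearEquiv.symm_symm, LinearEquiv.ofBijective_apply, hψ]

section

variable (q : ℕ) [hq : Fact q.Prime] {V : Type*} [AddCommGroup V] [Module (ZMod q) V]
variable {G : Type*} [Group G] [DistribMulAction G V] [SMulCommClass G (ZMod q) V]
  [FaithfulSMul G V]

/-- Passman's theorem on half-transitive `2`-groups, in type class form. -/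
theorem two_group_main [Finite V] [Nontrivial V] [Finite G] (hq2 : q ≠ 2) (hG : IsPGroup 2 G)
    (hhalf : ∀ v w : V, v ≠ 0 → w ≠ 0 →
      Nat.card (MulAction.stabilizer G v) = Nat.card (MulAction.stabilizer G w)) :
    ((IsCyclic G ∨ ∃ n : ℕ, Nonempty (G ≃* QuaternionGroup n)) ∧
      ∀ v : V, v ≠ 0 → ∀ g : G, g • v = v → g = 1) ∨
    (Nat.card V = q ^ 2 ∧ ∃ m : ℕ, q = 2 ^ m - 1 ∧
      (Nonempty (G ≃* DihedralGroup (2 ^ m)) ∨
        (Cfsg.IsQuasiDihedral G ∧ Nat.card G = 2 ^ (m + 2)))) ∨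
    (Nat.card V = q ^ 2 ∧ (∃ m : ℕ, q = 2 ^ m + 1) ∧
      ∃ e0 e1 : V, (∀ v : V, ∃ c0 c1 : ZMod q, v = c0 • e0 + c1 • e1) ∧
        (∀ c0 c1 : ZMod q, c0 • e0 + c1 • e1 = 0 → c0 = 0 ∧ c1 = 0) ∧
        (∀ a : ZMod q, a ≠ 0 → ∀ s : ZMod q, (s = 1 ∨ s = -1) →
          (∃ g : G, g • e0 = a • e0 ∧ g • e1 = (s * a⁻¹) • e1) ∧
          (∃ g : G, g • e0 = a • e1 ∧ g • e1 = (s * a⁻¹) • e0)) ∧
        (∀ g : G, ∃ a s : ZMod q, a ≠ 0 ∧ (s = 1 ∨ s = -1) ∧
          ((g • e0 = a • e0 ∧ g • e1 = (s * a⁻¹) • e1) ∨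
           (g • e0 = a • e1 ∧ g • e1 = (s * a⁻¹) • e0)))) ∨
    (Nat.card V = 81 ∧ q = 3) := by
  have h2 : (2 : ZMod q) ≠ 0 := two_ne_zero_of_ne_two q hq2
  by_cases hsr : ∀ v : V, v ≠ 0 → ∀ g : G, g • v = v → g = 1
  · left
    refine ⟨?_, hsr⟩
    rcases cyclic_or_quaternion_of_semiregular hG hsr with h | ⟨n, hn⟩
    · exact Or.inl h
    · exact Or.inr ⟨_, hn⟩
  · right
    have hcardK : ((Nat.card G : ℕ) : ZMod q) ≠ 0 := by
      obtain ⟨a, ha⟩ := IsPGroup.iff_card.mp hG
      rw [ha]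
      push_cast
      exact pow_ne_zero _ h2
    have hirr : ∀ W : Submodule (ZMod q) V, (∀ g : G, ∀ w ∈ W, g • w ∈ W) → W = ⊥ ∨ W = ⊤ := by
      intro W hW
      by_contra hcon
      push Not at hcon
      exact hsr (semiregular_of_reducible hcardK hhalf W hW hcon.1 hcon.2)
    have hnu : ¬ ∀ t u : G, t * t = 1 → t ≠ 1 → u * u = 1 → u ≠ 1 → t = u :=
      fun h => hsr (semiregular_of_unique_invol hG h2 hirr h)
    have hns : ∀ v : V, v ≠ 0 → ∃ g : G, g ≠ 1 ∧ g • v = v := by
      push Not at hsr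
      obtain ⟨v0, hv0, g0, hg0v, hg01⟩ := hsr
      intro v hv
      have h1 : MulAction.stabilizer G v ≠ ⊥ := by
        intro h
        have h3 : Nat.card (MulAction.stabilizer G v0) = 1 := by
          rw [hhalf v0 v hv0 hv, h, Subgroup.card_bot]
        rw [Subgroup.card_eq_one] at h3
        have h4 : g0 ∈ MulAction.stabilizer G v0 := hg0v
        rw [h3, Subgroup.mem_bot] at h4
        exact hg01 h4
      obtain ⟨⟨g, hg⟩, hg1⟩ := (Subgroup.ne_bot_iff_exists_ne_one (H := _)).mp h1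
      exact ⟨g, fun h => hg1 (Subtype.ext h), hg⟩
    obtain ⟨hnc, hnq⟩ := not_cyclic_not_quaternion hnu
    by_cases hd : ∃ n : ℕ, Nonempty (G ≃* DihedralGroup n)
    · left
      obtain ⟨n, ⟨φ⟩⟩ := hd
      obtain ⟨hV, m, hm, hiso⟩ := dihedral_case q hq2 hG hirr hns hnu n φ
      exact ⟨hV, m, hm, Or.inl hiso⟩
    · push Not at hd
      by_cases hqd : Cfsg.IsQuasiDihedral G
      · left
        obtain ⟨n, hn, hcard, x, y, hx, hy, hxy⟩ := hqd
        obtain ⟨hV, m, hm, hcG⟩ := qd_case q hq2 hG hirr hns n hn hcard x y hx hy hxy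
        exact ⟨hV, m, hm, Or.inr ⟨⟨n, hn, hcard, x, y, hx, hy, hxy⟩, hcG⟩⟩
      · right
        exact imprim_case q hq2 hG hirr hhalf hnc hnq (fun n h => (hd n).false h.some) hqd

end

end Cfsg.Agent.Lib.Helper22.HalfG
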