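import Mathlib
import Cfsg.Prelude.Def_HallClasses

/-!
Hall subgroups of symmetric groups (toward S2536): numeric predicates and the basic
restriction lemmas (invariant subsets, point stabilizers).
-/

set_option autoImplicit false

namespace Cfsg.Agent.Lib.Helper22.HsA

open Equiv MulAction

/-- every prime divisor of `N` lies in `π`. -/
def piNum (π : Set ℕ) (N : ℕ) : Prop := ∀ p : ℕ, p.Prime → p ∣ N → p ∈ π

/-- no prime of `π` divides `N`. -/
def piPrime (π : Set ℕ) (N : ℕ) : Prop := ∀ p : ℕ, p.Prime → p ∈ π → ¬ p ∣ N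

theorem piNum_of_dvd {π : Set ℕ} {M N : ℕ} (h : M ∣ N) (hN : piNum π N) : piNum π M :=
  fun p hp hpM => hN p hp (hpM.trans h)

theorem piPrime_of_dvd {π : Set ℕ} {M N : ℕ} (h : M ∣ N) (hN : piPrime π N) : piPrime π M :=
  fun p hp hpp hpM => hN p hp hpp (hpM.trans h)

theorem isPiHall_iff {G : Type*} [Group G] (π : Set ℕ) (H : Subgroup G) :
    Cfsg.IsPiHall π H ↔ piNum π (Nat.card H) ∧ piPrime π H.index := Iff.rfl

/-- numeric core of the restriction lemma. -/
theorem num_restrict {π : Set ℕ} {N I A B m k : ℕ} (hNI : N * I = (m + k).factorial)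
    (hI : piPrime π I) (hNAB : N ∣ A * B) (hA : A ∣ m.factorial) (hB : B ∣ k.factorial) :
    piPrime π (m.factorial / A) ∧ piPrime π (k.factorial / B) ∧
      piPrime π ((m + k).choose m) := by
  obtain ⟨a, ha⟩ := hA
  obtain ⟨b, hb⟩ := hB
  obtain ⟨t, ht⟩ := hNAB
  have hfact : (m + k).factorial = m.factorial * k.factorial * (m + k).choose m := by
    have := Nat.add_choose_mul_factorial_mul_factorial m k
    have hc : (m + k).choose k = (m + k).choose m := by
      rw [← Nat.choose_symm_of_eq_add (show m + k = m + k from rfl)]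
    rw [← this, hc]; ring
  have hN0 : N ≠ 0 := by
    rintro rfl
    simp at hNI
    exact (Nat.factorial_ne_zero _) hNI.symm
  have hA0 : A ≠ 0 := by
    rintro rfl; simp at ha; exact Nat.factorial_ne_zero _ ha
  have hB0 : B ≠ 0 := by
    rintro rfl; simp at hb; exact Nat.factorial_ne_zero _ hb
  have hI' : I = t * (a * b * (m + k).choose m) := by
    have h1 : N * I = N * (t * (a * b * (m + k).choose m)) := by
      rw [hNI, hfact, ha, hb]
      calc A * a * (B * b) * (m + k).choose m = (A * B) * (a * b * (m + k).choose m) := by ring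
        _ = N * t * (a * b * (m + k).choose m) := by rw [ht]
        _ = N * (t * (a * b * (m + k).choose m)) := by ring
    exact Nat.eq_of_mul_eq_mul_left (Nat.pos_of_ne_zero hN0) h1
  have hma : m.factorial / A = a := by
    rw [ha]; exact Nat.mul_div_cancel_left a (Nat.pos_of_ne_zero hA0)
  have hkb : k.factorial / B = b := by
    rw [hb]; exact Nat.mul_div_cancel_left b (Nat.pos_of_ne_zero hB0)
  refine ⟨?_, ?_, ?_⟩
  · rw [hma]
    exact piPrime_of_dvd (by rw [hI']; exact ⟨t * (b * (m + k).choose m), by ring⟩) hI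
  · rw [hkb]
    exact piPrime_of_dvd (by rw [hI']; exact ⟨t * (a * (m + k).choose m), by ring⟩) hI
  · exact piPrime_of_dvd (by rw [hI']; exact ⟨t * (a * b), by ring⟩) hI

variable {α : Type} [Finite α]

theorem card_mul_index_perm (H : Subgroup (Perm α)) :
    Nat.card H * H.index = (Nat.card α).factorial := by
  rw [Subgroup.card_mul_index, Nat.card_perm]

theorem index_perm_eq (H : Subgroup (Perm α)) :
    H.index = (Nat.card α).factorial / Nat.card H := by
  have h := card_mul_index_perm H
  have hpos : 0 < Nat.card H := Nat.card_pos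
  rw [← h, Nat.mul_div_cancel_left _ hpos]

theorem card_dvd_factorial (H : Subgroup (Perm α)) :
    Nat.card H ∣ (Nat.card α).factorial := by
  rw [← card_mul_index_perm H]; exact dvd_mul_right _ _

/-- the image of a group acting on `β` inside `Perm β`. -/
abbrev img (G : Type*) [Group G] (β : Type*) [MulAction G β] : Subgroup (Perm β) :=
  (MulAction.toPermHom G β).range

theorem card_img_dvd (G : Type*) [Group G] [Finite G] (β : Type*) [MulAction G β] :
    Nat.card (img G β) ∣ Nat.card G :=
  Subgroup.card_range_dvd _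

end Cfsg.Agent.Lib.Helper22.HsA
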