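import Mathlib
import Cfsg.Agent.Lib.Helper22.HsA

/-!
Hall subgroups of symmetric groups (toward S2536): prime cycles inside a Hall subgroup and
the primitive case (Jordan).
-/

set_option autoImplicit false

namespace Cfsg.Agent.Lib.Helper22.HsB

open Equiv MulAction Cfsg.Agent.Lib.Helper22.HsA

/-- a `p`-subgroup is conjugate into any subgroup of index prime to `p`. -/
theorem conj_mem_of_prime_not_dvd_index {G : Type*} [Group G] (H : Subgroup G)
    {p : ℕ} [Fact p.Prime] (hp : ¬ p ∣ H.index) (Q : Subgroup G) (hQ : IsPGroup p Q) :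
    ∃ g : G, ∀ q ∈ Q, g⁻¹ * q * g ∈ H := by
  have hp' : ¬ p ∣ Nat.card (G ⧸ H) := hp
  obtain ⟨x, hx⟩ := hQ.nonempty_fixed_point_of_prime_not_dvd_card (G ⧸ H) hp'
  induction x using QuotientGroup.induction_on with
  | H g =>
    refine ⟨g, fun q hq => ?_⟩
    have h1 : (⟨q, hq⟩ : Q) • (g : G ⧸ H) = (g : G ⧸ H) := hx ⟨q, hq⟩
    have h2 : ((q * g : G) : G ⧸ H) = (g : G ⧸ H) := h1
    rw [QuotientGroup.eq] at h2
    have h3 := H.inv_mem h2
    have : ((q * g)⁻¹ * g)⁻¹ = g⁻¹ * q * g := by group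
    rwa [this] at h3

variable {α : Type} [Fintype α] [DecidableEq α]

/-- there is a cycle of any length between 2 and the degree. -/
theorem exists_isCycle_card {r : ℕ} (h2 : 2 ≤ r) (hr : r ≤ Fintype.card α) :
    ∃ g : Perm α, g.IsCycle ∧ g.support.card = r := by
  obtain ⟨g, hg⟩ := (Equiv.Perm.exists_with_cycleType_iff (α := α) (m := {r})).2
    ⟨by simpa using hr, by intro a ha; simp at ha; omega⟩
  refine ⟨g, ?_, ?_⟩
  · rw [← Equiv.Perm.card_cycleType_eq_one, hg]; simp
  · rw [← Equiv.Perm.sum_cycleType, hg]; simp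

/-- **Lemma A**: a Hall `π`-subgroup of `Perm α` contains an `r`-cycle for every prime
`r ∈ π` not exceeding the degree. -/
theorem exists_cycle_mem (π : Set ℕ) (H : Subgroup (Perm α)) (hH : Cfsg.IsPiHall π H)
    {r : ℕ} (hr : r.Prime) (hrπ : r ∈ π) (hrn : r ≤ Fintype.card α) :
    ∃ g ∈ H, g.IsCycle ∧ g.support.card = r := by
  have : Fact r.Prime := ⟨hr⟩
  obtain ⟨c, hc, hcr⟩ := exists_isCycle_card (α := α) hr.two_le hrn
  have hord : orderOf c = r := by
    rw [hc.orderOf, hcr]
  have hQ : IsPGroup r (Subgroup.zpowers c) := by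
    apply IsPGroup.of_card (n := 1)
    rw [Nat.card_zpowers, hord, pow_one]
  obtain ⟨g, hg⟩ := conj_mem_of_prime_not_dvd_index H (hH.2 r hr hrπ) _ hQ
  refine ⟨g⁻¹ * c * g, hg c (Subgroup.mem_zpowers c), ?_, ?_⟩
  · have : g⁻¹ * c * g = g⁻¹ * c * (g⁻¹)⁻¹ := by rw [inv_inv]
    rw [this]
    exact hc.conj
  · have : g⁻¹ * c * g = g⁻¹ * c * (g⁻¹)⁻¹ := by rw [inv_inv]
    rw [this, Equiv.Perm.card_support_conj, hcr]

end Cfsg.Agent.Lib.Helper22.HsB

namespace Cfsg.Agent.Lib.Helper22.HsB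

open Equiv MulAction Cfsg.Agent.Lib.Helper22.HsA

variable {α : Type} [Fintype α] [DecidableEq α]

/-- a 2-transitive group on at least two points has even order. -/
theorem two_dvd_card_of_two_pretransitive (H : Subgroup (Perm α))
    (h2 : IsMultiplyPretransitive H α 2) (hn : 2 ≤ Fintype.card α) : 2 ∣ Nat.card H := by
  obtain ⟨a, b, hab⟩ := Fintype.exists_pair_of_one_lt_card (α := α) (by omega)
  rw [MulAction.is_two_pretransitive_iff] at h2
  obtain ⟨h, hha, hhb⟩ := h2 hab (Ne.symm hab)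
  have hdvd : orderOf h ∣ Nat.card H := orderOf_dvd_natCard h
  refine dvd_trans ?_ hdvd
  rcases Nat.even_or_odd (orderOf h) with he | ho
  · exact even_iff_two_dvd.1 he
  · exfalso
    obtain ⟨j, hj⟩ := ho
    have hsq : (h ^ 2) ∈ stabilizer H a := by
      rw [mem_stabilizer_iff, pow_two, mul_smul, hha, hhb]
    have hpow : (h ^ 2) ^ (j + 1) ∈ stabilizer H a := Subgroup.pow_mem _ hsq _
    have heq : (h ^ 2) ^ (j + 1) = h := by
      rw [← pow_mul, show 2 * (j + 1) = orderOf h + 1 by omega, pow_succ, pow_orderOf_eq_one,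
        one_mul]
    rw [heq, mem_stabilizer_iff, hha] at hpow
    exact hab hpow.symm

/-- **Lemma B**: a primitive Hall `π`-subgroup of `Perm α`, for `π` containing two distinct
primes not exceeding the degree, contains all primes up to the degree. -/
theorem primitive_full (π : Set ℕ) (H : Subgroup (Perm α)) (hH : Cfsg.IsPiHall π H)
    (hprim : IsPreprimitive H α) {r s : ℕ} (hr : r.Prime) (hrs : r < s)
    (hrπ : r ∈ π) (hsn : s ≤ Fintype.card α) :
    ∀ p : ℕ, p.Prime → p ≤ Fintype.card α → p ∈ π := by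
  have hrn : r < Fintype.card α := lt_of_lt_of_le hrs hsn
  have hr2 : 2 ≤ r := hr.two_le
  by_cases h2 : 2 ∈ π
  · obtain ⟨g, hgH, hgc, hgs⟩ := exists_cycle_mem π H hH Nat.prime_two h2 (by omega)
    have hswap : g.IsSwap := Equiv.Perm.card_support_eq_two.1 hgs
    have htop : H = ⊤ := Equiv.Perm.subgroup_eq_top_of_isPreprimitive_of_isSwap_mem hprim g hswap hgH
    intro p hp hpn
    apply hH.1 p hp
    rw [htop, Subgroup.card_top, Nat.card_perm, Nat.card_eq_fintype_card]
    exact (Nat.Prime.dvd_factorial hp).2 hpn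
  · exfalso
    obtain ⟨g, hgH, hgc, hgs⟩ := exists_cycle_mem π H hH hr hrπ hrn.le
    have htrans := Equiv.Perm.isPretransitive_of_isCycle_mem (G := H) hgc hgH
    have hsc : Set.ncard ((g.support : Set α)ᶜ) = (Fintype.card α - r - 1) + 1 := by
      have h1 := Set.ncard_add_ncard_compl (g.support : Set α)
      rw [Set.ncard_coe_finset, hgs, Nat.card_eq_fintype_card] at h1
      omega
    have h2t : IsMultiplyPretransitive H α 2 :=
      hprim.is_two_pretransitive hsc (by rw [Nat.card_eq_fintype_card]; omega) htrans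
    have := two_dvd_card_of_two_pretransitive H h2t (by omega)
    exact h2 (hH.1 2 Nat.prime_two this)

end Cfsg.Agent.Lib.Helper22.HsB
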