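import Mathlib
import Cfsg.Agent.Lib.Helper22.HsA

/-!
Hall subgroups of symmetric groups (toward S2536): restriction to invariant subsets and
to point stabilizers.
-/

set_option autoImplicit false

namespace Cfsg.Agent.Lib.Helper22.HsC

open Equiv MulAction Cfsg.Agent.Lib.Helper22.HsA

variable {α : Type} [Finite α]

theorem card_prod_subgroup {G N : Type*} [Group G] [Group N] (H : Subgroup G) (K : Subgroup N) :
    Nat.card (H.prod K) = Nat.card H * Nat.card K := by
  rw [Nat.card_congr (Subgroup.prodEquiv H K).toEquiv, Nat.card_prod]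

/-- a permutation group embeds in the product of its restrictions to two invariant
subsets covering everything. -/
theorem card_dvd_img_mul (H : Subgroup (Perm α)) (S T : SubMulAction H α)
    (hST : ∀ x : α, x ∈ S ∨ x ∈ T) :
    Nat.card H ∣ Nat.card (img H S) * Nat.card (img H T) := by
  let ψ : H →* Perm S × Perm T := (MulAction.toPermHom H S).prod (MulAction.toPermHom H T)
  have hinj : Function.Injective ψ := by
    rw [injective_iff_map_eq_one]
    intro g hg
    have h1 : MulAction.toPermHom H S g = 1 := congrArg Prod.fst hg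
    have h2 : MulAction.toPermHom H T g = 1 := congrArg Prod.snd hg
    apply Subtype.ext
    ext x
    rcases hST x with hx | hx
    · have := congrArg (fun f : Perm S => (f ⟨x, hx⟩ : α)) h1
      have h3 : g • x = x := by simpa using this
      exact h3
    · have := congrArg (fun f : Perm T => (f ⟨x, hx⟩ : α)) h2
      have h3 : g • x = x := by simpa using this
      exact h3
  have hle : ψ.range ≤ (img H S).prod (img H T) := by
    rintro _ ⟨g, rfl⟩
    exact ⟨⟨g, rfl⟩, ⟨g, rfl⟩⟩
  have hcard : Nat.card H = Nat.card ψ.range :=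
    Nat.card_congr (MonoidHom.ofInjective hinj).toEquiv
  rw [hcard, ← card_prod_subgroup]
  exact Subgroup.card_dvd_of_le hle

theorem card_add_card_compl (H : Subgroup (Perm α)) (S T : SubMulAction H α)
    (hST : ∀ x : α, x ∈ T ↔ x ∉ S) :
    Nat.card S + Nat.card T = Nat.card α := by
  classical
  have h1 : Nat.card S = (S : Set α).ncard := (Nat.card_coe_set_eq (S : Set α))
  have h2 : Nat.card T = ((S : Set α)ᶜ).ncard := by
    have : (T : Set α) = (S : Set α)ᶜ := by
      ext x; simp [hST x]
    rw [← this]; exact (Nat.card_coe_set_eq (T : Set α))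
  rw [h1, h2, Set.ncard_add_ncard_compl]

/-- **Restriction lemma**: a Hall subgroup of `Perm α` induces Hall subgroups on an invariant
subset and on its complement, and the binomial coefficient is a `π'`-number. -/
theorem hall_restrict (π : Set ℕ) (H : Subgroup (Perm α)) (hH : Cfsg.IsPiHall π H)
    (S T : SubMulAction H α) (hST : ∀ x : α, x ∈ T ↔ x ∉ S) :
    Cfsg.IsPiHall π (img H S) ∧ Cfsg.IsPiHall π (img H T) ∧
      piPrime π ((Nat.card α).choose (Nat.card S)) := by
  have hsum := card_add_card_compl H S T hST
  have hcov : ∀ x : α, x ∈ S ∨ x ∈ T := by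
    intro x
    by_cases hx : x ∈ S
    · exact Or.inl hx
    · exact Or.inr ((hST x).2 hx)
  have hNI : Nat.card H * H.index = (Nat.card S + Nat.card T).factorial := by
    rw [hsum]; exact card_mul_index_perm H
  obtain ⟨h1, h2, h3⟩ := num_restrict hNI hH.2 (card_dvd_img_mul H S T hcov)
    (card_dvd_factorial (img H S)) (card_dvd_factorial (img H T))
  refine ⟨⟨?_, ?_⟩, ⟨?_, ?_⟩, ?_⟩
  · exact piNum_of_dvd (card_img_dvd H S) hH.1
  · rw [index_perm_eq]; exact h1
  · exact piNum_of_dvd (card_img_dvd H T) hH.1
  · rw [index_perm_eq]; exact h2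
  · rw [← hsum]; exact h3

/-- **Point stabilizer lemma**: for a transitive Hall subgroup the point stabilizer induces a
Hall subgroup on the remaining points, and the degree is a `π`-number. -/
theorem hall_stabilizer (π : Set ℕ) (H : Subgroup (Perm α)) (hH : Cfsg.IsPiHall π H)
    [IsPretransitive H α] (x : α) :
    Cfsg.IsPiHall π (img (stabilizer H x) (SubMulAction.ofStabilizer H x)) ∧
      piNum π (Nat.card α) ∧
      (img (stabilizer H x) (SubMulAction.ofStabilizer H x)).index = H.index := by
  set D := img (stabilizer H x) (SubMulAction.ofStabilizer H x) with hD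
  have hn : Nat.card (SubMulAction.ofStabilizer H x) + 1 = Nat.card α :=
    SubMulAction.nat_card_ofStabilizer_add_one_eq H x
  -- the restriction is injective
  have hinj : Function.Injective
      (MulAction.toPermHom (stabilizer H x) (SubMulAction.ofStabilizer H x)) := by
    rw [injective_iff_map_eq_one]
    intro g hg
    apply Subtype.ext
    apply Subtype.ext
    ext y
    by_cases hy : y = x
    · subst hy
      have := g.2
      rw [mem_stabilizer_iff] at this
      exact this
    · have hy' : y ∈ SubMulAction.ofStabilizer H x := hy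
      have := congrArg (fun f : Perm (SubMulAction.ofStabilizer H x) => (f ⟨y, hy'⟩ : α)) hg
      have h3 : g • y = y := by simpa using this
      exact h3
  have hcardD : Nat.card D = Nat.card (stabilizer H x) :=
    (Nat.card_congr (MonoidHom.ofInjective hinj).toEquiv).symm
  have hidx : (stabilizer H x).index = Nat.card α := index_stabilizer_of_transitive H x
  have hmul : Nat.card (stabilizer H x) * Nat.card α = Nat.card H := by
    rw [← hidx]; exact Subgroup.card_mul_index _
  have hDI : Nat.card D * D.index = (Nat.card (SubMulAction.ofStabilizer H x)).factorial :=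
    card_mul_index_perm D
  have hHI : Nat.card H * H.index = (Nat.card α).factorial := card_mul_index_perm H
  have hpos : 0 < Nat.card α := by
    rw [← hn]; exact Nat.succ_pos _
  have hindex : D.index = H.index := by
    have h1 : Nat.card α * (Nat.card D * D.index) = Nat.card α * (Nat.card D * H.index) := by
      rw [hDI]
      have : Nat.card α * (Nat.card (SubMulAction.ofStabilizer H x)).factorial
          = (Nat.card α).factorial := by
        rw [← hn, Nat.factorial_succ]
      rw [this, ← hHI, ← hmul, hcardD]; ring
    have h2 := Nat.eq_of_mul_eq_mul_left hpos h1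
    exact Nat.eq_of_mul_eq_mul_left Nat.card_pos h2
  refine ⟨⟨?_, ?_⟩, ?_, hindex⟩
  · apply piNum_of_dvd _ hH.1
    rw [hcardD, ← hmul]; exact dvd_mul_right _ _
  · rw [hindex]; exact hH.2
  · apply piNum_of_dvd _ hH.1
    rw [← hmul]; exact dvd_mul_left _ _

end Cfsg.Agent.Lib.Helper22.HsC

namespace Cfsg.Agent.Lib.Helper22.HsC

open Equiv MulAction Cfsg.Agent.Lib.Helper22.HsA

variable {α : Type} [Finite α]

/-- restriction to an orbit and its complement. -/
theorem orbit_restrict (π : Set ℕ) (H : Subgroup (Perm α)) (hH : Cfsg.IsPiHall π H) (a : α) :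
    ∃ S T : SubMulAction H α, (S : Set α) = orbit H a ∧ (∀ x : α, x ∈ T ↔ x ∉ S) ∧
      Cfsg.IsPiHall π (img H S) ∧ Cfsg.IsPiHall π (img H T) ∧
      piPrime π ((Nat.card α).choose (Nat.card S)) ∧
      Nat.card S + Nat.card T = Nat.card α ∧ Nat.card S ∣ Nat.card H := by
  let S : SubMulAction H α :=
    { carrier := orbit H a
      smul_mem' := fun g x hx => by
        obtain ⟨h, rfl⟩ := hx
        exact ⟨g * h, by simp [mul_smul]⟩ }
  let T : SubMulAction H α :=
    { carrier := (orbit H a)ᶜ
      smul_mem' := fun g x hx hgx => by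
        apply hx
        obtain ⟨h, hh⟩ := hgx
        refine ⟨g⁻¹ * h, ?_⟩
        show (g⁻¹ * h) • a = x
        have : (g⁻¹ * h) • a = g⁻¹ • (h • a) := mul_smul _ _ _
        rw [this]
        have hh' : h • a = g • x := hh
        rw [hh', inv_smul_smul] }
  have hST : ∀ x : α, x ∈ T ↔ x ∉ S := fun x => Iff.rfl
  obtain ⟨h1, h2, h3⟩ := hall_restrict π H hH S T hST
  refine ⟨S, T, rfl, hST, h1, h2, h3, card_add_card_compl H S T hST, ?_⟩
  have hcard : Nat.card S = (orbit H a).ncard := Nat.card_coe_set_eq (orbit H a)
  rw [hcard, ← MulAction.index_stabilizer]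
  exact Subgroup.index_dvd_card _

/-- if `H` is not transitive, the complement of an orbit is nonempty. -/
theorem exists_notMem_orbit (H : Subgroup (Perm α)) (htr : ¬ IsPretransitive H α) (a : α) :
    ∃ y : α, y ∉ orbit H a := by
  by_contra hcon
  push Not at hcon
  apply htr
  constructor
  intro x y
  obtain ⟨g, hg⟩ := hcon x
  obtain ⟨h, hh⟩ := hcon y
  refine ⟨h * g⁻¹, ?_⟩
  have hg' : g • a = x := hg
  have hh' : h • a = y := hh
  rw [mul_smul, ← hg', inv_smul_smul, hh']

end Cfsg.Agent.Lib.Helper22.HsC
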