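import Mathlib
import Cfsg.Agent.Lib.Helper22.HsA

/-!
Hall subgroups of symmetric groups (toward S2536): `Perm α` (degree ≥ 5) has no subgroup of
index strictly between `2` and the degree.
-/

set_option autoImplicit false

namespace Cfsg.Agent.Lib.Helper22.HsD

open Equiv MulAction

variable {α : Type} [Fintype α] [DecidableEq α]

theorem no_index_between (H : Subgroup (Perm α)) (hn : 5 ≤ Fintype.card α)
    (h1 : 2 < H.index) (h2 : H.index < Fintype.card α) : False := by
  have hn' : 5 ≤ Nat.card α := by rw [Nat.card_eq_fintype_card]; exact hn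
  have hsimple : IsSimpleGroup (alternatingGroup α) := alternatingGroup.isSimpleGroup hn'
  have hnt : Nontrivial α := Fintype.one_lt_card_iff_nontrivial.1 (by omega)
  have hfi : H.FiniteIndex := ⟨by omega⟩
  let φ : alternatingGroup α →* Perm (Perm α ⧸ H) :=
    (MulAction.toPermHom (Perm α) (Perm α ⧸ H)).comp (alternatingGroup α).subtype
  rcases φ.normal_ker.eq_bot_or_eq_top with hbot | htop
  · -- faithful: order contradiction
    have hinj : Function.Injective φ := (MonoidHom.ker_eq_bot_iff φ).1 hbot
    have hdvd := Subgroup.card_dvd_of_injective φ hinj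
    rw [Nat.card_perm] at hdvd
    have hidx : Nat.card (Perm α ⧸ H) = H.index := rfl
    rw [hidx] at hdvd
    have hle : H.index ≤ Fintype.card α - 1 := by omega
    have hdvd2 : Nat.card (alternatingGroup α) ∣ (Fintype.card α - 1).factorial :=
      hdvd.trans (Nat.factorial_dvd_factorial hle)
    have hcard : 2 * Nat.card (alternatingGroup α) = (Fintype.card α).factorial := by
      rw [two_mul_nat_card_alternatingGroup, Nat.card_perm, Nat.card_eq_fintype_card]
    have hfac : (Fintype.card α).factorial = Fintype.card α * (Fintype.card α - 1).factorial := by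
      obtain ⟨m, hm⟩ : ∃ m, Fintype.card α = m + 1 := ⟨Fintype.card α - 1, by omega⟩
      rw [hm, Nat.factorial_succ]; simp
    have hpos : 0 < (Fintype.card α - 1).factorial := Nat.factorial_pos _
    have hle2 := Nat.le_of_dvd hpos hdvd2
    have : Fintype.card α * (Fintype.card α - 1).factorial ≤ 2 * (Fintype.card α - 1).factorial := by
      rw [← hfac, ← hcard]; exact Nat.mul_le_mul_left 2 hle2
    have := Nat.le_of_mul_le_mul_right this hpos
    omega
  · -- trivial action: alternating group inside H
    have hle : alternatingGroup α ≤ H := by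
      intro a ha
      have h3 : (⟨a, ha⟩ : alternatingGroup α) ∈ φ.ker := by rw [htop]; trivial
      rw [MonoidHom.mem_ker] at h3
      have h4 := congrArg (fun f : Perm (Perm α ⧸ H) => f ((1 : Perm α) : Perm α ⧸ H)) h3
      simp only [φ, MonoidHom.comp_apply, Subgroup.subtype_apply, MulAction.toPermHom_apply,
        MulAction.toPerm_apply, Perm.coe_one, id_eq] at h4
      have h5 : ((a * 1 : Perm α) : Perm α ⧸ H) = ((1 : Perm α) : Perm α ⧸ H) := h4
      rw [QuotientGroup.eq] at h5
      have h6 := H.inv_mem h5
      simpa using h6
    have hdvd := Subgroup.index_dvd_of_le hle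
    rw [alternatingGroup.index_eq_two] at hdvd
    have := Nat.le_of_dvd (by norm_num) hdvd
    omega

end Cfsg.Agent.Lib.Helper22.HsD
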