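import Mathlib

/-!
Hall subgroups of symmetric groups (toward S2536): the arithmetic lemma on binomial
coefficients `C(m+k,m)` without prime factors `≤ m` (2 ≤ k ≤ m forces (m,k) = (4,3)).
-/

set_option autoImplicit false

namespace Cfsg.Agent.Lib.Helper22.HsE

/-- hypothesis: no prime `≤ m` divides `C`. -/
def NoSmall (m C : ℕ) : Prop := ∀ r : ℕ, r.Prime → r ≤ m → ¬ r ∣ C

theorem coprime_of_noSmall {m C d : ℕ} (h : NoSmall m C) (hd : ∀ r : ℕ, r.Prime → r ∣ d → r ≤ m) :
    Nat.Coprime d C :=
  Nat.coprime_of_dvd fun r hr hrd => h r hr (hd r hr hrd)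

/-- pure number theory: the divisibility constraints force a short list. -/
theorem arith_list {m k : ℕ} (hk2 : 2 ≤ k) (hkm : k < m) (h1 : (k + 1) ∣ m)
    (h2 : (m + 2) ∣ k * (k - 1))
    (h3 : k + 2 ≤ m → (k + 2) ∣ m * (m - 1)) :
    (m = 4 ∧ k = 3) ∨ (m = 10 ∧ k = 9) ∨ (m = 10 ∧ k = 4) ∨ (m = 88 ∧ k = 10) := by
  obtain ⟨c, hc⟩ := h1
  have hkk : k * (k - 1) = (k + 1) * (k - 2) + 2 := by
    obtain ⟨j, rfl⟩ : ∃ j, k = j + 2 := ⟨k - 2, by omega⟩
    simp only [Nat.add_sub_cancel]
    have : j + 2 - 1 = j + 1 := by omega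
    rw [this]; ring
  have hpos : 0 < k * (k - 1) := by
    have : 1 ≤ k - 1 := by omega
    positivity
  have hle := Nat.le_of_dvd hpos h2
  have hc1 : 1 ≤ c := by
    rcases Nat.eq_zero_or_pos c with h | h
    · subst h; simp at hc; omega
    · exact h
  have hck : c ≤ k - 2 := by
    rw [hkk, hc] at hle
    have : (k + 1) * c ≤ (k + 1) * (k - 2) := by omega
    exact Nat.le_of_mul_le_mul_left this (by omega)
  obtain ⟨e, he⟩ : ∃ e, k = c + 2 + e := ⟨k - 2 - c, by omega⟩
  -- key divisibility
  have hkey : (m + 2) ∣ 2 * e := by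
    have hid : (k - 2) * (m + 2) = c * (k * (k - 1)) + 2 * e := by
      subst he
      have e1 : c + 2 + e - 2 = c + e := by omega
      have e2 : c + 2 + e - 1 = c + e + 1 := by omega
      rw [hc, e1, e2]; ring
    have hd1 : (m + 2) ∣ (k - 2) * (m + 2) := dvd_mul_left _ _
    rw [hid] at hd1
    exact (Nat.dvd_add_right (dvd_mul_of_dvd_right h2 c)).1 hd1
  rcases Nat.eq_zero_or_pos e with he0 | hepos
  · -- c = k - 2
    subst he0
    have hk : k = c + 2 := by omega
    subst hk
    rcases Nat.lt_or_ge c 2 with hc2 | hc2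
    · have : c = 1 := by omega
      subst this
      left; constructor <;> omega
    · -- k ≥ 4
      obtain ⟨t, rfl⟩ : ∃ t, c = t + 2 := ⟨c - 2, by omega⟩
      have hm : m = (t * t + 7 * t + 9) + 1 := by rw [hc]; ring
      have hk2m : t + 2 + 2 + 2 ≤ m := by rw [hm]; nlinarith
      have h3' := h3 hk2m
      have hm1 : m - 1 = t * t + 7 * t + 9 := by omega
      have hmm : m * (m - 1) = (t + 6) * ((t + 1) * ((t + 6) * (t + 1) + 7)) + 12 := by
        rw [hm1, hm]; ring
      rw [hmm, show t + 2 + 2 + 2 = t + 6 by ring] at h3'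
      have h12 : (t + 6) ∣ 12 := (Nat.dvd_add_right (dvd_mul_right _ _)).1 h3'
      have hle12 := Nat.le_of_dvd (by norm_num) h12
      have ht : t ≤ 6 := by omega
      interval_cases t
      · right; right; left
        constructor
        · rw [hm]
        · rfl
      · omega
      · omega
      · omega
      · omega
      · omega
      · right; right; right
        constructor
        · rw [hm]
        · rfl
  · -- c < k - 2: forces c = 1, k = 9
    have hle2 := Nat.le_of_dvd (by omega) hkey
    rw [hc, he] at hle2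
    have hc_eq : c = 1 := by
      by_contra hne
      have hc2 : 2 ≤ c := by omega
      nlinarith
    subst hc_eq
    have hm : m = k + 1 := by rw [hc]; ring
    have hk9 : 9 ≤ k := by omega
    have hd : (k + 3) ∣ 2 * (k - 3) := by
      have : m + 2 = k + 3 := by omega
      rw [this] at hkey
      have : e = k - 3 := by omega
      rwa [this] at hkey
    have hd2 : (k + 3) ∣ 2 * (k + 3) := dvd_mul_left _ _
    have h12 : (k + 3) ∣ 2 * (k + 3) - 2 * (k - 3) := Nat.dvd_sub hd2 hd
    have : 2 * (k + 3) - 2 * (k - 3) = 12 := by omega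
    rw [this] at h12
    have hle12 := Nat.le_of_dvd (by norm_num) h12
    have : k = 9 := by omega
    right; left
    constructor <;> omega

end Cfsg.Agent.Lib.Helper22.HsE

namespace Cfsg.Agent.Lib.Helper22.HsE

theorem prime_le_of_dvd_of_lt {r d m : ℕ} (hr : r.Prime) (hrd : r ∣ d) (hd0 : 0 < d)
    (hdm : d ≤ m + 1) (hnp : ¬ d.Prime) : r ≤ m := by
  have hle := Nat.le_of_dvd hd0 hrd
  by_contra hcon
  have : r = d := by omega
  exact hnp (this ▸ hr)

/-- **(AP)**: if `2 ≤ k ≤ m` and no prime `≤ m` divides `C(m+k,m)` then `(m,k) = (4,3)`. -/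
theorem ap_main {m k : ℕ} (hk2 : 2 ≤ k) (hkm : k ≤ m) (h : NoSmall m ((m + k).choose m)) :
    m = 4 ∧ k = 3 := by
  set n := m + k with hn
  set C := n.choose m with hC
  have hnm : n - m = k := by omega
  -- Step 1: m + 1 is prime
  have hid1 : n.choose (m + 1) * (m + 1) = C * k := by
    rw [Nat.choose_succ_right_eq, hnm]
  have hp1 : (m + 1).Prime := by
    by_contra hnp
    have hcop : Nat.Coprime (m + 1) C := coprime_of_noSmall h fun r hr hrd =>
      prime_le_of_dvd_of_lt hr hrd (by omega) le_rfl hnp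
    have hdvd : (m + 1) ∣ C * k := ⟨n.choose (m + 1), by rw [← hid1]; ring⟩
    have := Nat.le_of_dvd (by omega) (hcop.dvd_of_dvd_mul_left hdvd)
    omega
  have hm_even : Even m := by
    rcases hp1.eq_two_or_odd' with h2 | hodd
    · omega
    · rcases Nat.even_or_odd m with he | ho
      · exact he
      · exfalso
        have : Even (m + 1) := Nat.even_add_one.2 (Nat.not_even_iff_odd.2 ho)
        exact (Nat.not_even_iff_odd.2 hodd) this
  -- Step 2: k < m
  have hklt : k < m := by
    rcases Nat.lt_or_ge k m with hlt | hge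
    · exact hlt
    · exfalso
      have hkm' : k = m := le_antisymm hkm hge
      have h2 : 2 ∣ m.centralBinom := Nat.two_dvd_centralBinom_of_one_le (by omega)
      rw [Nat.centralBinom_eq_two_mul_choose] at h2
      have : C = (2 * m).choose m := by rw [hC, hn, hkm', two_mul]
      rw [← this] at h2
      exact h 2 Nat.prime_two (by omega) h2
  -- (k+1) ∣ m
  have hid2 : C * m = n.choose (m - 1) * (k + 1) := by
    have := Nat.choose_succ_right_eq n (m - 1)
    have hm1 : m - 1 + 1 = m := by omega
    rw [hm1] at this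
    rw [hC, this]
    congr 1; omega
  have hd1 : (k + 1) ∣ m := by
    have hcop : Nat.Coprime (k + 1) C := coprime_of_noSmall h fun r hr hrd => by
      have := Nat.le_of_dvd (by omega) hrd
      omega
    exact hcop.dvd_of_dvd_mul_left ⟨n.choose (m - 1), by rw [hid2]; ring⟩
  -- (m+2) ∣ k (k-1)
  have hid3 : n.choose (m + 2) * (m + 2) * (m + 1) = C * (k * (k - 1)) := by
    have h3 := Nat.choose_succ_right_eq n (m + 1)
    have : n - (m + 1) = k - 1 := by omega
    rw [this] at h3
    calc n.choose (m + 2) * (m + 2) * (m + 1)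
        = n.choose (m + 1) * (k - 1) * (m + 1) := by rw [h3]
      _ = n.choose (m + 1) * (m + 1) * (k - 1) := by ring
      _ = C * k * (k - 1) := by rw [hid1]
      _ = C * (k * (k - 1)) := by ring
  have hd2 : (m + 2) ∣ k * (k - 1) := by
    have hcop : Nat.Coprime (m + 2) C := coprime_of_noSmall h fun r hr hrd => by
      obtain ⟨j, hj⟩ := hm_even
      have hm2 : m + 2 = 2 * (j + 1) := by omega
      rw [hm2] at hrd
      rcases (Nat.Prime.dvd_mul hr).1 hrd with h2 | hj1
      · have := Nat.le_of_dvd (by norm_num) h2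
        omega
      · have := Nat.le_of_dvd (by omega) hj1
        omega
    exact hcop.dvd_of_dvd_mul_left
      ⟨n.choose (m + 2) * (m + 1), by rw [← hid3]; ring⟩
  -- (k+2) ∣ m (m-1) when k + 2 ≤ m
  have hd3 : k + 2 ≤ m → (k + 2) ∣ m * (m - 1) := by
    intro hk2m
    have h4 := Nat.choose_succ_right_eq n (m - 2)
    have e1 : m - 2 + 1 = m - 1 := by omega
    have e2 : n - (m - 2) = k + 2 := by omega
    rw [e1, e2] at h4
    have hid4 : C * (m * (m - 1)) = n.choose (m - 2) * (k + 2) * (k + 1) := by
      calc C * (m * (m - 1)) = C * m * (m - 1) := by ring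
        _ = n.choose (m - 1) * (k + 1) * (m - 1) := by rw [hid2]
        _ = n.choose (m - 1) * (m - 1) * (k + 1) := by ring
        _ = n.choose (m - 2) * (k + 2) * (k + 1) := by rw [h4]
    have hcop : Nat.Coprime (k + 2) C := coprime_of_noSmall h fun r hr hrd => by
      have := Nat.le_of_dvd (by omega) hrd
      omega
    exact hcop.dvd_of_dvd_mul_left ⟨n.choose (m - 2) * (k + 1), by rw [hid4]; ring⟩
  rcases arith_list hk2 hklt hd1 hd2 hd3 with h43 | ⟨rfl, rfl⟩ | ⟨rfl, rfl⟩ | ⟨rfl, rfl⟩
  · exact h43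
  · exfalso
    have : C = 92378 := by
      rw [hC, hn]; norm_num [Nat.choose_eq_factorial_div_factorial, Nat.factorial]
    exact h 2 Nat.prime_two (by norm_num) (by rw [this]; norm_num)
  · exfalso
    have : C = 1001 := by
      rw [hC, hn]; norm_num [Nat.choose_eq_factorial_div_factorial, Nat.factorial]
    exact h 7 (by norm_num) (by norm_num) (by rw [this]; norm_num)
  · exfalso
    have : C = 14005614014756 := by
      rw [hC, hn]; norm_num [Nat.choose_eq_factorial_div_factorial, Nat.factorial]
    exact h 13 (by norm_num) (by norm_num) (by rw [this]; norm_num)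

end Cfsg.Agent.Lib.Helper22.HsE
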