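import Mathlib
import Cfsg.Agent.Lib.Helper22.HsA
import Cfsg.Agent.Lib.Helper22.HsE

/-!
Hall subgroups of symmetric groups (toward S2536): the arithmetic of the intransitive case.
-/

set_option autoImplicit false

namespace Cfsg.Agent.Lib.Helper22.HsF

open Cfsg.Agent.Lib.Helper22.HsA Cfsg.Agent.Lib.Helper22.HsE

/-- two distinct primes of `π` are at most `n`. -/
def TwoPrimes (π : Set ℕ) (n : ℕ) : Prop :=
  ∃ r s : ℕ, r.Prime ∧ s.Prime ∧ r ≠ s ∧ r ∈ π ∧ s ∈ π ∧ r ≤ n ∧ s ≤ n

/-- some prime `≤ n` is not in `π`. -/
def NotFull (π : Set ℕ) (n : ℕ) : Prop := ∃ r : ℕ, r.Prime ∧ r ≤ n ∧ r ∉ π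

/-- the conclusion of the Hall–Thompson theorem. -/
def Concl (π : Set ℕ) (n : ℕ) : Prop :=
  (n.Prime ∧ ∀ r : ℕ, r.Prime → r ≤ n → (r ∈ π ↔ r < n)) ∨
    ((n = 7 ∨ n = 8) ∧ ∀ r : ℕ, r.Prime → r ≤ n → (r ∈ π ↔ (r = 2 ∨ r = 3)))

theorem twoPrimes_three_le {π : Set ℕ} {n : ℕ} (h : TwoPrimes π n) : 3 ≤ n := by
  obtain ⟨r, s, hr, hs, hrs, -, -, hrn, hsn⟩ := h
  have := hr.two_le
  have := hs.two_le
  omega

theorem full_of_not_notFull {π : Set ℕ} {n : ℕ} (h : ¬ NotFull π n) :
    ∀ r : ℕ, r.Prime → r ≤ n → r ∈ π := by
  intro r hr hrn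
  by_contra hc
  exact h ⟨r, hr, hrn, hc⟩

theorem prime_of_noSmall_self {m : ℕ} (hm : 1 ≤ m) (h : NoSmall m (m + 1)) : (m + 1).Prime := by
  by_contra hnp
  have h2 : m + 1 ≠ 1 := by omega
  have hmf := Nat.minFac_prime h2
  have hdvd := Nat.minFac_dvd (m + 1)
  have hle := Nat.minFac_le (n := m + 1) (by omega)
  have hne : (m + 1).minFac ≠ m + 1 := fun heq => hnp (heq ▸ hmf)
  exact h _ hmf (by omega) hdvd

theorem two_dvd_choose_odd {m : ℕ} (hm : 1 ≤ m) (heven : Even m) :
    2 ∣ (2 * m + 1).choose m := by
  have h1 := Nat.add_one_mul_choose_eq (2 * m) m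
  have hsymm : (2 * m + 1).choose (m + 1) = (2 * m + 1).choose m := by
    apply Nat.choose_symm_of_eq_add; omega
  have hcb : 2 ∣ (2 * m).choose m := by
    rw [← Nat.centralBinom_eq_two_mul_choose]
    exact Nat.two_dvd_centralBinom_of_one_le hm
  have h2 : 2 ∣ (2 * m + 1).choose m * (m + 1) := by
    rw [← hsymm]
    rw [← h1]
    exact dvd_mul_of_dvd_right hcb _
  rcases (Nat.Prime.dvd_mul Nat.prime_two).1 h2 with h | h
  · exact h
  · exfalso
    obtain ⟨j, hj⟩ := heven
    omega

end Cfsg.Agent.Lib.Helper22.HsF

namespace Cfsg.Agent.Lib.Helper22.HsF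

open Cfsg.Agent.Lib.Helper22.HsA Cfsg.Agent.Lib.Helper22.HsE

theorem choose_small_even_or_three (k : ℕ) (hk1 : 1 ≤ k) (hk8 : k ≤ 8) :
    2 ∣ (8 + k).choose 8 ∨ 3 ∣ (8 + k).choose 8 := by
  interval_cases k
  · right; decide
  · right; decide
  · right; decide
  · right; decide
  · right; decide
  · right; decide
  · right; decide
  · left; decide

/-- sub-case: the distinguished orbit has size 8 with `σ = {2,3}`. -/
theorem caseI_eight (π : Set ℕ) (E : ℕ → Prop) (N : ℕ)
    (IH : ∀ j < N, E j → TwoPrimes π j → NotFull π j → Concl π j)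
    (k : ℕ) (hmk : 8 + k = N) (hk1 : 1 ≤ k) (hEk : E k)
    (hC : piPrime π (N.choose 8))
    (hσ : ∀ r : ℕ, r.Prime → r ≤ N → (r ∈ π ↔ (r = 2 ∨ r = 3))) : False := by
  have h2π : 2 ∈ π := (hσ 2 Nat.prime_two (by omega)).2 (Or.inl rfl)
  have h3π : 3 ∈ π := (hσ 3 Nat.prime_three (by omega)).2 (Or.inr rfl)
  rcases Nat.lt_or_ge k 9 with hk | hk
  · rcases choose_small_even_or_three k hk1 (by omega) with h | h
    · exact hC 2 Nat.prime_two h2π (by rw [← hmk]; exact h)
    · exact hC 3 Nat.prime_three h3π (by rw [← hmk]; exact h)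
  · have h5 : (5 : ℕ) ∉ π := by
      intro h
      have := (hσ 5 (by norm_num) (by omega)).1 h
      omega
    have hc := IH k (by omega) hEk
      ⟨2, 3, Nat.prime_two, Nat.prime_three, by norm_num, h2π, h3π, by omega, by omega⟩
      ⟨5, by norm_num, by omega, h5⟩
    rcases hc with ⟨-, h⟩ | ⟨h, -⟩
    · exact h5 ((h 5 (by norm_num) (by omega)).2 (by omega))
    · omega

/-- **Arithmetic of the intransitive case.** -/
theorem caseI (π : Set ℕ) (E : ℕ → Prop) (N : ℕ)
    (IH : ∀ j < N, E j → TwoPrimes π j → NotFull π j → Concl π j)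
    (m k : ℕ) (hmk : m + k = N) (hk1 : 1 ≤ k) (hEm : E m) (hEk : E k)
    (hmπ : piNum π m) (hC : piPrime π (N.choose m))
    (hrm : ∀ r : ℕ, r.Prime → r ≤ N → r ∈ π → r ≤ m) (h2 : TwoPrimes π N) : Concl π N := by
  have h2m : TwoPrimes π m := by
    obtain ⟨r, s, hr, hs, hrs, hrπ, hsπ, hrn, hsn⟩ := h2
    exact ⟨r, s, hr, hs, hrs, hrπ, hsπ, hrm r hr hrn hrπ, hrm s hs hsn hsπ⟩
  have hm3 : 3 ≤ m := twoPrimes_three_le h2m
  by_cases hfull : NotFull π m
  · -- (I-a)
    exfalso
    rcases IH m (by omega) hEm h2m hfull with ⟨hmp, h⟩ | ⟨h78, h⟩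
    · have := (h m hmp le_rfl).1 (hmπ m hmp dvd_rfl)
      omega
    · rcases h78 with h7 | h8
      · subst h7
        have := (h 7 (by norm_num) le_rfl).1 (hmπ 7 (by norm_num) dvd_rfl)
        omega
      · subst h8
        refine caseI_eight π E N IH k hmk hk1 hEk hC ?_
        intro r hr hrN
        constructor
        · intro hrπ
          exact (h r hr (hrm r hr hrN hrπ)).1 hrπ
        · intro h23
          exact (h r hr (by rcases h23 with rfl | rfl <;> omega)).2 h23
  · -- (I-b)
    have hfm := full_of_not_notFull hfull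
    have hNS : NoSmall m (N.choose m) := fun r hr hrm' => hC r hr (hfm r hr hrm')
    rcases Nat.lt_or_ge m k with hkm | hkm
    · -- k > m
      by_cases hfk : NotFull π k
      · have h2k : TwoPrimes π k := by
          obtain ⟨r, s, hr, hs, hrs, hrπ, hsπ, hrn, hsn⟩ := h2m
          exact ⟨r, s, hr, hs, hrs, hrπ, hsπ, by omega, by omega⟩
        rcases IH k (by omega) hEk h2k hfk with ⟨hkp, h⟩ | ⟨h78, h⟩
        · exfalso
          -- m + 1 = k
          have hNm : N - m = k := by omega
          have hid1 : N.choose (m + 1) * (m + 1) = N.choose m * k := by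
            rw [Nat.choose_succ_right_eq, hNm]
          have hm1k : m + 1 = k := by
            by_contra hne
            have hlt : m + 1 < k := by omega
            have hnp : ¬ (m + 1).Prime := by
              intro hp
              have := hrm (m + 1) hp (by omega) ((h (m + 1) hp (by omega)).2 hlt)
              omega
            have hcop : Nat.Coprime (m + 1) (N.choose m) := coprime_of_noSmall hNS fun r hr hrd =>
              prime_le_of_dvd_of_lt hr hrd (by omega) le_rfl hnp
            have hdvd : (m + 1) ∣ N.choose m * k := ⟨N.choose (m + 1), by rw [← hid1]; ring⟩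
            have hdk := hcop.dvd_of_dvd_mul_left hdvd
            rcases (Nat.dvd_prime hkp).1 hdk with h1 | h1 <;> omega
          have hodd : Odd k := by
            rcases hkp.eq_two_or_odd' with h2' | ho
            · omega
            · exact ho
          have heven : Even m := by
            rcases Nat.even_or_odd m with he | ho
            · exact he
            · exfalso
              have : Even (m + 1) := Nat.even_add_one.2 (Nat.not_even_iff_odd.2 ho)
              rw [hm1k] at this
              exact (Nat.not_even_iff_odd.2 hodd) this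
          have hN : N = 2 * m + 1 := by omega
          have := two_dvd_choose_odd (m := m) (by omega) heven
          rw [← hN] at this
          exact hC 2 Nat.prime_two (hfm 2 Nat.prime_two (by omega)) this
        · exfalso
          have h5 : m < 5 := by
            by_contra hge
            have h5π := hfm 5 (by norm_num) (by omega)
            have := (h 5 (by norm_num) (by omega)).1 h5π
            omega
          have h2π := hfm 2 Nat.prime_two (by omega)
          have h3π := hfm 3 Nat.prime_three (by omega)
          have hm34 : m = 3 ∨ m = 4 := by omega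
          rcases hm34 with rfl | rfl <;> rcases h78 with rfl | rfl
          · exact hC 2 Nat.prime_two h2π (by rw [← hmk]; decide)
          · exact hC 3 Nat.prime_three h3π (by rw [← hmk]; decide)
          · exact hC 2 Nat.prime_two h2π (by rw [← hmk]; decide)
          · exact hC 3 Nat.prime_three h3π (by rw [← hmk]; decide)
      · -- full k
        have hfk' := full_of_not_notFull hfk
        have hsymm : (k + m).choose k = N.choose m := by
          rw [← hmk, add_comm k m]
          apply Nat.choose_symm_of_eq_add; omega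
        have hNSk : NoSmall k ((k + m).choose k) := by
          intro r hr hrk
          rw [hsymm]
          exact hC r hr (hfk' r hr hrk)
        obtain ⟨hk4, hm3'⟩ := ap_main (by omega) hkm.le hNSk
        subst hk4; subst hm3'
        right
        refine ⟨Or.inl (by omega), ?_⟩
        intro r hr hrN
        constructor
        · intro hrπ
          have hr3 := hrm r hr hrN hrπ
          have := hr.two_le
          omega
        · intro h23
          exact hfm r hr (by rcases h23 with rfl | rfl <;> omega)
    · -- k ≤ m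
      rcases Nat.lt_or_ge k 2 with hk2 | hk2
      · have hk : k = 1 := by omega
        subst hk
        have hNS' : NoSmall m (m + 1) := by
          intro r hr hrm'
          have := hNS r hr hrm'
          rwa [← hmk, Nat.choose_succ_self_right] at this
        have hNp : N.Prime := by rw [← hmk]; exact prime_of_noSmall_self (by omega) hNS'
        left
        refine ⟨hNp, ?_⟩
        intro r hr hrN
        constructor
        · intro hrπ
          have := hrm r hr hrN hrπ
          omega
        · intro hlt
          exact hfm r hr (by omega)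
      · have hNS'' : NoSmall m ((m + k).choose m) := by rw [hmk]; exact hNS
        obtain ⟨hm4, hk3⟩ := ap_main hk2 hkm hNS''
        subst hm4; subst hk3
        right
        refine ⟨Or.inl (by omega), ?_⟩
        intro r hr hrN
        constructor
        · intro hrπ
          have hr4 := hrm r hr hrN hrπ
          have h2le := hr.two_le
          have hne4 : r ≠ 4 := by
            rintro rfl
            norm_num at hr
          omega
        · intro h23
          exact hfm r hr (by rcases h23 with rfl | rfl <;> omega)

end Cfsg.Agent.Lib.Helper22.HsF
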