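import Mathlib
import Cfsg.Agent.Lib.Helper22.HsA
import Cfsg.Agent.Lib.Helper22.HsB
import Cfsg.Agent.Lib.Helper22.HsC
import Cfsg.Agent.Lib.Helper22.HsD
import Cfsg.Agent.Lib.Helper22.HsF

/-!
Hall subgroups of symmetric groups (toward S2536): the main induction (Hall–Thompson).
-/

set_option autoImplicit false

namespace Cfsg.Agent.Lib.Helper22.HsG

open Equiv MulAction Cfsg.Agent.Lib.Helper22.HsA Cfsg.Agent.Lib.Helper22.HsB
  Cfsg.Agent.Lib.Helper22.HsC Cfsg.Agent.Lib.Helper22.HsD Cfsg.Agent.Lib.Helper22.HsF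

/-- some symmetric group of degree `j` has a Hall `π`-subgroup. -/
def E (π : Set ℕ) (j : ℕ) : Prop :=
  ∃ (β : Type) (_ : Finite β) (K : Subgroup (Perm β)), Nat.card β = j ∧ Cfsg.IsPiHall π K

/-- the intransitive case. -/
theorem intransitive_case (π : Set ℕ) (N : ℕ)
    (IH : ∀ j < N, E π j → TwoPrimes π j → NotFull π j → Concl π j)
    {α : Type} [Fintype α] [DecidableEq α] (hcard : Nat.card α = N)
    (H : Subgroup (Perm α)) (hH : Cfsg.IsPiHall π H) (htr : ¬ IsPretransitive H α)
    (h2 : TwoPrimes π N) : Concl π N := by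
  classical
  -- the largest prime of π up to N
  let P : ℕ → Prop := fun r => r.Prime ∧ r ∈ π
  obtain ⟨r0, s0, hr0, hs0, hrs0, hr0π, hs0π, hr0N, hs0N⟩ := h2
  set rs := Nat.findGreatest P N with hrs
  have hrsP : P rs := Nat.findGreatest_spec (P := P) hr0N ⟨hr0, hr0π⟩
  have hrsN : rs ≤ N := Nat.findGreatest_le N
  have hmax : ∀ r : ℕ, r.Prime → r ≤ N → r ∈ π → r ≤ rs := fun r hr hrN hrπ =>
    Nat.le_findGreatest hrN ⟨hr, hrπ⟩
  have hcardF : Fintype.card α = N := by rw [← Nat.card_eq_fintype_card]; exact hcard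
  obtain ⟨c, hcH, hcc, hcs⟩ := exists_cycle_mem π H hH hrsP.1 hrsP.2 (by rw [hcardF]; exact hrsN)
  obtain ⟨a, ha⟩ : c.support.Nonempty := by
    rw [← Finset.card_pos, hcs]; exact hrsP.1.pos
  obtain ⟨S, T, hS, hST, hH1, hH2, hC, hsum, hdvd⟩ := orbit_restrict π H hH a
  -- support of c inside the orbit
  have hsub : (c.support : Set α) ⊆ (S : Set α) := by
    intro y hy
    rw [hS]
    have hy' : y ∈ c.support := hy
    obtain ⟨i, hi⟩ := hcc.exists_zpow_eq (Equiv.Perm.mem_support.1 ha) (Equiv.Perm.mem_support.1 hy')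
    refine ⟨⟨c, hcH⟩ ^ i, ?_⟩
    show ((⟨c, hcH⟩ : H) ^ i) • a = y
    rw [← hi]
    rfl
  have hm : rs ≤ Nat.card S := by
    have h1 : Nat.card S = (S : Set α).ncard := Nat.card_coe_set_eq (S : Set α)
    rw [← hcs, ← Set.ncard_coe_finset, h1]
    exact Set.ncard_le_ncard hsub (Set.toFinite _)
  obtain ⟨y, hy⟩ := exists_notMem_orbit H htr a
  have hk1 : 1 ≤ Nat.card T := by
    have hyT : y ∈ T := (hST y).2 (by
      intro hyS
      have : y ∈ (S : Set α) := hyS
      rw [hS] at this
      exact hy this)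
    have : Nonempty T := ⟨⟨y, hyT⟩⟩
    exact Nat.card_pos
  have hEm : E π (Nat.card S) := ⟨S, inferInstance, img H S, rfl, hH1⟩
  have hEk : E π (Nat.card T) := ⟨T, inferInstance, img H T, rfl, hH2⟩
  have hmπ : piNum π (Nat.card S) := piNum_of_dvd hdvd hH.1
  rw [hcard] at hsum hC
  exact caseI π (E π) N IH (Nat.card S) (Nat.card T) hsum hk1 hEm hEk hmπ hC
    (fun r hr hrN hrπ => (hmax r hr hrN hrπ).trans hm)
    ⟨r0, s0, hr0, hs0, hrs0, hr0π, hs0π, hr0N, hs0N⟩

end Cfsg.Agent.Lib.Helper22.HsG

namespace Cfsg.Agent.Lib.Helper22.HsG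

open Equiv MulAction Cfsg.Agent.Lib.Helper22.HsA Cfsg.Agent.Lib.Helper22.HsB
  Cfsg.Agent.Lib.Helper22.HsC Cfsg.Agent.Lib.Helper22.HsD Cfsg.Agent.Lib.Helper22.HsF

theorem pretransitive_of_img {G : Type*} [Group G] {β : Type*} [MulAction G β]
    (h : IsPretransitive (img G β) β) : IsPretransitive G β := by
  constructor
  intro u v
  obtain ⟨d, hd⟩ := h.exists_smul_eq u v
  obtain ⟨d, ⟨g, rfl⟩⟩ := d
  exact ⟨g, hd⟩

theorem choose_eight_even (j : ℕ) (h1 : 1 ≤ j) (h7 : j ≤ 7) : 2 ∣ Nat.choose 8 j := by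
  interval_cases j <;> decide

/-- degree 9 with `σ = {2,3}`: a transitive Hall subgroup would be primitive. -/
theorem nine_case (π : Set ℕ) {α : Type} [Fintype α] [DecidableEq α]
    (hcard : Fintype.card α = 9) (H : Subgroup (Perm α)) (hH : Cfsg.IsPiHall π H)
    [IsPretransitive H α] (h2π : 2 ∈ π) (x : α)
    (hD : Cfsg.IsPiHall π (img (stabilizer H x) (SubMulAction.ofStabilizer H x))) :
    ∀ p : ℕ, p.Prime → p ≤ 9 → p ∈ π := by
  classical
  have hβ : Nat.card (SubMulAction.ofStabilizer H x) = 8 := by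
    have := SubMulAction.nat_card_ofStabilizer_add_one_eq H x
    rw [Nat.card_eq_fintype_card (α := α), hcard] at this
    omega
  have htr : IsPretransitive (stabilizer H x) (SubMulAction.ofStabilizer H x) := by
    apply pretransitive_of_img
    by_contra hnot
    have hne : Nonempty (SubMulAction.ofStabilizer H x) := by
      rw [← Finite.card_pos_iff, hβ]; norm_num
    obtain ⟨b⟩ := hne
    obtain ⟨S, T, hS, hST, -, -, hC, hsum, -⟩ := orbit_restrict π _ hD b
    obtain ⟨y, hy⟩ := exists_notMem_orbit _ hnot b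
    have hk1 : 1 ≤ Nat.card T := by
      have hyT : y ∈ T := (hST y).2 (by
        intro hyS
        have : y ∈ (S : Set _) := hyS
        rw [hS] at this
        exact hy this)
      have : Nonempty T := ⟨⟨y, hyT⟩⟩
      exact Nat.card_pos
    have hm1 : 1 ≤ Nat.card S := by
      have hbS : b ∈ (S : Set _) := by rw [hS]; exact mem_orbit_self b
      have : Nonempty S := ⟨⟨b, hbS⟩⟩
      exact Nat.card_pos
    rw [hβ] at hsum hC
    exact hC 2 Nat.prime_two h2π (choose_eight_even _ hm1 (by omega))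
  have h2t : IsMultiplyPretransitive H α 2 := by
    rw [show (2 : ℕ) = Nat.succ 1 from rfl,
      SubMulAction.ofStabilizer.isMultiplyPretransitive (a := x), is_one_pretransitive_iff]
    exact htr
  have hprim : IsPreprimitive H α := isPreprimitive_of_is_two_pretransitive h2t
  intro p hp hp9
  exact primitive_full π H hH hprim Nat.prime_two (by norm_num : 2 < 3) h2π
    (by rw [hcard]; norm_num) p hp (by rw [hcard]; exact hp9)

end Cfsg.Agent.Lib.Helper22.HsG

namespace Cfsg.Agent.Lib.Helper22.HsG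

open Equiv MulAction Cfsg.Agent.Lib.Helper22.HsA Cfsg.Agent.Lib.Helper22.HsB
  Cfsg.Agent.Lib.Helper22.HsC Cfsg.Agent.Lib.Helper22.HsD Cfsg.Agent.Lib.Helper22.HsF

/-- the transitive case. -/
theorem transitive_case (π : Set ℕ) (N : ℕ)
    (IH : ∀ j < N, E π j → TwoPrimes π j → NotFull π j → Concl π j)
    {α : Type} [Fintype α] [DecidableEq α] (hcard : Nat.card α = N)
    (H : Subgroup (Perm α)) (hH : Cfsg.IsPiHall π H) (htr : IsPretransitive H α)
    (h2 : TwoPrimes π N) (hns : NotFull π N) : Concl π N := by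
  classical
  have hN3 : 3 ≤ N := twoPrimes_three_le h2
  have hcardF : Fintype.card α = N := by rw [← Nat.card_eq_fintype_card]; exact hcard
  obtain ⟨r0, s0, hr0, hs0, hrs0, hr0π, hs0π, hr0N, hs0N⟩ := h2
  obtain ⟨q, hq, hqN, hqπ⟩ := hns
  -- full is contradictory
  have hfullc : (∀ p : ℕ, p.Prime → p ≤ N → p ∈ π) → False := fun h => hqπ (h q hq hqN)
  by_cases hNp : N.Prime
  · exfalso
    have hprim : IsPreprimitive H α := IsPreprimitive.of_prime_card (by rw [hcard]; exact hNp)
    apply hfullc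
    rcases lt_or_gt_of_ne hrs0 with hlt | hlt
    · have := primitive_full π H hH hprim hr0 hlt hr0π (by rw [hcardF]; exact hs0N)
      rwa [hcardF] at this
    · have := primitive_full π H hH hprim hs0 hlt hs0π (by rw [hcardF]; exact hr0N)
      rwa [hcardF] at this
  · have hne : Nonempty α := by
      rw [← Finite.card_pos_iff, hcard]; omega
    obtain ⟨x⟩ := hne
    obtain ⟨hD, hNπ, hidx⟩ := hall_stabilizer π H hH x
    have hβ : Nat.card (SubMulAction.ofStabilizer H x) = N - 1 := by
      have := SubMulAction.nat_card_ofStabilizer_add_one_eq H x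
      rw [hcard] at this
      omega
    have hE : E π (N - 1) := ⟨_, inferInstance, _, hβ, hD⟩
    have hlt : ∀ r : ℕ, r.Prime → r ≤ N → r ≤ N - 1 := by
      intro r hr hrN
      have : r ≠ N := fun h => hNp (h ▸ hr)
      omega
    have h2' : TwoPrimes π (N - 1) :=
      ⟨r0, s0, hr0, hs0, hrs0, hr0π, hs0π, hlt r0 hr0 hr0N, hlt s0 hs0 hs0N⟩
    have hns' : NotFull π (N - 1) := ⟨q, hq, hlt q hq hqN, hqπ⟩
    rcases IH (N - 1) (by omega) hE h2' hns' with ⟨hp, hσ⟩ | ⟨h78, hσ⟩
    · -- (T1): index N - 1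
      exfalso
      set I := H.index with hI
      have hDI : Nat.card (img (stabilizer H x) (SubMulAction.ofStabilizer H x)) * I
          = (N - 1).factorial := by
        rw [← hidx, ← hβ]; exact card_mul_index_perm _
      -- N - 1 ≥ 5
      have hN5 : 5 ≤ N - 1 := by
        by_contra hcon
        have hr0' := (hσ r0 hr0 (hlt r0 hr0 hr0N)).1 hr0π
        have hs0' := (hσ s0 hs0 (hlt s0 hs0 hs0N)).1 hs0π
        have := hr0.two_le
        have := hs0.two_le
        have h4 : ¬ (4 : ℕ).Prime := by norm_num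
        have hr4 : r0 ≠ 4 := fun h => h4 (h ▸ hr0)
        have hs4 : s0 ≠ 4 := fun h => h4 (h ▸ hs0)
        have hN4 : N - 1 ≠ 4 := fun h => h4 (h ▸ hp)
        omega
      have h2π : 2 ∈ π := (hσ 2 Nat.prime_two (by omega)).2 (by omega)
      have hfac : (N - 1).factorial = (N - 1) * (N - 2).factorial := by
        obtain ⟨j, hj⟩ : ∃ j, N - 1 = j + 1 := ⟨N - 2, by omega⟩
        rw [hj, Nat.factorial_succ]
        congr 2
        omega
      have hcop : Nat.Coprime I (N - 2).factorial := by
        apply Nat.coprime_of_dvd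
        intro p hp' hpI hpf
        have hple : p ≤ N - 2 := (Nat.Prime.dvd_factorial hp').1 hpf
        have hpπ : p ∈ π := (hσ p hp' (by omega)).2 (by omega)
        exact hH.2 p hp' hpπ hpI
      have hIdvd : I ∣ N - 1 := by
        have : I ∣ (N - 1) * (N - 2).factorial := by
          rw [← hfac, ← hDI]; exact dvd_mul_left _ _
        exact hcop.dvd_of_dvd_mul_right this
      have hI1 : I ≠ 1 := by
        intro h1
        apply hfullc
        have htop : H = ⊤ := Subgroup.index_eq_one.1 h1
        intro p hp' hpN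
        apply hH.1 p hp'
        rw [htop, Subgroup.card_top, Nat.card_perm, hcard]
        exact (Nat.Prime.dvd_factorial hp').2 hpN
      have hIeq : I = N - 1 := by
        rcases (Nat.dvd_prime hp).1 hIdvd with h | h
        · exact absurd h hI1
        · exact h
      exact no_index_between H (by rw [hcardF]; omega) (by rw [← hI, hIeq]; omega)
        (by rw [← hI, hIeq, hcardF]; omega)
    · rcases h78 with h7 | h8
      · -- N = 8
        right
        refine ⟨Or.inr (by omega), ?_⟩
        intro r hr hrN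
        exact hσ r hr (hlt r hr hrN)
      · -- N = 9
        exfalso
        have hN9 : N = 9 := by omega
        have h2π : 2 ∈ π := (hσ 2 Nat.prime_two (by omega)).2 (Or.inl rfl)
        apply hfullc
        have := nine_case π (by rw [hcardF, hN9]) H hH h2π x hD
        rw [hN9]; exact this

/-- **Hall–Thompson**: if a symmetric group of degree `N` has a Hall `π`-subgroup, `π`
contains two primes `≤ N` but not all of them, then `N` is prime and `π` consists of the
primes `< N`, or `N ∈ {7, 8}` and `π ∩ [1,N] = {2,3}`. -/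
theorem main (π : Set ℕ) : ∀ N : ℕ, E π N → TwoPrimes π N → NotFull π N → Concl π N := by
  intro N
  induction N using Nat.strong_induction_on with
  | _ N IH =>
    rintro ⟨α, hfin, H, hcard, hH⟩ h2 hns
    classical
    have := Fintype.ofFinite α
    by_cases htr : IsPretransitive H α
    · exact transitive_case π N IH hcard H hH htr h2 hns
    · exact intransitive_case π N IH hcard H hH htr h2

end Cfsg.Agent.Lib.Helper22.HsG
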