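import Mathlib
import Cfsg.Agent.Lib.Helper22.HsA

/-!
Hall subgroups of symmetric groups (toward S2536): the constructions (point stabilizer,
`S₃ × S₄ ≤ S₇`, `S₄ ≀ S₂ ≤ S₈`).
-/

set_option autoImplicit false

namespace Cfsg.Agent.Lib.Helper22.HsH

open Equiv MulAction Cfsg.Agent.Lib.Helper22.HsA

theorem isPiHall_range_of_injective {π : Set ℕ} {G₀ : Type*} [Group G₀] {α : Type} [Finite α]
    (f : G₀ →* Perm α) (hf : Function.Injective f) (hM : piNum π (Nat.card G₀))
    (hI : piPrime π ((Nat.card α).factorial / Nat.card G₀)) : Cfsg.IsPiHall π f.range := by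
  have hcard : Nat.card f.range = Nat.card G₀ :=
    (Nat.card_congr (MonoidHom.ofInjective hf).toEquiv).symm
  refine ⟨?_, ?_⟩
  · rw [hcard]; exact hM
  · rw [index_perm_eq, hcard]; exact hI

theorem prime_dvd_two_pow_mul_three_pow {p a b : ℕ} (hp : p.Prime) (h : p ∣ 2 ^ a * 3 ^ b) :
    p = 2 ∨ p = 3 := by
  rcases (Nat.Prime.dvd_mul hp).1 h with h2 | h3
  · left
    exact (Nat.prime_dvd_prime_iff_eq hp Nat.prime_two).1 (hp.dvd_of_dvd_pow h2)
  · right
    exact (Nat.prime_dvd_prime_iff_eq hp Nat.prime_three).1 (hp.dvd_of_dvd_pow h3)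

theorem prime_dvd_thirtyfive {p : ℕ} (hp : p.Prime) (h : p ∣ 35) : p = 5 ∨ p = 7 := by
  have h' : p ∣ 5 * 7 := by norm_num; exact h
  rcases (Nat.Prime.dvd_mul hp).1 h' with h5 | h7
  · left
    exact (Nat.prime_dvd_prime_iff_eq hp (by norm_num)).1 h5
  · right
    exact (Nat.prime_dvd_prime_iff_eq hp (by norm_num)).1 h7

/-- construction for degree 7. -/
theorem exists_hall_seven (π : Set ℕ)
    (hσ : ∀ r : ℕ, r.Prime → r ≤ 7 → (r ∈ π ↔ (r = 2 ∨ r = 3))) :
    ∃ H : Subgroup (Perm (Fin 7)), Cfsg.IsPiHall π H := by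
  let e : Fin 3 ⊕ Fin 4 ≃ Fin 7 := finSumFinEquiv
  let f : Perm (Fin 3) × Perm (Fin 4) →* Perm (Fin 7) :=
    (e.permCongrHom.toMonoidHom).comp (Equiv.Perm.sumCongrHom (Fin 3) (Fin 4))
  have hf : Function.Injective f :=
    (e.permCongrHom.injective).comp Equiv.Perm.sumCongrHom_injective
  refine ⟨f.range, isPiHall_range_of_injective f hf ?_ ?_⟩
  · have hc : Nat.card (Perm (Fin 3) × Perm (Fin 4)) = 2 ^ 4 * 3 ^ 2 := by
      rw [Nat.card_prod, Nat.card_perm, Nat.card_perm]; simp [Nat.factorial]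
    rw [hc]
    intro p hp hpd
    rcases prime_dvd_two_pow_mul_three_pow hp hpd with rfl | rfl
    · exact (hσ 2 hp (by norm_num)).2 (Or.inl rfl)
    · exact (hσ 3 hp (by norm_num)).2 (Or.inr rfl)
  · have hc : (Nat.card (Fin 7)).factorial / Nat.card (Perm (Fin 3) × Perm (Fin 4)) = 35 := by
      rw [Nat.card_prod, Nat.card_perm, Nat.card_perm]; simp [Nat.factorial]
    rw [hc]
    intro p hp hpπ hpd
    rcases prime_dvd_thirtyfive hp hpd with rfl | rfl
    · have := (hσ 5 hp (by norm_num)).1 hpπ; omega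
    · have := (hσ 7 hp (by norm_num)).1 hpπ; omega

/-- construction for degree 8. -/
theorem exists_hall_eight (π : Set ℕ)
    (hσ : ∀ r : ℕ, r.Prime → r ≤ 8 → (r ∈ π ↔ (r = 2 ∨ r = 3))) :
    ∃ H : Subgroup (Perm (Fin 8)), Cfsg.IsPiHall π H := by
  let Q := Multiplicative (ZMod 2)
  have hQ : Nat.card Q = 2 := by
    show Nat.card (Multiplicative (ZMod 2)) = 2
    rw [Nat.card_eq_fintype_card, Fintype.card_multiplicative, ZMod.card]
  have hcard8 : Nat.card (Fin 4 × Q) = 8 := by
    rw [Nat.card_prod, hQ]; simp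
  have hfin : Finite (Fin 4 × Q) := Nat.finite_of_card_ne_zero (by rw [hcard8]; norm_num)
  have e : Fin 4 × Q ≃ Fin 8 := Finite.equivFinOfCardEq hcard8
  let f : RegularWreathProduct (Perm (Fin 4)) Q →* Perm (Fin 8) :=
    (e.permCongrHom.toMonoidHom).comp (RegularWreathProduct.toPerm (Perm (Fin 4)) Q (Fin 4))
  have hf : Function.Injective f :=
    (e.permCongrHom.injective).comp (RegularWreathProduct.toPermInj (Perm (Fin 4)) Q (Fin 4))
  refine ⟨f.range, isPiHall_range_of_injective f hf ?_ ?_⟩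
  · have hc : Nat.card (RegularWreathProduct (Perm (Fin 4)) Q) = 2 ^ 7 * 3 ^ 2 := by
      rw [RegularWreathProduct.card, hQ, Nat.card_perm]; simp [Nat.factorial]
    rw [hc]
    intro p hp hpd
    rcases prime_dvd_two_pow_mul_three_pow hp hpd with rfl | rfl
    · exact (hσ 2 hp (by norm_num)).2 (Or.inl rfl)
    · exact (hσ 3 hp (by norm_num)).2 (Or.inr rfl)
  · have hc : (Nat.card (Fin 8)).factorial / Nat.card (RegularWreathProduct (Perm (Fin 4)) Q)
        = 35 := by
      rw [RegularWreathProduct.card, hQ, Nat.card_perm]; simp [Nat.factorial]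
    rw [hc]
    intro p hp hpπ hpd
    rcases prime_dvd_thirtyfive hp hpd with rfl | rfl
    · have := (hσ 5 hp (by norm_num)).1 hpπ; omega
    · have := (hσ 7 hp (by norm_num)).1 hpπ; omega

/-- construction for prime degree: a point stabilizer. -/
theorem exists_hall_prime (π : Set ℕ) (n : ℕ) (hn : n.Prime)
    (hσ : ∀ r : ℕ, r.Prime → r ≤ n → (r ∈ π ↔ r < n)) :
    ∃ H : Subgroup (Perm (Fin n)), Cfsg.IsPiHall π H := by
  have hpos : 0 < n := hn.pos
  let x : Fin n := ⟨0, hpos⟩
  refine ⟨stabilizer (Perm (Fin n)) x, ?_, ?_⟩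
  · intro p hp hpd
    have hidx : (stabilizer (Perm (Fin n)) x).index = n := by
      rw [index_stabilizer_of_transitive]; simp
    have hmul : Nat.card (stabilizer (Perm (Fin n)) x) * n = n.factorial := by
      have := Subgroup.card_mul_index (stabilizer (Perm (Fin n)) x)
      rw [hidx, Nat.card_perm] at this
      simpa using this
    obtain ⟨j, rfl⟩ : ∃ j, n = j + 1 := ⟨n - 1, by omega⟩
    rw [Nat.factorial_succ, mul_comm] at hmul
    have hcard : Nat.card (stabilizer (Perm (Fin (j + 1))) x) = j.factorial :=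
      Nat.eq_of_mul_eq_mul_left (Nat.succ_pos j) hmul
    rw [hcard] at hpd
    have hle : p ≤ j := (Nat.Prime.dvd_factorial hp).1 hpd
    exact (hσ p hp (by omega)).2 (by omega)
  · intro p hp hpπ hpd
    have hidx : (stabilizer (Perm (Fin n)) x).index = n := by
      rw [index_stabilizer_of_transitive]; simp
    rw [hidx] at hpd
    have hpn : p = n := (Nat.prime_dvd_prime_iff_eq hp hn).1 hpd
    have := (hσ p hp (by omega)).1 hpπ
    omega

end Cfsg.Agent.Lib.Helper22.HsH
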