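import Mathlib
import Cfsg.Agent.Lib.Helper22.HsA

/-!
Hall subgroups of symmetric groups: the order of a transitive imprimitive group divides
the order of the wreath product (`(a!)^b * b!`).
-/

set_option autoImplicit false

namespace Cfsg.Agent.Lib.Helper22.HsI

open Equiv MulAction
open scoped Pointwise

variable {α : Type} [Finite α]

/-- the subgroup of permutations preserving the fibres of `f`. -/
def fibreStab {ι : Type*} (f : α → ι) : Subgroup (Perm α) where
  carrier := {g | f ∘ g = f}
  one_mem' := by simp
  mul_mem' := by
    intro g h hg hh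
    have hg' : f ∘ g = f := hg
    have hh' : f ∘ h = f := hh
    show f ∘ (g * h) = f
    funext x
    have h1 := congrFun hg' (h x)
    have h2 := congrFun hh' x
    simp only [Function.comp_apply] at h1 h2
    simp [h1, h2]
  inv_mem' := by
    intro g hg
    have hg' : f ∘ g = f := hg
    show f ∘ ⇑(g⁻¹) = f
    funext x
    have h1 := congrFun hg' (g⁻¹ x)
    simp only [Function.comp_apply] at h1
    have h2 : g (g⁻¹ x) = x := Equiv.apply_symm_apply g x
    rw [h2] at h1
    simp only [Function.comp_apply]
    exact h1.symm

theorem card_fibreStab {ι : Type*} [Finite ι] (f : α → ι) (a : ℕ)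
    (hfib : ∀ i : ι, Nat.card {x // f x = i} = a) :
    Nat.card (fibreStab f) = a.factorial ^ Nat.card ι := by
  classical
  have := Fintype.ofFinite α
  have := Fintype.ofFinite ι
  have h1 : Nat.card (fibreStab f) = Fintype.card {g : Perm α // f ∘ g = f} := by
    rw [← Nat.card_eq_fintype_card]
    rfl
  rw [h1, DomMulAct.stabilizer_card f]
  have : ∀ i : ι, (Fintype.card {x // f x = i}).factorial = a.factorial := by
    intro i
    rw [← Nat.card_eq_fintype_card, hfib i]
  rw [Finset.prod_congr rfl (fun i _ => this i), Finset.prod_const, Finset.card_univ,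
    Nat.card_eq_fintype_card]

end Cfsg.Agent.Lib.Helper22.HsI

namespace Cfsg.Agent.Lib.Helper22.HsI

open Equiv MulAction
open scoped Pointwise

variable {α : Type} [Finite α]

/-- **Lemma E**: the order of a transitive group with a block `B` divides
`(|B|!)^b * b!`, `b` the number of translates of `B`. -/
theorem card_dvd_wreath (H : Subgroup (Perm α)) [IsPretransitive H α] (B : Set α)
    (hB : IsBlock H B) (hBne : B.Nonempty) :
    Nat.card H ∣ (B.ncard).factorial ^ (orbit H B).ncard * ((orbit H B).ncard).factorial := by
  classical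
  have hBS : IsBlockSystem H (orbit H B) := hB.isBlockSystem hBne
  -- the block containing a point
  have hex : ∀ x : α, ∃ C : orbit H B, x ∈ (C : Set α) := by
    intro x
    obtain ⟨C, ⟨hC, hxC⟩, -⟩ := hBS.1.2 x
    exact ⟨⟨C, hC⟩, hxC⟩
  have huniq : ∀ (x : α) (C D : orbit H B), x ∈ (C : Set α) → x ∈ (D : Set α) → C = D := by
    intro x C D hC hD
    obtain ⟨E, -, hE⟩ := hBS.1.2 x
    have h1 := hE C.1 ⟨C.2, hC⟩
    have h2 := hE D.1 ⟨D.2, hD⟩
    exact Subtype.ext (h1.trans h2.symm)
  let f : α → orbit H B := fun x => Classical.choose (hex x)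
  have hf : ∀ x : α, x ∈ ((f x : orbit H B) : Set α) := fun x => Classical.choose_spec (hex x)
  have hf' : ∀ (x : α) (C : orbit H B), x ∈ (C : Set α) → f x = C := fun x C hC =>
    huniq x _ _ (hf x) hC
  let φ : H →* Perm (orbit H B) := MulAction.toPermHom H (orbit H B)
  -- the kernel preserves fibres
  have hker : φ.ker.map H.subtype ≤ fibreStab f := by
    rintro _ ⟨k, hk, rfl⟩
    show f ∘ ((k : Perm α) : α → α) = f
    funext x
    simp only [Function.comp_apply]
    apply hf'
    have hk' : φ k = 1 := hk
    have h1 : k • (f x) = f x := by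
      have := congrArg (fun p : Perm (orbit H B) => p (f x)) hk'
      simpa [φ] using this
    have h2 : (k • ((f x : orbit H B) : Set α)) = ((f x : orbit H B) : Set α) := by
      have := congrArg (Subtype.val) h1
      simpa using this
    rw [← h2]
    exact Set.smul_mem_smul_set (hf x)
  have hfib : ∀ i : orbit H B, Nat.card {x // f x = i} = B.ncard := by
    intro i
    have heq : {x | f x = i} = (i : Set α) := by
      ext x
      constructor
      · intro hx
        have hx' : f x = i := hx
        rw [← hx']; exact hf x
      · intro hx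
        exact hf' x i hx
    have h1 : Nat.card {x // f x = i} = ({x | f x = i} : Set α).ncard :=
      Nat.card_coe_set_eq {x | f x = i}
    rw [h1, heq]
    obtain ⟨g, hg⟩ := i.2
    have hg' : g • B = (i : Set α) := hg
    rw [← hg', Set.ncard_smul_set]
  have hcardK : Nat.card φ.ker ∣ (B.ncard).factorial ^ (orbit H B).ncard := by
    have h1 : Nat.card (φ.ker.map H.subtype) = Nat.card φ.ker :=
      Subgroup.card_map_of_injective H.subtype_injective
    rw [← h1, ← Nat.card_coe_set_eq (orbit H B), ← card_fibreStab f _ hfib]
    exact Subgroup.card_dvd_of_le hker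
  have hcardR : Nat.card φ.range ∣ ((orbit H B).ncard).factorial := by
    have := Subgroup.card_subgroup_dvd_card φ.range
    rwa [Nat.card_perm, Nat.card_coe_set_eq] at this
  have hmul : Nat.card H = Nat.card φ.ker * Nat.card φ.range := by
    rw [← Subgroup.index_ker, Subgroup.card_mul_index]
  rw [hmul]
  exact Nat.mul_dvd_mul hcardK hcardR

end Cfsg.Agent.Lib.Helper22.HsI
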