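import Mathlib
import Cfsg.Agent.Lib.Helper22.HsA
import Cfsg.Agent.Lib.Helper22.HsB

/-!
Hall subgroups of alternating groups: basic facts.
-/

set_option autoImplicit false

namespace Cfsg.Agent.Lib.Helper22.HsJ

open Equiv MulAction Cfsg.Agent.Lib.Helper22.HsA Cfsg.Agent.Lib.Helper22.HsB

variable {α : Type} [Fintype α] [DecidableEq α]

/-- `M` is a Hall `π`-subgroup of the alternating group (as a subgroup of `Perm α`). -/
def HallAlt (π : Set ℕ) (M : Subgroup (Perm α)) : Prop :=
  M ≤ alternatingGroup α ∧ piNum π (Nat.card M) ∧ piPrime π (M.relIndex (alternatingGroup α))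

theorem card_mul_relIndex {G : Type*} [Group G] {M A : Subgroup G} (h : M ≤ A) :
    Nat.card M * M.relIndex A = Nat.card A := by
  have := Subgroup.relIndex_mul_relIndex ⊥ M A bot_le h
  rwa [Subgroup.relIndex_bot_left, Subgroup.relIndex_bot_left] at this

theorem two_mul_card_alt (hN : 2 ≤ Fintype.card α) :
    2 * Nat.card (alternatingGroup α) = (Fintype.card α).factorial := by
  have : Nontrivial α := Fintype.one_lt_card_iff_nontrivial.1 (by omega)
  rw [two_mul_nat_card_alternatingGroup, Nat.card_perm, Nat.card_eq_fintype_card]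

theorem two_mul_card_mul_relIndex {M : Subgroup (Perm α)} (h : M ≤ alternatingGroup α)
    (hN : 2 ≤ Fintype.card α) :
    2 * (Nat.card M * M.relIndex (alternatingGroup α)) = (Fintype.card α).factorial := by
  rw [card_mul_relIndex h, two_mul_card_alt hN]

theorem index_eq_two_mul_relIndex {M : Subgroup (Perm α)} (h : M ≤ alternatingGroup α)
    (hN : 2 ≤ Fintype.card α) : M.index = M.relIndex (alternatingGroup α) * 2 := by
  have : Nontrivial α := Fintype.one_lt_card_iff_nontrivial.1 (by omega)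
  rw [← Subgroup.relIndex_mul_index h, alternatingGroup.index_eq_two]

/-- maximality of Hall subgroups among `π`-subgroups. -/
theorem HallAlt.eq_of_le {π : Set ℕ} {M L : Subgroup (Perm α)} (hM : HallAlt π M) (hML : M ≤ L)
    (hLA : L ≤ alternatingGroup α) (hL : piNum π (Nat.card L)) : L = M := by
  apply le_antisymm _ hML
  rw [← Subgroup.relIndex_eq_one]
  have h1 : M.relIndex L ∣ Nat.card L := Subgroup.relIndex_dvd_card M L
  have h2 : M.relIndex L ∣ M.relIndex (alternatingGroup α) := by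
    rw [← Subgroup.relIndex_mul_relIndex M L _ hML hLA]; exact dvd_mul_right _ _
  by_contra hne
  obtain ⟨p, hp, hpd⟩ := Nat.exists_prime_and_dvd hne
  exact hM.2.2 p hp (hL p hp (hpd.trans h1)) (hpd.trans h2)

/-- an odd prime of `π` gives a cycle in `M`. -/
theorem HallAlt.exists_cycle_mem {π : Set ℕ} {M : Subgroup (Perm α)} (hM : HallAlt π M)
    {r : ℕ} (hr : r.Prime) (hr2 : r ≠ 2) (hrπ : r ∈ π) (hrn : r ≤ Fintype.card α) :
    ∃ g ∈ M, g.IsCycle ∧ g.support.card = r := by
  have : Fact r.Prime := ⟨hr⟩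
  have hN : 2 ≤ Fintype.card α := le_trans hr.two_le hrn
  obtain ⟨c, hc, hcr⟩ := exists_isCycle_card (α := α) hr.two_le hrn
  have hord : orderOf c = r := by rw [hc.orderOf, hcr]
  have hQ : IsPGroup r (Subgroup.zpowers c) := by
    apply IsPGroup.of_card (n := 1)
    rw [Nat.card_zpowers, hord, pow_one]
  have hidx : ¬ r ∣ M.index := by
    rw [index_eq_two_mul_relIndex hM.1 hN]
    intro hd
    rcases (Nat.Prime.dvd_mul hr).1 hd with h | h
    · exact hM.2.2 r hr hrπ h
    · exact hr2 ((Nat.prime_dvd_prime_iff_eq hr Nat.prime_two).1 h)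
  obtain ⟨g, hg⟩ := conj_mem_of_prime_not_dvd_index M hidx _ hQ
  refine ⟨g⁻¹ * c * g, hg c (Subgroup.mem_zpowers c), ?_, ?_⟩
  · have : g⁻¹ * c * g = g⁻¹ * c * (g⁻¹)⁻¹ := by rw [inv_inv]
    rw [this]; exact hc.conj
  · have : g⁻¹ * c * g = g⁻¹ * c * (g⁻¹)⁻¹ := by rw [inv_inv]
    rw [this, Equiv.Perm.card_support_conj, hcr]

/-- if `M = Alt` is a Hall subgroup and `2 ∈ π`, every prime up to the degree is in `π`. -/
theorem full_of_alt_le {π : Set ℕ} {M : Subgroup (Perm α)} (hM : HallAlt π M) (h2 : 2 ∈ π)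
    (hle : alternatingGroup α ≤ M) (hN : 2 ≤ Fintype.card α) :
    ∀ p : ℕ, p.Prime → p ≤ Fintype.card α → p ∈ π := by
  intro p hp hpN
  by_cases hp2 : p = 2
  · rw [hp2]; exact h2
  · have hMA : M = alternatingGroup α := le_antisymm hM.1 hle
    apply hM.2.1 p hp
    rw [hMA]
    have h1 := two_mul_card_alt (α := α) hN
    have h3 : p ∣ 2 * Nat.card (alternatingGroup α) := by
      rw [h1]; exact (Nat.Prime.dvd_factorial hp).2 hpN
    rcases (Nat.Prime.dvd_mul hp).1 h3 with h | h
    · exact absurd ((Nat.prime_dvd_prime_iff_eq hp Nat.prime_two).1 h) hp2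
    · exact h

end Cfsg.Agent.Lib.Helper22.HsJ
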