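import Mathlib
import Cfsg.Agent.Lib.Helper22.HsJ

/-!
Hall subgroups of alternating groups: `Alt α` (degree ≥ 5) has no proper subgroup of index
smaller than the degree.
-/

set_option autoImplicit false

namespace Cfsg.Agent.Lib.Helper22.HsK

open Equiv MulAction Cfsg.Agent.Lib.Helper22.HsJ

variable {α : Type} [Fintype α] [DecidableEq α]

theorem alt_no_small_index (L : Subgroup (Perm α)) (hn : 5 ≤ Fintype.card α)
    (h1 : 1 < L.relIndex (alternatingGroup α))
    (h2 : L.relIndex (alternatingGroup α) < Fintype.card α) : False := by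
  have hn' : 5 ≤ Nat.card α := by rw [Nat.card_eq_fintype_card]; exact hn
  have hsimple : IsSimpleGroup (alternatingGroup α) := alternatingGroup.isSimpleGroup hn'
  set A := alternatingGroup α with hA
  set L' : Subgroup A := L.subgroupOf A with hL'
  have hidx : L'.index = L.relIndex A := rfl
  let φ : A →* Perm (A ⧸ L') := MulAction.toPermHom A (A ⧸ L')
  rcases φ.normal_ker.eq_bot_or_eq_top with hbot | htop
  · have hinj : Function.Injective φ := (MonoidHom.ker_eq_bot_iff φ).1 hbot
    have hdvd := Subgroup.card_dvd_of_injective φ hinj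
    rw [Nat.card_perm] at hdvd
    have hq : Nat.card (A ⧸ L') = L'.index := rfl
    rw [hq, hidx] at hdvd
    have hle : L.relIndex A ≤ Fintype.card α - 1 := by omega
    have hdvd2 : Nat.card A ∣ (Fintype.card α - 1).factorial :=
      hdvd.trans (Nat.factorial_dvd_factorial hle)
    have hcard : 2 * Nat.card A = (Fintype.card α).factorial := two_mul_card_alt (by omega)
    have hfac : (Fintype.card α).factorial = Fintype.card α * (Fintype.card α - 1).factorial := by
      obtain ⟨m, hm⟩ : ∃ m, Fintype.card α = m + 1 := ⟨Fintype.card α - 1, by omega⟩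
      rw [hm, Nat.factorial_succ]; simp
    have hpos : 0 < (Fintype.card α - 1).factorial := Nat.factorial_pos _
    have hle2 := Nat.le_of_dvd hpos hdvd2
    have : Fintype.card α * (Fintype.card α - 1).factorial ≤ 2 * (Fintype.card α - 1).factorial := by
      rw [← hfac, ← hcard]; exact Nat.mul_le_mul_left 2 hle2
    have := Nat.le_of_mul_le_mul_right this hpos
    omega
  · have hLtop : L' = ⊤ := by
      rw [eq_top_iff]
      intro a _
      have h3 : a ∈ φ.ker := by rw [htop]; trivial
      rw [MonoidHom.mem_ker] at h3
      have h4 := congrArg (fun f : Perm (A ⧸ L') => f ((1 : A) : A ⧸ L')) h3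
      simp only [φ, MulAction.toPermHom_apply, MulAction.toPerm_apply, Perm.coe_one, id_eq] at h4
      have h5 : ((a * 1 : A) : A ⧸ L') = ((1 : A) : A ⧸ L') := h4
      rw [QuotientGroup.eq] at h5
      have h6 := L'.inv_mem h5
      simpa using h6
    rw [← hidx, hLtop, Subgroup.index_top] at h1
    omega

end Cfsg.Agent.Lib.Helper22.HsK
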