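import Mathlib
import Cfsg.Agent.Lib.Helper22.HsB
import Cfsg.Agent.Lib.Helper22.HsJ

/-!
Hall subgroups of alternating groups: a Klein four-group as a Jordan set, giving
2-transitivity of primitive subgroups of odd index in the alternating group.
-/

set_option autoImplicit false

namespace Cfsg.Agent.Lib.Helper22.HsL

open Equiv MulAction Cfsg.Agent.Lib.Helper22.HsA Cfsg.Agent.Lib.Helper22.HsB
  Cfsg.Agent.Lib.Helper22.HsJ

/-- the three double transpositions of `Fin 4`. -/
def kv1 : Perm (Fin 4) := swap 0 1 * swap 2 3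
def kv2 : Perm (Fin 4) := swap 0 2 * swap 1 3
def kv3 : Perm (Fin 4) := swap 0 3 * swap 1 2

/-- membership predicate of the Klein four-group. -/
def InK (g : Perm (Fin 4)) : Prop := g = 1 ∨ g = kv1 ∨ g = kv2 ∨ g = kv3

instance : DecidablePred InK := fun g => by unfold InK; infer_instance

theorem inK_mul : ∀ g h : Perm (Fin 4), InK g → InK h → InK (g * h) := by decide

theorem inK_sq : ∀ g : Perm (Fin 4), InK g → g * g = 1 := by decide

theorem inK_sign : ∀ g : Perm (Fin 4), InK g → Perm.sign g = 1 := by decide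

theorem inK_trans : ∀ i j : Fin 4, ∃ g : Perm (Fin 4), InK g ∧ g i = j := by decide

/-- the Klein four-group in `Perm (Fin 4)`. -/
def kleinV : Subgroup (Perm (Fin 4)) where
  carrier := {g | InK g}
  one_mem' := Or.inl rfl
  mul_mem' := fun {g h} hg hh => inK_mul g h hg hh
  inv_mem' := fun {g} hg => by
    have h1 : g * g = 1 := inK_sq g hg
    have h2 : g⁻¹ = g := inv_eq_of_mul_eq_one_left h1
    show InK g⁻¹
    rw [h2]; exact hg

theorem kleinV_isPGroup : IsPGroup 2 kleinV := by
  intro g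
  refine ⟨1, ?_⟩
  apply Subtype.ext
  have := inK_sq g.1 g.2
  simpa [pow_two] using this

end Cfsg.Agent.Lib.Helper22.HsL

namespace Cfsg.Agent.Lib.Helper22.HsL

open Equiv MulAction Cfsg.Agent.Lib.Helper22.HsA Cfsg.Agent.Lib.Helper22.HsB
  Cfsg.Agent.Lib.Helper22.HsJ

variable {α : Type} [Fintype α] [DecidableEq α]

/-- a primitive subgroup of odd index in the alternating group of degree at least 5 is
2-transitive (a Klein four-group on four points is a Jordan set). -/
theorem two_pretransitive_of_odd_relIndex (M : Subgroup (Perm α)) (hMA : M ≤ alternatingGroup α)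
    (hodd : ¬ 2 ∣ M.relIndex (alternatingGroup α)) (hprim : IsPreprimitive M α)
    (hN : 5 ≤ Fintype.card α) : IsMultiplyPretransitive M α 2 := by
  classical
  have : Fact (Nat.Prime 2) := ⟨Nat.prime_two⟩
  obtain ⟨ι⟩ : Nonempty (Fin 4 ↪ α) :=
    Function.Embedding.nonempty_of_card_le (by simp; omega)
  set A := alternatingGroup α with hA
  let Q : Subgroup (Perm α) := kleinV.map (Perm.viaEmbeddingHom ι)
  have hQA : Q ≤ A := by
    rintro _ ⟨v, hv, rfl⟩
    rw [Perm.mem_alternatingGroup, Perm.viaEmbeddingHom_apply]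
    unfold Perm.viaEmbedding
    rw [Perm.sign_extendDomain]
    exact inK_sign v hv
  have hQ2 : IsPGroup 2 Q := kleinV_isPGroup.map _
  have hQ2' : IsPGroup 2 (Q.subgroupOf A) :=
    hQ2.comap_of_injective A.subtype A.subtype_injective
  obtain ⟨g, hg⟩ := conj_mem_of_prime_not_dvd_index (M.subgroupOf A) (p := 2) hodd _ hQ2'
  have hgM : ∀ v : Perm (Fin 4), InK v →
      (g : Perm α)⁻¹ * Perm.viaEmbedding v ι * (g : Perm α) ∈ M := by
    intro v hv
    have hq : Perm.viaEmbedding v ι ∈ Q := ⟨v, hv, rfl⟩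
    have h1 := hg ⟨Perm.viaEmbedding v ι, hQA hq⟩ (by
      rw [Subgroup.mem_subgroupOf]; exact hq)
    rw [Subgroup.mem_subgroupOf] at h1
    simpa using h1
  -- the set of fixed points
  let s : Set α := {z | (g : Perm α) z ∉ Set.range ι}
  have hsc : sᶜ = (fun i : Fin 4 => (g : Perm α)⁻¹ (ι i)) '' Set.univ := by
    ext z
    simp only [s, Set.mem_compl_iff, Set.mem_setOf_eq, not_not, Set.mem_range, Set.image_univ]
    constructor
    · rintro ⟨i, hi⟩
      exact ⟨i, by rw [hi]; simp⟩
    · rintro ⟨i, rfl⟩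
      exact ⟨i, by simp⟩
  have hinj : Function.Injective (fun i : Fin 4 => (g : Perm α)⁻¹ (ι i)) := by
    intro i j hij
    exact ι.injective ((g : Perm α)⁻¹.injective hij)
  have hscard : sᶜ.ncard = 4 := by
    rw [hsc, Set.ncard_image_of_injective _ hinj, Set.ncard_univ]; simp
  have hsn : s.ncard = (Fintype.card α - 5) + 1 := by
    have h1 := Set.ncard_add_ncard_compl s
    rw [hscard, Nat.card_eq_fintype_card] at h1
    omega
  have htrans : IsPretransitive (fixingSubgroup M s) (SubMulAction.ofFixingSubgroup M s) := by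
    constructor
    rintro ⟨z₁, hz₁⟩ ⟨z₂, hz₂⟩
    rw [SubMulAction.mem_ofFixingSubgroup_iff] at hz₁ hz₂
    have hz₁' : (g : Perm α) z₁ ∈ Set.range ι := by
      by_contra h; exact hz₁ h
    have hz₂' : (g : Perm α) z₂ ∈ Set.range ι := by
      by_contra h; exact hz₂ h
    obtain ⟨i, hi⟩ := hz₁'
    obtain ⟨j, hj⟩ := hz₂'
    obtain ⟨v, hv, hvij⟩ := inK_trans i j
    let m : M := ⟨(g : Perm α)⁻¹ * Perm.viaEmbedding v ι * (g : Perm α), hgM v hv⟩
    have hm : m ∈ fixingSubgroup M s := by
      rw [mem_fixingSubgroup_iff]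
      intro z hz
      show ((g : Perm α)⁻¹ * Perm.viaEmbedding v ι * (g : Perm α)) z = z
      simp only [Perm.mul_apply]
      rw [Perm.viaEmbedding_apply_of_notMem v ι _ hz]
      simp
    refine ⟨⟨m, hm⟩, ?_⟩
    apply Subtype.ext
    show ((g : Perm α)⁻¹ * Perm.viaEmbedding v ι * (g : Perm α)) z₁ = z₂
    simp only [Perm.mul_apply]
    rw [← hi, Perm.viaEmbedding_apply, hvij, hj]
    simp
  exact hprim.is_two_pretransitive hsn (by rw [Nat.card_eq_fintype_card]; omega) htrans

end Cfsg.Agent.Lib.Helper22.HsL
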