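import Mathlib
import Cfsg.Agent.Lib.Helper22.HsJ
import Cfsg.Agent.Lib.Helper22.HsK
import Cfsg.Agent.Lib.Helper22.HsL

/-!
Hall subgroups of alternating groups: no transitive Hall `{2,r}`-subgroup of `Alt` in prime
degree `r ≥ 5`.
-/

set_option autoImplicit false

namespace Cfsg.Agent.Lib.Helper22.HsM

open Equiv MulAction Cfsg.Agent.Lib.Helper22.HsA Cfsg.Agent.Lib.Helper22.HsB
  Cfsg.Agent.Lib.Helper22.HsJ Cfsg.Agent.Lib.Helper22.HsK Cfsg.Agent.Lib.Helper22.HsL
open scoped Pointwise

variable {α : Type} [Fintype α] [DecidableEq α]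

/-- in a 2-transitive group, the fixed points of a two-point stabilizer form a single orbit
of their setwise stabilizer; in particular their number divides the group order. -/
theorem card_fixedPoints_dvd (M : Subgroup (Perm α)) (h2t : IsMultiplyPretransitive M α 2)
    {x y : α} (hxy : x ≠ y) :
    (fixedPoints (fixingSubgroup M ({x, y} : Set α)) α).ncard ∣ Nat.card M := by
  classical
  set L := fixingSubgroup M ({x, y} : Set α) with hL
  set Φ : Set α := fixedPoints L α with hΦ
  have hmemL : ∀ l : M, l ∈ L ↔ l • x = x ∧ l • y = y := by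
    intro l
    rw [hL, mem_fixingSubgroup_iff]
    constructor
    · intro h; exact ⟨h x (by simp), h y (by simp)⟩
    · rintro ⟨h1, h2⟩ z hz
      rcases hz with rfl | hz
      · exact h1
      · rw [Set.mem_singleton_iff] at hz; rw [hz]; exact h2
  have hxΦ : x ∈ Φ := fun l => ((hmemL l.1).1 l.2).1
  have hyΦ : y ∈ Φ := fun l => ((hmemL l.1).1 l.2).2
  rw [MulAction.is_two_pretransitive_iff] at h2t
  -- claim A
  have claimA : ∀ u ∈ Φ, ∃ g : M, g • x = u ∧ g • Φ = Φ := by
    intro u hu
    obtain ⟨v, hvΦ, hvu⟩ : ∃ v ∈ Φ, u ≠ v := by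
      by_cases hux : u = x
      · exact ⟨y, hyΦ, by rw [hux]; exact hxy⟩
      · exact ⟨x, hxΦ, hux⟩
    obtain ⟨g, hgx, hgy⟩ := h2t hxy hvu
    refine ⟨g, hgx, ?_⟩
    have hsub : g • Φ ⊆ Φ := by
      rintro _ ⟨z, hz, rfl⟩
      intro l
      -- l' = g⁻¹ l g ∈ L
      have hl' : g⁻¹ * l.1 * g ∈ L := by
        rw [hmemL]
        constructor
        · have hlu : l.1 • u = u := hu l
          rw [mul_smul, mul_smul, hgx, hlu, ← hgx, inv_smul_smul]
        · have hlv : l.1 • v = v := hvΦ l
          rw [mul_smul, mul_smul, hgy, hlv, ← hgy, inv_smul_smul]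
      have h1 := hz ⟨_, hl'⟩
      have h2 : (g⁻¹ * l.1 * g) • z = z := h1
      rw [mul_smul, mul_smul, inv_smul_eq_iff] at h2
      exact h2
    apply Set.eq_of_subset_of_ncard_le hsub _ (Set.toFinite _)
    rw [Set.ncard_smul_set]
  -- the setwise stabilizer
  set N' := stabilizer M Φ with hN'
  have horb : orbit N' x = Φ := by
    ext u
    constructor
    · rintro ⟨n, rfl⟩
      have hn : n.1 • Φ = Φ := n.2
      rw [← hn]
      exact Set.smul_mem_smul_set hxΦ
    · intro hu
      obtain ⟨g, hgx, hgΦ⟩ := claimA u hu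
      exact ⟨⟨g, hgΦ⟩, hgx⟩
  have h1 : (stabilizer N' x).index = Φ.ncard := by
    rw [MulAction.index_stabilizer, horb]
  rw [← h1]
  exact (Subgroup.index_dvd_card _).trans (Subgroup.card_subgroup_dvd_card N')

end Cfsg.Agent.Lib.Helper22.HsM

namespace Cfsg.Agent.Lib.Helper22.HsM

open Equiv MulAction Cfsg.Agent.Lib.Helper22.HsA Cfsg.Agent.Lib.Helper22.HsB
  Cfsg.Agent.Lib.Helper22.HsJ Cfsg.Agent.Lib.Helper22.HsK Cfsg.Agent.Lib.Helper22.HsL
open scoped Pointwise

variable {α : Type} [Fintype α] [DecidableEq α]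

/-- **(★)**: in prime degree `r ≥ 5` the alternating group has no transitive Hall
`π`-subgroup when `π ∩ [1,r] = {2, r}`. -/
theorem star (π : Set ℕ) (M : Subgroup (Perm α)) (hM : HallAlt π M) (h2 : 2 ∈ π)
    (hr : (Fintype.card α).Prime) (hr5 : 5 ≤ Fintype.card α) [htr : IsPretransitive M α]
    (hσ : ∀ p : ℕ, p.Prime → p ∈ π → p ≤ Fintype.card α → p = 2 ∨ p = Fintype.card α) :
    False := by
  classical
  set r := Fintype.card α with hrdef
  have hcardN : Nat.card α = r := Nat.card_eq_fintype_card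
  have hprim : IsPreprimitive M α := IsPreprimitive.of_prime_card (by rw [hcardN]; exact hr)
  have hodd : ¬ 2 ∣ M.relIndex (alternatingGroup α) := hM.2.2 2 Nat.prime_two h2
  have h2t := two_pretransitive_of_odd_relIndex M hM.1 hodd hprim hr5
  have hnt : Nontrivial α := Fintype.one_lt_card_iff_nontrivial.1 (by omega)
  obtain ⟨x, y, hxy⟩ := exists_pair_ne α
  set L := fixingSubgroup M ({x, y} : Set α) with hL
  set T := stabilizer M x with hT
  have hLT : L ≤ T := by
    intro l hl
    rw [hL, mem_fixingSubgroup_iff] at hl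
    exact hl x (by simp)
  have hMfac : 2 * (Nat.card M * M.relIndex (alternatingGroup α)) = r.factorial :=
    two_mul_card_mul_relIndex hM.1 (by omega)
  have hMdvd : Nat.card M ∣ r.factorial := ⟨2 * M.relIndex (alternatingGroup α), by
    rw [← hMfac]; ring⟩
  -- T is a 2-group
  have hTr : Nat.card T * r = Nat.card M := by
    have h1 : T.index = Nat.card α := index_stabilizer_of_transitive M x
    rw [← hcardN, ← h1]; exact Subgroup.card_mul_index T
  have hTdvd : Nat.card T ∣ (r - 1).factorial := by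
    have h1 : Nat.card T * r ∣ r * (r - 1).factorial := by
      rw [hTr]
      obtain ⟨j, hj⟩ : ∃ j, r = j + 1 := ⟨r - 1, by omega⟩
      have : r * (r - 1).factorial = r.factorial := by
        rw [hj, Nat.factorial_succ]; simp
      rw [this]; exact hMdvd
    rw [mul_comm] at h1
    exact Nat.dvd_of_mul_dvd_mul_left (by omega) h1
  have hT2 : IsPGroup 2 T := by
    have hne : Nat.card T ≠ 0 := Nat.card_pos.ne'
    have := Nat.eq_prime_pow_of_unique_prime_dvd (p := 2) hne (by
      intro d hd hdT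
      have hdle : d ≤ r - 1 := (Nat.Prime.dvd_factorial hd).1 (hdT.trans hTdvd)
      have hdM : d ∣ Nat.card M := hdT.trans ⟨r, hTr.symm⟩
      rcases hσ d hd (hM.2.1 d hd hdM) (by omega) with h | h
      · exact h
      · omega)
    exact IsPGroup.of_card this
  have hL2 : IsPGroup 2 L := hT2.to_le hLT
  -- fixed points of L
  set Φ : Set α := fixedPoints L α with hΦ
  have hmod := hL2.card_modEq_card_fixedPoints α
  have hΦcard : Nat.card (fixedPoints L α) = Φ.ncard := Nat.card_coe_set_eq _
  rw [hΦcard, hcardN] at hmod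
  have hrodd : r % 2 = 1 := by
    rcases hr.eq_two_or_odd with h | h
    · omega
    · exact h
  have hΦodd : Φ.ncard % 2 = 1 := by
    have : r % 2 = Φ.ncard % 2 := hmod
    omega
  have hΦdvd : Φ.ncard ∣ Nat.card M := card_fixedPoints_dvd M h2t hxy
  have hΦle : Φ.ncard ≤ r := by
    rw [← hcardN, ← Set.ncard_univ]
    exact Set.ncard_le_ncard (Set.subset_univ _) (Set.toFinite _)
  have hLmem : ∀ l : M, l ∈ L → ∀ z ∈ ({x, y} : Set α), l • z = z := fun l hl =>
    (mem_fixingSubgroup_iff M).1 hl
  have hxΦ : x ∈ Φ := fun l => hLmem l.1 l.2 x (by simp)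
  have hyΦ : y ∈ Φ := fun l => hLmem l.1 l.2 y (by simp)
  have hΦ2 : 2 ≤ Φ.ncard := by
    have hsub : ({x, y} : Set α) ⊆ Φ := by
      intro z hz
      rcases hz with rfl | hz
      · exact hxΦ
      · rw [Set.mem_singleton_iff] at hz; rw [hz]; exact hyΦ
    have := Set.ncard_le_ncard hsub (Set.toFinite _)
    rwa [Set.ncard_pair hxy] at this
  have hΦr : Φ.ncard = r := by
    have hne1 : Φ.ncard ≠ 1 := by omega
    have hp := Nat.minFac_prime hne1
    have hpd := Nat.minFac_dvd Φ.ncard
    have hple := Nat.minFac_le (n := Φ.ncard) (by omega)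
    rcases hσ _ hp (hM.2.1 _ hp (hpd.trans hΦdvd)) (by omega) with h | h
    · exfalso
      rw [h] at hpd
      omega
    · omega
  have hΦuniv : Φ = Set.univ := by
    rw [Set.eq_univ_iff_ncard, hΦr, hcardN]
  -- L is trivial
  have hLbot : L = ⊥ := by
    rw [eq_bot_iff]
    intro l hl
    rw [Subgroup.mem_bot]
    apply Subtype.ext
    ext z
    have hz : z ∈ Φ := by rw [hΦuniv]; trivial
    exact hz ⟨l, hl⟩
  have hidx : L.index * (Nat.card α - 2).factorial = (Nat.card α).factorial :=
    h2t.index_of_fixingSubgroup_mul (s := ({x, y} : Set α)) (Set.ncard_pair hxy)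
  rw [hLbot, Subgroup.index_bot, hcardN] at hidx
  -- (r-2)! = 2 J
  set J := M.relIndex (alternatingGroup α) with hJ
  have hJeq : (r - 2).factorial = 2 * J := by
    have h1 : Nat.card M * (r - 2).factorial = Nat.card M * (2 * J) := by
      rw [hidx, ← hMfac]; ring
    exact Nat.eq_of_mul_eq_mul_left Nat.card_pos h1
  rcases Nat.lt_or_ge r 7 with hlt | hge
  · -- r = 5
    have hr56 : r = 5 ∨ r = 6 := by omega
    rcases hr56 with h5 | h6
    · rw [h5] at hJeq
      have hJ3 : J = 3 := by
        have : (5 - 2).factorial = 6 := by decide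
        omega
      exact alt_no_small_index M (by omega) (by rw [← hJ, hJ3]; norm_num)
        (by rw [← hJ, hJ3, ← hrdef, h5]; norm_num)
    · rw [h6] at hr
      exact absurd hr (by norm_num)
  · have h4 : 4 ∣ (r - 2).factorial := Nat.dvd_factorial (by norm_num) (by omega)
    rw [hJeq] at h4
    have : 2 ∣ J := by omega
    exact hodd this

end Cfsg.Agent.Lib.Helper22.HsM
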