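import Mathlib
import Cfsg.Agent.Lib.Helper22.HsJ

/-!
Hall subgroups of alternating groups: passing between `Perm α` and `Perm {y // y ≠ x}`.
-/

set_option autoImplicit false

namespace Cfsg.Agent.Lib.Helper22.HsO

open Equiv MulAction Cfsg.Agent.Lib.Helper22.HsA Cfsg.Agent.Lib.Helper22.HsJ

variable {α : Type} [Fintype α] [DecidableEq α]

/-- the embedding `Perm {y // y ≠ x} →* Perm α`. -/
noncomputable def emb (x : α) : Perm {y : α // y ≠ x} →* Perm α := Perm.ofSubtype

theorem emb_injective (x : α) : Function.Injective (emb x) := Perm.ofSubtype_injective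

theorem emb_apply_self (x : α) (k : Perm {y : α // y ≠ x}) : emb x k x = x :=
  Perm.ofSubtype_apply_of_not_mem k (by simp)

theorem emb_apply_ne (x : α) (k : Perm {y : α // y ≠ x}) {y : α} (hy : y ≠ x) :
    emb x k y = (k ⟨y, hy⟩ : α) :=
  Perm.ofSubtype_apply_of_mem k hy

theorem sign_emb (x : α) (k : Perm {y : α // y ≠ x}) : Perm.sign (emb x k) = Perm.sign k :=
  Perm.sign_ofSubtype k

/-- every permutation fixing `x` comes from `Perm {y // y ≠ x}`. -/
theorem exists_emb_eq {x : α} {g : Perm α} (hg : g x = x) : ∃ k, emb x k = g := by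
  have h1 : ∀ y : α, (g y ≠ x) ↔ (y ≠ x) := by
    intro y
    constructor
    · intro h hy; apply h; rw [hy, hg]
    · intro h hy
      apply h
      have : g y = g x := by rw [hy, hg]
      exact g.injective this
  refine ⟨g.subtypePerm h1, ?_⟩
  apply Perm.ofSubtype_subtypePerm
  intro y hy hyx
  apply hy; rw [hyx, hg]

/-- restriction of a subgroup to the complement of `x`. -/
noncomputable def down (x : α) (L : Subgroup (Perm α)) : Subgroup (Perm {y : α // y ≠ x}) :=
  L.comap (emb x)

/-- extension by the fixed point `x`. -/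
noncomputable def up (x : α) (K : Subgroup (Perm {y : α // y ≠ x})) : Subgroup (Perm α) :=
  K.map (emb x)

theorem up_down {x : α} {L : Subgroup (Perm α)} (hL : ∀ g ∈ L, g x = x) : up x (down x L) = L := by
  unfold up down
  rw [Subgroup.map_comap_eq, inf_eq_right]
  intro g hg
  obtain ⟨k, hk⟩ := exists_emb_eq (hL g hg)
  exact ⟨k, hk⟩

theorem down_up (x : α) (K : Subgroup (Perm {y : α // y ≠ x})) : down x (up x K) = K :=
  Subgroup.comap_map_eq_self_of_injective (emb_injective x) K

theorem card_up (x : α) (K : Subgroup (Perm {y : α // y ≠ x})) : Nat.card (up x K) = Nat.card K :=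
  Subgroup.card_map_of_injective (emb_injective x)

theorem card_down {x : α} {L : Subgroup (Perm α)} (hL : ∀ g ∈ L, g x = x) :
    Nat.card (down x L) = Nat.card L := by
  rw [← card_up x (down x L), up_down hL]

theorem up_fixes (x : α) (K : Subgroup (Perm {y : α // y ≠ x})) : ∀ g ∈ up x K, g x = x := by
  rintro _ ⟨k, -, rfl⟩
  exact emb_apply_self x k

theorem up_mono (x : α) {K K' : Subgroup (Perm {y : α // y ≠ x})} (h : K ≤ K') :
    up x K ≤ up x K' := Subgroup.map_mono h

theorem up_le_alt_iff (x : α) (K : Subgroup (Perm {y : α // y ≠ x})) :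
    up x K ≤ alternatingGroup α ↔ K ≤ alternatingGroup {y : α // y ≠ x} := by
  constructor
  · intro h k hk
    have := h ⟨k, hk, rfl⟩
    rw [Perm.mem_alternatingGroup] at this ⊢
    rwa [sign_emb] at this
  · rintro h _ ⟨k, hk, rfl⟩
    have := h hk
    rw [Perm.mem_alternatingGroup] at this ⊢
    rwa [sign_emb]

theorem up_inf_alt (x : α) (K : Subgroup (Perm {y : α // y ≠ x})) :
    up x (K ⊓ alternatingGroup {y : α // y ≠ x}) = up x K ⊓ alternatingGroup α := by
  apply le_antisymm
  · intro g hg
    obtain ⟨k, hk, rfl⟩ := hg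
    have hk1 : k ∈ K := hk.1
    have hk2 : k ∈ alternatingGroup {y : α // y ≠ x} := hk.2
    refine Subgroup.mem_inf.2 ⟨⟨k, hk1, rfl⟩, ?_⟩
    rw [Perm.mem_alternatingGroup] at hk2 ⊢
    rwa [sign_emb]
  · intro g hg
    obtain ⟨hg1, hg2⟩ := Subgroup.mem_inf.1 hg
    obtain ⟨k, hk, rfl⟩ := hg1
    refine ⟨k, Subgroup.mem_inf.2 ⟨hk, ?_⟩, rfl⟩
    rw [Perm.mem_alternatingGroup] at hg2 ⊢
    rwa [sign_emb] at hg2

theorem card_compl (x : α) : Fintype.card {y : α // y ≠ x} = Fintype.card α - 1 := by
  have := Fintype.card_subtype_compl (fun y : α => y = x)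
  simp only [Fintype.card_subtype_eq] at this
  exact this

end Cfsg.Agent.Lib.Helper22.HsO
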