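import Mathlib
import Cfsg.Agent.Lib.Helper22.HsJ
import Cfsg.Agent.Lib.Helper22.HsO

/-!
Hall subgroups of alternating groups: extension criterion and descent to a point stabilizer.
-/

set_option autoImplicit false

namespace Cfsg.Agent.Lib.Helper22.HsP

open Equiv MulAction Cfsg.Agent.Lib.Helper22.HsA Cfsg.Agent.Lib.Helper22.HsJ
  Cfsg.Agent.Lib.Helper22.HsO

variable {α : Type} [Fintype α] [DecidableEq α]

theorem perm_eq_one_of_card_le_one (h : Fintype.card α ≤ 1) (g : Perm α) : g = 1 := by
  have : Subsingleton α := Fintype.card_le_one_iff_subsingleton.1 h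
  ext x
  exact Subsingleton.elim _ _

theorem subgroup_eq_of_card_le_one (h : Fintype.card α ≤ 1) (P Q : Subgroup (Perm α)) : P = Q := by
  ext g
  rw [perm_eq_one_of_card_le_one h g]
  exact ⟨fun _ => Q.one_mem, fun _ => P.one_mem⟩

theorem piPrime_mul {π : Set ℕ} {a b : ℕ} (ha : piPrime π a) (hb : piPrime π b) :
    piPrime π (a * b) := by
  intro p hp hpπ hd
  rcases (Nat.Prime.dvd_mul hp).1 hd with h | h
  · exact ha p hp hpπ h
  · exact hb p hp hpπ h

theorem piNum_mul {π : Set ℕ} {a b : ℕ} (ha : piNum π a) (hb : piNum π b) :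
    piNum π (a * b) := by
  intro p hp hd
  rcases (Nat.Prime.dvd_mul hp).1 hd with h | h
  · exact ha p hp h
  · exact hb p hp h

/-- a `π`-subgroup of `Perm α` containing a Hall `π`-subgroup of the alternating group and
not contained in the alternating group is a Hall subgroup of `Perm α`. -/
theorem ext_of_super {π : Set ℕ} {M P : Subgroup (Perm α)} (hM : HallAlt π M) (hMP : M ≤ P)
    (hP : piNum π (Nat.card P)) (hPA : ¬ P ≤ alternatingGroup α) :
    Cfsg.IsPiHall π P ∧ P ⊓ alternatingGroup α = M := by
  have hN : 2 ≤ Fintype.card α := by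
    by_contra h
    apply hPA
    rw [subgroup_eq_of_card_le_one (by omega) P (alternatingGroup α)]
  have : Nontrivial α := Fintype.one_lt_card_iff_nontrivial.1 (by omega)
  have hinf : P ⊓ alternatingGroup α = M :=
    hM.eq_of_le (le_inf hMP hM.1) inf_le_right
      (piNum_of_dvd (Subgroup.card_dvd_of_le inf_le_left) hP)
  have hrel : (alternatingGroup α).relIndex P = 2 := by
    have h1 : (alternatingGroup α).relIndex P ∣ 2 := by
      rw [← alternatingGroup.index_eq_two (α := α)]
      exact Subgroup.relIndex_dvd_index_of_normal _ _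
    have h2 : (alternatingGroup α).relIndex P ≠ 1 := by
      rw [Ne, Subgroup.relIndex_eq_one]; exact hPA
    rcases (Nat.dvd_prime Nat.prime_two).1 h1 with h | h
    · exact absurd h h2
    · exact h
  have hcard : Nat.card P = Nat.card M * 2 := by
    have := card_mul_relIndex (inf_le_left : P ⊓ alternatingGroup α ≤ P)
    rw [Subgroup.inf_relIndex_left, hrel, hinf] at this
    exact this.symm
  refine ⟨⟨hP, ?_⟩, hinf⟩
  have h1 := card_mul_index_perm P
  rw [Nat.card_eq_fintype_card (α := α)] at h1
  have h2 := two_mul_card_mul_relIndex hM.1 hN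
  have hidx : P.index = M.relIndex (alternatingGroup α) := by
    have hpos : 0 < Nat.card M * 2 := by
      have : 0 < Nat.card M := Nat.card_pos
      omega
    apply Nat.eq_of_mul_eq_mul_left hpos
    rw [← hcard, h1, ← h2]; rw [hcard]; ring
  rw [hidx]; exact hM.2.2

/-- descent of a subgroup of the alternating group fixing `x`. -/
theorem down_alt {L : Subgroup (Perm α)} (hLA : L ≤ alternatingGroup α) {x : α}
    (hfix : ∀ g ∈ L, g x = x) (hN : 3 ≤ Fintype.card α) :
    down x L ≤ alternatingGroup {y : α // y ≠ x} ∧ Nat.card (down x L) = Nat.card L ∧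
      2 * (Nat.card L * (down x L).relIndex (alternatingGroup {y : α // y ≠ x}))
        = (Fintype.card α - 1).factorial := by
  have h1 : down x L ≤ alternatingGroup {y : α // y ≠ x} := by
    rw [← up_le_alt_iff, up_down hfix]; exact hLA
  refine ⟨h1, card_down hfix, ?_⟩
  have h2 := two_mul_card_mul_relIndex h1 (by rw [card_compl]; omega)
  rw [card_compl, card_down hfix] at h2
  exact h2

/-- the point stabilizer of `x` in `M`, as a subgroup of `Perm α`. -/
noncomputable def stabSub (M : Subgroup (Perm α)) (x : α) : Subgroup (Perm α) :=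
  (stabilizer M x).map M.subtype

theorem mem_stabSub {M : Subgroup (Perm α)} {x : α} {g : Perm α} :
    g ∈ stabSub M x ↔ g ∈ M ∧ g x = x := by
  constructor
  · rintro ⟨m, hm, rfl⟩
    refine ⟨m.2, ?_⟩
    have : m • x = x := hm
    exact this
  · rintro ⟨hg, hx⟩
    refine ⟨⟨g, hg⟩, ?_, rfl⟩
    show (⟨g, hg⟩ : M) • x = x
    exact hx

theorem stabSub_le (M : Subgroup (Perm α)) (x : α) : stabSub M x ≤ M := fun _ hg =>
  (mem_stabSub.1 hg).1

theorem stabSub_fix (M : Subgroup (Perm α)) (x : α) : ∀ g ∈ stabSub M x, g x = x := fun _ hg =>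
  (mem_stabSub.1 hg).2

theorem card_stabSub_mul (M : Subgroup (Perm α)) [IsPretransitive M α] (x : α) :
    Nat.card (stabSub M x) * Fintype.card α = Nat.card M := by
  have h1 : Nat.card (stabSub M x) = Nat.card (stabilizer M x) :=
    Subgroup.card_map_of_injective M.subtype_injective
  have hidx : (stabilizer M x).index = Nat.card α := index_stabilizer_of_transitive M x
  rw [h1, ← Nat.card_eq_fintype_card, ← hidx]
  exact Subgroup.card_mul_index _

theorem factorial_pred_mul {N : ℕ} (hN : 1 ≤ N) : N * (N - 1).factorial = N.factorial := by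
  obtain ⟨m, rfl⟩ : ∃ m, N = m + 1 := ⟨N - 1, by omega⟩
  rw [Nat.factorial_succ]; simp

/-- descent of a transitive Hall subgroup to the point stabilizer. -/
theorem HallAlt.down_stab {π : Set ℕ} {M : Subgroup (Perm α)} (hM : HallAlt π M)
    [IsPretransitive M α] (x : α) (hN : 3 ≤ Fintype.card α) :
    HallAlt π (down x (stabSub M x)) ∧
      (down x (stabSub M x)).relIndex (alternatingGroup {y : α // y ≠ x})
        = M.relIndex (alternatingGroup α) ∧ piNum π (Fintype.card α) := by
  have hLA : stabSub M x ≤ alternatingGroup α := (stabSub_le M x).trans hM.1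
  obtain ⟨h1, h2, h3⟩ := down_alt hLA (stabSub_fix M x) hN
  have hmul := card_stabSub_mul M x
  have h4 := two_mul_card_mul_relIndex hM.1 (by omega)
  have hrel : (down x (stabSub M x)).relIndex (alternatingGroup {y : α // y ≠ x})
        = M.relIndex (alternatingGroup α) := by
    have hpos : 0 < 2 * Nat.card M := by
      have : 0 < Nat.card M := Nat.card_pos
      omega
    apply Nat.eq_of_mul_eq_mul_left hpos
    have e1 : 2 * Nat.card M * M.relIndex (alternatingGroup α) = (Fintype.card α).factorial := by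
      rw [← h4]; ring
    rw [e1, ← factorial_pred_mul (by omega : 1 ≤ Fintype.card α), ← h3, ← hmul]; ring
  refine ⟨⟨h1, ?_, ?_⟩, hrel, ?_⟩
  · rw [h2]
    exact piNum_of_dvd (Subgroup.card_dvd_of_le (stabSub_le M x)) hM.2.1
  · rw [hrel]; exact hM.2.2
  · apply piNum_of_dvd _ hM.2.1
    rw [← hmul]; exact dvd_mul_left _ _

/-- descent of a Hall subgroup fixing a point. -/
theorem HallAlt.down_fix {π : Set ℕ} {M : Subgroup (Perm α)} (hM : HallAlt π M) {x : α}
    (hfix : ∀ g ∈ M, g x = x) (hN : 3 ≤ Fintype.card α) :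
    HallAlt π (down x M) ∧ piPrime π (Fintype.card α) := by
  obtain ⟨h1, h2, h3⟩ := down_alt hM.1 hfix hN
  have h4 := two_mul_card_mul_relIndex hM.1 (by omega)
  have hrel : (down x M).relIndex (alternatingGroup {y : α // y ≠ x}) * Fintype.card α
        = M.relIndex (alternatingGroup α) := by
    have hpos : 0 < 2 * Nat.card M := by
      have : 0 < Nat.card M := Nat.card_pos
      omega
    apply Nat.eq_of_mul_eq_mul_left hpos
    have e1 : 2 * Nat.card M * M.relIndex (alternatingGroup α) = (Fintype.card α).factorial := by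
      rw [← h4]; ring
    rw [e1, ← factorial_pred_mul (by omega : 1 ≤ Fintype.card α), ← h3]; ring
  refine ⟨⟨h1, ?_, ?_⟩, ?_⟩
  · rw [h2]; exact hM.2.1
  · exact piPrime_of_dvd (by rw [← hrel]; exact dvd_mul_right _ _) hM.2.2
  · exact piPrime_of_dvd (by rw [← hrel]; exact dvd_mul_left _ _) hM.2.2

/-- lifting a Hall subgroup of `Perm {y // y ≠ x}` when the degree is a `π'`-number. -/
theorem isPiHall_up {π : Set ℕ} {x : α} {K₀ : Subgroup (Perm {y : α // y ≠ x})}
    (hK : Cfsg.IsPiHall π K₀) (hNπ : piPrime π (Fintype.card α)) :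
    Cfsg.IsPiHall π (up x K₀) := by
  have hN : 1 ≤ Fintype.card α := Fintype.card_pos_iff.2 ⟨x⟩
  refine ⟨?_, ?_⟩
  · rw [card_up]; exact hK.1
  · have h1 := card_mul_index_perm (up x K₀)
    have h2 := card_mul_index_perm K₀
    rw [Nat.card_eq_fintype_card (α := α)] at h1
    rw [Nat.card_eq_fintype_card (α := {y : α // y ≠ x}), card_compl] at h2
    rw [card_up] at h1
    have hidx : (up x K₀).index = Fintype.card α * K₀.index := by
      have hpos : 0 < Nat.card K₀ := Nat.card_pos
      apply Nat.eq_of_mul_eq_mul_left hpos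
      rw [h1, ← factorial_pred_mul hN, ← h2]; ring
    rw [hidx]
    exact piPrime_mul hNπ hK.2

end Cfsg.Agent.Lib.Helper22.HsP
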