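import Mathlib
import Cfsg.Agent.Lib.Helper22.HsF
import Cfsg.Agent.Lib.Helper22.HsJ
import Cfsg.Agent.Lib.Helper22.HsM
import Cfsg.Agent.Lib.Helper22.HsO
import Cfsg.Agent.Lib.Helper22.HsP

/-!
Hall subgroups of alternating groups: a Hall `π`-subgroup (`2 ∈ π`, two primes, not all) is
never primitive.
-/

set_option autoImplicit false

namespace Cfsg.Agent.Lib.Helper22.HsN

open Equiv MulAction Cfsg.Agent.Lib.Helper22.HsA Cfsg.Agent.Lib.Helper22.HsB
  Cfsg.Agent.Lib.Helper22.HsF Cfsg.Agent.Lib.Helper22.HsJ Cfsg.Agent.Lib.Helper22.HsL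
  Cfsg.Agent.Lib.Helper22.HsM Cfsg.Agent.Lib.Helper22.HsO Cfsg.Agent.Lib.Helper22.HsP

variable {α : Type} [Fintype α] [DecidableEq α]

theorem three_dvd_consecutive (m : ℕ) : 3 ∣ (m + 3) * (m + 2) * (m + 1) := by
  apply Nat.dvd_of_mod_eq_zero
  rcases (show m % 3 = 0 ∨ m % 3 = 1 ∨ m % 3 = 2 by omega) with h | h | h <;>
    simp [Nat.mul_mod, Nat.add_mod, h]

/-- a 3-transitive group has order divisible by 3. -/
theorem three_dvd_card_of_three_pretransitive (M : Subgroup (Perm α))
    (h3 : IsMultiplyPretransitive M α 3) (hN : 3 ≤ Fintype.card α) : 3 ∣ Nat.card M := by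
  obtain ⟨s, -, hs⟩ : ∃ s ⊆ (Set.univ : Set α), s.ncard = 3 := by
    apply Set.exists_subset_card_eq
    rw [Set.ncard_univ, Nat.card_eq_fintype_card]; exact hN
  have h := h3.index_of_fixingSubgroup_mul hs
  rw [Nat.card_eq_fintype_card] at h
  obtain ⟨m, hm⟩ : ∃ m, Fintype.card α = m + 3 := ⟨Fintype.card α - 3, by omega⟩
  rw [hm] at h
  have h' : (fixingSubgroup M s).index * m.factorial = ((m + 3) * (m + 2) * (m + 1)) * m.factorial := by
    have : m + 3 - 3 = m := by omega
    rw [this] at h
    rw [h, Nat.factorial_succ, Nat.factorial_succ, Nat.factorial_succ]; ring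
  have hidx : (fixingSubgroup M s).index = (m + 3) * (m + 2) * (m + 1) :=
    Nat.eq_of_mul_eq_mul_right (Nat.factorial_pos m) h'
  have : (fixingSubgroup M s).index ∣ Nat.card M := Subgroup.index_dvd_card _
  rw [hidx] at this
  exact (three_dvd_consecutive m).trans this

/-- a primitive Hall subgroup containing a cycle of odd prime length `r ≤ N - 2` has order
divisible by 3. -/
theorem three_dvd_of_cycle (M : Subgroup (Perm α)) (hprim : IsPreprimitive M α)
    {g : Perm α} (hg : g ∈ M) (hgc : g.IsCycle) {r : ℕ} (hr : r.Prime)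
    (hgs : g.support.card = r) (hrN : r + 2 ≤ Fintype.card α) : 3 ∣ Nat.card M := by
  have htrans := Equiv.Perm.isPretransitive_of_isCycle_mem (G := M) hgc hg
  have hr2 := hr.two_le
  have hsc : Set.ncard ((g.support : Set α)ᶜ) = (Fintype.card α - r - 1) + 1 := by
    have h1 := Set.ncard_add_ncard_compl (g.support : Set α)
    rw [Set.ncard_coe_finset, hgs, Nat.card_eq_fintype_card] at h1
    omega
  have hprim' : IsPreprimitive (fixingSubgroup M ((g.support : Set α)ᶜ))
      (SubMulAction.ofFixingSubgroup M ((g.support : Set α)ᶜ)) := by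
    apply IsPreprimitive.of_prime_card
    rw [show Nat.card (SubMulAction.ofFixingSubgroup M ((g.support : Set α)ᶜ))
      = ((g.support : Set α)ᶜ)ᶜ.ncard from Nat.card_coe_set_eq _, compl_compl,
      Set.ncard_coe_finset, hgs]
    exact hr
  have hmp : IsMultiplyPreprimitive M α ((Fintype.card α - r - 1) + 2) :=
    hprim.isMultiplyPreprimitive hsc (by rw [Nat.card_eq_fintype_card]; omega) hprim'
  have hmt : IsMultiplyPretransitive M α ((Fintype.card α - r - 1) + 2) :=
    IsMultiplyPreprimitive.isMultiplyPretransitive M α _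
  have h3 : IsMultiplyPretransitive M α 3 :=
    isMultiplyPretransitive_of_le (n := (Fintype.card α - r - 1) + 2) (by omega)
      (by rw [Nat.card_eq_fintype_card]; omega)
  exact three_dvd_card_of_three_pretransitive M h3 (by omega)

/-- the point stabilizer of a 2-transitive group is transitive on the remaining points. -/
theorem down_stab_pretransitive (M : Subgroup (Perm α)) (h2t : IsMultiplyPretransitive M α 2)
    (x : α) : IsPretransitive (down x (stabSub M x)) {y : α // y ≠ x} := by
  rw [MulAction.is_two_pretransitive_iff] at h2t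
  constructor
  intro y z
  obtain ⟨g, hgx, hgy⟩ := h2t (a := x) (b := y.1) (c := x) (d := z.1) (Ne.symm y.2) (Ne.symm z.2)
  have hgx' : (g : Perm α) x = x := hgx
  have hgy' : (g : Perm α) y.1 = z.1 := hgy
  obtain ⟨k, hk⟩ := exists_emb_eq hgx'
  have hkK : k ∈ down x (stabSub M x) := by
    show emb x k ∈ stabSub M x
    rw [hk, mem_stabSub]
    exact ⟨g.2, hgx'⟩
  refine ⟨⟨k, hkK⟩, ?_⟩
  show k y = z
  apply Subtype.ext
  rw [← emb_apply_ne x k y.2, hk, hgy']

/-- **primitive case**: a Hall `π`-subgroup of the alternating group (with `2 ∈ π`, two primes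
of `π` up to the degree but not all) is not primitive. -/
theorem primitive_false (π : Set ℕ) (M : Subgroup (Perm α)) (hM : HallAlt π M) (h2 : 2 ∈ π)
    (hprim : IsPreprimitive M α) (hN : 5 ≤ Fintype.card α)
    (h2p : TwoPrimes π (Fintype.card α)) (hnf : NotFull π (Fintype.card α)) : False := by
  classical
  -- 3 ∉ π
  have h3 : 3 ∉ π := by
    intro h3
    obtain ⟨g, hgM, hgc, hgs⟩ := hM.exists_cycle_mem Nat.prime_three (by norm_num) h3 (by omega)
    have h3c : g.IsThreeCycle := card_support_eq_three_iff.1 hgs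
    have hle := Equiv.Perm.alternatingGroup_le_of_isPreprimitive_of_isThreeCycle_mem hprim h3c hgM
    obtain ⟨r, hr, hrN, hrπ⟩ := hnf
    exact hrπ (full_of_alt_le hM h2 hle (by omega) r hr hrN)
  -- odd primes of π are at least N - 1
  have hodd : ∀ r : ℕ, r.Prime → r ∈ π → r ≤ Fintype.card α → r ≠ 2 →
      Fintype.card α ≤ r + 1 := by
    intro r hr hrπ hrN hr2
    by_contra hlt
    obtain ⟨g, hgM, hgc, hgs⟩ := hM.exists_cycle_mem hr hr2 hrπ hrN
    have := three_dvd_of_cycle M hprim hgM hgc hr hgs (by omega)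
    exact h3 (hM.2.1 3 Nat.prime_three this)
  obtain ⟨r, hr, hrπ, hrN, hr2⟩ : ∃ r : ℕ, r.Prime ∧ r ∈ π ∧ r ≤ Fintype.card α ∧ r ≠ 2 := by
    obtain ⟨r, s, hr, hs, hrs, hrπ, hsπ, hrN, hsN⟩ := h2p
    by_cases h : r = 2
    · exact ⟨s, hs, hsπ, hsN, fun h' => hrs (h.trans h'.symm)⟩
    · exact ⟨r, hr, hrπ, hrN, h⟩
  have hrge := hodd r hr hrπ hrN hr2
  have hrodd : r % 2 = 1 := by
    rcases hr.eq_two_or_odd with h | h
    · exact absurd h hr2
    · exact h
  have hσ : ∀ p : ℕ, p.Prime → p ∈ π → p ≤ Fintype.card α → p = 2 ∨ p = r := by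
    intro p hp hpπ hpN
    by_cases hp2 : p = 2
    · exact Or.inl hp2
    · right
      have h1 := hodd p hp hpπ hpN hp2
      have hpodd : p % 2 = 1 := by
        rcases hp.eq_two_or_odd with h | h
        · exact absurd h hp2
        · exact h
      omega
  have hr5 : 5 ≤ r := by
    have := hr.two_le
    by_contra hlt
    have hr3 : r = 3 ∨ r = 4 := by omega
    rcases hr3 with h | h
    · rw [h] at hrπ; exact h3 hrπ
    · rw [h] at hr; exact absurd hr (by norm_num)
  rcases (show r = Fintype.card α ∨ r + 1 = Fintype.card α by omega) with hrN' | hrN'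
  · have htr : IsPretransitive M α := hprim.toIsPretransitive
    refine star π M hM h2 (hrN' ▸ hr) hN ?_
    intro p hp hpπ hpN
    rcases hσ p hp hpπ hpN with h | h
    · exact Or.inl h
    · right; rw [h, hrN']
  · have hodd2 : ¬ 2 ∣ M.relIndex (alternatingGroup α) := hM.2.2 2 Nat.prime_two h2
    have h2t := two_pretransitive_of_odd_relIndex M hM.1 hodd2 hprim hN
    have htr : IsPretransitive M α := hprim.toIsPretransitive
    have hne : Nonempty α := Fintype.card_pos_iff.1 (by omega)
    obtain ⟨x⟩ := hne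
    obtain ⟨hK, -, -⟩ := HallAlt.down_stab hM x (by omega)
    have hKtr := down_stab_pretransitive M h2t x
    have hcβ : Fintype.card {y : α // y ≠ x} = r := by rw [card_compl]; omega
    refine star π (down x (stabSub M x)) hK h2 (by rw [hcβ]; exact hr) (by rw [hcβ]; exact hr5) ?_
    intro p hp hpπ hpN
    rw [hcβ] at hpN ⊢
    exact hσ p hp hpπ (by omega)

end Cfsg.Agent.Lib.Helper22.HsN
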