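import Mathlib
import Cfsg.Agent.Lib.Helper22.HsC
import Cfsg.Agent.Lib.Helper22.HsJ
import Cfsg.Agent.Lib.Helper22.HsP

/-!
Hall subgroups of alternating groups: the intransitive case of the extension theorem.
-/

set_option autoImplicit false

namespace Cfsg.Agent.Lib.Helper22.HsQ

open Equiv MulAction Cfsg.Agent.Lib.Helper22.HsA Cfsg.Agent.Lib.Helper22.HsC
  Cfsg.Agent.Lib.Helper22.HsJ Cfsg.Agent.Lib.Helper22.HsP

variable {α : Type} [Fintype α] [DecidableEq α]

/-- the group of permutations that agree on `S` with an element of `M` and off `S` with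
a possibly different element of `M`. -/
def splitGroup (M : Subgroup (Perm α)) (S : Set α) (hS : ∀ g ∈ M, ∀ a, g a ∈ S ↔ a ∈ S) :
    Subgroup (Perm α) where
  carrier := {g | ∃ g₁ ∈ M, ∃ g₂ ∈ M, (∀ a ∈ S, g a = g₁ a) ∧ (∀ a, a ∉ S → g a = g₂ a)}
  one_mem' := ⟨1, M.one_mem, 1, M.one_mem, fun _ _ => rfl, fun _ _ => rfl⟩
  mul_mem' := by
    rintro g h ⟨g₁, hg₁, g₂, hg₂, hgS, hgT⟩ ⟨h₁, hh₁, h₂, hh₂, hhS, hhT⟩
    refine ⟨g₁ * h₁, M.mul_mem hg₁ hh₁, g₂ * h₂, M.mul_mem hg₂ hh₂, ?_, ?_⟩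
    · intro a ha
      rw [Perm.mul_apply, Perm.mul_apply, hhS a ha, hgS _ ((hS h₁ hh₁ a).2 ha)]
    · intro a ha
      rw [Perm.mul_apply, Perm.mul_apply, hhT a ha, hgT _ (fun h => ha ((hS h₂ hh₂ a).1 h))]
  inv_mem' := by
    rintro g ⟨g₁, hg₁, g₂, hg₂, hgS, hgT⟩
    refine ⟨g₁⁻¹, M.inv_mem hg₁, g₂⁻¹, M.inv_mem hg₂, ?_, ?_⟩
    · intro a ha
      have h1 : g₁⁻¹ a ∈ S := by
        rw [← hS g₁ hg₁]; simpa using ha
      rw [Perm.inv_eq_iff_eq, hgS _ h1]; simp
    · intro a ha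
      have h1 : g₂⁻¹ a ∉ S := by
        rw [← hS g₂ hg₂]; simpa using ha
      rw [Perm.inv_eq_iff_eq, hgT _ h1]; simp

theorem mem_splitGroup {M : Subgroup (Perm α)} {S : Set α} {hS : ∀ g ∈ M, ∀ a, g a ∈ S ↔ a ∈ S}
    {g : Perm α} : g ∈ splitGroup M S hS ↔
      ∃ g₁ ∈ M, ∃ g₂ ∈ M, (∀ a ∈ S, g a = g₁ a) ∧ (∀ a, a ∉ S → g a = g₂ a) := Iff.rfl

theorem le_splitGroup (M : Subgroup (Perm α)) (S : Set α) (hS : ∀ g ∈ M, ∀ a, g a ∈ S ↔ a ∈ S) :
    M ≤ splitGroup M S hS := fun g hg => ⟨g, hg, g, hg, fun _ _ => rfl, fun _ _ => rfl⟩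

theorem pow_agree {g g₁ : Perm α} {S : Set α} (hinv : ∀ a ∈ S, g₁ a ∈ S)
    (hag : ∀ a ∈ S, g a = g₁ a) : ∀ j : ℕ, ∀ a ∈ S, (g ^ j) a = (g₁ ^ j) a := by
  intro j
  induction j with
  | zero => intro a _; simp
  | succ j ih =>
    intro a ha
    rw [pow_succ, pow_succ, Perm.mul_apply, Perm.mul_apply, hag a ha, ih _ (hinv a ha)]

theorem fix_of_pow_fix {g₁ : Perm α} {p : ℕ} (hcop : Nat.Coprime p (orderOf g₁)) {S : Set α}
    (h : ∀ a ∈ S, (g₁ ^ p) a = a) : ∀ a ∈ S, g₁ a = a := by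
  obtain ⟨m, hm⟩ := exists_pow_eq_self_of_coprime hcop
  intro a ha
  have : ((g₁ ^ p) ^ m) a = a := Perm.pow_apply_eq_self_of_apply_eq_self (h a ha) m
  rwa [hm] at this

/-- the split group of a `π`-group is a `π`-group. -/
theorem piNum_splitGroup {π : Set ℕ} (M : Subgroup (Perm α)) (hM : piNum π (Nat.card M))
    (S : Set α) (hS : ∀ g ∈ M, ∀ a, g a ∈ S ↔ a ∈ S) :
    piNum π (Nat.card (splitGroup M S hS)) := by
  intro p hp hpd
  by_contra hpπ
  have : Fact p.Prime := ⟨hp⟩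
  obtain ⟨x, hx⟩ := exists_prime_orderOf_dvd_card' (G := splitGroup M S hS) p hpd
  obtain ⟨g₁, hg₁, g₂, hg₂, hgS, hgT⟩ := x.2
  have hcop : ∀ h ∈ M, Nat.Coprime p (orderOf h) := by
    intro h hh
    rw [Nat.Prime.coprime_iff_not_dvd hp]
    intro hd
    apply hpπ
    apply hM p hp
    have h1 : orderOf (⟨h, hh⟩ : M) ∣ Nat.card M := orderOf_dvd_natCard _
    rw [Subgroup.orderOf_mk] at h1
    exact hd.trans h1
  have hxp : (x : Perm α) ^ p = 1 := by
    have : x ^ p = 1 := by rw [← hx]; exact pow_orderOf_eq_one x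
    have := congrArg (Subtype.val) this
    simpa using this
  have h1 : ∀ a ∈ S, g₁ a = a := by
    apply fix_of_pow_fix (hcop g₁ hg₁)
    intro a ha
    rw [← pow_agree (g := (x : Perm α)) (fun a ha => (hS g₁ hg₁ a).2 ha) hgS p a ha, hxp]
    rfl
  have h2 : ∀ a ∈ {a | a ∉ S}, g₂ a = a := by
    apply fix_of_pow_fix (hcop g₂ hg₂)
    intro a ha
    rw [← pow_agree (g := (x : Perm α)) (S := {a | a ∉ S})
      (fun a ha => fun h => ha ((hS g₂ hg₂ a).1 h)) hgT p a ha, hxp]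
    rfl
  have hx1 : (x : Perm α) = 1 := by
    ext a
    by_cases ha : a ∈ S
    · rw [hgS a ha, h1 a ha]; rfl
    · rw [hgT a ha, h2 a ha]; rfl
  have : x = 1 := Subtype.ext hx1
  rw [this, orderOf_one] at hx
  exact hp.one_lt.ne hx

/-- if some element of `M` is odd on the invariant set `S`, then `M` extends. -/
theorem ext_of_odd_part {π : Set ℕ} {M : Subgroup (Perm α)} (hM : HallAlt π M)
    (S : SubMulAction M α) [DecidablePred (· ∈ S)] (g : M)
    (hodd : Perm.sign (Perm.ofSubtype (MulAction.toPermHom M S g)) = -1) :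
    ∃ M₀ : Subgroup (Perm α), Cfsg.IsPiHall π M₀ ∧ M₀ ⊓ alternatingGroup α = M := by
  have hS : ∀ h ∈ M, ∀ a, h a ∈ (S : Set α) ↔ a ∈ (S : Set α) := by
    intro h hh a
    exact S.smul_mem_iff' (⟨h, hh⟩ : M) (x := a)
  refine ⟨splitGroup M S hS, ?_⟩
  apply ext_of_super hM (le_splitGroup M S hS) (piNum_splitGroup M hM.2.1 S hS)
  intro hle
  have hmem : Perm.ofSubtype (MulAction.toPermHom M S g) ∈ splitGroup M S hS := by
    refine ⟨g, g.2, 1, M.one_mem, ?_, ?_⟩
    · intro a ha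
      have ha' : a ∈ S := ha
      rw [Perm.ofSubtype_apply_of_mem _ ha']
      rfl
    · intro a ha
      have ha' : ¬ a ∈ S := ha
      rw [Perm.ofSubtype_apply_of_not_mem _ ha']; rfl
  have := hle hmem
  rw [Perm.mem_alternatingGroup, hodd] at this
  exact absurd this (by decide)

/-- **intransitive case**: an invariant set `S` with `2 ≤ |S| ≤ N - 2`. -/
theorem ext_intransitive {π : Set ℕ} (h2 : 2 ∈ π) {M : Subgroup (Perm α)} (hM : HallAlt π M)
    (S T : SubMulAction M α) (hST : ∀ x : α, x ∈ T ↔ x ∉ S)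
    (hS2 : 2 ≤ Nat.card S) (hT2 : 2 ≤ Nat.card T) :
    ∃ M₀ : Subgroup (Perm α), Cfsg.IsPiHall π M₀ ∧ M₀ ⊓ alternatingGroup α = M := by
  classical
  by_cases hA : ∃ g : M, Perm.sign (MulAction.toPermHom M S g) = -1
  · obtain ⟨g, hg⟩ := hA
    exact ext_of_odd_part hM S g (by rw [Perm.sign_ofSubtype]; exact hg)
  by_cases hB : ∃ g : M, Perm.sign (MulAction.toPermHom M T g) = -1
  · obtain ⟨g, hg⟩ := hB
    exact ext_of_odd_part hM T g (by rw [Perm.sign_ofSubtype]; exact hg)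
  exfalso
  push Not at hA hB
  have hAS : img M S ≤ alternatingGroup S := by
    rintro _ ⟨g, rfl⟩
    rw [Perm.mem_alternatingGroup]
    rcases Int.units_eq_one_or (Perm.sign (MulAction.toPermHom M S g)) with h | h
    · exact h
    · exact absurd h (hA g)
  have hBT : img M T ≤ alternatingGroup T := by
    rintro _ ⟨g, rfl⟩
    rw [Perm.mem_alternatingGroup]
    rcases Int.units_eq_one_or (Perm.sign (MulAction.toPermHom M T g)) with h | h
    · exact h
    · exact absurd h (hB g)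
  have hm : 2 * Nat.card (alternatingGroup S) = (Nat.card S).factorial := by
    have := two_mul_card_alt (α := S) (by rw [← Nat.card_eq_fintype_card]; exact hS2)
    rwa [← Nat.card_eq_fintype_card] at this
  have hk : 2 * Nat.card (alternatingGroup T) = (Nat.card T).factorial := by
    have := two_mul_card_alt (α := T) (by rw [← Nat.card_eq_fintype_card]; exact hT2)
    rwa [← Nat.card_eq_fintype_card] at this
  have hcov : ∀ x : α, x ∈ S ∨ x ∈ T := by
    intro x
    by_cases hx : x ∈ S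
    · exact Or.inl hx
    · exact Or.inr ((hST x).2 hx)
  have hdvd1 : Nat.card M ∣ Nat.card (alternatingGroup S) * Nat.card (alternatingGroup T) :=
    (card_dvd_img_mul M S T hcov).trans
      (Nat.mul_dvd_mul (Subgroup.card_dvd_of_le hAS) (Subgroup.card_dvd_of_le hBT))
  have hsum := card_add_card_compl M S T hST
  have hfac : (Nat.card S).factorial * (Nat.card T).factorial ∣ (Fintype.card α).factorial := by
    rw [← Nat.card_eq_fintype_card, ← hsum]
    exact Nat.factorial_mul_factorial_dvd_factorial_add _ _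
  have h4 : 4 * Nat.card M ∣ (Fintype.card α).factorial := by
    refine dvd_trans ?_ hfac
    rw [← hm, ← hk]
    obtain ⟨c, hc⟩ := hdvd1
    exact ⟨c, by
      have : 2 * Nat.card (alternatingGroup S) * (2 * Nat.card (alternatingGroup T))
        = 4 * (Nat.card (alternatingGroup S) * Nat.card (alternatingGroup T)) := by ring
      rw [this, hc]; ring⟩
  have hN2 : 2 ≤ Fintype.card α := by
    rw [← Nat.card_eq_fintype_card, ← hsum]; omega
  have h5 := two_mul_card_mul_relIndex hM.1 hN2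
  have h6 : 2 ∣ M.relIndex (alternatingGroup α) := by
    obtain ⟨d, hd⟩ := h4
    refine ⟨d, ?_⟩
    have hpos : 0 < 2 * Nat.card M := by
      have : 0 < Nat.card M := Nat.card_pos
      omega
    apply Nat.eq_of_mul_eq_mul_left hpos
    have e1 : 2 * Nat.card M * M.relIndex (alternatingGroup α) = (Fintype.card α).factorial := by
      rw [← h5]; ring
    rw [e1, hd]; ring
  exact hM.2.2 2 Nat.prime_two h2 h6

end Cfsg.Agent.Lib.Helper22.HsQ
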