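import Mathlib
import Cfsg.Agent.Lib.Helper22.HsI
import Cfsg.Agent.Lib.Helper22.HsJ
import Cfsg.Agent.Lib.Helper22.HsP

/-!
Hall subgroups of alternating groups: a transitive Hall subgroup with a block of half the degree
extends to the stabilizer of the corresponding partition.
-/

set_option autoImplicit false

namespace Cfsg.Agent.Lib.Helper22.HsR

open Equiv MulAction Cfsg.Agent.Lib.Helper22.HsA Cfsg.Agent.Lib.Helper22.HsI
  Cfsg.Agent.Lib.Helper22.HsJ Cfsg.Agent.Lib.Helper22.HsP
open scoped Pointwise

variable {α : Type} [Fintype α] [DecidableEq α]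

/-- the stabilizer of the partition `{B, Bᶜ}`. -/
def pairStab (B : Set α) : Subgroup (Perm α) where
  carrier := {g | g • B = B ∨ g • B = Bᶜ}
  one_mem' := Or.inl (one_smul _ _)
  mul_mem' := by
    rintro g h hg hh
    show (g * h) • B = B ∨ (g * h) • B = Bᶜ
    rw [mul_smul]
    rcases hh with hh | hh
    · rw [hh]; exact hg
    · rw [hh, Set.smul_set_compl]
      rcases hg with hg | hg
      · right; rw [hg]
      · left; rw [hg, compl_compl]
  inv_mem' := by
    rintro g hg
    show g⁻¹ • B = B ∨ g⁻¹ • B = Bᶜ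
    rcases hg with hg | hg
    · left; rw [inv_smul_eq_iff, hg]
    · right
      rw [inv_smul_eq_iff, Set.smul_set_compl, hg, compl_compl]

theorem mem_pairStab {B : Set α} {g : Perm α} : g ∈ pairStab B ↔ g • B = B ∨ g • B = Bᶜ := Iff.rfl

theorem isBlock_pairStab (B : Set α) : IsBlock (pairStab B) B := by
  rw [isBlock_iff_smul_eq_or_disjoint]
  intro g
  have hg : (g : Perm α) • B = B ∨ (g : Perm α) • B = Bᶜ := g.2
  have e : g • B = (g : Perm α) • B := rfl
  rw [e]
  rcases hg with hg | hg
  · exact Or.inl hg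
  · right; rw [hg]; exact disjoint_compl_left

theorem swap_mem_pairStab {B : Set α} {a b : α} (ha : a ∈ B) (hb : b ∈ B) :
    swap a b ∈ pairStab B := by
  left
  ext x
  rw [Set.mem_smul_set_iff_inv_smul_mem, swap_inv]
  show swap a b x ∈ B ↔ x ∈ B
  by_cases hxa : x = a
  · subst hxa; rw [swap_apply_left]; exact ⟨fun _ => ha, fun _ => hb⟩
  · by_cases hxb : x = b
    · subst hxb; rw [swap_apply_right]; exact ⟨fun _ => hb, fun _ => ha⟩
    · rw [swap_apply_of_ne_of_ne hxa hxb]

/-- a transitive Hall subgroup of the alternating group with a block of half the degree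
extends to a Hall subgroup of the symmetric group, provided `(a!)^2 * 2` is a `π`-number. -/
theorem ext_of_half_block {π : Set ℕ} {M : Subgroup (Perm α)} (hM : HallAlt π M)
    [htr : IsPretransitive M α] (B : Set α) (hB : IsBlock M B)
    (hcard : 2 * B.ncard = Fintype.card α) (hB2 : 2 ≤ B.ncard)
    (hπ : piNum π ((B.ncard).factorial ^ 2 * 2)) :
    ∃ M₀ : Subgroup (Perm α), Cfsg.IsPiHall π M₀ ∧ M₀ ⊓ alternatingGroup α = M := by
  classical
  have hBne : B.Nonempty := by
    rw [← Set.ncard_pos]; omega
  have hcompl : Bᶜ.ncard = B.ncard := by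
    have := Set.ncard_add_ncard_compl B
    rw [Nat.card_eq_fintype_card] at this
    omega
  have hMW : M ≤ pairStab B := by
    intro g hg
    rcases hB.smul_eq_or_disjoint (⟨g, hg⟩ : M) with h | h
    · exact Or.inl h
    · right
      have h' : Disjoint (g • B) B := h
      have hsub : g • B ⊆ Bᶜ := Set.subset_compl_iff_disjoint_right.2 h'
      apply Set.eq_of_subset_of_ncard_le hsub
      rw [hcompl, Set.ncard_smul_set]
  have htrW : IsPretransitive (pairStab B) α := by
    constructor
    intro x y
    obtain ⟨m, hm⟩ := htr.exists_smul_eq x y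
    exact ⟨⟨m.1, hMW m.2⟩, hm⟩
  have hblk := isBlock_pairStab B
  have hdvd := card_dvd_wreath (pairStab B) B hblk hBne
  have horb : (orbit (pairStab B) B).ncard = 2 := by
    have := hblk.ncard_block_mul_ncard_orbit_eq hBne
    rw [Nat.card_eq_fintype_card, ← hcard] at this
    have hpos : 0 < B.ncard := by omega
    apply Nat.eq_of_mul_eq_mul_left hpos
    rw [this]; ring
  rw [horb] at hdvd
  have hWπ : piNum π (Nat.card (pairStab B)) := by
    apply piNum_of_dvd hdvd
    simpa [Nat.factorial] using hπ
  obtain ⟨a, b, ha, hb, hab⟩ := (Set.one_lt_ncard_iff).1 (by omega : 1 < B.ncard)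
  have hWA : ¬ pairStab B ≤ alternatingGroup α := by
    intro hle
    have := hle (swap_mem_pairStab ha hb)
    rw [Perm.mem_alternatingGroup, Perm.sign_swap hab] at this
    exact absurd this (by decide)
  exact ⟨pairStab B, ext_of_super hM hMW hWπ hWA⟩

end Cfsg.Agent.Lib.Helper22.HsR
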