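import Mathlib
import Cfsg.Agent.Lib.Helper22.HsG
import Cfsg.Agent.Lib.Helper22.HsH
import Cfsg.Agent.Lib.Helper22.HsI
import Cfsg.Agent.Lib.Helper22.HsK
import Cfsg.Agent.Lib.Helper22.HsN
import Cfsg.Agent.Lib.Helper22.HsQ
import Cfsg.Agent.Lib.Helper22.HsR

/-!
Hall subgroups of alternating groups: the transitive case of the extension theorem.
-/

set_option autoImplicit false

namespace Cfsg.Agent.Lib.Helper22.HsS

open Equiv MulAction Cfsg.Agent.Lib.Helper22.HsA Cfsg.Agent.Lib.Helper22.HsE
  Cfsg.Agent.Lib.Helper22.HsF Cfsg.Agent.Lib.Helper22.HsG Cfsg.Agent.Lib.Helper22.HsH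
  Cfsg.Agent.Lib.Helper22.HsI Cfsg.Agent.Lib.Helper22.HsJ Cfsg.Agent.Lib.Helper22.HsK
  Cfsg.Agent.Lib.Helper22.HsN Cfsg.Agent.Lib.Helper22.HsO Cfsg.Agent.Lib.Helper22.HsP
  Cfsg.Agent.Lib.Helper22.HsQ Cfsg.Agent.Lib.Helper22.HsR
open scoped Pointwise

/-- the extension property in degree `N`: every Hall `π`-subgroup of an alternating group of
degree `N` is the intersection with it of a Hall `π`-subgroup of the symmetric group. -/
def Ext (π : Set ℕ) (N : ℕ) : Prop :=
  ∀ (β : Type) [Fintype β] [DecidableEq β], Fintype.card β = N →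
    ∀ K : Subgroup (Perm β), HallAlt π K →
      ∃ K₀ : Subgroup (Perm β), Cfsg.IsPiHall π K₀ ∧ K₀ ⊓ alternatingGroup β = K

theorem relIndex_dvd_pred {π : Set ℕ} {N j c : ℕ} (hN5 : 5 ≤ N) (hNnp : ¬ N.Prime)
    (hj : piPrime π j) (hfac : 2 * (c * j) = N.factorial)
    (hπ : ∀ r : ℕ, r.Prime → r ≤ N - 1 → (r ∈ π ↔ r < N - 1)) : j ∣ N - 1 := by
  have hns : NoSmall (N - 2) j := by
    intro r hr hrN
    exact hj r hr ((hπ r hr (by omega)).2 (by omega))
  have hd : ∀ r : ℕ, r.Prime → r ∣ N * (N - 2).factorial → r ≤ N - 2 := by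
    intro r hr hrd
    rcases (Nat.Prime.dvd_mul hr).1 hrd with h | h
    · obtain ⟨q, hq⟩ := h
      have hr2 := hr.two_le
      have hq2 : 2 ≤ q := by
        by_contra hlt
        have hq01 : q = 0 ∨ q = 1 := by omega
        rcases hq01 with h0 | h1
        · rw [h0] at hq; omega
        · apply hNnp; rw [hq, h1, mul_one]; exact hr
      have : 2 * r ≤ N := by rw [hq]; nlinarith
      omega
    · exact (Nat.Prime.dvd_factorial hr).1 h
  have hcop : Nat.Coprime (N * (N - 2).factorial) j := coprime_of_noSmall hns hd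
  have hNf : N.factorial = (N - 1) * (N * (N - 2).factorial) := by
    obtain ⟨m, rfl⟩ : ∃ m, N = m + 2 := ⟨N - 2, by omega⟩
    rw [Nat.factorial_succ, Nat.factorial_succ]
    simp only [Nat.add_sub_cancel]
    have : m + 1 + 1 - 1 = m + 1 := by omega
    rw [this]; ring
  have hdvd : j ∣ (N - 1) * (N * (N - 2).factorial) := by
    rw [← hNf, ← hfac]; exact ⟨2 * c, by ring⟩
  exact Nat.Coprime.dvd_of_dvd_mul_right hcop.symm hdvd

variable {α : Type} [Fintype α] [DecidableEq α]

/-- **transitive case** of the extension theorem. -/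
theorem ext_transitive (π : Set ℕ) (h2 : 2 ∈ π) (N : ℕ) (IH : ∀ j < N, Ext π j)
    (hcard : Fintype.card α = N) (M : Subgroup (Perm α)) (hM : HallAlt π M)
    [htr : IsPretransitive M α] (h2p : TwoPrimes π N) (hnf : NotFull π N) (hN5 : 5 ≤ N) :
    ∃ M₀ : Subgroup (Perm α), Cfsg.IsPiHall π M₀ ∧ M₀ ⊓ alternatingGroup α = M := by
  classical
  have hN5' : 5 ≤ Fintype.card α := by omega
  have hnprim : ¬ IsPreprimitive M α := fun h =>
    primitive_false π M hM h2 h hN5' (hcard ▸ h2p) (hcard ▸ hnf)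
  have hNnp : ¬ N.Prime := by
    intro hp
    apply hnprim
    apply IsPreprimitive.of_prime_card
    rw [Nat.card_eq_fintype_card, hcard]; exact hp
  obtain ⟨x⟩ : Nonempty α := Fintype.card_pos_iff.1 (by omega)
  obtain ⟨hK, hrel, hNπ⟩ := HallAlt.down_stab hM x (by omega)
  have hcβ : Fintype.card {y : α // y ≠ x} = N - 1 := by rw [card_compl, hcard]
  obtain ⟨K₀, hK₀, -⟩ := IH (N - 1) (by omega) {y : α // y ≠ x} hcβ _ hK
  have hE : E π (N - 1) :=
    ⟨{y : α // y ≠ x}, inferInstance, K₀, by rw [Nat.card_eq_fintype_card, hcβ], hK₀⟩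
  have h2p' : TwoPrimes π (N - 1) := by
    obtain ⟨r, s, hr, hs, hrs, hrπ, hsπ, hrN, hsN⟩ := h2p
    refine ⟨r, s, hr, hs, hrs, hrπ, hsπ, ?_, ?_⟩
    · have : r ≠ N := fun h => hNnp (h ▸ hr)
      omega
    · have : s ≠ N := fun h => hNnp (h ▸ hs)
      omega
  have hnf' : NotFull π (N - 1) := by
    obtain ⟨r, hr, hrN, hrπ⟩ := hnf
    have : r ≠ N := fun h => hNnp (h ▸ hr)
    exact ⟨r, hr, by omega, hrπ⟩
  have hC := main π (N - 1) hE h2p' hnf'
  have hfac := two_mul_card_mul_relIndex hM.1 (by omega : 2 ≤ Fintype.card α)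
  rw [hcard] at hfac
  rcases hC with ⟨hp, hπ⟩ | ⟨h78, hπ⟩
  · exfalso
    have hj := relIndex_dvd_pred hN5 hNnp hM.2.2 hfac hπ
    rcases (Nat.dvd_prime hp).1 hj with h1 | h1
    · have hle : alternatingGroup α ≤ M := Subgroup.relIndex_eq_one.1 h1
      obtain ⟨r, hr, hrN, hrπ⟩ := hnf
      exact hrπ (full_of_alt_le hM h2 hle (by omega) r hr (by omega))
    · exact alt_no_small_index M hN5' (by rw [h1]; omega) (by rw [h1]; omega)
  · have h3π : 3 ∈ π := (hπ 3 Nat.prime_three (by omega)).2 (Or.inr rfl)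
    obtain ⟨B, hB, hBnt⟩ : ∃ B : Set α, IsBlock M B ∧ ¬ IsTrivialBlock B := by
      by_contra hcon
      push Not at hcon
      exact hnprim { toIsPretransitive := htr, isTrivialBlock_of_isBlock := fun hB => hcon _ hB }
    have hBns : ¬ B.Subsingleton := fun h => hBnt (Or.inl h)
    have hBnu : B ≠ Set.univ := fun h => hBnt (Or.inr h)
    have hB2 : 2 ≤ B.ncard := by
      by_contra hlt
      apply hBns
      exact (Set.ncard_le_one_iff_subsingleton).1 (by omega)
    have hBne : B.Nonempty := by rw [← Set.ncard_pos]; omega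
    have hBlt : B.ncard < N := by
      rw [← hcard, ← Nat.card_eq_fintype_card, ← Set.ncard_univ]
      exact Set.ncard_lt_ncard (Set.ssubset_univ_iff.2 hBnu)
    have hmul := hB.ncard_block_mul_ncard_orbit_eq hBne
    rw [Nat.card_eq_fintype_card, hcard] at hmul
    have hwr := card_dvd_wreath M B hB hBne
    have hj2 : Nat.Coprime 2 (M.relIndex (alternatingGroup α)) :=
      (Nat.Prime.coprime_iff_not_dvd Nat.prime_two).2 (hM.2.2 2 Nat.prime_two h2)
    have hj3 : Nat.Coprime 3 (M.relIndex (alternatingGroup α)) :=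
      (Nat.Prime.coprime_iff_not_dvd Nat.prime_three).2 (hM.2.2 3 Nat.prime_three h3π)
    obtain ⟨a, ha⟩ : ∃ a, B.ncard = a := ⟨_, rfl⟩
    obtain ⟨b, hb⟩ : ∃ b, (orbit M B).ncard = b := ⟨_, rfl⟩
    rw [ha, hb] at hmul hwr
    rw [ha] at hB2 hBlt
    rcases h78 with h7 | h8
    · have hN8 : N = 8 := by omega
      subst hN8
      have h9 : 9 ∣ Nat.card M := by
        have h1 : (9 : ℕ) ∣ Nat.card M * (2 * M.relIndex (alternatingGroup α)) := by
          have : Nat.card M * (2 * M.relIndex (alternatingGroup α)) = Nat.factorial 8 := by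
            rw [← hfac]; ring
          rw [this]; decide
        have hc : Nat.Coprime 9 (2 * M.relIndex (alternatingGroup α)) := by
          apply Nat.Coprime.mul_right (by decide)
          exact Nat.Coprime.pow_left 2 hj3
        exact Nat.Coprime.dvd_of_dvd_mul_right hc h1
      interval_cases a
      · -- a = 2
        exfalso
        have hb4 : b = 4 := by omega
        rw [hb4] at hwr
        have : (9 : ℕ) ∣ Nat.factorial 2 ^ 4 * Nat.factorial 4 := h9.trans hwr
        revert this; decide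
      · omega
      · -- a = 4
        apply ext_of_half_block hM B hB (by rw [ha, hcard]) (by rw [ha]; omega)
        rw [ha]
        intro p hp hpd
        have : p ∣ 2 ^ 7 * 3 ^ 2 := by
          have e : Nat.factorial 4 ^ 2 * 2 = 2 ^ 7 * 3 ^ 2 := by decide
          rw [← e]; exact hpd
        rcases prime_dvd_two_pow_mul_three_pow hp this with h | h
        · rw [h]; exact h2
        · rw [h]; exact h3π
      · omega
      · omega
      · omega
    · have hN9 : N = 9 := by omega
      subst hN9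
      exfalso
      have h64 : 64 ∣ Nat.card M := by
        have h1 : (128 : ℕ) ∣ (2 * Nat.card M) * M.relIndex (alternatingGroup α) := by
          have : (2 * Nat.card M) * M.relIndex (alternatingGroup α) = Nat.factorial 9 := by
            rw [← hfac]; ring
          rw [this]; decide
        have hc : Nat.Coprime 128 (M.relIndex (alternatingGroup α)) :=
          Nat.Coprime.pow_left 7 hj2
        obtain ⟨c, hc'⟩ := Nat.Coprime.dvd_of_dvd_mul_right hc h1
        exact ⟨c, by omega⟩
      interval_cases a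
      · omega
      · have hb3 : b = 3 := by omega
        rw [hb3] at hwr
        have : (64 : ℕ) ∣ Nat.factorial 3 ^ 3 * Nat.factorial 3 := h64.trans hwr
        revert this; decide
      · omega
      · omega
      · omega
      · omega
      · omega

end Cfsg.Agent.Lib.Helper22.HsS
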