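import Mathlib
import Cfsg.Agent.Lib.Helper22.HsS

/-!
Hall subgroups of alternating groups: the extension theorem.
-/

set_option autoImplicit false

namespace Cfsg.Agent.Lib.Helper22.HsT

open Equiv MulAction Cfsg.Agent.Lib.Helper22.HsA Cfsg.Agent.Lib.Helper22.HsC
  Cfsg.Agent.Lib.Helper22.HsF Cfsg.Agent.Lib.Helper22.HsJ
  Cfsg.Agent.Lib.Helper22.HsO Cfsg.Agent.Lib.Helper22.HsP
  Cfsg.Agent.Lib.Helper22.HsQ Cfsg.Agent.Lib.Helper22.HsS

theorem prime_le_four {p : ℕ} (hp : p.Prime) (h : p ≤ 4) : p = 2 ∨ p = 3 := by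
  have h2 := hp.two_le
  have : p = 2 ∨ p = 3 ∨ p = 4 := by omega
  rcases this with h | h | h
  · exact Or.inl h
  · exact Or.inr h
  · rw [h] at hp; exact absurd hp (by norm_num)

theorem five_le_of_twoPrimes_notFull {π : Set ℕ} {N : ℕ} (h2p : TwoPrimes π N)
    (hnf : NotFull π N) : 5 ≤ N := by
  by_contra hlt
  obtain ⟨r, s, hr, hs, hrs, hrπ, hsπ, hrN, hsN⟩ := h2p
  obtain ⟨q, hq, hqN, hqπ⟩ := hnf
  rcases prime_le_four hr (by omega) with h | h <;>
  rcases prime_le_four hs (by omega) with h' | h' <;>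
  rcases prime_le_four hq (by omega) with h'' | h'' <;>
  subst h h' h'' <;> first | exact hrs rfl | exact hqπ hrπ | exact hqπ hsπ

variable {α : Type} [Fintype α] [DecidableEq α]

/-- the orbit of `a` as a `SubMulAction`. -/
def orbitSub (M : Subgroup (Perm α)) (a : α) : SubMulAction M α where
  carrier := orbit M a
  smul_mem' := fun g x hx => by
    obtain ⟨h, rfl⟩ := hx
    exact ⟨g * h, by simp [mul_smul]⟩

/-- the complement of the orbit of `a` as a `SubMulAction`. -/
def orbitCompl (M : Subgroup (Perm α)) (a : α) : SubMulAction M α where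
  carrier := (orbit M a)ᶜ
  smul_mem' := fun g x hx hgx => by
    apply hx
    obtain ⟨h, hh⟩ := hgx
    refine ⟨g⁻¹ * h, ?_⟩
    show (g⁻¹ * h) • a = x
    have : (g⁻¹ * h) • a = g⁻¹ • (h • a) := mul_smul _ _ _
    rw [this]
    have hh' : h • a = g • x := hh
    rw [hh', inv_smul_smul]

theorem mem_orbitSub {M : Subgroup (Perm α)} {a x : α} : x ∈ orbitSub M a ↔ x ∈ orbit M a :=
  Iff.rfl

theorem mem_orbitCompl {M : Subgroup (Perm α)} {a x : α} :
    x ∈ orbitCompl M a ↔ x ∉ orbitSub M a := Iff.rfl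

theorem two_le_card_of_moved (M : Subgroup (Perm α)) (S : SubMulAction M α) {y : α} (hy : y ∈ S)
    {g : Perm α} (hg : g ∈ M) (hgy : g y ≠ y) : 2 ≤ Nat.card S := by
  have h1 : Nat.card S = (S : Set α).ncard := Nat.card_coe_set_eq (S : Set α)
  rw [h1]
  have : 1 < (S : Set α).ncard := by
    rw [Set.one_lt_ncard_iff]
    refine ⟨g y, y, ?_, hy, hgy⟩
    exact S.smul_mem (⟨g, hg⟩ : M) hy
  omega

/-- **Extension theorem**: for `2 ∈ π`, every Hall `π`-subgroup of an alternating group is the
intersection with it of a Hall `π`-subgroup of the symmetric group. -/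
theorem ext_main (π : Set ℕ) (h2 : 2 ∈ π) : ∀ N : ℕ, Ext π N := by
  intro N
  induction N using Nat.strong_induction_on with
  | _ N IH =>
    intro α _ _ hcard M hM
    classical
    by_cases hN1 : N ≤ 1
    · have hMtop : M = ⊤ := subgroup_eq_of_card_le_one (by omega) M ⊤
      refine ⟨M, ⟨hM.2.1, ?_⟩, inf_eq_left.2 hM.1⟩
      rw [hMtop, Subgroup.index_top]
      intro p hp _ hd
      exact hp.one_lt.ne' (Nat.dvd_one.1 hd)
    have hN2 : 2 ≤ Fintype.card α := by omega
    have hfac := two_mul_card_mul_relIndex hM.1 hN2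
    by_cases hnf : NotFull π N
    swap
    · have hfull := full_of_not_notFull hnf
      have hrel : M.relIndex (alternatingGroup α) = 1 := by
        by_contra hne
        obtain ⟨p, hp, hpd⟩ := Nat.exists_prime_and_dvd hne
        have hpN : p ∣ (Fintype.card α).factorial := by
          rw [← hfac]; exact hpd.trans ⟨2 * Nat.card M, by ring⟩
        have hpN' : p ≤ N := by rw [← hcard]; exact (Nat.Prime.dvd_factorial hp).1 hpN
        exact hM.2.2 p hp (hfull p hp hpN') hpd
      have hMA : M = alternatingGroup α := le_antisymm hM.1 (Subgroup.relIndex_eq_one.1 hrel)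
      refine ⟨⊤, ⟨?_, ?_⟩, ?_⟩
      · intro p hp hpd
        rw [Subgroup.card_top, Nat.card_perm, Nat.card_eq_fintype_card, hcard] at hpd
        exact hfull p hp ((Nat.Prime.dvd_factorial hp).1 hpd)
      · rw [Subgroup.index_top]
        intro p hp _ hd
        exact hp.one_lt.ne' (Nat.dvd_one.1 hd)
      · rw [top_inf_eq, hMA]
    by_cases h2p : TwoPrimes π N
    swap
    · have : Fact (Nat.Prime 2) := ⟨Nat.prime_two⟩
      have hM2 : IsPGroup 2 M := by
        have hne : Nat.card M ≠ 0 := Nat.card_pos.ne'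
        have := Nat.eq_prime_pow_of_unique_prime_dvd (p := 2) hne (by
          intro d hd hdd
          by_contra hd2
          apply h2p
          have hdN : d ∣ (Fintype.card α).factorial := by
            rw [← hfac]; exact hdd.trans ⟨2 * M.relIndex (alternatingGroup α), by ring⟩
          have hdN' : d ≤ N := by rw [← hcard]; exact (Nat.Prime.dvd_factorial hd).1 hdN
          exact ⟨2, d, Nat.prime_two, hd, fun h => hd2 h.symm, h2, hM.2.1 d hd hdd, by omega, hdN'⟩)
        exact IsPGroup.of_card this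
      obtain ⟨P, hMP⟩ := hM2.exists_le_sylow
      refine ⟨P, ext_of_super hM hMP ?_ ?_⟩
      · intro p hp hpd
        obtain ⟨k, hk⟩ := IsPGroup.iff_card.1 P.isPGroup'
        rw [hk] at hpd
        have := (Nat.prime_dvd_prime_iff_eq hp Nat.prime_two).1 (hp.dvd_of_dvd_pow hpd)
        rw [this]; exact h2
      · intro hle
        have : Nontrivial α := Fintype.one_lt_card_iff_nontrivial.1 (by omega)
        have h1 : (alternatingGroup α).index ∣ (P : Subgroup (Perm α)).index :=
          Subgroup.index_dvd_of_le hle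
        rw [alternatingGroup.index_eq_two] at h1
        exact P.not_dvd_index h1
    have hN5 : 5 ≤ N := five_le_of_twoPrimes_notFull h2p hnf
    by_cases hfix : ∃ x : α, ∀ g ∈ M, g x = x
    · obtain ⟨x, hx⟩ := hfix
      obtain ⟨hK, hNπ⟩ := HallAlt.down_fix hM hx (by omega)
      have hcβ : Fintype.card {y : α // y ≠ x} = N - 1 := by rw [card_compl, hcard]
      obtain ⟨K₀, hK₀, hK₀A⟩ := IH (N - 1) (by omega) {y : α // y ≠ x} hcβ _ hK
      refine ⟨up x K₀, isPiHall_up hK₀ hNπ, ?_⟩
      rw [← up_inf_alt, hK₀A, up_down hx]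
    by_cases htr : IsPretransitive M α
    · exact ext_transitive π h2 N IH hcard M hM h2p hnf hN5
    · push Not at hfix
      obtain ⟨a⟩ : Nonempty α := Fintype.card_pos_iff.1 (by omega)
      obtain ⟨g, hg, hga⟩ := hfix a
      obtain ⟨y, hy⟩ := exists_notMem_orbit M htr a
      obtain ⟨h, hh, hhy⟩ := hfix y
      refine ext_intransitive h2 hM (orbitSub M a) (orbitCompl M a) (fun _ => Iff.rfl) ?_ ?_
      · exact two_le_card_of_moved M (orbitSub M a) (mem_orbit_self a) hg hga
      · exact two_le_card_of_moved M (orbitCompl M a) hy hh hhy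

end Cfsg.Agent.Lib.Helper22.HsT
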