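import Mathlib
import Cfsg.Agent.Lib.Helper22.HsT

/-!
Hall subgroups of alternating groups: translation between subgroups of `↥(alternatingGroup α)`
and subgroups of `Perm α`, and the characterization as intersections.
-/

set_option autoImplicit false

namespace Cfsg.Agent.Lib.Helper22.HsU

open Equiv MulAction Cfsg.Agent.Lib.Helper22.HsA Cfsg.Agent.Lib.Helper22.HsJ
  Cfsg.Agent.Lib.Helper22.HsP Cfsg.Agent.Lib.Helper22.HsS Cfsg.Agent.Lib.Helper22.HsT

theorem relIndex_dvd_index_of_normal_right {G : Type*} [Group G] [Finite G] (H K : Subgroup G)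
    [K.Normal] : H.relIndex K ∣ H.index := by
  have h1 := card_mul_relIndex (le_sup_left : H ≤ H ⊔ K)
  have h2 := card_mul_relIndex (le_sup_right : K ≤ H ⊔ K)
  have h3 := card_mul_relIndex (inf_le_left : H ⊓ K ≤ H)
  have h4 := card_mul_relIndex (inf_le_right : H ⊓ K ≤ K)
  rw [Subgroup.inf_relIndex_left] at h3
  rw [Subgroup.inf_relIndex_right] at h4
  rw [Subgroup.relIndex_sup_right] at h2
  have : H.relIndex (H ⊔ K) = H.relIndex K := by
    apply Nat.eq_of_mul_eq_mul_left (Nat.card_pos : 0 < Nat.card H)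
    rw [h1, ← h2, ← h4]
    conv_rhs => rw [← h3]
    ring
  rw [← this]; exact Subgroup.relIndex_dvd_index_of_le le_sup_left

/-- the intersection of a Hall subgroup with a normal subgroup is a Hall subgroup of it. -/
theorem isPiHall_subgroupOf_of_normal {G : Type*} [Group G] [Finite G] {π : Set ℕ}
    {H : Subgroup G} (hH : Cfsg.IsPiHall π H) (K : Subgroup G) [K.Normal] :
    Cfsg.IsPiHall π (H.subgroupOf K) := by
  refine ⟨?_, ?_⟩
  · apply piNum_of_dvd _ hH.1
    have h1 : Nat.card ((H.subgroupOf K).map K.subtype) = Nat.card (H.subgroupOf K) :=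
      Subgroup.card_map_of_injective K.subtype_injective
    rw [← h1, Subgroup.subgroupOf_map_subtype]
    exact Subgroup.card_dvd_of_le inf_le_left
  · exact piPrime_of_dvd (relIndex_dvd_index_of_normal_right H K) hH.2

variable {α : Type} [Fintype α] [DecidableEq α]

theorem isPiHall_alt_iff {π : Set ℕ} (M : Subgroup ↥(alternatingGroup α)) :
    Cfsg.IsPiHall π M ↔ HallAlt π (M.map (alternatingGroup α).subtype) := by
  have hcard : Nat.card (M.map (alternatingGroup α).subtype) = Nat.card M :=
    Subgroup.card_map_of_injective (Subgroup.subtype_injective _)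
  have hsub : (M.map (alternatingGroup α).subtype).subgroupOf (alternatingGroup α) = M :=
    Subgroup.comap_map_eq_self_of_injective (Subgroup.subtype_injective _) M
  have hidx : (M.map (alternatingGroup α).subtype).relIndex (alternatingGroup α) = M.index := by
    rw [Subgroup.relIndex, hsub]
  unfold HallAlt Cfsg.IsPiHall
  rw [hcard, hidx]
  constructor
  · rintro ⟨h1, h2⟩
    exact ⟨Subgroup.map_subtype_le M, h1, h2⟩
  · rintro ⟨-, h1, h2⟩
    exact ⟨h1, h2⟩

/-- **Hall subgroups of alternating groups are intersections.** -/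
theorem hall_alt_iff_inter (π : Set ℕ) (M : Subgroup ↥(alternatingGroup α)) :
    Cfsg.IsPiHall π M ↔ ∃ M₀ : Subgroup (Perm α),
      Cfsg.IsPiHall π M₀ ∧ M = M₀.subgroupOf (alternatingGroup α) := by
  have hsub : (M.map (alternatingGroup α).subtype).subgroupOf (alternatingGroup α) = M :=
    Subgroup.comap_map_eq_self_of_injective (Subgroup.subtype_injective _) M
  constructor
  · intro hM
    have hM' := (isPiHall_alt_iff M).1 hM
    by_cases h2 : 2 ∈ π
    · obtain ⟨M₀, hM₀, hinf⟩ := ext_main π h2 (Fintype.card α) α rfl _ hM'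
      refine ⟨M₀, hM₀, ?_⟩
      rw [← Subgroup.inf_subgroupOf_right, hinf, hsub]
    · refine ⟨M.map (alternatingGroup α).subtype, ⟨hM'.2.1, ?_⟩, hsub.symm⟩
      by_cases hN : 2 ≤ Fintype.card α
      · rw [index_eq_two_mul_relIndex hM'.1 hN]
        apply piPrime_mul hM'.2.2
        intro p hp hpπ hd
        have := (Nat.prime_dvd_prime_iff_eq hp Nat.prime_two).1 hd
        exact h2 (this ▸ hpπ)
      · have : M.map (alternatingGroup α).subtype = ⊤ :=
          subgroup_eq_of_card_le_one (by omega) _ ⊤
        rw [this, Subgroup.index_top]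
        intro p hp _ hd
        exact hp.one_lt.ne' (Nat.dvd_one.1 hd)
  · rintro ⟨M₀, hM₀, rfl⟩
    exact isPiHall_subgroupOf_of_normal hM₀ (alternatingGroup α)

end Cfsg.Agent.Lib.Helper22.HsU
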