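import Mathlib
import Cfsg.Agent.Lib.Helper22.HsA

/-!
Hall subgroups in the degenerate cases: at most one relevant prime, or all primes.
-/

set_option autoImplicit false

namespace Cfsg.Agent.Lib.Helper22.HsV

open Cfsg.Agent.Lib.Helper22.HsA
open scoped Pointwise

variable {G : Type*} [Group G] [Finite G]

theorem map_conj_eq_smul (g : G) (H : Subgroup G) :
    H.map (MulAut.conj g).toMonoidHom = MulAut.conj g • H := by
  ext x
  rw [Subgroup.mem_map, Subgroup.mem_pointwise_smul_iff_inv_smul_mem]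
  have e : (MulAut.conj g)⁻¹ • x = g⁻¹ * x * g := by
    rw [← map_inv, MulAut.smul_def, MulAut.conj_apply, inv_inv]
  rw [e]
  constructor
  · rintro ⟨y, hy, rfl⟩
    have : g⁻¹ * ((MulAut.conj g).toMonoidHom y) * g = y := by
      show g⁻¹ * (g * y * g⁻¹) * g = y
      group
    rw [this]; exact hy
  · intro hx
    refine ⟨g⁻¹ * x * g, hx, ?_⟩
    show g * (g⁻¹ * x * g) * g⁻¹ = x
    group

/-- a Hall `π`-subgroup is a `p`-group when `p` is the only prime of `π` dividing `|G|`. -/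
theorem isPGroup_of_hall {π : Set ℕ} {p : ℕ} (hp : p.Prime) (hpπ : p ∈ π)
    (hpG : p ∣ Nat.card G)
    (h1 : ∀ r s : ℕ, r.Prime → s.Prime → r ∈ π → s ∈ π → r ∣ Nat.card G → s ∣ Nat.card G → r = s)
    {H : Subgroup G} (hH : ∀ q : ℕ, q.Prime → q ∣ Nat.card H → q ∈ π) : IsPGroup p H := by
  have hne : Nat.card H ≠ 0 := Nat.card_pos.ne'
  have := Nat.eq_prime_pow_of_unique_prime_dvd (p := p) hne (by
    intro d hd hdd
    exact h1 d p hd hp (hH d hd hdd) hpπ (hdd.trans (Subgroup.card_subgroup_dvd_card H)) hpG)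
  exact IsPGroup.of_card this

/-- if at most one prime of `π` divides `|G|`, Hall `π`-subgroups are conjugate. -/
theorem hall_conj_of_le_one_prime (π : Set ℕ)
    (h1 : ∀ r s : ℕ, r.Prime → s.Prime → r ∈ π → s ∈ π → r ∣ Nat.card G → s ∣ Nat.card G → r = s)
    {H K : Subgroup G} (hH : Cfsg.IsPiHall π H) (hK : Cfsg.IsPiHall π K) :
    ∃ g : G, K = H.map (MulAut.conj g).toMonoidHom := by
  by_cases hex : ∃ p : ℕ, p.Prime ∧ p ∈ π ∧ p ∣ Nat.card G
  · obtain ⟨p, hp, hpπ, hpG⟩ := hex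
    have : Fact p.Prime := ⟨hp⟩
    have hHp : IsPGroup p H := isPGroup_of_hall hp hpπ hpG h1 hH.1
    have hKp : IsPGroup p K := isPGroup_of_hall hp hpπ hpG h1 hK.1
    set P : Sylow p G := hHp.toSylow (hH.2 p hp hpπ) with hP
    set Q : Sylow p G := hKp.toSylow (hK.2 p hp hpπ) with hQ
    obtain ⟨g, hg⟩ := MulAction.exists_smul_eq G P Q
    refine ⟨g, ?_⟩
    rw [map_conj_eq_smul]
    have h2 : ((g • P : Sylow p G) : Subgroup G) = (Q : Subgroup G) := by rw [hg]
    rw [Sylow.coe_subgroup_smul] at h2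
    exact h2.symm
  · push Not at hex
    have hb : ∀ L : Subgroup G, (∀ q : ℕ, q.Prime → q ∣ Nat.card L → q ∈ π) → L = ⊥ := by
      intro L hL
      rw [← Subgroup.card_eq_one]
      by_contra hne
      obtain ⟨q, hq, hqd⟩ := Nat.exists_prime_and_dvd hne
      exact hex q hq (hL q hq hqd) (hqd.trans (Subgroup.card_subgroup_dvd_card L))
    refine ⟨1, ?_⟩
    rw [hb H hH.1, hb K hK.1]
    simp

/-- if at most one prime of `π` divides `|G|`, a Hall `π`-subgroup exists. -/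
theorem exists_hall_of_le_one_prime (π : Set ℕ)
    (h1 : ∀ r s : ℕ, r.Prime → s.Prime → r ∈ π → s ∈ π → r ∣ Nat.card G → s ∣ Nat.card G → r = s) :
    ∃ H : Subgroup G, Cfsg.IsPiHall π H := by
  by_cases hex : ∃ p : ℕ, p.Prime ∧ p ∈ π ∧ p ∣ Nat.card G
  · obtain ⟨p, hp, hpπ, hpG⟩ := hex
    have : Fact p.Prime := ⟨hp⟩
    obtain ⟨P⟩ : Nonempty (Sylow p G) := inferInstance
    refine ⟨P, ?_, ?_⟩
    · intro q hq hqd
      obtain ⟨k, hk⟩ := IsPGroup.iff_card.1 P.isPGroup'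
      rw [hk] at hqd
      have := (Nat.prime_dvd_prime_iff_eq hq hp).1 (hq.dvd_of_dvd_pow hqd)
      rw [this]; exact hpπ
    · intro q hq hqπ hqd
      have hqG : q ∣ Nat.card G := hqd.trans (Subgroup.index_dvd_card _)
      have := h1 q p hq hp hqπ hpπ hqG hpG
      rw [this] at hqd
      exact P.not_dvd_index hqd
  · push Not at hex
    refine ⟨⊥, ?_, ?_⟩
    · intro q hq hqd
      rw [Subgroup.card_bot] at hqd
      exact absurd (Nat.dvd_one.1 hqd) hq.one_lt.ne'
    · intro q hq hqπ hqd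
      rw [Subgroup.index_bot] at hqd
      exact hex q hq hqπ hqd

/-- if every prime dividing `|G|` is in `π`, the only Hall `π`-subgroup is `⊤`. -/
theorem hall_eq_top_of_full {π : Set ℕ} (hfull : ∀ r : ℕ, r.Prime → r ∣ Nat.card G → r ∈ π)
    {H : Subgroup G} (hH : Cfsg.IsPiHall π H) : H = ⊤ := by
  rw [← Subgroup.index_eq_one]
  by_contra hne
  obtain ⟨q, hq, hqd⟩ := Nat.exists_prime_and_dvd hne
  exact hH.2 q hq (hfull q hq (hqd.trans (Subgroup.index_dvd_card _))) hqd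

theorem isPiHall_top_of_full {π : Set ℕ} (hfull : ∀ r : ℕ, r.Prime → r ∣ Nat.card G → r ∈ π) :
    Cfsg.IsPiHall π (⊤ : Subgroup G) := by
  refine ⟨?_, ?_⟩
  · intro q hq hqd
    rw [Subgroup.card_top] at hqd
    exact hfull q hq hqd
  · intro q hq _ hqd
    rw [Subgroup.index_top] at hqd
    exact absurd (Nat.dvd_one.1 hqd) hq.one_lt.ne'

end Cfsg.Agent.Lib.Helper22.HsV
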