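import Mathlib
import Cfsg.Agent.Lib.Helper22.HsG
import Cfsg.Agent.Lib.Helper22.HsR
import Cfsg.Agent.Lib.Helper22.HsT
import Cfsg.Agent.Lib.Helper22.HsV

/-!
Hall subgroups of symmetric groups: the structure in the three exceptional cases.
-/

set_option autoImplicit false

namespace Cfsg.Agent.Lib.Helper22.HsW

open Equiv MulAction Cfsg.Agent.Lib.Helper22.HsA Cfsg.Agent.Lib.Helper22.HsB
  Cfsg.Agent.Lib.Helper22.HsC Cfsg.Agent.Lib.Helper22.HsE Cfsg.Agent.Lib.Helper22.HsF
  Cfsg.Agent.Lib.Helper22.HsG Cfsg.Agent.Lib.Helper22.HsI Cfsg.Agent.Lib.Helper22.HsR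
  Cfsg.Agent.Lib.Helper22.HsT Cfsg.Agent.Lib.Helper22.HsV
open scoped Pointwise

variable {α : Type} [Fintype α] [DecidableEq α]

/-- two subsets of the same size are conjugate under the symmetric group. -/
theorem exists_perm_smul_eq {S S' : Set α} (h : S.ncard = S'.ncard) :
    ∃ g : Perm α, g • S = S' := by
  classical
  set n := S.ncard with hn
  have hS : S.toFinset.card = n := by rw [hn, Set.ncard_eq_toFinset_card']
  have hS' : S'.toFinset.card = n := by rw [h, Set.ncard_eq_toFinset_card']
  let s : Set.powersetCard α n := ⟨S.toFinset, Set.powersetCard.mem_iff.2 hS⟩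
  let s' : Set.powersetCard α n := ⟨S'.toFinset, Set.powersetCard.mem_iff.2 hS'⟩
  have htr : IsPretransitive (Perm α) (Set.powersetCard α n) := Set.powersetCard.isPretransitive
  obtain ⟨g, hg⟩ := htr.exists_smul_eq s s'
  refine ⟨g, ?_⟩
  have h1 : ((g • s : Set.powersetCard α n) : Finset α) = (s' : Finset α) := by rw [hg]
  rw [Set.powersetCard.coe_smul] at h1
  have h2 : ((g • (s : Finset α) : Finset α) : Set α) = ((s' : Finset α) : Set α) := by rw [h1]
  rw [Finset.coe_smul_finset] at h2
  simpa [s, s'] using h2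

/-- the order of a set stabilizer divides `m! * k!`. -/
theorem card_stabilizer_set_dvd (Y : Set α) :
    Nat.card (stabilizer (Perm α) Y) ∣ (Y.ncard).factorial * (Yᶜ.ncard).factorial := by
  classical
  set G : Subgroup (Perm α) := stabilizer (Perm α) Y with hG
  have hmem : ∀ (g : G) (x : α), g • x ∈ Y ↔ x ∈ Y := by
    intro g x
    have hg : (g : Perm α) • Y = Y := g.2
    constructor
    · intro hx
      have hx' : (g : Perm α) • x ∈ (g : Perm α) • Y := by rw [hg]; exact hx
      exact (Set.smul_mem_smul_set_iff).1 hx'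
    · intro hx
      have : (g : Perm α) • x ∈ (g : Perm α) • Y := Set.smul_mem_smul_set hx
      rw [hg] at this
      exact this
  let S : SubMulAction G α :=
    { carrier := Y
      smul_mem' := fun g x hx => (hmem g x).2 hx }
  let T : SubMulAction G α :=
    { carrier := Yᶜ
      smul_mem' := fun g x hx hgx => hx ((hmem g x).1 hgx) }
  have hcov : ∀ x : α, x ∈ S ∨ x ∈ T := by
    intro x
    by_cases hx : x ∈ Y
    · exact Or.inl hx
    · exact Or.inr hx
  have h1 := card_dvd_img_mul G S T hcov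
  have h2 : Nat.card (img G S) ∣ (Y.ncard).factorial := by
    have := card_dvd_factorial (img G S)
    rwa [show Nat.card S = Y.ncard from Nat.card_coe_set_eq Y] at this
  have h3 : Nat.card (img G T) ∣ (Yᶜ.ncard).factorial := by
    have := card_dvd_factorial (img G T)
    rwa [show Nat.card T = Yᶜ.ncard from Nat.card_coe_set_eq Yᶜ] at this
  exact h1.trans (Nat.mul_dvd_mul h2 h3)

theorem pairStab_smul (g : Perm α) (B : Set α) :
    pairStab (g • B) = (pairStab B).map (MulAut.conj g).toMonoidHom := by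
  rw [map_conj_eq_smul]
  ext h
  rw [Subgroup.mem_pointwise_smul_iff_inv_smul_mem]
  have e : (MulAut.conj g)⁻¹ • h = g⁻¹ * h * g := by
    rw [← map_inv, MulAut.smul_def, MulAut.conj_apply, inv_inv]
  rw [e, mem_pairStab, mem_pairStab, mul_smul, mul_smul, inv_smul_eq_iff, inv_smul_eq_iff,
    Set.smul_set_compl]

theorem le_pairStab_of_block {M : Subgroup (Perm α)} (B : Set α) (hB : IsBlock M B)
    (hcard : 2 * B.ncard = Fintype.card α) : M ≤ pairStab B := by
  have hcompl : Bᶜ.ncard = B.ncard := by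
    have := Set.ncard_add_ncard_compl B
    rw [Nat.card_eq_fintype_card] at this
    omega
  intro g hg
  rcases hB.smul_eq_or_disjoint (⟨g, hg⟩ : M) with h | h
  · exact Or.inl h
  · right
    have h' : Disjoint (g • B) B := h
    have hsub : g • B ⊆ Bᶜ := Set.subset_compl_iff_disjoint_right.2 h'
    apply Set.eq_of_subset_of_ncard_le hsub
    rw [hcompl, Set.ncard_smul_set]

theorem card_pairStab_dvd {M : Subgroup (Perm α)} [htr : IsPretransitive M α] (B : Set α)
    (hMW : M ≤ pairStab B) (hcard : 2 * B.ncard = Fintype.card α) (hB1 : 1 ≤ B.ncard) :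
    Nat.card (pairStab B) ∣ (B.ncard).factorial ^ 2 * 2 := by
  have hBne : B.Nonempty := by
    rw [← Set.ncard_pos]; omega
  have htrW : IsPretransitive (pairStab B) α := by
    constructor
    intro x y
    obtain ⟨m, hm⟩ := htr.exists_smul_eq x y
    exact ⟨⟨m.1, hMW m.2⟩, hm⟩
  have hblk := isBlock_pairStab B
  have hdvd := card_dvd_wreath (pairStab B) B hblk hBne
  have horb : (orbit (pairStab B) B).ncard = 2 := by
    have := hblk.ncard_block_mul_ncard_orbit_eq hBne
    rw [Nat.card_eq_fintype_card, ← hcard] at this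
    have hpos : 0 < B.ncard := by omega
    apply Nat.eq_of_mul_eq_mul_left hpos
    rw [this]; ring
  rw [horb] at hdvd
  simpa [Nat.factorial] using hdvd

/-- **prime degree**: a Hall subgroup for the set of primes below the prime degree is a point
stabilizer. -/
theorem hall_prime_structure (π : Set ℕ) (H : Subgroup (Perm α)) (hH : Cfsg.IsPiHall π H)
    (hp : (Fintype.card α).Prime)
    (hπ : ∀ r : ℕ, r.Prime → r ≤ Fintype.card α → (r ∈ π ↔ r < Fintype.card α)) :
    ∃ x : α, H = stabilizer (Perm α) x := by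
  classical
  have hN2 := hp.two_le
  have hNπ : Fintype.card α ∉ π := fun h => lt_irrefl _ ((hπ _ hp le_rfl).1 h)
  -- a fixed point exists
  have hfix : ∃ x : α, ∀ g ∈ H, g x = x := by
    by_contra hno
    push Not at hno
    obtain ⟨a⟩ : Nonempty α := Fintype.card_pos_iff.1 (by omega)
    by_cases htr : IsPretransitive H α
    · obtain ⟨-, hNn, -⟩ := hall_stabilizer π H hH a
      rw [Nat.card_eq_fintype_card] at hNn
      exact hNπ (hNn _ hp dvd_rfl)
    · obtain ⟨g, hg, hga⟩ := hno a
      obtain ⟨y, hy⟩ := exists_notMem_orbit H htr a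
      obtain ⟨h, hh, hhy⟩ := hno y
      have hm2 := two_le_card_of_moved H (orbitSub H a) (mem_orbit_self a) hg hga
      have hk2 := two_le_card_of_moved H (orbitCompl H a) hy hh hhy
      have hsum := card_add_card_compl H (orbitSub H a) (orbitCompl H a) (fun _ => Iff.rfl)
      obtain ⟨-, -, hC⟩ := hall_restrict π H hH (orbitSub H a) (orbitCompl H a) (fun _ => Iff.rfl)
      rw [Nat.card_eq_fintype_card (α := α)] at hsum hC
      set m := Nat.card (orbitSub H a) with hm
      set k := Nat.card (orbitCompl H a) with hk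
      rcases le_total k m with hkm | hmk
      · have hns : NoSmall m ((m + k).choose m) := by
          intro r hr hrm
          rw [hsum]
          exact hC r hr ((hπ r hr (by omega)).2 (by omega))
        obtain ⟨h4, h3⟩ := ap_main hk2 hkm hns
        have h5 : 5 ∈ π := (hπ 5 (by norm_num) (by omega)).2 (by omega)
        apply hC 5 (by norm_num) h5
        rw [← hsum, h4, h3]; decide
      · have hsum' : k + m = Fintype.card α := by omega
        have hC' : piPrime π ((Fintype.card α).choose k) := by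
          have e : (Fintype.card α).choose k = (Fintype.card α).choose m := by
            rw [← Nat.choose_symm (by omega : m ≤ Fintype.card α)]
            congr 1
            omega
          rw [e]; exact hC
        have hns : NoSmall k ((k + m).choose k) := by
          intro r hr hrk
          rw [hsum']
          exact hC' r hr ((hπ r hr (by omega)).2 (by omega))
        obtain ⟨h4, h3⟩ := ap_main hm2 hmk hns
        have h5 : 5 ∈ π := (hπ 5 (by norm_num) (by omega)).2 (by omega)
        apply hC' 5 (by norm_num) h5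
        rw [← hsum', h4, h3]; decide
  obtain ⟨x, hx⟩ := hfix
  refine ⟨x, ?_⟩
  have hle : H ≤ stabilizer (Perm α) x := fun g hg => hx g hg
  have hidx : (stabilizer (Perm α) x).index = Fintype.card α := by
    rw [index_stabilizer_of_transitive, Nat.card_eq_fintype_card]
  -- the index of H divides N
  have hcop : Nat.Coprime H.index (Fintype.card α - 1).factorial := by
    apply Nat.coprime_of_dvd
    intro q hq hqI hqf
    have hqle : q ≤ Fintype.card α - 1 := (Nat.Prime.dvd_factorial hq).1 hqf
    exact hH.2 q hq ((hπ q hq (by omega)).2 (by omega)) hqI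
  have hIdvd : H.index ∣ Fintype.card α := by
    have h1 : H.index ∣ Fintype.card α * (Fintype.card α - 1).factorial := by
      rw [Cfsg.Agent.Lib.Helper22.HsP.factorial_pred_mul (by omega), ← Nat.card_eq_fintype_card,
        ← card_mul_index_perm H]
      exact dvd_mul_left _ _
    exact hcop.dvd_of_dvd_mul_right h1
  have hNdvd : Fintype.card α ∣ H.index := by
    rw [← hidx]; exact Subgroup.index_dvd_of_le hle
  have hIeq : H.index = Fintype.card α := Nat.dvd_antisymm hIdvd hNdvd
  have hrel := Subgroup.relIndex_mul_index hle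
  rw [hidx, hIeq] at hrel
  have hrel1 : H.relIndex (stabilizer (Perm α) x) = 1 := by
    have hpos : 0 < Fintype.card α := by omega
    exact Nat.eq_of_mul_eq_mul_right hpos (by rw [hrel, one_mul])
  exact le_antisymm hle (Subgroup.relIndex_eq_one.1 hrel1)

theorem coprime_pow_mul_pow_of_hall {π : Set ℕ} {I : ℕ} (hI : piPrime π I) (h2 : 2 ∈ π)
    (h3 : 3 ∈ π) (a b : ℕ) : Nat.Coprime (2 ^ a * 3 ^ b) I := by
  have c2 : Nat.Coprime 2 I := (Nat.Prime.coprime_iff_not_dvd Nat.prime_two).2
    (hI 2 Nat.prime_two h2)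
  have c3 : Nat.Coprime 3 I := (Nat.Prime.coprime_iff_not_dvd Nat.prime_three).2
    (hI 3 Nat.prime_three h3)
  exact Nat.Coprime.mul_left (c2.pow_left a) (c3.pow_left b)

/-- **degree 7**: a Hall `{2,3}`-subgroup is the stabilizer of a 3-subset. -/
theorem hall_seven_structure (π : Set ℕ) (H : Subgroup (Perm α)) (hH : Cfsg.IsPiHall π H)
    (hN : Fintype.card α = 7)
    (hπ : ∀ r : ℕ, r.Prime → r ≤ 7 → (r ∈ π ↔ (r = 2 ∨ r = 3))) :
    ∃ Y : Set α, Y.ncard = 3 ∧ H = stabilizer (Perm α) Y := by
  classical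
  have h2π : 2 ∈ π := (hπ 2 Nat.prime_two (by norm_num)).2 (Or.inl rfl)
  have h3π : 3 ∈ π := (hπ 3 Nat.prime_three (by norm_num)).2 (Or.inr rfl)
  have h5π : 5 ∉ π := fun h => by
    have := (hπ 5 (by norm_num) (by norm_num)).1 h
    omega
  have h7π : 7 ∉ π := fun h => by
    have := (hπ 7 (by norm_num) (by norm_num)).1 h
    omega
  have hE6 : ¬ E π 6 := by
    intro hE
    have h2p : TwoPrimes π 6 :=
      ⟨2, 3, Nat.prime_two, Nat.prime_three, by norm_num, h2π, h3π, by norm_num, by norm_num⟩
    have hnf : NotFull π 6 := ⟨5, by norm_num, by norm_num, h5π⟩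
    rcases main π 6 hE h2p hnf with ⟨h6, -⟩ | ⟨h6, -⟩
    · exact absurd h6 (by norm_num)
    · omega
  have horb : ∀ a : α, (orbit H a).ncard = 3 ∨ (orbit H a).ncard = 4 := by
    intro a
    obtain ⟨S, T, hS, hST, hH1, hH2, hC, hsum, hdvd⟩ := orbit_restrict π H hH a
    have hSc : Nat.card S = (orbit H a).ncard := by
      rw [← hS]; exact Nat.card_coe_set_eq (S : Set α)
    rw [Nat.card_eq_fintype_card (α := α), hN] at hsum hC
    have hm1 : 1 ≤ Nat.card S := by
      have hbS : a ∈ (S : Set _) := by rw [hS]; exact mem_orbit_self a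
      have : Nonempty S := ⟨⟨a, hbS⟩⟩
      exact Nat.card_pos
    have hmπ : piNum π (Nat.card S) := piNum_of_dvd hdvd hH.1
    have hES : E π (Nat.card S) := ⟨S, inferInstance, img H S, rfl, hH1⟩
    have hET : E π (Nat.card T) := ⟨T, inferInstance, img H T, rfl, hH2⟩
    rw [← hSc]
    obtain ⟨m, hm⟩ : ∃ m, Nat.card S = m := ⟨_, rfl⟩
    obtain ⟨k, hk⟩ : ∃ k, Nat.card T = k := ⟨_, rfl⟩
    rw [hm] at hsum hC hm1 hmπ hES ⊢
    rw [hk] at hsum hET
    have hm7 : m ≤ 7 := by omega
    interval_cases m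
    · exfalso
      apply hE6
      have : k = 6 := by omega
      rw [this] at hET; exact hET
    · exfalso; exact hC 3 Nat.prime_three h3π (by decide)
    · left; rfl
    · right; rfl
    · exfalso; exact h5π (hmπ 5 (by norm_num) dvd_rfl)
    · exfalso; exact hE6 hES
    · exfalso; exact h7π (hmπ 7 (by norm_num) dvd_rfl)
  obtain ⟨a⟩ : Nonempty α := Fintype.card_pos_iff.1 (by omega)
  have hinv : ∀ g ∈ H, g • (orbit H a) = orbit H a := fun g hg => smul_orbit (⟨g, hg⟩ : H) a
  obtain ⟨Y, hY3, hYinv⟩ : ∃ Y : Set α, Y.ncard = 3 ∧ ∀ g ∈ H, g • Y = Y := by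
    rcases horb a with h | h
    · exact ⟨orbit H a, h, hinv⟩
    · refine ⟨(orbit H a)ᶜ, ?_, ?_⟩
      · have := Set.ncard_add_ncard_compl (orbit H a)
        rw [Nat.card_eq_fintype_card, hN] at this
        omega
      · intro g hg
        rw [Set.smul_set_compl, hinv g hg]
  refine ⟨Y, hY3, ?_⟩
  have hle : H ≤ stabilizer (Perm α) Y := fun g hg => hYinv g hg
  have hYc : Yᶜ.ncard = 4 := by
    have := Set.ncard_add_ncard_compl Y
    rw [Nat.card_eq_fintype_card, hN] at this
    omega
  have hdvd := card_stabilizer_set_dvd Y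
  rw [hY3, hYc] at hdvd
  have h144 : 2 ^ 4 * 3 ^ 2 ∣ Nat.card H := by
    have h1 : 2 ^ 4 * 3 ^ 2 ∣ Nat.card H * H.index := by
      rw [card_mul_index_perm, Nat.card_eq_fintype_card, hN]; decide
    exact (coprime_pow_mul_pow_of_hall hH.2 h2π h3π 4 2).dvd_of_dvd_mul_right h1
  apply Subgroup.eq_of_le_of_card_ge hle
  apply Nat.le_of_dvd Nat.card_pos
  refine hdvd.trans ?_
  have e : Nat.factorial 3 * Nat.factorial 4 = 2 ^ 4 * 3 ^ 2 := by decide
  rw [e]; exact h144

/-- **degree 8**: a Hall `{2,3}`-subgroup is the stabilizer of a partition into two 4-sets. -/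
theorem hall_eight_structure (π : Set ℕ) (H : Subgroup (Perm α)) (hH : Cfsg.IsPiHall π H)
    (hN : Fintype.card α = 8)
    (hπ : ∀ r : ℕ, r.Prime → r ≤ 8 → (r ∈ π ↔ (r = 2 ∨ r = 3))) :
    ∃ B : Set α, B.ncard = 4 ∧ H = pairStab B := by
  classical
  have h2π : 2 ∈ π := (hπ 2 Nat.prime_two (by norm_num)).2 (Or.inl rfl)
  have h3π : 3 ∈ π := (hπ 3 Nat.prime_three (by norm_num)).2 (Or.inr rfl)
  have h5π : 5 ∉ π := fun h => by
    have := (hπ 5 (by norm_num) (by norm_num)).1 h
    omega
  have htr : IsPretransitive H α := by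
    by_contra hnot
    obtain ⟨b⟩ : Nonempty α := Fintype.card_pos_iff.1 (by omega)
    obtain ⟨S, T, hS, hST, -, -, hC, hsum, -⟩ := orbit_restrict π H hH b
    obtain ⟨y, hy⟩ := exists_notMem_orbit H hnot b
    have hk1 : 1 ≤ Nat.card T := by
      have hyT : y ∈ T := (hST y).2 (by
        intro hyS
        have : y ∈ (S : Set _) := hyS
        rw [hS] at this
        exact hy this)
      have : Nonempty T := ⟨⟨y, hyT⟩⟩
      exact Nat.card_pos
    have hm1 : 1 ≤ Nat.card S := by
      have hbS : b ∈ (S : Set _) := by rw [hS]; exact mem_orbit_self b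
      have : Nonempty S := ⟨⟨b, hbS⟩⟩
      exact Nat.card_pos
    rw [Nat.card_eq_fintype_card (α := α), hN] at hsum hC
    exact hC 2 Nat.prime_two h2π (choose_eight_even _ hm1 (by omega))
  have hnprim : ¬ IsPreprimitive H α := by
    intro hprim
    exact h5π (primitive_full π H hH hprim Nat.prime_two (by norm_num : 2 < 3) h2π
      (by rw [hN]; norm_num) 5 (by norm_num) (by rw [hN]; norm_num))
  obtain ⟨B, hB, hBnt⟩ : ∃ B : Set α, IsBlock H B ∧ ¬ IsTrivialBlock B := by
    by_contra hcon
    push Not at hcon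
    exact hnprim { toIsPretransitive := htr, isTrivialBlock_of_isBlock := fun hB => hcon _ hB }
  have hBns : ¬ B.Subsingleton := fun h => hBnt (Or.inl h)
  have hBnu : B ≠ Set.univ := fun h => hBnt (Or.inr h)
  have hB2 : 2 ≤ B.ncard := by
    by_contra hlt
    apply hBns
    exact (Set.ncard_le_one_iff_subsingleton).1 (by omega)
  have hBne : B.Nonempty := by rw [← Set.ncard_pos]; omega
  have hBlt : B.ncard < 8 := by
    rw [← hN, ← Nat.card_eq_fintype_card, ← Set.ncard_univ]
    exact Set.ncard_lt_ncard (Set.ssubset_univ_iff.2 hBnu)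
  have hmul := hB.ncard_block_mul_ncard_orbit_eq hBne
  rw [Nat.card_eq_fintype_card, hN] at hmul
  have hwr := card_dvd_wreath H B hB hBne
  have h1152 : 2 ^ 7 * 3 ^ 2 ∣ Nat.card H := by
    have h1 : 2 ^ 7 * 3 ^ 2 ∣ Nat.card H * H.index := by
      rw [card_mul_index_perm, Nat.card_eq_fintype_card, hN]; decide
    exact (coprime_pow_mul_pow_of_hall hH.2 h2π h3π 7 2).dvd_of_dvd_mul_right h1
  obtain ⟨a, ha⟩ : ∃ a, B.ncard = a := ⟨_, rfl⟩
  obtain ⟨b, hb⟩ : ∃ b, (orbit H B).ncard = b := ⟨_, rfl⟩
  rw [ha, hb] at hmul hwr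
  rw [ha] at hB2 hBlt
  interval_cases a
  · exfalso
    have hb4 : b = 4 := by omega
    rw [hb4] at hwr
    have : 2 ^ 7 * 3 ^ 2 ∣ Nat.factorial 2 ^ 4 * Nat.factorial 4 := h1152.trans hwr
    revert this; decide
  · omega
  · refine ⟨B, ha, ?_⟩
    have hle : H ≤ pairStab B := le_pairStab_of_block B hB (by rw [ha, hN])
    have hdvd := card_pairStab_dvd B hle (by rw [ha, hN]) (by rw [ha]; norm_num)
    rw [ha] at hdvd
    apply Subgroup.eq_of_le_of_card_ge hle
    apply Nat.le_of_dvd Nat.card_pos
    refine hdvd.trans ?_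
    have e : Nat.factorial 4 ^ 2 * 2 = 2 ^ 7 * 3 ^ 2 := by decide
    rw [e]; exact h1152
  · omega
  · omega
  · omega

end Cfsg.Agent.Lib.Helper22.HsW
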