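import Mathlib
import Cfsg.Agent.Lib.Helper22.HsW

/-!
Hall subgroups of symmetric groups are conjugate.
-/

set_option autoImplicit false

namespace Cfsg.Agent.Lib.Helper22.HsX

open Equiv MulAction Cfsg.Agent.Lib.Helper22.HsA Cfsg.Agent.Lib.Helper22.HsF
  Cfsg.Agent.Lib.Helper22.HsG Cfsg.Agent.Lib.Helper22.HsR
  Cfsg.Agent.Lib.Helper22.HsV Cfsg.Agent.Lib.Helper22.HsW
open scoped Pointwise

variable {α : Type} [Fintype α] [DecidableEq α]

theorem prime_dvd_card_perm_iff {p : ℕ} (hp : p.Prime) :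
    p ∣ Nat.card (Perm α) ↔ p ≤ Fintype.card α := by
  rw [Nat.card_perm, Nat.card_eq_fintype_card]
  exact Nat.Prime.dvd_factorial hp

/-- at most one prime of `π` divides `|Perm α|` when `TwoPrimes` fails. -/
theorem le_one_prime_of_not_twoPrimes {π : Set ℕ} (h : ¬ TwoPrimes π (Fintype.card α)) :
    ∀ r s : ℕ, r.Prime → s.Prime → r ∈ π → s ∈ π → r ∣ Nat.card (Perm α) →
      s ∣ Nat.card (Perm α) → r = s := by
  intro r s hr hs hrπ hsπ hrd hsd
  by_contra hne
  exact h ⟨r, s, hr, hs, hne, hrπ, hsπ, (prime_dvd_card_perm_iff hr).1 hrd,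
    (prime_dvd_card_perm_iff hs).1 hsd⟩

theorem full_of_not_notFull_perm {π : Set ℕ} (h : ¬ NotFull π (Fintype.card α)) :
    ∀ r : ℕ, r.Prime → r ∣ Nat.card (Perm α) → r ∈ π := by
  intro r hr hrd
  exact full_of_not_notFull h r hr ((prime_dvd_card_perm_iff hr).1 hrd)

/-- **Hall subgroups of symmetric groups are conjugate.** -/
theorem hall_conj_perm (π : Set ℕ) {H K : Subgroup (Perm α)} (hH : Cfsg.IsPiHall π H)
    (hK : Cfsg.IsPiHall π K) : ∃ g : Perm α, K = H.map (MulAut.conj g).toMonoidHom := by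
  classical
  by_cases h2p : TwoPrimes π (Fintype.card α)
  swap
  · exact hall_conj_of_le_one_prime π (le_one_prime_of_not_twoPrimes h2p) hH hK
  by_cases hnf : NotFull π (Fintype.card α)
  swap
  · have hfull := full_of_not_notFull_perm (α := α) hnf
    refine ⟨1, ?_⟩
    rw [hall_eq_top_of_full hfull hH, hall_eq_top_of_full hfull hK]
    simp
  have hE : E π (Fintype.card α) := ⟨α, inferInstance, H, Nat.card_eq_fintype_card, hH⟩
  rcases main π _ hE h2p hnf with ⟨hp, hπ⟩ | ⟨h78, hπ⟩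
  · obtain ⟨x, hx⟩ := hall_prime_structure π H hH hp hπ
    obtain ⟨y, hy⟩ := hall_prime_structure π K hK hp hπ
    refine ⟨swap x y, ?_⟩
    rw [hy, hx, ← stabilizer_smul_eq_stabilizer_map_conj]
    congr 1
    simp
  · rcases h78 with h7 | h8
    · rw [h7] at hπ
      obtain ⟨Y, hY3, hY⟩ := hall_seven_structure π H hH h7 hπ
      obtain ⟨Y', hY3', hY'⟩ := hall_seven_structure π K hK h7 hπ
      obtain ⟨g, hg⟩ := exists_perm_smul_eq (hY3.trans hY3'.symm)
      refine ⟨g, ?_⟩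
      rw [hY', hY, ← stabilizer_smul_eq_stabilizer_map_conj, hg]
    · rw [h8] at hπ
      obtain ⟨B, hB4, hB⟩ := hall_eight_structure π H hH h8 hπ
      obtain ⟨B', hB4', hB'⟩ := hall_eight_structure π K hK h8 hπ
      obtain ⟨g, hg⟩ := exists_perm_smul_eq (hB4.trans hB4'.symm)
      refine ⟨g, ?_⟩
      rw [hB', hB, ← pairStab_smul, hg]

end Cfsg.Agent.Lib.Helper22.HsX
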