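import Mathlib
import Cfsg.Agent.Lib.Helper22.HsU
import Cfsg.Agent.Lib.Helper22.HsX

/-!
Hall subgroups of alternating groups are conjugate; existence transfers between the symmetric
and the alternating group.
-/

set_option autoImplicit false

namespace Cfsg.Agent.Lib.Helper22.HsY

open Equiv MulAction Cfsg.Agent.Lib.Helper22.HsA Cfsg.Agent.Lib.Helper22.HsF
  Cfsg.Agent.Lib.Helper22.HsG Cfsg.Agent.Lib.Helper22.HsJ Cfsg.Agent.Lib.Helper22.HsP
  Cfsg.Agent.Lib.Helper22.HsT
  Cfsg.Agent.Lib.Helper22.HsU Cfsg.Agent.Lib.Helper22.HsV Cfsg.Agent.Lib.Helper22.HsX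

theorem mem_map_conj_iff {G : Type*} [Group G] (H : Subgroup G) (g x : G) :
    x ∈ H.map (MulAut.conj g).toMonoidHom ↔ g⁻¹ * x * g ∈ H := by
  rw [Subgroup.mem_map]
  constructor
  · rintro ⟨y, hy, rfl⟩
    have : g⁻¹ * ((MulAut.conj g).toMonoidHom y) * g = y := by
      show g⁻¹ * (g * y * g⁻¹) * g = y
      group
    rw [this]; exact hy
  · intro hx
    refine ⟨g⁻¹ * x * g, hx, ?_⟩
    show g * (g⁻¹ * x * g) * g⁻¹ = x
    group

theorem subgroupOf_map_conj {G : Type*} [Group G] (A H : Subgroup G) (g : G) (hg : g ∈ A) :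
    (H.map (MulAut.conj g).toMonoidHom).subgroupOf A
      = (H.subgroupOf A).map (MulAut.conj (⟨g, hg⟩ : A)).toMonoidHom := by
  ext x
  rw [Subgroup.mem_subgroupOf, mem_map_conj_iff, mem_map_conj_iff, Subgroup.mem_subgroupOf]
  rfl

theorem map_conj_mul_of_mem {G : Type*} [Group G] (H : Subgroup G) (g : G) {t : G} (ht : t ∈ H) :
    H.map (MulAut.conj (g * t)).toMonoidHom = H.map (MulAut.conj g).toMonoidHom := by
  ext x
  rw [mem_map_conj_iff, mem_map_conj_iff]
  have e : (g * t)⁻¹ * x * (g * t) = t⁻¹ * (g⁻¹ * x * g) * t := by group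
  rw [e]
  constructor
  · intro h
    have := H.mul_mem (H.mul_mem ht h) (H.inv_mem ht)
    simpa [mul_assoc] using this
  · intro h
    exact H.mul_mem (H.mul_mem (H.inv_mem ht) h) ht

variable {α : Type} [Fintype α] [DecidableEq α]

theorem prime_le_of_dvd_card_alt {p : ℕ} (hp : p.Prime)
    (h : p ∣ Nat.card (alternatingGroup α)) : p ≤ Fintype.card α := by
  have h1 : Nat.card (alternatingGroup α) ∣ Nat.card (Perm α) :=
    Subgroup.card_subgroup_dvd_card _
  exact (prime_dvd_card_perm_iff hp).1 (h.trans h1)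

/-- **Hall subgroups of alternating groups are conjugate.** -/
theorem hall_conj_alt (π : Set ℕ) {M M' : Subgroup ↥(alternatingGroup α)}
    (hM : Cfsg.IsPiHall π M) (hM' : Cfsg.IsPiHall π M') :
    ∃ g : ↥(alternatingGroup α), M' = M.map (MulAut.conj g).toMonoidHom := by
  classical
  by_cases h2p : TwoPrimes π (Fintype.card α)
  swap
  · apply hall_conj_of_le_one_prime π _ hM hM'
    intro r s hr hs hrπ hsπ hrd hsd
    by_contra hne
    exact h2p ⟨r, s, hr, hs, hne, hrπ, hsπ, prime_le_of_dvd_card_alt hr hrd,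
      prime_le_of_dvd_card_alt hs hsd⟩
  by_cases hnf : NotFull π (Fintype.card α)
  swap
  · have hfull : ∀ r : ℕ, r.Prime → r ∣ Nat.card (alternatingGroup α) → r ∈ π := fun r hr hrd =>
      full_of_not_notFull hnf r hr (prime_le_of_dvd_card_alt hr hrd)
    refine ⟨1, ?_⟩
    rw [hall_eq_top_of_full hfull hM, hall_eq_top_of_full hfull hM']
    simp
  obtain ⟨M₀, hM₀, rfl⟩ := (hall_alt_iff_inter π M).1 hM
  obtain ⟨M₀', hM₀', rfl⟩ := (hall_alt_iff_inter π M').1 hM'
  have hN5 : 5 ≤ Fintype.card α := five_le_of_twoPrimes_notFull h2p hnf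
  have hE : E π (Fintype.card α) := ⟨α, inferInstance, M₀, Nat.card_eq_fintype_card, hM₀⟩
  have h2π : 2 ∈ π := by
    rcases main π _ hE h2p hnf with ⟨hp, hπ⟩ | ⟨h78, hπ⟩
    · exact (hπ 2 Nat.prime_two (by omega)).2 (by omega)
    · exact (hπ 2 Nat.prime_two (by omega)).2 (Or.inl rfl)
  obtain ⟨g₀, hg₀⟩ := hall_conj_perm π hM₀ hM₀'
  by_cases hgA : g₀ ∈ alternatingGroup α
  · exact ⟨⟨g₀, hgA⟩, by rw [hg₀, subgroupOf_map_conj]⟩
  · have hnle : ¬ M₀ ≤ alternatingGroup α := by
      intro hle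
      have : Nontrivial α := Fintype.one_lt_card_iff_nontrivial.1 (by omega)
      have h1 : (alternatingGroup α).index ∣ M₀.index := Subgroup.index_dvd_of_le hle
      rw [alternatingGroup.index_eq_two] at h1
      exact hM₀.2 2 Nat.prime_two h2π h1
    obtain ⟨t, ht, htA⟩ := SetLike.not_le_iff_exists.1 hnle
    have hgt : g₀ * t ∈ alternatingGroup α := by
      rw [Perm.mem_alternatingGroup] at hgA htA ⊢
      rw [map_mul]
      rcases Int.units_eq_one_or (Perm.sign g₀) with h | h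
      · exact absurd h hgA
      · rcases Int.units_eq_one_or (Perm.sign t) with h' | h'
        · exact absurd h' htA
        · rw [h, h']; decide
    refine ⟨⟨g₀ * t, hgt⟩, ?_⟩
    rw [← subgroupOf_map_conj, map_conj_mul_of_mem M₀ g₀ ht, hg₀]

/-- existence of Hall subgroups transfers between the symmetric and the alternating group. -/
theorem exists_hall_perm_iff_alt (π : Set ℕ) :
    (∃ H : Subgroup (Perm α), Cfsg.IsPiHall π H) ↔
      ∃ M : Subgroup ↥(alternatingGroup α), Cfsg.IsPiHall π M := by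
  constructor
  · rintro ⟨H, hH⟩
    exact ⟨H.subgroupOf (alternatingGroup α), isPiHall_subgroupOf_of_normal hH _⟩
  · rintro ⟨M, hM⟩
    obtain ⟨M₀, hM₀, -⟩ := (hall_alt_iff_inter π M).1 hM
    exact ⟨M₀, hM₀⟩

end Cfsg.Agent.Lib.Helper22.HsY
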