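import Mathlib
import Cfsg.Agent.Lib.Helper22.HsV

/-!
The full Sylow analogue `D_π`: general lemmas for finite groups.
-/

set_option autoImplicit false

namespace Cfsg.Agent.Lib.Helper22.HsZ

open Cfsg.Agent.Lib.Helper22.HsA Cfsg.Agent.Lib.Helper22.HsV

variable {G : Type*} [Group G] [Finite G]

/-- with at most one relevant prime, maximal `π`-subgroups are Hall subgroups. -/
theorem isPiHall_of_maximal_of_le_one_prime {π : Set ℕ}
    (h1 : ∀ r s : ℕ, r.Prime → s.Prime → r ∈ π → s ∈ π → r ∣ Nat.card G → s ∣ Nat.card G → r = s)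
    {H : Subgroup G} (hH : Maximal (Cfsg.IsPiSubgroup π) H) : Cfsg.IsPiHall π H := by
  refine ⟨hH.1, ?_⟩
  intro q hq hqπ hqd
  have hqG : q ∣ Nat.card G := hqd.trans (Subgroup.index_dvd_card _)
  have : Fact q.Prime := ⟨hq⟩
  have hHq : IsPGroup q H := isPGroup_of_hall hq hqπ hqG h1 hH.1
  obtain ⟨P, hHP⟩ := hHq.exists_le_sylow
  have hPπ : Cfsg.IsPiSubgroup π (P : Subgroup G) := by
    intro p hp hpd
    obtain ⟨k, hk⟩ := IsPGroup.iff_card.1 P.isPGroup'
    rw [hk] at hpd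
    have := (Nat.prime_dvd_prime_iff_eq hp hq).1 (hp.dvd_of_dvd_pow hpd)
    rw [this]; exact hqπ
  have hPH : (P : Subgroup G) ≤ H := hH.2 hPπ hHP
  have hidx : H.index ∣ (P : Subgroup G).index := Subgroup.index_dvd_of_le hPH
  exact P.not_dvd_index (hqd.trans hidx)

theorem dpi_of_le_one_prime (π : Set ℕ)
    (h1 : ∀ r s : ℕ, r.Prime → s.Prime → r ∈ π → s ∈ π → r ∣ Nat.card G → s ∣ Nat.card G → r = s) :
    Cfsg.IsDPiGroup π G := by
  intro H K hH hK
  exact hall_conj_of_le_one_prime π h1 (isPiHall_of_maximal_of_le_one_prime h1 hH)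
    (isPiHall_of_maximal_of_le_one_prime h1 hK)

theorem dpi_of_full (π : Set ℕ) (hfull : ∀ r : ℕ, r.Prime → r ∣ Nat.card G → r ∈ π) :
    Cfsg.IsDPiGroup π G := by
  have htop : Cfsg.IsPiSubgroup π (⊤ : Subgroup G) := by
    intro p hp hpd
    rw [Subgroup.card_top] at hpd
    exact hfull p hp hpd
  intro H K hH hK
  have hH' : H = ⊤ := top_le_iff.1 (hH.2 htop le_top)
  have hK' : K = ⊤ := top_le_iff.1 (hK.2 htop le_top)
  refine ⟨1, ?_⟩
  rw [hH', hK']
  simp

/-- in a `D_π`-group every `π`-subgroup lies in a Hall `π`-subgroup. -/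
theorem hall_of_dpi {π : Set ℕ} (hD : Cfsg.IsDPiGroup π G) (L : Subgroup G)
    (hL : Cfsg.IsPiSubgroup π L) : ∃ H : Subgroup G, Cfsg.IsPiHall π H ∧ L ≤ H := by
  obtain ⟨H, hLH, hHmax⟩ := Finite.exists_le_maximal (p := Cfsg.IsPiSubgroup π) hL
  refine ⟨H, ⟨hHmax.1, ?_⟩, hLH⟩
  intro p hp hpπ hpd
  have : Fact p.Prime := ⟨hp⟩
  obtain ⟨P⟩ : Nonempty (Sylow p G) := inferInstance
  have hPπ : Cfsg.IsPiSubgroup π (P : Subgroup G) := by
    intro q hq hqd
    obtain ⟨k, hk⟩ := IsPGroup.iff_card.1 P.isPGroup'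
    rw [hk] at hqd
    have := (Nat.prime_dvd_prime_iff_eq hq hp).1 (hq.dvd_of_dvd_pow hqd)
    rw [this]; exact hpπ
  obtain ⟨K, hPK, hKmax⟩ := Finite.exists_le_maximal (p := Cfsg.IsPiSubgroup π) hPπ
  obtain ⟨g, hg⟩ := hD H K hHmax hKmax
  have hcard : Nat.card K = Nat.card H := by
    rw [hg]
    exact Subgroup.card_map_of_injective (MulAut.conj g).injective
  have hdvd : Nat.card (P : Subgroup G) ∣ Nat.card H := by
    rw [← hcard]; exact Subgroup.card_dvd_of_le hPK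
  -- index H ∣ index P
  obtain ⟨c, hc⟩ := hdvd
  have h1 := Subgroup.card_mul_index (P : Subgroup G)
  have h2 := Subgroup.card_mul_index H
  have hidx : (P : Subgroup G).index = c * H.index := by
    have hpos : 0 < Nat.card (P : Subgroup G) := Nat.card_pos
    apply Nat.eq_of_mul_eq_mul_left hpos
    rw [h1, ← h2, hc]; ring
  apply P.not_dvd_index
  rw [hidx]
  exact hpd.trans (dvd_mul_left _ _)

end Cfsg.Agent.Lib.Helper22.HsZ
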