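import Mathlib
import Cfsg.Agent.Lib.Helper22.HsY
import Cfsg.Agent.Lib.Helper22.HsZ

/-!
Failure of `D_π` for alternating groups: general tools and the prime-degree case.
-/

set_option autoImplicit false

namespace Cfsg.Agent.Lib.Helper22.HtA

open Equiv MulAction Cfsg.Agent.Lib.Helper22.HsA Cfsg.Agent.Lib.Helper22.HsF
  Cfsg.Agent.Lib.Helper22.HsU Cfsg.Agent.Lib.Helper22.HsW Cfsg.Agent.Lib.Helper22.HsZ
open scoped Pointwise

variable {α : Type} [Fintype α] [DecidableEq α]

theorem smul_mem_iff_of_smul_eq {g : Perm α} {Y : Set α} (hg : g • Y = Y) (x : α) :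
    g x ∈ Y ↔ x ∈ Y := by
  constructor
  · intro hx
    have : g • x ∈ g • Y := by rw [hg]; exact hx
    exact (Set.smul_mem_smul_set_iff).1 this
  · intro hx
    have : g • x ∈ g • Y := Set.smul_mem_smul_set hx
    rw [hg] at this
    exact this

/-- a permutation stabilizing `Y` has `|Y|!`-th power fixing `Y` pointwise. -/
theorem pow_factorial_fix {g : Perm α} {Y : Set α} (hg : g • Y = Y) :
    ∀ y ∈ Y, (g ^ (Y.ncard).factorial) y = y := by
  classical
  have hY : ∀ x, g x ∈ Y ↔ x ∈ Y := smul_mem_iff_of_smul_eq hg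
  intro y hy
  have h1 : (g.subtypePerm hY) ^ (Y.ncard).factorial = 1 := by
    have : Nat.card (Perm Y) = (Y.ncard).factorial := by
      rw [Nat.card_perm, Nat.card_coe_set_eq]
    rw [← this]; exact pow_card_eq_one'
  have h2 := congrArg (fun k : Perm Y => (k ⟨y, hy⟩ : α)) h1
  simpa [Perm.subtypePerm_pow] using h2

/-- a group of exponent dividing a `π`-number is a `π`-group. -/
theorem piNum_of_exponent {π : Set ℕ} (P : Subgroup (Perm α)) (e : ℕ)
    (he : ∀ g ∈ P, g ^ e = 1) (hπ : ∀ p : ℕ, p.Prime → p ∣ e → p ∈ π) :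
    piNum π (Nat.card P) := by
  intro p hp hpd
  have : Fact p.Prime := ⟨hp⟩
  obtain ⟨x, hx⟩ := exists_prime_orderOf_dvd_card' (G := P) p hpd
  apply hπ p hp
  rw [← hx, ← Subgroup.orderOf_coe]
  exact orderOf_dvd_of_pow_eq_one (he x.1 x.2)

/-- in a `D_π` alternating group every `π`-subgroup lies in a Hall `π`-subgroup of the
symmetric group. -/
theorem dpi_alt_super {π : Set ℕ} (hD : Cfsg.IsDPiGroup π ↥(alternatingGroup α))
    (L' : Subgroup (Perm α)) (hL'A : L' ≤ alternatingGroup α) (hL'π : piNum π (Nat.card L')) :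
    ∃ M₀ : Subgroup (Perm α), Cfsg.IsPiHall π M₀ ∧ L' ≤ M₀ := by
  have hLπ : Cfsg.IsPiSubgroup π (L'.subgroupOf (alternatingGroup α)) := by
    have h1 : Nat.card ((L'.subgroupOf (alternatingGroup α)).map (alternatingGroup α).subtype)
        = Nat.card (L'.subgroupOf (alternatingGroup α)) :=
      Subgroup.card_map_of_injective (Subgroup.subtype_injective _)
    rw [Subgroup.map_subgroupOf_eq_of_le hL'A] at h1
    intro p hp hpd
    rw [← h1] at hpd
    exact hL'π p hp hpd
  obtain ⟨M, hM, hLM⟩ := hall_of_dpi hD _ hLπ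
  obtain ⟨M₀, hM₀, rfl⟩ := (hall_alt_iff_inter π M).1 hM
  refine ⟨M₀, hM₀, ?_⟩
  intro g hg
  have h1 : (⟨g, hL'A hg⟩ : alternatingGroup α) ∈ L'.subgroupOf (alternatingGroup α) := hg
  exact hLM h1

theorem swap_mul_swap_mem_alt {u v w z : α} (huv : u ≠ v) (hwz : w ≠ z) :
    swap u v * swap w z ∈ alternatingGroup α := by
  rw [Perm.mem_alternatingGroup, map_mul, Perm.sign_swap huv, Perm.sign_swap hwz]
  decide

theorem smul_pair (g : Perm α) (a b : α) : g • ({a, b} : Set α) = {g a, g b} := by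
  ext y
  rw [Set.mem_smul_set]
  constructor
  · rintro ⟨z, hz, rfl⟩
    rcases hz with rfl | rfl
    · exact Or.inl rfl
    · exact Or.inr rfl
  · rintro (rfl | rfl)
    · exact ⟨a, Or.inl rfl, rfl⟩
    · exact ⟨b, Or.inr rfl, rfl⟩

/-- **prime degree**: `D_π` fails for the set of primes below the degree. -/
theorem no_dpi_prime {π : Set ℕ} (hD : Cfsg.IsDPiGroup π ↥(alternatingGroup α))
    (hp : (Fintype.card α).Prime) (hN5 : 5 ≤ Fintype.card α)
    (hπ : ∀ r : ℕ, r.Prime → r ≤ Fintype.card α → (r ∈ π ↔ r < Fintype.card α)) : False := by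
  classical
  obtain ⟨ι⟩ : Nonempty (Fin 5 ↪ α) :=
    Function.Embedding.nonempty_of_card_le (by simpa using hN5)
  have hne : ∀ i j : Fin 5, i ≠ j → ι i ≠ ι j := fun i j hij h => hij (ι.injective h)
  set a := ι 0 with ha
  set b := ι 1 with hb
  set c := ι 2 with hc
  set d := ι 3 with hd
  set e := ι 4 with he
  have hab : a ≠ b := hne 0 1 (by decide)
  have hac : a ≠ c := hne 0 2 (by decide)
  have had : a ≠ d := hne 0 3 (by decide)
  have hae : a ≠ e := hne 0 4 (by decide)
  have hbc : b ≠ c := hne 1 2 (by decide)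
  have hbd : b ≠ d := hne 1 3 (by decide)
  have hbe : b ≠ e := hne 1 4 (by decide)
  have hcd : c ≠ d := hne 2 3 (by decide)
  have hce : c ≠ e := hne 2 4 (by decide)
  have hde : d ≠ e := hne 3 4 (by decide)
  set Y : Set α := {a, b} with hY
  set L' : Subgroup (Perm α) := stabilizer (Perm α) Y ⊓ alternatingGroup α with hL'
  have hY2 : Y.ncard = 2 := Set.ncard_pair hab
  have hYc : Yᶜ.ncard = Fintype.card α - 2 := by
    have := Set.ncard_add_ncard_compl Y
    rw [Nat.card_eq_fintype_card] at this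
    omega
  have hL'π : piNum π (Nat.card L') := by
    have h1 : Nat.card L' ∣ Nat.factorial 2 * (Fintype.card α - 2).factorial := by
      have := card_stabilizer_set_dvd Y
      rw [hY2, hYc] at this
      exact (Subgroup.card_dvd_of_le inf_le_left).trans this
    intro q hq hqd
    have hq2 := hq.two_le
    have hqle : q ≤ Fintype.card α - 2 := by
      rcases (Nat.Prime.dvd_mul hq).1 (hqd.trans h1) with h | h
      · have := (Nat.Prime.dvd_factorial hq).1 h
        omega
      · exact (Nat.Prime.dvd_factorial hq).1 h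
    exact (hπ q hq (by omega)).2 (by omega)
  obtain ⟨M₀, hM₀, hLM⟩ := dpi_alt_super hD L' inf_le_right hL'π
  obtain ⟨x, hx⟩ := hall_prime_structure π M₀ hM₀ hp hπ
  have hfix : ∀ g ∈ L', g x = x := by
    intro g hg
    have := hLM hg
    rw [hx] at this
    exact this
  -- the element moving `a` and `b`
  have hs : swap a b * swap c d ∈ L' := by
    refine Subgroup.mem_inf.2 ⟨?_, swap_mul_swap_mem_alt hab hcd⟩
    rw [mem_stabilizer_iff, hY, smul_pair]
    have h1 : (swap a b * swap c d) a = b := by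
      rw [Perm.mul_apply, swap_apply_of_ne_of_ne hac had, swap_apply_left]
    have h2 : (swap a b * swap c d) b = a := by
      rw [Perm.mul_apply, swap_apply_of_ne_of_ne hbc hbd, swap_apply_right]
    rw [h1, h2, Set.pair_comm]
  -- three-cycles off `Y`
  have ht : ∀ u v w : α, u ≠ a → u ≠ b → v ≠ a → v ≠ b → w ≠ a → w ≠ b → u ≠ v → v ≠ w → u ≠ w →
      swap u v * swap v w ∈ L' ∧ (swap u v * swap v w) u = v := by
    intro u v w hua hub hva hvb hwa hwb huv hvw huw
    refine ⟨Subgroup.mem_inf.2 ⟨?_, swap_mul_swap_mem_alt huv hvw⟩, ?_⟩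
    · rw [mem_stabilizer_iff, hY, smul_pair]
      have h1 : (swap u v * swap v w) a = a := by
        rw [Perm.mul_apply, swap_apply_of_ne_of_ne hva.symm hwa.symm,
          swap_apply_of_ne_of_ne hua.symm hva.symm]
      have h2 : (swap u v * swap v w) b = b := by
        rw [Perm.mul_apply, swap_apply_of_ne_of_ne hvb.symm hwb.symm,
          swap_apply_of_ne_of_ne hub.symm hvb.symm]
      rw [h1, h2]
    · rw [Perm.mul_apply, swap_apply_of_ne_of_ne huv huw, swap_apply_left]
  by_cases hxa : x = a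
  · have := hfix _ hs
    rw [hxa, Perm.mul_apply, swap_apply_of_ne_of_ne hac had, swap_apply_left] at this
    exact hab this.symm
  by_cases hxb : x = b
  · have := hfix _ hs
    rw [hxb, Perm.mul_apply, swap_apply_of_ne_of_ne hbc hbd, swap_apply_right] at this
    exact hab this
  by_cases hxc : x = c
  · obtain ⟨h1, h2⟩ := ht x d e hxa hxb had.symm hbd.symm hae.symm hbe.symm (hxc ▸ hcd) hde
      (hxc ▸ hce)
    have := hfix _ h1
    rw [h2] at this
    exact hcd (hxc ▸ this.symm)
  by_cases hxd : x = d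
  · obtain ⟨h1, h2⟩ := ht x c e hxa hxb hac.symm hbc.symm hae.symm hbe.symm (hxd ▸ hcd.symm) hce
      (hxd ▸ hde)
    have := hfix _ h1
    rw [h2] at this
    exact hcd (hxd ▸ this)
  · obtain ⟨h1, h2⟩ := ht x c d hxa hxb hac.symm hbc.symm had.symm hbd.symm hxc hcd hxd
    have := hfix _ h1
    rw [h2] at this
    exact hxc this.symm

end Cfsg.Agent.Lib.Helper22.HtA
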