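import Mathlib
import Cfsg.Agent.Lib.Helper22.HtA

/-!
Failure of `D_π` for the alternating groups of degree 7 and 8 with `π ∩ [1,n] = {2,3}`.
-/

set_option autoImplicit false

namespace Cfsg.Agent.Lib.Helper22.HtB

open Equiv MulAction Cfsg.Agent.Lib.Helper22.HsA Cfsg.Agent.Lib.Helper22.HsR
  Cfsg.Agent.Lib.Helper22.HsW Cfsg.Agent.Lib.Helper22.HtA
open scoped Pointwise

theorem smul_toFinset_eq {n : ℕ} (g : Perm (Fin n)) (B : Set (Fin n)) [Fintype B]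
    (h : g • B = B) : g • B.toFinset = B.toFinset := by
  apply Finset.coe_injective
  rw [Finset.coe_smul_finset, Set.coe_toFinset, h]

theorem smul_toFinset_compl {n : ℕ} (g : Perm (Fin n)) (B : Set (Fin n)) [Fintype B]
    (h : g • B = Bᶜ) : g • B.toFinset = B.toFinsetᶜ := by
  apply Finset.coe_injective
  rw [Finset.coe_smul_finset, Finset.coe_compl, Set.coe_toFinset, h]

theorem mem_stabilizer_coe {n : ℕ} (g : Perm (Fin n)) (Y : Finset (Fin n)) (h : g • Y = Y) :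
    g ∈ stabilizer (Perm (Fin n)) (Y : Set (Fin n)) := by
  rw [mem_stabilizer_iff, ← Finset.coe_smul_finset, h]

theorem prime_dvd_six {p : ℕ} (hp : p.Prime) (h : p ∣ 6) : p = 2 ∨ p = 3 := by
  have h' : p ∣ 2 * 3 := by norm_num; exact h
  rcases (Nat.Prime.dvd_mul hp).1 h' with h2 | h3
  · exact Or.inl ((Nat.prime_dvd_prime_iff_eq hp Nat.prime_two).1 h2)
  · exact Or.inr ((Nat.prime_dvd_prime_iff_eq hp Nat.prime_three).1 h3)

/-! ### degree 8 -/

def Y1 : Finset (Fin 8) := {0, 1, 2}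
def Y2 : Finset (Fin 8) := {3, 4, 5}
def Y3 : Finset (Fin 8) := {6, 7}

def c1 : Perm (Fin 8) := swap 0 1 * swap 1 2
def c2 : Perm (Fin 8) := swap 3 4 * swap 4 5
def t8 : Perm (Fin 8) := swap 0 1 * swap 6 7

/-- the even part of the Young subgroup of type `(3,3,2)`. -/
def L8 : Subgroup (Perm (Fin 8)) :=
  stabilizer (Perm (Fin 8)) (Y1 : Set (Fin 8)) ⊓ stabilizer (Perm (Fin 8)) (Y2 : Set (Fin 8)) ⊓
    stabilizer (Perm (Fin 8)) (Y3 : Set (Fin 8)) ⊓ alternatingGroup (Fin 8)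

theorem mem_L8 {g : Perm (Fin 8)} : g ∈ L8 ↔
    g • (Y1 : Set (Fin 8)) = Y1 ∧ g • (Y2 : Set (Fin 8)) = Y2 ∧ g • (Y3 : Set (Fin 8)) = Y3 ∧
      g ∈ alternatingGroup (Fin 8) := by
  unfold L8
  rw [Subgroup.mem_inf, Subgroup.mem_inf, Subgroup.mem_inf, mem_stabilizer_iff,
    mem_stabilizer_iff, mem_stabilizer_iff]
  tauto

theorem L8_le_alt : L8 ≤ alternatingGroup (Fin 8) := inf_le_right

theorem cover8 : ∀ y : Fin 8, y ∈ Y1 ∨ y ∈ Y2 ∨ y ∈ Y3 := by decide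

theorem pow_six_L8 : ∀ g ∈ L8, g ^ 6 = 1 := by
  intro g hg
  obtain ⟨h1, h2, h3, -⟩ := mem_L8.1 hg
  ext y
  rw [Perm.one_apply]
  congr 1
  rcases cover8 y with hy | hy | hy
  · have := pow_factorial_fix h1 y (Finset.mem_coe.2 hy)
    rw [Set.ncard_coe_finset] at this
    exact this
  · have := pow_factorial_fix h2 y (Finset.mem_coe.2 hy)
    rw [Set.ncard_coe_finset] at this
    exact this
  · have := pow_factorial_fix h3 y (Finset.mem_coe.2 hy)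
    rw [Set.ncard_coe_finset] at this
    have e : g ^ 6 = (g ^ 2) ^ 3 := by rw [← pow_mul]
    rw [e]
    exact Perm.pow_apply_eq_self_of_apply_eq_self this 3

theorem c1_mem : c1 ∈ L8 := by
  rw [mem_L8]
  refine ⟨?_, ?_, ?_, swap_mul_swap_mem_alt (by decide) (by decide)⟩
  · rw [← Finset.coe_smul_finset]; exact congrArg _ (by decide)
  · rw [← Finset.coe_smul_finset]; exact congrArg _ (by decide)
  · rw [← Finset.coe_smul_finset]; exact congrArg _ (by decide)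

theorem c2_mem : c2 ∈ L8 := by
  rw [mem_L8]
  refine ⟨?_, ?_, ?_, swap_mul_swap_mem_alt (by decide) (by decide)⟩
  · rw [← Finset.coe_smul_finset]; exact congrArg _ (by decide)
  · rw [← Finset.coe_smul_finset]; exact congrArg _ (by decide)
  · rw [← Finset.coe_smul_finset]; exact congrArg _ (by decide)

theorem t8_mem : t8 ∈ L8 := by
  rw [mem_L8]
  refine ⟨?_, ?_, ?_, swap_mul_swap_mem_alt (by decide) (by decide)⟩
  · rw [← Finset.coe_smul_finset]; exact congrArg _ (by decide)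
  · rw [← Finset.coe_smul_finset]; exact congrArg _ (by decide)
  · rw [← Finset.coe_smul_finset]; exact congrArg _ (by decide)

set_option maxRecDepth 100000 in
theorem no_pair8 : ∀ B : Finset (Fin 8), B.card = 4 →
    ¬ ((c1 • B = B ∨ c1 • B = Bᶜ) ∧ (c2 • B = B ∨ c2 • B = Bᶜ) ∧ (t8 • B = B ∨ t8 • B = Bᶜ)) := by
  decide

/-- **degree 8**: `D_π` fails when `π ∩ [1,8] = {2,3}`. -/
theorem no_dpi_eight {π : Set ℕ} (hD : Cfsg.IsDPiGroup π ↥(alternatingGroup (Fin 8)))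
    (hπ : ∀ r : ℕ, r.Prime → r ≤ 8 → (r ∈ π ↔ (r = 2 ∨ r = 3))) : False := by
  classical
  have h2π : 2 ∈ π := (hπ 2 Nat.prime_two (by norm_num)).2 (Or.inl rfl)
  have h3π : 3 ∈ π := (hπ 3 Nat.prime_three (by norm_num)).2 (Or.inr rfl)
  have hL8π : piNum π (Nat.card L8) := by
    apply piNum_of_exponent L8 6 pow_six_L8
    intro p hp hpd
    rcases prime_dvd_six hp hpd with h | h
    · rw [h]; exact h2π
    · rw [h]; exact h3π
  obtain ⟨M₀, hM₀, hLM⟩ := dpi_alt_super hD L8 L8_le_alt hL8π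
  obtain ⟨B, hB4, hB⟩ := hall_eight_structure π M₀ hM₀ (by simp) hπ
  rw [hB] at hLM
  have key : ∀ g ∈ L8, g • B.toFinset = B.toFinset ∨ g • B.toFinset = B.toFinsetᶜ := by
    intro g hg
    rcases mem_pairStab.1 (hLM hg) with h | h
    · exact Or.inl (smul_toFinset_eq g B h)
    · exact Or.inr (smul_toFinset_compl g B h)
  have hcard : B.toFinset.card = 4 := by rw [← hB4, Set.ncard_eq_toFinset_card']
  exact no_pair8 B.toFinset hcard ⟨key c1 c1_mem, key c2 c2_mem, key t8 t8_mem⟩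

/-! ### degree 7 -/

def B1 : Finset (Fin 7) := {0, 1, 2}
def B2 : Finset (Fin 7) := {3, 4, 5}

def g1 : Perm (Fin 7) := swap 0 1 * swap 1 2
def g2 : Perm (Fin 7) := swap 3 4 * swap 4 5
def g3 : Perm (Fin 7) := (swap 0 3 * swap 1 4) * (swap 2 5 * swap 0 1)

/-- permutations fixing `6` and preserving the partition `{0,1,2 | 3,4,5}`. -/
def P7 : Subgroup (Perm (Fin 7)) where
  carrier := {g | g 6 = 6 ∧ ((g • B1 = B1 ∧ g • B2 = B2) ∨ (g • B1 = B2 ∧ g • B2 = B1))}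
  one_mem' := ⟨rfl, Or.inl ⟨one_smul _ _, one_smul _ _⟩⟩
  mul_mem' := by
    rintro g h ⟨hg6, hg⟩ ⟨hh6, hh⟩
    refine ⟨by rw [Perm.mul_apply, hh6, hg6], ?_⟩
    rw [mul_smul, mul_smul]
    rcases hh with ⟨h1, h2⟩ | ⟨h1, h2⟩ <;> rcases hg with ⟨k1, k2⟩ | ⟨k1, k2⟩
    · left; rw [h1, h2]; exact ⟨k1, k2⟩
    · right; rw [h1, h2]; exact ⟨k1, k2⟩
    · right; rw [h1, h2]; exact ⟨k2, k1⟩
    · left; rw [h1, h2]; exact ⟨k2, k1⟩
  inv_mem' := by
    rintro g ⟨hg6, hg⟩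
    refine ⟨by rw [Perm.inv_eq_iff_eq, hg6], ?_⟩
    rcases hg with ⟨h1, h2⟩ | ⟨h1, h2⟩
    · left; exact ⟨by rw [inv_smul_eq_iff, h1], by rw [inv_smul_eq_iff, h2]⟩
    · right; exact ⟨by rw [inv_smul_eq_iff, h2], by rw [inv_smul_eq_iff, h1]⟩

theorem mem_P7 {g : Perm (Fin 7)} : g ∈ P7 ↔
    g 6 = 6 ∧ ((g • B1 = B1 ∧ g • B2 = B2) ∨ (g • B1 = B2 ∧ g • B2 = B1)) := Iff.rfl

def L7 : Subgroup (Perm (Fin 7)) := P7 ⊓ alternatingGroup (Fin 7)

theorem cover7 : ∀ y : Fin 7, y ∈ B1 ∨ y ∈ B2 ∨ y = 6 := by decide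

theorem pow_twelve_L7 : ∀ g ∈ L7, g ^ 12 = 1 := by
  intro g hg
  obtain ⟨hg6, hg⟩ := mem_P7.1 (Subgroup.mem_inf.1 hg).1
  have hh6 : (g ^ 2) 6 = 6 := by rw [pow_two, Perm.mul_apply, hg6, hg6]
  have hh : (g ^ 2) • B1 = B1 ∧ (g ^ 2) • B2 = B2 := by
    rw [pow_two, mul_smul, mul_smul]
    rcases hg with ⟨h1, h2⟩ | ⟨h1, h2⟩
    · exact ⟨by rw [h1, h1], by rw [h2, h2]⟩
    · exact ⟨by rw [h1, h2], by rw [h2, h1]⟩
  have hs1 : (g ^ 2) • (B1 : Set (Fin 7)) = B1 := by rw [← Finset.coe_smul_finset, hh.1]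
  have hs2 : (g ^ 2) • (B2 : Set (Fin 7)) = B2 := by rw [← Finset.coe_smul_finset, hh.2]
  have e : g ^ 12 = (g ^ 2) ^ 6 := by rw [← pow_mul]
  rw [e]
  ext y
  rw [Perm.one_apply]
  congr 1
  rcases cover7 y with hy | hy | hy
  · have := pow_factorial_fix hs1 y (Finset.mem_coe.2 hy)
    rw [Set.ncard_coe_finset] at this
    exact this
  · have := pow_factorial_fix hs2 y (Finset.mem_coe.2 hy)
    rw [Set.ncard_coe_finset] at this
    exact this
  · rw [hy]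
    exact Perm.pow_apply_eq_self_of_apply_eq_self hh6 6

theorem g1_mem : g1 ∈ L7 := by
  refine Subgroup.mem_inf.2 ⟨?_, swap_mul_swap_mem_alt (by decide) (by decide)⟩
  rw [mem_P7]; decide

theorem g2_mem : g2 ∈ L7 := by
  refine Subgroup.mem_inf.2 ⟨?_, swap_mul_swap_mem_alt (by decide) (by decide)⟩
  rw [mem_P7]; decide

theorem g3_mem : g3 ∈ L7 := by
  refine Subgroup.mem_inf.2 ⟨?_, Subgroup.mul_mem _ (swap_mul_swap_mem_alt (by decide) (by decide))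
    (swap_mul_swap_mem_alt (by decide) (by decide))⟩
  rw [mem_P7]; decide

set_option maxRecDepth 100000 in
theorem no_inv7 : ∀ Y : Finset (Fin 7), Y.card = 3 →
    ¬ (g1 • Y = Y ∧ g2 • Y = Y ∧ g3 • Y = Y) := by
  decide

theorem prime_dvd_twelve {p : ℕ} (hp : p.Prime) (h : p ∣ 12) : p = 2 ∨ p = 3 := by
  have h' : p ∣ 2 ^ 2 * 3 ^ 1 := by norm_num; exact h
  exact Cfsg.Agent.Lib.Helper22.HsH.prime_dvd_two_pow_mul_three_pow hp h'

/-- **degree 7**: `D_π` fails when `π ∩ [1,7] = {2,3}`. -/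
theorem no_dpi_seven {π : Set ℕ} (hD : Cfsg.IsDPiGroup π ↥(alternatingGroup (Fin 7)))
    (hπ : ∀ r : ℕ, r.Prime → r ≤ 7 → (r ∈ π ↔ (r = 2 ∨ r = 3))) : False := by
  classical
  have h2π : 2 ∈ π := (hπ 2 Nat.prime_two (by norm_num)).2 (Or.inl rfl)
  have h3π : 3 ∈ π := (hπ 3 Nat.prime_three (by norm_num)).2 (Or.inr rfl)
  have hL7π : piNum π (Nat.card L7) := by
    apply piNum_of_exponent L7 12 pow_twelve_L7
    intro p hp hpd
    rcases prime_dvd_twelve hp hpd with h | h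
    · rw [h]; exact h2π
    · rw [h]; exact h3π
  obtain ⟨M₀, hM₀, hLM⟩ := dpi_alt_super hD L7 inf_le_right hL7π
  obtain ⟨Y, hY3, hY⟩ := hall_seven_structure π M₀ hM₀ (by simp) hπ
  rw [hY] at hLM
  have key : ∀ g ∈ L7, g • Y.toFinset = Y.toFinset := by
    intro g hg
    exact smul_toFinset_eq g Y (hLM hg)
  have hcard : Y.toFinset.card = 3 := by rw [← hY3, Set.ncard_eq_toFinset_card']
  exact no_inv7 Y.toFinset hcard ⟨key g1 g1_mem, key g2 g2_mem, key g3 g3_mem⟩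

end Cfsg.Agent.Lib.Helper22.HtB
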