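import Mathlib
import Cfsg.Prelude.Def_ChevStructure
import Cfsg.Agent.Lib.Helper12.INVE8.Defs
import Cfsg.Agent.Lib.Helper22.INVE8FUSE
import Cfsg.Agent.Lib.helper14.F4Cb

/-!
# Project INVE8 (S2176), piece MEM : the four representatives are involutions of `G` (helper22)
-/

set_option autoImplicit false
set_option linter.unusedVariables false

namespace Cfsg.Agent.Lib.Helper12.INVE8

open Cfsg.Lie Cfsg.Lie.ChevalleyDatum Cfsg.Agent.Lib.helper8 Cfsg.Agent.Lib.helper14
  Cfsg.Agent.Lib.helper14.INV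

universe u

variable {F : Type u} [Field F]

/-- GENERIC (any datum): the product `∏ x_r(1)` over a non-empty increasing list of pairwise commuting
(mod 2) positive roots is an involution in characteristic two -/
theorem e8mem_order_gen [CharP F 2] (D : ChevalleyDatum) (hB : H8Base.{u} D)
    (hC : H8CommAll.{u} D) (hO2 : H8Ord2 D) (L : List ℕ) (hne : L ≠ [])
    (hfil : (h8Lk D 0).filter (fun r => decide (r ∈ L)) = L)
    (hchk : f4cCommChk D L 2 = true) :
    orderOf (w1 D hB L : GL D.Idx F) = 2 := by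
  have hm : (((2 : ℕ) : ℤ) : F) = 0 := by
    have : ((2 : ℕ) : F) = 0 := CharP.cast_eq_zero F 2
    exact_mod_cast this
  have e1 : (w1 D hB L : GL D.Idx F) = f4cLW D hB L (fun _ => (1 : F)) := rfl
  apply orderOf_eq_prime
  · rw [pow_two, e1, f4cLW_mul D hB hC L 2 hm hchk _ _ L (fun s hs => hs)]
    rw [f4cLW_congr D hB L _ (fun _ => (0 : F)) (fun r _ => CharTwo.add_self_eq_zero (1 : F)),
      f4cLW_zero]
  · intro h
    rw [e1, f4cLW_eq_W D hB L hfil] at h
    have h0 := f4cLW_zero (F := F) D hB L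
    rw [f4cLW_eq_W D hB L hfil] at h0
    rw [← h0] at h
    obtain ⟨r, hr⟩ := List.exists_mem_of_ne_nil L hne
    have hr' : r ∈ (h8Lk D 0).filter (fun r => decide (r ∈ L)) := by rw [hfil]; exact hr
    have hpos : D.IsPosRoot r := ((h8Lk_mem D 0 r).mp (List.mem_filter.mp hr').1).2
    have := f4c_W_unique0 D hB hO2 _ _ h r hpos
    simp only [if_pos hr] at this
    exact one_ne_zero this

set_option maxRecDepth 100000 in
theorem e8mem_chk : ∀ L ∈ [[239], [232, 233], [218, 222, 228], [213, 216, 220, 226]],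
    (h8Lk chevE8 0).filter (fun r => decide (r ∈ L)) = L ∧ f4cCommChk chevE8 L 2 = true := by
  decide +kernel

/-- MEM : the four representatives are involutions of `G` -/
theorem e8_mem_order [CharP F 2] (hB : H8Base.{u} chevE8) (a : List ℕ) (ha : a ∈ e8Reps) :
    (w1 chevE8 hB a : GL chevE8.Idx F) ∈ chevE8.group F ∧
      orderOf (w1 chevE8 hB a : GL chevE8.Idx F) = 2 := by
  refine ⟨h8wordU_mem_group chevE8 hB _, ?_⟩
  have hC := h8commAll.{u} chevE8 e8fuse_mem
  obtain ⟨_, hO2⟩ := h8ord_all chevE8 e8fuse_mem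
  have key : ∀ L ∈ [[239], [232, 233], [218, 222, 228], [213, 216, 220, 226]], L ≠ [] →
      orderOf (w1 chevE8 hB L : GL chevE8.Idx F) = 2 := by
    intro L hL hne
    obtain ⟨h1, h2⟩ := e8mem_chk L hL
    exact e8mem_order_gen chevE8 hB hC hO2 L hne h1 h2
  simp only [e8Reps, List.mem_cons, List.not_mem_nil, or_false] at ha
  rcases ha with rfl | rfl | rfl | rfl
  · exact key _ (by simp) (by simp)
  · exact key _ (by simp) (by simp)
  · rw [← e8fuse_sorted3]
    exact key _ (by simp) (by simp)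
  · rw [← e8fuse_sorted4]
    exact key _ (by simp) (by simp)

end Cfsg.Agent.Lib.Helper12.INVE8
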