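import Mathlib
import Cfsg.Agent.Lib.Helper28.IPB.Defs
import Cfsg.Agent.Lib.Helper28.IPB.Basic
import Cfsg.Agent.Lib.Helper25.ExtraspecialUnique

/-!
# Project IPB, piece A (core): case A of the reduction step, `G ⧸ K` a `p`-group.

`ipba_core` is `caseA` with the statements of the pieces A1 (`pgroup_ramified`) and
A2 (`degLt_of_ramified`) as hypotheses.
-/

set_option autoImplicit false
open scoped commutatorElement

namespace Cfsg.Agent.Lib.Helper28.IPB

universe u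

section caseA
variable {G : Type u} [Group G]

/-- piece A (core): assembly of case A from A1 and A2 -/
theorem ipba_core [Finite G] {b : ℕ}
    (hA1 : ∀ (X : Type u) [Group X] [Finite X] (p : ℕ) (_ : p.Prime)
      (_ : IsPGroup p X) (_ : commutator X ≠ ⊥)
      (_ : ∀ N : Subgroup X, N.Normal → N ≠ ⊥ → commutator X ≤ N),
      ∃ ψ : Cfsg.IrrCharacter X, (∀ x : X, x ∉ Subgroup.center X → (ψ : X → ℂ) x = 0) ∧
        (Subgroup.center X).index = Cfsg.charDegree (ψ : X → ℂ) ^ 2 ∧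
        1 < Cfsg.charDegree (ψ : X → ℂ))
    (hA2 : ∀ (Z : Subgroup G) (ψ : Cfsg.IrrCharacter G),
      (∀ g : G, g ∉ Z → (ψ : G → ℂ) g = 0) →
      Z.index = Cfsg.charDegree (ψ : G → ℂ) ^ 2 →
      1 < Cfsg.charDegree (ψ : G → ℂ) → DegLe Z (b - 1))
    (hG : DegLe G b) (K : Subgroup G) [K.Normal]
    (hK : ¬ commutator G ≤ K)
    (hmax : ∀ N : Subgroup G, N.Normal → K < N → commutator G ≤ N) (p : ℕ) (hp : p.Prime)
    (hpK : IsPGroup p (G ⧸ K)) : Step G b := by
  obtain ⟨hna, hq⟩ := quot_hyps K hK hmax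
  obtain ⟨ψ, hv, hidx, h1⟩ := hA1 (G ⧸ K) p hp hpK hna hq
  have hsurj : Function.Surjective (QuotientGroup.mk' K) := QuotientGroup.mk'_surjective K
  let ψ' : Cfsg.IrrCharacter G :=
    ⟨fun g => (ψ : G ⧸ K → ℂ) (QuotientGroup.mk' K g),
      Cfsg.Agent.Lib.Helper25.xs_inflate (QuotientGroup.mk' K) hsurj ψ⟩
  have hdeg : Cfsg.charDegree (ψ' : G → ℂ) = Cfsg.charDegree (ψ : G ⧸ K → ℂ) := by
    show Cfsg.charDegree (fun g => (ψ : G ⧸ K → ℂ) (QuotientGroup.mk' K g)) = _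
    unfold Cfsg.charDegree
    simp only [map_one]
  set Z : Subgroup G := (Subgroup.center (G ⧸ K)).comap (QuotientGroup.mk' K) with hZ
  have hZidx : Z.index = (Subgroup.center (G ⧸ K)).index :=
    Subgroup.index_comap_of_surjective _ hsurj
  have hv' : ∀ g : G, g ∉ Z → (ψ' : G → ℂ) g = 0 := by
    intro g hg
    apply hv
    intro hmem
    exact hg (Subgroup.mem_comap.mpr hmem)
  have hdZ : DegLe Z (b - 1) := by
    apply hA2 Z ψ' hv'
    · rw [hZidx, hidx, hdeg]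
    · rw [hdeg]
      exact h1
  have hle : Cfsg.charDegree (ψ' : G → ℂ) ≤ b := hG ψ'
  refine step_i (one_le_of_degLe hG) Z ?_ hdZ
  rw [hZidx, hidx, ← hdeg]
  exact Nat.pow_le_pow_left hle 2

end caseA

end Cfsg.Agent.Lib.Helper28.IPB
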