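import Mathlib
import Cfsg.Agent.Lib.Helper28.IPB.Defs
import Cfsg.Agent.Lib.Helper22.IPBAcore
import Cfsg.Agent.Lib.Helper25.IPBA1
import Cfsg.Agent.Lib.Helper25.IPBA2

/-!
# Project IPB, piece A : `caseA` (verbatim wrapper of `ipba_core` with A1, A2)
-/

set_option autoImplicit false
open scoped commutatorElement
open Cfsg.Agent.Lib.Helper28.CD3 (cdOver FrobData)

namespace Cfsg.Agent.Lib.Helper28.IPB

universe u

section caseA
variable {G : Type u} [Group G]

-- piece A (assembly: inflate `ψ` from `G ⧸ K`, `Z` = preimage of the centre)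
theorem caseA [Finite G] {b : ℕ} (hG : DegLe G b) (K : Subgroup G) [K.Normal]
    (hK : ¬ commutator G ≤ K)
    (hmax : ∀ N : Subgroup G, N.Normal → K < N → commutator G ≤ N) (p : ℕ) (hp : p.Prime)
    (hpK : IsPGroup p (G ⧸ K)) : Step G b :=
  ipba_core (fun X _ _ p hp hX hna hq => pgroup_ramified X p hp hX hna hq)
    (fun Z ψ hv hidx h1 => degLt_of_ramified hG Z ψ hv hidx h1) hG K hK hmax p hp hpK

end caseA

end Cfsg.Agent.Lib.Helper28.IPB
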