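import Mathlib
import Cfsg.Agent.Lib.Helper25.IterComm

/-!
Involutions and inverted odd-order elements (toward S3928): basic dihedral lemmas.
`invOdd a` = odd-order elements inverted by `a`.
-/

set_option autoImplicit false

namespace Cfsg.Agent.Lib.Helper22.InvA

variable {Γ : Type*} [Group Γ]

/-- odd-order elements inverted by `a`. -/
def invOdd (a : Γ) : Set Γ := {y | a * y * a⁻¹ = y⁻¹ ∧ Odd (orderOf y)}

theorem orderOf_conj_eq (g x : Γ) : orderOf (g * x * g⁻¹) = orderOf x := by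
  have := (MulAut.conj g).orderOf_eq x
  rwa [MulAut.conj_apply] at this

theorem one_mem_invOdd (a : Γ) : (1 : Γ) ∈ invOdd a := by
  simp [invOdd]

theorem inv_eq_self_of_sq {a : Γ} (ha : a * a = 1) : a⁻¹ = a :=
  inv_eq_of_mul_eq_one_left ha

theorem conj_pow_inverted {a y : Γ} (h : a * y * a⁻¹ = y⁻¹) (k : ℕ) :
    a * y ^ k * a⁻¹ = (y ^ k)⁻¹ := by
  rw [← conj_pow, h, inv_pow]

theorem conj_inv_inverted {a y : Γ} (h : a * y * a⁻¹ = y⁻¹) :
    a * y⁻¹ * a⁻¹ = y := by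
  have : a * y⁻¹ * a⁻¹ = (a * y * a⁻¹)⁻¹ := by group
  rw [this, h, inv_inv]

theorem pow_mem_invOdd {a y : Γ} (hy : y ∈ invOdd a) (k : ℕ) : y ^ k ∈ invOdd a :=
  ⟨conj_pow_inverted hy.1 k, Odd.of_dvd_nat hy.2 (orderOf_pow_dvd k)⟩

theorem inv_mem_invOdd {a y : Γ} (hy : y ∈ invOdd a) : y⁻¹ ∈ invOdd a := by
  refine ⟨?_, ?_⟩
  · rw [conj_inv_inverted hy.1, inv_inv]
  · rw [orderOf_inv]; exact hy.2

/-- a product of two involutions is inverted by each of them. -/
theorem inverted_of_invol {a t : Γ} (ha : a * a = 1) (ht : t * t = 1) :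
    a * (t * a) * a⁻¹ = (t * a)⁻¹ := by
  rw [mul_inv_rev, inv_eq_self_of_sq ha, inv_eq_self_of_sq ht]
  calc a * (t * a) * a = a * t * (a * a) := by group
    _ = a * t := by rw [ha, mul_one]

/-- the `2^e`-th power has odd order once `2^e` is large. -/
theorem odd_orderOf_pow_two_pow {r : Γ} (hr : 0 < orderOf r) {e : ℕ} (he : orderOf r ≤ 2 ^ e) :
    Odd (orderOf (r ^ 2 ^ e)) := by
  obtain ⟨v, n, hn, h⟩ := Nat.exists_eq_two_pow_mul_odd hr.ne'
  have hv : v ≤ e := by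
    have h1 : 2 ^ v ≤ 2 ^ e := by
      calc 2 ^ v ≤ 2 ^ v * n := Nat.le_mul_of_pos_right _ hn.pos
        _ = orderOf r := h.symm
        _ ≤ 2 ^ e := he
    exact (Nat.pow_le_pow_iff_right (by norm_num)).mp h1
  have h2 : (r ^ 2 ^ e) ^ n = 1 := by
    rw [← pow_mul]
    have : 2 ^ e * n = orderOf r * 2 ^ (e - v) := by
      rw [h]
      have : 2 ^ e = 2 ^ v * 2 ^ (e - v) := by rw [← pow_add]; congr 1; omega
      rw [this]; ring
    rw [this, pow_mul, pow_orderOf_eq_one, one_pow]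
  exact Odd.of_dvd_nat hn (orderOf_dvd_of_pow_eq_one h2)

/-- a homomorphic image of odd order lifts to an odd-order power. -/
theorem exists_pow_odd_of_map_odd {Q : Type*} [Group Q] (π : Γ →* Q) {y : Γ}
    (hy : 0 < orderOf y) (hodd : Odd (orderOf (π y))) :
    ∃ k : ℕ, Odd (orderOf (y ^ k)) ∧ π (y ^ k) = π y := by
  obtain ⟨v, n, hn, h⟩ := Nat.exists_eq_two_pow_mul_odd hy.ne'
  by_cases h1 : orderOf (π y) = 1
  · refine ⟨0, by simp, ?_⟩
    rw [pow_zero, map_one]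
    exact (orderOf_eq_one_iff.mp h1).symm
  · have hpos : 0 < orderOf (π y) := hodd.pos
    have hgt : 1 < orderOf (π y) := by omega
    have hcop : Nat.Coprime (2 ^ v) (orderOf (π y)) :=
      Nat.Coprime.pow_left v (Nat.coprime_two_left.mpr hodd)
    obtain ⟨j, -, hj⟩ := Nat.exists_mul_mod_eq_one_of_coprime hcop hgt
    refine ⟨2 ^ v * j, ?_, ?_⟩
    · have h2 : (y ^ (2 ^ v * j)) ^ n = 1 := by
        rw [← pow_mul]
        have : 2 ^ v * j * n = orderOf y * j := by rw [h]; ring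
        rw [this, pow_mul, pow_orderOf_eq_one, one_pow]
      exact Odd.of_dvd_nat hn (orderOf_dvd_of_pow_eq_one h2)
    · rw [map_pow, ← pow_mod_orderOf, hj, pow_one]

/-- square root: an inverted odd-order element times `a` is a conjugate of `a`. -/
theorem exists_conj_of_mem_invOdd {a y : Γ} (hy : y ∈ invOdd a) :
    ∃ v : Γ, v * a * v⁻¹ = y * a := by
  obtain ⟨m, hm⟩ := hy.2
  refine ⟨y ^ (m + 1), ?_⟩
  have h1 : a * (y ^ (m + 1))⁻¹ * a⁻¹ = y ^ (m + 1) := by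
    have := conj_pow_inverted hy.1 (m + 1)
    exact conj_inv_inverted this
  have h2 : y ^ (m + 1) * y ^ (m + 1) = y := by
    rw [← pow_add]
    have : m + 1 + (m + 1) = orderOf y + 1 := by omega
    rw [this, pow_succ, pow_orderOf_eq_one, one_mul]
  have h3 : (y ^ (m + 1))⁻¹ = a⁻¹ * y ^ (m + 1) * a := by
    have : (y ^ (m + 1))⁻¹ = a⁻¹ * (a * (y ^ (m + 1))⁻¹ * a⁻¹) * a := by group
    rw [h1] at this
    exact this
  calc y ^ (m + 1) * a * (y ^ (m + 1))⁻¹
      = y ^ (m + 1) * a * (a⁻¹ * y ^ (m + 1) * a) := by rw [← h3]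
    _ = (y ^ (m + 1) * y ^ (m + 1)) * a := by group
    _ = y * a := by rw [h2]

/-- for a conjugate `t` of the involution `a`, a high 2-power of `t * a` lies in `invOdd a`. -/
theorem pow_two_pow_mem_invOdd [Finite Γ] {a : Γ} (ha : a * a = 1) (g : Γ) {e : ℕ}
    (he : Nat.card Γ ≤ 2 ^ e) :
    (g * a * g⁻¹ * a) ^ 2 ^ e ∈ invOdd a := by
  have ht : (g * a * g⁻¹) * (g * a * g⁻¹) = 1 := by
    calc (g * a * g⁻¹) * (g * a * g⁻¹) = g * (a * a) * g⁻¹ := by group
      _ = 1 := by rw [ha]; group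
  have hinv := inverted_of_invol ha ht
  refine ⟨conj_pow_inverted hinv _, ?_⟩
  exact odd_orderOf_pow_two_pow (orderOf_pos _) ((orderOf_le_card).trans he)

open Cfsg.Agent.Lib.Helper25 in
theorem icPsi_iter_formula {a : Γ} (ha : a * a = 1) (z : Γ) (j : ℕ) :
    (icPsi a)^[j + 1] z = (z * a * z⁻¹ * a) ^ 2 ^ j * a := by
  have ht : (z * a * z⁻¹) * (z * a * z⁻¹) = 1 := by
    calc (z * a * z⁻¹) * (z * a * z⁻¹) = z * (a * a) * z⁻¹ := by group
      _ = 1 := by rw [ha]; group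
  have hinv := inverted_of_invol ha ht
  induction j with
  | zero =>
    simp only [zero_add, Function.iterate_one, pow_zero, pow_one, icPsi]
    calc z * a * z⁻¹ = z * a * z⁻¹ * (a * a) := by rw [ha, mul_one]
      _ = z * a * z⁻¹ * a * a := by group
  | succ j ih =>
    rw [Function.iterate_succ_apply', ih]
    set r := z * a * z⁻¹ * a with hr
    have h1 : a * (r ^ 2 ^ j)⁻¹ * a⁻¹ = r ^ 2 ^ j :=
      conj_inv_inverted (conj_pow_inverted hinv _)
    have h2 : r ^ 2 ^ (j + 1) = r ^ 2 ^ j * r ^ 2 ^ j := by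
      rw [← pow_add]; congr 1; rw [pow_succ]; ring
    simp only [icPsi]
    rw [h2]
    calc r ^ 2 ^ j * a * a * (r ^ 2 ^ j * a)⁻¹
        = r ^ 2 ^ j * (a * (r ^ 2 ^ j)⁻¹ * a⁻¹) * a := by group
      _ = r ^ 2 ^ j * r ^ 2 ^ j * a := by rw [h1]

/-- `Γ = ⟨a^Γ⟩` is generated by `a` and the odd-order elements inverted by `a`. -/
theorem closure_invOdd_eq_top [Finite Γ] {a : Γ} (ha : a * a = 1)
    (hgen : Subgroup.normalClosure ({a} : Set Γ) = ⊤) :
    Subgroup.closure (invOdd a ∪ {a}) = ⊤ := by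
  have hmain := Cfsg.Agent.Lib.Helper25.ic_main a hgen (Nat.card Γ + 1)
  rw [eq_top_iff, ← hmain, Subgroup.closure_le]
  rintro _ ⟨z, rfl⟩
  rw [icPsi_iter_formula ha]
  have hcard : Nat.card Γ ≤ 2 ^ Nat.card Γ := (Nat.lt_two_pow_self).le
  have h1 := pow_two_pow_mem_invOdd ha z hcard
  exact Subgroup.mul_mem _ (Subgroup.subset_closure (Or.inl h1))
    (Subgroup.subset_closure (Or.inr rfl))

end Cfsg.Agent.Lib.Helper22.InvA
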