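import Mathlib
import Cfsg.Agent.Lib.Helper22.InvA

/-!
Quotients and the set of inverted odd-order elements; weakly reducing normal subgroups.
-/

set_option autoImplicit false

namespace Cfsg.Agent.Lib.Helper22.InvB

open Cfsg.Agent.Lib.Helper22.InvA

variable {Γ : Type*} [Group Γ]

theorem map_mem_invOdd {Q : Type*} [Group Q] (π : Γ →* Q) {a y : Γ} (hy : y ∈ invOdd a) :
    π y ∈ invOdd (π a) := by
  refine ⟨?_, Odd.of_dvd_nat hy.2 (orderOf_map_dvd π y)⟩
  rw [← map_inv, ← map_mul, ← map_mul, hy.1, map_inv]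

/-- lifting inverted odd-order elements through a surjection. -/
theorem exists_lift_invOdd [Finite Γ] {Q : Type*} [Group Q] (π : Γ →* Q)
    (hπ : Function.Surjective π) {a : Γ} (ha : a * a = 1) {z : Q} (hz : z ∈ invOdd (π a)) :
    ∃ y ∈ invOdd a, π y = z := by
  obtain ⟨w, hw⟩ := exists_conj_of_mem_invOdd hz
  obtain ⟨v, rfl⟩ := hπ w
  have ht : (v * a * v⁻¹) * (v * a * v⁻¹) = 1 := by
    calc (v * a * v⁻¹) * (v * a * v⁻¹) = v * (a * a) * v⁻¹ := by group
      _ = 1 := by rw [ha]; group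
  have hinv := inverted_of_invol ha ht
  have hπa : π a * π a = 1 := by rw [← map_mul, ha, map_one]
  have hy0 : π (v * a * v⁻¹ * a) = z := by
    rw [map_mul, map_mul, map_mul, map_inv, hw, mul_assoc, hπa, mul_one]
  obtain ⟨k, hk1, hk2⟩ := exists_pow_odd_of_map_odd π (orderOf_pos (v * a * v⁻¹ * a))
    (by rw [hy0]; exact hz.2)
  exact ⟨(v * a * v⁻¹ * a) ^ k, ⟨conj_pow_inverted hinv k, hk1⟩, by rw [hk2, hy0]⟩

theorem invOdd_map_subset [Finite Γ] {Q : Type*} [Group Q] (π : Γ →* Q)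
    (hπ : Function.Surjective π) {a : Γ} (ha : a * a = 1) :
    invOdd (π a) ⊆ π '' invOdd a := by
  intro z hz
  obtain ⟨y, hy, rfl⟩ := exists_lift_invOdd π hπ ha hz
  exact ⟨y, hy, rfl⟩

theorem ncard_invOdd_map_le [Finite Γ] {Q : Type*} [Group Q] (π : Γ →* Q)
    (hπ : Function.Surjective π) {a : Γ} (ha : a * a = 1) :
    (invOdd (π a)).ncard ≤ (invOdd a).ncard :=
  (Set.ncard_le_ncard (invOdd_map_subset π hπ ha) (Set.toFinite _)).trans
    (Set.ncard_image_le (Set.toFinite _))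

theorem ncard_invOdd_map_lt [Finite Γ] {Q : Type*} [Group Q] (π : Γ →* Q)
    (hπ : Function.Surjective π) {a : Γ} (ha : a * a = 1)
    {y y' : Γ} (hy : y ∈ invOdd a) (hy' : y' ∈ invOdd a) (hne : y ≠ y') (heq : π y = π y') :
    (invOdd (π a)).ncard < (invOdd a).ncard := by
  refine lt_of_le_of_lt (Set.ncard_le_ncard (invOdd_map_subset π hπ ha) (Set.toFinite _)) ?_
  refine lt_of_le_of_ne (Set.ncard_image_le (Set.toFinite _)) ?_
  intro h
  rw [Set.ncard_image_iff (Set.toFinite _)] at h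
  exact hne (h hy hy' heq)

/-- `N` is weakly reducing: two distinct inverted odd-order elements are congruent modulo `N`. -/
def WRed (a : Γ) (N : Subgroup Γ) : Prop :=
  ∃ y ∈ invOdd a, ∃ y' ∈ invOdd a, y ≠ y' ∧ y⁻¹ * y' ∈ N

theorem WRed.mono {a : Γ} {N L : Subgroup Γ} (h : WRed a N) (hle : N ≤ L) : WRed a L := by
  obtain ⟨y, hy, y', hy', hne, hm⟩ := h
  exact ⟨y, hy, y', hy', hne, hle hm⟩

theorem not_wred_bot (a : Γ) : ¬ WRed a (⊥ : Subgroup Γ) := by
  rintro ⟨y, -, y', -, hne, hm⟩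
  rw [Subgroup.mem_bot, inv_mul_eq_one] at hm
  exact hne hm

theorem ncard_quotient_le [Finite Γ] (N : Subgroup Γ) [N.Normal] {a : Γ} (ha : a * a = 1) :
    (invOdd (QuotientGroup.mk' N a)).ncard ≤ (invOdd a).ncard :=
  ncard_invOdd_map_le _ (QuotientGroup.mk'_surjective N) ha

theorem WRed.ncard_quotient_lt [Finite Γ] {N : Subgroup Γ} [N.Normal] {a : Γ} (ha : a * a = 1)
    (h : WRed a N) :
    (invOdd (QuotientGroup.mk' N a)).ncard < (invOdd a).ncard := by
  obtain ⟨y, hy, y', hy', hne, hm⟩ := h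
  refine ncard_invOdd_map_lt _ (QuotientGroup.mk'_surjective N) ha hy hy' hne ?_
  exact QuotientGroup.eq.mpr hm

/-- a maximal normal subgroup that is not weakly reducing. -/
theorem exists_maximal_not_wred [Finite Γ] (a : Γ) :
    ∃ N : Subgroup Γ, N.Normal ∧ ¬ WRed a N ∧
      ∀ L : Subgroup Γ, L.Normal → ¬ WRed a L → N ≤ L → L = N := by
  have hfin : {N : Subgroup Γ | N.Normal ∧ ¬ WRed a N}.Finite := Set.toFinite _
  have hne : {N : Subgroup Γ | N.Normal ∧ ¬ WRed a N}.Nonempty :=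
    ⟨⊥, inferInstance, not_wred_bot a⟩
  obtain ⟨N, hN⟩ := hfin.exists_maximal hne
  refine ⟨N, hN.1.1, hN.1.2, fun L hL hL' hle => ?_⟩
  exact le_antisymm (hN.2 ⟨hL, hL'⟩ hle) hle

/-- in the quotient by a maximal non-weakly-reducing normal subgroup,
every nontrivial normal subgroup is weakly reducing. -/
theorem wred_of_quotient_maximal [Finite Γ] {a : Γ} {N : Subgroup Γ} [N.Normal]
    (hN : ¬ WRed a N)
    (hmax : ∀ L : Subgroup Γ, L.Normal → ¬ WRed a L → N ≤ L → L = N)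
    (L' : Subgroup (Γ ⧸ N)) [L'.Normal] (hL' : L' ≠ ⊥) :
    WRed (QuotientGroup.mk' N a) L' := by
  by_contra hcon
  set L := L'.comap (QuotientGroup.mk' N) with hL
  have hLn : L.Normal := inferInstance
  have hNL : N ≤ L := by
    intro x hx
    rw [hL, Subgroup.mem_comap]
    have : QuotientGroup.mk' N x = 1 := (QuotientGroup.eq_one_iff x).mpr hx
    rw [this]; exact L'.one_mem
  have hLw : ¬ WRed a L := by
    rintro ⟨y, hy, y', hy', hne, hm⟩
    have h1 : (QuotientGroup.mk' N y)⁻¹ * QuotientGroup.mk' N y' ∈ L' := by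
      rw [← map_inv, ← map_mul]; exact hm
    have h2 : QuotientGroup.mk' N y = QuotientGroup.mk' N y' := by
      by_contra hne'
      exact hcon ⟨_, map_mem_invOdd _ hy, _, map_mem_invOdd _ hy', hne', h1⟩
    have h3 : y⁻¹ * y' ∈ N := QuotientGroup.eq.mp h2
    exact hN ⟨y, hy, y', hy', hne, h3⟩
  have hLN := hmax L hLn hLw hNL
  apply hL'
  rw [eq_bot_iff]
  intro z hz
  obtain ⟨x, rfl⟩ := QuotientGroup.mk'_surjective N z
  have hx : x ∈ L := hz
  rw [hLN] at hx
  rw [Subgroup.mem_bot]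
  exact (QuotientGroup.eq_one_iff x).mpr hx

end Cfsg.Agent.Lib.Helper22.InvB
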