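import Mathlib
import Cfsg.Agent.Lib.Helper22.InvA

/-!
The elementary abelian layer: an elementary abelian normal 2-subgroup `U`, `x` of odd order inverted
by the involution `a`: many elements of `U x` are again inverted of odd order.
-/

set_option autoImplicit false

namespace Cfsg.Agent.Lib.Helper22.InvC

open Cfsg.Agent.Lib.Helper22.InvA

variable {Γ : Type*} [Group Γ]

/-- an involution normalizing an elementary abelian 2-group `A` fixes at least `√|A|` elements. -/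
theorem card_le_sq_fix [Finite Γ] (A : Subgroup Γ) (hab : ∀ u ∈ A, ∀ v ∈ A, u * v = v * u)
    (h2 : ∀ u ∈ A, u * u = 1) {b : Γ} (hb : b * b = 1) (hnorm : ∀ v ∈ A, b * v * b⁻¹ ∈ A) :
    Nat.card A ≤ Nat.card (A ⊓ Subgroup.centralizer {b} : Subgroup Γ) ^ 2 := by
  classical
  let ψ : A →* A := MonoidHom.mk'
    (fun v => ⟨v * (b * v * b⁻¹), A.mul_mem v.2 (hnorm v v.2)⟩) (by
    intro v w
    ext
    simp only [Subgroup.coe_mul]
    have h1 : b * ((v : Γ) * w) * b⁻¹ = (b * v * b⁻¹) * (b * w * b⁻¹) := by group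
    rw [h1]
    have hc := hab w w.2 (b * v * b⁻¹) (hnorm v v.2)
    calc (v : Γ) * w * ((b * v * b⁻¹) * (b * w * b⁻¹))
        = v * (w * (b * v * b⁻¹)) * (b * w * b⁻¹) := by group
      _ = v * ((b * v * b⁻¹) * w) * (b * w * b⁻¹) := by rw [hc]
      _ = v * (b * v * b⁻¹) * (w * (b * w * b⁻¹)) := by group)
  have hψ : ∀ v : A, ((ψ v : A) : Γ) = v * (b * v * b⁻¹) := fun v => rfl
  have hbinv : b⁻¹ = b := inv_eq_self_of_sq hb
  let S : Subgroup A := (A ⊓ Subgroup.centralizer {b}).subgroupOf A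
  have hker : ψ.ker ≤ S := by
    intro v hv
    rw [MonoidHom.mem_ker] at hv
    have h1 : (v : Γ) * (b * v * b⁻¹) = 1 := by
      have := congrArg (fun z : A => (z : Γ)) hv
      simpa [hψ] using this
    show (v : Γ) ∈ A ⊓ Subgroup.centralizer {b}
    refine Subgroup.mem_inf.mpr ⟨v.2, ?_⟩
    rw [Subgroup.mem_centralizer_singleton_iff]
    -- b v b⁻¹ = v⁻¹ = v
    have h3 : b * v * b⁻¹ = (v : Γ)⁻¹ := eq_inv_of_mul_eq_one_right h1
    have h4 : (v : Γ)⁻¹ = v := inv_eq_self_of_sq (h2 v v.2)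
    rw [h4] at h3
    calc (v : Γ) * b = (b * v * b⁻¹) * b := by rw [h3]
      _ = b * v := by group
  have hrange : ψ.range ≤ S := by
    rintro _ ⟨v, rfl⟩
    show ((ψ v : A) : Γ) ∈ A ⊓ Subgroup.centralizer {b}
    refine Subgroup.mem_inf.mpr ⟨(ψ v).2, ?_⟩
    rw [Subgroup.mem_centralizer_singleton_iff, hψ]
    have hc := hab v v.2 (b * v * b⁻¹) (hnorm v v.2)
    calc (v : Γ) * (b * v * b⁻¹) * b = (b * v * b⁻¹) * v * b := by rw [hc]
      _ = b * v * (b⁻¹ * v * b) := by group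
      _ = b * v * (b * v * b⁻¹) := by rw [hbinv]
      _ = b * (v * (b * v * b⁻¹)) := by group
  have hcard : Nat.card A = Nat.card ψ.ker * Nat.card ψ.range := by
    rw [← Subgroup.index_ker]
    exact (Subgroup.card_mul_index _).symm
  have hS : Nat.card S = Nat.card (A ⊓ Subgroup.centralizer {b} : Subgroup Γ) :=
    Nat.card_congr (Subgroup.subgroupOfEquivOfLe inf_le_left).toEquiv
  calc Nat.card A = Nat.card ψ.ker * Nat.card ψ.range := hcard
    _ ≤ Nat.card S * Nat.card S :=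
      Nat.mul_le_mul (Subgroup.card_le_of_le hker) (Subgroup.card_le_of_le hrange)
    _ = _ := by rw [hS, sq]

/-- **Elementary layer.** -/
theorem exists_fix_subgroup [Finite Γ] (U : Subgroup Γ) [U.Normal]
    (hab : ∀ u ∈ U, ∀ v ∈ U, u * v = v * u) (h2 : ∀ u ∈ U, u * u = 1)
    {a x : Γ} (ha : a * a = 1) (hx : x ∈ invOdd a) :
    ∃ S : Subgroup Γ, S ≤ U ∧ (Subgroup.centralizer {x}).relIndex U ≤ Nat.card S ^ 2 ∧
      ∀ v ∈ S, v * x ∈ invOdd a := by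
  classical
  have hainv : a⁻¹ = a := inv_eq_self_of_sq ha
  have hnU : ∀ (g : Γ) (u : Γ), u ∈ U → g * u * g⁻¹ ∈ U := fun g u hu =>
    Subgroup.Normal.conj_mem inferInstance u hu g
  -- κ u = u x u⁻¹ x⁻¹
  have hκmem : ∀ u ∈ U, u * x * u⁻¹ * x⁻¹ ∈ U := fun u hu => by
    have : u * x * u⁻¹ * x⁻¹ = u * (x * u⁻¹ * x⁻¹) := by group
    rw [this]
    exact U.mul_mem hu (hnU x _ (U.inv_mem hu))
  let κ : U →* Γ := MonoidHom.mk' (fun u => (u : Γ) * x * (u : Γ)⁻¹ * x⁻¹) (by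
    intro u v
    simp only [Subgroup.coe_mul]
    have hc := hab (x * (u : Γ)⁻¹ * x⁻¹) (hnU x _ (U.inv_mem u.2))
      ((v : Γ) * x * (v : Γ)⁻¹ * x⁻¹) (hκmem v v.2)
    calc (u : Γ) * v * x * ((u : Γ) * v)⁻¹ * x⁻¹
        = u * ((v * x * (v : Γ)⁻¹ * x⁻¹) * (x * (u : Γ)⁻¹ * x⁻¹)) := by group
      _ = u * ((x * (u : Γ)⁻¹ * x⁻¹) * (v * x * (v : Γ)⁻¹ * x⁻¹)) := by rw [hc]
      _ = (u * x * (u : Γ)⁻¹ * x⁻¹) * (v * x * (v : Γ)⁻¹ * x⁻¹) := by group)
  have hκ : ∀ u : U, κ u = (u : Γ) * x * (u : Γ)⁻¹ * x⁻¹ := fun u => rfl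
  set R : Subgroup Γ := κ.range with hR
  have hRU : R ≤ U := by
    rintro _ ⟨u, rfl⟩
    rw [hκ]; exact hκmem u u.2
  -- |R| = relIndex
  have hker : κ.ker = (Subgroup.centralizer {x}).subgroupOf U := by
    ext u
    rw [MonoidHom.mem_ker, Subgroup.mem_subgroupOf, Subgroup.mem_centralizer_singleton_iff, hκ]
    constructor
    · intro h
      have : (u : Γ) * x = x * u := by
        calc (u : Γ) * x = (u * x * (u : Γ)⁻¹ * x⁻¹) * x * u := by group
          _ = x * u := by rw [h, one_mul]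
      exact this
    · intro h
      calc (u : Γ) * x * (u : Γ)⁻¹ * x⁻¹ = (x * u) * (u : Γ)⁻¹ * x⁻¹ := by rw [h]
        _ = 1 := by group
  have hcardR : (Subgroup.centralizer {x}).relIndex U = Nat.card R := by
    rw [Subgroup.relIndex, ← hker, Subgroup.index_ker]
  -- b = x a
  set b := x * a with hb
  have haxa : a * x * a = x⁻¹ := by
    have := hx.1; rwa [hainv] at this
  have hbb : b * b = 1 := by
    calc b * b = x * (a * x * a) := by rw [hb]; group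
      _ = 1 := by rw [haxa, mul_inv_cancel]
  have hbinv : b⁻¹ = b := inv_eq_self_of_sq hbb
  have hRnorm : ∀ v ∈ R, b * v * b⁻¹ ∈ R := by
    rintro _ ⟨u, rfl⟩
    have hu' : a * u * a⁻¹ ∈ U := hnU a u u.2
    have e1 : x⁻¹ * a⁻¹ = a⁻¹ * x := by
      have := conj_inv_inverted hx.1
      calc x⁻¹ * a⁻¹ = a⁻¹ * (a * x⁻¹ * a⁻¹) := by group
        _ = a⁻¹ * x := by rw [this]
    have e2 : a⁻¹ * x⁻¹ * a = x := by
      calc a⁻¹ * x⁻¹ * a = a⁻¹ * (a * x * a⁻¹) * a := by rw [hx.1]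
        _ = x := by group
    have e3 : x * ((u : Γ)⁻¹ * a⁻¹) = (a⁻¹ * x⁻¹ * a) * ((u : Γ)⁻¹ * a⁻¹) := by rw [e2]
    have : b * κ u * b⁻¹ = (κ ⟨a * u * a⁻¹, hu'⟩)⁻¹ := by
      calc b * κ u * b⁻¹
          = x * a * u * (x * (u : Γ)⁻¹ * (x⁻¹ * a⁻¹) * x⁻¹) := by rw [hκ, hb]; group
        _ = x * a * u * (x * (u : Γ)⁻¹ * (a⁻¹ * x) * x⁻¹) := by rw [e1]
        _ = x * a * u * (x * ((u : Γ)⁻¹ * a⁻¹)) := by group
        _ = x * a * u * ((a⁻¹ * x⁻¹ * a) * ((u : Γ)⁻¹ * a⁻¹)) := by rw [e3]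
        _ = (κ ⟨a * u * a⁻¹, hu'⟩)⁻¹ := by rw [hκ]; group
    rw [this]
    exact R.inv_mem ⟨_, rfl⟩
  refine ⟨R ⊓ Subgroup.centralizer {b}, inf_le_left.trans hRU, ?_, ?_⟩
  · rw [hcardR]
    exact card_le_sq_fix R (fun u hu v hv => hab u (hRU hu) v (hRU hv))
      (fun u hu => h2 u (hRU hu)) hbb hRnorm
  · intro v hv
    obtain ⟨hvR, hvb⟩ := Subgroup.mem_inf.mp hv
    obtain ⟨u, rfl⟩ := hvR
    rw [Subgroup.mem_centralizer_singleton_iff] at hvb
    have hvU : κ u ∈ U := hRU ⟨u, rfl⟩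
    have hconj : κ u * x = (u : Γ) * x * (u : Γ)⁻¹ := by rw [hκ]; group
    refine ⟨?_, ?_⟩
    · -- inverted
      have hvinv : (κ u)⁻¹ = κ u := inv_eq_self_of_sq (h2 _ hvU)
      -- b v = v b  i.e.  x a v = v x a
      have hvb' : κ u * (x * a) = x * a * κ u := by rw [← hb]; exact hvb
      have h1 : a * κ u * a⁻¹ = x⁻¹ * κ u * x := by
        rw [hainv]
        calc a * κ u * a = x⁻¹ * (x * a * κ u) * a := by group
          _ = x⁻¹ * (κ u * (x * a)) * a := by rw [hvb']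
          _ = x⁻¹ * κ u * x * (a * a) := by group
          _ = x⁻¹ * κ u * x := by rw [ha, mul_one]
      calc a * (κ u * x) * a⁻¹ = (a * κ u * a⁻¹) * (a * x * a⁻¹) := by group
        _ = (x⁻¹ * κ u * x) * x⁻¹ := by rw [h1, hx.1]
        _ = x⁻¹ * (κ u)⁻¹ := by rw [hvinv]; group
        _ = (κ u * x)⁻¹ := by group
    · rw [hconj]
      rw [orderOf_conj_eq]; exact hx.2

end Cfsg.Agent.Lib.Helper22.InvC
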