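import Mathlib
import Cfsg.Agent.Lib.Helper22.InvB
import Cfsg.Agent.Lib.Helper22.InvC
import Cfsg.Agent.Lib.Helper24.BaerSuzuki
import Cfsg.Agent.Lib.Helper18.PCore

/-!
Baer–Suzuki step: a normal subgroup that is not weakly reducing is centralized by all
inverted odd-order elements.
-/

set_option autoImplicit false

namespace Cfsg.Agent.Lib.Helper22.InvD

open Cfsg.Agent.Lib.Helper22.InvA Cfsg.Agent.Lib.Helper22.InvB Cfsg.Agent.Lib.Helper22.InvC
open scoped Pointwise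

variable {Γ : Type*} [Group Γ]

theorem isPGroup_zpowers_of_pow {r : Γ} {e : ℕ} (h : r ^ 2 ^ e = 1) :
    IsPGroup 2 (Subgroup.zpowers r) := by
  rintro ⟨g, hg⟩
  obtain ⟨j, rfl⟩ := Subgroup.mem_zpowers_iff.mp hg
  refine ⟨e, ?_⟩
  ext
  simp only [Subgroup.coe_pow, Subgroup.coe_one]
  rw [← zpow_natCast, ← zpow_mul, mul_comm, zpow_mul, zpow_natCast, h, one_zpow]

theorem conj_zpow_inverted {a y : Γ} (h : a * y * a⁻¹ = y⁻¹) (j : ℤ) :
    a * y ^ j * a⁻¹ = (y ^ j)⁻¹ := by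
  have : a * y ^ j * a⁻¹ = (a * y * a⁻¹) ^ j := by
    rw [conj_zpow]
  rw [this, h, inv_zpow]

/-- two involutions with product of 2-power order generate a 2-group. -/
theorem isPGroup_sup_zpowers {a r : Γ} (ha : a * a = 1) (hinv : a * r * a⁻¹ = r⁻¹) {e : ℕ}
    (hr : r ^ 2 ^ e = 1) : IsPGroup 2 (Subgroup.zpowers a ⊔ Subgroup.zpowers r : Subgroup Γ) := by
  have h1 : IsPGroup 2 (Subgroup.zpowers a) := by
    apply isPGroup_zpowers_of_pow (e := 1)
    rw [pow_one, sq, ha]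
  have h2 : IsPGroup 2 (Subgroup.zpowers r) := isPGroup_zpowers_of_pow hr
  apply h1.to_sup_of_normal_right' h2
  rw [Subgroup.zpowers_le]
  rw [Subgroup.mem_normalizer_iff]
  intro n
  have hainv : a⁻¹ = a := inv_eq_self_of_sq ha
  constructor
  · intro hn
    obtain ⟨j, rfl⟩ := Subgroup.mem_zpowers_iff.mp hn
    rw [conj_zpow_inverted hinv]
    exact Subgroup.inv_mem _ (Subgroup.zpow_mem_zpowers r j)
  · intro hn
    obtain ⟨j, hj⟩ := Subgroup.mem_zpowers_iff.mp hn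
    have : n = a * r ^ j * a⁻¹ := by
      rw [hj, hainv]
      calc n = (a * a) * n * (a * a) := by rw [ha, one_mul, mul_one]
        _ = a * (a * n * a) * a := by group
    rw [this, conj_zpow_inverted hinv]
    exact Subgroup.inv_mem _ (Subgroup.zpow_mem_zpowers r j)

/-- the commutator-like element `u a u⁻¹ a` of a non-weakly-reducing normal subgroup is a 2-element. -/
theorem two_elt_of_not_wred [Finite Γ] {a : Γ} (ha : a * a = 1) (N : Subgroup Γ) [N.Normal]
    (hN : ¬ WRed a N) {u : Γ} (hu : u ∈ N) :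
    (u * a * u⁻¹ * a) ^ 2 ^ Nat.card Γ = 1 := by
  have hcard : Nat.card Γ ≤ 2 ^ Nat.card Γ := (Nat.lt_two_pow_self).le
  have h1 := pow_two_pow_mem_invOdd ha u hcard
  have hainv : a⁻¹ = a := inv_eq_self_of_sq ha
  have hmem : u * a * u⁻¹ * a ∈ N := by
    have : u * a * u⁻¹ * a = u * (a * u⁻¹ * a⁻¹) := by rw [hainv]; group
    rw [this]
    exact N.mul_mem hu (Subgroup.Normal.conj_mem inferInstance _ (N.inv_mem hu) a)
  by_contra hne
  apply hN
  refine ⟨1, one_mem_invOdd a, _, h1, fun h => hne h.symm, ?_⟩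
  rw [inv_one, one_mul]
  exact N.pow_mem hmem _

/-- **Baer–Suzuki step.** -/
theorem exists_normal_two_subgroup [Finite Γ] {a : Γ} (ha : a * a = 1) (N : Subgroup Γ) [N.Normal]
    (hN : ¬ WRed a N) :
    ∃ P : Subgroup Γ, P.Normal ∧ IsPGroup 2 P ∧ P ≤ N ∧ ∀ u ∈ N, u * a * u⁻¹ * a⁻¹ ∈ P := by
  classical
  have : Fact (Nat.Prime 2) := ⟨Nat.prime_two⟩
  have hainv : a⁻¹ = a := inv_eq_self_of_sq ha
  set H : Subgroup Γ := N ⊔ Subgroup.zpowers a with hH
  have hNH : N ≤ H := le_sup_left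
  have haH : a ∈ H := le_sup_right (α := Subgroup Γ) (Subgroup.mem_zpowers a)
  -- every element of H conjugates a to some u a u⁻¹ with u ∈ N
  have hdecomp : ∀ h ∈ H, ∃ u ∈ N, h * a * h⁻¹ = u * a * u⁻¹ := by
    intro h hh
    have : h ∈ (N : Set Γ) * (Subgroup.zpowers a : Set Γ) := by
      rw [← Subgroup.normal_mul]; exact hh
    obtain ⟨u, hu, z, hz, rfl⟩ := Set.mem_mul.mp this
    refine ⟨u, hu, ?_⟩
    obtain ⟨j, rfl⟩ := Subgroup.mem_zpowers_iff.mp hz
    have hc : a ^ j * a * (a ^ j)⁻¹ = a := by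
      have : Commute (a ^ j) a := (Commute.refl a).zpow_left j
      rw [this.eq]; group
    calc u * a ^ j * a * (u * a ^ j)⁻¹ = u * (a ^ j * a * (a ^ j)⁻¹) * u⁻¹ := by group
      _ = u * a * u⁻¹ := by rw [hc]
  let A₀ : Subgroup H := (Subgroup.zpowers a).subgroupOf H
  have hA₀ : IsPGroup 2 A₀ := by
    have h1 : IsPGroup 2 (Subgroup.zpowers a) := by
      apply isPGroup_zpowers_of_pow (e := 1)
      rw [pow_one, sq, ha]
    exact h1.comap_subtype
  have hpair : ∀ h : H, IsPGroup 2 ↥(A₀ ⊔ A₀.map (MulAut.conj h).toMonoidHom) := by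
    intro h
    obtain ⟨u, hu, hs⟩ := hdecomp h h.2
    set r := u * a * u⁻¹ * a with hr
    have ht : (u * a * u⁻¹) * (u * a * u⁻¹) = 1 := by
      calc (u * a * u⁻¹) * (u * a * u⁻¹) = u * (a * a) * u⁻¹ := by group
        _ = 1 := by rw [ha]; group
    have hinv : a * r * a⁻¹ = r⁻¹ := inverted_of_invol ha ht
    have hr2 : r ^ 2 ^ Nat.card Γ = 1 := two_elt_of_not_wred ha N hN hu
    have hT := isPGroup_sup_zpowers ha hinv hr2
    set T : Subgroup Γ := Subgroup.zpowers a ⊔ Subgroup.zpowers r with hTdef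
    have haT : a ∈ T := le_sup_left (α := Subgroup Γ) (Subgroup.mem_zpowers a)
    have hsT : (h : Γ) * a * (h : Γ)⁻¹ ∈ T := by
      rw [hs]
      have : u * a * u⁻¹ = r * a⁻¹ := by rw [hr]; group
      rw [this]
      exact T.mul_mem (le_sup_right (α := Subgroup Γ) (Subgroup.mem_zpowers r)) (T.inv_mem haT)
    have hle : A₀ ⊔ A₀.map (MulAut.conj h).toMonoidHom ≤ T.comap H.subtype := by
      apply sup_le
      · intro z hz
        have hz' : (z : Γ) ∈ Subgroup.zpowers a := hz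
        exact (le_sup_left : Subgroup.zpowers a ≤ T) hz'
      · rw [Subgroup.map_le_iff_le_comap]
        intro z hz
        have hz' : (z : Γ) ∈ Subgroup.zpowers a := hz
        obtain ⟨j, hj⟩ := Subgroup.mem_zpowers_iff.mp hz'
        show ((h * z * h⁻¹ : H) : Γ) ∈ T
        have : ((h * z * h⁻¹ : H) : Γ) = ((h : Γ) * a * (h : Γ)⁻¹) ^ j := by
          rw [conj_zpow, hj]; rfl
        rw [this]
        exact T.zpow_mem hsT j
    exact (hT.comap_subtype).to_le hle
  obtain ⟨N', hN'n, hN'p, hAN'⟩ := Cfsg.Agent.Lib.Helper24.baer_suzuki A₀ hA₀ hpair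
  -- the 2-core of N
  have hchar : (Cfsg.pCore 2 ↥N).Characteristic := Cfsg.Agent.Lib.Helper18.pCore_characteristic 2 ↥N
  have hPn : ((Cfsg.pCore 2 ↥N).map N.subtype).Normal := ConjAct.normal_of_characteristic_of_normal
  refine ⟨(Cfsg.pCore 2 ↥N).map N.subtype, hPn,
    (Cfsg.Agent.Lib.Helper18.pCore_isPGroup 2 ↥N).map _, ?_, ?_⟩
  · rintro _ ⟨z, -, rfl⟩; exact z.2
  · intro u hu
    set Q : Subgroup Γ := (N'.map H.subtype) ⊓ N with hQ
    have hQp : IsPGroup 2 Q := (hN'p.map H.subtype).to_inf_left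
    have hcQ : u * a * u⁻¹ * a⁻¹ ∈ Q := by
      refine Subgroup.mem_inf.mpr ⟨?_, ?_⟩
      · have ha' : (⟨a, haH⟩ : H) ∈ N' := hAN' (show ((⟨a, haH⟩ : H) : Γ) ∈ Subgroup.zpowers a from
          Subgroup.mem_zpowers a)
        have h1 : (⟨u, hNH hu⟩ : H) * ⟨a, haH⟩ * (⟨u, hNH hu⟩ : H)⁻¹ ∈ N' :=
          hN'n.conj_mem _ ha' _
        have h2 := N'.mul_mem h1 (N'.inv_mem ha')
        exact ⟨_, h2, rfl⟩
      · have : u * a * u⁻¹ * a⁻¹ = u * (a * u⁻¹ * a⁻¹) := by group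
        rw [this]
        exact N.mul_mem hu (Subgroup.Normal.conj_mem inferInstance _ (N.inv_mem hu) a)
    have hQn : (Q.subgroupOf N).Normal := by
      constructor
      intro q hq n
      have hq' : (q : Γ) ∈ Q := hq
      obtain ⟨hq1, hq2⟩ := Subgroup.mem_inf.mp hq'
      show ((n * q * n⁻¹ : N) : Γ) ∈ Q
      refine Subgroup.mem_inf.mpr ⟨?_, (n * q * n⁻¹).2⟩
      obtain ⟨q', hq'N, hq'eq⟩ := hq1
      have h1 : (⟨n, hNH n.2⟩ : H) * q' * (⟨n, hNH n.2⟩ : H)⁻¹ ∈ N' := hN'n.conj_mem _ hq'N _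
      refine ⟨_, h1, ?_⟩
      simp only [Subgroup.coe_subtype, Subgroup.coe_mul, Subgroup.coe_inv]
      have : (q' : Γ) = q := hq'eq
      rw [this]
    have hle := Cfsg.Agent.Lib.Helper18.le_pCore hQn (hQp.comap_subtype (K := N))
    have hmemN : u * a * u⁻¹ * a⁻¹ ∈ N := (Subgroup.mem_inf.mp hcQ).2
    exact ⟨⟨_, hmemN⟩, hle (show ((⟨_, hmemN⟩ : N) : Γ) ∈ Q from hcQ), rfl⟩

/-- coprime action: if `x u x⁻¹ = p u` with `p` a 2-element commuting with the odd-order `x`,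
then `p = 1`. -/
theorem eq_one_of_conj_eq_mul {x u p : Γ} (h : x * u * x⁻¹ = p * u) (hc : Commute p x)
    (hodd : Odd (orderOf x)) {k : ℕ} (hp : p ^ 2 ^ k = 1) : p = 1 := by
  have key : ∀ j : ℕ, x ^ j * u * (x ^ j)⁻¹ = p ^ j * u := by
    intro j
    induction j with
    | zero => simp
    | succ j ih =>
      have h1 : x * p ^ j * x⁻¹ = p ^ j := by
        rw [← (hc.pow_left j).eq]; group
      calc x ^ (j + 1) * u * (x ^ (j + 1))⁻¹ = x * (x ^ j * u * (x ^ j)⁻¹) * x⁻¹ := by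
            rw [pow_succ']; group
        _ = x * (p ^ j * u) * x⁻¹ := by rw [ih]
        _ = (x * p ^ j * x⁻¹) * (x * u * x⁻¹) := by group
        _ = p ^ j * (p * u) := by rw [h1, h]
        _ = p ^ (j + 1) * u := by rw [pow_succ]; group
  have h1 := key (orderOf x)
  rw [pow_orderOf_eq_one, one_mul, inv_one, mul_one] at h1
  have h2 : p ^ orderOf x = 1 := by
    have : p ^ orderOf x * u = 1 * u := by rw [← h1, one_mul]
    exact mul_right_cancel this
  have h3 : orderOf p ∣ Nat.gcd (orderOf x) (2 ^ k) :=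
    Nat.dvd_gcd (orderOf_dvd_of_pow_eq_one h2) (orderOf_dvd_of_pow_eq_one hp)
  have h4 : Nat.gcd (orderOf x) (2 ^ k) = 1 :=
    Nat.Coprime.pow_right k (Nat.coprime_two_right.mpr hodd)
  rw [h4, Nat.dvd_one] at h3
  exact orderOf_eq_one_iff.mp h3

theorem closure_invOdd_normal [Finite Γ] {a : Γ} (ha : a * a = 1)
    (hgen : Subgroup.normalClosure ({a} : Set Γ) = ⊤) :
    (Subgroup.closure (invOdd a)).Normal := by
  set G := Subgroup.closure (invOdd a) with hG
  have hainv : a⁻¹ = a := inv_eq_self_of_sq ha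
  have h1 : ∀ h ∈ G, a * h * a⁻¹ ∈ G := by
    intro h hh
    have : G ≤ G.comap (MulAut.conj a).toMonoidHom := by
      rw [hG, Subgroup.closure_le]
      intro y hy
      show a * y * a⁻¹ ∈ G
      rw [hy.1]
      exact G.inv_mem (Subgroup.subset_closure hy)
    exact this hh
  rw [← Subgroup.normalizer_eq_top_iff, eq_top_iff, ← closure_invOdd_eq_top ha hgen,
    Subgroup.closure_le]
  rintro g (hg | hg)
  · exact Subgroup.le_normalizer (Subgroup.subset_closure hg)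
  · rw [Set.mem_singleton_iff] at hg
    subst hg
    show g ∈ Subgroup.normalizer G
    rw [Subgroup.mem_normalizer_iff]
    intro h
    refine ⟨h1 h, fun hh => ?_⟩
    have := h1 _ hh
    have h2 : g * (g * h * g⁻¹) * g⁻¹ = h := by
      rw [hainv]
      calc g * (g * h * g) * g = (g * g) * h * (g * g) := by group
        _ = h := by rw [ha, one_mul, mul_one]
    rwa [h2] at this

end Cfsg.Agent.Lib.Helper22.InvD
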