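import Mathlib
import Cfsg.Agent.Lib.Helper22.InvD

/-!
A normal subgroup that is not weakly reducing is centralized by all inverted odd-order elements.
-/

set_option autoImplicit false

namespace Cfsg.Agent.Lib.Helper22.InvE

open Cfsg.Agent.Lib.Helper22.InvA Cfsg.Agent.Lib.Helper22.InvB Cfsg.Agent.Lib.Helper22.InvC
  Cfsg.Agent.Lib.Helper22.InvD

variable {Γ : Type*} [Group Γ]

/-- `Ω₁(Z(P))` as a subgroup of the ambient group. -/
def omegaCenter (P : Subgroup Γ) : Subgroup Γ where
  carrier := {z | z ∈ P ∧ z * z = 1 ∧ ∀ q ∈ P, z * q = q * z}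
  one_mem' := ⟨P.one_mem, by simp, fun q _ => by simp⟩
  mul_mem' := by
    rintro z w ⟨hz, hz2, hzc⟩ ⟨hw, hw2, hwc⟩
    refine ⟨P.mul_mem hz hw, ?_, fun q hq => ?_⟩
    · calc z * w * (z * w) = z * (w * z) * w := by group
        _ = z * (z * w) * w := by rw [hzc w hw]
        _ = (z * z) * (w * w) := by group
        _ = 1 := by rw [hz2, hw2, one_mul]
    · calc z * w * q = z * (w * q) := by group
        _ = z * (q * w) := by rw [hwc q hq]
        _ = (z * q) * w := by group
        _ = (q * z) * w := by rw [hzc q hq]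
        _ = q * (z * w) := by group
  inv_mem' := by
    rintro z ⟨hz, hz2, hzc⟩
    have : z⁻¹ = z := inv_eq_self_of_sq hz2
    rw [this]
    exact ⟨hz, hz2, hzc⟩

theorem mem_omegaCenter {P : Subgroup Γ} {z : Γ} :
    z ∈ omegaCenter P ↔ z ∈ P ∧ z * z = 1 ∧ ∀ q ∈ P, z * q = q * z := Iff.rfl

theorem omegaCenter_le (P : Subgroup Γ) : omegaCenter P ≤ P := fun _ hz => hz.1

instance omegaCenter_normal (P : Subgroup Γ) [hP : P.Normal] : (omegaCenter P).Normal := by
  constructor
  rintro z ⟨hz, hz2, hzc⟩ g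
  refine ⟨hP.conj_mem z hz g, ?_, fun q hq => ?_⟩
  · calc g * z * g⁻¹ * (g * z * g⁻¹) = g * (z * z) * g⁻¹ := by group
      _ = 1 := by rw [hz2]; group
  · have hq' : g⁻¹ * q * g ∈ P := by
      have := hP.conj_mem q hq g⁻¹
      rwa [inv_inv] at this
    calc g * z * g⁻¹ * q = g * (z * (g⁻¹ * q * g)) * g⁻¹ := by group
      _ = g * ((g⁻¹ * q * g) * z) * g⁻¹ := by rw [hzc _ hq']
      _ = q * (g * z * g⁻¹) := by group

/-- a nontrivial finite 2-subgroup has a nontrivial `Ω₁(Z(P))`. -/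
theorem omegaCenter_ne_bot [Finite Γ] {P : Subgroup Γ} (hP : IsPGroup 2 P) (hne : P ≠ ⊥) :
    omegaCenter P ≠ ⊥ := by
  have : Fact (Nat.Prime 2) := ⟨Nat.prime_two⟩
  have hnt : Nontrivial P := (Subgroup.nontrivial_iff_ne_bot P).mpr hne
  have hc : Nontrivial (Subgroup.center P) := hP.center_nontrivial
  have hcp : IsPGroup 2 (Subgroup.center P) := hP.to_subgroup _
  have hdvd : 2 ∣ Nat.card (Subgroup.center P) := by
    rcases hcp.card_eq_or_dvd with h | h
    · exact absurd h (ne_of_gt Finite.one_lt_card)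
    · exact h
  obtain ⟨z, hz⟩ := exists_prime_orderOf_dvd_card' 2 hdvd
  intro hbot
  have hmem : ((z : P) : Γ) ∈ omegaCenter P := by
    refine ⟨(z : P).2, ?_, fun q hq => ?_⟩
    · have h1 : z ^ 2 = 1 := by rw [← hz]; exact pow_orderOf_eq_one z
      have h2 : (((z ^ 2 : Subgroup.center P) : P) : Γ) = 1 := by rw [h1]; rfl
      simpa [sq] using h2
    · have h1 := (Subgroup.mem_center_iff.mp z.2) ⟨q, hq⟩
      have h2 := congrArg (fun w : P => (w : Γ)) h1
      simpa using h2.symm
  rw [hbot, Subgroup.mem_bot] at hmem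
  have hz1 : z = 1 := by
    ext
    simpa using hmem
  rw [hz1, orderOf_one] at hz
  norm_num at hz

/-- Step 1: a normal 2-subgroup inside a non-weakly-reducing normal subgroup is centralized
by all inverted odd-order elements. -/
theorem commute_core_of_not_wred [Finite Γ] {a : Γ} (ha : a * a = 1)
    (hgen : Subgroup.normalClosure ({a} : Set Γ) = ⊤) (N : Subgroup Γ) (hN : ¬ WRed a N)
    (P : Subgroup Γ) [P.Normal] (hP : IsPGroup 2 P) (hPN : P ≤ N) :
    ∀ y ∈ invOdd a, ∀ p ∈ P, Commute y p := by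
  classical
  by_contra hcon
  push Not at hcon
  obtain ⟨y₀, hy₀, p₀, hp₀, hnc⟩ := hcon
  set G := Subgroup.closure (invOdd a) with hG
  have hGn : G.Normal := closure_invOdd_normal ha hgen
  set E : Subgroup Γ := P ⊓ Subgroup.centralizer (G : Set Γ) with hE
  have hEn : E.Normal := inferInstance
  have hEP : E ≤ P := inf_le_left
  have hEc : ∀ e ∈ E, ∀ y ∈ invOdd a, Commute e y := by
    intro e he y hy
    have h1 : e ∈ Subgroup.centralizer (G : Set Γ) := (Subgroup.mem_inf.mp he).2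
    exact (Subgroup.mem_centralizer_iff.mp h1 y (Subgroup.subset_closure hy)).symm
  have hmemE : ∀ u ∈ P, (∀ y ∈ invOdd a, Commute y u) → u ∈ E := by
    intro u hu hc
    refine Subgroup.mem_inf.mpr ⟨hu, ?_⟩
    have : G ≤ Subgroup.centralizer {u} := by
      rw [hG, Subgroup.closure_le]
      intro y hy
      show y ∈ Subgroup.centralizer {u}
      rw [Subgroup.mem_centralizer_singleton_iff]
      exact (hc y hy).eq
    rw [Subgroup.mem_centralizer_iff]
    intro h hh
    have := this hh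
    rw [Subgroup.mem_centralizer_singleton_iff] at this
    exact this
  let π := QuotientGroup.mk' E
  have hπs : Function.Surjective π := QuotientGroup.mk'_surjective E
  have hπa : π a * π a = 1 := by rw [← map_mul, ha, map_one]
  have hπ1 : ∀ g : Γ, π g = 1 ↔ g ∈ E := fun g => QuotientGroup.eq_one_iff g
  set Pb : Subgroup (Γ ⧸ E) := P.map π with hPb
  have hPbn : Pb.Normal := Subgroup.Normal.map inferInstance π hπs
  have hPbp : IsPGroup 2 Pb := hP.map π
  have hPbne : Pb ≠ ⊥ := by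
    intro h
    have h1 : π p₀ ∈ Pb := ⟨p₀, hp₀, rfl⟩
    rw [h, Subgroup.mem_bot, hπ1] at h1
    exact hnc (hEc p₀ h1 y₀ hy₀).symm
  have hZne := omegaCenter_ne_bot hPbp hPbne
  set Zb := omegaCenter Pb with hZb
  have hZn : Zb.Normal := inferInstance
  have hcomap : Pb.comap π = P := by
    rw [hPb, Subgroup.comap_map_eq, QuotientGroup.ker_mk']
    exact sup_eq_left.mpr hEP
  by_cases hall : ∀ y' ∈ invOdd a, ∀ z ∈ Zb, π y' * z = z * π y'
  · obtain ⟨z₁, hz₁ne⟩ := (Subgroup.ne_bot_iff_exists_ne_one).mp hZne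
    obtain ⟨u, hu, huz⟩ := (omegaCenter_le Pb) z₁.2
    have huE : u ∈ E := by
      apply hmemE u hu
      intro y' hy'
      set e := y' * u * y'⁻¹ * u⁻¹ with he
      have heE : e ∈ E := by
        rw [← hπ1, he, map_mul, map_mul, map_mul, map_inv, map_inv, huz, hall y' hy' z₁ z₁.2]
        group
      have h1 : y' * u * y'⁻¹ = e * u := by rw [he]; group
      obtain ⟨k, hk⟩ := hP ⟨e, hEP heE⟩
      have hk' : e ^ 2 ^ k = 1 := by
        have := congrArg (fun w : P => (w : Γ)) hk
        simpa using this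
      have he1 := eq_one_of_conj_eq_mul h1 (hEc e heE y' hy') hy'.2 hk'
      rw [he1, one_mul] at h1
      show y' * u = u * y'
      calc y' * u = (y' * u * y'⁻¹) * y' := by group
        _ = u * y' := by rw [h1]
    apply hz₁ne
    have : π u = 1 := (hπ1 u).mpr huE
    ext
    rw [Subgroup.coe_one, ← huz, this]
  · push Not at hall
    obtain ⟨y', hy', z, hz, hncz⟩ := hall
    have hab : ∀ u ∈ Zb, ∀ v ∈ Zb, u * v = v * u := fun u hu v hv => hu.2.2 v hv.1
    have h2 : ∀ u ∈ Zb, u * u = 1 := fun u hu => hu.2.1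
    obtain ⟨S, hSZ, hSrel, hSinv⟩ := exists_fix_subgroup Zb hab h2 hπa (map_mem_invOdd π hy')
    have hrel : (Subgroup.centralizer {π y'}).relIndex Zb ≠ 1 := by
      rw [Ne, Subgroup.relIndex_eq_one]
      intro hle
      have := hle hz
      rw [Subgroup.mem_centralizer_singleton_iff] at this
      exact hncz this.symm
    have hScard : Nat.card S ≠ 1 := by
      intro h1
      rw [h1, one_pow] at hSrel
      have hpos : 0 < (Subgroup.centralizer {π y'}).relIndex Zb :=
        Nat.pos_of_ne_zero (by unfold Subgroup.relIndex; exact Subgroup.index_ne_zero_of_finite)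
      omega
    have hSne : S ≠ ⊥ := by
      intro h
      apply hScard
      rw [h]; exact Subgroup.card_bot
    obtain ⟨v, hvne⟩ := (Subgroup.ne_bot_iff_exists_ne_one).mp hSne
    obtain ⟨y'', hy'', hπy''⟩ := exists_lift_invOdd π hπs ha (hSinv v v.2)
    apply hN
    refine ⟨y', hy', y'', hy'', ?_, ?_⟩
    · intro heq
      rw [← heq] at hπy''
      apply hvne
      ext
      rw [Subgroup.coe_one]
      have : (v : Γ ⧸ E) * π y' = 1 * π y' := by rw [← hπy'', one_mul]
      exact mul_right_cancel this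
    · apply hPN
      rw [← hcomap, Subgroup.mem_comap, map_mul, map_inv, hπy'']
      have h3 : (π y')⁻¹ * ((v : Γ ⧸ E) * π y') ∈ Zb := by
        have := hZn.conj_mem _ (hSZ v.2) (π y')⁻¹
        rw [inv_inv] at this
        have h4 : (π y')⁻¹ * ((v : Γ ⧸ E) * π y') = (π y')⁻¹ * v * π y' := by group
        rw [h4]; exact this
      exact omegaCenter_le Pb h3

/-- **Key lemma.** A normal subgroup that is not weakly reducing is centralized by every
inverted odd-order element. -/
theorem commute_of_not_wred [Finite Γ] {a : Γ} (ha : a * a = 1)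
    (hgen : Subgroup.normalClosure ({a} : Set Γ) = ⊤) (N : Subgroup Γ) [hNn : N.Normal]
    (hN : ¬ WRed a N) :
    ∀ y ∈ invOdd a, ∀ u ∈ N, Commute y u := by
  obtain ⟨P, hPn, hPp, hPN, hPc⟩ := exists_normal_two_subgroup ha N hN
  have hcore := commute_core_of_not_wred ha hgen N hN P hPp hPN
  have hainv : a⁻¹ = a := inv_eq_self_of_sq ha
  intro y hy u hu
  obtain ⟨v, hv⟩ := exists_conj_of_mem_invOdd hy
  -- `a u a⁻¹ u⁻¹ ∈ P` for all `u ∈ N`
  have h1 : ∀ w ∈ N, a * w * a⁻¹ * w⁻¹ ∈ P := by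
    intro w hw
    have := P.inv_mem (hPc w hw)
    have e : (w * a * w⁻¹ * a⁻¹)⁻¹ = a * w * a⁻¹ * w⁻¹ := by group
    rwa [e] at this
  set p := y * u * y⁻¹ * u⁻¹ with hp
  have hpP : p ∈ P := by
    have hyt : y = (v * a * v⁻¹) * a := by
      rw [hv, mul_assoc, ha, mul_one]
    have hu' : v⁻¹ * u * v ∈ N := by
      have := hNn.conj_mem u hu v⁻¹
      rwa [inv_inv] at this
    have e1 : p = (v * a * v⁻¹) * (a * u * a⁻¹ * u⁻¹) * (v * a * v⁻¹)⁻¹ *
        (v * (a * (v⁻¹ * u * v) * a⁻¹ * (v⁻¹ * u * v)⁻¹) * v⁻¹) := by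
      rw [hp, hyt]
      group
    rw [e1]
    exact P.mul_mem (hPn.conj_mem _ (h1 u hu) _) (hPn.conj_mem _ (h1 _ hu') _)
  have h2 : y * u * y⁻¹ = p * u := by rw [hp]; group
  obtain ⟨k, hk⟩ := hPp ⟨p, hpP⟩
  have hk' : p ^ 2 ^ k = 1 := by
    have := congrArg (fun w : P => (w : Γ)) hk
    simpa using this
  have hp1 := eq_one_of_conj_eq_mul h2 (hcore y hy p hpP).symm hy.2 hk'
  rw [hp1, one_mul] at h2
  show y * u = u * y
  calc y * u = (y * u * y⁻¹) * y := by group
    _ = u * y := by rw [h2]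

end Cfsg.Agent.Lib.Helper22.InvE
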