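import Mathlib
import Cfsg.Agent.Lib.Helper22.InvE

/-!
Counting lemmas: centralizer bound, Brauer–Fowler count, small classes, odd normal subgroups.
-/

set_option autoImplicit false

namespace Cfsg.Agent.Lib.Helper22.InvF

open Cfsg.Agent.Lib.Helper22.InvA Cfsg.Agent.Lib.Helper22.InvB Cfsg.Agent.Lib.Helper22.InvC
  Cfsg.Agent.Lib.Helper22.InvD Cfsg.Agent.Lib.Helper22.InvE

variable {Γ : Type*} [Group Γ]

theorem ncard_invOdd_pos [Finite Γ] (a : Γ) : 0 < (invOdd a).ncard :=
  (Set.ncard_pos (Set.toFinite _)).mpr ⟨1, one_mem_invOdd a⟩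

/-- product of two commuting odd-order elements has odd order. -/
theorem odd_orderOf_inv_mul {y y' : Γ} (hc : Commute y y') (hy : Odd (orderOf y))
    (hy' : Odd (orderOf y')) : Odd (orderOf (y⁻¹ * y')) := by
  have h1 : (y⁻¹ * y') ^ (orderOf y * orderOf y') = 1 := by
    rw [(hc.inv_left).mul_pow, inv_pow, pow_mul, pow_orderOf_eq_one, one_pow, inv_one, one_mul,
      mul_comm, pow_mul, pow_orderOf_eq_one, one_pow]
  exact Odd.of_dvd_nat (hy.mul hy') (orderOf_dvd_of_pow_eq_one h1)

theorem eq_one_of_odd_of_two_pow {e : Γ} (hodd : Odd (orderOf e)) {k : ℕ} (hk : e ^ 2 ^ k = 1) :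
    e = 1 := by
  have h3 : orderOf e ∣ Nat.gcd (orderOf e) (2 ^ k) :=
    Nat.dvd_gcd dvd_rfl (orderOf_dvd_of_pow_eq_one hk)
  have h4 : Nat.gcd (orderOf e) (2 ^ k) = 1 :=
    Nat.Coprime.pow_right k (Nat.coprime_two_right.mpr hodd)
  rw [h4, Nat.dvd_one] at h3
  exact orderOf_eq_one_iff.mp h3

/-- the centre is never weakly reducing. -/
theorem not_wred_center {a : Γ} : ¬ WRed a (Subgroup.center Γ) := by
  rintro ⟨y, hy, y', hy', hne, hm⟩
  set e := y⁻¹ * y' with he
  have hec : ∀ g : Γ, g * e = e * g := fun g => (Subgroup.mem_center_iff.mp hm g)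
  have hy'e : y' = y * e := by rw [he]; group
  have hcomm : Commute y y' := by
    show y * y' = y' * y
    rw [hy'e, mul_assoc, ← hec y]
  have hodd : Odd (orderOf e) := odd_orderOf_inv_mul hcomm hy.2 hy'.2
  have h1 : a * y' * a⁻¹ = y'⁻¹ := hy'.1
  have h2 : a * e * a⁻¹ = e := by rw [hec a]; group
  have h3 : e = e⁻¹ := by
    have : a * y' * a⁻¹ = y⁻¹ * e := by
      rw [hy'e]
      calc a * (y * e) * a⁻¹ = (a * y * a⁻¹) * (a * e * a⁻¹) := by group
        _ = y⁻¹ * e := by rw [hy.1, h2]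
    rw [h1, hy'e, mul_inv_rev] at this
    have h4 : e⁻¹ * y⁻¹ = e * y⁻¹ := by rw [this, hec y⁻¹]
    exact (mul_right_cancel h4).symm
  have h5 : e ^ 2 ^ 1 = 1 := by
    rw [pow_one, sq]
    nth_rewrite 1 [h3]
    exact inv_mul_cancel e
  have h6 := eq_one_of_odd_of_two_pow hodd h5
  apply hne
  rw [hy'e, h6, mul_one]

/-- a normal 2-subgroup centralized by the inverted odd-order elements is not weakly reducing. -/
theorem not_wred_of_two_central {a : Γ} (E : Subgroup Γ) (hE : IsPGroup 2 E)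
    (hc : ∀ e ∈ E, ∀ y ∈ invOdd a, Commute e y) : ¬ WRed a E := by
  rintro ⟨y, hy, y', hy', hne, hm⟩
  set e := y⁻¹ * y' with he
  have hy'e : y' = y * e := by rw [he]; group
  have hcomm : Commute y y' := by
    show y * y' = y' * y
    rw [hy'e, mul_assoc, (hc e hm y hy).eq]
  have hodd : Odd (orderOf e) := odd_orderOf_inv_mul hcomm hy.2 hy'.2
  obtain ⟨k, hk⟩ := hE ⟨e, hm⟩
  have hk' : e ^ 2 ^ k = 1 := by
    have := congrArg (fun w : E => (w : Γ)) hk
    simpa using this
  have h6 := eq_one_of_odd_of_two_pow hodd hk'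
  apply hne
  rw [hy'e, h6, mul_one]

/-- with trivial centre, the centralizer of `a` acts faithfully on the inverted odd-order elements. -/
theorem card_centralizer_le [Finite Γ] {a : Γ} (ha : a * a = 1)
    (hgen : Subgroup.normalClosure ({a} : Set Γ) = ⊤) (hZ : Subgroup.center Γ = ⊥) :
    Nat.card (Subgroup.centralizer ({a} : Set Γ)) ≤ (invOdd a).ncard ^ (invOdd a).ncard := by
  classical
  have hmem : ∀ c ∈ Subgroup.centralizer ({a} : Set Γ), ∀ y ∈ invOdd a, c * y * c⁻¹ ∈ invOdd a := by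
    intro c hc y hy
    rw [Subgroup.mem_centralizer_singleton_iff] at hc
    refine ⟨?_, by rw [orderOf_conj_eq]; exact hy.2⟩
    have h1 : a * c = c * a := hc.symm
    calc a * (c * y * c⁻¹) * a⁻¹ = (a * c) * y * (a * c)⁻¹ * (a * a⁻¹) := by group
      _ = c * (a * y * a⁻¹) * c⁻¹ := by rw [h1]; group
      _ = (c * y * c⁻¹)⁻¹ := by rw [hy.1]; group
  let Φ : Subgroup.centralizer ({a} : Set Γ) → (invOdd a → invOdd a) :=
    fun c y => ⟨(c : Γ) * y * (c : Γ)⁻¹, hmem c c.2 y y.2⟩
  have hinj : Function.Injective Φ := by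
    intro c c' h
    have h1 : ∀ y ∈ invOdd a, (c : Γ) * y * (c : Γ)⁻¹ = (c' : Γ) * y * (c' : Γ)⁻¹ := by
      intro y hy
      have := congrFun h ⟨y, hy⟩
      exact congrArg Subtype.val this
    have hcen : (c' : Γ)⁻¹ * c ∈ Subgroup.center Γ := by
      have hle : (⊤ : Subgroup Γ) ≤ Subgroup.centralizer {(c' : Γ)⁻¹ * c} := by
        rw [← closure_invOdd_eq_top ha hgen, Subgroup.closure_le]
        rintro g (hg | hg)
        · show g ∈ Subgroup.centralizer {(c' : Γ)⁻¹ * c}
          rw [Subgroup.mem_centralizer_singleton_iff]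
          have := h1 g hg
          symm
          calc (c' : Γ)⁻¹ * c * g = (c' : Γ)⁻¹ * (c * g * (c : Γ)⁻¹) * c := by group
            _ = (c' : Γ)⁻¹ * (c' * g * (c' : Γ)⁻¹) * c := by rw [this]
            _ = g * ((c' : Γ)⁻¹ * c) := by group
        · rw [Set.mem_singleton_iff] at hg
          subst hg
          show g ∈ Subgroup.centralizer {(c' : Γ)⁻¹ * c}
          rw [Subgroup.mem_centralizer_singleton_iff]
          have h2 : (c : Γ) * g = g * c := Subgroup.mem_centralizer_singleton_iff.mp c.2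
          have h3 : (c' : Γ) * g = g * c' := Subgroup.mem_centralizer_singleton_iff.mp c'.2
          have h4 : (c' : Γ)⁻¹ * g = g * (c' : Γ)⁻¹ := by
            calc (c' : Γ)⁻¹ * g = (c' : Γ)⁻¹ * (g * c') * (c' : Γ)⁻¹ := by group
              _ = (c' : Γ)⁻¹ * (c' * g) * (c' : Γ)⁻¹ := by rw [h3]
              _ = g * (c' : Γ)⁻¹ := by group
          symm
          calc (c' : Γ)⁻¹ * c * g = (c' : Γ)⁻¹ * (c * g) := by group
            _ = (c' : Γ)⁻¹ * (g * c) := by rw [h2]
            _ = ((c' : Γ)⁻¹ * g) * c := by group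
            _ = g * ((c' : Γ)⁻¹ * c) := by rw [h4]; group
      rw [Subgroup.mem_center_iff]
      intro g
      have := hle (Subgroup.mem_top g)
      rw [Subgroup.mem_centralizer_singleton_iff] at this
      exact this
    rw [hZ, Subgroup.mem_bot, inv_mul_eq_one] at hcen
    exact Subtype.ext hcen.symm
  have h1 := Nat.card_le_card_of_injective Φ hinj
  rw [Nat.card_fun, Nat.card_coe_set_eq] at h1
  exact h1

theorem card_filter_commute [Fintype Γ] [DecidableEq Γ] (x : Γ) :
    (Finset.univ.filter (fun z : Γ => z * x = x * z)).card =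
      Nat.card (Subgroup.centralizer ({x} : Set Γ)) := by
  rw [← Fintype.card_subtype, ← Nat.card_eq_fintype_card]
  exact Nat.card_congr (Equiv.subtypeEquivRight (fun z => Subgroup.mem_centralizer_singleton_iff.symm))

/-- **Brauer–Fowler count.** -/
theorem brauer_fowler_count [Finite Γ] {a : Γ} (ha : a * a = 1) (hnc : ∃ g : Γ, g * a * g⁻¹ ≠ a) :
    ∃ g h : Γ, g * a * g⁻¹ ≠ h * a * h⁻¹ ∧
      Nat.card Γ ≤ 2 * Nat.card (Subgroup.centralizer ({a} : Set Γ)) ^ 2 *
        Nat.card (Subgroup.centralizer ({(g * a * g⁻¹) * (h * a * h⁻¹)} : Set Γ)) := by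
  classical
  have : Fintype Γ := Fintype.ofFinite Γ
  set c := Nat.card (Subgroup.centralizer ({a} : Set Γ)) with hc
  let cj : Γ → Γ := fun g => g * a * g⁻¹
  have hcj2 : ∀ g, cj g * cj g = 1 := by
    intro g
    calc cj g * cj g = g * (a * a) * g⁻¹ := by simp only [cj]; group
      _ = 1 := by rw [ha]; group
  let D : Finset Γ := Finset.univ.image cj
  have hD2 : ∀ s ∈ D, s * s = 1 := by
    intro s hs
    obtain ⟨g, -, rfl⟩ := Finset.mem_image.mp hs
    exact hcj2 g
  -- |Γ| ≤ c * |D|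
  have h1 : Fintype.card Γ ≤ c * D.card := by
    have := Finset.card_le_mul_card_image (f := cj) Finset.univ c (fun t ht => ?_)
    · simpa using this
    · obtain ⟨g₀, -, rfl⟩ := Finset.mem_image.mp ht
      rw [hc, ← card_filter_commute a]
      apply Finset.card_le_card_of_injOn (fun g => g₀⁻¹ * g)
      · intro g hg
        have hg' : cj g = cj g₀ := (Finset.mem_filter.mp hg).2
        simp only [Finset.coe_filter, Finset.mem_univ, true_and, Set.mem_ofPred_eq]
        have : g * a * g⁻¹ = g₀ * a * g₀⁻¹ := hg'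
        calc g₀⁻¹ * g * a = g₀⁻¹ * (g * a * g⁻¹) * g := by group
          _ = g₀⁻¹ * (g₀ * a * g₀⁻¹) * g := by rw [this]
          _ = a * (g₀⁻¹ * g) := by group
      · intro g _ g' _ h
        exact mul_left_cancel h
  -- pairs
  let Pr : Finset (Γ × Γ) := D.offDiag
  let f : Γ × Γ → Γ := fun p => p.1 * p.2
  obtain ⟨g₁, hg₁⟩ := hnc
  have haD : a ∈ D := Finset.mem_image.mpr ⟨1, Finset.mem_univ _, by simp [cj]⟩
  have hg₁D : cj g₁ ∈ D := Finset.mem_image.mpr ⟨g₁, Finset.mem_univ _, rfl⟩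
  have hPrne : Pr.Nonempty := ⟨(cj g₁, a), Finset.mem_offDiag.mpr ⟨hg₁D, haD, hg₁⟩⟩
  obtain ⟨p₀, hp₀, hmax⟩ := Finset.exists_max_image Pr
    (fun p => Nat.card (Subgroup.centralizer ({f p} : Set Γ))) hPrne
  set K := Nat.card (Subgroup.centralizer ({f p₀} : Set Γ)) with hK
  have hfib : ∀ w ∈ Pr.image f, (Pr.filter (fun p => f p = w)).card ≤ K := by
    intro w hw
    obtain ⟨p₁, hp₁, rfl⟩ := Finset.mem_image.mp hw
    refine le_trans ?_ (hmax p₁ hp₁)
    rw [← card_filter_commute (f p₁)]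
    have hinvert : ∀ p ∈ Pr, p.1 * f p * p.1⁻¹ = (f p)⁻¹ := by
      intro p hp
      obtain ⟨hs, ht, -⟩ := Finset.mem_offDiag.mp hp
      have hs2 := hD2 _ hs
      have ht2 := hD2 _ ht
      have hsi : p.1⁻¹ = p.1 := inv_eq_self_of_sq hs2
      have hti : p.2⁻¹ = p.2 := inv_eq_self_of_sq ht2
      simp only [f]
      rw [mul_inv_rev, hsi, hti]
      calc p.1 * (p.1 * p.2) * p.1 = (p.1 * p.1) * p.2 * p.1 := by group
        _ = p.2 * p.1 := by rw [hs2, one_mul]
    apply Finset.card_le_card_of_injOn (fun p => p₁.1⁻¹ * p.1)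
    · intro p hp
      obtain ⟨hpPr, hpf⟩ := Finset.mem_filter.mp hp
      simp only [Finset.coe_filter, Finset.mem_univ, true_and, Set.mem_ofPred_eq]
      have e1 := hinvert p hpPr
      have e2 := hinvert p₁ hp₁
      rw [hpf] at e1
      set w := f p₁ with hw'
      -- p.1 w p.1⁻¹ = w⁻¹ and p₁.1 w p₁.1⁻¹ = w⁻¹
      have e3 : w * p₁.1⁻¹ = p₁.1⁻¹ * w⁻¹ := by
        calc w * p₁.1⁻¹ = p₁.1⁻¹ * (p₁.1 * w * p₁.1⁻¹) := by group
          _ = p₁.1⁻¹ * w⁻¹ := by rw [e2]
      calc p₁.1⁻¹ * p.1 * w = p₁.1⁻¹ * (p.1 * w * p.1⁻¹) * p.1 := by group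
        _ = (p₁.1⁻¹ * w⁻¹) * p.1 := by rw [e1]
        _ = w * (p₁.1⁻¹ * p.1) := by rw [← e3]; group
    · intro p hp p' hp' h
      have hp1 : p.1 = p'.1 := mul_left_cancel h
      have hpf : f p = f p₁ := (Finset.mem_filter.mp hp).2
      have hpf' : f p' = f p₁ := (Finset.mem_filter.mp hp').2
      have hp2 : p.2 = p'.2 := by
        have : p.1 * p.2 = p'.1 * p'.2 := hpf.trans hpf'.symm
        rw [hp1] at this
        exact mul_left_cancel this
      exact Prod.ext hp1 hp2
  have h2 : Pr.card ≤ K * Fintype.card Γ := by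
    calc Pr.card ≤ K * (Pr.image f).card := Finset.card_le_mul_card_image Pr K hfib
      _ ≤ K * Fintype.card Γ := Nat.mul_le_mul_left _ (Finset.card_le_univ _)
  have h3 : Pr.card = D.card * D.card - D.card := Finset.offDiag_card D
  have hd2 : 2 ≤ D.card := by
    have : ({cj g₁, a} : Finset Γ) ⊆ D := by
      intro z hz
      rcases Finset.mem_insert.mp hz with rfl | hz
      · exact hg₁D
      · rw [Finset.mem_singleton] at hz; rw [hz]; exact haD
    calc 2 = ({cj g₁, a} : Finset Γ).card := (Finset.card_pair hg₁).symm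
      _ ≤ D.card := Finset.card_le_card this
  have hcpos : 0 < c := Nat.card_pos
  have hKpos : 0 < K := Nat.card_pos
  obtain ⟨hs₀, ht₀, hne₀⟩ := Finset.mem_offDiag.mp hp₀
  obtain ⟨g, -, hg⟩ := Finset.mem_image.mp hs₀
  obtain ⟨h, -, hh⟩ := Finset.mem_image.mp ht₀
  refine ⟨g, h, ?_, ?_⟩
  · show cj g ≠ cj h
    rw [hg, hh]; exact hne₀
  · have hfp : (g * a * g⁻¹) * (h * a * h⁻¹) = f p₀ := by
      show cj g * cj h = p₀.1 * p₀.2
      rw [hg, hh]
    rw [hfp, ← hK, Nat.card_eq_fintype_card]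
    -- arithmetic
    set n := Fintype.card Γ
    set d := D.card
    have h4 : d * d - d ≤ K * n := h3 ▸ h2
    have h5 : d * d ≤ K * n + d := by omega
    have h6 : d * d ≤ K * (c * d) + d := by
      calc d * d ≤ K * n + d := h5
        _ ≤ K * (c * d) + d := by
          apply Nat.add_le_add_right
          exact Nat.mul_le_mul_left _ h1
    have h7 : d ≤ K * c + 1 := by
      have : d * d ≤ (K * c + 1) * d := by
        calc d * d ≤ K * (c * d) + d := h6
          _ = (K * c + 1) * d := by ring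
      exact Nat.le_of_mul_le_mul_right this (by omega)
    calc n ≤ c * d := h1
      _ ≤ c * (K * c + 1) := Nat.mul_le_mul_left _ h7
      _ = K * c ^ 2 + c := by ring
      _ ≤ K * c ^ 2 + K * c ^ 2 := by
        apply Nat.add_le_add_left
        calc c = 1 * c ^ 1 := by ring
          _ ≤ K * c ^ 2 := Nat.mul_le_mul hKpos (Nat.pow_le_pow_right hcpos (by norm_num))
      _ = 2 * c ^ 2 * K := by ring

/-- an element with a small conjugacy class generates a normal subgroup that is
abelian-by-bounded. -/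
theorem exists_abelian_normal_of_small_class [Finite Γ] (w : Γ) (B : ℕ)
    (hB : Nat.card Γ ≤ B * Nat.card (Subgroup.centralizer ({w} : Set Γ))) :
    ∃ A : Subgroup Γ, A.Normal ∧ (∀ x ∈ A, ∀ y ∈ A, x * y = y * x) ∧
      Nat.card (Subgroup.normalClosure ({w} : Set Γ)) ≤ B.factorial * Nat.card A := by
  classical
  set C := Subgroup.centralizer ({w} : Set Γ) with hC
  have hidx : C.index ≤ B := by
    have h1 : Nat.card C * C.index = Nat.card Γ := C.card_mul_index
    have hpos : 0 < Nat.card C := Nat.card_pos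
    have : Nat.card C * C.index ≤ Nat.card C * B := by rw [h1, mul_comm]; exact hB
    exact Nat.le_of_mul_le_mul_left this hpos
  set Kc := C.normalCore with hKc
  have hKidx : Kc.index ≤ B.factorial := by
    have h : Kc.index ∣ C.index.factorial := by
      rw [hKc, Subgroup.normalCore_eq_ker, Subgroup.index_ker, Subgroup.index_eq_card,
        ← Nat.card_perm]
      exact Subgroup.card_subgroup_dvd_card (MulAction.toPermHom Γ (Γ ⧸ C)).range
    exact (Nat.le_of_dvd (Nat.factorial_pos _) h).trans (Nat.factorial_le hidx)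
  set M := Subgroup.normalClosure ({w} : Set Γ) with hM
  have hMc : M ≤ Subgroup.centralizer (Kc : Set Γ) := by
    apply Subgroup.normalClosure_le_normal
    intro z hz
    rw [Set.mem_singleton_iff] at hz
    subst hz
    show z ∈ Subgroup.centralizer (Kc : Set Γ)
    rw [Subgroup.mem_centralizer_iff]
    intro k hk
    have : k ∈ C := Subgroup.normalCore_le C hk
    rw [hC, Subgroup.mem_centralizer_singleton_iff] at this
    exact this
  refine ⟨Kc ⊓ M, inferInstance, ?_, ?_⟩
  · intro x hx y hy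
    have hxK : x ∈ Kc := (Subgroup.mem_inf.mp hx).1
    have hyM : y ∈ M := (Subgroup.mem_inf.mp hy).2
    have := Subgroup.mem_centralizer_iff.mp (hMc hyM) x hxK
    exact this
  · have h1 : (⊥ : Subgroup Γ).relIndex (Kc ⊓ M) * (Kc ⊓ M).relIndex M = (⊥ : Subgroup Γ).relIndex M :=
      Subgroup.relIndex_mul_relIndex _ _ _ bot_le inf_le_right
    rw [Subgroup.relIndex_bot_left, Subgroup.relIndex_bot_left, Subgroup.inf_relIndex_right] at h1
    have h2 : Kc.relIndex M ≤ B.factorial := by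
      have hd : Kc.relIndex M ∣ Kc.index := Subgroup.relIndex_dvd_index_of_normal Kc M
      exact (Nat.le_of_dvd (Nat.pos_of_ne_zero Subgroup.index_ne_zero_of_finite) hd).trans hKidx
    rw [← h1, mul_comm]
    exact Nat.mul_le_mul_right _ h2

/-- a normal subgroup of odd order is bounded by `|C(a)|` times the number of inverted
odd-order elements. -/
theorem card_le_of_odd_normal [Finite Γ] {a : Γ} (ha : a * a = 1) (A : Subgroup Γ) [hA : A.Normal]
    (hodd : Odd (Nat.card A)) :
    Nat.card A ≤ Nat.card (Subgroup.centralizer ({a} : Set Γ)) * (invOdd a).ncard := by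
  classical
  have : Fintype Γ := Fintype.ofFinite Γ
  have hainv : a⁻¹ = a := inv_eq_self_of_sq ha
  let f : A → Γ := fun u => (u : Γ) * a * (u : Γ)⁻¹ * a
  have hf : ∀ u : A, f u ∈ invOdd a := by
    intro u
    have ht : ((u : Γ) * a * (u : Γ)⁻¹) * ((u : Γ) * a * (u : Γ)⁻¹) = 1 := by
      calc ((u : Γ) * a * (u : Γ)⁻¹) * ((u : Γ) * a * (u : Γ)⁻¹) = u * (a * a) * (u : Γ)⁻¹ := by group
        _ = 1 := by rw [ha]; group
    refine ⟨inverted_of_invol ha ht, ?_⟩
    have hmem : f u ∈ A := by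
      have : f u = u * (a * (u : Γ)⁻¹ * a⁻¹) := by simp only [f, hainv]; group
      rw [this]
      exact A.mul_mem u.2 (hA.conj_mem _ (A.inv_mem u.2) a)
    have h1 : orderOf (⟨f u, hmem⟩ : A) ∣ Nat.card A := orderOf_dvd_natCard _
    rw [← Subgroup.orderOf_coe] at h1
    exact Odd.of_dvd_nat hodd h1
  have h1 : (Finset.univ : Finset A).card ≤
      Nat.card (Subgroup.centralizer ({a} : Set Γ)) * ((Finset.univ : Finset A).image f).card := by
    apply Finset.card_le_mul_card_image
    intro t ht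
    obtain ⟨u₀, -, rfl⟩ := Finset.mem_image.mp ht
    rw [← card_filter_commute a]
    apply Finset.card_le_card_of_injOn (fun u : A => (u₀ : Γ)⁻¹ * (u : Γ))
    · intro u hu
      have hu' : f u = f u₀ := (Finset.mem_filter.mp hu).2
      simp only [Finset.coe_filter, Finset.mem_univ, true_and, Set.mem_ofPred_eq]
      have h2 : (u : Γ) * a * (u : Γ)⁻¹ = (u₀ : Γ) * a * (u₀ : Γ)⁻¹ := by
        have := congrArg (fun z => z * a⁻¹) hu'
        simpa [f, mul_assoc] using this
      calc (u₀ : Γ)⁻¹ * u * a = (u₀ : Γ)⁻¹ * (u * a * (u : Γ)⁻¹) * u := by group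
        _ = (u₀ : Γ)⁻¹ * (u₀ * a * (u₀ : Γ)⁻¹) * u := by rw [h2]
        _ = a * ((u₀ : Γ)⁻¹ * u) := by group
    · intro u _ u' _ h
      exact Subtype.ext (mul_left_cancel h)
  have h2 : ((Finset.univ : Finset A).image f).card ≤ (invOdd a).ncard := by
    rw [Set.ncard_eq_toFinset_card' (invOdd a)]
    apply Finset.card_le_card
    intro z hz
    obtain ⟨u, -, rfl⟩ := Finset.mem_image.mp hz
    exact Set.mem_toFinset.mpr (hf u)
  calc Nat.card A = (Finset.univ : Finset A).card := by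
        rw [Nat.card_eq_fintype_card, Finset.card_univ]
    _ ≤ _ := h1
    _ ≤ _ := Nat.mul_le_mul_left _ h2

/-- if there is no nontrivial normal 2-subgroup, abelian normal subgroups have odd order. -/
theorem odd_card_of_abelian_normal [Finite Γ]
    (hO : ∀ P : Subgroup Γ, P.Normal → IsPGroup 2 P → P = ⊥)
    (A : Subgroup Γ) [A.Normal] (hab : ∀ x ∈ A, ∀ y ∈ A, x * y = y * x) : Odd (Nat.card A) := by
  by_contra hcon
  rw [Nat.not_odd_iff_even, even_iff_two_dvd] at hcon
  have : Fact (Nat.Prime 2) := ⟨Nat.prime_two⟩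
  obtain ⟨z, hz⟩ := exists_prime_orderOf_dvd_card' 2 hcon
  have hT : IsPGroup 2 (omegaCenter A) := by
    rintro ⟨t, ht⟩
    refine ⟨1, ?_⟩
    ext
    simp only [Subgroup.coe_pow, Subgroup.coe_one, pow_one, sq]
    exact ht.2.1
  have hbot := hO (omegaCenter A) inferInstance hT
  have hmem : (z : Γ) ∈ omegaCenter A := by
    refine ⟨z.2, ?_, fun q hq => hab _ z.2 _ hq⟩
    have h1 : z ^ 2 = 1 := by rw [← hz]; exact pow_orderOf_eq_one z
    have h2 := congrArg (fun w : A => (w : Γ)) h1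
    simpa [sq] using h2
  rw [hbot, Subgroup.mem_bot] at hmem
  have hz1 : z = 1 := Subtype.ext hmem
  rw [hz1, orderOf_one] at hz
  norm_num at hz

end Cfsg.Agent.Lib.Helper22.InvF
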