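import Mathlib
import Cfsg.Agent.Lib.Helper22.InvF

/-!
The bound for groups in which every nontrivial normal subgroup is weakly reducing.
-/

set_option autoImplicit false

namespace Cfsg.Agent.Lib.Helper22.InvG

open Cfsg.Agent.Lib.Helper22.InvA Cfsg.Agent.Lib.Helper22.InvB Cfsg.Agent.Lib.Helper22.InvC
  Cfsg.Agent.Lib.Helper22.InvD Cfsg.Agent.Lib.Helper22.InvE Cfsg.Agent.Lib.Helper22.InvF

variable {Γ : Type*} [Group Γ]

/-- bound for an elementary abelian normal 2-subgroup meeting the centralizer of the
inverted odd-order elements trivially. -/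
theorem card_elementary_le [Finite Γ] {a : Γ} (ha : a * a = 1) (m : ℕ)
    (hm : (invOdd a).ncard ≤ m) (U : Subgroup Γ) [U.Normal]
    (hab : ∀ u ∈ U, ∀ v ∈ U, u * v = v * u) (h2 : ∀ u ∈ U, u * u = 1)
    (htriv : ∀ u ∈ U, (∀ y ∈ invOdd a, u * y = y * u) → u = 1) :
    Nat.card U ≤ (m ^ 2) ^ m := by
  classical
  have : Fintype (invOdd a) := Fintype.ofFinite _
  let fam : invOdd a → Subgroup Γ := fun y => Subgroup.centralizer ({(y : Γ)} : Set Γ)
  have hinf : (⨅ y, fam y) ⊓ U = ⊥ := by
    rw [eq_bot_iff]
    intro u hu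
    obtain ⟨hu1, hu2⟩ := Subgroup.mem_inf.mp hu
    rw [Subgroup.mem_bot]
    apply htriv u hu2
    intro y hy
    have : u ∈ fam ⟨y, hy⟩ := (Subgroup.mem_iInf.mp hu1) ⟨y, hy⟩
    exact Subgroup.mem_centralizer_singleton_iff.mp this
  have h1 : Nat.card U = (⨅ y, fam y).relIndex U := by
    rw [← Subgroup.inf_relIndex_right, hinf, Subgroup.relIndex_bot_left]
  have h3 : ∀ y : invOdd a, (fam y).relIndex U ≤ m ^ 2 := by
    intro y
    obtain ⟨S, hSU, hSrel, hSinv⟩ := exists_fix_subgroup U hab h2 ha y.2
    have hScard : Nat.card S ≤ m := by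
      have hinj : Function.Injective (fun v : S => (⟨(v : Γ) * y, hSinv v v.2⟩ : invOdd a)) := by
        intro v v' h
        have := congrArg Subtype.val h
        exact Subtype.ext (mul_right_cancel this)
      have := Nat.card_le_card_of_injective _ hinj
      rw [Nat.card_coe_set_eq] at this
      exact this.trans hm
    exact hSrel.trans (Nat.pow_le_pow_left hScard 2)
  rw [h1]
  calc (⨅ y, fam y).relIndex U ≤ ∏ y, (fam y).relIndex U := Subgroup.relIndex_iInf_le fam
    _ ≤ ∏ _y : invOdd a, m ^ 2 := Finset.prod_le_prod' (fun y _ => h3 y)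
    _ = (m ^ 2) ^ (invOdd a).ncard := by
      rw [Finset.prod_const, Finset.card_univ, ← Nat.card_eq_fintype_card, Nat.card_coe_set_eq]
    _ ≤ (m ^ 2) ^ m := by
      apply Nat.pow_le_pow_right _ hm
      have : 0 < (invOdd a).ncard := ncard_invOdd_pos a
      have : 0 < m := by omega
      positivity

theorem pow_self_le_pow {x m : ℕ} (h1 : 1 ≤ x) (hx : x ≤ m) : x ^ x ≤ m ^ m :=
  (Nat.pow_le_pow_left hx x).trans (Nat.pow_le_pow_right (by omega) hx)

/-- **Bound when every nontrivial normal subgroup is weakly reducing.** -/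
theorem card_le_of_allWRed [Finite Γ] {a : Γ} (ha : a * a = 1)
    (hgen : Subgroup.normalClosure ({a} : Set Γ) = ⊤) (m F : ℕ) (hF : 1 ≤ F)
    (hm : (invOdd a).ncard ≤ m)
    (hall : ∀ N : Subgroup Γ, N.Normal → N ≠ ⊥ → WRed a N)
    (hIH : ∀ (N : Subgroup Γ) [N.Normal], WRed a N → Nat.card (Γ ⧸ N) ≤ F) :
    Nat.card Γ ≤ F * max ((m ^ 2) ^ m) ((2 * (m ^ m) ^ 2).factorial * (m ^ m * m)) := by
  classical
  have hnpos : 0 < (invOdd a).ncard := ncard_invOdd_pos a
  have hm1 : 1 ≤ m := by omega
  have hZ : Subgroup.center Γ = ⊥ := by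
    by_contra h
    exact not_wred_center (hall _ inferInstance h)
  have hc : Nat.card (Subgroup.centralizer ({a} : Set Γ)) ≤ m ^ m :=
    (card_centralizer_le ha hgen hZ).trans (pow_self_le_pow hnpos hm)
  have hquot : ∀ (N : Subgroup Γ) [N.Normal], N ≠ ⊥ → Nat.card Γ ≤ F * Nat.card N := by
    intro N _ hN
    have h1 := hIH N (hall N inferInstance hN)
    rw [Subgroup.card_eq_card_quotient_mul_card_subgroup N]
    exact Nat.mul_le_mul_right _ h1
  by_cases h2 : ∃ P : Subgroup Γ, P.Normal ∧ IsPGroup 2 P ∧ P ≠ ⊥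
  · obtain ⟨P, hPn, hPp, hPne⟩ := h2
    have hUne := omegaCenter_ne_bot hPp hPne
    have hUn : (omegaCenter P).Normal := inferInstance
    have hab : ∀ u ∈ omegaCenter P, ∀ v ∈ omegaCenter P, u * v = v * u :=
      fun u hu v hv => hu.2.2 v hv.1
    have hu2 : ∀ u ∈ omegaCenter P, u * u = 1 := fun u hu => hu.2.1
    have hGn : (Subgroup.closure (invOdd a)).Normal := closure_invOdd_normal ha hgen
    have htriv : ∀ u ∈ omegaCenter P, (∀ y ∈ invOdd a, u * y = y * u) → u = 1 := by
      intro u hu hcomm
      set E := omegaCenter P ⊓ Subgroup.centralizer (Subgroup.closure (invOdd a) : Set Γ) with hE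
      have hEn : E.Normal := inferInstance
      have hEp : IsPGroup 2 E := (hPp.to_le (omegaCenter_le P)).to_inf_left
      have hEc : ∀ e ∈ E, ∀ y ∈ invOdd a, Commute e y := by
        intro e he y hy
        have h1 : e ∈ Subgroup.centralizer (Subgroup.closure (invOdd a) : Set Γ) :=
          (Subgroup.mem_inf.mp he).2
        exact (Subgroup.mem_centralizer_iff.mp h1 y (Subgroup.subset_closure hy)).symm
      have hEbot : E = ⊥ := by
        by_contra h
        exact not_wred_of_two_central E hEp hEc (hall E hEn h)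
      have huE : u ∈ E := by
        refine Subgroup.mem_inf.mpr ⟨hu, ?_⟩
        have : Subgroup.closure (invOdd a) ≤ Subgroup.centralizer {u} := by
          rw [Subgroup.closure_le]
          intro y hy
          show y ∈ Subgroup.centralizer {u}
          rw [Subgroup.mem_centralizer_singleton_iff]
          exact (hcomm y hy).symm
        rw [Subgroup.mem_centralizer_iff]
        intro h hh
        have := this hh
        rw [Subgroup.mem_centralizer_singleton_iff] at this
        exact this
      rw [hEbot, Subgroup.mem_bot] at huE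
      exact huE
    have hUcard := card_elementary_le ha m hm (omegaCenter P) hab hu2 htriv
    calc Nat.card Γ ≤ F * Nat.card (omegaCenter P) := hquot _ hUne
      _ ≤ F * (m ^ 2) ^ m := Nat.mul_le_mul_left _ hUcard
      _ ≤ _ := Nat.mul_le_mul_left _ (le_max_left _ _)
  · push Not at h2
    have hO : ∀ P : Subgroup Γ, P.Normal → IsPGroup 2 P → P = ⊥ := fun P h1 h3 => h2 P h1 h3
    by_cases hcen : ∀ g : Γ, g * a * g⁻¹ = a
    · have haZ : a ∈ Subgroup.center Γ := by
        rw [Subgroup.mem_center_iff]
        intro g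
        have := hcen g
        calc g * a = (g * a * g⁻¹) * g := by group
          _ = a * g := by rw [this]
      rw [hZ, Subgroup.mem_bot] at haZ
      have htop : (⊤ : Subgroup Γ) = ⊥ := by
        rw [← hgen, haZ]
        exact Subgroup.normalClosure_eq_bot_iff.mpr (by simp)
      have hcard : Nat.card Γ = 1 := by
        rw [← Subgroup.card_top, htop, Subgroup.card_bot]
      rw [hcard]
      have h1 : 1 ≤ max ((m ^ 2) ^ m) ((2 * (m ^ m) ^ 2).factorial * (m ^ m * m)) := by
        apply le_max_of_le_left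
        exact Nat.one_le_pow _ _ (by positivity)
      calc 1 = 1 * 1 := rfl
        _ ≤ _ := Nat.mul_le_mul hF h1
    · push Not at hcen
      obtain ⟨g, h, hne, hcount⟩ := brauer_fowler_count ha hcen
      set w := (g * a * g⁻¹) * (h * a * h⁻¹) with hw
      set c := Nat.card (Subgroup.centralizer ({a} : Set Γ)) with hcdef
      have hwne : w ≠ 1 := by
        intro h1
        apply hne
        have ht : (h * a * h⁻¹) * (h * a * h⁻¹) = 1 := by
          calc (h * a * h⁻¹) * (h * a * h⁻¹) = h * (a * a) * h⁻¹ := by group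
            _ = 1 := by rw [ha]; group
        have : (g * a * g⁻¹) * (h * a * h⁻¹) = (h * a * h⁻¹) * (h * a * h⁻¹) := by
          rw [ht]; exact h1
        exact mul_right_cancel this
      set M := Subgroup.normalClosure ({w} : Set Γ) with hM
      have hMne : M ≠ ⊥ := by
        intro h1
        have : w ∈ M := Subgroup.subset_normalClosure (Set.mem_singleton w)
        rw [h1, Subgroup.mem_bot] at this
        exact hwne this
      obtain ⟨A, hAn, hAab, hMA⟩ := exists_abelian_normal_of_small_class w (2 * c ^ 2) hcount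
      have hAodd : Odd (Nat.card A) := odd_card_of_abelian_normal hO A hAab
      have hAcard : Nat.card A ≤ c * (invOdd a).ncard := card_le_of_odd_normal ha A hAodd
      have hMcard : Nat.card M ≤ (2 * (m ^ m) ^ 2).factorial * (m ^ m * m) := by
        refine hMA.trans ?_
        apply Nat.mul_le_mul
        · apply Nat.factorial_le
          exact Nat.mul_le_mul_left _ (Nat.pow_le_pow_left hc 2)
        · exact hAcard.trans (Nat.mul_le_mul hc hm)
      exact (hquot M hMne).trans ((Nat.mul_le_mul_left _ hMcard).trans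
        (Nat.mul_le_mul_left _ (le_max_right _ _)))

end Cfsg.Agent.Lib.Helper22.InvG
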