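import Mathlib
import Cfsg.Agent.Lib.Helper22.InvG

/-!
Schur-type bounds and the main theorem: a finite group generated by the conjugates of an
involution `a` has order bounded in terms of the number of odd-order elements inverted by `a`.
-/

set_option autoImplicit false

namespace Cfsg.Agent.Lib.Helper22.InvH

open Cfsg.Agent.Lib.Helper22.InvA Cfsg.Agent.Lib.Helper22.InvB Cfsg.Agent.Lib.Helper22.InvC
  Cfsg.Agent.Lib.Helper22.InvD Cfsg.Agent.Lib.Helper22.InvE Cfsg.Agent.Lib.Helper22.InvF
  Cfsg.Agent.Lib.Helper22.InvG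
open scoped commutatorElement

/-- the Schur bound. -/
def schurB (n : ℕ) : ℕ := n ^ (n * n ^ 2 + 1)

theorem card_commutatorSet_le (G : Type*) [Group G] [Finite G] :
    Nat.card (commutatorSet G) ≤ (Subgroup.center G).index ^ 2 := by
  classical
  let f : (G ⧸ Subgroup.center G) × (G ⧸ Subgroup.center G) → G :=
    fun p => ⁅p.1.out, p.2.out⁆
  have hsub : commutatorSet G ⊆ Set.range f := by
    rintro g ⟨g₁, g₂, rfl⟩
    obtain ⟨z₁, hz₁⟩ := QuotientGroup.mk_out_eq_mul (Subgroup.center G) g₁
    obtain ⟨z₂, hz₂⟩ := QuotientGroup.mk_out_eq_mul (Subgroup.center G) g₂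
    refine ⟨(QuotientGroup.mk g₁, QuotientGroup.mk g₂), ?_⟩
    simp only [f]
    rw [hz₁, hz₂, commutatorElement_def, commutatorElement_def]
    have c₁ : ∀ g : G, g * (z₁ : G) = (z₁ : G) * g := fun g => Subgroup.mem_center_iff.mp z₁.2 g
    have c₂ : ∀ g : G, g * (z₂ : G) = (z₂ : G) * g := fun g => Subgroup.mem_center_iff.mp z₂.2 g
    calc g₁ * (z₁ : G) * (g₂ * (z₂ : G)) * (g₁ * (z₁ : G))⁻¹ * (g₂ * (z₂ : G))⁻¹
        = g₁ * ((z₁ : G) * (g₂ * (z₂ : G))) * (z₁ : G)⁻¹ * g₁⁻¹ * (z₂ : G)⁻¹ * g₂⁻¹ := by group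
      _ = g₁ * ((g₂ * (z₂ : G)) * (z₁ : G)) * (z₁ : G)⁻¹ * g₁⁻¹ * (z₂ : G)⁻¹ * g₂⁻¹ := by
          rw [c₁ (g₂ * (z₂ : G))]
      _ = g₁ * g₂ * ((z₂ : G) * g₁⁻¹) * (z₂ : G)⁻¹ * g₂⁻¹ := by group
      _ = g₁ * g₂ * (g₁⁻¹ * (z₂ : G)) * (z₂ : G)⁻¹ * g₂⁻¹ := by rw [c₂ g₁⁻¹]
      _ = g₁ * g₂ * g₁⁻¹ * g₂⁻¹ := by group
  calc Nat.card (commutatorSet G) ≤ Nat.card (Set.range f) :=
        Nat.card_mono (Set.toFinite _) hsub
    _ ≤ Nat.card ((G ⧸ Subgroup.center G) × (G ⧸ Subgroup.center G)) :=
        Nat.card_le_card_of_surjective (Set.rangeFactorization f) Set.rangeFactorization_surjective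
    _ = (Subgroup.center G).index ^ 2 := by
        rw [Nat.card_prod, sq, Subgroup.index_eq_card]

theorem card_commutator_le_schurB (G : Type*) [Group G] [Finite G] (n : ℕ)
    (hn : (Subgroup.center G).index ≤ n) : Nat.card (commutator G) ≤ schurB n := by
  set i := (Subgroup.center G).index with hi
  have hipos : 0 < i := Nat.pos_of_ne_zero Subgroup.index_ne_zero_of_finite
  have h1 := Subgroup.card_commutator_dvd_index_center_pow G
  have h2 := card_commutatorSet_le G
  have h3 : Nat.card (commutator G) ≤ i ^ (i * Nat.card (commutatorSet G) + 1) :=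
    Nat.le_of_dvd (pow_pos hipos _) h1
  have hnpos : 0 < n := lt_of_lt_of_le hipos hn
  calc Nat.card (commutator G) ≤ i ^ (i * Nat.card (commutatorSet G) + 1) := h3
    _ ≤ i ^ (n * n ^ 2 + 1) := by
        apply Nat.pow_le_pow_right hipos
        apply Nat.add_le_add_right
        exact Nat.mul_le_mul hn (h2.trans (Nat.pow_le_pow_left hn 2))
    _ ≤ n ^ (n * n ^ 2 + 1) := Nat.pow_le_pow_left hn _

theorem card_sup_le_mul {A : Type*} [Group A] [Finite A] (H K : Subgroup A) [K.Normal] :
    Nat.card (H ⊔ K : Subgroup A) ≤ Nat.card H * Nat.card K := by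
  have h1 : (K.subgroupOf (H ⊔ K)).index * Nat.card (K.subgroupOf (H ⊔ K)) =
      Nat.card (H ⊔ K : Subgroup A) := Subgroup.index_mul_card _
  have h2 : Nat.card (K.subgroupOf (H ⊔ K)) = Nat.card K :=
    Nat.card_congr (Subgroup.subgroupOfEquivOfLe (le_sup_right : K ≤ H ⊔ K)).toEquiv
  have h3 : (K.subgroupOf (H ⊔ K)).index = K.relIndex H := Subgroup.relIndex_sup_right H K
  rw [← h1, h2, h3]
  exact Nat.mul_le_mul_right _ (Nat.le_of_dvd Nat.card_pos (Subgroup.relIndex_dvd_card K H))

theorem card_closure_le_pow {A : Type*} [CommGroup A] [Finite A] (e : ℕ) (he : 0 < e)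
    (S : Finset A) (hS : ∀ s ∈ S, s ^ e = 1) :
    Nat.card (Subgroup.closure (S : Set A)) ≤ e ^ S.card := by
  classical
  induction S using Finset.induction_on with
  | empty => simp
  | insert s S hs ih =>
    have h1 : Subgroup.closure ((insert s S : Finset A) : Set A) =
        Subgroup.zpowers s ⊔ Subgroup.closure (S : Set A) := by
      rw [Finset.coe_insert, Set.insert_eq, Subgroup.closure_union, Subgroup.zpowers_eq_closure]
    have h2 : Nat.card (Subgroup.zpowers s) ≤ e := by
      rw [Nat.card_zpowers]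
      exact Nat.le_of_dvd he (orderOf_dvd_of_pow_eq_one (hS s (Finset.mem_insert_self s S)))
    have h3 := ih (fun t ht => hS t (Finset.mem_insert_of_mem ht))
    rw [h1, Finset.card_insert_of_notMem hs, pow_succ, mul_comm]
    exact (card_sup_le_mul _ _).trans (Nat.mul_le_mul h2 h3)

variable {Γ : Type*} [Group Γ]

theorem orderOf_le_ncard [Finite Γ] {a y : Γ} (hy : y ∈ invOdd a) :
    orderOf y ≤ (invOdd a).ncard := by
  classical
  have : Fintype (invOdd a) := Fintype.ofFinite _
  have h1 : ((Finset.range (orderOf y)).image (fun k => y ^ k)).card = orderOf y := by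
    rw [Finset.card_image_of_injOn, Finset.card_range]
    intro k hk l hl h
    exact pow_injOn_Iio_orderOf (by simpa using hk) (by simpa using hl) h
  rw [← h1, Set.ncard_eq_toFinset_card' (invOdd a)]
  apply Finset.card_le_card
  intro z hz
  obtain ⟨k, -, rfl⟩ := Finset.mem_image.mp hz
  exact Set.mem_toFinset.mpr (pow_mem_invOdd hy k)

theorem card_abelianization_le [Finite Γ] {a : Γ} (m : ℕ) (hm : (invOdd a).ncard ≤ m) :
    Nat.card (Abelianization (Subgroup.closure (invOdd a))) ≤ m.factorial ^ m := by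
  classical
  have : Fintype (invOdd a) := Fintype.ofFinite _
  set G := Subgroup.closure (invOdd a) with hG
  let ι : invOdd a → G := fun y => ⟨y, Subgroup.subset_closure y.2⟩
  let ψ : invOdd a → Abelianization G := fun y => Abelianization.of (ι y)
  let S : Finset (Abelianization G) := Finset.univ.image ψ
  have hScard : S.card ≤ m := by
    calc S.card ≤ (Finset.univ : Finset (invOdd a)).card := Finset.card_image_le
      _ = (invOdd a).ncard := by
        rw [Finset.card_univ, ← Nat.card_eq_fintype_card, Nat.card_coe_set_eq]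
      _ ≤ m := hm
  have hSpow : ∀ s ∈ S, s ^ m.factorial = 1 := by
    intro s hs
    obtain ⟨y, -, rfl⟩ := Finset.mem_image.mp hs
    have h1 : orderOf (y : Γ) ∣ m.factorial :=
      Nat.dvd_factorial (orderOf_pos _) ((orderOf_le_ncard y.2).trans hm)
    have h2 : (y : Γ) ^ m.factorial = 1 := orderOf_dvd_iff_pow_eq_one.mp h1
    have h3 : ι y ^ m.factorial = 1 := by
      ext
      simp only [ι, Subgroup.coe_pow, Subgroup.coe_one]
      exact h2
    show (Abelianization.of (ι y)) ^ m.factorial = 1
    rw [← map_pow, h3, map_one]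
  have hsurj : Function.Surjective (Abelianization.of : G →* Abelianization G) :=
    fun z => QuotientGroup.mk_surjective z
  have hclos : Subgroup.closure (S : Set (Abelianization G)) = ⊤ := by
    have h1 : (S : Set (Abelianization G)) = (Abelianization.of : G →* Abelianization G) ''
        (((↑) : G → Γ) ⁻¹' invOdd a) := by
      ext z
      simp only [S, Finset.coe_image, Finset.coe_univ, Set.image_univ, Set.mem_range, Set.mem_image,
        Set.mem_preimage]
      constructor
      · rintro ⟨y, rfl⟩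
        exact ⟨ι y, y.2, rfl⟩
      · rintro ⟨g, hg, rfl⟩
        exact ⟨⟨g, hg⟩, rfl⟩
    rw [h1, ← MonoidHom.map_closure, Subgroup.closure_closure_coe_preimage,
      Subgroup.map_top_of_surjective _ hsurj]
  have h4 := card_closure_le_pow m.factorial (Nat.factorial_pos m) S hSpow
  rw [hclos, Subgroup.card_top] at h4
  exact h4.trans (Nat.pow_le_pow_right (Nat.factorial_pos m) hScard)

/-- final step: a normal subgroup of bounded index centralized by all inverted odd-order elements
bounds the whole group. -/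
theorem card_le_of_central_normal [Finite Γ] {a : Γ} (ha : a * a = 1)
    (hgen : Subgroup.normalClosure ({a} : Set Γ) = ⊤) (m n : ℕ) (hm : (invOdd a).ncard ≤ m)
    (N : Subgroup Γ) [N.Normal] (hN : ∀ y ∈ invOdd a, ∀ u ∈ N, Commute y u) (hidx : N.index ≤ n) :
    Nat.card Γ ≤ 2 * (schurB n * m.factorial ^ m) := by
  classical
  set G := Subgroup.closure (invOdd a) with hG
  have hGn : G.Normal := closure_invOdd_normal ha hgen
  -- |Γ| ≤ 2 |G|
  have h1 : Nat.card Γ ≤ 2 * Nat.card G := by
    have htop : (⊤ : Subgroup Γ) ≤ Subgroup.zpowers a ⊔ G := by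
      rw [← closure_invOdd_eq_top ha hgen, Subgroup.closure_le]
      rintro g (hg | hg)
      · exact (le_sup_right : G ≤ Subgroup.zpowers a ⊔ G) (Subgroup.subset_closure hg)
      · rw [Set.mem_singleton_iff] at hg
        rw [hg]
        exact (le_sup_left : Subgroup.zpowers a ≤ Subgroup.zpowers a ⊔ G) (Subgroup.mem_zpowers a)
    have h2 : Nat.card Γ = Nat.card (Subgroup.zpowers a ⊔ G : Subgroup Γ) := by
      rw [← Subgroup.card_top (G := Γ), top_le_iff.mp htop]
    have h3 : Nat.card (Subgroup.zpowers a) ≤ 2 := by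
      rw [Nat.card_zpowers]
      apply Nat.le_of_dvd (by norm_num)
      apply orderOf_dvd_of_pow_eq_one
      rw [sq, ha]
    rw [h2]
    exact (card_sup_le_mul _ _).trans (Nat.mul_le_mul_right _ h3)
  -- centre of G
  have h2 : (Subgroup.center G).index ≤ n := by
    have hle : N.subgroupOf G ≤ Subgroup.center G := by
      intro u hu
      have huN : (u : Γ) ∈ N := hu
      rw [Subgroup.mem_center_iff]
      intro g
      have hcl : Subgroup.closure (invOdd a) ≤ Subgroup.centralizer {(u : Γ)} := by
        refine (Subgroup.closure_le _).mpr ?_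
        intro y hy
        show y ∈ Subgroup.centralizer {(u : Γ)}
        rw [Subgroup.mem_centralizer_singleton_iff]
        exact (hN y hy u huN).eq
      have := hcl g.2
      rw [Subgroup.mem_centralizer_singleton_iff] at this
      exact Subtype.ext this
    have hd1 : (Subgroup.center G).index ∣ (N.subgroupOf G).index := Subgroup.index_dvd_of_le hle
    have hd2 : (N.subgroupOf G).index ∣ N.index := Subgroup.relIndex_dvd_index_of_normal N G
    have hpos : 0 < N.index := Nat.pos_of_ne_zero Subgroup.index_ne_zero_of_finite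
    exact (Nat.le_of_dvd hpos (hd1.trans hd2)).trans hidx
  have h3 : Nat.card (commutator G) ≤ schurB n := card_commutator_le_schurB G n h2
  have h4 : Nat.card (Abelianization G) ≤ m.factorial ^ m := card_abelianization_le m hm
  have h5 : Nat.card G = Nat.card (Abelianization G) * Nat.card (commutator G) :=
    Subgroup.card_eq_card_quotient_mul_card_subgroup (commutator G)
  calc Nat.card Γ ≤ 2 * Nat.card G := h1
    _ = 2 * (Nat.card (commutator G) * Nat.card (Abelianization G)) := by rw [h5, mul_comm (Nat.card (Abelianization G))]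
    _ ≤ 2 * (schurB n * m.factorial ^ m) :=
        Nat.mul_le_mul_left _ (Nat.mul_le_mul h3 h4)

end Cfsg.Agent.Lib.Helper22.InvH
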