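import Mathlib
import Cfsg.Agent.Lib.Helper22.InvH

/-!
Main theorem: a finite group generated by the conjugates of an involution `a` has order bounded
in terms of the number of odd-order elements inverted by `a`.
-/

set_option autoImplicit false

namespace Cfsg.Agent.Lib.Helper22.InvI

open Cfsg.Agent.Lib.Helper22.InvA Cfsg.Agent.Lib.Helper22.InvB Cfsg.Agent.Lib.Helper22.InvC
  Cfsg.Agent.Lib.Helper22.InvD Cfsg.Agent.Lib.Helper22.InvE Cfsg.Agent.Lib.Helper22.InvF
  Cfsg.Agent.Lib.Helper22.InvG Cfsg.Agent.Lib.Helper22.InvH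

universe u

theorem main_bound (m : ℕ) : ∃ B : ℕ, 1 ≤ B ∧ ∀ (Γ : Type u) [Group Γ] [Finite Γ] (a : Γ),
    a * a = 1 → Subgroup.normalClosure ({a} : Set Γ) = ⊤ → (invOdd a).ncard ≤ m →
      Nat.card Γ ≤ B := by
  induction m with
  | zero =>
    refine ⟨1, le_refl _, ?_⟩
    intro Γ _ _ a _ _ hm
    have := ncard_invOdd_pos a
    omega
  | succ m ih =>
    obtain ⟨F, hF1, hF⟩ := ih
    set A₁ := F * max (((m + 1) ^ 2) ^ (m + 1))
      ((2 * ((m + 1) ^ (m + 1)) ^ 2).factorial * ((m + 1) ^ (m + 1) * (m + 1))) with hA₁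
    refine ⟨max 1 (2 * (schurB A₁ * (m + 1).factorial ^ (m + 1))), le_max_left _ _, ?_⟩
    intro Γ _ _ a ha hgen hm
    obtain ⟨N, hNn, hNw, hNmax⟩ := exists_maximal_not_wred a
    have hπs := QuotientGroup.mk'_surjective N
    have ha' : QuotientGroup.mk' N a * QuotientGroup.mk' N a = 1 := by
      rw [← map_mul, ha, map_one]
    have hgen' : Subgroup.normalClosure ({QuotientGroup.mk' N a} : Set (Γ ⧸ N)) = ⊤ := by
      have := Subgroup.map_normalClosure ({a} : Set Γ) (QuotientGroup.mk' N) hπs
      rw [Set.image_singleton, hgen, Subgroup.map_top_of_surjective _ hπs] at this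
      exact this.symm
    have hm' : (invOdd (QuotientGroup.mk' N a)).ncard ≤ m + 1 := (ncard_quotient_le N ha).trans hm
    have hQ : Nat.card (Γ ⧸ N) ≤ A₁ := by
      apply card_le_of_allWRed ha' hgen' (m + 1) F hF1 hm'
      · intro L hL hLne
        exact wred_of_quotient_maximal hNw hNmax L hLne
      · intro L _ hLw
        have hlt := hLw.ncard_quotient_lt ha'
        apply hF ((Γ ⧸ N) ⧸ L) (QuotientGroup.mk' L (QuotientGroup.mk' N a))
        · rw [← map_mul, ha', map_one]
        · have := Subgroup.map_normalClosure ({QuotientGroup.mk' N a} : Set (Γ ⧸ N))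
            (QuotientGroup.mk' L) (QuotientGroup.mk'_surjective L)
          rw [Set.image_singleton, hgen',
            Subgroup.map_top_of_surjective _ (QuotientGroup.mk'_surjective L)] at this
          exact this.symm
        · omega
    have hcomm := commute_of_not_wred ha hgen N hNw
    have hidx : N.index ≤ A₁ := by rw [Subgroup.index_eq_card]; exact hQ
    exact (card_le_of_central_normal ha hgen (m + 1) A₁ hm N hcomm hidx).trans (le_max_right _ _)

end Cfsg.Agent.Lib.Helper22.InvI
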