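import Mathlib
import Cfsg.Agent.Lib.Helper22.Sylow

set_option autoImplicit false

namespace Cfsg.Agent.Lib.Helper22.Kazarin1

open Cfsg.Agent.Lib.Helper22

theorem mem_sylow_of_pelement {G : Type*} [Group G] [Finite G] (p : ℕ) [hp : Fact p.Prime] (g : G)
    (hg : ∃ k : ℕ, orderOf g = p ^ k) (a : ℕ)
    (hidx : (Subgroup.centralizer ({g} : Set G)).index = p ^ a) (P : Sylow p G) :
    g ∈ (P : Subgroup G) := by
  set C := Subgroup.centralizer ({g} : Set G) with hC
  set D := C ⊓ (P : Subgroup G) with hD
  set n := (Nat.card G).factorization p with hn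
  have hGpos : 0 < Nat.card G := Nat.card_pos
  have hPcard : Nat.card (P : Subgroup G) = p ^ n := P.card_eq_multiplicity
  have hCmul : Nat.card C * p ^ a = Nat.card G := by
    rw [← hidx]; exact C.card_mul_index
  have hPmul : p ^ n * (P : Subgroup G).index = Nat.card G := by
    rw [← hPcard]; exact (P : Subgroup G).card_mul_index
  have hDmul : Nat.card D * D.index = Nat.card G := D.card_mul_index
  have hDle : D.index ≤ p ^ a * (P : Subgroup G).index := by
    have := Subgroup.index_inf_le (H := C) (K := (P : Subgroup G))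
    rwa [hidx] at this
  have hDp : IsPGroup p D := P.isPGroup'.to_le inf_le_right
  obtain ⟨d, hd⟩ := IsPGroup.iff_card.mp hDp
  have hppos : 0 < p := hp.out.pos
  have hidxpos : 0 < (P : Subgroup G).index := by
    rcases Nat.eq_zero_or_pos (P : Subgroup G).index with h | h
    · rw [h, mul_zero] at hPmul; omega
    · exact h
  have hCfac : (Nat.card C).factorization p + a = n := by
    have h1 : Nat.card C ≠ 0 := Nat.card_pos.ne'
    have h2 : p ^ a ≠ 0 := pow_ne_zero _ hp.out.ne_zero
    have := congrArg (fun m => m.factorization p) hCmul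
    simp only [Nat.factorization_mul h1 h2, Finsupp.add_apply, hp.out.factorization_pow,
      Finsupp.single_eq_same] at this
    exact this
  have hdle : d ≤ (Nat.card C).factorization p := by
    have h1 : p ^ d ∣ Nat.card C := by
      rw [← hd]
      exact Subgroup.card_dvd_of_le inf_le_left
    exact (hp.out.pow_dvd_iff_le_factorization Nat.card_pos.ne').mp h1
  have hdge : (Nat.card C).factorization p ≤ d := by
    by_contra hlt
    push Not at hlt
    have h1 : p ^ n * (P : Subgroup G).index ≤ p ^ d * (p ^ a * (P : Subgroup G).index) := by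
      rw [hPmul, ← hDmul, hd]
      exact Nat.mul_le_mul_left _ hDle
    have h2 : p ^ n ≤ p ^ (d + a) := by
      rw [pow_add]
      have h3 : p ^ n * (P : Subgroup G).index ≤ p ^ d * p ^ a * (P : Subgroup G).index := by
        rw [mul_assoc]; exact h1
      exact Nat.le_of_mul_le_mul_right h3 hidxpos
    have h4 : n ≤ d + a := (Nat.pow_le_pow_iff_right hp.out.one_lt).mp h2
    omega
  have hdeq : d = (Nat.card C).factorization p := le_antisymm hdle hdge
  have hDC : Nat.card (D.subgroupOf C) = p ^ (Nat.card C).factorization p := by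
    rw [← hdeq, ← hd]
    exact Nat.card_congr (Subgroup.subgroupOfEquivOfLe (inf_le_left : D ≤ C)).toEquiv
  set Q : Sylow p C := Sylow.ofCard (D.subgroupOf C) hDC with hQ
  have hgC : g ∈ C := by
    rw [hC, Subgroup.mem_centralizer_iff]
    intro y hy
    rw [Set.mem_singleton_iff] at hy
    rw [hy]
  set g' : C := ⟨g, hgC⟩ with hg'
  have hZn : (Subgroup.zpowers g').Normal := by
    constructor
    intro x hx c
    obtain ⟨k, rfl⟩ := Subgroup.mem_zpowers_iff.mp hx
    have hcomm : Commute c g' := by
      apply Subtype.ext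
      have hc2 : (c : G) ∈ Subgroup.centralizer ({g} : Set G) := c.2
      rw [Subgroup.mem_centralizer_iff] at hc2
      have h1 := hc2 g (Set.mem_singleton g)
      show (c : G) * g = g * (c : G)
      exact h1.symm
    have : c * g' ^ k * c⁻¹ = g' ^ k := by
      rw [(hcomm.zpow_right k).eq, mul_inv_cancel_right]
    rw [this]
    exact Subgroup.zpow_mem_zpowers g' k
  have hZp : IsPGroup p (Subgroup.zpowers g') := by
    obtain ⟨k, hk⟩ := hg
    apply IsPGroup.of_card (n := k)
    rw [Nat.card_zpowers]
    rw [← hk]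
    exact (Subgroup.orderOf_coe g').symm ▸ rfl
  have hle := hZp.le_sylow_of_normal Q
  have hgQ : g' ∈ (Q : Subgroup C) := hle (Subgroup.mem_zpowers g')
  have hgD : g' ∈ D.subgroupOf C := hgQ
  rw [Subgroup.mem_subgroupOf] at hgD
  exact hgD.2

theorem pelement_closure_pgroup {G : Type*} [Group G] [Finite G] (p : ℕ) [hp : Fact p.Prime]
    (g : G) (hg : ∃ k : ℕ, orderOf g = p ^ k) (a : ℕ)
    (hidx : (Subgroup.centralizer ({g} : Set G)).index = p ^ a) :
    IsPGroup p (Subgroup.normalClosure ({g} : Set G)) := by
  obtain ⟨P⟩ : Nonempty (Sylow p G) := inferInstance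
  have hle : Subgroup.normalClosure ({g} : Set G) ≤ (P : Subgroup G) := by
    refine (Subgroup.closure_le (K := (P : Subgroup G))).mpr ?_
    intro y hy
    rw [Group.mem_conjugatesOfSet_iff] at hy
    obtain ⟨b, hb, hby⟩ := hy
    rw [Set.mem_singleton_iff] at hb
    subst hb
    rw [isConj_iff] at hby
    obtain ⟨c, hc⟩ := hby
    have h1 := mem_sylow_of_pelement p b hg a hidx (c⁻¹ • P)
    rw [mem_smul_sylow_iff] at h1
    rw [inv_inv] at h1
    rw [← hc]
    exact h1
  exact P.isPGroup'.to_le hle

end Cfsg.Agent.Lib.Helper22.Kazarin1
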