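import Mathlib
import Cfsg.Prelude.Def_Blocks
import Cfsg.Agent.Lib.helper7.BlockSing2
import Cfsg.Agent.Lib.helper7.LocalIdeal
import Cfsg.Agent.Lib.helper2.Burnside2
import Cfsg.Agent.Lib.helper2.PModular2
import Cfsg.Agent.S0154

set_option autoImplicit false

namespace Cfsg.Agent.Lib.Helper22.Kazarin2

open scoped ComplexConjugate
open Cfsg.Agent.Lib.Helper25 Cfsg.Agent.Lib.helper2 Cfsg.Agent.Lib.helper7

theorem finrank_one_of_scalar {G : Type*} [Group G] {V : Type*} [AddCommGroup V] [Module ℂ V]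
    [FiniteDimensional ℂ V] (ρ : Representation ℂ G V) [ρ.IsIrreducible]
    (h : ∀ x : G, ∃ c : ℂ, ρ x = c • LinearMap.id) : Module.finrank ℂ V = 1 := by
  have hne := finrank_ne_zero_of_irr ρ
  have hpos : 0 < Module.finrank ℂ V := Nat.pos_of_ne_zero hne
  obtain ⟨v, hv⟩ := Module.finrank_pos_iff_exists_ne_zero.mp hpos
  have hW : ∀ x : G, ∀ w ∈ Submodule.span ℂ ({v} : Set V), ρ x w ∈ Submodule.span ℂ ({v} : Set V) := by
    intro x w hw
    obtain ⟨c, hc⟩ := h x
    rw [hc]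
    simp only [LinearMap.smul_apply, LinearMap.id_coe, id_eq]
    exact Submodule.smul_mem _ _ hw
  rcases irr_eq_bot_or_top ρ _ hW with h1 | h1
  · exfalso
    have : v ∈ Submodule.span ℂ ({v} : Set V) := Submodule.mem_span_singleton_self v
    rw [h1, Submodule.mem_bot] at this
    exact hv this
  · have h2 := finrank_span_singleton (K := ℂ) hv
    rw [h1, finrank_top] at h2
    exact h2

theorem linear_or_dvd {G : Type*} [Group G] [Finite G] (χ : Cfsg.IrrCharacter G) (g : G)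
    (hgen : Subgroup.normalClosure ({g} : Set G) = ⊤) (p : ℕ) (hp : p.Prime) (a : ℕ)
    (hidx : (Subgroup.centralizer ({g} : Set G)).index = p ^ a) (hχg : (χ : G → ℂ) g ≠ 0) :
    (χ : G → ℂ) 1 = 1 ∨ ∃ e : ℕ, (χ : G → ℂ) 1 = (p : ℂ) * (e : ℂ) := by
  obtain ⟨n, ρ, hρ, hχρ⟩ := χ.2
  have := hρ
  have h1 : (χ : G → ℂ) 1 = (Module.finrank ℂ (Fin n → ℂ) : ℂ) := by
    rw [← hχρ, Representation.char_one]
  by_cases hpd : p ∣ Module.finrank ℂ (Fin n → ℂ)
  · right
    obtain ⟨e, he⟩ := hpd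
    refine ⟨e, ?_⟩
    rw [h1, he]
    push_cast
    ring
  · left
    have hcop : Nat.Coprime (Module.finrank ℂ (Fin n → ℂ))
        (Subgroup.centralizer ({g} : Set G)).index := by
      rw [hidx]
      exact ((Nat.Prime.coprime_iff_not_dvd hp).mpr hpd).symm.pow_right a
    rcases burnside_coprime ρ g hcop with h | h
    · exfalso
      apply hχg
      rw [← hχρ, h]
    · have h2 := (Cfsg.Agent.S0138.result ρ g).mp h
      obtain ⟨ω, hω⟩ := h2
      have hgN : g ∈ repCenter ρ := by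
        intro y
        rw [hω]
        ext v
        simp
      have hN := repCenter_normal ρ
      have htop : repCenter ρ = ⊤ := by
        rw [eq_top_iff, ← hgen]
        exact Subgroup.normalClosure_le_normal (Set.singleton_subset_iff.mpr hgN)
      have hsc : ∀ x : G, ∃ c : ℂ, ρ x = c • LinearMap.id := by
        intro x
        have hx : x ∈ repCenter ρ := by rw [htop]; trivial
        apply commuting_end_scalar ρ (ρ x)
        intro y
        exact hx y
      have h3 := finrank_one_of_scalar ρ hsc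
      rw [h1, h3]
      simp

theorem linear_pow {G : Type*} [Group G] (μ : Cfsg.IrrCharacter G) (h1 : (μ : G → ℂ) 1 = 1)
    (g : G) (k : ℕ) : (μ : G → ℂ) (g ^ k) = ((μ : G → ℂ) g) ^ k := by
  induction k with
  | zero => simp [h1]
  | succ k ih => rw [pow_succ, irr_linear_mul μ h1, ih, pow_succ]

theorem ne_zero_of_sameBlock_linear {G : Type*} [Group G] [Finite G] {q p : ℕ}
    {M : Ideal Cfsg.AlgInt} (hM : Cfsg.IsPModular q M) (hp : p.Prime) (hpq : p ≠ q) (g : G)
    (a : ℕ) (hidx : (Subgroup.centralizer ({g} : Set G)).index = p ^ a)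
    (μ χ : Cfsg.IrrCharacter G) (hμ : (μ : G → ℂ) 1 = 1)
    (hχ : χ ∈ Cfsg.blockOf M (μ : G → ℂ)) : (χ : G → ℂ) g ≠ 0 := by
  intro h0
  have hPr : M.IsPrime := h7_isPrime_of_isPModular hM
  have h1 := hχ g
  unfold Cfsg.centralChar at h1
  rw [h0, mul_zero, zero_div, sub_zero, hμ, div_one, hidx] at h1
  have hint : IsIntegral ℤ (((p ^ a : ℕ) : ℂ) * (μ : G → ℂ) g) := by
    apply IsIntegral.mul _ (irr_integral μ g)
    have h5 := isIntegral_algebraMap (R := ℤ) (A := ℂ) (x := ((p ^ a : ℕ) : ℤ))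
    simpa using h5
  set z : Cfsg.AlgInt := ⟨((p ^ a : ℕ) : ℂ) * (μ : G → ℂ) g, hint⟩ with hz
  have hzM : z ∈ M := (h7_memLocalIdeal_algInt_iff hPr z).mp h1
  have hpow : z ^ orderOf g = ((p ^ (a * orderOf g) : ℕ) : Cfsg.AlgInt) := by
    apply Subtype.ext
    rw [SubmonoidClass.coe_pow]
    show (((p ^ a : ℕ) : ℂ) * (μ : G → ℂ) g) ^ orderOf g = _
    rw [mul_pow, ← linear_pow μ hμ, pow_orderOf_eq_one, hμ, mul_one]
    push_cast
    rw [pow_mul]
  have h2 : ((p ^ (a * orderOf g) : ℕ) : Cfsg.AlgInt) ∈ M := by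
    rw [← hpow]
    exact Ideal.pow_mem_of_mem M hzM _ (orderOf_pos g)
  have hq : ((q : ℕ) : Cfsg.AlgInt) ∈ M := hM.2.2
  have hcop : Nat.Coprime (p ^ (a * orderOf g)) q := by
    apply Nat.Coprime.pow_left
    exact (Nat.coprime_primes hp hM.1).mpr hpq
  have h3 : ((1 : ℕ) : Cfsg.AlgInt) ∈ M := by
    have hb := Nat.gcd_eq_gcd_ab (p ^ (a * orderOf g)) q
    rw [hcop.gcd_eq_one] at hb
    have h4 : (1 : Cfsg.AlgInt) = ((p ^ (a * orderOf g) : ℕ) : Cfsg.AlgInt) *
        ((Nat.gcdA (p ^ (a * orderOf g)) q : ℤ) : Cfsg.AlgInt) +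
        ((q : ℕ) : Cfsg.AlgInt) * ((Nat.gcdB (p ^ (a * orderOf g)) q : ℤ) : Cfsg.AlgInt) := by
      have := congrArg (fun n : ℤ => (n : Cfsg.AlgInt)) hb
      push_cast at this
      push_cast
      exact this
    rw [Nat.cast_one, h4]
    exact M.add_mem (M.mul_mem_right _ h2) (M.mul_mem_right _ hq)
  rw [Nat.cast_one] at h3
  exact h7_one_not_mem hPr h3

end Cfsg.Agent.Lib.Helper22.Kazarin2
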