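import Mathlib
import Cfsg.Prelude.Def_Blocks
import Cfsg.Agent.Lib.Helper22.Kazarin2

set_option autoImplicit false

namespace Cfsg.Agent.Lib.Helper22.Kazarin3

open scoped ComplexConjugate
open Cfsg.Agent.Lib.Helper25 Cfsg.Agent.Lib.helper2 Cfsg.Agent.Lib.helper7
open Cfsg.Agent.Lib.Helper22.Kazarin2

theorem sameBlock_symm' {G : Type*} [Group G] {M : Ideal Cfsg.AlgInt} {χ ψ : G → ℂ}
    (h : Cfsg.SameBlock M χ ψ) : Cfsg.SameBlock M ψ χ := by
  intro g
  have := h7_memLocalIdeal_neg (h g)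
  rwa [neg_sub] at this

theorem sameBlock_trans' {G : Type*} [Group G] {M : Ideal Cfsg.AlgInt} (hM : M.IsPrime)
    {χ ψ φ : G → ℂ} (h1 : Cfsg.SameBlock M χ ψ) (h2 : Cfsg.SameBlock M ψ φ) :
    Cfsg.SameBlock M χ φ := by
  intro g
  have := h7_memLocalIdeal_add hM (h1 g) (h2 g)
  rwa [sub_add_sub_cancel] at this

theorem sameBlock_refl' {G : Type*} [Group G] {M : Ideal Cfsg.AlgInt} (hM : M.IsPrime)
    (χ : G → ℂ) : Cfsg.SameBlock M χ χ := by
  intro g
  rw [sub_self]
  exact h7_memLocalIdeal_zero hM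

theorem blockOf_eq_iff {G : Type*} [Group G] {M : Ideal Cfsg.AlgInt} (hM : M.IsPrime)
    (μ ν : Cfsg.IrrCharacter G) :
    Cfsg.blockOf M (ν : G → ℂ) = Cfsg.blockOf M (μ : G → ℂ) ↔
      ν ∈ Cfsg.blockOf M (μ : G → ℂ) := by
  constructor
  · intro h
    rw [← h]
    exact sameBlock_refl' hM _
  · intro h
    ext ψ
    constructor
    · intro hψ
      exact sameBlock_trans' hM h hψ
    · intro hψ
      exact sameBlock_trans' hM (sameBlock_symm' h) hψ

open Classical in
theorem block_linear_count {G : Type*} [Group G] [Fintype G] [Fintype (Cfsg.IrrCharacter G)]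
    {q p : ℕ} [hq : Fact q.Prime]
    {M : Ideal Cfsg.AlgInt} (hM : Cfsg.IsPModular q M) (hp : p.Prime) (t : G)
    (ht : t ∈ commutator G) (hqt : q ∣ orderOf t) (μ : Cfsg.IrrCharacter G)
    (hB : ∀ χ ∈ Cfsg.blockOf M (μ : G → ℂ),
      (χ : G → ℂ) 1 = 1 ∨ ∃ e : ℕ, (χ : G → ℂ) 1 = (p : ℂ) * (e : ℂ)) :
    p ∣ (Finset.univ.filter (fun χ : Cfsg.IrrCharacter G =>
      χ ∈ Cfsg.blockOf M (μ : G → ℂ) ∧ (χ : G → ℂ) 1 = 1)).card := by
  classical
  have h1 : ¬ q ∣ orderOf (1 : G) := by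
    rw [orderOf_one]
    exact hq.out.one_lt.ne' ∘ Nat.dvd_one.mp
  have horth := h7_weak_block_orth hM μ 1 t h1 hqt
  rw [finsum_mem_def, finsum_eq_sum_of_fintype] at horth
  have key : ∀ χ : Cfsg.IrrCharacter G, ∃ β : ℂ, IsIntegral ℤ β ∧
      Set.indicator (Cfsg.blockOf M (μ : G → ℂ))
        (fun χ : Cfsg.IrrCharacter G => (χ : G → ℂ) 1 * conj ((χ : G → ℂ) t)) χ =
      (if χ ∈ Cfsg.blockOf M (μ : G → ℂ) ∧ (χ : G → ℂ) 1 = 1 then (1 : ℂ) else 0) +
        (p : ℂ) * β := by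
    intro χ
    by_cases hχ : χ ∈ Cfsg.blockOf M (μ : G → ℂ)
    · rw [Set.indicator_of_mem hχ]
      rcases hB χ hχ with h | ⟨e, he⟩
      · refine ⟨0, isIntegral_zero, ?_⟩
        rw [if_pos ⟨hχ, h⟩, h, irr_linear_commutator χ h ht]
        simp
      · by_cases h1' : (χ : G → ℂ) 1 = 1
        · refine ⟨0, isIntegral_zero, ?_⟩
          rw [if_pos ⟨hχ, h1'⟩, h1', irr_linear_commutator χ h1' ht]
          simp
        · refine ⟨(e : ℂ) * conj ((χ : G → ℂ) t), ?_, ?_⟩
          · apply IsIntegral.mul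
            · have h5 := isIntegral_algebraMap (R := ℤ) (A := ℂ) (x := (e : ℤ))
              simpa using h5
            · rw [← irr_inv]
              exact irr_integral χ _
          · rw [if_neg (fun h => h1' h.2), he]
            ring
    · refine ⟨0, isIntegral_zero, ?_⟩
      rw [Set.indicator_of_notMem hχ, if_neg (fun h => hχ h.1)]
      simp
  choose β hβint hβ using key
  rw [Finset.sum_congr rfl (fun χ _ => hβ χ), Finset.sum_add_distrib, ← Finset.mul_sum,
    Finset.sum_boole] at horth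
  have hpC : (p : ℂ) ≠ 0 := by exact_mod_cast hp.ne_zero
  have h2 : (((Finset.univ.filter (fun χ : Cfsg.IrrCharacter G =>
      χ ∈ Cfsg.blockOf M (μ : G → ℂ) ∧ (χ : G → ℂ) 1 = 1)).card : ℕ) : ℂ) / (p : ℂ) =
      -(∑ χ, β χ) := by
    rw [div_eq_iff hpC]
    linear_combination horth
  have h3 : IsIntegral ℤ ((((Finset.univ.filter (fun χ : Cfsg.IrrCharacter G =>
      χ ∈ Cfsg.blockOf M (μ : G → ℂ) ∧ (χ : G → ℂ) 1 = 1)).card : ℕ) : ℂ) / (p : ℂ)) := by
    rw [h2]
    exact (IsIntegral.sum _ fun χ _ => hβint χ).neg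
  exact nat_dvd_of_isIntegral_div _ p hp.ne_zero h3

open Classical in
theorem dvd_linear_count {G : Type*} [Group G] [Fintype G] [Fintype (Cfsg.IrrCharacter G)]
    {q p : ℕ} [hq : Fact q.Prime]
    {M : Ideal Cfsg.AlgInt} (hM : Cfsg.IsPModular q M) (hp : p.Prime) (t : G)
    (ht : t ∈ commutator G) (hqt : q ∣ orderOf t)
    (hB : ∀ μ : Cfsg.IrrCharacter G, (μ : G → ℂ) 1 = 1 → ∀ χ ∈ Cfsg.blockOf M (μ : G → ℂ),
      (χ : G → ℂ) 1 = 1 ∨ ∃ e : ℕ, (χ : G → ℂ) 1 = (p : ℂ) * (e : ℂ)) :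
    p ∣ (Finset.univ.filter (fun χ : Cfsg.IrrCharacter G => (χ : G → ℂ) 1 = 1)).card := by
  classical
  have hPr : M.IsPrime := h7_isPrime_of_isPModular hM
  set Lin := Finset.univ.filter (fun χ : Cfsg.IrrCharacter G => (χ : G → ℂ) 1 = 1) with hLin
  set f : Cfsg.IrrCharacter G → Set (Cfsg.IrrCharacter G) :=
    fun μ => Cfsg.blockOf M (μ : G → ℂ) with hf
  have hmaps : ∀ x ∈ Lin, f x ∈ Lin.image f := fun x hx => Finset.mem_image_of_mem f hx
  rw [Finset.card_eq_sum_card_fiberwise hmaps]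
  apply Finset.dvd_sum
  intro b hb
  obtain ⟨μ, hμLin, rfl⟩ := Finset.mem_image.mp hb
  have hμ1 : (μ : G → ℂ) 1 = 1 := (Finset.mem_filter.mp hμLin).2
  have heq : Lin.filter (fun x => f x = f μ) = Finset.univ.filter (fun χ : Cfsg.IrrCharacter G =>
      χ ∈ Cfsg.blockOf M (μ : G → ℂ) ∧ (χ : G → ℂ) 1 = 1) := by
    ext ν
    simp only [hLin, hf, Finset.mem_filter, Finset.mem_univ, true_and]
    rw [blockOf_eq_iff hPr μ ν]
    tauto
  rw [heq]
  exact block_linear_count hM hp t ht hqt μ (hB μ hμ1)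

theorem index_commutator_dvd {G : Type*} [Group G] [Finite G] (g : G)
    (hgen : Subgroup.normalClosure ({g} : Set G) = ⊤) : (commutator G).index ∣ orderOf g := by
  set gb : Abelianization G := Abelianization.of g with hgb
  have htop : Subgroup.zpowers gb = ⊤ := by
    have hn : ((Subgroup.zpowers gb).comap (Abelianization.of (G := G))).Normal :=
      Subgroup.Normal.comap inferInstance _
    have hg : g ∈ (Subgroup.zpowers gb).comap (Abelianization.of (G := G)) := by
      rw [Subgroup.mem_comap]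
      exact Subgroup.mem_zpowers gb
    have hle : Subgroup.normalClosure ({g} : Set G) ≤
        (Subgroup.zpowers gb).comap (Abelianization.of (G := G)) :=
      Subgroup.normalClosure_le_normal (Set.singleton_subset_iff.mpr hg)
    rw [hgen] at hle
    rw [eq_top_iff]
    intro y _
    obtain ⟨x, rfl⟩ := QuotientGroup.mk'_surjective (commutator G) y
    exact hle (Subgroup.mem_top x)
  have h1 : (commutator G).index = orderOf gb := by
    rw [Subgroup.index_eq_card, ← Nat.card_zpowers, htop]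
    exact (Nat.card_congr Subgroup.topEquiv.toEquiv).symm
  rw [h1, hgb]
  exact orderOf_map_dvd _ g

theorem commutator_pgroup {G : Type*} [Group G] [Finite G] (g : G)
    (hgen : Subgroup.normalClosure ({g} : Set G) = ⊤) (p : ℕ) [hp : Fact p.Prime] (a : ℕ)
    (hidx : (Subgroup.centralizer ({g} : Set G)).index = p ^ a) (hgp : ¬ p ∣ orderOf g) :
    IsPGroup p (commutator G) := by
  classical
  have := Fintype.ofFinite G
  have := Fintype.ofFinite (Cfsg.IrrCharacter G)
  have hall : ∀ q : ℕ, q.Prime → q ∣ Nat.card (commutator G) → q = p := by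
    intro q hqp hqd
    by_contra hne
    have : Fact q.Prime := ⟨hqp⟩
    obtain ⟨t', ht'⟩ := exists_prime_orderOf_dvd_card' q hqd
    set t : G := (t' : G) with ht
    have htc : t ∈ commutator G := t'.2
    have hto : orderOf t = q := by rw [ht, Subgroup.orderOf_coe, ht']
    obtain ⟨M, hM⟩ := exists_isPModular q hqp
    have hB : ∀ μ : Cfsg.IrrCharacter G, (μ : G → ℂ) 1 = 1 →
        ∀ χ ∈ Cfsg.blockOf M (μ : G → ℂ),
        (χ : G → ℂ) 1 = 1 ∨ ∃ e : ℕ, (χ : G → ℂ) 1 = (p : ℂ) * (e : ℂ) := by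
      intro μ hμ χ hχ
      have hne0 := ne_zero_of_sameBlock_linear hM hp.out (fun h => hne h.symm) g a hidx μ χ hμ hχ
      exact linear_or_dvd χ g hgen p hp.out a hidx hne0
    have hdvd := dvd_linear_count hM hp.out t htc (by rw [hto]) hB
    have hcard : (Finset.univ.filter (fun χ : Cfsg.IrrCharacter G => (χ : G → ℂ) 1 = 1)).card =
        (commutator G).index := by
      rw [← Cfsg.Agent.S0154.result, Nat.card_eq_fintype_card, Fintype.card_subtype]
    rw [hcard] at hdvd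
    exact hgp (dvd_trans hdvd (index_commutator_dvd g hgen))
  have hne0 : Nat.card (commutator G) ≠ 0 := Nat.card_pos.ne'
  have := Nat.eq_prime_pow_of_unique_prime_dvd hne0 (fun {q} hq hd => hall q hq hd)
  exact IsPGroup.of_card this

end Cfsg.Agent.Lib.Helper22.Kazarin3
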