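import Mathlib
import Cfsg.Agent.Lib.helper23.KulF
import Cfsg.Agent.Lib.Helper10.SubgroupBasic

set_option autoImplicit false

namespace Cfsg.Agent.Lib.Helper22.KulTwoA

open Cfsg.Agent.Lib.helper23

variable {G : Type*} [Group G]

/-- an element of `zpowers z` with `z` an involution is `1` or `z`. -/
theorem mem_zpowers_invol {z w : G} (hz2 : orderOf z = 2) (hw : w ∈ Subgroup.zpowers z) :
    w = 1 ∨ w = z := by
  obtain ⟨k, rfl⟩ := Subgroup.mem_zpowers_iff.mp hw
  rw [← zpow_mod_orderOf, hz2]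
  simp only [Nat.cast_ofNat]
  have h1 : (0 : ℤ) ≤ k % 2 := Int.emod_nonneg _ (by norm_num)
  have h2 : k % 2 < 2 := Int.emod_lt_of_pos _ (by norm_num)
  have h3 : k % 2 = 0 ∨ k % 2 = 1 := by omega
  rcases h3 with h | h
  · left; rw [h]; simp
  · right; rw [h]; simp

/-- A cyclic subgroup has at most one involution. -/
theorem invol_unique [Finite G] (C : Subgroup G) (hC : IsCyclic C) {z w : G} (hz : z ∈ C)
    (hw : w ∈ C) (hz2 : orderOf z = 2) (hw2 : orderOf w = 2) : z = w := by
  have := hC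
  have h1 : Nat.card (Subgroup.zpowers (⟨z, hz⟩ : C)) = 2 := by
    rw [Nat.card_zpowers, Subgroup.orderOf_mk, hz2]
  have h2 : Nat.card (Subgroup.zpowers (⟨w, hw⟩ : C)) = 2 := by
    rw [Nat.card_zpowers, Subgroup.orderOf_mk, hw2]
  have h3 := Cfsg.Agent.Lib.Helper10.eq_of_card_eq_of_isCyclic _ _ (h1.trans h2.symm)
  have h4 : (⟨w, hw⟩ : C) ∈ Subgroup.zpowers (⟨z, hz⟩ : C) := by
    rw [h3]; exact Subgroup.mem_zpowers _
  have hz2' : orderOf (⟨z, hz⟩ : C) = 2 := by rw [Subgroup.orderOf_mk, hz2]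
  rcases mem_zpowers_invol hz2' h4 with h | h
  · exfalso
    have : w = 1 := by simpa using congrArg Subtype.val h
    rw [this, orderOf_one] at hw2
    omega
  · have : w = z := by simpa using congrArg Subtype.val h
    exact this.symm

/-- a subgroup of order two is generated by any of its involutions. -/
theorem eq_zpowers_of_card_two [Finite G] (Z : Subgroup G) (hZ : Nat.card Z = 2) {z : G}
    (hz : z ∈ Z) (hz2 : orderOf z = 2) : Z = Subgroup.zpowers z := by
  symm
  apply Subgroup.eq_of_le_of_card_ge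
  · rw [Subgroup.zpowers_le]; exact hz
  · rw [Nat.card_zpowers, hz2, hZ]

theorem exists_invol_of_card_two [Finite G] (Z : Subgroup G) (hZ : Nat.card Z = 2) :
    ∃ z ∈ Z, orderOf z = 2 := by
  have : Fact (Nat.Prime 2) := ⟨Nat.prime_two⟩
  obtain ⟨x, hx⟩ := exists_prime_orderOf_dvd_card' (G := Z) 2 (by rw [hZ])
  refine ⟨x.1, x.2, ?_⟩
  rw [← hx]
  exact (Subgroup.orderOf_coe x)

/-- every subgroup of order divisible by four contains the involution subgroup of a cyclic
subgroup of index two. -/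
theorem le_of_four_dvd [Finite G] (C : Subgroup G) (hC : IsCyclic C) (hCi : C.index = 2)
    (Z : Subgroup G) (hZC : Z ≤ C) (hZ : Nat.card Z = 2) (H : Subgroup G)
    (hH : 4 ∣ Nat.card H) : Z ≤ H := by
  have : Fact (Nat.Prime 2) := ⟨Nat.prime_two⟩
  have : C.Normal := Subgroup.normal_of_index_eq_two hCi
  have h1 := kul_card_inf_mul_relIndex C H
  have h2 : C.relIndex H ∣ 2 := by
    rw [← hCi]; exact Subgroup.relIndex_dvd_index_of_normal C H
  have h3 : 2 ∣ Nat.card (C ⊓ H : Subgroup G) := by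
    rcases (Nat.dvd_prime Nat.prime_two).mp h2 with h | h
    · rw [h, mul_one] at h1
      rw [h1]; exact dvd_trans (by norm_num) hH
    · rw [h] at h1
      obtain ⟨k, hk⟩ := hH
      rw [hk] at h1
      have : Nat.card (C ⊓ H : Subgroup G) = 2 * k := by omega
      rw [this]; exact dvd_mul_right 2 k
  obtain ⟨x, hx⟩ := exists_prime_orderOf_dvd_card' (G := (C ⊓ H : Subgroup G)) 2 h3
  have hx2 : orderOf (x : G) = 2 := by rw [← hx]; exact Subgroup.orderOf_coe x
  obtain ⟨z, hzZ, hz2⟩ := exists_invol_of_card_two Z hZ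
  have hzx : z = (x : G) := invol_unique C hC (hZC hzZ) (x.2.1) hz2 hx2
  rw [eq_zpowers_of_card_two Z hZ hzZ hz2, Subgroup.zpowers_le, hzx]
  exact x.2.2

/-- the correspondence `H ↦ H / Z` for subgroups of order at least four. -/
theorem card_subgroups_quot [Finite G] {n b : ℕ} (hG : Nat.card G = 2 ^ n)
    (C : Subgroup G) (hC : IsCyclic C) (hCi : C.index = 2) (Z : Subgroup G) [Z.Normal]
    (hZC : Z ≤ C) (hZ : Nat.card Z = 2) (hb2 : 2 ≤ b) (hbn : b ≤ n) :
    Nat.card {H : Subgroup G // Nat.card H = 2 ^ b} =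
      Nat.card {H : Subgroup (G ⧸ Z) // Nat.card H = 2 ^ (b - 1)} := by
  have : Fact (Nat.Prime 2) := ⟨Nat.prime_two⟩
  have hQ : Nat.card (G ⧸ Z) = 2 ^ (n - 1) := by
    have h1 := Subgroup.card_eq_card_quotient_mul_card_subgroup Z
    rw [hG, hZ] at h1
    have h2 : 2 ^ n = 2 ^ (n - 1) * 2 := by rw [← pow_succ]; congr 1; omega
    omega
  have e1 : {H : Subgroup G // Nat.card H = 2 ^ b} ≃
      {H : Subgroup G // H.index = 2 ^ (n - b) ∧ Z ≤ H} :=
    Equiv.subtypeEquivRight (fun H => by
      have h := kul_card_of_index hG (show n - b ≤ n by omega) H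
      have hnb : n - (n - b) = b := by omega
      rw [hnb] at h
      constructor
      · intro hc
        refine ⟨h.mpr hc, le_of_four_dvd C hC hCi Z hZC hZ H ?_⟩
        rw [hc]
        exact pow_dvd_pow 2 hb2
      · intro hc
        exact h.mp hc.1)
  have e2 : {H : Subgroup (G ⧸ Z) // H.index = 2 ^ (n - b)} ≃
      {H : Subgroup (G ⧸ Z) // Nat.card H = 2 ^ (b - 1)} :=
    Equiv.subtypeEquivRight (fun H => by
      have h := kul_card_of_index hQ (show n - b ≤ n - 1 by omega) H
      have hnb : n - 1 - (n - b) = b - 1 := by omega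
      rw [hnb] at h
      exact h)
  exact Nat.card_congr ((e1.trans (kulQuotEquiv Z (2 ^ (n - b)))).trans e2)

/-- subgroups of order two correspond to involutions. -/
theorem card_subgroups_two [Finite G] :
    Nat.card {H : Subgroup G // Nat.card H = 2 ^ 1} = Nat.card {x : G // orderOf x = 2} := by
  symm
  apply Nat.card_congr
  refine Equiv.ofBijective
    (fun x => ⟨Subgroup.zpowers x.1, by rw [Nat.card_zpowers, x.2, pow_one]⟩) ⟨?_, ?_⟩
  · rintro ⟨x, hx⟩ ⟨y, hy⟩ h
    have h1 : Subgroup.zpowers x = Subgroup.zpowers y := congrArg Subtype.val h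
    have h2 : y ∈ Subgroup.zpowers x := by rw [h1]; exact Subgroup.mem_zpowers y
    apply Subtype.ext
    rcases mem_zpowers_invol hx h2 with h3 | h3
    · exfalso
      rw [h3, orderOf_one] at hy
      omega
    · exact h3.symm
  · rintro ⟨H, hH⟩
    rw [pow_one] at hH
    obtain ⟨z, hzH, hz2⟩ := exists_invol_of_card_two H hH
    refine ⟨⟨z, hz2⟩, ?_⟩
    apply Subtype.ext
    exact (eq_zpowers_of_card_two H hH hzH hz2).symm

/-- involutions inside and outside a subgroup. -/
theorem card_invol_split [Finite G] (C : Subgroup G) :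
    Nat.card {x : G // orderOf x = 2} =
      Nat.card {x : G // x ∈ C ∧ orderOf x = 2} + Nat.card {x : G // x ∉ C ∧ x ^ 2 = 1} := by
  have : Fact (Nat.Prime 2) := ⟨Nat.prime_two⟩
  rw [kul_card_split (fun x : G => orderOf x = 2) (fun x => x ∈ C)]
  congr 1
  · apply Nat.card_congr
    exact Equiv.subtypeEquivRight (fun x => and_comm)
  · apply Nat.card_congr
    refine Equiv.subtypeEquivRight (fun x => ?_)
    constructor
    · rintro ⟨h1, h2⟩
      exact ⟨h2, (orderOf_eq_prime_iff.mp h1).1⟩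
    · rintro ⟨h1, h2⟩
      refine ⟨orderOf_eq_prime_iff.mpr ⟨h2, ?_⟩, h1⟩
      rintro rfl
      exact h1 C.one_mem

/-- if `t ∉ C` is an involution and `C` is abelian of index two, then the involutions outside
`C` correspond to the elements of `C` inverted by `t`. -/
theorem card_invol_outside [Finite G] (C : Subgroup G) (hCi : C.index = 2)
    (t : G) (ht : t ∉ C) (ht2 : t ^ 2 = 1) :
    Nat.card {x : G // x ∉ C ∧ x ^ 2 = 1} =
      Nat.card {y : G // y ∈ C ∧ t * y * t⁻¹ = y⁻¹} := by
  have htinv : t⁻¹ = t := by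
    rw [inv_eq_iff_mul_eq_one, ← pow_two, ht2]
  apply Nat.card_congr
  refine
    { toFun := fun x => ⟨x.1 * t, ?_, ?_⟩
      invFun := fun y => ⟨y.1 * t, ?_, ?_⟩
      left_inv := ?_
      right_inv := ?_ }
  · rw [Subgroup.mul_mem_iff_of_index_two hCi]
    exact ⟨fun h => absurd h x.2.1, fun h => absurd h ht⟩
  · have h1 := x.2.2
    rw [htinv]
    have h2 : x.1 * x.1 = 1 := by rw [← pow_two]; exact h1
    have h3 : t * t = 1 := by rw [← pow_two]; exact ht2
    rw [eq_inv_iff_mul_eq_one]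
    calc t * (x.1 * t) * t * (x.1 * t) = t * x.1 * (t * t) * x.1 * t := by group
      _ = t * (x.1 * x.1) * t := by rw [h3]; group
      _ = 1 := by rw [h2, mul_one, h3]
  · intro h
    rw [Subgroup.mul_mem_iff_of_index_two hCi] at h
    exact ht (h.mp y.2.1)
  · have h1 : t * y.1 * t = y.1⁻¹ :=
      (congrArg (fun s => t * y.1 * s) htinv).symm.trans y.2.2
    rw [pow_two]
    calc y.1 * t * (y.1 * t) = y.1 * (t * y.1 * t) := by group
      _ = 1 := by rw [h1]; group
  · intro x
    apply Subtype.ext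
    have h3 : t * t = 1 := by rw [← pow_two]; exact ht2
    simp only
    rw [mul_assoc, h3, mul_one]
  · intro y
    apply Subtype.ext
    have h3 : t * t = 1 := by rw [← pow_two]; exact ht2
    simp only
    rw [mul_assoc, h3, mul_one]

end Cfsg.Agent.Lib.Helper22.KulTwoA
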