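import Mathlib
import Cfsg.Agent.Lib.Helper22.KulTwoA
import Cfsg.Agent.Lib.Helper21.MaxClassTwo

set_option autoImplicit false

namespace Cfsg.Agent.Lib.Helper22.KulTwoB

open Cfsg.Agent.Lib.helper23 Cfsg.Agent.Lib.Helper21 Cfsg.Agent.Lib.Helper22.KulTwoA

universe u

variable {G : Type*} [Group G]

/-- the elements of an abelian subgroup inverted by `t`. -/
def invSub (C : Subgroup G) (hab : ∀ x ∈ C, ∀ y ∈ C, x * y = y * x) (t : G) : Subgroup G where
  carrier := {y | y ∈ C ∧ t * y * t⁻¹ = y⁻¹}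
  one_mem' := ⟨C.one_mem, by simp⟩
  mul_mem' := by
    rintro a b ⟨ha, ha'⟩ ⟨hb, hb'⟩
    refine ⟨C.mul_mem ha hb, ?_⟩
    have h1 : t * (a * b) * t⁻¹ = (t * a * t⁻¹) * (t * b * t⁻¹) := by group
    rw [h1, ha', hb', mul_inv_rev]
    exact hab _ (C.inv_mem ha) _ (C.inv_mem hb)
  inv_mem' := by
    rintro a ⟨ha, ha'⟩
    refine ⟨C.inv_mem ha, ?_⟩
    have h1 : t * a⁻¹ * t⁻¹ = (t * a * t⁻¹)⁻¹ := by group
    rw [h1, ha']

theorem mem_invSub {C : Subgroup G} {hab : ∀ x ∈ C, ∀ y ∈ C, x * y = y * x} {t y : G} :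
    y ∈ invSub C hab t ↔ y ∈ C ∧ t * y * t⁻¹ = y⁻¹ := Iff.rfl

/-- a cyclic group of order divisible by four has an element of order four. -/
theorem exists_orderOf_four [Finite G] (C : Subgroup G) (hC : IsCyclic C) (h4 : 4 ∣ Nat.card C) :
    ∃ u ∈ C, orderOf u = 4 := by
  have := hC
  obtain ⟨g, hg⟩ := IsCyclic.exists_ofOrder_eq_natCard (α := C)
  obtain ⟨k, hk⟩ := h4
  have hk0 : k ≠ 0 := by
    rintro rfl
    have : 0 < Nat.card C := Nat.card_pos
    omega
  refine ⟨(g ^ k : C), (g ^ k).2, ?_⟩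
  rw [Subgroup.orderOf_coe, orderOf_pow_of_dvd hk0 (by rw [hg, hk]; exact dvd_mul_left k 4), hg, hk]
  exact Nat.mul_div_cancel _ (Nat.pos_of_ne_zero hk0)

/-- in a 2-group of maximal class, elements outside the cyclic maximal subgroup invert
its elements of order four. -/
theorem inverts_order_four [Finite G] (C : Subgroup G) (hC : IsCyclic C) (hCi : C.index = 2)
    (hZ : Nat.card (Subgroup.center G) = 2)
    (hcen : ∀ g : G, g ∉ C → ∀ u ∈ C, u * g = g * u → u ∈ Subgroup.center G)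
    (t : G) (ht : t ∉ C) (u : G) (hu : u ∈ C) (hu4 : orderOf u = 4) :
    t * u * t⁻¹ = u⁻¹ := by
  have hCn : C.Normal := Subgroup.normal_of_index_eq_two hCi
  have hab := mc_cyclic_comm C hC
  set v := t * u * t⁻¹ with hv
  have hvC : v ∈ C := hCn.conj_mem u hu t
  have hv4 : orderOf v = 4 := by
    rw [hv]
    have := orderOf_injective (MulAut.conj t).toMonoidHom (MulAut.conj t).injective u
    simpa [MulAut.conj_apply] using this.trans hu4
  have hu2 : orderOf (u ^ 2) = 2 := by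
    rw [orderOf_pow_of_dvd (by norm_num) (by rw [hu4]; norm_num), hu4]
  have hv2 : orderOf (v ^ 2) = 2 := by
    rw [orderOf_pow_of_dvd (by norm_num) (by rw [hv4]; norm_num), hv4]
  have hsq : v ^ 2 = u ^ 2 :=
    invol_unique C hC (C.pow_mem hvC 2) (C.pow_mem hu 2) hv2 hu2
  -- w = v u⁻¹ squares to one
  have hw : (v * u⁻¹) ^ 2 = 1 := by
    have hc : Commute v u⁻¹ := hab v hvC u⁻¹ (C.inv_mem hu)
    rw [hc.mul_pow, hsq, inv_pow, mul_inv_cancel]
  by_cases h1 : v * u⁻¹ = 1
  · -- v = u : then u is central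
    exfalso
    have hvu : v = u := by rwa [mul_inv_eq_one] at h1
    have hcomm : u * t = t * u := by
      have : t * u * t⁻¹ = u := hvu
      calc u * t = (t * u * t⁻¹) * t := by rw [this]
        _ = t * u := by group
    have huZ := hcen t ht u hu hcomm
    have h2 : (⟨u, huZ⟩ : Subgroup.center G) ^ 2 = 1 := by
      rw [← hZ]; exact pow_card_eq_one'
    have h3 : u ^ 2 = 1 := by simpa using congrArg Subtype.val h2
    have := orderOf_dvd_of_pow_eq_one h3
    rw [hu4] at this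
    omega
  · have hw2 : orderOf (v * u⁻¹) = 2 := by
      have : Fact (Nat.Prime 2) := ⟨Nat.prime_two⟩
      exact orderOf_eq_prime_iff.mpr ⟨hw, h1⟩
    have hwz : v * u⁻¹ = u ^ 2 :=
      invol_unique C hC (C.mul_mem hvC (C.inv_mem hu)) (C.pow_mem hu 2) hw2 hu2
    have hu4' : u ^ 4 = 1 := by rw [← hu4]; exact pow_orderOf_eq_one u
    have : v = u ^ 2 * u := by rw [← hwz]; group
    rw [this, eq_inv_iff_mul_eq_one]
    calc u ^ 2 * u * u = u ^ 4 := by group
      _ = 1 := hu4'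

/-- in a 2-group of maximal class the number of involutions is `≡ 1 (mod 4)`. -/
theorem card_invol_maxclass [Finite G] {n : ℕ} (hn : 3 ≤ n) (hG : Nat.card G = 2 ^ n)
    (C : Subgroup G) (hC : IsCyclic C) (hCi : C.index = 2)
    (hZ : Nat.card (Subgroup.center G) = 2) (hZC : Subgroup.center G ≤ C)
    (hcen : ∀ g : G, g ∉ C → ∀ u ∈ C, u * g = g * u → u ∈ Subgroup.center G) :
    Nat.card {x : G // orderOf x = 2} ≡ 1 [MOD 4] := by
  have hab := mc_cyclic_comm C hC
  rw [card_invol_split C]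
  have h1 : Nat.card {x : G // x ∈ C ∧ orderOf x = 2} = 1 := by
    obtain ⟨z, hzZ, hz2⟩ := exists_invol_of_card_two _ hZ
    rw [Nat.card_eq_one_iff_unique]
    refine ⟨⟨?_⟩, ⟨⟨z, hZC hzZ, hz2⟩⟩⟩
    rintro ⟨a, haC, ha2⟩ ⟨b, hbC, hb2⟩
    apply Subtype.ext
    exact invol_unique C hC haC hbC ha2 hb2
  rw [h1]
  have h2 : 4 ∣ Nat.card {x : G // x ∉ C ∧ x ^ 2 = 1} := by
    by_cases hne : Nonempty {x : G // x ∉ C ∧ x ^ 2 = 1}
    · obtain ⟨⟨t, ht, ht2⟩⟩ := hne
      rw [card_invol_outside C hCi t ht ht2]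
      have hCcard : Nat.card C = 2 ^ (n - 1) := by
        have h := Subgroup.card_mul_index C
        rw [hCi, hG] at h
        have h2 : 2 ^ n = 2 ^ (n - 1) * 2 := by rw [← pow_succ]; congr 1; omega
        omega
      have h4 : 4 ∣ Nat.card C := by
        rw [hCcard]
        exact pow_dvd_pow 2 (show 2 ≤ n - 1 by omega)
      obtain ⟨u, huC, hu4⟩ := exists_orderOf_four C hC h4
      have hinv := inverts_order_four C hC hCi hZ hcen t ht u huC hu4
      have hle : Subgroup.zpowers u ≤ invSub C hab t := by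
        rw [Subgroup.zpowers_le]
        exact ⟨huC, hinv⟩
      have := Subgroup.card_dvd_of_le hle
      rw [Nat.card_zpowers, hu4] at this
      exact this
    · rw [not_nonempty_iff] at hne
      rw [Nat.card_of_isEmpty]
      exact dvd_zero 4
  obtain ⟨k, hk⟩ := h2
  rw [hk]
  unfold Nat.ModEq
  omega

/-- **subgroup counts in 2-groups of maximal class.** -/
theorem card_subgroups_maxclass : ∀ (n : ℕ) (G : Type u) [Group G] [Finite G], 3 ≤ n →
    Nat.card G = 2 ^ n → Group.nilpotencyClass G = n - 1 → ∀ b : ℕ, 1 ≤ b → b + 2 ≤ n →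
    Nat.card {H : Subgroup G // Nat.card H = 2 ^ b} ≡ 1 [MOD 4] := by
  have : Fact (Nat.Prime 2) := ⟨Nat.prime_two⟩
  intro n
  induction n using Nat.strong_induction_on with
  | _ n ih =>
    intro G _ _ hn hG hc b hb1 hbn
    obtain ⟨hidx, -⟩ := mc_two_index n G hn hG hc
    obtain ⟨hZ, -, C, hC, hCi, hZC, hcen⟩ := mc_structure n hn hG hidx
    rcases Nat.lt_or_ge b 2 with hb | hb
    · have hb' : b = 1 := by omega
      subst hb'
      rw [card_subgroups_two]
      exact card_invol_maxclass hn hG C hC hCi hZ hZC hcen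
    · obtain ⟨-, hq, hcq⟩ := mc_center_card 2 n hn G hG hc
      rw [card_subgroups_quot hG C hC hCi (Subgroup.center G) hZC hZ hb (by omega)]
      exact ih (n - 1) (by omega) (G ⧸ Subgroup.center G) (by omega) hq (by rw [hcq]; omega)
        (b - 1) (by omega) (by omega)

end Cfsg.Agent.Lib.Helper22.KulTwoB
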