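import Mathlib
import Cfsg.Agent.Lib.Helper22.KulTwoA
import Cfsg.Agent.Lib.Helper21.MaxClassTwo

set_option autoImplicit false

namespace Cfsg.Agent.Lib.Helper22.KulTwoC

open Cfsg.Agent.Lib.helper23 Cfsg.Agent.Lib.Helper21 Cfsg.Agent.Lib.Helper22.KulTwoA
open Cfsg.Agent.Lib.Helper1
open scoped commutatorElement

universe u

variable {G : Type*} [Group G]

theorem commutator_le_of_index_two (C : Subgroup G) (hCi : C.index = 2) : commutator G ≤ C := by
  have hCn : C.Normal := Subgroup.normal_of_index_eq_two hCi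
  rw [commutator_def, Subgroup.commutator_le]
  intro a _ b _
  rw [commutatorElement_def, Subgroup.mul_mem_iff_of_index_two hCi]
  constructor
  · intro h
    have h1 := hCn.conj_mem _ h a⁻¹
    have h2 : a⁻¹ * (a * b * a⁻¹) * a⁻¹⁻¹ = b := by group
    rw [h2] at h1
    exact C.inv_mem h1
  · intro h
    have hb : b ∈ C := by simpa using C.inv_mem h
    exact hCn.conj_mem b hb a

theorem eight_dvd_index [Finite G] {n : ℕ} (hG : Nat.card G = 2 ^ n) (hnc : ¬ IsCyclic G)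
    (h4 : (commutator G).index ≠ 4) : 8 ∣ (commutator G).index := by
  have : Fact (Nat.Prime 2) := ⟨Nat.prime_two⟩
  have hpg : IsPGroup 2 G := IsPGroup.of_card hG
  obtain ⟨d, hd2, hd⟩ := kul_frattini_index hG hnc
  have hle : commutator G ≤ frattini G := pgroup_commutator_le_frattini hpg
  have h1 := Subgroup.index_dvd_of_le hle
  obtain ⟨e, he⟩ := hpg.index (commutator G)
  rw [hd, he] at h1
  have hde : d ≤ e := (Nat.pow_dvd_pow_iff_le_right (by norm_num)).mp h1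
  have he3 : 3 ≤ e := by
    by_contra h
    have : e = 2 := by omega
    rw [this] at he
    exact h4 (by rw [he]; norm_num)
  rw [he]
  exact pow_dvd_pow 2 he3

/-- a cyclic subgroup is generated by one element. -/
theorem exists_gen (C : Subgroup G) (hC : IsCyclic C) : ∃ a : G, C = Subgroup.zpowers a := by
  obtain ⟨g, hg⟩ := hC.exists_generator
  refine ⟨g.1, ?_⟩
  ext x
  constructor
  · intro hx
    obtain ⟨k, hk⟩ := Subgroup.mem_zpowers_iff.mp (hg ⟨x, hx⟩)
    rw [Subgroup.mem_zpowers_iff]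
    exact ⟨k, by simpa using congrArg Subtype.val hk⟩
  · intro hx
    obtain ⟨k, rfl⟩ := Subgroup.mem_zpowers_iff.mp hx
    exact C.zpow_mem g.2 k

theorem commutator_le_pow_four [Finite G] {n : ℕ} (hn : 3 ≤ n) (hG : Nat.card G = 2 ^ n) (a : G)
    (ha : orderOf a = 2 ^ (n - 1)) (h8 : 8 ∣ (commutator G).index)
    (hle : commutator G ≤ Subgroup.zpowers a) : commutator G ≤ Subgroup.zpowers (a ^ 4) := by
  intro y hy
  have hcard : Nat.card (commutator G) ∣ 2 ^ (n - 3) := by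
    have h1 := Subgroup.card_mul_index (commutator G)
    rw [hG] at h1
    obtain ⟨k, hk⟩ := h8
    rw [hk] at h1
    have h2 : 2 ^ n = 2 ^ (n - 3) * 8 := by
      have : (8:ℕ) = 2 ^ 3 := by norm_num
      rw [this, ← pow_add]; congr 1; omega
    have h3 : Nat.card (commutator G) * k = 2 ^ (n - 3) := by
      have : Nat.card (commutator G) * k * 8 = 2 ^ (n - 3) * 8 := by rw [← h2, ← h1]; ring
      exact Nat.eq_of_mul_eq_mul_right (by norm_num) this
    exact ⟨k, h3.symm⟩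
  have hy1 : y ^ (2 ^ (n - 3)) = 1 := by
    have h1 : (⟨y, hy⟩ : commutator G) ^ Nat.card (commutator G) = 1 := pow_card_eq_one'
    obtain ⟨m, hm⟩ := hcard
    have h2 : (⟨y, hy⟩ : commutator G) ^ (2 ^ (n - 3)) = 1 := by rw [hm, pow_mul, h1, one_pow]
    simpa using congrArg Subtype.val h2
  obtain ⟨l, rfl⟩ := Subgroup.mem_zpowers_iff.mp (hle hy)
  have h1 : (a ^ l) ^ ((2 ^ (n - 3) : ℕ) : ℤ) = 1 := by rw [zpow_natCast]; exact hy1
  rw [← zpow_mul, ← orderOf_dvd_iff_zpow_eq_one, ha] at h1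
  have h2 : ((2 ^ (n - 1) : ℕ) : ℤ) = 4 * ((2 ^ (n - 3) : ℕ) : ℤ) := by
    have : 2 ^ (n - 1) = 4 * 2 ^ (n - 3) := by
      have : (4:ℕ) = 2 ^ 2 := by norm_num
      rw [this, ← pow_add]; congr 1; omega
    rw [this]; push_cast; ring
  rw [h2] at h1
  have h3 : (4 : ℤ) ∣ l := Int.dvd_of_mul_dvd_mul_right (by positivity) h1
  obtain ⟨m, rfl⟩ := h3
  rw [Subgroup.mem_zpowers_iff]
  exact ⟨m, by rw [← zpow_natCast, ← zpow_mul]; norm_num⟩

theorem conj_eq_pow [Finite G] (a : G)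
    (hle4 : commutator G ≤ Subgroup.zpowers (a ^ 4)) (g : G) :
    ∃ j : ℕ, ∀ y ∈ Subgroup.zpowers a, g * y * g⁻¹ = y ^ (1 + 4 * j) := by
  have hc : a⁻¹ * (g * a * g⁻¹) ∈ commutator G := by
    rw [commutator_def]
    have : a⁻¹ * (g * a * g⁻¹) = ⁅a⁻¹, g⁆ := by rw [commutatorElement_def]; group
    rw [this]
    exact Subgroup.commutator_mem_commutator (Subgroup.mem_top _) (Subgroup.mem_top _)
  have h1 := hle4 hc
  rw [← mem_powers_iff_mem_zpowers] at h1
  obtain ⟨j, hj⟩ := (Submonoid.mem_powers_iff _ _).mp h1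
  refine ⟨j, ?_⟩
  have hga : g * a * g⁻¹ = a ^ (1 + 4 * j) := by
    rw [pow_add, pow_one, pow_mul, hj]; group
  intro y hy
  obtain ⟨l, rfl⟩ := Subgroup.mem_zpowers_iff.mp hy
  rw [← conj_zpow, hga, ← zpow_natCast, ← zpow_natCast, ← zpow_mul, ← zpow_mul, mul_comm]

theorem sq_mem_sq [Finite G] {n : ℕ} (hn : 1 ≤ n) (hG : Nat.card G = 2 ^ n) (hnc : ¬ IsCyclic G)
    (a : G) (ha : orderOf a = 2 ^ (n - 1)) (x : G) (hx : x ∉ Subgroup.zpowers a)
    (hx2 : x ^ 2 ∈ Subgroup.zpowers a) : ∃ w ∈ Subgroup.zpowers a, x ^ 2 = w ^ 2 := by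
  obtain ⟨i, hi⟩ := Subgroup.mem_zpowers_iff.mp hx2
  rcases Int.even_or_odd' i with ⟨m, hm | hm⟩
  · refine ⟨a ^ m, Subgroup.zpow_mem_zpowers a m, ?_⟩
    rw [← hi, hm, ← zpow_natCast, ← zpow_mul, mul_comm]; norm_num
  · exfalso
    -- a is a power of x
    have hcop : IsCoprime i ((2:ℤ) ^ (n - 1)) := by
      apply IsCoprime.pow_right
      exact ⟨1, -m, by rw [hm]; ring⟩
    obtain ⟨u, v, huv⟩ := hcop
    have haN : a ^ ((2:ℤ) ^ (n - 1)) = 1 := by
      have : ((2:ℤ) ^ (n - 1)) = ((2 ^ (n - 1) : ℕ) : ℤ) := by push_cast; rfl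
      rw [this, zpow_natCast, ← ha]; exact pow_orderOf_eq_one a
    have hax : a = (x ^ 2) ^ u := by
      calc a = a ^ (u * i + v * (2:ℤ) ^ (n - 1)) := by rw [huv, zpow_one]
        _ = (a ^ i) ^ u * (a ^ ((2:ℤ) ^ (n - 1))) ^ v := by
            rw [zpow_add, mul_comm u i, mul_comm v, zpow_mul, zpow_mul]
        _ = (x ^ 2) ^ u := by rw [haN, one_zpow, mul_one, hi]
    have hax' : a ∈ Subgroup.zpowers x := by
      rw [hax]
      exact Subgroup.zpow_mem _ (Subgroup.pow_mem _ (Subgroup.mem_zpowers x) 2) u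
    have hle : Subgroup.zpowers a ≤ Subgroup.zpowers x := by
      rw [Subgroup.zpowers_le]; exact hax'
    have hlt : Subgroup.zpowers a < Subgroup.zpowers x :=
      lt_of_le_of_ne hle (fun h => hx (h ▸ Subgroup.mem_zpowers x))
    have hc1 := kul_card_lt_of_lt hlt
    rw [Nat.card_zpowers, ha] at hc1
    have hc2 : Nat.card (Subgroup.zpowers x) ∣ 2 ^ n := by
      rw [← hG]; exact Subgroup.card_subgroup_dvd_card _
    obtain ⟨k, hkn, hk⟩ := (Nat.dvd_prime_pow Nat.prime_two).mp hc2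
    rw [hk] at hc1
    have hkn' : n - 1 < k := (Nat.pow_lt_pow_iff_right (by norm_num)).mp hc1
    have hk' : k = n := by omega
    rw [hk'] at hk
    have htop : Subgroup.zpowers x = ⊤ := by
      apply Subgroup.eq_top_of_card_eq
      rw [hk, hG]
    exact hnc (isCyclic_iff_exists_zpowers_eq_top.mpr ⟨x, htop⟩)

/-- a cyclic group of even order has exactly one involution. -/
theorem card_invol_inside [Finite G] (C : Subgroup G) (hC : IsCyclic C) (h2 : 2 ∣ Nat.card C) :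
    Nat.card {x : G // x ∈ C ∧ orderOf x = 2} = 1 := by
  have : Fact (Nat.Prime 2) := ⟨Nat.prime_two⟩
  obtain ⟨z, hz⟩ := exists_prime_orderOf_dvd_card' (G := C) 2 h2
  rw [Nat.card_eq_one_iff_unique]
  refine ⟨⟨?_⟩, ⟨⟨z.1, z.2, by rw [← hz]; exact Subgroup.orderOf_coe z⟩⟩⟩
  rintro ⟨a, haC, ha2⟩ ⟨b, hbC, hb2⟩
  apply Subtype.ext
  exact invol_unique C hC haC hbC ha2 hb2

theorem card_sq_eq_one [Finite G] (C : Subgroup G) (hC : IsCyclic C) (h2 : 2 ∣ Nat.card C) :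
    Nat.card {y : G // y ∈ C ∧ y ^ 2 = 1} = 2 := by
  have : Fact (Nat.Prime 2) := ⟨Nat.prime_two⟩
  rw [kul_card_split (fun y : G => y ∈ C ∧ y ^ 2 = 1) (fun y => y = 1)]
  have h1 : Nat.card {y : G // (y ∈ C ∧ y ^ 2 = 1) ∧ y = 1} = 1 := by
    rw [Nat.card_eq_one_iff_unique]
    refine ⟨⟨?_⟩, ⟨⟨1, ⟨C.one_mem, one_pow 2⟩, rfl⟩⟩⟩
    rintro ⟨a, -, ha⟩ ⟨b, -, hb⟩
    apply Subtype.ext
    exact ha.trans hb.symm
  have h3 : Nat.card {y : G // (y ∈ C ∧ y ^ 2 = 1) ∧ ¬ y = 1} = 1 := by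
    rw [← card_invol_inside C hC h2]
    apply Nat.card_congr
    refine Equiv.subtypeEquivRight (fun y => ?_)
    constructor
    · rintro ⟨⟨h1, h2⟩, h3⟩
      exact ⟨h1, orderOf_eq_prime_iff.mpr ⟨h2, h3⟩⟩
    · rintro ⟨h1, h2⟩
      exact ⟨⟨h1, (orderOf_eq_prime_iff.mp h2).1⟩, (orderOf_eq_prime_iff.mp h2).2⟩
  rw [h1, h3]

/-- in a 2-group, an odd power is trivial only for the trivial element. -/
theorem eq_one_of_odd_pow [Finite G] {n : ℕ} (hG : Nat.card G = 2 ^ n) (y : G) (j : ℕ)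
    (h : y ^ (1 + 2 * j) = 1) : y = 1 := by
  have h1 := orderOf_dvd_of_pow_eq_one h
  have h2 : orderOf y ∣ 2 ^ n := by rw [← hG]; exact orderOf_dvd_natCard y
  have hcop : Nat.Coprime (2 ^ n) (1 + 2 * j) := by
    apply Nat.Coprime.pow_left
    rw [Nat.coprime_add_mul_left_right]; norm_num
  have h3 : orderOf y = 1 := Nat.eq_one_of_dvd_coprimes hcop h2 h1
  exact orderOf_eq_one_iff.mp h3

/-- **involution count for non-cyclic 2-groups with a cyclic maximal subgroup not of maximal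
class.** -/
theorem card_invol_good [Finite G] {n : ℕ} (hn : 3 ≤ n) (hG : Nat.card G = 2 ^ n)
    (hnc : ¬ IsCyclic G) (h4 : (commutator G).index ≠ 4) (C : Subgroup G) (hC : IsCyclic C)
    (hCi : C.index = 2) : Nat.card {x : G // orderOf x = 2} = 3 := by
  have : Fact (Nat.Prime 2) := ⟨Nat.prime_two⟩
  have hab := mc_cyclic_comm C hC
  have hCcard : Nat.card C = 2 ^ (n - 1) := by
    have h := Subgroup.card_mul_index C
    rw [hCi, hG] at h
    have h2 : 2 ^ n = 2 ^ (n - 1) * 2 := by rw [← pow_succ]; congr 1; omega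
    omega
  have h2C : 2 ∣ Nat.card C := by
    rw [hCcard]; exact dvd_pow_self 2 (by omega)
  have hCn : C.Normal := Subgroup.normal_of_index_eq_two hCi
  obtain ⟨a, haC⟩ := exists_gen C hC
  have ha : orderOf a = 2 ^ (n - 1) := by rw [← Nat.card_zpowers, ← haC, hCcard]
  have hle := commutator_le_of_index_two C hCi
  have h8 := eight_dvd_index hG hnc h4
  have hle4 : commutator G ≤ Subgroup.zpowers (a ^ 4) :=
    commutator_le_pow_four hn hG a ha h8 (haC ▸ hle)
  rw [card_invol_split C, card_invol_inside C hC h2C]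
  -- an element outside C
  have hxex : ∃ x : G, x ∉ C := by
    by_contra h
    push Not at h
    have : C = ⊤ := by rw [eq_top_iff]; intro y _; exact h y
    rw [this, Subgroup.index_top] at hCi
    omega
  obtain ⟨x, hx⟩ := hxex
  obtain ⟨j, hj⟩ := conj_eq_pow a hle4 x
  have hx2 : x ^ 2 ∈ C := Subgroup.sq_mem_of_index_two hCi x
  obtain ⟨w, hwC, hw⟩ := sq_mem_sq (by omega) hG hnc a ha x (haC ▸ hx) (haC ▸ hx2)
  rw [← haC] at hwC
  -- solve v ^ (1 + 2j) = w⁻¹ in C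
  have hcop : Nat.Coprime (Nat.card C) (1 + 2 * j) := by
    rw [hCcard]
    apply Nat.Coprime.pow_left
    rw [Nat.coprime_add_mul_left_right]; norm_num
  obtain ⟨v, hv⟩ := (powCoprime hcop).surjective (⟨w, hwC⟩⁻¹ : C)
  rw [powCoprime_apply] at hv
  have hv' : (v : G) ^ (1 + 2 * j) = w⁻¹ := by
    simpa using congrArg Subtype.val hv
  set t := (v : G) * x with ht
  have htC : t ∉ C := by
    rw [ht, Subgroup.mul_mem_iff_of_index_two hCi]
    exact fun h => hx (h.mp v.2)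
  have ht2 : t ^ 2 = 1 := by
    have h1 : t ^ 2 = (v : G) * (x * v * x⁻¹) * x ^ 2 := by
      rw [ht, pow_two, pow_two]; group
    rw [h1, hj v (haC ▸ v.2), hw]
    have h2 : (v : G) * (v : G) ^ (1 + 4 * j) = ((v : G) ^ (1 + 2 * j)) ^ 2 := by
      rw [← pow_succ', ← pow_mul]; congr 1; ring
    rw [h2, hv', inv_pow, inv_mul_cancel]
  rw [card_invol_outside C hCi t htC ht2]
  obtain ⟨j', hj'⟩ := conj_eq_pow a hle4 t
  have e : {y : G // y ∈ C ∧ t * y * t⁻¹ = y⁻¹} ≃ {y : G // y ∈ C ∧ y ^ 2 = 1} :=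
    Equiv.subtypeEquivRight (fun y => by
      constructor
      · rintro ⟨hyC, hy⟩
        refine ⟨hyC, ?_⟩
        rw [hj' y (haC ▸ hyC)] at hy
        have h1 : (y ^ 2) ^ (1 + 2 * j') = 1 := by
          have : (y ^ 2) ^ (1 + 2 * j') = y ^ (1 + 4 * j') * y := by
            rw [← pow_mul, ← pow_succ]; congr 1; ring
          rw [this, hy, inv_mul_cancel]
        exact eq_one_of_odd_pow hG _ j' h1
      · rintro ⟨hyC, hy⟩
        refine ⟨hyC, ?_⟩
        rw [hj' y (haC ▸ hyC)]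
        have h1 : y ^ (1 + 4 * j') = y * (y ^ 2) ^ (2 * j') := by
          rw [← pow_mul, ← pow_succ']; congr 1; ring
        rw [h1, hy, one_pow, mul_one, eq_inv_iff_mul_eq_one, ← pow_two, hy])
  rw [Nat.card_congr e, card_sq_eq_one C hC h2C]

end Cfsg.Agent.Lib.Helper22.KulTwoC
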