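import Mathlib
import Cfsg.Agent.Lib.Helper22.KulTwoC

set_option autoImplicit false

namespace Cfsg.Agent.Lib.Helper22.KulTwoD

open Cfsg.Agent.Lib.helper23 Cfsg.Agent.Lib.Helper21 Cfsg.Agent.Lib.Helper22.KulTwoA
open Cfsg.Agent.Lib.Helper22.KulTwoC
open Cfsg.Agent.Lib.Helper1

universe u

variable {G : Type*} [Group G]

/-- the involution subgroup of a normal cyclic subgroup is normal. -/
theorem invol_sub_normal [Finite G] (C : Subgroup G) (hC : IsCyclic C) (hCn : C.Normal)
    (Z : Subgroup G) (hZC : Z ≤ C) (hZ : Nat.card Z = 2) : Z.Normal := by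
  obtain ⟨z, hzZ, hz2⟩ := exists_invol_of_card_two Z hZ
  have hZz := eq_zpowers_of_card_two Z hZ hzZ hz2
  refine ⟨fun x hx g => ?_⟩
  rw [hZz] at hx
  rcases mem_zpowers_invol hz2 hx with h | h
  · rw [h]; simp [Z.one_mem]
  · rw [h]
    have h1 : orderOf (g * z * g⁻¹) = 2 := by
      have := orderOf_injective (MulAut.conj g).toMonoidHom (MulAut.conj g).injective z
      simpa [MulAut.conj_apply] using this.trans hz2
    have h2 : g * z * g⁻¹ ∈ C := hCn.conj_mem z (hZC hzZ) g
    have h3 := invol_unique C hC (hZC hzZ) h2 hz2 h1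
    rw [← h3]; exact hzZ

theorem not_cyclic_quot [Finite G] {n : ℕ} (hn : 3 ≤ n) (hG : Nat.card G = 2 ^ n)
    (hnc : ¬ IsCyclic G) (C : Subgroup G) (hC : IsCyclic C) (hCi : C.index = 2)
    (Z : Subgroup G) [Z.Normal] (hZC : Z ≤ C) (hZ : Nat.card Z = 2) :
    ¬ IsCyclic (G ⧸ Z) := by
  intro hcyc
  have hQ : Nat.card (G ⧸ Z) = 2 ^ (n - 1) := by
    have h1 := Subgroup.card_eq_card_quotient_mul_card_subgroup Z
    rw [hG, hZ] at h1
    have h2 : 2 ^ n = 2 ^ (n - 1) * 2 := by rw [← pow_succ]; congr 1; omega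
    omega
  obtain ⟨q, hq⟩ := hcyc.exists_generator
  obtain ⟨g, rfl⟩ := QuotientGroup.mk'_surjective Z q
  have ho : orderOf (QuotientGroup.mk' Z g) = 2 ^ (n - 1) := by
    rw [orderOf_eq_card_of_forall_mem_zpowers hq, hQ]
  have hdvd : 2 ^ (n - 1) ∣ orderOf g := by
    rw [← ho]; exact orderOf_map_dvd (QuotientGroup.mk' Z) g
  have h4 : 4 ∣ Nat.card (Subgroup.zpowers g) := by
    rw [Nat.card_zpowers]
    refine dvd_trans ?_ hdvd
    exact pow_dvd_pow 2 (show 2 ≤ n - 1 by omega)
  have hZg := le_of_four_dvd C hC hCi Z hZC hZ _ h4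
  apply hnc
  rw [isCyclic_iff_exists_zpowers_eq_top]
  refine ⟨g, ?_⟩
  rw [eq_top_iff]
  intro x _
  obtain ⟨k, hk⟩ := Subgroup.mem_zpowers_iff.mp (hq (QuotientGroup.mk' Z x))
  rw [← map_zpow] at hk
  have h1 : (g ^ k)⁻¹ * x ∈ Z := by
    have := QuotientGroup.eq.mp hk
    exact this
  have h2 : x = g ^ k * ((g ^ k)⁻¹ * x) := by group
  rw [h2]
  exact Subgroup.mul_mem _ (Subgroup.zpow_mem_zpowers g k) (hZg h1)

theorem quot_comm_index_ne [Finite G] {n : ℕ} (hn : 4 ≤ n) (hG : Nat.card G = 2 ^ n)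
    (h4 : (commutator G).index ≠ 4) (C : Subgroup G) (hC : IsCyclic C) (hCi : C.index = 2)
    (Z : Subgroup G) [Z.Normal] (hZC : Z ≤ C) (hZ : Nat.card Z = 2) :
    (commutator (G ⧸ Z)).index ≠ 4 := by
  have : Fact (Nat.Prime 2) := ⟨Nat.prime_two⟩
  have hQ : Nat.card (G ⧸ Z) = 2 ^ (n - 1) := by
    have h1 := Subgroup.card_eq_card_quotient_mul_card_subgroup Z
    rw [hG, hZ] at h1
    have h2 : 2 ^ n = 2 ^ (n - 1) * 2 := by rw [← pow_succ]; congr 1; omega
    omega
  by_cases hZc : Z ≤ commutator G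
  · rw [mc_index_commutator_quotient Z hZc]; exact h4
  · have hbot : commutator G = ⊥ := by
      by_contra hne
      apply hZc
      have hpg : IsPGroup 2 G := IsPGroup.of_card hG
      have hnt : Nontrivial (commutator G) := by
        rwa [Subgroup.nontrivial_iff_ne_bot]
      obtain ⟨k, hk⟩ := (hpg.to_subgroup (commutator G)).exists_card_eq
      have hk0 : k ≠ 0 := by
        rintro rfl
        rw [pow_zero] at hk
        have := Finite.one_lt_card_iff_nontrivial.mpr hnt
        omega
      have h2 : 2 ∣ Nat.card (commutator G) := by rw [hk]; exact dvd_pow_self 2 hk0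
      obtain ⟨x, hx⟩ := exists_prime_orderOf_dvd_card' (G := commutator G) 2 h2
      have hx2 : orderOf (x : G) = 2 := by rw [← hx]; exact Subgroup.orderOf_coe x
      obtain ⟨z, hzZ, hz2⟩ := exists_invol_of_card_two Z hZ
      have hzx : z = (x : G) :=
        invol_unique C hC (hZC hzZ) (commutator_le_of_index_two C hCi x.2) hz2 hx2
      rw [eq_zpowers_of_card_two Z hZ hzZ hz2, Subgroup.zpowers_le, hzx]
      exact x.2
    rw [mc_commutator_quotient, hbot, Subgroup.map_bot, Subgroup.index_bot, hQ]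
    intro h
    have : 2 ^ 3 ≤ 2 ^ (n - 1) := Nat.pow_le_pow_right (by norm_num) (by omega)
    omega

/-- the image of a cyclic subgroup of index two. -/
theorem map_cyclic_index [Finite G] (C : Subgroup G) (hC : IsCyclic C) (hCi : C.index = 2)
    (Z : Subgroup G) [Z.Normal] (hZC : Z ≤ C) :
    IsCyclic (C.map (QuotientGroup.mk' Z)) ∧ (C.map (QuotientGroup.mk' Z)).index = 2 := by
  constructor
  · have := hC
    have hs : Function.Surjective ((QuotientGroup.mk' Z).subgroupMap C) :=
      (QuotientGroup.mk' Z).subgroupMap_surjective C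
    exact isCyclic_of_surjective _ hs
  · rw [Subgroup.index_map_eq _ (QuotientGroup.mk'_surjective Z)
      (by rw [QuotientGroup.ker_mk']; exact hZC)]
    exact hCi

/-- **subgroup counts for non-cyclic 2-groups with a cyclic maximal subgroup, not of maximal
class.** -/
theorem card_subgroups_good_cyc : ∀ (n : ℕ) (G : Type u) [Group G] [Finite G], 2 ≤ n →
    Nat.card G = 2 ^ n → ¬ IsCyclic G → (3 ≤ n → (commutator G).index ≠ 4) →
    ∀ C : Subgroup G, IsCyclic C → C.index = 2 → ∀ b : ℕ, 1 ≤ b → b + 1 ≤ n →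
    Nat.card {H : Subgroup G // Nat.card H = 2 ^ b} ≡ 3 [MOD 4] := by
  have : Fact (Nat.Prime 2) := ⟨Nat.prime_two⟩
  intro n
  induction n using Nat.strong_induction_on with
  | _ n ih =>
    intro G _ _ hn hG hnc h4 C hC hCi b hb1 hbn
    rcases Nat.lt_or_ge (b + 1) n with hlt | hge
    swap
    · -- b = n - 1 : maximal subgroups
      have hb' : b = n - 1 := by omega
      have e1 : {H : Subgroup G // Nat.card H = 2 ^ b} ≃ {M : Subgroup G // M.index = 2} :=
        Equiv.subtypeEquivRight (fun M => by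
          have := kul_card_of_index hG (show 1 ≤ n by omega) M
          rw [pow_one] at this
          rw [hb']
          exact this.symm)
      rw [Nat.card_congr e1]
      exact kul_card_maximal hG hnc
    · have hn3 : 3 ≤ n := by omega
      rcases Nat.lt_or_ge b 2 with hb | hb
      · have hb' : b = 1 := by omega
        subst hb'
        rw [card_subgroups_two, card_invol_good hn3 hG hnc (h4 hn3) C hC hCi]
      · have hn4 : 4 ≤ n := by omega
        have hCcard : Nat.card C = 2 ^ (n - 1) := by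
          have h := Subgroup.card_mul_index C
          rw [hCi, hG] at h
          have h2 : 2 ^ n = 2 ^ (n - 1) * 2 := by rw [← pow_succ]; congr 1; omega
          omega
        have h2C : 2 ∣ Nat.card C := by
          rw [hCcard]; exact dvd_pow_self 2 (by omega)
        obtain ⟨z, hz⟩ := exists_prime_orderOf_dvd_card' (G := C) 2 h2C
        have hz2 : orderOf (z : G) = 2 := by rw [← hz]; exact Subgroup.orderOf_coe z
        set Z : Subgroup G := Subgroup.zpowers (z : G) with hZdef
        have hZC : Z ≤ C := by rw [hZdef, Subgroup.zpowers_le]; exact z.2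
        have hZ : Nat.card Z = 2 := by rw [hZdef, Nat.card_zpowers, hz2]
        have hCn : C.Normal := Subgroup.normal_of_index_eq_two hCi
        haveI hZn : Z.Normal := invol_sub_normal C hC hCn Z hZC hZ
        have hQ : Nat.card (G ⧸ Z) = 2 ^ (n - 1) := by
          have h1 := Subgroup.card_eq_card_quotient_mul_card_subgroup Z
          rw [hG, hZ] at h1
          have h2 : 2 ^ n = 2 ^ (n - 1) * 2 := by rw [← pow_succ]; congr 1; omega
          omega
        rw [card_subgroups_quot hG C hC hCi Z hZC hZ hb (by omega)]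
        obtain ⟨hc1, hc2⟩ := map_cyclic_index C hC hCi Z hZC
        exact ih (n - 1) (by omega) (G ⧸ Z) (by omega) hQ
          (not_cyclic_quot hn3 hG hnc C hC hCi Z hZC hZ)
          (fun _ => quot_comm_index_ne hn4 hG (h4 hn3) C hC hCi Z hZC hZ)
          _ hc1 hc2 (b - 1) (by omega) (by omega)

end Cfsg.Agent.Lib.Helper22.KulTwoD
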