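import Mathlib
import Cfsg.Agent.Lib.Helper22.KulTwoA
import Cfsg.Agent.Lib.Helper21.MaxClassTwo

set_option autoImplicit false

namespace Cfsg.Agent.Lib.Helper22.KulTwoE

open Cfsg.Agent.Lib.helper23 Cfsg.Agent.Lib.Helper21 Cfsg.Agent.Lib.Helper22.KulTwoA
open scoped commutatorElement

universe u

variable {X : Type*} [Group X]

/-- a normal subgroup of order two is central. -/
theorem card_two_normal_le_center [Finite X] (N : Subgroup X) [hN : N.Normal]
    (hc : Nat.card N = 2) : N ≤ Subgroup.center X := by
  obtain ⟨z, hzN, hz2⟩ := exists_invol_of_card_two N hc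
  have hNz := eq_zpowers_of_card_two N hc hzN hz2
  intro x hx
  rw [hNz] at hx
  rw [Subgroup.mem_center_iff]
  intro g
  rcases mem_zpowers_invol hz2 hx with h | h
  · rw [h]; simp
  · rw [h]
    have h1 : g * z * g⁻¹ ∈ Subgroup.zpowers z := by
      rw [← hNz]; exact hN.conj_mem z hzN g
    rcases mem_zpowers_invol hz2 h1 with h2 | h2
    · exfalso
      have : z = 1 := by
        have h3 : g * z * g⁻¹ = 1 := h2
        have : z = g⁻¹ * (g * z * g⁻¹) * g := by group
        rw [this, h3]; group
      rw [this, orderOf_one] at hz2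
      omega
    · calc g * z = (g * z * g⁻¹) * g := by group
        _ = z * g := by rw [h2]

/-- when commutators are central, `g ↦ ⁅g, x⁆` is a homomorphism. -/
def commHom (hc : commutator X ≤ Subgroup.center X) (x : X) : X →* commutator X where
  toFun g := ⟨⁅g, x⁆, by
    rw [commutator_def]
    exact Subgroup.commutator_mem_commutator (Subgroup.mem_top _) (Subgroup.mem_top _)⟩
  map_one' := by
    apply Subtype.ext
    simp
  map_mul' := by
    intro g h
    apply Subtype.ext
    have hcen : ⁅h, x⁆ ∈ Subgroup.center X := hc (by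
      rw [commutator_def]
      exact Subgroup.commutator_mem_commutator (Subgroup.mem_top _) (Subgroup.mem_top _))
    have h1 : ⁅g * h, x⁆ = g * ⁅h, x⁆ * g⁻¹ * ⁅g, x⁆ := by
      simp only [commutatorElement_def]; group
    have h2 : g * ⁅h, x⁆ = ⁅h, x⁆ * g := (Subgroup.mem_center_iff.mp hcen g)
    have h3 : ⁅g, x⁆ * ⁅h, x⁆ = ⁅h, x⁆ * ⁅g, x⁆ := (Subgroup.mem_center_iff.mp hcen _)
    change ⁅g * h, x⁆ = ⁅g, x⁆ * ⁅h, x⁆
    rw [h1, h2, h3]; group

theorem commHom_ker (hc : commutator X ≤ Subgroup.center X) (x : X) :
    (commHom hc x).ker = Subgroup.centralizer {x} := by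
  ext g
  rw [MonoidHom.mem_ker, Subgroup.mem_centralizer_singleton_iff]
  constructor
  · intro h
    have h1 : ⁅g, x⁆ = 1 := congrArg Subtype.val h
    rw [commutatorElement_eq_one_iff_mul_comm] at h1
    exact h1
  · intro h
    apply Subtype.ext
    change ⁅g, x⁆ = 1
    rw [commutatorElement_eq_one_iff_mul_comm]
    exact h

theorem index_centralizer_le [Finite X] (hc : commutator X ≤ Subgroup.center X)
    (h2 : Nat.card (commutator X) = 2) (x : X) : (Subgroup.centralizer {x}).index ≤ 2 := by
  rw [← commHom_ker hc x, Subgroup.index_ker, ← h2]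
  exact Subgroup.card_le_card_group _

/-- cardinalities of subgroups of a group of order 16. -/
theorem card_cases [Finite X] (h16 : Nat.card X = 16) (S : Subgroup X) :
    Nat.card S = 1 ∨ Nat.card S = 2 ∨ Nat.card S = 4 ∨ Nat.card S = 8 ∨ Nat.card S = 16 := by
  have h1 : Nat.card S ∣ 2 ^ 4 := by
    have := Subgroup.card_subgroup_dvd_card S
    rw [h16] at this
    exact this
  obtain ⟨k, hk, hk'⟩ := (Nat.dvd_prime_pow Nat.prime_two).mp h1
  interval_cases k <;> simp_all

/-- the center of a group of order 16 with commutator subgroup of order 2 has order 4. -/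
theorem card_center [Finite X] (h16 : Nat.card X = 16) (h2 : Nat.card (commutator X) = 2) :
    Nat.card (Subgroup.center X) = 4 := by
  have : Fact (Nat.Prime 2) := ⟨Nat.prime_two⟩
  have hc : commutator X ≤ Subgroup.center X := card_two_normal_le_center _ h2
  -- noncommuting pair
  have hna : ∃ x y : X, x * y ≠ y * x := by
    by_contra h
    push Not at h
    have : commutator X = ⊥ := by
      rw [eq_bot_iff, commutator_def, Subgroup.commutator_le]
      intro a _ b _
      rw [Subgroup.mem_bot, commutatorElement_eq_one_iff_mul_comm]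
      exact h a b
    rw [this, Subgroup.card_bot] at h2
    omega
  obtain ⟨x, y, hxy⟩ := hna
  set A := Subgroup.centralizer ({x} : Set X) with hA
  set B := Subgroup.centralizer ({y} : Set X) with hB
  have hxA : x ∈ A := by rw [hA, Subgroup.mem_centralizer_singleton_iff]
  have hyB : y ∈ B := by rw [hB, Subgroup.mem_centralizer_singleton_iff]
  have hyA : y ∉ A := by
    rw [hA, Subgroup.mem_centralizer_singleton_iff]; exact fun h => hxy h.symm
  have hxB : x ∉ B := by
    rw [hB, Subgroup.mem_centralizer_singleton_iff]; exact fun h => hxy h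
  have hAi : A.index ≤ 2 := index_centralizer_le hc h2 x
  have hBi : B.index ≤ 2 := index_centralizer_le hc h2 y
  have hAc : Nat.card A = 8 := by
    have h1 := Subgroup.card_mul_index A
    rw [h16] at h1
    have hne : A ≠ ⊤ := fun h => hyA (h ▸ Subgroup.mem_top y)
    have h3 : A.index ≠ 1 := fun h => hne (Subgroup.index_eq_one.mp h)
    have h4 : A.index ≠ 0 := Subgroup.index_ne_zero_of_finite
    have : A.index = 2 := by omega
    rw [this] at h1
    omega
  set W := A ⊓ B with hW
  have hWi : W.index ≤ 4 := by
    have h1 : W.index ≤ A.index * B.index := Subgroup.index_inf_le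
    have h2 : A.index * B.index ≤ 2 * 2 := Nat.mul_le_mul hAi hBi
    omega
  have hWc : Nat.card W = 4 := by
    have h1 := Subgroup.card_mul_index W
    rw [h16] at h1
    have h3 : W < A := lt_of_le_of_ne inf_le_left (fun h => hxB ((h ▸ hxA : x ∈ W).2))
    have h4 := kul_card_lt_of_lt h3
    rw [hAc] at h4
    have h5 : W.index ≠ 0 := Subgroup.index_ne_zero_of_finite
    rcases card_cases h16 W with h | h | h | h | h <;> rw [h] at h1 h4 <;> first | exact h | omega
  have hWab : IsMulCommutative W := IsPGroup.isMulCommutative_of_card_eq_prime_sq (p := 2) hWc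
  have hWZ : W ≤ Subgroup.center X := by
    intro w hw
    set T := Subgroup.centralizer ({w} : Set X) with hT
    have hWT : W ≤ T := by
      intro v hv
      rw [hT, Subgroup.mem_centralizer_singleton_iff]
      have := hWab.is_comm.comm (⟨v, hv⟩ : W) ⟨w, hw⟩
      exact congrArg Subtype.val this
    have hxT : x ∈ T := by
      rw [hT, Subgroup.mem_centralizer_singleton_iff]
      have hwA : w ∈ A := hw.1
      rw [hA, Subgroup.mem_centralizer_singleton_iff] at hwA
      exact hwA.symm
    have hyT : y ∈ T := by
      rw [hT, Subgroup.mem_centralizer_singleton_iff]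
      have hwB : w ∈ B := hw.2
      rw [hB, Subgroup.mem_centralizer_singleton_iff] at hwB
      exact hwB.symm
    -- T ⊓ A = A
    have h1 : W < T ⊓ A :=
      lt_of_le_of_ne (le_inf hWT inf_le_left) (fun h => hxB ((h ▸ (⟨hxT, hxA⟩ : x ∈ T ⊓ A) : x ∈ W).2))
    have h2 := kul_card_lt_of_lt h1
    rw [hWc] at h2
    have h3 : Nat.card (T ⊓ A : Subgroup X) ≤ 8 := by
      rw [← hAc]; exact Subgroup.card_le_of_le inf_le_right
    have h4 : Nat.card (T ⊓ A : Subgroup X) = 8 := by
      rcases card_cases h16 (T ⊓ A) with h | h | h | h | h <;> omega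
    have hAT : A ≤ T := by
      have : T ⊓ A = A := Subgroup.eq_of_le_of_card_ge inf_le_right (by rw [h4, hAc])
      rw [← this]; exact inf_le_left
    have h5 : A < T := lt_of_le_of_ne hAT (fun h => hyA (h ▸ hyT))
    have h6 := kul_card_lt_of_lt h5
    rw [hAc] at h6
    have h7 : Nat.card T = 16 := by
      rcases card_cases h16 T with h | h | h | h | h <;> omega
    have hTtop : T = ⊤ := Subgroup.eq_top_of_card_eq T (by rw [h7, h16])
    rw [Subgroup.mem_center_iff]
    intro g
    have : g ∈ T := hTtop ▸ Subgroup.mem_top g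
    rw [hT, Subgroup.mem_centralizer_singleton_iff] at this
    exact this
  have hZge : 4 ≤ Nat.card (Subgroup.center X) := by
    rw [← hWc]; exact Subgroup.card_le_of_le hWZ
  have hZne : Subgroup.center X ≠ ⊤ := by
    intro h
    apply hxy
    have : x ∈ Subgroup.center X := h ▸ Subgroup.mem_top x
    exact (Subgroup.mem_center_iff.mp this y).symm
  have hZ8 : Nat.card (Subgroup.center X) ≠ 8 := by
    intro h8
    have hq : Nat.card (X ⧸ Subgroup.center X) = 2 := by
      have := mc_card_center_mul (X := X)
      rw [h8, h16] at this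
      omega
    have hcyc : IsCyclic (X ⧸ Subgroup.center X) := isCyclic_of_prime_card (p := 2) hq
    exact hZne (mc_center_top_of_cyclic hcyc)
  have hZ16 : Nat.card (Subgroup.center X) ≠ 16 := by
    intro h
    exact hZne (Subgroup.eq_top_of_card_eq _ (by rw [h, h16]))
  rcases card_cases h16 (Subgroup.center X) with h | h | h | h | h <;> omega

/-- a maximal subgroup is abelian iff it contains the center. -/
theorem abelian_iff_center_le [Finite X] (h16 : Nat.card X = 16)
    (h2 : Nat.card (commutator X) = 2) (M : Subgroup X) (hM : M.index = 2) :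
    (∀ a ∈ M, ∀ b ∈ M, a * b = b * a) ↔ Subgroup.center X ≤ M := by
  have hZc := card_center h16 h2
  have hMc : Nat.card M = 8 := by
    have h1 := Subgroup.card_mul_index M
    rw [h16, hM] at h1
    omega
  constructor
  · intro hab z hz
    by_contra hzM
    -- every element is (element of M) * (central element)
    have hdec : ∀ g : X, ∃ m ∈ M, ∃ ζ ∈ Subgroup.center X, g = m * ζ := by
      intro g
      by_cases hg : g ∈ M
      · exact ⟨g, hg, 1, Subgroup.one_mem _, (mul_one g).symm⟩
      · refine ⟨g * z⁻¹, ?_, z, hz, by group⟩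
        rw [Subgroup.mul_mem_iff_of_index_two hM]
        constructor
        · intro h; exact absurd h hg
        · intro h; exact absurd (by simpa using M.inv_mem h) hzM
    have hcomm : ∀ g h : X, g * h = h * g := by
      intro g h
      obtain ⟨m, hm, ζ, hζ, rfl⟩ := hdec g
      obtain ⟨m', hm', ζ', hζ', rfl⟩ := hdec h
      have e1 : ∀ t : X, t * ζ = ζ * t := fun t => Subgroup.mem_center_iff.mp hζ t
      have e2 : ∀ t : X, t * ζ' = ζ' * t := fun t => Subgroup.mem_center_iff.mp hζ' t
      calc m * ζ * (m' * ζ') = (m * m') * (ζ * ζ') := by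
            rw [mul_assoc, ← mul_assoc ζ, ← e1 m']; group
        _ = (m' * m) * (ζ' * ζ) := by rw [hab m hm m' hm', e2 ζ]
        _ = m' * ζ' * (m * ζ) := by
            rw [mul_assoc m' ζ', ← mul_assoc ζ' m, ← e2 m]; group
    have : commutator X = ⊥ := by
      rw [eq_bot_iff, commutator_def, Subgroup.commutator_le]
      intro a _ b _
      rw [Subgroup.mem_bot, commutatorElement_eq_one_iff_mul_comm]
      exact hcomm a b
    rw [this, Subgroup.card_bot] at h2
    omega
  · intro hZM
    have hrel : (Subgroup.center X).relIndex M = 2 := by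
      have h1 := kul_card_inf_mul_relIndex (Subgroup.center X) M
      rw [inf_eq_left.mpr hZM, hZc, hMc] at h1
      omega
    have key : ∀ a ∈ M, ∀ b ∈ M, a ∉ Subgroup.center X → b ∉ Subgroup.center X →
        a⁻¹ * b ∈ Subgroup.center X := by
      intro a ha b hb haZ hbZ
      have h1 := Subgroup.mul_mem_iff_of_index_two (H := (Subgroup.center X).subgroupOf M) hrel
        (a := (⟨a, ha⟩ : M)⁻¹) (b := ⟨b, hb⟩)
      simp only [Subgroup.mem_subgroupOf] at h1
      have h2 : ((⟨a, ha⟩ : M)⁻¹ * ⟨b, hb⟩ : M).1 = a⁻¹ * b := rfl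
      rw [h2] at h1
      apply h1.mpr
      constructor
      · intro h
        exfalso; apply haZ
        have : ((⟨a, ha⟩ : M)⁻¹ : M).1 = a⁻¹ := rfl
        rw [this] at h
        simpa using (Subgroup.center X).inv_mem h
      · intro h; exact absurd h hbZ
    intro a ha b hb
    by_cases haZ : a ∈ Subgroup.center X
    · exact (Subgroup.mem_center_iff.mp haZ b).symm
    by_cases hbZ : b ∈ Subgroup.center X
    · exact Subgroup.mem_center_iff.mp hbZ a
    have hz := key a ha b hb haZ hbZ
    have e1 : ∀ t : X, t * (a⁻¹ * b) = (a⁻¹ * b) * t := fun t => Subgroup.mem_center_iff.mp hz t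
    calc a * b = a * (a * (a⁻¹ * b)) := by group
      _ = a * ((a⁻¹ * b) * a) := by rw [e1 a]
      _ = b * a := by group

/-- **order 16, commutator subgroup of order 2: the number of non-abelian maximal subgroups is
divisible by four.** -/
theorem four_dvd_nonabelian [Finite X] (h16 : Nat.card X = 16)
    (h2 : Nat.card (commutator X) = 2) :
    4 ∣ Nat.card {M : Subgroup X // M.index = 2 ∧ ¬ (∀ a ∈ M, ∀ b ∈ M, a * b = b * a)} := by
  have : Fact (Nat.Prime 2) := ⟨Nat.prime_two⟩
  have hZc := card_center h16 h2
  have hX : Nat.card X = 2 ^ 4 := by rw [h16]; norm_num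
  have hZne : Subgroup.center X ≠ ⊤ := by
    intro h
    have : Nat.card (Subgroup.center X) = Nat.card X := by rw [h, Subgroup.card_top]
    rw [hZc, h16] at this
    omega
  have hnc : ¬ IsCyclic X := by
    intro h
    have := h
    have hcomm : ∀ a b : X, a * b = b * a := fun a b => (IsCyclic.commGroup (α := X)).mul_comm a b
    apply hZne
    rw [eq_top_iff]
    intro a _
    rw [Subgroup.mem_center_iff]
    intro b
    exact hcomm b a
  have h1 := kul_card_maximal hX hnc
  have hq : Nat.card (X ⧸ Subgroup.center X) = 2 ^ 2 := by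
    have := mc_card_center_mul (X := X)
    rw [hZc, h16] at this
    omega
  have hncq : ¬ IsCyclic (X ⧸ Subgroup.center X) := fun h => hZne (mc_center_top_of_cyclic h)
  have h3 := kul_card_maximal hq hncq
  rw [← Nat.card_congr (kulQuotEquiv (Subgroup.center X) 2)] at h3
  have h4 := kul_card_split (fun M : Subgroup X => M.index = 2)
    (fun M => ∀ a ∈ M, ∀ b ∈ M, a * b = b * a)
  have e : {M : Subgroup X // M.index = 2 ∧ ∀ a ∈ M, ∀ b ∈ M, a * b = b * a} ≃
      {M : Subgroup X // M.index = 2 ∧ Subgroup.center X ≤ M} :=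
    Equiv.subtypeEquivRight (fun M => by
      constructor
      · rintro ⟨hM, hab⟩
        exact ⟨hM, (abelian_iff_center_le h16 h2 M hM).mp hab⟩
      · rintro ⟨hM, hZ⟩
        exact ⟨hM, (abelian_iff_center_le h16 h2 M hM).mpr hZ⟩)
  rw [Nat.card_congr e] at h4
  unfold Nat.ModEq at h1 h3
  omega

end Cfsg.Agent.Lib.Helper22.KulTwoE
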