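import Mathlib
import Cfsg.Agent.Lib.Helper22.KulTwoC
import Cfsg.Agent.Lib.Helper22.KulTwoE

set_option autoImplicit false

namespace Cfsg.Agent.Lib.Helper22.KulTwoF

open Cfsg.Agent.Lib.helper23 Cfsg.Agent.Lib.Helper21 Cfsg.Agent.Lib.Helper22.KulTwoA
open Cfsg.Agent.Lib.Helper22.KulTwoC Cfsg.Agent.Lib.Helper22.KulTwoE
open Cfsg.Agent.Lib.Helper1
open scoped commutatorElement

universe u

variable {G : Type*} [Group G]

/-- odd powers of an element of 2-power order generate the same cyclic group. -/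
theorem mem_zpowers_odd_zpow (a : G) {k : ℕ} (ha : orderOf a = 2 ^ k) (i : ℤ) (hi : Odd i) :
    a ∈ Subgroup.zpowers (a ^ i) := by
  obtain ⟨m, hm⟩ := hi
  have hcop : IsCoprime i ((2:ℤ) ^ k) := by
    apply IsCoprime.pow_right
    exact ⟨1, -m, by rw [hm]; ring⟩
  obtain ⟨u, v, huv⟩ := hcop
  have haN : a ^ ((2:ℤ) ^ k) = 1 := by
    have : ((2:ℤ) ^ k) = ((2 ^ k : ℕ) : ℤ) := by push_cast; rfl
    rw [this, zpow_natCast, ← ha]; exact pow_orderOf_eq_one a
  have hax : a = (a ^ i) ^ u := by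
    calc a = a ^ (u * i + v * (2:ℤ) ^ k) := by rw [huv, zpow_one]
      _ = (a ^ i) ^ u * (a ^ ((2:ℤ) ^ k)) ^ v := by
          rw [zpow_add, mul_comm u i, mul_comm v, zpow_mul, zpow_mul]
      _ = (a ^ i) ^ u := by rw [haN, one_zpow, mul_one]
  have h := Subgroup.zpow_mem_zpowers (a ^ i) u
  rwa [← hax] at h

/-- a proper subgroup of a cyclic 2-group lies in the subgroup of squares. -/
theorem le_sq_of_ne (d : G) {k : ℕ} (hd : orderOf d = 2 ^ k) (S : Subgroup G)
    (hS : S ≤ Subgroup.zpowers d) (hne : S ≠ Subgroup.zpowers d) :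
    S ≤ Subgroup.zpowers (d ^ 2) := by
  intro y hy
  obtain ⟨i, rfl⟩ := Subgroup.mem_zpowers_iff.mp (hS hy)
  rcases Int.even_or_odd i with he | ho
  · obtain ⟨m, hm⟩ := he
    rw [Subgroup.mem_zpowers_iff]
    exact ⟨m, by rw [hm, ← zpow_natCast, ← zpow_mul]; congr 1; push_cast; ring⟩
  · exfalso
    apply hne
    apply le_antisymm hS
    rw [Subgroup.zpowers_le]
    have h1 := mem_zpowers_odd_zpow d hd i ho
    have h2 : Subgroup.zpowers (d ^ i) ≤ S := by
      rw [Subgroup.zpowers_le]; exact hy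
    exact h2 h1

/-- the subgroup of squares of a normal cyclic subgroup is normal. -/
theorem sq_normal (d : G) (hn : (Subgroup.zpowers d).Normal) :
    (Subgroup.zpowers (d ^ 2)).Normal := by
  refine ⟨fun x hx g => ?_⟩
  obtain ⟨k, rfl⟩ := Subgroup.mem_zpowers_iff.mp hx
  have h1 : g * d * g⁻¹ ∈ Subgroup.zpowers d := hn.conj_mem d (Subgroup.mem_zpowers d) g
  obtain ⟨i, hi⟩ := Subgroup.mem_zpowers_iff.mp h1
  have e1 : g * (d ^ 2) ^ k * g⁻¹ = (g * d ^ 2 * g⁻¹) ^ k := (conj_zpow).symm
  have e2 : g * d ^ 2 * g⁻¹ = (g * d * g⁻¹) ^ 2 := (conj_pow).symm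
  have e3 : (d ^ i) ^ 2 = (d ^ 2) ^ i := by
    rw [← zpow_natCast (d ^ i) 2, ← zpow_mul, ← zpow_natCast d 2, ← zpow_mul, mul_comm]
  have h2 : g * (d ^ 2) ^ k * g⁻¹ = ((d ^ 2) ^ i) ^ k := by
    rw [e1, e2, ← hi, e3]
  rw [h2]
  exact Subgroup.zpow_mem _ (Subgroup.zpow_mem_zpowers _ i) k

theorem card_commutator_dvd [Finite G] {n : ℕ} (hn : 3 ≤ n) (hG : Nat.card G = 2 ^ n)
    (h8 : 8 ∣ (commutator G).index) : Nat.card (commutator G) ∣ 2 ^ (n - 3) := by
  have h1 := Subgroup.card_mul_index (commutator G)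
  rw [hG] at h1
  obtain ⟨k, hk⟩ := h8
  rw [hk] at h1
  have h2 : 2 ^ n = 2 ^ (n - 3) * 8 := by
    have : (8:ℕ) = 2 ^ 3 := by norm_num
    rw [this, ← pow_add]; congr 1; omega
  have h3 : Nat.card (commutator G) * k = 2 ^ (n - 3) := by
    have : Nat.card (commutator G) * k * 8 = 2 ^ (n - 3) * 8 := by rw [← h2, ← h1]; ring
    exact Nat.eq_of_mul_eq_mul_right (by norm_num) this
  exact ⟨k, h3.symm⟩

/-- the cardinality of `⁅M, M⁆` in terms of the index of the commutator subgroup of `↥M`. -/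
theorem card_comm_sub [Finite G] (M : Subgroup G) :
    Nat.card (⁅M, M⁆ : Subgroup G) * (commutator M).index = Nat.card M := by
  rw [← Subgroup.map_subtype_commutator,
    Nat.card_congr (Subgroup.equivMapOfInjective (commutator M) M.subtype
      M.subtype_injective).symm.toEquiv]
  exact Subgroup.card_mul_index _

/-- abelian image modulo `K`. -/
theorem map_abelian_iff (K : Subgroup G) [K.Normal] (M : Subgroup G) :
    (∀ a ∈ M.map (QuotientGroup.mk' K), ∀ b ∈ M.map (QuotientGroup.mk' K), a * b = b * a) ↔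
      ⁅M, M⁆ ≤ K := by
  constructor
  · intro h
    rw [Subgroup.commutator_le]
    intro a ha b hb
    rw [← QuotientGroup.eq_one_iff, ← QuotientGroup.mk'_apply, map_commutatorElement,
      commutatorElement_eq_one_iff_mul_comm]
    exact h _ (Subgroup.mem_map_of_mem _ ha) _ (Subgroup.mem_map_of_mem _ hb)
  · intro h a' ha' b' hb'
    obtain ⟨a, ha, rfl⟩ := Subgroup.mem_map.mp ha'
    obtain ⟨b, hb, rfl⟩ := Subgroup.mem_map.mp hb'
    rw [← commutatorElement_eq_one_iff_mul_comm, ← map_commutatorElement,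
      QuotientGroup.mk'_apply, QuotientGroup.eq_one_iff]
    exact h (Subgroup.commutator_mem_commutator ha hb)

/-- **the number of maximal subgroups of maximal class is divisible by four.** -/
theorem four_dvd_maxclass [Finite G] {n : ℕ} (hn : 4 ≤ n) (hG : Nat.card G = 2 ^ n)
    (hnc : ¬ IsCyclic G) (h4 : (commutator G).index ≠ 4) :
    4 ∣ Nat.card {M : Subgroup G // M.index = 2 ∧ Group.nilpotencyClass M = n - 2} := by
  have : Fact (Nat.Prime 2) := ⟨Nat.prime_two⟩
  by_cases hex : ∃ H : Subgroup G, H.index = 2 ∧ Group.nilpotencyClass H = n - 2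
  swap
  · have : IsEmpty {M : Subgroup G // M.index = 2 ∧ Group.nilpotencyClass M = n - 2} :=
      ⟨fun M => hex ⟨M.1, M.2⟩⟩
    rw [Nat.card_of_isEmpty]
    exact dvd_zero 4
  obtain ⟨H, hHi, hHc⟩ := hex
  have hpg : IsPGroup 2 G := IsPGroup.of_card hG
  have hcardM : ∀ M : Subgroup G, M.index = 2 → Nat.card M = 2 ^ (n - 1) := by
    intro M hM
    have h := Subgroup.card_mul_index M
    rw [hM, hG] at h
    have h2 : 2 ^ n = 2 ^ (n - 1) * 2 := by rw [← pow_succ]; congr 1; omega
    omega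
  have h8 := eight_dvd_index hG hnc h4
  have hDdvd := card_commutator_dvd (by omega) hG h8
  have hpow : 2 ^ (n - 1) = 2 ^ (n - 3) * 4 := by
    have : (4:ℕ) = 2 ^ 2 := by norm_num
    rw [this, ← pow_add]; congr 1; omega
  -- maximal class maximal subgroups have full commutator subgroup
  have hfull : ∀ M : Subgroup G, M.index = 2 → Group.nilpotencyClass M = n - 2 →
      Nat.card (⁅M, M⁆ : Subgroup G) = 2 ^ (n - 3) := by
    intro M hM hMc
    obtain ⟨hi, -⟩ := mc_two_index (n - 1) M (by omega) (hcardM M hM)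
      (by rw [hMc]; omega)
    have h1 := card_comm_sub M
    rw [hi, hcardM M hM, hpow] at h1
    exact Nat.eq_of_mul_eq_mul_right (by norm_num) h1
  have hsub : ∀ M : Subgroup G, (⁅M, M⁆ : Subgroup G) ≤ commutator G := by
    intro M
    rw [commutator_def]
    exact Subgroup.commutator_mono le_top le_top
  have hDcard : Nat.card (commutator G) = 2 ^ (n - 3) := by
    apply Nat.dvd_antisymm hDdvd
    rw [← hfull H hHi hHc]
    exact Subgroup.card_dvd_of_le (hsub H)
  have hHD : (⁅H, H⁆ : Subgroup G) = commutator G :=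
    Subgroup.eq_of_le_of_card_ge (hsub H) (by rw [hDcard, hfull H hHi hHc])
  -- the commutator subgroup is cyclic
  have hDcyc : IsCyclic (commutator G) := by
    obtain ⟨hi, -⟩ := mc_two_index (n - 1) H (by omega) (hcardM H hHi) (by rw [hHc]; omega)
    obtain ⟨-, -, C, hC, hCi, -, -⟩ := mc_structure (n - 1) (by omega) (hcardM H hHi) hi
    have hle := commutator_le_of_index_two C hCi
    have := hC
    have h1 : IsCyclic (commutator H) := Subgroup.isCyclic_of_le hle
    have h2 : IsCyclic ((commutator H).map H.subtype) :=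
      isCyclic_of_surjective _ (H.subtype.subgroupMap_surjective (commutator H))
    rw [Subgroup.map_subtype_commutator, hHD] at h2
    exact h2
  obtain ⟨d, hd⟩ := exists_gen _ hDcyc
  have hdo : orderOf d = 2 ^ (n - 3) := by rw [← Nat.card_zpowers, ← hd, hDcard]
  have hDn : (Subgroup.zpowers d).Normal := by rw [← hd]; infer_instance
  set K : Subgroup G := Subgroup.zpowers (d ^ 2) with hK
  haveI hKn : K.Normal := sq_normal d hDn
  have hKD : K ≤ commutator G := by
    rw [hK, hd, Subgroup.zpowers_le]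
    exact Subgroup.pow_mem _ (Subgroup.mem_zpowers d) 2
  have hKcard : Nat.card K = 2 ^ (n - 4) := by
    rw [hK, Nat.card_zpowers, orderOf_pow_of_dvd (by norm_num)
      (by rw [hdo]; exact dvd_pow_self 2 (by omega)), hdo]
    have : 2 ^ (n - 3) = 2 ^ (n - 4) * 2 := by rw [← pow_succ]; congr 1; omega
    rw [this]
    exact Nat.mul_div_cancel _ (by norm_num)
  -- the quotient
  have hX16 : Nat.card (G ⧸ K) = 16 := by
    have h1 := Subgroup.card_eq_card_quotient_mul_card_subgroup K
    rw [hG, hKcard] at h1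
    have h2 : 2 ^ n = 16 * 2 ^ (n - 4) := by
      have : (16:ℕ) = 2 ^ 4 := by norm_num
      rw [this, ← pow_add]; congr 1; omega
    rw [h2] at h1
    exact (Nat.eq_of_mul_eq_mul_right (pow_pos (by norm_num) _) h1).symm
  have hXc : Nat.card (commutator (G ⧸ K)) = 2 := by
    have h1 : (commutator (G ⧸ K)).index = (commutator G).index :=
      mc_index_commutator_quotient K hKD
    have h2 := Subgroup.card_mul_index (commutator (G ⧸ K))
    have h3 := Subgroup.card_mul_index (commutator G)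
    rw [h1, hX16] at h2
    rw [hDcard, hG] at h3
    have h5 : 2 ^ n = 2 ^ (n - 3) * 8 := by
      have : (8:ℕ) = 2 ^ 3 := by norm_num
      rw [this, ← pow_add]; congr 1; omega
    rw [h5] at h3
    have h6 : (commutator G).index = 8 :=
      Nat.eq_of_mul_eq_mul_left (pow_pos (by norm_num) _) h3
    rw [h6] at h2
    omega
  -- the criterion
  have hcrit : ∀ M : Subgroup G, M.index = 2 →
      (Group.nilpotencyClass M = n - 2 ↔
        ¬ (∀ a ∈ M.map (QuotientGroup.mk' K), ∀ b ∈ M.map (QuotientGroup.mk' K),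
          a * b = b * a)) := by
    intro M hM
    rw [map_abelian_iff]
    constructor
    · intro hMc hle
      have h1 := hfull M hM hMc
      have h2 := Subgroup.card_le_of_le hle
      rw [h1, hKcard] at h2
      have : 2 ^ (n - 3) = 2 ^ (n - 4) * 2 := by rw [← pow_succ]; congr 1; omega
      have hpos : 0 < 2 ^ (n - 4) := pow_pos (by norm_num) _
      omega
    · intro hnle
      have h1 : (⁅M, M⁆ : Subgroup G) = commutator G := by
        by_contra hne
        apply hnle
        rw [hd] at hne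
        exact le_sq_of_ne d hdo _ (hd ▸ hsub M) hne
      have h2 := card_comm_sub M
      rw [h1, hDcard, hcardM M hM, hpow] at h2
      have h3 : (commutator M).index = 4 :=
        Nat.eq_of_mul_eq_mul_left (pow_pos (by norm_num) _) h2
      have := mc_class_of_index_four (n - 1) M (by omega) (hcardM M hM) h3
      rw [this]; omega
  have hKM : ∀ M : Subgroup G, M.index = 2 → K ≤ M := by
    intro M hM
    exact hKD.trans ((pgroup_commutator_le_frattini hpg).trans (kul_frattini_le_of_index hG M hM))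
  -- the equivalence
  have e1 : {M : Subgroup G // M.index = 2 ∧ Group.nilpotencyClass M = n - 2} ≃
      {M : Subgroup G // (M.index = 2 ∧ K ≤ M) ∧
        ¬ (∀ a ∈ M.map (QuotientGroup.mk' K), ∀ b ∈ M.map (QuotientGroup.mk' K),
          a * b = b * a)} :=
    Equiv.subtypeEquivRight (fun M => by
      constructor
      · rintro ⟨hM, hMc⟩
        exact ⟨⟨hM, hKM M hM⟩, (hcrit M hM).mp hMc⟩
      · rintro ⟨⟨hM, -⟩, hna⟩
        exact ⟨hM, (hcrit M hM).mpr hna⟩)
  have e2 := (Equiv.subtypeSubtypeEquivSubtypeInter (fun M : Subgroup G => M.index = 2 ∧ K ≤ M)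
    (fun M => ¬ (∀ a ∈ M.map (QuotientGroup.mk' K), ∀ b ∈ M.map (QuotientGroup.mk' K),
          a * b = b * a))).symm
  have e3 : {M : {M : Subgroup G // M.index = 2 ∧ K ≤ M} //
      ¬ (∀ a ∈ M.1.map (QuotientGroup.mk' K), ∀ b ∈ M.1.map (QuotientGroup.mk' K),
          a * b = b * a)} ≃
      {M' : {M' : Subgroup (G ⧸ K) // M'.index = 2} //
        ¬ (∀ a ∈ M'.1, ∀ b ∈ M'.1, a * b = b * a)} :=
    Equiv.subtypeEquiv (kulQuotEquiv K 2) (fun M => Iff.rfl)
  have e4 := Equiv.subtypeSubtypeEquivSubtypeInter (fun M' : Subgroup (G ⧸ K) => M'.index = 2)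
    (fun M' => ¬ (∀ a ∈ M', ∀ b ∈ M', a * b = b * a))
  rw [Nat.card_congr (((e1.trans e2).trans e3).trans e4)]
  exact four_dvd_nonabelian hX16 hXc

end Cfsg.Agent.Lib.Helper22.KulTwoF
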