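import Mathlib
import Cfsg.Agent.Lib.Helper22.KulTwoB
import Cfsg.Agent.Lib.Helper22.KulTwoD
import Cfsg.Agent.Lib.Helper22.KulTwoF
import Cfsg.Agent.Lib.helper23.KulG

set_option autoImplicit false

namespace Cfsg.Agent.Lib.Helper22.KulTwoG

open Cfsg.Agent.Lib.helper23 Cfsg.Agent.Lib.Helper21 Cfsg.Agent.Lib.Helper22.KulTwoA
open Cfsg.Agent.Lib.Helper22.KulTwoB Cfsg.Agent.Lib.Helper22.KulTwoC
open Cfsg.Agent.Lib.Helper22.KulTwoD Cfsg.Agent.Lib.Helper22.KulTwoF
open scoped BigOperators

universe u

/-- a sum of values `1` / `3` indexed by a predicate. -/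
theorem sum_ite_one_three {ι : Type*} [Fintype ι] (P : ι → Prop) [DecidablePred P] :
    (∑ i : ι, (if P i then 1 else 3)) + 2 * Nat.card {i : ι // P i} = 3 * Nat.card ι := by
  classical
  have h1 : Nat.card {i : ι // P i} = ∑ i : ι, (if P i then 1 else 0) := by
    rw [Nat.card_eq_fintype_card, Fintype.card_subtype, Finset.sum_boole]
    simp
  have h2 : Nat.card ι = ∑ _i : ι, 1 := by
    rw [Finset.sum_const, smul_eq_mul, mul_one, Finset.card_univ, Nat.card_eq_fintype_card]
  rw [h1, h2, Finset.mul_sum, Finset.mul_sum, ← Finset.sum_add_distrib]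
  apply Finset.sum_congr rfl
  intro i _
  by_cases h : P i <;> simp [h]

/-- **Kulakoff–Berkovich for `p = 2`.** -/
theorem kul_two : ∀ (n : ℕ) (G : Type u) [Group G] [Finite G], Nat.card G = 2 ^ n →
    ¬ IsCyclic G → Group.nilpotencyClass G ≠ n - 1 → ∀ b : ℕ, 1 ≤ b → b < n →
    Nat.card {H : Subgroup G // Nat.card H = 2 ^ b} ≡ 3 [MOD 4] := by
  have : Fact (Nat.Prime 2) := ⟨Nat.prime_two⟩
  intro n
  induction n using Nat.strong_induction_on with
  | _ n ih =>
    intro G _ _ hG hnc hcl b hb1 hbn
    classical
    have hpg : IsPGroup 2 G := IsPGroup.of_card hG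
    -- n ≥ 3
    have hn3 : 3 ≤ n := by
      by_contra hlt
      have hn2 : n = 2 := by omega
      subst hn2
      apply hcl
      have h1 := mc_class_le 2 2 G hG le_rfl
      have h2 : Group.nilpotencyClass G ≠ 0 := by
        intro h0
        have : Group.IsNilpotent G := hpg.isNilpotent
        rw [Group.nilpotencyClass_zero_iff_subsingleton] at h0
        have := Nat.card_eq_one_iff_unique.mpr ⟨h0, ⟨1⟩⟩
        rw [hG] at this
        omega
      omega
    have h4 : (commutator G).index ≠ 4 :=
      fun h => hcl (mc_class_of_index_four n G (by omega) hG h)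
    rcases Nat.lt_or_ge (b + 1) n with hlt | hge
    swap
    · -- b = n - 1
      have hb' : b = n - 1 := by omega
      have e1 : {H : Subgroup G // Nat.card H = 2 ^ b} ≃ {M : Subgroup G // M.index = 2} :=
        Equiv.subtypeEquivRight (fun M => by
          have := kul_card_of_index hG (show 1 ≤ n by omega) M
          rw [pow_one] at this
          rw [hb']
          exact this.symm)
      rw [Nat.card_congr e1]
      exact kul_card_maximal hG hnc
    by_cases hγ : ∃ M : Subgroup G, M.index = 2 ∧ IsCyclic ↥M
    · obtain ⟨M, hMi, hMc⟩ := hγ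
      exact card_subgroups_good_cyc n G (by omega) hG hnc (fun _ => h4) M hMc hMi b hb1 (by omega)
    push Not at hγ
    letI : Fintype {M : Subgroup G // M.index = 2} := Fintype.ofFinite _
    letI : Fintype {K : Subgroup G // K.index = 2 ^ 2 ∧ frattini G ≤ K} := Fintype.ofFinite _
    have hall := kul_hall_enum hG (show b < n by omega)
    -- the K-sum
    have hK : 2 * ∑ K : {K : Subgroup G // K.index = 2 ^ 2 ∧ frattini G ≤ K},
        Nat.card {H : Subgroup G // Nat.card H = 2 ^ b ∧ H ≤ K.1} ≡ 2 [MOD 4] := by
      have h1 : (∑ K : {K : Subgroup G // K.index = 2 ^ 2 ∧ frattini G ≤ K},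
          Nat.card {H : Subgroup G // Nat.card H = 2 ^ b ∧ H ≤ K.1}) ≡
          ∑ _K : {K : Subgroup G // K.index = 2 ^ 2 ∧ frattini G ≤ K}, 1 [MOD 2] := by
        apply kul_sum_modEq
        intro K _
        rw [Nat.card_congr (ksubEquiv K.1 (2 ^ b))]
        have hKc : Nat.card K.1 = 2 ^ (n - 2) :=
          (kul_card_of_index hG (show 2 ≤ n by omega) K.1).mp K.2.1
        exact Cfsg.Agent.S3975.result 2 b Nat.prime_two
          (by rw [hKc]; exact pow_dvd_pow 2 (by omega))
      rw [Finset.sum_const, smul_eq_mul, mul_one, Finset.card_univ,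
        ← Nat.card_eq_fintype_card] at h1
      have h2 := h1.trans (kul_card_K hG hnc)
      have h3 := Nat.ModEq.mul_left' 2 h2
      exact h3
    -- the M-sum
    have hMcard : ∀ M : {M : Subgroup G // M.index = 2}, Nat.card M.1 = 2 ^ (n - 1) := by
      intro M
      exact (kul_card_of_index hG (show 1 ≤ n by omega) M.1).mp (by rw [pow_one]; exact M.2)
    have hnM := kul_card_maximal hG hnc
    have hMsum : (∑ M : {M : Subgroup G // M.index = 2},
        Nat.card {H : Subgroup G // Nat.card H = 2 ^ b ∧ H ≤ M.1}) ≡ 1 [MOD 4] := by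
      rcases Nat.lt_or_ge (b + 2) n with hlt2 | hge2
      swap
      · -- b = n - 2 : all terms are ≡ 3
        have hb' : b = n - 2 := by omega
        have h1 : (∑ M : {M : Subgroup G // M.index = 2},
            Nat.card {H : Subgroup G // Nat.card H = 2 ^ b ∧ H ≤ M.1}) ≡
            ∑ _M : {M : Subgroup G // M.index = 2}, 3 [MOD 4] := by
          apply kul_sum_modEq
          intro M _
          rw [Nat.card_congr (ksubEquiv M.1 (2 ^ b))]
          have e1 : {H : Subgroup M.1 // Nat.card H = 2 ^ b} ≃
              {H : Subgroup M.1 // H.index = 2} :=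
            Equiv.subtypeEquivRight (fun H => by
              have := kul_card_of_index (hMcard M) (show 1 ≤ n - 1 by omega) H
              rw [pow_one] at this
              have hbb : n - 1 - 1 = b := by omega
              rw [hbb] at this
              exact this.symm)
          rw [Nat.card_congr e1]
          exact kul_card_maximal (hMcard M) (hγ M.1 M.2)
        rw [Finset.sum_const, smul_eq_mul, Finset.card_univ, ← Nat.card_eq_fintype_card] at h1
        have h2 : Nat.card {M : Subgroup G // M.index = 2} * 3 ≡ 3 * 3 [MOD 4] :=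
          Nat.ModEq.mul_right 3 hnM
        exact (h1.trans h2).trans (by decide)
      · -- b ≤ n - 3
        have hn4 : 4 ≤ n := by omega
        have h1 : (∑ M : {M : Subgroup G // M.index = 2},
            Nat.card {H : Subgroup G // Nat.card H = 2 ^ b ∧ H ≤ M.1}) ≡
            ∑ M : {M : Subgroup G // M.index = 2},
              (if Group.nilpotencyClass M.1 = n - 2 then 1 else 3) [MOD 4] := by
          apply kul_sum_modEq
          intro M _
          rw [Nat.card_congr (ksubEquiv M.1 (2 ^ b))]
          by_cases hMC : Group.nilpotencyClass M.1 = n - 2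
          · rw [if_pos hMC]
            exact card_subgroups_maxclass (n - 1) M.1 (by omega) (hMcard M)
              (by rw [hMC]; omega) b hb1 (by omega)
          · rw [if_neg hMC]
            exact ih (n - 1) (by omega) M.1 (hMcard M) (hγ M.1 M.2)
              (fun h => hMC (by rw [h]; omega)) b hb1 (by omega)
        have h2 := sum_ite_one_three
          (fun M : {M : Subgroup G // M.index = 2} => Group.nilpotencyClass M.1 = n - 2)
        have h3 := four_dvd_maxclass hn4 hG hnc h4
        rw [← Nat.card_congr (Equiv.subtypeSubtypeEquivSubtypeInter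
          (fun M : Subgroup G => M.index = 2)
          (fun M => Group.nilpotencyClass M = n - 2))] at h3
        obtain ⟨k, hk⟩ := h3
        rw [hk] at h2
        refine h1.trans ?_
        unfold Nat.ModEq at hnM ⊢
        omega
    unfold Nat.ModEq at hall hK hMsum ⊢
    omega

end Cfsg.Agent.Lib.Helper22.KulTwoG
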