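import Mathlib

set_option autoImplicit false

/-!
# Derived length of linear `p`-groups: the characteristic `p` case

A finite `p`-group acting linearly on a vector space of dimension `n` over a field of
characteristic `p` acts unipotently; the filtration by "fixed points mod the previous term"
gives that the `j`-th derived subgroup acts trivially as soon as `n ≤ 2 ^ j`.
-/

namespace Cfsg.Agent.Lib.Helper22.LinDLA

open Module
open scoped commutatorElement

variable {K : Type*} [Field K] {V : Type*} [AddCommGroup V] [Module K V]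
variable {P : Type*} [Group P]

/-- A finite `p`-group acting linearly on a nonzero vector space in characteristic `p` has a
nonzero fixed vector. -/
theorem exists_fixed_ne_zero (p : ℕ) [Fact p.Prime] [Finite P] (hP : IsPGroup p P)
    (hK : (p : K) = 0) (ρ : Representation K P V) [Nontrivial V] :
    ∃ w : V, w ≠ 0 ∧ ∀ g : P, ρ g w = w := by
  classical
  obtain ⟨w0, hw0⟩ := exists_ne (0 : V)
  -- the additive subgroup generated by the orbit of `w0`
  set S : Set V := Set.range (fun g : P => ρ g w0) with hS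
  set X : AddSubgroup V := AddSubgroup.closure S with hX
  have hw0X : w0 ∈ X := AddSubgroup.subset_closure ⟨1, by simp⟩
  have hpV : ∀ v : V, p • v = 0 := by
    intro v
    have : (p : K) • v = 0 := by rw [hK, zero_smul]
    rwa [Nat.cast_smul_eq_nsmul] at this
  -- X is finite
  have hfin : Finite X := by
    have : AddGroup.FG X := by
      rw [AddGroup.fg_iff_addSubgroup_fg]
      exact ⟨(Set.finite_range (fun g : P => ρ g w0)).toFinset, by simp [hX, hS]⟩
    apply AddCommGroup.finite_of_fg_isAddTorsion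
    intro x
    rw [isOfFinAddOrder_iff_nsmul_eq_zero]
    refine ⟨p, (Fact.out : p.Prime).pos, ?_⟩
    apply Subtype.ext
    simpa using hpV x
  -- X is invariant
  have hinv : ∀ (g : P) (x : V), x ∈ X → ρ g x ∈ X := by
    intro g x hx
    induction hx using AddSubgroup.closure_induction with
    | mem y hy =>
      obtain ⟨h, rfl⟩ := hy
      apply AddSubgroup.subset_closure
      refine ⟨g * h, ?_⟩
      simp [map_mul]
    | zero => simp
    | add a b _ _ ha hb => rw [map_add]; exact X.add_mem ha hb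
    | neg a _ ha => rw [map_neg]; exact X.neg_mem ha
  -- the action of P on X
  let _ : MulAction P X :=
    { smul := fun g x => ⟨ρ g x, hinv g x x.2⟩
      one_smul := fun x => by
        apply Subtype.ext
        show ρ 1 (x : V) = x
        simp
      mul_smul := fun g h x => by
        apply Subtype.ext
        show ρ (g * h) (x : V) = ρ g (ρ h x)
        simp [map_mul] }
  have hsmul : ∀ (g : P) (x : X), ((g • x : X) : V) = ρ g x := fun _ _ => rfl
  -- p divides card X
  have hdvd : p ∣ Nat.card X := by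
    have h1 : addOrderOf (⟨w0, hw0X⟩ : X) ∣ p := by
      apply addOrderOf_dvd_of_nsmul_eq_zero
      apply Subtype.ext
      simpa using hpV w0
    have h2 : addOrderOf (⟨w0, hw0X⟩ : X) ≠ 1 := by
      intro h
      rw [AddMonoid.addOrderOf_eq_one_iff] at h
      exact hw0 (congrArg Subtype.val h)
    have h3 : addOrderOf (⟨w0, hw0X⟩ : X) = p := by
      rcases (Nat.dvd_prime (Fact.out : p.Prime)).mp h1 with h | h
      · exact absurd h h2
      · exact h
    rw [← h3]
    exact addOrderOf_dvd_natCard _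
  have h0 : (0 : X) ∈ MulAction.fixedPoints P X := by
    intro g
    apply Subtype.ext
    rw [hsmul]
    simp
  obtain ⟨b, hb, hb0⟩ := hP.exists_fixed_point_of_prime_dvd_card_of_fixed_point X hdvd h0
  refine ⟨(b : V), ?_, ?_⟩
  · intro h
    apply hb0
    apply Subtype.ext
    simp [h]
  · intro g
    have := hb g
    rw [← hsmul, this]

/-- The ascending "socle series" of a representation. -/
def Vs (ρ : Representation K P V) : ℕ → Submodule K V
  | 0 => ⊥
  | (k + 1) => ⨅ g : P, (Vs ρ k).comap (ρ g - 1)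

theorem mem_Vs_succ (ρ : Representation K P V) (k : ℕ) (v : V) :
    v ∈ Vs ρ (k + 1) ↔ ∀ g : P, ρ g v - v ∈ Vs ρ k := by
  simp [Vs, Submodule.mem_iInf]

theorem Vs_le_succ (ρ : Representation K P V) (k : ℕ) : Vs ρ k ≤ Vs ρ (k + 1) := by
  induction k with
  | zero => simp [Vs]
  | succ k ih =>
    intro v hv
    rw [mem_Vs_succ] at hv ⊢
    intro g
    exact ih (hv g)

theorem Vs_mono (ρ : Representation K P V) {a b : ℕ} (h : a ≤ b) : Vs ρ a ≤ Vs ρ b :=
  monotone_nat_of_le_succ (Vs_le_succ ρ) h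

theorem Vs_invariant (ρ : Representation K P V) (k : ℕ) (g : P) (v : V) (hv : v ∈ Vs ρ k) :
    ρ g v ∈ Vs ρ k := by
  cases k with
  | zero =>
    simp only [Vs, Submodule.mem_bot] at hv ⊢
    simp [hv]
  | succ k =>
    have h1 : ρ g v - v ∈ Vs ρ k := (mem_Vs_succ ρ k v).mp hv g
    have h2 : ρ g v = (ρ g v - v) + v := by abel
    rw [h2]
    exact (Vs ρ (k + 1)).add_mem (Vs_le_succ ρ k h1) hv

theorem Vs_lt_succ (p : ℕ) [Fact p.Prime] [Finite P] (hP : IsPGroup p P)
    (hK : (p : K) = 0) (ρ : Representation K P V) (k : ℕ) (hk : Vs ρ k ≠ ⊤) :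
    Vs ρ k < Vs ρ (k + 1) := by
  refine lt_of_le_of_ne (Vs_le_succ ρ k) ?_
  intro heq
  have hinv : ∀ g : P, Vs ρ k ≤ (Vs ρ k).comap (ρ g) := fun g v hv => Vs_invariant ρ k g v hv
  have : Nontrivial (V ⧸ Vs ρ k) := Submodule.Quotient.nontrivial_iff.mpr hk
  obtain ⟨w, hw0, hw⟩ := exists_fixed_ne_zero p hP hK (ρ.quotient (Vs ρ k) hinv)
  obtain ⟨v, rfl⟩ := Submodule.Quotient.mk_surjective _ w
  apply hw0
  rw [Submodule.Quotient.mk_eq_zero, heq, mem_Vs_succ]
  intro g
  have := hw g
  rw [Representation.quotient_apply, Submodule.mapQ_apply, ← sub_eq_zero,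
    ← Submodule.Quotient.mk_sub, Submodule.Quotient.mk_eq_zero] at this
  exact this

theorem Vs_eq_top (p : ℕ) [Fact p.Prime] [Finite P] (hP : IsPGroup p P)
    (hK : (p : K) = 0) (ρ : Representation K P V) [FiniteDimensional K V] (n : ℕ)
    (hn : finrank K V ≤ n) : Vs ρ n = ⊤ := by
  have key : ∀ k : ℕ, Vs ρ k = ⊤ ∨ k ≤ finrank K (Vs ρ k) := by
    intro k
    induction k with
    | zero => right; simp
    | succ k ih =>
      by_cases hk : Vs ρ k = ⊤
      · left
        exact top_le_iff.mp (hk ▸ Vs_le_succ ρ k)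
      · right
        have h1 := Submodule.finrank_lt_finrank_of_lt (Vs_lt_succ p hP hK ρ k hk)
        rcases ih with h | h
        · exact absurd h hk
        · omega
  rcases key n with h | h
  · exact h
  · apply Submodule.eq_top_of_finrank_eq
    have := Submodule.finrank_le (Vs ρ n)
    omega

/-- The filtration of `P` by the degree of lowering of the series `Vs`. -/
def E (ρ : Representation K P V) (k : ℕ) : Subgroup P where
  carrier := {g | ∀ (i : ℕ) (v : V), v ∈ Vs ρ i → ρ g v - v ∈ Vs ρ (i - k)}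
  one_mem' := by
    intro i v _
    simp
  mul_mem' := by
    intro g h hg hh i v hv
    have h1 : ρ (g * h) v - v = (ρ g (ρ h v) - ρ h v) + (ρ h v - v) := by
      simp [map_mul]
    rw [h1]
    exact (Vs ρ (i - k)).add_mem (hg i _ (Vs_invariant ρ i h v hv)) (hh i v hv)
  inv_mem' := by
    intro g hg i v hv
    have h1 : ρ g⁻¹ v - v = - ρ g⁻¹ (ρ g v - v) := by
      rw [map_sub, ← Module.End.mul_apply, ← map_mul]
      simp
    rw [h1]
    exact (Vs ρ (i - k)).neg_mem (Vs_invariant ρ _ g⁻¹ _ (hg i v hv))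

theorem mem_E (ρ : Representation K P V) (k : ℕ) (g : P) :
    g ∈ E ρ k ↔ ∀ (i : ℕ) (v : V), v ∈ Vs ρ i → ρ g v - v ∈ Vs ρ (i - k) := Iff.rfl

theorem E_one (ρ : Representation K P V) : E ρ 1 = ⊤ := by
  rw [eq_top_iff]
  intro g _
  rw [mem_E]
  intro i v hv
  cases i with
  | zero =>
    simp only [Vs, Submodule.mem_bot] at hv
    simp [hv]
  | succ i =>
    simpa using (mem_Vs_succ ρ i v).mp hv g

theorem commutator_E_le (ρ : Representation K P V) (k l : ℕ) :
    ⁅E ρ k, E ρ l⁆ ≤ E ρ (k + l) := by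
  rw [Subgroup.commutator_le]
  intro g hg h hh
  rw [mem_E] at hg hh ⊢
  intro i v hv
  -- w = ρ(g⁻¹) ρ(h⁻¹) v
  set w : V := ρ g⁻¹ (ρ h⁻¹ v) with hw
  have hwi : w ∈ Vs ρ i := Vs_invariant ρ i _ _ (Vs_invariant ρ i _ _ hv)
  have e1 : ρ ⁅g, h⁆ v - v = ρ g (ρ h w) - ρ h (ρ g w) := by
    have e2 : ρ ⁅g, h⁆ v = ρ g (ρ h w) := by
      rw [hw, commutatorElement_def]
      simp [map_mul]
    have e3 : ρ h (ρ g w) = v := by
      rw [hw, ← Module.End.mul_apply, ← Module.End.mul_apply, ← Module.End.mul_apply,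
        ← map_mul, ← map_mul, ← map_mul]
      simp
    rw [e2, e3]
  have e4 : ρ g (ρ h w) - ρ h (ρ g w)
      = (ρ g (ρ h w - w) - (ρ h w - w)) - (ρ h (ρ g w - w) - (ρ g w - w)) := by
    simp only [map_sub]
    abel
  rw [e1, e4]
  have hh1 : ρ h w - w ∈ Vs ρ (i - l) := hh i w hwi
  have hg1 : ρ g w - w ∈ Vs ρ (i - k) := hg i w hwi
  have hg2 := hg (i - l) _ hh1
  have hh2 := hh (i - k) _ hg1
  have ea : i - l - k = i - (k + l) := by omega
  have eb : i - k - l = i - (k + l) := by omega
  rw [ea] at hg2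
  rw [eb] at hh2
  exact (Vs ρ _).sub_mem hg2 hh2

theorem derivedSeries_le_E (ρ : Representation K P V) (j : ℕ) :
    derivedSeries P j ≤ E ρ (2 ^ j) := by
  induction j with
  | zero => simp [E_one]
  | succ j ih =>
    rw [derivedSeries_succ]
    calc ⁅derivedSeries P j, derivedSeries P j⁆ ≤ ⁅E ρ (2 ^ j), E ρ (2 ^ j)⁆ :=
          Subgroup.commutator_mono ih ih
      _ ≤ E ρ (2 ^ j + 2 ^ j) := commutator_E_le ρ _ _
      _ = E ρ (2 ^ (j + 1)) := by rw [pow_succ, mul_two]

/-- **Characteristic `p` case.** A finite `p`-group acting linearly on a space of dimension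
at most `2 ^ j` over a field of characteristic `p`: the `j`-th derived subgroup acts
trivially. -/
theorem charP_case (p : ℕ) [Fact p.Prime] [Finite P] (hP : IsPGroup p P)
    (hK : (p : K) = 0) (ρ : Representation K P V) [FiniteDimensional K V] (j : ℕ)
    (hj : finrank K V ≤ 2 ^ j) (g : P) (hg : g ∈ derivedSeries P j) : ρ g = 1 := by
  have h1 : g ∈ E ρ (2 ^ j) := derivedSeries_le_E ρ j hg
  have h2 : Vs ρ (2 ^ j) = ⊤ := Vs_eq_top p hP hK ρ _ hj
  rw [mem_E] at h1
  ext v
  have h3 := h1 (2 ^ j) v (by rw [h2]; trivial)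
  rw [Nat.sub_self] at h3
  simp only [Vs, Submodule.mem_bot, sub_eq_zero] at h3
  simpa using h3

end Cfsg.Agent.Lib.Helper22.LinDLA
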