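import Mathlib

set_option autoImplicit false

/-!
# Derived length of linear `p`-groups: cross characteristic, algebraically closed field
-/

namespace Cfsg.Agent.Lib.Helper22.LinDLB

open Module
open scoped commutatorElement

/-- The bound `⌊log₂ n⌋ + 1`. -/
def f (n : ℕ) : ℕ := Nat.log 2 n + 1

theorem f_mono {a b : ℕ} (h : a ≤ b) : f a ≤ f b := by
  unfold f
  exact Nat.succ_le_succ (Nat.log_mono_right h)

theorem f_half {e n : ℕ} (he : 1 ≤ e) (h : 2 * e ≤ n) : f e + 1 ≤ f n := by
  unfold f
  have h1 : Nat.log 2 (e * 2) = Nat.log 2 e + 1 :=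
    Nat.log_mul_base (by norm_num) (by omega)
  have h2 : Nat.log 2 (e * 2) ≤ Nat.log 2 n := Nat.log_mono_right (by omega)
  omega

section general

variable {K : Type*} [Field K] {V : Type*} [AddCommGroup V] [Module K V]
variable {P : Type*} [Group P]

/-- If `⁅P,P⁆ ≤ M`, then `P^(k+1) ≤ M^(k)`. -/
theorem derivedSeries_succ_le_map (M : Subgroup P) (hM : ⁅(⊤ : Subgroup P), ⊤⁆ ≤ M) (k : ℕ) :
    derivedSeries P (k + 1) ≤ (derivedSeries M k).map M.subtype := by
  induction k with
  | zero =>
    rw [derivedSeries_succ, derivedSeries_zero, derivedSeries_zero]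
    intro g hg
    exact ⟨⟨g, hM hg⟩, Subgroup.mem_top _, rfl⟩
  | succ k ih =>
    rw [derivedSeries_succ, derivedSeries_succ (G := M), Subgroup.map_commutator]
    exact Subgroup.commutator_mono ih ih

/-- An element of a finite `p`-group acting trivially on an invariant subspace and on the
quotient acts trivially, when `p` is invertible in `K`. -/
theorem eq_one_of_unipotent (p : ℕ) [Fact p.Prime] (hP : IsPGroup p P)
    (hK : (p : K) ≠ 0) (ρ : Representation K P V) (W : Submodule K V) (g : P)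
    (h1 : ∀ w ∈ W, ρ g w = w) (h2 : ∀ v, ρ g v - v ∈ W) : ρ g = 1 := by
  set a : Module.End K V := ρ g - 1 with ha
  have haa : a * a = 0 := by
    ext v
    have : a v ∈ W := by simpa [ha] using h2 v
    have h3 := h1 _ this
    simp only [Module.End.mul_apply, LinearMap.zero_apply]
    have : a (a v) = ρ g (a v) - a v := by simp [ha]
    rw [this, h3, sub_self]
  have hg : ρ g = 1 + a := by rw [ha]; abel
  have hpow : ∀ m : ℕ, (ρ g) ^ m = 1 + m • a := by
    intro m
    induction m with
    | zero => simp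
    | succ m ih =>
      rw [pow_succ, ih, hg, add_mul, mul_add, mul_add, one_mul, mul_one, one_mul,
        smul_mul_assoc, haa, smul_zero, add_zero, succ_nsmul]
      abel
  obtain ⟨k, hk⟩ := hP g
  have h4 : (ρ g) ^ (p ^ k) = 1 := by rw [← map_pow, hk, map_one]
  rw [hpow] at h4
  have h5 : (p ^ k) • a = 0 := by simpa using h4
  have h6 : ((p ^ k : ℕ) : K) • a = 0 := by rwa [Nat.cast_smul_eq_nsmul]
  have h7 : ((p ^ k : ℕ) : K) ≠ 0 := by
    rw [Nat.cast_pow]
    exact pow_ne_zero _ hK
  have h8 : a = 0 := by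
    rcases smul_eq_zero.mp h6 with h | h
    · exact absurd h h7
    · exact h
  rw [hg, h8, add_zero]

end general

universe u v

/-- The inductive statement: every representation of a finite `p`-group on an `n`-dimensional
space kills the `f n`-th derived subgroup. -/
def Good (K : Type*) [Field K] (p : ℕ) (n : ℕ) : Prop :=
  ∀ (V : Type u) [AddCommGroup V] [Module K V] [FiniteDimensional K V]
    (P : Type v) [Group P] [Finite P], IsPGroup p P → ∀ ρ : Representation K P V,
    finrank K V = n → ∀ g ∈ derivedSeries P (f n), ρ g = 1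

section steps

variable {K : Type*} [Field K] {V : Type u} [AddCommGroup V] [Module K V]
  [FiniteDimensional K V]
variable {P : Type v} [Group P] [Finite P]

/-- Reducible step. -/
theorem step_reducible (p : ℕ) [Fact p.Prime] (hP : IsPGroup p P) (hK : (p : K) ≠ 0)
    (ρ : Representation K P V) (n : ℕ) (hn : finrank K V = n)
    (IH : ∀ m < n, Good.{u, v} K p m)
    (W : Submodule K V) (hW : ∀ g, W ≤ W.comap (ρ g)) (hW0 : W ≠ ⊥) (hW1 : W ≠ ⊤)
    (g : P) (hg : g ∈ derivedSeries P (f n)) : ρ g = 1 := by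
  have hd1 : finrank K W < n := by
    rw [← hn]
    exact Submodule.finrank_lt hW1
  have hd2 : finrank K (V ⧸ W) < n := by
    have h1 := Submodule.finrank_quotient_add_finrank W
    have h2 : 0 < finrank K W := by
      rw [Module.finrank_pos_iff]
      exact Submodule.nontrivial_iff_ne_bot.mpr hW0
    omega
  apply eq_one_of_unipotent p hP hK ρ W g
  · intro w hw
    have h3 := IH _ hd1 W P hP (ρ.subrepresentation W hW) rfl g
      (derivedSeries_antitone P (f_mono hd1.le) hg)
    have h4 := congrArg (fun T => ((T ⟨w, hw⟩ : W) : V)) h3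
    simpa using h4
  · intro v
    have h3 := IH _ hd2 (V ⧸ W) P hP (ρ.quotient W hW) rfl g
      (derivedSeries_antitone P (f_mono hd2.le) hg)
    have h4 := congrArg (fun T => T (Submodule.Quotient.mk v)) h3
    simp only [Representation.quotient_apply, Submodule.mapQ_apply, Module.End.one_apply] at h4
    rw [← sub_eq_zero, ← Submodule.Quotient.mk_sub, Submodule.Quotient.mk_eq_zero] at h4
    exact h4

omit [Finite P] in
/-- Schur's lemma in the form needed: an endomorphism commuting with an irreducible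
representation over an algebraically closed field is a scalar. -/
theorem schur_scalar [IsAlgClosed K] [Nontrivial V] (ρ : Representation K P V)
    (hirr : ∀ W : Submodule K V, (∀ g, W ≤ W.comap (ρ g)) → W = ⊥ ∨ W = ⊤)
    (T : Module.End K V) (hT : ∀ g, Commute T (ρ g)) : ∃ μ : K, T = μ • (1 : Module.End K V) := by
  obtain ⟨μ, hμ⟩ := Module.End.exists_eigenvalue T
  refine ⟨μ, ?_⟩
  have hinv : ∀ g, Module.End.eigenspace T μ ≤ (Module.End.eigenspace T μ).comap (ρ g) := by
    intro g v hv
    rw [Submodule.mem_comap, Module.End.mem_eigenspace_iff] at *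
    have := congrArg (fun S : Module.End K V => S v) (hT g).eq
    simp only [Module.End.mul_apply] at this
    rw [this, hv, map_smul]
  rcases hirr _ hinv with h | h
  · exact absurd h hμ
  · ext v
    have : v ∈ Module.End.eigenspace T μ := by rw [h]; trivial
    rw [Module.End.mem_eigenspace_iff] at this
    simpa using this

/-- Twisted commutation relation `ρ g * T = ζ • (T * ρ g)`. -/
def Rel (ρ : Representation K P V) (T : Module.End K V) (g : P) (ζ : K) : Prop :=
  ζ ≠ 0 ∧ ρ g * T = ζ • (T * ρ g)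

omit [FiniteDimensional K V] [Finite P] in
theorem Rel.mul {ρ : Representation K P V} {T : Module.End K V} {g h : P} {a b : K}
    (hg : Rel ρ T g a) (hh : Rel ρ T h b) : Rel ρ T (g * h) (a * b) := by
  refine ⟨mul_ne_zero hg.1 hh.1, ?_⟩
  calc ρ (g * h) * T = ρ g * (ρ h * T) := by rw [map_mul, mul_assoc]
    _ = ρ g * (b • (T * ρ h)) := by rw [hh.2]
    _ = b • ((ρ g * T) * ρ h) := by rw [mul_smul_comm, mul_assoc]
    _ = b • ((a • (T * ρ g)) * ρ h) := by rw [hg.2]
    _ = (a * b) • (T * ρ (g * h)) := by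
        rw [smul_mul_assoc, smul_smul, map_mul, mul_assoc, mul_comm b a]

omit [FiniteDimensional K V] [Finite P] in
theorem Rel.inv {ρ : Representation K P V} {T : Module.End K V} {g : P} {a : K}
    (hg : Rel ρ T g a) : Rel ρ T g⁻¹ a⁻¹ := by
  refine ⟨inv_ne_zero hg.1, ?_⟩
  have h1 : ρ g⁻¹ * ρ g = 1 := by rw [← map_mul, inv_mul_cancel, map_one]
  have h2 : ρ g * ρ g⁻¹ = 1 := by rw [← map_mul, mul_inv_cancel, map_one]
  have h3 : T * ρ g⁻¹ = a • (ρ g⁻¹ * T) := by
    calc T * ρ g⁻¹ = (ρ g⁻¹ * ρ g) * T * ρ g⁻¹ := by rw [h1, one_mul]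
      _ = ρ g⁻¹ * (ρ g * T) * ρ g⁻¹ := by rw [mul_assoc (ρ g⁻¹)]
      _ = ρ g⁻¹ * (a • (T * ρ g)) * ρ g⁻¹ := by rw [hg.2]
      _ = a • (ρ g⁻¹ * T * (ρ g * ρ g⁻¹)) := by
          rw [mul_smul_comm, smul_mul_assoc, mul_assoc, mul_assoc, mul_assoc]
      _ = a • (ρ g⁻¹ * T) := by rw [h2, mul_one]
  rw [h3, smul_smul, inv_mul_cancel₀ hg.1, one_smul]

omit [FiniteDimensional K V] [Finite P] in
theorem Rel.commute {ρ : Representation K P V} {T : Module.End K V} {g h : P} {a b : K}
    (hg : Rel ρ T g a) (hh : Rel ρ T h b) : Commute (ρ ⁅g, h⁆) T := by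
  have h1 := ((hg.mul hh).mul hg.inv).mul hh.inv
  have h2 : a * b * a⁻¹ * b⁻¹ = 1 := by
    have := hg.1
    have := hh.1
    field_simp
  rw [h2] at h1
  have h3 := h1.2
  rw [one_smul] at h3
  rw [commutatorElement_def]
  exact h3

omit [FiniteDimensional K V] [Finite P] in
/-- Abelian image: the first derived subgroup acts trivially. -/
theorem step_abelian (ρ : Representation K P V) (hab : ∀ a b : P, Commute (ρ a) (ρ b))
    (k : ℕ) (hk : 1 ≤ k) (g : P) (hg : g ∈ derivedSeries P k) : ρ g = 1 := by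
  have h1 : derivedSeries P k ≤ derivedSeries P 1 := derivedSeries_antitone P hk
  have h2 : derivedSeries P 1 ≤ MonoidHom.ker ρ := by
    rw [derivedSeries_succ, derivedSeries_zero, Subgroup.commutator_le]
    intro a _ b _
    rw [MonoidHom.mem_ker, commutatorElement_def]
    have e1 : ρ (a * b) = ρ (b * a) := by rw [map_mul, map_mul]; exact (hab a b).eq
    calc ρ (a * b * a⁻¹ * b⁻¹) = ρ (a * b) * ρ (a⁻¹ * b⁻¹) := by rw [← map_mul]; congr 1; group
      _ = ρ (b * a) * ρ (a⁻¹ * b⁻¹) := by rw [e1]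
      _ = ρ 1 := by rw [← map_mul]; congr 1; group
      _ = 1 := map_one _
  exact MonoidHom.mem_ker.mp (h2 (h1 hg))

/-- The subgroup of elements acting centrally. -/
def Zc (ρ : Representation K P V) : Subgroup P :=
  (Subgroup.center ρ.asGroupHom.range).comap ρ.asGroupHom.rangeRestrict

omit [FiniteDimensional K V] [Finite P] in
theorem mem_Zc (ρ : Representation K P V) (c : P) :
    c ∈ Zc ρ ↔ ∀ h : P, Commute (ρ c) (ρ h) := by
  unfold Zc
  rw [Subgroup.mem_comap, Subgroup.mem_center_iff]
  constructor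
  · intro H h
    have := H (ρ.asGroupHom.rangeRestrict h)
    have h2 := congrArg (fun y : ρ.asGroupHom.range => ((y : Units (V →ₗ[K] V)) : V →ₗ[K] V)) this
    simp only [MonoidHom.coe_rangeRestrict, Subgroup.coe_mul, Units.val_mul,
      Representation.asGroupHom_apply] at h2
    exact h2.symm
  · intro H y
    obtain ⟨y, ⟨h, rfl⟩⟩ := y
    apply Subtype.ext
    apply Units.ext
    simp only [MonoidHom.coe_rangeRestrict, Subgroup.coe_mul, Units.val_mul,
      Representation.asGroupHom_apply]
    exact (H h).eq.symm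

instance (ρ : Representation K P V) : (Zc ρ).Normal := by
  unfold Zc
  infer_instance

/-- In the irreducible non-abelian case there is an element `x` whose commutators act as scalars
and which does not act centrally. -/
theorem exists_twist [IsAlgClosed K] [Nontrivial V] (p : ℕ) [Fact p.Prime] (hP : IsPGroup p P)
    (ρ : Representation K P V)
    (hirr : ∀ W : Submodule K V, (∀ g, W ≤ W.comap (ρ g)) → W = ⊥ ∨ W = ⊤)
    (hnab : ¬ ∀ a b : P, Commute (ρ a) (ρ b)) :
    ∃ x : P, (∀ g : P, ∃ ζ : K, Rel ρ (ρ x) g ζ) ∧ ∃ h : P, ¬ Commute (ρ h) (ρ x) := by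
  push Not at hnab
  obtain ⟨a, b, hab⟩ := hnab
  have haZ : a ∉ Zc ρ := fun h => hab ((mem_Zc ρ a).mp h b)
  have hnt : Nontrivial (P ⧸ Zc ρ) :=
    ⟨⟨(a : P ⧸ Zc ρ), 1, fun h => haZ ((QuotientGroup.eq_one_iff a).mp h)⟩⟩
  have hPQ : IsPGroup p (P ⧸ Zc ρ) := hP.to_quotient (Zc ρ)
  have hcn := hPQ.center_nontrivial
  obtain ⟨z, hz⟩ := exists_ne (1 : Subgroup.center (P ⧸ Zc ρ))
  obtain ⟨x, hx⟩ := QuotientGroup.mk_surjective (z : P ⧸ Zc ρ)
  have hxZ : x ∉ Zc ρ := by
    intro h
    apply hz
    apply Subtype.ext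
    rw [← hx]
    exact (QuotientGroup.eq_one_iff x).mpr h
  have hcomm : ∀ g : P, ⁅g, x⁆ ∈ Zc ρ := by
    intro g
    rw [← QuotientGroup.eq_one_iff]
    have h1 : ((⁅g, x⁆ : P) : P ⧸ Zc ρ) = ⁅(g : P ⧸ Zc ρ), (x : P ⧸ Zc ρ)⁆ := by
      simp [commutatorElement_def]
    rw [h1, commutatorElement_eq_one_iff_mul_comm, hx]
    exact ((Subgroup.mem_center_iff.mp z.2) (g : P ⧸ Zc ρ))
  refine ⟨x, ?_, ?_⟩
  · intro g
    obtain ⟨ζ, hζ⟩ := schur_scalar ρ hirr (ρ ⁅g, x⁆) ((mem_Zc ρ _).mp (hcomm g))
    have hζ0 : ζ ≠ 0 := by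
      intro h0
      rw [h0, zero_smul] at hζ
      have h2 : (1 : Module.End K V) = 0 := by
        calc (1 : Module.End K V) = ρ (⁅g, x⁆⁻¹) * ρ ⁅g, x⁆ := by
              rw [← map_mul, inv_mul_cancel, map_one]
          _ = 0 := by rw [hζ, mul_zero]
      exact one_ne_zero h2
    refine ⟨ζ, hζ0, ?_⟩
    calc ρ g * ρ x = ρ (⁅g, x⁆ * (x * g)) := by
          rw [← map_mul]; congr 1; rw [commutatorElement_def]; group
      _ = ρ ⁅g, x⁆ * (ρ x * ρ g) := by rw [map_mul, map_mul]
      _ = ζ • (ρ x * ρ g) := by rw [hζ, smul_mul_assoc, one_mul]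
  · by_contra hall
    push Not at hall
    exact hxZ ((mem_Zc ρ x).mpr (fun h => (hall h).symm))

/-- The subgroup of elements whose action commutes with `T`. -/
def Cent (ρ : Representation K P V) (T : Module.End K V) : Subgroup P where
  carrier := {m | Commute (ρ m) T}
  one_mem' := by
    show Commute (ρ 1) T
    rw [map_one]; exact Commute.one_left T
  mul_mem' := by
    intro a b ha hb
    show Commute (ρ (a * b)) T
    rw [map_mul]; exact Commute.mul_left ha hb
  inv_mem' := by
    intro a ha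
    show Commute (ρ a⁻¹) T
    have h1 : ρ a⁻¹ * ρ a = 1 := by rw [← map_mul, inv_mul_cancel, map_one]
    have h2 : ρ a * ρ a⁻¹ = 1 := by rw [← map_mul, mul_inv_cancel, map_one]
    have ha' : ρ a * T = T * ρ a := ha.eq
    show ρ a⁻¹ * T = T * ρ a⁻¹
    calc ρ a⁻¹ * T = ρ a⁻¹ * T * (ρ a * ρ a⁻¹) := by rw [h2, mul_one]
      _ = ρ a⁻¹ * (T * ρ a) * ρ a⁻¹ := by simp only [mul_assoc]
      _ = ρ a⁻¹ * (ρ a * T) * ρ a⁻¹ := by rw [ha']
      _ = (ρ a⁻¹ * ρ a) * T * ρ a⁻¹ := by simp only [mul_assoc]
      _ = T * ρ a⁻¹ := by rw [h1, one_mul]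

omit [FiniteDimensional K V] [Finite P] in
theorem mem_Cent (ρ : Representation K P V) (T : Module.End K V) (m : P) :
    m ∈ Cent ρ T ↔ Commute (ρ m) T := Iff.rfl

/-- Irreducible non-abelian step, given the twisting element. -/
theorem step_twist [IsAlgClosed K] [Nontrivial V] (p : ℕ) [Fact p.Prime] (hP : IsPGroup p P)
    (ρ : Representation K P V) (n : ℕ) (hn : finrank K V = n)
    (IH : ∀ m < n, Good.{u, v} K p m)
    (hirr : ∀ W : Submodule K V, (∀ g, W ≤ W.comap (ρ g)) → W = ⊥ ∨ W = ⊤)
    (x : P) (hx : ∀ g : P, ∃ ζ : K, Rel ρ (ρ x) g ζ) (h0 : P) (hh0 : ¬ Commute (ρ h0) (ρ x))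
    (g : P) (hg : g ∈ derivedSeries P (f n)) : ρ g = 1 := by
  classical
  set T : Module.End K V := ρ x with hT
  -- invertibility of ρ
  have hinvl : ∀ a : P, ρ a⁻¹ * ρ a = 1 := fun a => by rw [← map_mul, inv_mul_cancel, map_one]
  have hinvr : ∀ a : P, ρ a * ρ a⁻¹ = 1 := fun a => by rw [← map_mul, mul_inv_cancel, map_one]
  have hinj : ∀ a : P, Function.Injective (ρ a) := by
    intro a v w hvw
    have := congrArg (ρ a⁻¹) hvw
    rw [← Module.End.mul_apply, ← Module.End.mul_apply, hinvl] at this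
    simpa using this
  -- eigenvalue
  obtain ⟨β, hβ⟩ := Module.End.exists_eigenvalue T
  set E : Submodule K V := Module.End.eigenspace T β with hE
  have hE0 : E ≠ ⊥ := hβ
  have hβ0 : β ≠ 0 := by
    intro h
    obtain ⟨v, hv⟩ := hβ.exists_hasEigenvector
    have h1 : T v = 0 := by rw [hv.apply_eq_smul, h, zero_smul]
    exact hv.2 (hinj x (by rw [h1, map_zero]))
  -- the centralizer subgroup M
  set M : Subgroup P := Cent ρ T with hM
  have hMcomm : ⁅(⊤ : Subgroup P), ⊤⁆ ≤ M := by
    rw [Subgroup.commutator_le]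
    intro a _ b _
    obtain ⟨ζa, ha⟩ := hx a
    obtain ⟨ζb, hb⟩ := hx b
    exact ha.commute hb
  -- E is M-invariant
  have hEM : ∀ m ∈ M, ∀ v ∈ E, ρ m v ∈ E := by
    intro m hm v hv
    rw [hE, Module.End.mem_eigenspace_iff] at hv ⊢
    have h1 : ρ m * T = T * ρ m := hm.eq
    have := congrArg (fun S : Module.End K V => S v) h1
    simp only [Module.End.mul_apply] at this
    rw [← this, hv, map_smul]
  -- the family F
  set F : P → Submodule K V := fun a => E.map (ρ a) with hF
  have hFM : ∀ (a : P), ∀ m ∈ M, ∀ v ∈ F a, ρ m v ∈ F a := by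
    intro a m hm v hv
    obtain ⟨w, hw, rfl⟩ := hv
    have hconj : a⁻¹ * m * a ∈ M := by
      have h1 : a⁻¹ * m * a = m * ⁅m⁻¹, a⁻¹⁆ := by rw [commutatorElement_def]; group
      rw [h1]
      exact M.mul_mem hm (hMcomm (Subgroup.commutator_mem_commutator (Subgroup.mem_top _)
        (Subgroup.mem_top _)))
    refine ⟨ρ (a⁻¹ * m * a) w, hEM _ hconj w hw, ?_⟩
    rw [← Module.End.mul_apply, ← Module.End.mul_apply, ← map_mul, ← map_mul]
    congr 2
    group
  -- the sup of the family is everything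
  have hsup : (⨆ a : P, F a) = ⊤ := by
    have hinvW : ∀ b : P, (⨆ a : P, F a) ≤ (⨆ a : P, F a).comap (ρ b) := by
      intro b
      rw [iSup_le_iff]
      intro a v hv
      obtain ⟨w, hw, rfl⟩ := hv
      rw [Submodule.mem_comap]
      apply Submodule.mem_iSup_of_mem (b * a)
      refine ⟨w, hw, ?_⟩
      rw [map_mul, Module.End.mul_apply]
    rcases hirr _ hinvW with h | h
    · exfalso
      apply hE0
      rw [eq_bot_iff]
      have h1 : F 1 ≤ ⨆ a : P, F a := le_iSup F 1
      rw [h] at h1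
      have h2 : F 1 = E := by
        rw [hF]
        simp only [map_one]
        exact Submodule.map_id E
      rw [h2] at h1
      exact h1
    · exact h
  -- dimensions
  have hdimF : ∀ a : P, finrank K (F a) = finrank K E := by
    intro a
    exact (LinearEquiv.finrank_eq (Submodule.equivMapOfInjective (ρ a) (hinj a) E)).symm
  have he1 : 1 ≤ finrank K E := by
    have : 0 < finrank K E := by
      rw [Module.finrank_pos_iff]
      exact Submodule.nontrivial_iff_ne_bot.mpr hE0
    omega
  have he2 : 2 * finrank K E ≤ n := by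
    obtain ⟨ζ, hζ⟩ := hx h0
    have hζ1 : ζ ≠ 1 := by
      intro h
      apply hh0
      have := hζ.2
      rw [h, one_smul] at this
      exact this
    -- F h0 ≤ eigenspace T (ζ⁻¹ β)
    have hle : F h0 ≤ Module.End.eigenspace T (ζ⁻¹ * β) := by
      intro v hv
      obtain ⟨w, hw, rfl⟩ := hv
      rw [SetLike.mem_coe, hE, Module.End.mem_eigenspace_iff] at hw
      rw [Module.End.mem_eigenspace_iff]
      have h1 := congrArg (fun S : Module.End K V => S w) hζ.2
      simp only [Module.End.mul_apply, LinearMap.smul_apply] at h1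
      rw [hw, map_smul] at h1
      -- h1 : β • ρ h0 w = ζ • T (ρ h0 w)
      have h2 : T (ρ h0 w) = ζ⁻¹ • (β • ρ h0 w) := by
        rw [h1, smul_smul, inv_mul_cancel₀ hζ.1, one_smul]
      rw [h2, smul_smul]
    have hne : ζ⁻¹ * β ≠ β := by
      intro h
      apply hζ1
      have h3 : ζ⁻¹ = 1 := by
        have := mul_right_cancel₀ hβ0 (h.trans (one_mul β).symm)
        exact this
      exact inv_eq_one.mp h3
    have hdisj : E ⊓ F h0 = ⊥ := by
      rw [eq_bot_iff]
      intro v hv
      obtain ⟨hv1, hv2⟩ := hv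
      have hv3 := hle hv2
      rw [SetLike.mem_coe, hE, Module.End.mem_eigenspace_iff] at hv1
      rw [Module.End.mem_eigenspace_iff] at hv3
      rw [hv1] at hv3
      have h4 : (β - ζ⁻¹ * β) • v = 0 := by rw [sub_smul, hv3, sub_self]
      rcases smul_eq_zero.mp h4 with h | h
      · exact absurd (sub_eq_zero.mp h).symm hne
      · exact (Submodule.mem_bot K).mpr h
    have h5 := Submodule.finrank_sup_add_finrank_inf_eq E (F h0)
    rw [hdisj, finrank_bot, add_zero, hdimF] at h5
    have h6 : finrank K ↥(E ⊔ F h0) ≤ finrank K V := Submodule.finrank_le _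
    omega
  -- apply the induction hypothesis on M and each F a
  have hlt : finrank K E < n := by omega
  have hPM : IsPGroup p M := hP.to_subgroup M
  have key : ∀ m : M, m ∈ derivedSeries M (f (finrank K E)) → ρ (m : P) = 1 := by
    intro m hm
    have hall : ∀ a : P, ∀ v ∈ F a, ρ (m : P) v = v := by
      intro a v hv
      let ρM : Representation K M V := MonoidHom.comp ρ M.subtype
      have hinvF : ∀ m' : M, F a ≤ (F a).comap (ρM m') := by
        intro m' w hw
        exact hFM a m' m'.2 w hw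
      have h1 := IH _ hlt (F a) M hPM (ρM.subrepresentation (F a) hinvF)
        (hdimF a) m hm
      have h2 := congrArg (fun S => ((S ⟨v, hv⟩ : F a) : V)) h1
      have h3 : ρM m v = v := by simpa using h2
      exact h3
    have hloc : (⨆ a : P, F a) ≤ LinearMap.eqLocus (ρ (m : P)) 1 := by
      rw [iSup_le_iff]
      intro a v hv
      rw [LinearMap.mem_eqLocus]
      simpa using hall a v hv
    rw [hsup] at hloc
    ext v
    have := hloc (Submodule.mem_top (x := v))
    rw [LinearMap.mem_eqLocus] at this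
    exact this
  have hfe : f (finrank K E) + 1 ≤ f n := f_half he1 he2
  have h7 : g ∈ derivedSeries P (f (finrank K E) + 1) := derivedSeries_antitone P hfe hg
  obtain ⟨m, hm, rfl⟩ := derivedSeries_succ_le_map M hMcomm _ h7
  exact key m hm

end steps

/-- **Cross-characteristic case.** Over an algebraically closed field in which `p` is invertible,
every representation of a finite `p`-group on an `n`-dimensional space kills the
`(⌊log₂ n⌋ + 1)`-th derived subgroup. -/
theorem good_all (K : Type*) [Field K] [IsAlgClosed K] (p : ℕ) [Fact p.Prime]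
    (hK : (p : K) ≠ 0) (n : ℕ) : Good.{u, v} K p n := by
  induction n using Nat.strong_induction_on with
  | _ n IH =>
    intro V _ _ _ P _ _ hP ρ hn g hg
    by_cases hn0 : n = 0
    · have : Subsingleton V := by
        rw [← Module.finrank_zero_iff (R := K), hn, hn0]
      ext v
      exact Subsingleton.elim _ _
    have hnt : Nontrivial V := by
      rw [← Module.finrank_pos_iff (R := K), hn]
      omega
    by_cases hred : ∃ W : Submodule K V, (∀ g, W ≤ W.comap (ρ g)) ∧ W ≠ ⊥ ∧ W ≠ ⊤
    · obtain ⟨W, hW, hW0, hW1⟩ := hred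
      exact step_reducible p hP hK ρ n hn IH W hW hW0 hW1 g hg
    · have hirr : ∀ W : Submodule K V, (∀ g, W ≤ W.comap (ρ g)) → W = ⊥ ∨ W = ⊤ := by
        intro W hW
        by_contra hcon
        push Not at hcon
        exact hred ⟨W, hW, hcon.1, hcon.2⟩
      by_cases hab : ∀ a b : P, Commute (ρ a) (ρ b)
      · exact step_abelian ρ hab (f n) (by unfold f; omega) g hg
      · obtain ⟨x, hx, h0, hh0⟩ := exists_twist p hP ρ hirr hab
        exact step_twist p hP ρ n hn IH hirr x hx h0 hh0 g hg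

end Cfsg.Agent.Lib.Helper22.LinDLB
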