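import Mathlib
import Cfsg.Agent.Lib.Helper22.LinDLB

set_option autoImplicit false

namespace Cfsg.Agent.Lib.Helper22.LinDLC

open Polynomial

/-- Frobenius-stability of root multiplicities: if `χ` has coefficients in a finite field with
`q` elements and `lam` is a root of unity of prime order `p ∤ q` in an extension, then `lam`
together with its `e` distinct Frobenius conjugates (`e` the order of `q` mod `p`) all have the
same multiplicity, hence `e * mult ≤ deg χ`. -/
theorem mul_rootMultiplicity_le {F : Type*} [Field F] [Fintype F] {K : Type*} [Field K]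
    [Algebra F K] (p : ℕ) [Fact p.Prime] (χ : F[X]) (hχ : χ ≠ 0) (lam : K) (hlam : lam ^ p = 1)
    (hlam1 : lam ≠ 1) :
    orderOf ((Fintype.card F : ℕ) : ZMod p) *
      rootMultiplicity lam (χ.map (algebraMap F K)) ≤ χ.natDegree := by
  classical
  set q := Fintype.card F with hq
  set e := orderOf ((q : ℕ) : ZMod p) with he
  set χK := χ.map (algebraMap F K) with hχK
  have hχK0 : χK ≠ 0 := (Polynomial.map_ne_zero_iff (algebraMap F K).injective).mpr hχ
  set m := rootMultiplicity lam χK with hm
  -- Frobenius
  have := ringChar.charP F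
  obtain ⟨k, hr, hcard⟩ := FiniteField.card F (ringChar F)
  have : Fact (ringChar F).Prime := ⟨hr⟩
  have : CharP K (ringChar F) :=
    charP_of_injective_algebraMap (algebraMap F K).injective (ringChar F)
  have : ExpChar K (ringChar F) := ExpChar.prime hr
  set φ : K →+* K := iterateFrobenius K (ringChar F) k with hφ
  have hφx : ∀ x : K, φ x = x ^ q := by
    intro x
    rw [hφ, iterateFrobenius_def, hq, hcard]
  have hφι : φ.comp (algebraMap F K) = algebraMap F K := by
    ext a
    rw [RingHom.comp_apply, hφx, ← map_pow, hq, FiniteField.pow_card]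
  have hχφ : χK.map φ = χK := by
    rw [hχK, Polynomial.map_map, hφι]
  -- all conjugates divide
  have hdiv : ∀ i : ℕ, (X - C (lam ^ q ^ i)) ^ m ∣ χK := by
    intro i
    induction i with
    | zero =>
      rw [pow_zero, pow_one]
      exact (le_rootMultiplicity_iff hχK0).mp le_rfl
    | succ i ih =>
      have h1 := Polynomial.map_dvd φ ih
      rw [hχφ, Polynomial.map_pow, Polynomial.map_sub, Polynomial.map_X, Polynomial.map_C, hφx,
        ← pow_mul, ← pow_succ] at h1
      exact h1
  -- distinctness
  have hord : orderOf lam = p := orderOf_eq_prime hlam hlam1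
  have hdist : ∀ i ∈ Finset.range e, ∀ j ∈ Finset.range e, lam ^ q ^ i = lam ^ q ^ j → i = j := by
    intro i hi j hj hij
    have hu : IsUnit lam := IsUnit.of_pow_eq_one hlam (Fact.out : p.Prime).ne_zero
    obtain ⟨u, rfl⟩ := hu
    have hij' : u ^ q ^ i = u ^ q ^ j := by
      apply Units.ext
      rw [Units.val_pow_eq_pow_val, Units.val_pow_eq_pow_val]
      exact hij
    rw [pow_eq_pow_iff_modEq, orderOf_units.symm, hord] at hij'
    have hij := hij'
    have h2 : ((q ^ i : ℕ) : ZMod p) = ((q ^ j : ℕ) : ZMod p) :=
      (ZMod.natCast_eq_natCast_iff _ _ _).mpr hij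
    push_cast at h2
    exact pow_injOn_Iio_orderOf (Finset.mem_range.mp hi) (Finset.mem_range.mp hj) h2
  -- product divides
  have hprod : ∏ i ∈ Finset.range e, (X - C (lam ^ q ^ i)) ^ m ∣ χK := by
    apply Finset.prod_dvd_of_coprime
    · intro i hi j hj hij
      apply IsCoprime.pow
      apply isCoprime_X_sub_C_of_isUnit_sub
      apply IsUnit.mk0
      intro h0
      exact hij (hdist i hi j hj (sub_eq_zero.mp h0))
    · intro i _
      exact hdiv i
  have hdeg := Polynomial.natDegree_le_of_dvd hprod hχK0
  rw [Polynomial.natDegree_prod_of_monic] at hdeg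
  · have h3 : ∀ i ∈ Finset.range e, ((X - C (lam ^ q ^ i)) ^ m).natDegree = m := by
      intro i _
      rw [Polynomial.natDegree_pow, natDegree_X_sub_C, mul_one]
    rw [Finset.sum_congr rfl h3, Finset.sum_const, Finset.card_range, smul_eq_mul] at hdeg
    rw [hχK, Polynomial.natDegree_map] at hdeg
    exact hdeg
  · intro i _
    exact (monic_X_sub_C _).pow m

open Module

/-- Base change of matrices to endomorphisms of `Kⁿ`. -/
noncomputable def Phi (F : Type*) [Field F] (K : Type*) [Field K] [Algebra F K] (n : ℕ) :
    Matrix (Fin n) (Fin n) F →+* Module.End K (Fin n → K) :=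
  ((Matrix.toLinAlgEquiv' : Matrix (Fin n) (Fin n) K ≃ₐ[K] _) : Matrix (Fin n) (Fin n) K →+* _).comp
    (algebraMap F K).mapMatrix

theorem Phi_apply (F : Type*) [Field F] (K : Type*) [Field K] [Algebra F K] (n : ℕ)
    (M : Matrix (Fin n) (Fin n) F) : Phi F K n M = Matrix.toLin' (M.map (algebraMap F K)) := rfl

theorem Phi_injective (F : Type*) [Field F] (K : Type*) [Field K] [Algebra F K] (n : ℕ) :
    Function.Injective (Phi F K n) := by
  intro A B h
  rw [Phi_apply, Phi_apply] at h
  exact Matrix.map_injective (algebraMap F K).injective (Matrix.toLin'.injective h)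

theorem Phi_charpoly (F : Type*) [Field F] (K : Type*) [Field K] [Algebra F K] (n : ℕ)
    (M : Matrix (Fin n) (Fin n) F) :
    (Phi F K n M).charpoly = M.charpoly.map (algebraMap F K) := by
  rw [Phi_apply, Matrix.charpoly_toLin', Matrix.charpoly_map]

theorem orderOf_pos_of_not_dvd (p : ℕ) [Fact p.Prime] (q : ℕ) (hpq : ¬ p ∣ q) :
    0 < orderOf (q : ZMod p) := by
  rw [orderOf_pos_iff, isOfFinOrder_iff_pow_eq_one]
  refine ⟨p - 1, ?_, ?_⟩
  · have := (Fact.out : p.Prime).two_le
    omega
  · apply ZMod.pow_card_sub_one_eq_one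
    intro h
    exact hpq ((ZMod.natCast_eq_zero_iff q p).mp h)

theorem natCast_ne_zero_of_not_dvd {F : Type*} [Field F] [Fintype F] (K : Type*) [Field K]
    [Algebra F K] (p : ℕ) [Fact p.Prime] (hpq : ¬ p ∣ Fintype.card F) : (p : K) ≠ 0 := by
  have := ringChar.charP F
  obtain ⟨k, hr, hcard⟩ := FiniteField.card F (ringChar F)
  have : CharP K (ringChar F) :=
    charP_of_injective_algebraMap (algebraMap F K).injective (ringChar F)
  intro h
  rw [CharP.cast_eq_zero_iff K (ringChar F)] at h
  have h1 : ringChar F = p := (Nat.prime_dvd_prime_iff_eq hr (Fact.out : p.Prime)).mp h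
  apply hpq
  rw [hcard, h1]
  exact dvd_pow_self p k.ne_zero

universe u v

/-- The fixed-point-free central element step. -/
theorem step_fpf {F : Type u} [Field F] [Fintype F] (K : Type u) [Field K] [IsAlgClosed K]
    [Algebra F K] (p : ℕ) [Fact p.Prime] (hpq : ¬ p ∣ Fintype.card F)
    {P : Type v} [Group P] [Finite P] (hP : IsPGroup p P) (n : ℕ)
    (μ : P →* Matrix (Fin n) (Fin n) F) (z : P) (hz : ∀ g, Commute (μ z) (μ g))
    (hzp : (μ z) ^ p = 1) (hz1 : ¬ (μ z).charpoly.IsRoot 1) (g : P)
    (hg : g ∈ derivedSeries P (LinDLB.f (n / orderOf ((Fintype.card F : ℕ) : ZMod p)))) :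
    μ g = 1 := by
  classical
  set e := orderOf ((Fintype.card F : ℕ) : ZMod p) with he
  have he0 : 0 < e := orderOf_pos_of_not_dvd p _ hpq
  have hK : (p : K) ≠ 0 := natCast_ne_zero_of_not_dvd K p hpq
  set ρK : Representation K P (Fin n → K) := ((Phi F K n : _ →* _)).comp μ with hρK
  have hρKa : ∀ a, ρK a = Phi F K n (μ a) := fun a => rfl
  set T : Module.End K (Fin n → K) := ρK z with hT
  have hTp : T ^ p = 1 := by
    rw [hT, hρKa, ← map_pow, hzp, map_one]
  have hcomm : ∀ a, Commute T (ρK a) := by
    intro a
    rw [hT, hρKa, hρKa]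
    exact (hz a).map (Phi F K n)
  have hchar : T.charpoly = (μ z).charpoly.map (algebraMap F K) := Phi_charpoly F K n (μ z)
  -- semisimple
  have hss : T.IsSemisimple := by
    apply Module.End.isSemisimple_of_squarefree_aeval_eq_zero
      (p := (Polynomial.X ^ p - 1 : K[X]))
    · exact (Polynomial.X_pow_sub_one_separable_iff.mpr hK).squarefree
    · simp [hTp]
  have htop := hss.iSup_eigenspace_eq_top
  -- each eigenspace is fixed pointwise by g
  have hfix : ∀ lam : K, ∀ v ∈ Module.End.eigenspace T lam, ρK g v = v := by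
    intro lam v hv
    by_cases hbot : Module.End.eigenspace T lam = ⊥
    · rw [hbot, Submodule.mem_bot] at hv
      rw [hv, map_zero]
    have hev : T.HasEigenvalue lam := hbot
    have hroot : T.charpoly.IsRoot lam := (Module.End.hasEigenvalue_iff_isRoot_charpoly T lam).mp hev
    -- lam ^ p = 1
    obtain ⟨w, hw⟩ := hev.exists_hasEigenvector
    have hlamp : lam ^ p = 1 := by
      have h1 : (T ^ p) w = lam ^ p • w := hw.pow_apply p
      rw [hTp, Module.End.one_apply] at h1
      have h2 : (lam ^ p - 1) • w = 0 := by rw [sub_smul, one_smul, ← h1, sub_self]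
      rcases smul_eq_zero.mp h2 with h | h
      · exact sub_eq_zero.mp h
      · exact absurd h hw.2
    have hlam1 : lam ≠ 1 := by
      intro h
      apply hz1
      rw [h, hchar] at hroot
      have h3 : ((μ z).charpoly.map (algebraMap F K)).IsRoot (algebraMap F K 1) := by
        rw [map_one]; exact hroot
      exact (Polynomial.isRoot_map_iff (algebraMap F K).injective).mp h3
    -- dimension bound
    have hχ0 : (μ z).charpoly ≠ 0 := (Matrix.charpoly_monic (μ z)).ne_zero
    have hd1 := LinearMap.finrank_eigenspace_le T lam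
    have hd2 := mul_rootMultiplicity_le (K := K) p (μ z).charpoly hχ0 lam hlamp hlam1
    rw [Matrix.charpoly_natDegree_eq_dim, Fintype.card_fin, ← hchar] at hd2
    have hd : finrank K (Module.End.eigenspace T lam) ≤ n / e := by
      rw [Nat.le_div_iff_mul_le he0]
      calc finrank K (Module.End.eigenspace T lam) * e
          ≤ Polynomial.rootMultiplicity lam T.charpoly * e := Nat.mul_le_mul_right _ hd1
        _ = e * Polynomial.rootMultiplicity lam T.charpoly := mul_comm _ _
        _ ≤ n := hd2
    -- invariance
    have hinv : ∀ a : P, Module.End.eigenspace T lam ≤ (Module.End.eigenspace T lam).comap (ρK a) := by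
      intro a x hx
      rw [Submodule.mem_comap, Module.End.mem_eigenspace_iff] at *
      have := congrArg (fun S : Module.End K (Fin n → K) => S x) (hcomm a).eq
      simp only [Module.End.mul_apply] at this
      rw [this, hx, map_smul]
    have h5 := LinDLB.good_all K p hK (finrank K (Module.End.eigenspace T lam))
      (Module.End.eigenspace T lam) P hP (ρK.subrepresentation _ hinv) rfl g
      (derivedSeries_antitone P (LinDLB.f_mono hd) hg)
    have h6 := congrArg (fun S => ((S ⟨v, hv⟩ : Module.End.eigenspace T lam) : Fin n → K)) h5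
    simpa using h6
  have hloc : (⨆ lam : K, Module.End.eigenspace T lam) ≤ LinearMap.eqLocus (ρK g) 1 := by
    rw [iSup_le_iff]
    intro lam v hv
    rw [LinearMap.mem_eqLocus]
    simpa using hfix lam v hv
  rw [htop] at hloc
  have h7 : ρK g = 1 := by
    apply LinearMap.ext
    intro v
    have := hloc (Submodule.mem_top (x := v))
    rw [LinearMap.mem_eqLocus] at this
    exact this
  apply Phi_injective F K n
  rw [map_one, ← hρKa, h7]

/-- The bound `⌊log₂ (n / e)⌋ + 1`. -/
def gb (e n : ℕ) : ℕ := Nat.log 2 (n / e) + 1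

theorem gb_mono (e : ℕ) {a b : ℕ} (h : a ≤ b) : gb e a ≤ gb e b := by
  unfold gb
  exact Nat.succ_le_succ (Nat.log_mono_right (Nat.div_le_div_right h))

/-- The inductive statement over the finite field. -/
def GoodF (F : Type*) [Field F] (p e : ℕ) (n : ℕ) : Prop :=
  ∀ (V : Type u) [AddCommGroup V] [Module F V] [FiniteDimensional F V]
    (P : Type v) [Group P] [Finite P], IsPGroup p P → ∀ ρ : Representation F P V,
    finrank F V = n → ∀ g ∈ derivedSeries P (gb e n), ρ g = 1

section steps

variable {K : Type*} [Field K] {V : Type u} [AddCommGroup V] [Module K V]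
  [FiniteDimensional K V]
variable {P : Type v} [Group P] [Finite P]

/-- Reducible step. -/
theorem step_reducibleF (p : ℕ) [Fact p.Prime] (hP : IsPGroup p P) (hK : (p : K) ≠ 0) (e : ℕ)
    (ρ : Representation K P V) (n : ℕ) (hn : finrank K V = n)
    (IH : ∀ m < n, GoodF.{u, v} K p e m)
    (W : Submodule K V) (hW : ∀ g, W ≤ W.comap (ρ g)) (hW0 : W ≠ ⊥) (hW1 : W ≠ ⊤)
    (g : P) (hg : g ∈ derivedSeries P (gb e n)) : ρ g = 1 := by
  have hd1 : finrank K W < n := by
    rw [← hn]
    exact Submodule.finrank_lt hW1
  have hd2 : finrank K (V ⧸ W) < n := by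
    have h1 := Submodule.finrank_quotient_add_finrank W
    have h2 : 0 < finrank K W := by
      rw [Module.finrank_pos_iff]
      exact Submodule.nontrivial_iff_ne_bot.mpr hW0
    omega
  apply LinDLB.eq_one_of_unipotent p hP hK ρ W g
  · intro w hw
    have h3 := IH _ hd1 W P hP (ρ.subrepresentation W hW) rfl g
      (derivedSeries_antitone P (gb_mono e hd1.le) hg)
    have h4 := congrArg (fun T => ((T ⟨w, hw⟩ : W) : V)) h3
    simpa using h4
  · intro v
    have h3 := IH _ hd2 (V ⧸ W) P hP (ρ.quotient W hW) rfl g
      (derivedSeries_antitone P (gb_mono e hd2.le) hg)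
    have h4 := congrArg (fun T => T (Submodule.Quotient.mk v)) h3
    simp only [Representation.quotient_apply, Submodule.mapQ_apply, Module.End.one_apply] at h4
    rw [← sub_eq_zero, ← Submodule.Quotient.mk_sub, Submodule.Quotient.mk_eq_zero] at h4
    exact h4

omit [FiniteDimensional K V] in
/-- A nontrivial representation of a finite `p`-group has an element acting centrally,
nontrivially, with `p`-th power acting trivially. -/
theorem exists_central (p : ℕ) [Fact p.Prime] (hP : IsPGroup p P) (ρ : Representation K P V)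
    (hne : ∃ g, ρ g ≠ 1) :
    ∃ z : P, ρ z ≠ 1 ∧ (ρ z) ^ p = 1 ∧ ∀ g, Commute (ρ z) (ρ g) := by
  classical
  set Q : Subgroup (Units (V →ₗ[K] V)) := ρ.asGroupHom.range with hQ
  have hQp : IsPGroup p Q := by
    rw [hQ]
    exact hP.of_surjective ρ.asGroupHom.rangeRestrict ρ.asGroupHom.rangeRestrict_surjective
  have hQfin : Finite Q := by
    rw [hQ]
    exact Finite.of_surjective _ ρ.asGroupHom.rangeRestrict_surjective
  have hQnt : Nontrivial Q := by
    obtain ⟨g, hg⟩ := hne
    refine ⟨⟨⟨ρ.asGroupHom g, ⟨g, rfl⟩⟩, 1, ?_⟩⟩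
    intro h
    apply hg
    have h1 : ρ.asGroupHom g = 1 := congrArg Subtype.val h
    have h2 := congrArg Units.val h1
    rw [Representation.asGroupHom_apply] at h2
    exact h2
  have hcn := hQp.center_nontrivial
  have hZp : IsPGroup p (Subgroup.center Q) := hQp.to_subgroup _
  have hdvd : p ∣ Nat.card (Subgroup.center Q) := by
    rcases hZp.card_eq_or_dvd with h | h
    · exfalso
      have := (Nat.card_eq_one_iff_unique.mp h).1
      exact not_subsingleton _ this
    · exact h
  obtain ⟨z1, hz1⟩ := exists_prime_orderOf_dvd_card' p hdvd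
  obtain ⟨z, hz⟩ := z1.1.2
  have hzv : ((z1.1 : Units (V →ₗ[K] V)) : V →ₗ[K] V) = ρ z := by
    rw [← hz]
    rfl
  refine ⟨z, ?_, ?_, ?_⟩
  · intro h
    have h1 : z1 = 1 := by
      apply Subtype.ext
      apply Subtype.ext
      apply Units.ext
      rw [hzv, h]
      rfl
    rw [h1, orderOf_one] at hz1
    exact (Fact.out : p.Prime).one_lt.ne hz1
  · have h1 : z1 ^ p = 1 := by rw [← hz1]; exact pow_orderOf_eq_one z1
    have h2 := congrArg (fun y : Subgroup.center Q =>
      (((y : Q) : Units (V →ₗ[K] V)) : V →ₗ[K] V)) h1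
    simp only [Subgroup.coe_pow, Units.val_pow_eq_pow_val, Subgroup.coe_one, Units.val_one] at h2
    rw [hzv] at h2
    exact h2
  · intro g
    have h1 := Subgroup.mem_center_iff.mp z1.2 ⟨ρ.asGroupHom g, ⟨g, rfl⟩⟩
    have h2 := congrArg (fun y : Q => ((y : Units (V →ₗ[K] V)) : V →ₗ[K] V)) h1
    simp only [Subgroup.coe_mul, Units.val_mul] at h2
    rw [hzv] at h2
    exact h2.symm

end steps

/-- **Finite field cross-characteristic case.** -/
theorem goodF_all (F : Type u) [Field F] [Fintype F] (p : ℕ) [Fact p.Prime]
    (hpq : ¬ p ∣ Fintype.card F) (n : ℕ) :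
    GoodF.{u, v} F p (orderOf ((Fintype.card F : ℕ) : ZMod p)) n := by
  induction n using Nat.strong_induction_on with
  | _ n IH =>
    intro V _ _ _ P _ _ hP ρ hn g hg
    have hK : (p : F) ≠ 0 := natCast_ne_zero_of_not_dvd F p hpq
    by_cases hne : ∃ a, ρ a ≠ 1
    · obtain ⟨z, hz1, hzp, hzc⟩ := exists_central p hP ρ hne
      set W : Submodule F V := Module.End.eigenspace (ρ z) 1 with hW
      have hWinv : ∀ a, W ≤ W.comap (ρ a) := by
        intro a x hx
        rw [Submodule.mem_comap, hW, Module.End.mem_eigenspace_iff] at *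
        have := congrArg (fun S : Module.End F V => S x) (hzc a).eq
        simp only [Module.End.mul_apply] at this
        rw [this, hx, map_smul]
      have hW1 : W ≠ ⊤ := by
        intro h
        apply hz1
        apply LinearMap.ext
        intro x
        have : x ∈ W := by rw [h]; trivial
        rw [hW, Module.End.mem_eigenspace_iff, one_smul] at this
        rw [this, Module.End.one_apply]
      by_cases hW0 : W = ⊥
      · -- fixed point free case
        let b : Basis (Fin n) F V := Module.finBasisOfFinrankEq F V hn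
        set μ : P →* Matrix (Fin n) (Fin n) F :=
          ((LinearMap.toMatrixAlgEquiv b : Module.End F V ≃ₐ[F] _) : Module.End F V →* _).comp ρ
          with hμ
        have hμa : ∀ a, μ a = LinearMap.toMatrixAlgEquiv b (ρ a) := fun a => rfl
        have h1 : μ g = 1 := by
          apply step_fpf (AlgebraicClosure F) p hpq hP n μ z
          · intro a
            rw [hμa, hμa]
            exact (hzc a).map (LinearMap.toMatrixAlgEquiv b)
          · rw [hμa, ← map_pow, hzp, map_one]
          · rw [hμa]
            show ¬ (LinearMap.toMatrix b b (ρ z)).charpoly.IsRoot 1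
            rw [LinearMap.charpoly_toMatrix]
            intro hroot
            have := (Module.End.hasEigenvalue_iff_isRoot_charpoly (ρ z) 1).mpr hroot
            exact this hW0
          · exact hg
        rw [hμa] at h1
        have h2 : LinearMap.toMatrixAlgEquiv b (ρ g) = LinearMap.toMatrixAlgEquiv b 1 := by
          rw [h1, map_one]
        exact (LinearMap.toMatrixAlgEquiv b).injective h2
      · exact step_reducibleF p hP hK _ ρ n hn IH W hWinv hW0 hW1 g hg
    · push Not at hne
      exact hne g

end Cfsg.Agent.Lib.Helper22.LinDLC
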