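import Mathlib
import Cfsg.Agent.Lib.Helper22.LinDLB

set_option autoImplicit false

/-!
# Derived length of linear `p`-groups, base `p` version (algebraically closed field)
-/

namespace Cfsg.Agent.Lib.Helper22.LinDLD

open Module
open scoped commutatorElement
open Cfsg.Agent.Lib.Helper22.LinDLB

/-- The bound `⌊log_p n⌋ + 1`. -/
def fp (p n : ℕ) : ℕ := Nat.log p n + 1

theorem fp_mono (p : ℕ) {a b : ℕ} (h : a ≤ b) : fp p a ≤ fp p b := by
  unfold fp
  exact Nat.succ_le_succ (Nat.log_mono_right h)

theorem fp_step {p e n : ℕ} (hp : 2 ≤ p) (he : 1 ≤ e) (h : p * e ≤ n) : fp p e + 1 ≤ fp p n := by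
  unfold fp
  have h1 : Nat.log p (e * p) = Nat.log p e + 1 :=
    Nat.log_mul_base (by omega) (by omega)
  have h2 : Nat.log p (e * p) ≤ Nat.log p n := Nat.log_mono_right (by rw [mul_comm]; exact h)
  omega

section indep

variable {K : Type*} [Field K] {V : Type*} [AddCommGroup V] [Module K V] [FiniteDimensional K V]

theorem finrank_biSup_of_indep {ι : Type*} [DecidableEq ι] (N : ι → Submodule K V)
    (hN : iSupIndep N) (s : Finset ι) :
    finrank K ↥(⨆ i ∈ s, N i) = ∑ i ∈ s, finrank K (N i) := by
  induction s using Finset.induction_on with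
  | empty => simp
  | insert a s ha ih =>
    rw [Finset.sum_insert ha, Finset.iSup_insert]
    have hdisj : Disjoint (N a) (⨆ i ∈ (s : Set ι), N i) :=
      hN.disjoint_biSup (by simpa using ha)
    have hdisj' : N a ⊓ (⨆ i ∈ s, N i) = ⊥ := by
      have := disjoint_iff.mp hdisj
      simpa using this
    have h5 := Submodule.finrank_sup_add_finrank_inf_eq (N a) (⨆ i ∈ s, N i)
    rw [hdisj', finrank_bot, add_zero] at h5
    rw [h5, ih]

end indep

universe u v

/-- The inductive statement, base `p`. -/
def GoodP (K : Type*) [Field K] (p : ℕ) (n : ℕ) : Prop :=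
  ∀ (V : Type u) [AddCommGroup V] [Module K V] [FiniteDimensional K V]
    (P : Type v) [Group P] [Finite P], IsPGroup p P → ∀ ρ : Representation K P V,
    finrank K V = n → ∀ g ∈ derivedSeries P (fp p n), ρ g = 1

section steps

variable {K : Type*} [Field K] {V : Type u} [AddCommGroup V] [Module K V]
  [FiniteDimensional K V]
variable {P : Type v} [Group P] [Finite P]

/-- Reducible step. -/
theorem step_reducibleP (p : ℕ) [Fact p.Prime] (hP : IsPGroup p P) (hK : (p : K) ≠ 0)
    (ρ : Representation K P V) (n : ℕ) (hn : finrank K V = n)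
    (IH : ∀ m < n, GoodP.{u, v} K p m)
    (W : Submodule K V) (hW : ∀ g, W ≤ W.comap (ρ g)) (hW0 : W ≠ ⊥) (hW1 : W ≠ ⊤)
    (g : P) (hg : g ∈ derivedSeries P (fp p n)) : ρ g = 1 := by
  have hd1 : finrank K W < n := by
    rw [← hn]
    exact Submodule.finrank_lt hW1
  have hd2 : finrank K (V ⧸ W) < n := by
    have h1 := Submodule.finrank_quotient_add_finrank W
    have h2 : 0 < finrank K W := by
      rw [Module.finrank_pos_iff]
      exact Submodule.nontrivial_iff_ne_bot.mpr hW0
    omega
  apply eq_one_of_unipotent p hP hK ρ W g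
  · intro w hw
    have h3 := IH _ hd1 W P hP (ρ.subrepresentation W hW) rfl g
      (derivedSeries_antitone P (fp_mono p hd1.le) hg)
    have h4 := congrArg (fun T => ((T ⟨w, hw⟩ : W) : V)) h3
    simpa using h4
  · intro v
    have h3 := IH _ hd2 (V ⧸ W) P hP (ρ.quotient W hW) rfl g
      (derivedSeries_antitone P (fp_mono p hd2.le) hg)
    have h4 := congrArg (fun T => T (Submodule.Quotient.mk v)) h3
    simp only [Representation.quotient_apply, Submodule.mapQ_apply, Module.End.one_apply] at h4
    rw [← sub_eq_zero, ← Submodule.Quotient.mk_sub, Submodule.Quotient.mk_eq_zero] at h4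
    exact h4

/-- Irreducible non-abelian step, given the twisting element. -/
theorem step_twistP [IsAlgClosed K] [Nontrivial V] (p : ℕ) [Fact p.Prime] (hP : IsPGroup p P)
    (ρ : Representation K P V) (n : ℕ) (hn : finrank K V = n)
    (IH : ∀ m < n, GoodP.{u, v} K p m)
    (hirr : ∀ W : Submodule K V, (∀ g, W ≤ W.comap (ρ g)) → W = ⊥ ∨ W = ⊤)
    (x : P) (hx : ∀ g : P, ∃ ζ : K, Rel ρ (ρ x) g ζ) (h0 : P) (hh0 : ¬ Commute (ρ h0) (ρ x))
    (g : P) (hg : g ∈ derivedSeries P (fp p n)) : ρ g = 1 := by
  classical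
  have hp2 : 2 ≤ p := (Fact.out : p.Prime).two_le
  set T : Module.End K V := ρ x with hT
  -- invertibility of ρ
  have hinvl : ∀ a : P, ρ a⁻¹ * ρ a = 1 := fun a => by rw [← map_mul, inv_mul_cancel, map_one]
  have hinvr : ∀ a : P, ρ a * ρ a⁻¹ = 1 := fun a => by rw [← map_mul, mul_inv_cancel, map_one]
  have hinj : ∀ a : P, Function.Injective (ρ a) := by
    intro a v w hvw
    have := congrArg (ρ a⁻¹) hvw
    rw [← Module.End.mul_apply, ← Module.End.mul_apply, hinvl] at this
    simpa using this
  -- eigenvalue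
  obtain ⟨β, hβ⟩ := Module.End.exists_eigenvalue T
  set E : Submodule K V := Module.End.eigenspace T β with hE
  have hE0 : E ≠ ⊥ := hβ
  have hβ0 : β ≠ 0 := by
    intro h
    obtain ⟨v, hv⟩ := hβ.exists_hasEigenvector
    have h1 : T v = 0 := by rw [hv.apply_eq_smul, h, zero_smul]
    exact hv.2 (hinj x (by rw [h1, map_zero]))
  -- the centralizer subgroup M
  set M : Subgroup P := Cent ρ T with hM
  have hMcomm : ⁅(⊤ : Subgroup P), ⊤⁆ ≤ M := by
    rw [Subgroup.commutator_le]
    intro a _ b _
    obtain ⟨ζa, ha⟩ := hx a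
    obtain ⟨ζb, hb⟩ := hx b
    exact ha.commute hb
  -- E is M-invariant
  have hEM : ∀ m ∈ M, ∀ v ∈ E, ρ m v ∈ E := by
    intro m hm v hv
    rw [hE, Module.End.mem_eigenspace_iff] at hv ⊢
    have h1 : ρ m * T = T * ρ m := hm.eq
    have := congrArg (fun S : Module.End K V => S v) h1
    simp only [Module.End.mul_apply] at this
    rw [← this, hv, map_smul]
  -- the family F
  set F : P → Submodule K V := fun a => E.map (ρ a) with hF
  have hFM : ∀ (a : P), ∀ m ∈ M, ∀ v ∈ F a, ρ m v ∈ F a := by
    intro a m hm v hv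
    obtain ⟨w, hw, rfl⟩ := hv
    have hconj : a⁻¹ * m * a ∈ M := by
      have h1 : a⁻¹ * m * a = m * ⁅m⁻¹, a⁻¹⁆ := by rw [commutatorElement_def]; group
      rw [h1]
      exact M.mul_mem hm (hMcomm (Subgroup.commutator_mem_commutator (Subgroup.mem_top _)
        (Subgroup.mem_top _)))
    refine ⟨ρ (a⁻¹ * m * a) w, hEM _ hconj w hw, ?_⟩
    rw [← Module.End.mul_apply, ← Module.End.mul_apply, ← map_mul, ← map_mul]
    congr 2
    group
  -- the sup of the family is everything
  have hsup : (⨆ a : P, F a) = ⊤ := by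
    have hinvW : ∀ b : P, (⨆ a : P, F a) ≤ (⨆ a : P, F a).comap (ρ b) := by
      intro b
      rw [iSup_le_iff]
      intro a v hv
      obtain ⟨w, hw, rfl⟩ := hv
      rw [Submodule.mem_comap]
      apply Submodule.mem_iSup_of_mem (b * a)
      refine ⟨w, hw, ?_⟩
      rw [map_mul, Module.End.mul_apply]
    rcases hirr _ hinvW with h | h
    · exfalso
      apply hE0
      rw [eq_bot_iff]
      have h1 : F 1 ≤ ⨆ a : P, F a := le_iSup F 1
      rw [h] at h1
      have h2 : F 1 = E := by
        rw [hF]
        simp only [map_one]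
        exact Submodule.map_id E
      rw [h2] at h1
      exact h1
    · exact h
  -- dimensions
  have hdimF : ∀ a : P, finrank K (F a) = finrank K E := by
    intro a
    exact (LinearEquiv.finrank_eq (Submodule.equivMapOfInjective (ρ a) (hinj a) E)).symm
  have he1 : 1 ≤ finrank K E := by
    have : 0 < finrank K E := by
      rw [Module.finrank_pos_iff]
      exact Submodule.nontrivial_iff_ne_bot.mpr hE0
    omega
  have he2 : p * finrank K E ≤ n := by
    obtain ⟨ζ, hζ⟩ := hx h0
    have hζ1 : ζ ≠ 1 := by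
      intro h
      apply hh0
      have := hζ.2
      rw [h, one_smul] at this
      exact this
    -- relation for powers
    have hpow : ∀ i : ℕ, Rel ρ T (h0 ^ i) (ζ ^ i) := by
      intro i
      induction i with
      | zero =>
        rw [pow_zero, pow_zero]
        exact ⟨one_ne_zero, by rw [map_one, one_mul, mul_one, one_smul]⟩
      | succ i ih =>
        rw [pow_succ, pow_succ]
        exact ih.mul hζ
    -- ζ has p-power order
    obtain ⟨N, hN⟩ := hP h0
    have hTne : T ≠ 0 := by
      intro h
      obtain ⟨v, hv⟩ := exists_ne (0 : V)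
      apply hv
      apply hinj x
      rw [map_zero]
      show T v = 0
      rw [h, LinearMap.zero_apply]
    have hζN : ζ ^ (p ^ N) = 1 := by
      have h1 := (hpow (p ^ N)).2
      rw [hN, map_one, one_mul, mul_one] at h1
      have h2 : (1 - ζ ^ p ^ N) • T = 0 := by
        rw [sub_smul, one_smul, ← h1, sub_self]
      rcases smul_eq_zero.mp h2 with h | h
      · exact (sub_eq_zero.mp h).symm
      · exact absurd h hTne
    have hord : p ≤ orderOf ζ := by
      have hdvd : orderOf ζ ∣ p ^ N := orderOf_dvd_of_pow_eq_one hζN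
      obtain ⟨a, _, hoa⟩ := (Nat.dvd_prime_pow (Fact.out : p.Prime)).mp hdvd
      rcases Nat.eq_zero_or_pos a with h | h
      · exfalso
        rw [h, pow_zero, orderOf_eq_one_iff] at hoa
        exact hζ1 hoa
      · rw [hoa]
        calc p = p ^ 1 := (pow_one p).symm
          _ ≤ p ^ a := Nat.pow_le_pow_right (by omega) h
    -- eigenvalues
    set lam : Fin p → K := fun i => (ζ ^ (i : ℕ))⁻¹ * β with hlam
    have hlinj : Function.Injective lam := by
      intro i j hij
      have h1 : (ζ ^ (i : ℕ))⁻¹ = (ζ ^ (j : ℕ))⁻¹ := mul_right_cancel₀ hβ0 hij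
      have h2 : ζ ^ (i : ℕ) = ζ ^ (j : ℕ) := inv_injective h1
      have h3 := pow_injOn_Iio_orderOf (x := ζ)
        (lt_of_lt_of_le i.2 hord) (lt_of_lt_of_le j.2 hord) h2
      exact Fin.ext h3
    have hle : ∀ i : Fin p, F (h0 ^ (i : ℕ)) ≤ Module.End.eigenspace T (lam i) := by
      intro i v hv
      obtain ⟨w, hw, rfl⟩ := hv
      rw [SetLike.mem_coe, hE, Module.End.mem_eigenspace_iff] at hw
      rw [Module.End.mem_eigenspace_iff]
      have hr := hpow (i : ℕ)
      have h1 := congrArg (fun S : Module.End K V => S w) hr.2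
      simp only [Module.End.mul_apply, LinearMap.smul_apply] at h1
      rw [hw, map_smul] at h1
      have h2 : T (ρ (h0 ^ (i : ℕ)) w) = (ζ ^ (i : ℕ))⁻¹ • (β • ρ (h0 ^ (i : ℕ)) w) := by
        rw [h1, smul_smul, inv_mul_cancel₀ hr.1, one_smul]
      rw [h2, smul_smul]
    have hind : iSupIndep (fun i : Fin p => Module.End.eigenspace T (lam i)) :=
      (Module.End.eigenspaces_iSupIndep T).comp hlinj
    have h3 := finrank_biSup_of_indep _ hind Finset.univ
    have h4 : finrank K ↥(⨆ i ∈ (Finset.univ : Finset (Fin p)),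
        Module.End.eigenspace T (lam i)) ≤ finrank K V := Submodule.finrank_le _
    have h5 : ∑ i : Fin p, finrank K E ≤
        ∑ i : Fin p, finrank K (Module.End.eigenspace T (lam i)) := by
      apply Finset.sum_le_sum
      intro i _
      rw [← hdimF (h0 ^ (i : ℕ))]
      exact Submodule.finrank_mono (hle i)
    rw [Finset.sum_const, Finset.card_univ, Fintype.card_fin, smul_eq_mul] at h5
    omega
  -- apply the induction hypothesis on M and each F a
  have hlt : finrank K E < n := by
    have : 2 * finrank K E ≤ p * finrank K E := Nat.mul_le_mul_right _ hp2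
    omega
  have hPM : IsPGroup p M := hP.to_subgroup M
  have key : ∀ m : M, m ∈ derivedSeries M (fp p (finrank K E)) → ρ (m : P) = 1 := by
    intro m hm
    have hall : ∀ a : P, ∀ v ∈ F a, ρ (m : P) v = v := by
      intro a v hv
      let ρM : Representation K M V := MonoidHom.comp ρ M.subtype
      have hinvF : ∀ m' : M, F a ≤ (F a).comap (ρM m') := by
        intro m' w hw
        exact hFM a m' m'.2 w hw
      have h1 := IH _ hlt (F a) M hPM (ρM.subrepresentation (F a) hinvF)
        (hdimF a) m hm
      have h2 := congrArg (fun S => ((S ⟨v, hv⟩ : F a) : V)) h1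
      have h3 : ρM m v = v := by simpa using h2
      exact h3
    have hloc : (⨆ a : P, F a) ≤ LinearMap.eqLocus (ρ (m : P)) 1 := by
      rw [iSup_le_iff]
      intro a v hv
      rw [LinearMap.mem_eqLocus]
      simpa using hall a v hv
    rw [hsup] at hloc
    ext v
    have := hloc (Submodule.mem_top (x := v))
    rw [LinearMap.mem_eqLocus] at this
    exact this
  have hfe : fp p (finrank K E) + 1 ≤ fp p n := fp_step hp2 he1 he2
  have h7 : g ∈ derivedSeries P (fp p (finrank K E) + 1) := derivedSeries_antitone P hfe hg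
  obtain ⟨m, hm, rfl⟩ := derivedSeries_succ_le_map M hMcomm _ h7
  exact key m hm

end steps

/-- **Cross-characteristic case, base `p`.** Over an algebraically closed field in which `p` is
invertible, every representation of a finite `p`-group on an `n`-dimensional space kills the
`(⌊log_p n⌋ + 1)`-th derived subgroup. -/
theorem goodP_all (K : Type*) [Field K] [IsAlgClosed K] (p : ℕ) [Fact p.Prime]
    (hK : (p : K) ≠ 0) (n : ℕ) : GoodP.{u, v} K p n := by
  induction n using Nat.strong_induction_on with
  | _ n IH =>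
    intro V _ _ _ P _ _ hP ρ hn g hg
    by_cases hn0 : n = 0
    · have : Subsingleton V := by
        rw [← Module.finrank_zero_iff (R := K), hn, hn0]
      ext v
      exact Subsingleton.elim _ _
    have hnt : Nontrivial V := by
      rw [← Module.finrank_pos_iff (R := K), hn]
      omega
    by_cases hred : ∃ W : Submodule K V, (∀ g, W ≤ W.comap (ρ g)) ∧ W ≠ ⊥ ∧ W ≠ ⊤
    · obtain ⟨W, hW, hW0, hW1⟩ := hred
      exact step_reducibleP p hP hK ρ n hn IH W hW hW0 hW1 g hg
    · have hirr : ∀ W : Submodule K V, (∀ g, W ≤ W.comap (ρ g)) → W = ⊥ ∨ W = ⊤ := by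
        intro W hW
        by_contra hcon
        push Not at hcon
        exact hred ⟨W, hW, hcon.1, hcon.2⟩
      by_cases hab : ∀ a b : P, Commute (ρ a) (ρ b)
      · exact step_abelian ρ hab (fp p n) (by unfold fp; omega) g hg
      · obtain ⟨x, hx, h0, hh0⟩ := exists_twist p hP ρ hirr hab
        exact step_twistP p hP ρ n hn IH hirr x hx h0 hh0 g hg

end Cfsg.Agent.Lib.Helper22.LinDLD
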