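import Mathlib
import Cfsg.Agent.Lib.Helper22.LinDLB
import Cfsg.Agent.Lib.Helper22.LinDLC
import Cfsg.Agent.Lib.Helper22.LinDLD

set_option autoImplicit false

/-!
# Derived length of `p`-subgroups of `GL_n(q)`, base `p` version (finite field, `p ∤ q`)
-/

namespace Cfsg.Agent.Lib.Helper22.LinDLE

open Module Polynomial
open Cfsg.Agent.Lib.Helper22.LinDLC

universe u v

/-- The fixed-point-free central element step, base `p`. -/
theorem step_fpfP {F : Type u} [Field F] [Fintype F] (K : Type u) [Field K] [IsAlgClosed K]
    [Algebra F K] (p : ℕ) [Fact p.Prime] (hpq : ¬ p ∣ Fintype.card F)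
    {P : Type v} [Group P] [Finite P] (hP : IsPGroup p P) (n : ℕ)
    (μ : P →* Matrix (Fin n) (Fin n) F) (z : P) (hz : ∀ g, Commute (μ z) (μ g))
    (hzp : (μ z) ^ p = 1) (hz1 : ¬ (μ z).charpoly.IsRoot 1) (g : P)
    (hg : g ∈ derivedSeries P (LinDLD.fp p (n / orderOf ((Fintype.card F : ℕ) : ZMod p)))) :
    μ g = 1 := by
  classical
  set e := orderOf ((Fintype.card F : ℕ) : ZMod p) with he
  have he0 : 0 < e := orderOf_pos_of_not_dvd p _ hpq
  have hK : (p : K) ≠ 0 := natCast_ne_zero_of_not_dvd K p hpq
  set ρK : Representation K P (Fin n → K) := ((Phi F K n : _ →* _)).comp μ with hρK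
  have hρKa : ∀ a, ρK a = Phi F K n (μ a) := fun a => rfl
  set T : Module.End K (Fin n → K) := ρK z with hT
  have hTp : T ^ p = 1 := by
    rw [hT, hρKa, ← map_pow, hzp, map_one]
  have hcomm : ∀ a, Commute T (ρK a) := by
    intro a
    rw [hT, hρKa, hρKa]
    exact (hz a).map (Phi F K n)
  have hchar : T.charpoly = (μ z).charpoly.map (algebraMap F K) := Phi_charpoly F K n (μ z)
  -- semisimple
  have hss : T.IsSemisimple := by
    apply Module.End.isSemisimple_of_squarefree_aeval_eq_zero
      (p := (Polynomial.X ^ p - 1 : K[X]))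
    · exact (Polynomial.X_pow_sub_one_separable_iff.mpr hK).squarefree
    · simp [hTp]
  have htop := hss.iSup_eigenspace_eq_top
  -- each eigenspace is fixed pointwise by g
  have hfix : ∀ lam : K, ∀ v ∈ Module.End.eigenspace T lam, ρK g v = v := by
    intro lam v hv
    by_cases hbot : Module.End.eigenspace T lam = ⊥
    · rw [hbot, Submodule.mem_bot] at hv
      rw [hv, map_zero]
    have hev : T.HasEigenvalue lam := hbot
    have hroot : T.charpoly.IsRoot lam := (Module.End.hasEigenvalue_iff_isRoot_charpoly T lam).mp hev
    -- lam ^ p = 1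
    obtain ⟨w, hw⟩ := hev.exists_hasEigenvector
    have hlamp : lam ^ p = 1 := by
      have h1 : (T ^ p) w = lam ^ p • w := hw.pow_apply p
      rw [hTp, Module.End.one_apply] at h1
      have h2 : (lam ^ p - 1) • w = 0 := by rw [sub_smul, one_smul, ← h1, sub_self]
      rcases smul_eq_zero.mp h2 with h | h
      · exact sub_eq_zero.mp h
      · exact absurd h hw.2
    have hlam1 : lam ≠ 1 := by
      intro h
      apply hz1
      rw [h, hchar] at hroot
      have h3 : ((μ z).charpoly.map (algebraMap F K)).IsRoot (algebraMap F K 1) := by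
        rw [map_one]; exact hroot
      exact (Polynomial.isRoot_map_iff (algebraMap F K).injective).mp h3
    -- dimension bound
    have hχ0 : (μ z).charpoly ≠ 0 := (Matrix.charpoly_monic (μ z)).ne_zero
    have hd1 := LinearMap.finrank_eigenspace_le T lam
    have hd2 := mul_rootMultiplicity_le (K := K) p (μ z).charpoly hχ0 lam hlamp hlam1
    rw [Matrix.charpoly_natDegree_eq_dim, Fintype.card_fin, ← hchar] at hd2
    have hd : finrank K (Module.End.eigenspace T lam) ≤ n / e := by
      rw [Nat.le_div_iff_mul_le he0]
      calc finrank K (Module.End.eigenspace T lam) * e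
          ≤ Polynomial.rootMultiplicity lam T.charpoly * e := Nat.mul_le_mul_right _ hd1
        _ = e * Polynomial.rootMultiplicity lam T.charpoly := mul_comm _ _
        _ ≤ n := hd2
    -- invariance
    have hinv : ∀ a : P, Module.End.eigenspace T lam ≤ (Module.End.eigenspace T lam).comap (ρK a) := by
      intro a x hx
      rw [Submodule.mem_comap, Module.End.mem_eigenspace_iff] at *
      have := congrArg (fun S : Module.End K (Fin n → K) => S x) (hcomm a).eq
      simp only [Module.End.mul_apply] at this
      rw [this, hx, map_smul]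
    have h5 := LinDLD.goodP_all K p hK (finrank K (Module.End.eigenspace T lam))
      (Module.End.eigenspace T lam) P hP (ρK.subrepresentation _ hinv) rfl g
      (derivedSeries_antitone P (LinDLD.fp_mono p hd) hg)
    have h6 := congrArg (fun S => ((S ⟨v, hv⟩ : Module.End.eigenspace T lam) : Fin n → K)) h5
    simpa using h6
  have hloc : (⨆ lam : K, Module.End.eigenspace T lam) ≤ LinearMap.eqLocus (ρK g) 1 := by
    rw [iSup_le_iff]
    intro lam v hv
    rw [LinearMap.mem_eqLocus]
    simpa using hfix lam v hv
  rw [htop] at hloc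
  have h7 : ρK g = 1 := by
    apply LinearMap.ext
    intro v
    have := hloc (Submodule.mem_top (x := v))
    rw [LinearMap.mem_eqLocus] at this
    exact this
  apply Phi_injective F K n
  rw [map_one, ← hρKa, h7]

/-- The bound `⌊log_p (n / e)⌋ + 1`. -/
def gbp (p e n : ℕ) : ℕ := Nat.log p (n / e) + 1

theorem gbp_mono (p e : ℕ) {a b : ℕ} (h : a ≤ b) : gbp p e a ≤ gbp p e b := by
  unfold gbp
  exact Nat.succ_le_succ (Nat.log_mono_right (Nat.div_le_div_right h))

/-- The inductive statement over the finite field. -/
def GoodFP (F : Type*) [Field F] (p e : ℕ) (n : ℕ) : Prop :=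
  ∀ (V : Type u) [AddCommGroup V] [Module F V] [FiniteDimensional F V]
    (P : Type v) [Group P] [Finite P], IsPGroup p P → ∀ ρ : Representation F P V,
    finrank F V = n → ∀ g ∈ derivedSeries P (gbp p e n), ρ g = 1

section steps

variable {K : Type*} [Field K] {V : Type u} [AddCommGroup V] [Module K V]
  [FiniteDimensional K V]
variable {P : Type v} [Group P] [Finite P]

/-- Reducible step. -/
theorem step_reducibleFP (p : ℕ) [Fact p.Prime] (hP : IsPGroup p P) (hK : (p : K) ≠ 0) (e : ℕ)
    (ρ : Representation K P V) (n : ℕ) (hn : finrank K V = n)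
    (IH : ∀ m < n, GoodFP.{u, v} K p e m)
    (W : Submodule K V) (hW : ∀ g, W ≤ W.comap (ρ g)) (hW0 : W ≠ ⊥) (hW1 : W ≠ ⊤)
    (g : P) (hg : g ∈ derivedSeries P (gbp p e n)) : ρ g = 1 := by
  have hd1 : finrank K W < n := by
    rw [← hn]
    exact Submodule.finrank_lt hW1
  have hd2 : finrank K (V ⧸ W) < n := by
    have h1 := Submodule.finrank_quotient_add_finrank W
    have h2 : 0 < finrank K W := by
      rw [Module.finrank_pos_iff]
      exact Submodule.nontrivial_iff_ne_bot.mpr hW0
    omega
  apply LinDLB.eq_one_of_unipotent p hP hK ρ W g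
  · intro w hw
    have h3 := IH _ hd1 W P hP (ρ.subrepresentation W hW) rfl g
      (derivedSeries_antitone P (gbp_mono p e hd1.le) hg)
    have h4 := congrArg (fun T => ((T ⟨w, hw⟩ : W) : V)) h3
    simpa using h4
  · intro v
    have h3 := IH _ hd2 (V ⧸ W) P hP (ρ.quotient W hW) rfl g
      (derivedSeries_antitone P (gbp_mono p e hd2.le) hg)
    have h4 := congrArg (fun T => T (Submodule.Quotient.mk v)) h3
    simp only [Representation.quotient_apply, Submodule.mapQ_apply, Module.End.one_apply] at h4
    rw [← sub_eq_zero, ← Submodule.Quotient.mk_sub, Submodule.Quotient.mk_eq_zero] at h4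
    exact h4

end steps

/-- **Finite field cross-characteristic case, base `p`.** -/
theorem goodFP_all (F : Type u) [Field F] [Fintype F] (p : ℕ) [Fact p.Prime]
    (hpq : ¬ p ∣ Fintype.card F) (n : ℕ) :
    GoodFP.{u, v} F p (orderOf ((Fintype.card F : ℕ) : ZMod p)) n := by
  induction n using Nat.strong_induction_on with
  | _ n IH =>
    intro V _ _ _ P _ _ hP ρ hn g hg
    have hK : (p : F) ≠ 0 := natCast_ne_zero_of_not_dvd F p hpq
    by_cases hne : ∃ a, ρ a ≠ 1
    · obtain ⟨z, hz1, hzp, hzc⟩ := exists_central p hP ρ hne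
      set W : Submodule F V := Module.End.eigenspace (ρ z) 1 with hW
      have hWinv : ∀ a, W ≤ W.comap (ρ a) := by
        intro a x hx
        rw [Submodule.mem_comap, hW, Module.End.mem_eigenspace_iff] at *
        have := congrArg (fun S : Module.End F V => S x) (hzc a).eq
        simp only [Module.End.mul_apply] at this
        rw [this, hx, map_smul]
      have hW1 : W ≠ ⊤ := by
        intro h
        apply hz1
        apply LinearMap.ext
        intro x
        have : x ∈ W := by rw [h]; trivial
        rw [hW, Module.End.mem_eigenspace_iff, one_smul] at this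
        rw [this, Module.End.one_apply]
      by_cases hW0 : W = ⊥
      · -- fixed point free case
        let b : Basis (Fin n) F V := Module.finBasisOfFinrankEq F V hn
        set μ : P →* Matrix (Fin n) (Fin n) F :=
          ((LinearMap.toMatrixAlgEquiv b : Module.End F V ≃ₐ[F] _) : Module.End F V →* _).comp ρ
          with hμ
        have hμa : ∀ a, μ a = LinearMap.toMatrixAlgEquiv b (ρ a) := fun a => rfl
        have h1 : μ g = 1 := by
          apply step_fpfP (AlgebraicClosure F) p hpq hP n μ z
          · intro a
            rw [hμa, hμa]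
            exact (hzc a).map (LinearMap.toMatrixAlgEquiv b)
          · rw [hμa, ← map_pow, hzp, map_one]
          · rw [hμa]
            show ¬ (LinearMap.toMatrix b b (ρ z)).charpoly.IsRoot 1
            rw [LinearMap.charpoly_toMatrix]
            intro hroot
            have := (Module.End.hasEigenvalue_iff_isRoot_charpoly (ρ z) 1).mpr hroot
            exact this hW0
          · exact hg
        rw [hμa] at h1
        have h2 : LinearMap.toMatrixAlgEquiv b (ρ g) = LinearMap.toMatrixAlgEquiv b 1 := by
          rw [h1, map_one]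
        exact (LinearMap.toMatrixAlgEquiv b).injective h2
      · exact step_reducibleFP p hP hK _ ρ n hn IH W hWinv hW0 hW1 g hg
    · push Not at hne
      exact hne g

end Cfsg.Agent.Lib.Helper22.LinDLE
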