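import Mathlib

set_option autoImplicit false

/-!
# Wreath product representations and lower bounds for derived length of linear `p`-groups
-/

namespace Cfsg.Agent.Lib.Helper22.LinDLF

open Module
open scoped commutatorElement

section wreath

variable {F : Type*} [Field F] {V : Type*} [AddCommGroup V] [Module F V]
variable {D : Type*} [Group D] {C : Type*} [Group C]

/-- The induced representation of the regular wreath product on `C → V`. -/
def wrRep (ρ : Representation F D V) : Representation F (D ≀ᵣ C) (C → V) where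
  toFun w :=
    { toFun := fun v q => ρ (w.left q) (v (w.right⁻¹ * q))
      map_add' := by
        intro v v'
        funext q
        simp
      map_smul' := by
        intro a v
        funext q
        simp }
  map_one' := by
    apply LinearMap.ext
    intro v
    funext q
    simp
  map_mul' a b := by
    apply LinearMap.ext
    intro v
    funext q
    simp [mul_assoc]

theorem wrRep_apply (ρ : Representation F D V) (w : D ≀ᵣ C) (v : C → V) (q : C) :
    wrRep ρ w v q = ρ (w.left q) (v (w.right⁻¹ * q)) := rfl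

/-- Evaluation at the identity coordinate, on the base group. -/
def ev : (RegularWreathProduct.rightHom : D ≀ᵣ C →* C).ker →* D where
  toFun w := w.1.left 1
  map_one' := rfl
  map_mul' a b := by
    have ha : a.1.right = 1 := a.2
    simp [ha]

theorem ev_apply (w : (RegularWreathProduct.rightHom : D ≀ᵣ C →* C).ker) :
    ev w = w.1.left 1 := rfl

theorem derivedSeries_le_map_ev [DecidableEq C] (c : C) (hc : c ≠ 1) (j : ℕ) :
    derivedSeries D j ≤
      ((derivedSeries (D ≀ᵣ C) (j + 1)).subgroupOf
        (RegularWreathProduct.rightHom : D ≀ᵣ C →* C).ker).map ev := by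
  induction j with
  | zero =>
    intro x _
    set b : D ≀ᵣ C := ⟨Pi.mulSingle 1 x, 1⟩ with hb
    set s : D ≀ᵣ C := ⟨1, c⟩ with hs
    have hw : ⁅b, s⁆ ∈ derivedSeries (D ≀ᵣ C) 1 := by
      rw [derivedSeries_succ, derivedSeries_zero]
      exact Subgroup.commutator_mem_commutator (Subgroup.mem_top _) (Subgroup.mem_top _)
    have hker : ⁅b, s⁆ ∈ (RegularWreathProduct.rightHom : D ≀ᵣ C →* C).ker := by
      rw [MonoidHom.mem_ker, commutatorElement_def]
      simp [hb, hs]
    refine ⟨⟨⁅b, s⁆, hker⟩, ?_, ?_⟩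
    · exact hw
    · show (⁅b, s⁆ : D ≀ᵣ C).left 1 = x
      rw [commutatorElement_def]
      have hc' : c⁻¹ ≠ 1 := by
        intro h
        exact hc (inv_eq_one.mp h)
      simp [hb, hs, Pi.mulSingle_apply, hc']
  | succ j ih =>
    rw [derivedSeries_succ]
    calc ⁅derivedSeries D j, derivedSeries D j⁆
        ≤ ⁅((derivedSeries (D ≀ᵣ C) (j + 1)).subgroupOf
            (RegularWreathProduct.rightHom : D ≀ᵣ C →* C).ker).map ev,
          ((derivedSeries (D ≀ᵣ C) (j + 1)).subgroupOf
            (RegularWreathProduct.rightHom : D ≀ᵣ C →* C).ker).map ev⁆ :=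
          Subgroup.commutator_mono ih ih
      _ = (⁅(derivedSeries (D ≀ᵣ C) (j + 1)).subgroupOf
            (RegularWreathProduct.rightHom : D ≀ᵣ C →* C).ker,
          (derivedSeries (D ≀ᵣ C) (j + 1)).subgroupOf
            (RegularWreathProduct.rightHom : D ≀ᵣ C →* C).ker⁆).map ev :=
          (Subgroup.map_commutator _ _ ev).symm
      _ ≤ ((derivedSeries (D ≀ᵣ C) (j + 1 + 1)).subgroupOf
            (RegularWreathProduct.rightHom : D ≀ᵣ C →* C).ker).map ev := by
          apply Subgroup.map_mono
          rw [Subgroup.commutator_le]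
          intro a ha b hb
          rw [Subgroup.mem_subgroupOf] at ha hb ⊢
          rw [derivedSeries_succ]
          have : ((⁅a, b⁆ : (RegularWreathProduct.rightHom : D ≀ᵣ C →* C).ker) : D ≀ᵣ C)
              = ⁅(a : D ≀ᵣ C), (b : D ≀ᵣ C)⁆ := by
            simp [commutatorElement_def]
          rw [this]
          exact Subgroup.commutator_mem_commutator ha hb

/-- Key step: if some element of the `j`-th derived subgroup acts nontrivially, then some element
of the `(j+1)`-st derived subgroup of the wreath product acts nontrivially. -/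
theorem exists_wr [DecidableEq C] (c : C) (hc : c ≠ 1) (ρ : Representation F D V) (j : ℕ)
    (g : D) (hg : g ∈ derivedSeries D j) (hρ : ρ g ≠ 1) :
    ∃ w ∈ derivedSeries (D ≀ᵣ C) (j + 1), wrRep (C := C) ρ w ≠ 1 := by
  obtain ⟨w, hw, hwg⟩ := derivedSeries_le_map_ev c hc j hg
  rw [SetLike.mem_coe, Subgroup.mem_subgroupOf] at hw
  refine ⟨w.1, hw, ?_⟩
  intro h1
  apply hρ
  apply LinearMap.ext
  intro u
  have hr : w.1.right = 1 := w.2
  have h2 := congrFun (congrArg (fun T => T (Pi.single 1 u)) h1) 1
  simp only [wrRep_apply, Module.End.one_apply, hr, inv_one, one_mul, Pi.single_eq_same] at h2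
  rw [ev_apply] at hwg
  rw [hwg] at h2
  rw [h2, Module.End.one_apply]

end wreath

universe u

/-- There is a finite `p`-group with an `m`-dimensional `F`-representation in which some element
of the `j`-th derived subgroup acts nontrivially. -/
def HasDL (F : Type u) [Field F] (p m j : ℕ) : Prop :=
  ∃ (Q : Type u) (_ : Group Q) (_ : Finite Q) (V : Type u) (_ : AddCommGroup V) (_ : Module F V)
    (_ : FiniteDimensional F V), IsPGroup p Q ∧ finrank F V = m ∧
    ∃ ρ : Representation F Q V, ∃ g ∈ derivedSeries Q j, ρ g ≠ 1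

theorem HasDL.step {F : Type u} [Field F] {p m j : ℕ} [Fact p.Prime] (h : HasDL F p m j) :
    HasDL F p (p * m) (j + 1) := by
  classical
  obtain ⟨Q, _, _, V, _, _, _, hQ, hdim, ρ, g, hg, hρ⟩ := h
  have hp := (Fact.out : p.Prime)
  let C := Multiplicative (ZMod p)
  have : NeZero p := ⟨hp.ne_zero⟩
  have hCcard : Nat.card C = p := by
    show Nat.card (Multiplicative (ZMod p)) = p
    rw [Nat.card_eq_fintype_card, Fintype.card_multiplicative, ZMod.card]
  have : Fact (1 < p) := ⟨hp.one_lt⟩
  obtain ⟨c, hc⟩ : ∃ c : C, c ≠ 1 := by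
    refine ⟨Multiplicative.ofAdd (1 : ZMod p), ?_⟩
    intro h
    have h2 : (1 : ZMod p) = 0 := by
      have := congrArg Multiplicative.toAdd h
      simp at this
    exact one_ne_zero h2
  refine ⟨Q ≀ᵣ C, inferInstance, inferInstance, C → V, inferInstance, inferInstance,
    inferInstance, ?_, ?_, wrRep ρ, ?_⟩
  · obtain ⟨a, ha⟩ := IsPGroup.iff_card.mp hQ
    apply IsPGroup.of_card (n := a * p + 1)
    rw [RegularWreathProduct.card, hCcard, ha, ← pow_mul, pow_succ]
  · rw [Module.finrank_pi_fintype, Finset.sum_const, Finset.card_univ, smul_eq_mul, hdim,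
      ← Nat.card_eq_fintype_card, hCcard]
  · exact exists_wr c hc ρ j g hg hρ

theorem HasDL.pad {F : Type u} [Field F] {p m j : ℕ} (h : HasDL F p m j) (n : ℕ) (hmn : m ≤ n) :
    HasDL F p n j := by
  obtain ⟨Q, _, _, V, _, _, _, hQ, hdim, ρ, g, hg, hρ⟩ := h
  let ρ' : Representation F Q (V × (Fin (n - m) → F)) :=
    { toFun := fun a => LinearMap.prodMap (ρ a) LinearMap.id
      map_one' := by
        rw [map_one]
        apply LinearMap.ext
        intro v
        rfl
      map_mul' := by
        intro a b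
        rw [map_mul]
        apply LinearMap.ext
        intro v
        rfl }
  refine ⟨Q, inferInstance, inferInstance, V × (Fin (n - m) → F), inferInstance, inferInstance,
    inferInstance, hQ, ?_, ρ', g, hg, ?_⟩
  · rw [Module.finrank_prod, hdim, Module.finrank_fin_fun]
    omega
  · intro h1
    apply hρ
    apply LinearMap.ext
    intro v
    have h2 := congrArg (fun T : Module.End F (V × (Fin (n - m) → F)) => (T (v, 0)).1) h1
    exact h2

theorem HasDL.base {F : Type u} [Field F] [Fintype F] (p : ℕ) [Fact p.Prime]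
    (hpq : ¬ p ∣ Fintype.card F) :
    HasDL F p (orderOf ((Fintype.card F : ℕ) : ZMod p)) 0 := by
  classical
  have hp := (Fact.out : p.Prime)
  set q := Fintype.card F with hq
  set e := orderOf ((q : ℕ) : ZMod p) with he
  have he0 : 0 < e := by
    rw [he, orderOf_pos_iff, isOfFinOrder_iff_pow_eq_one]
    refine ⟨p - 1, ?_, ?_⟩
    · have := hp.two_le
      omega
    · apply ZMod.pow_card_sub_one_eq_one
      intro h
      exact hpq ((ZMod.natCast_eq_zero_iff q p).mp h)
  have hq1 : 1 ≤ q := Fintype.card_pos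
  -- p divides q ^ e - 1
  have hdvd1 : p ∣ q ^ e - 1 := by
    have h1 : ((q : ZMod p)) ^ e = 1 := pow_orderOf_eq_one _
    have h2 : ((q ^ e - 1 : ℕ) : ZMod p) = 0 := by
      rw [Nat.cast_sub (Nat.one_le_pow _ _ hq1), Nat.cast_pow, h1, Nat.cast_one, sub_self]
    exact (ZMod.natCast_eq_zero_iff _ _).mp h2
  have hdvd : p ∣ Nat.card (GL (Fin e) F) := by
    rw [Matrix.card_GL_field]
    have h0 : (⟨0, he0⟩ : Fin e) ∈ Finset.univ := Finset.mem_univ _
    apply dvd_trans _ (Finset.dvd_prod_of_mem _ h0)
    simpa using hdvd1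
  obtain ⟨x, hx⟩ := exists_prime_orderOf_dvd_card' p hdvd
  let Q : Subgroup (GL (Fin e) F) := Subgroup.zpowers x
  have hQ : IsPGroup p Q := by
    apply IsPGroup.of_card (n := 1)
    rw [Nat.card_zpowers, hx, pow_one]
  let ρ : Representation F Q (Fin e → F) :=
    ((Matrix.toLinAlgEquiv' : Matrix (Fin e) (Fin e) F ≃ₐ[F] _) : Matrix (Fin e) (Fin e) F →* _).comp
      ((Units.coeHom _).comp Q.subtype)
  refine ⟨Q, inferInstance, inferInstance, Fin e → F, inferInstance, inferInstance, inferInstance,
    hQ, Module.finrank_fin_fun _, ρ, ⟨x, Subgroup.mem_zpowers x⟩, ?_, ?_⟩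
  · rw [derivedSeries_zero]
    trivial
  · intro h1
    have h2 : ((x : GL (Fin e) F) : Matrix (Fin e) (Fin e) F) = 1 := by
      apply (Matrix.toLinAlgEquiv' : Matrix (Fin e) (Fin e) F ≃ₐ[F] _).injective
      rw [map_one]
      exact h1
    have h3 : x = 1 := Units.ext h2
    rw [h3, orderOf_one] at hx
    exact hp.one_lt.ne hx

theorem HasDL.iter {F : Type u} [Field F] {p m : ℕ} [Fact p.Prime] (h : HasDL F p m 0) (k : ℕ) :
    HasDL F p (p ^ k * m) k := by
  induction k with
  | zero => simpa using h
  | succ k ih =>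
    have := ih.step
    rwa [← mul_assoc, ← pow_succ'] at this

/-- From `HasDL` to a `p`-subgroup of `GL_n(F)` with nontrivial `k`-th derived subgroup. -/
theorem HasDL.exists_subgroup {F : Type u} [Field F] {p n k : ℕ} (h : HasDL F p n k) :
    ∃ Q0 : Subgroup (GL (Fin n) F), IsPGroup p Q0 ∧ derivedSeries Q0 k ≠ ⊥ := by
  classical
  obtain ⟨Q, _, _, V, _, _, _, hQ, hdim, ρ, g, hg, hρ⟩ := h
  let b : Basis (Fin n) F V := Module.finBasisOfFinrankEq F V hdim
  -- the homomorphism to GL
  let φ : Q →* GL (Fin n) F :=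
    (Units.map ((LinearMap.toMatrixAlgEquiv b : Module.End F V ≃ₐ[F] _) :
      Module.End F V →* Matrix (Fin n) (Fin n) F)).comp ρ.asGroupHom
  have hφ : ∀ a : Q, ((φ a : GL (Fin n) F) : Matrix (Fin n) (Fin n) F)
      = LinearMap.toMatrixAlgEquiv b (ρ a) := fun a => rfl
  refine ⟨φ.range, ?_, ?_⟩
  · exact hQ.of_surjective φ.rangeRestrict φ.rangeRestrict_surjective
  · intro hbot
    have h1 : (derivedSeries Q k).map φ.rangeRestrict ≤ derivedSeries φ.range k :=
      map_derivedSeries_le_derivedSeries φ.rangeRestrict k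
    rw [hbot] at h1
    have h2 : φ.rangeRestrict g = 1 := by
      have := h1 (Subgroup.mem_map_of_mem _ hg)
      exact (Subgroup.mem_bot).mp this
    have h3 : φ g = 1 := by
      have := congrArg Subtype.val h2
      simpa using this
    apply hρ
    have h4 : LinearMap.toMatrixAlgEquiv b (ρ g) = LinearMap.toMatrixAlgEquiv b 1 := by
      rw [← hφ, h3, map_one]
      rfl
    exact (LinearMap.toMatrixAlgEquiv b).injective h4

/-- **Lower bound.** If `e * p ^ k ≤ n` (with `e` the order of `q` mod `p`), then `GL_n(F)` has a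
`p`-subgroup whose `k`-th derived subgroup is nontrivial. -/
theorem exists_subgroup_derivedSeries_ne_bot {F : Type u} [Field F] [Fintype F] (p : ℕ)
    [Fact p.Prime] (hpq : ¬ p ∣ Fintype.card F) (n k : ℕ)
    (hn : p ^ k * orderOf ((Fintype.card F : ℕ) : ZMod p) ≤ n) :
    ∃ Q0 : Subgroup (GL (Fin n) F), IsPGroup p Q0 ∧ derivedSeries Q0 k ≠ ⊥ :=
  (((HasDL.base p hpq).iter k).pad n hn).exists_subgroup

/-- Transfer to Sylow subgroups. -/
theorem sylow_derivedSeries_ne_bot {G : Type*} [Group G] [Finite G] (p : ℕ) [Fact p.Prime]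
    (Q0 : Subgroup G) (hQ0 : IsPGroup p Q0) (k : ℕ) (hk : derivedSeries Q0 k ≠ ⊥)
    (P : Sylow p G) : derivedSeries (P : Subgroup G) k ≠ ⊥ := by
  obtain ⟨P', hP'⟩ := hQ0.exists_le_sylow
  have h1 : derivedSeries (P' : Subgroup G) k ≠ ⊥ := by
    intro hbot
    apply hk
    have h2 := map_derivedSeries_le_derivedSeries (Subgroup.inclusion hP') k
    rw [hbot, le_bot_iff, Subgroup.map_eq_bot_iff_of_injective _ (Subgroup.inclusion_injective hP')]
      at h2
    exact h2
  intro hbot
  apply h1
  let φ : (P' : Subgroup G) ≃* (P : Subgroup G) := Sylow.equiv P' P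
  have h2 := map_derivedSeries_le_derivedSeries φ.toMonoidHom k
  rw [hbot, le_bot_iff, Subgroup.map_eq_bot_iff_of_injective _ φ.injective] at h2
  exact h2

end Cfsg.Agent.Lib.Helper22.LinDLF
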