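import Mathlib
import Cfsg.Agent.Lib.helper2.MI2.Defs

/-!
# MI2 row O4 (designer helper2): a subgroup of `Sp_{2m}(2)` of index `bnd m` (the stabiliser of `Phi0`)
Verbatim vs `Cfsg/Agent/Lib/helper2/MI2/Skel.lean.txt`.

`G m` acts on `V m` by the affine maps `a ↦ act g a + π g⁻¹` (`π g` = the vector with
`Phi0 (act g x) = Phi0 x + ff x (π g)`), i.e. on the quadratic forms `Phi0 + ff · a`; the orbit of `0` is the set of zeros of
`Phi0`, and the stabiliser of `0` is the subgroup we want (orbit-stabiliser).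
-/

set_option autoImplicit false
set_option linter.unusedVariables false
set_option linter.unusedSectionVars false
set_option linter.style.haveILetI false

namespace Cfsg.Agent.Lib.helper2.MI2

open Matrix

variable {m : ℕ}

theorem mi2o4_ff_ext {a b : V m} (h : ∀ x : V m, ff x a = ff x b) : a = b := by
  have h0 : a + b = 0 := eq_zero_of_ff (fun x => by
    rw [ff_comm, ff_add_right, h x, z2_add_self])
  have h2 : a = a + (b + b) := by rw [v_add_self, add_zero]
  rw [h2, ← add_assoc, h0, zero_add]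

theorem mi2o4_z2a : ∀ p q : ZMod 2, p + 1 + q = p + q + 1 := by decide

theorem mi2o4_z2b : ∀ p : ZMod 2, p = 0 → p + 1 ≠ 0 := by decide

theorem mi2o4_z2c : ∀ p : ZMod 2, p ≠ 0 → p + 1 = 0 := by decide

theorem mi2o4_card_V : Nat.card (V m) = 2 ^ (m + m) := by
  rw [Nat.card_eq_fintype_card]
  simp [ZMod.card]

theorem mi2o4_bnd_ne (hm : 1 ≤ m) : bnd m + bnd m ≠ 2 ^ (m + m) := by
  obtain ⟨k, rfl⟩ : ∃ k, m = k + 1 := ⟨m - 1, by omega⟩
  unfold bnd
  intro h
  have h1 : k + 1 - 1 = k := by omega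
  rw [h1] at h
  have hp : 1 ≤ 2 ^ k := Nat.one_le_two_pow
  have e1 : 2 ^ (k + 1) = 2 * 2 ^ k := by ring
  have e2 : 2 ^ (k + 1 + (k + 1)) = 2 * 2 ^ k * (2 * 2 ^ k) := by ring
  rw [e1, e2] at h
  obtain ⟨r, hr⟩ : ∃ r, 2 * 2 ^ k = r + 1 := ⟨2 * 2 ^ k - 1, by omega⟩
  rw [hr] at h
  have h3 : r + 1 - 1 = r := by omega
  rw [h3] at h
  have h4 : 2 ^ k * r + 2 ^ k * r = (2 * 2 ^ k) * r := by ring
  rw [h4, hr] at h
  have h5 : (r + 1) * r < (r + 1) * (r + 1) := by nlinarith
  omega

/-- a map shifting `Phi0` by `1` exists only if `2 * bnd m = 2^(2m)` -/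
theorem mi2o4_no_shift (hm : 1 ≤ m) (hcount : Nat.card {x : V m | Phi0 x = 0} = bnd m)
    (ψ : V m → V m) (hinj : Function.Injective ψ) (hψ : ∀ y, Phi0 (ψ y) = Phi0 y + 1) : False := by
  set S0 : Set (V m) := {x : V m | Phi0 x = 0} with hS0
  have hc : S0.ncard = bnd m := by rw [← Nat.card_coe_set_eq]; exact hcount
  have h1 : S0.ncard ≤ S0ᶜ.ncard := by
    apply Set.ncard_le_ncard_of_injOn ψ
    · intro y hy
      simp only [hS0, Set.mem_compl_iff, Set.mem_ofPred_eq] at hy ⊢
      rw [hψ]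
      exact mi2o4_z2b _ hy
    · exact hinj.injOn
  have h2 : S0ᶜ.ncard ≤ S0.ncard := by
    apply Set.ncard_le_ncard_of_injOn ψ
    · intro y hy
      simp only [hS0, Set.mem_compl_iff, Set.mem_ofPred_eq] at hy ⊢
      rw [hψ]
      exact mi2o4_z2c _ hy
    · exact hinj.injOn
  have h3 := Set.ncard_add_ncard_compl S0
  rw [mi2o4_card_V] at h3
  apply mi2o4_bnd_ne hm
  omega

/-- a copy of `V m` (no matrix action on it) -/
def mi2o4_W (m : ℕ) : Type := V m

/-- the affine action `a ↦ act g a + π g⁻¹` attached to a cocycle -/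
@[reducible] def mi2o4_action (π : G m → V m) (h1 : π 1 = 0)
    (hc : ∀ g h : G m, π (g * h)⁻¹ = act g (π h⁻¹) + π g⁻¹) : MulAction (G m) (mi2o4_W m) where
  smul g a := (act g (show V m from a) + π g⁻¹ : V m)
  one_smul := by
    intro a
    show (act 1 (show V m from a) + π 1⁻¹ : V m) = a
    rw [act_one, inv_one, h1, add_zero]
  mul_smul := by
    intro g h a
    show (act (g * h) (show V m from a) + π (g * h)⁻¹ : V m)
      = (act g (act h (show V m from a) + π h⁻¹) + π g⁻¹ : V m)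
    rw [hc, act_mul, act_add, add_assoc]

theorem mi2o4_index (π : G m → V m) (h1 : π 1 = 0)
    (hc : ∀ g h : G m, π (g * h)⁻¹ = act g (π h⁻¹) + π g⁻¹) :
    ∃ H : Subgroup (G m), H.index = (Set.range fun g : G m => π g⁻¹).ncard := by
  letI := mi2o4_action π h1 hc
  refine ⟨MulAction.stabilizer (G m) (show mi2o4_W m from (0 : V m)), ?_⟩
  rw [MulAction.index_stabilizer]
  have : MulAction.orbit (G m) (show mi2o4_W m from (0 : V m))
      = (Set.range fun g : G m => π g⁻¹ : Set (V m)) := by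
    ext a
    constructor
    · rintro ⟨g, rfl⟩
      refine ⟨g, ?_⟩
      show π g⁻¹ = (act g (0 : V m) + π g⁻¹ : V m)
      rw [act_zero, zero_add]
    · rintro ⟨g, rfl⟩
      refine ⟨g, ?_⟩
      show (act g (0 : V m) + π g⁻¹ : V m) = π g⁻¹
      rw [act_zero, zero_add]
  rw [this]
  rfl

/-- **O4** [M-H] The stabiliser of `Phi0` has index `bnd m` (`hcount` = O2, `hact` = O3). -/
theorem exists_index_bnd (hm : 1 ≤ m) (hcount : Nat.card {x : V m | Phi0 x = 0} = bnd m)
    (hact : ∀ g : G m, ∃ a : V m, ∀ x : V m, Phi0 (act g x) = Phi0 x + ff x a) :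
    ∃ H : Subgroup (G m), H.index = bnd m := by
  choose π hπ using hact
  -- `π 1 = 0`
  have hπ1 : π 1 = 0 := by
    apply mi2o4_ff_ext
    intro x
    have := hπ 1 x
    rw [act_one] at this
    rw [ff_zero_right]
    have h2 : Phi0 x + (Phi0 x + ff x (π 1)) = Phi0 x + Phi0 x := by rw [← this]
    rw [← add_assoc, z2_add_self, zero_add] at h2
    exact h2
  -- the cocycle identity for `g ↦ π g⁻¹`
  have hcoc : ∀ g h : G m, π (g * h)⁻¹ = act g (π h⁻¹) + π g⁻¹ := by
    intro g h
    apply mi2o4_ff_ext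
    intro x
    have e1 := hπ (g * h)⁻¹ x
    rw [_root_.mul_inv_rev, act_mul, hπ h⁻¹ (act g⁻¹ x), hπ g⁻¹ x] at e1
    have e2 : ff (act g⁻¹ x) (π h⁻¹) = ff x (act g (π h⁻¹)) := by
      rw [← ff_act g (act g⁻¹ x) (π h⁻¹), act_act_inv]
    rw [e2, ← _root_.mul_inv_rev] at e1
    rw [ff_add_right]
    have e3 : Phi0 x + (Phi0 x + ff x (π g⁻¹) + ff x (act g (π h⁻¹)))
        = Phi0 x + (Phi0 x + ff x (π (g * h)⁻¹)) := by rw [e1]
    rw [add_assoc (Phi0 x), ← add_assoc (Phi0 x) (Phi0 x), z2_add_self, zero_add,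
      ← add_assoc (Phi0 x) (Phi0 x), z2_add_self, zero_add] at e3
    rw [← e3, add_comm]
  obtain ⟨H, hH⟩ := mi2o4_index π hπ1 hcoc
  refine ⟨H, ?_⟩
  rw [hH]
  have horb : (Set.range fun g : G m => π g⁻¹) = {x : V m | Phi0 x = 0} := by
    ext a
    simp only [Set.mem_range, Set.mem_ofPred_eq]
    constructor
    · rintro ⟨g, rfl⟩
      rcases z2_cases (Phi0 (π g⁻¹)) with h0 | h1
      · exact h0
      · exfalso
        apply mi2o4_no_shift hm hcount (fun y => act g y + π g⁻¹)
        · intro y y' hy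
          exact act_injective g (add_right_cancel hy)
        · intro y
          show Phi0 (act g y + π g⁻¹) = Phi0 y + 1
          have e := hπ g⁻¹ (act g y)
          rw [act_inv_act] at e
          rw [Phi0_add, h1, e]
          generalize Phi0 (act g y) = p
          generalize ff (act g y) (π g⁻¹) = q
          revert p q; decide
    · intro ha
      refine ⟨tv a, ?_⟩
      rw [tv_inv]
      apply mi2o4_ff_ext
      intro x
      have e := hπ (tv a) x
      rw [Phi0_tv, ha, zero_add, mul_one] at e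
      exact (add_left_cancel e).symm
  rw [horb, ← Nat.card_coe_set_eq]
  exact hcount

end Cfsg.Agent.Lib.helper2.MI2
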