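import Mathlib
import Cfsg.Agent.Lib.helper2.MI2.Defs

/-!
# MI2 row P2 (designer helper2): a hyperbolic pair inside `v^⊥` (`m ≥ 2`)
Verbatim vs `Cfsg/Agent/Lib/helper2/MI2/Skel.lean.txt`.
-/

set_option autoImplicit false
set_option linter.unusedVariables false
set_option linter.unusedSectionVars false

namespace Cfsg.Agent.Lib.helper2.MI2

open Matrix

variable {m : ℕ}

theorem mi2p2_ff_single_inl_inl (i j : Fin m) :
    ff (Pi.single (Sum.inl i) 1 : V m) (Pi.single (Sum.inl j) 1) = 0 := by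
  rw [ff_eq_sum]
  apply Finset.sum_eq_zero
  intro k _
  simp [Pi.single_apply]

theorem mi2p2_ff_single_inl_inr {i j : Fin m} (h : i ≠ j) :
    ff (Pi.single (Sum.inl i) 1 : V m) (Pi.single (Sum.inr j) 1) = 0 := by
  rw [ff_eq_sum]
  apply Finset.sum_eq_zero
  intro k _
  by_cases h1 : k = i
  · subst h1
    simp [h]
  · simp [Pi.single_apply, h1]

theorem mi2p2_ff_single_inl_inr_self (i : Fin m) :
    ff (Pi.single (Sum.inl i) 1 : V m) (Pi.single (Sum.inr i) 1) = 1 := by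
  rw [ff_eq_sum, Finset.sum_eq_single i]
  · simp
  · intro k _ hk
    simp [hk]
  · intro h; exact absurd (Finset.mem_univ i) h

/-- **P2** [M] A hyperbolic pair inside `v^⊥` (needs `m ≥ 2`). -/
theorem exists_hyp_in_perp (hm : 2 ≤ m)
    (htr : ∀ x y : V m, x ≠ 0 → y ≠ 0 → ∃ g : G m, act g x = y) {v : V m} (hv : v ≠ 0) :
    ∃ w w' : V m, ff v w = 0 ∧ ff v w' = 0 ∧ ff w w' = 1 := by
  have h0 : 0 < m := by omega
  have h1 : 1 < m := by omega
  set e : V m := Pi.single (Sum.inl ⟨0, h0⟩) 1 with he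
  have he0 : e ≠ 0 := by
    intro h
    have := congrFun h (Sum.inl ⟨0, h0⟩)
    simp [he] at this
  obtain ⟨g, hg⟩ := htr e v he0 hv
  have hne : (⟨0, h0⟩ : Fin m) ≠ ⟨1, h1⟩ := by
    intro h
    have := congrArg Fin.val h
    simp at this
  refine ⟨act g (Pi.single (Sum.inl ⟨1, h1⟩) 1), act g (Pi.single (Sum.inr ⟨1, h1⟩) 1), ?_, ?_, ?_⟩
  · rw [← hg, ff_act]; exact mi2p2_ff_single_inl_inl _ _
  · rw [← hg, ff_act]; exact mi2p2_ff_single_inl_inr hne
  · rw [ff_act]; exact mi2p2_ff_single_inl_inr_self _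

end Cfsg.Agent.Lib.helper2.MI2
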