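import Mathlib
import Cfsg.Agent.Lib.Helper24.MNP.Defs
import Cfsg.Agent.Lib.Helper9.SCHA1
import Cfsg.Agent.Lib.Helper22.MNPB1

/-!
# Project MNP (helper24, S4395), row B2 (`abelian_of_odd`): core version.

`mnpb2_core` is `abelian_of_odd` with the conclusion of F10 (`form_zero_odd`, for forms with values
in `Additive (Subgroup.center P)`) as the hypothesis `hF10`.
-/

set_option autoImplicit false

namespace Cfsg.Agent.Lib.Helper24.MNP

open scoped commutatorElement
open Cfsg.Agent.Lib.Helper24.SCH (SchAct)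

universe u

section B

variable {K : Type u} [Field K] [Finite K] {p q : ℕ} [Fact p.Prime] [Fact q.Prime] [CharP K p]
variable {P : Type u} [Group P] [Finite P] {α : MulAut P}

/-- B2 core: B1 + (the conclusion of) F10 -/
theorem mnpb2_core (ζ : K) (hζ0 : ζ ≠ 0) (h : SchAct p q P α)
    (π : P →* Multiplicative K) (hπs : Function.Surjective π) (hπk : ∀ x, π x = 1 ↔ α x = x)
    (hπe : ∀ x, π (α x) = alphaK ζ hζ0 (π x))
    (hF10 : ∀ β : K → K → Additive (Subgroup.center P),
      (∀ x x' y, β (x + x') y = β x y + β x' y) → (∀ x y y', β x (y + y') = β x y + β x y') →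
      (∀ x, β x x = 0) → (∀ x y, β (ζ * x) (ζ * y) = β x y) → ∀ x y, β x y = 0) :
    ∀ x y : P, ⁅x, y⁆ = 1 := by
  obtain ⟨β, h1, h2, h3, h4, h5⟩ := comm_form ζ hζ0 h π hπs hπk hπe
  have h0 := hF10 β h2 h3 h4 h5
  intro x y
  rw [← h1 x y, h0, toMul_zero, Subgroup.coe_one]

end B

end Cfsg.Agent.Lib.Helper24.MNP
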