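import Mathlib
import Cfsg.Agent.Lib.Helper24.MNP.Defs
import Cfsg.Agent.Lib.Helper22.MNPB2core
import Cfsg.Agent.Lib.Helper9.MNPF10

/-!
# Project MNP (helper24, S4395), row B2 (`abelian_of_odd`), verbatim: `mnpb2_core` + F10.
-/

set_option autoImplicit false

namespace Cfsg.Agent.Lib.Helper24.MNP

open scoped commutatorElement
open scoped IsMulCommutative
open Cfsg.Agent.Lib.Helper24.SCH (SchAct)

universe u

section B

variable {K : Type u} [Field K] [Finite K] {p q : ℕ} [Fact p.Prime] [Fact q.Prime] [CharP K p]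
variable {P : Type u} [Group P] [Finite P] {α : MulAut P}

/-- B2 [S-M]. B1 + F10. -/
theorem abelian_of_odd (hpq : p ≠ q) {a : ℕ} (hK : Nat.card K = p ^ a) (ha : a = orderOf (p : ZMod q))
    (hodd : a % 2 = 1) (ζ : K) (hζ : orderOf ζ = q) (hζ0 : ζ ≠ 0) (h : SchAct p q P α)
    (π : P →* Multiplicative K) (hπs : Function.Surjective π) (hπk : ∀ x, π x = 1 ↔ α x = x)
    (hπe : ∀ x, π (α x) = alphaK ζ hζ0 (π x)) : ∀ x y : P, ⁅x, y⁆ = 1 :=
  mnpb2_core ζ hζ0 h π hπs hπk hπe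
    (fun β h1 h2 h3 h4 => form_zero_odd hpq hK ha hodd ζ hζ β h1 h2 h3 h4)

end B

end Cfsg.Agent.Lib.Helper24.MNP
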