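import Mathlib
import Cfsg.Prelude.Def_Transfer
import Cfsg.Agent.Lib.Helper24.MNP.Defs

/-!
# Project MNP (helper24, S4395), row M6 (`not_npc`), verbatim (self-contained: M2/M3 inlined).
-/

set_option autoImplicit false

namespace Cfsg.Agent.Lib.Helper24.MNP

open scoped commutatorElement
open Cfsg.Agent.Lib.Helper24.SCH (SchAct)

universe u

/-- two coprime exponents kill only the identity -/
theorem mnpm6_eq_one_of_coprime {G : Type*} [Group G] (x : G) (m n : ℕ) (hmn : Nat.Coprime m n)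
    (hm : x ^ m = 1) (hn : x ^ n = 1) : x = 1 := by
  have h1 := orderOf_dvd_of_pow_eq_one hm
  have h2 := orderOf_dvd_of_pow_eq_one hn
  have h3 : orderOf x ∣ 1 := by
    have := Nat.dvd_gcd h1 h2
    rwa [hmn] at this
  exact orderOf_eq_one_iff.mp (Nat.dvd_one.mp h3)

section M

open SemidirectProduct

variable {T : Type u} [Group T] [Finite T] {p q r : ℕ} [Fact p.Prime] {α₀ : MulAut T}

/-- conjugation by the generator of the cyclic factor (M3, inlined) -/
theorem mnpm6_conj_inl (hn : α₀ ^ (q ^ r) = 1) (t : T) :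
    (inr (Multiplicative.ofAdd (1 : ZMod (q ^ r))) * inl t *
      (inr (Multiplicative.ofAdd (1 : ZMod (q ^ r))))⁻¹ : G0 (q ^ r) α₀ hn) = inl (α₀ t) := by
  rw [← map_inv, ← inl_aut]
  have h := cycHom_apply (q ^ r) α₀ hn 1
  rw [Nat.cast_one, pow_one] at h
  rw [h]

/-- the generator of the cyclic factor has order dividing `q ^ r` -/
theorem mnpm6_gen_pow (hn : α₀ ^ (q ^ r) = 1) :
    (inr (Multiplicative.ofAdd (1 : ZMod (q ^ r))) : G0 (q ^ r) α₀ hn) ^ (q ^ r) = 1 := by
  rw [← map_pow, ← ofAdd_nsmul, nsmul_one, ZMod.natCast_self, ofAdd_zero, map_one]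

/-- M6 [M]. A normal `p`-complement `N` has order `q ^ r` (M2, `|T|` a power of `p`), so `inr (ofAdd 1)`, of order
dividing `q ^ r`, lies in `N` (its image in the `p`-group `G ⧸ N` is trivial); then `⁅inr 1, inl t⁆ ∈ N ⊓ range inl`
(`range inl` is normal), which is trivial by coprimality, so `α₀ t = t` for all `t` (M3), contradicting `hT.ne_one`. -/
theorem not_npc (hT : SchAct p q T α₀) (hr : 1 ≤ r) (hn : α₀ ^ (q ^ r) = 1) :
    ¬ Cfsg.HasNormalPComplement p (G0 (q ^ r) α₀ hn) := by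
  rintro ⟨P, N, hN, hc⟩
  have hp : p.Prime := Fact.out
  have hq : q.Prime := hT.qprime
  haveI : NeZero (q ^ r) := ⟨pow_ne_zero r hq.ne_zero⟩
  haveI : Finite (G0 (q ^ r) α₀ hn) := G0_finite (q ^ r) α₀ hn
  -- `|G ⧸ N| = |P|` is a power of `p`
  obtain ⟨k, hk⟩ := IsPGroup.exists_card_eq P.2
  have hidx : N.index = p ^ k := by rw [hc.symm.index_eq_card, hk]
  -- `|N| = [G : P]` is prime to `p`
  have hcardN : Nat.card N = (P : Subgroup (G0 (q ^ r) α₀ hn)).index := hc.index_eq_card.symm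
  have hndvd : ¬ p ∣ Nat.card N := by
    rw [hcardN]
    exact P.not_dvd_index
  have hcop : Nat.Coprime p (Nat.card N) := (Nat.Prime.coprime_iff_not_dvd hp).mpr hndvd
  -- the generator lies in `N`
  have hpq : Nat.Coprime q p := (Nat.coprime_primes hq hp).mpr hT.qne
  have hcN : (inr (Multiplicative.ofAdd (1 : ZMod (q ^ r))) : G0 (q ^ r) α₀ hn) ∈ N := by
    rw [← QuotientGroup.eq_one_iff]
    apply mnpm6_eq_one_of_coprime _ (q ^ r) (p ^ k) (Nat.Coprime.pow r k hpq)
    · rw [← QuotientGroup.mk_pow, mnpm6_gen_pow hn, QuotientGroup.mk_one]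
    · have := pow_card_eq_one' (G := G0 (q ^ r) α₀ hn ⧸ N)
        (x := ((inr (Multiplicative.ofAdd (1 : ZMod (q ^ r))) : G0 (q ^ r) α₀ hn) :
          G0 (q ^ r) α₀ hn ⧸ N))
      rw [← Subgroup.index_eq_card, hidx] at this
      exact this
  -- `|T|` is a power of `p`
  obtain ⟨e, he⟩ := IsPGroup.exists_card_eq hT.pgroup
  -- every `α₀ t * t⁻¹` is trivial
  have hfix : ∀ t : T, α₀ t = t := by
    intro t
    have hmem : (inl (α₀ t * t⁻¹) : G0 (q ^ r) α₀ hn) ∈ N := by
      have e1 : (inl (α₀ t * t⁻¹) : G0 (q ^ r) α₀ hn) =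
          inr (Multiplicative.ofAdd (1 : ZMod (q ^ r))) *
            (inl t * (inr (Multiplicative.ofAdd (1 : ZMod (q ^ r))))⁻¹ * (inl t)⁻¹) := by
        rw [map_mul, ← mnpm6_conj_inl hn t, map_inv]
        group
      rw [e1]
      exact N.mul_mem hcN (hN.conj_mem _ (N.inv_mem hcN) _)
    have h1 : (inl (α₀ t * t⁻¹) : G0 (q ^ r) α₀ hn) = 1 := by
      apply mnpm6_eq_one_of_coprime _ (p ^ e) (Nat.card N) (Nat.Coprime.pow_left e hcop)
      · rw [← map_pow, ← he, pow_card_eq_one', map_one]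
      · have := pow_card_eq_one' (G := N) (x := ⟨_, hmem⟩)
        exact congrArg Subtype.val this
    have h2 : α₀ t * t⁻¹ = 1 := inl_injective (by rw [h1, map_one])
    exact mul_inv_eq_one.mp h2
  apply hT.ne_one
  ext t
  exact hfix t

end M

end Cfsg.Agent.Lib.Helper24.MNP
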