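import Mathlib
import Cfsg.Agent.Lib.Helper27.MSS.Base

set_option autoImplicit false

namespace Cfsg.Agent.Lib.Helper27.MSS

/-- NT: Dirichlet -/
theorem exists_prime_mod (k : ℕ) (hk : 3 ≤ k) :
    ∃ q : ℕ, q.Prime ∧ q % 2 ^ k = 2 ^ (k - 1) - 1 := by
  have hpos : 2 ≤ 2 ^ (k - 1) := by
    calc 2 = 2 ^ 1 := by norm_num
      _ ≤ 2 ^ (k - 1) := Nat.pow_le_pow_right (by norm_num) (by omega)
  have hkk : 2 ^ k = 2 * 2 ^ (k - 1) := by
    conv_lhs => rw [show k = (k - 1) + 1 by omega]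
    rw [pow_succ, mul_comm]
  have hodd : Odd (2 ^ (k - 1) - 1) := by
    have he : Even (2 ^ (k - 1)) := (Nat.even_pow' (by omega)).2 even_two
    exact Nat.Even.sub_odd (by omega) he odd_one
  have hcop : (2 ^ (k - 1) - 1).Coprime (2 ^ k) :=
    Nat.Coprime.pow_right k (Nat.coprime_two_right.2 hodd)
  obtain ⟨p, -, hp, hmod⟩ := Nat.forall_exists_prime_gt_and_modEq 0 (q := 2 ^ k)
    (a := 2 ^ (k - 1) - 1) (by positivity) hcop
  refine ⟨p, hp, ?_⟩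
  have h1 : (2 ^ (k - 1) - 1) % 2 ^ k = 2 ^ (k - 1) - 1 := Nat.mod_eq_of_lt (by omega)
  have h2 : p % 2 ^ k = (2 ^ (k - 1) - 1) % 2 ^ k := hmod
  rw [h2, h1]

end Cfsg.Agent.Lib.Helper27.MSS
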