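import Mathlib
import Cfsg.Agent.Lib.Helper27.MSS.Base

set_option autoImplicit false

namespace Cfsg.Agent.Lib.Helper27.MSS

/-- TOR1 -/
theorem neg_one_nonsquare (q : ℕ) [Fact q.Prime] (h : q % 4 = 3) :
    ∀ x : ZMod q, x ^ 2 ≠ -1 := by
  intro x hx
  have h1 : IsSquare (-1 : ZMod q) := ⟨x, by rw [← hx, sq]⟩
  exact (ZMod.exists_sq_eq_neg_one_iff.1 h1) h

end Cfsg.Agent.Lib.Helper27.MSS
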