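import Mathlib
import Cfsg.Agent.Lib.Helper27.MSS.Base
import Cfsg.Agent.S5283
import Cfsg.Agent.Lib.Helper27.FusInner
import Cfsg.Agent.Lib.Helper27.AutSystem

set_option autoImplicit false

namespace Cfsg.Agent.Lib.Helper27.MSS

open Cfsg Cfsg.FusionSystem Cfsg.Agent.Lib.Helper26 Cfsg.Agent.Lib.Helper27.AbInvNeg

/-- first half of TWO: a system all of whose maps are inner has `S` normal -/
theorem msstwo_normal {Ω : Type*} [Group Ω] {S : Subgroup Ω} (F : FusionSystem S)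
    (h : ∀ P : Subgroup Ω, F.Hom P = (Cfsg.innerFusionSystem S).Hom P) : F.IsNormal S := by
  refine ⟨le_rfl, fun P φ hφ => ?_⟩
  rw [h P] at hφ
  obtain ⟨hPS, g, hg, hφg⟩ := Cfsg.Agent.Lib.Helper27.inner_mem_iff.1 hφ
  have hle : P ⊔ S ≤ S := sup_le hPS le_rfl
  refine ⟨conjHom (P ⊔ S) g, F.conj_mem hle hg, fun x => ?_, ?_⟩
  · rw [hφg x]
    rfl
  · ext y
    constructor
    · rintro ⟨z, hz, rfl⟩
      have hz' : (z : Ω) ∈ S := Subgroup.mem_subgroupOf.1 hz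
      show g * (z : Ω) * g⁻¹ ∈ S
      exact S.mul_mem (S.mul_mem hg hz') (S.inv_mem hg)
    · intro hy
      have h1 : g⁻¹ * y * g ∈ S := S.mul_mem (S.mul_mem (S.inv_mem hg) hy) hg
      refine ⟨⟨g⁻¹ * y * g, le_sup_right (a := P) (b := S) h1⟩, ?_, ?_⟩
      · exact Subgroup.mem_subgroupOf.2 h1
      · show g * (g⁻¹ * y * g) * g⁻¹ = y
        group

/-- TWO -/
theorem two_case {Ω : Type*} [Group Ω] {S : Subgroup Ω} [Finite S] (hS : IsPGroup 2 ↥S)
    (hinner : ∀ F : FusionSystem S, F.IsSaturated 2 →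
      ∀ P : Subgroup Ω, F.Hom P = (Cfsg.innerFusionSystem S).Hom P) :
    (∀ F : FusionSystem S, F.IsSaturated 2 → F.IsNormal S) ∧ SmallAut 2 ↥S := by
  have : Fact (Nat.Prime 2) := ⟨Nat.prime_two⟩
  refine ⟨fun F hF => msstwo_normal F (hinner F hF), ?_⟩
  intro H hcop
  have hsat := Cfsg.Agent.Lib.Helper27.autSystem_saturated S H hS hcop
  have hhom := hinner _ hsat
  have haut : (Cfsg.Agent.Lib.Helper27.autSystem S (Cfsg.Inn ↥S ⊔ H) le_sup_left).autGroup S =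
      (Cfsg.innerFusionSystem S).autGroup S := by
    unfold FusionSystem.autGroup
    rw [hhom S]
  rw [Cfsg.Agent.Lib.Helper27.autSystem_autGroup,
    Cfsg.Agent.Lib.Helper27.inner_autGroup_eq S (le_refl S),
    Cfsg.Agent.S5283.autInducedBy_self] at haut
  have hle : H ≤ Cfsg.Inn ↥S := by
    rw [← haut]
    exact le_sup_right
  have hInn : IsPGroup 2 ↥(Cfsg.Inn ↥S) := by
    have : IsPGroup 2 ↥((MulAut.conj : ↥S →* MulAut ↥S).range) :=
      IsPGroup.of_surjective hS (MulAut.conj : ↥S →* MulAut ↥S).rangeRestrict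
        (MonoidHom.rangeRestrict_surjective _)
    exact this
  have hH : IsPGroup 2 ↥H := hInn.to_le hle
  have hbot : ∀ h ∈ H, h = 1 := by
    intro h hh
    obtain ⟨n, hn⟩ := hH ⟨h, hh⟩
    have h1 : orderOf (⟨h, hh⟩ : ↥H) ∣ 2 ^ n := orderOf_dvd_of_pow_eq_one hn
    have h2 : orderOf (⟨h, hh⟩ : ↥H) ∣ Nat.card ↥H := orderOf_dvd_natCard _
    have h3 : (orderOf (⟨h, hh⟩ : ↥H)).Coprime (2 ^ n) :=
      Nat.Coprime.pow_right n (Nat.Coprime.coprime_dvd_left h2 hcop)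
    have h4 : orderOf (⟨h, hh⟩ : ↥H) = 1 := Nat.Coprime.eq_one_of_dvd h3 h1
    have h5 : (⟨h, hh⟩ : ↥H) = 1 := orderOf_eq_one_iff.1 h4
    exact congrArg Subtype.val h5
  refine ⟨⟨⟨fun a b => ?_⟩⟩, fun h hh => ?_⟩
  · have ha : a = 1 := Subtype.ext (hbot a a.2)
    rw [ha, one_mul, mul_one]
  · rw [hbot h hh, one_pow]

end Cfsg.Agent.Lib.Helper27.MSS
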