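import Mathlib
import Cfsg.Agent.Lib.Helper22.Sylow

set_option autoImplicit false

namespace Cfsg.Agent.Lib.Helper22.MaxCentA

open Subgroup

variable {G : Type*} [Group G]

/-- a primary power of `g` lying outside a given subgroup -/
theorem exists_primary_not_mem [Finite G] (Z : Subgroup G) (g : G) (hg : g ∉ Z) :
    ∃ (q k : ℕ) (w : G), q.Prime ∧ w ∈ zpowers g ∧ w ∉ Z ∧ orderOf w = q ^ k := by
  suffices H : ∀ m : ℕ, ∀ w : G, orderOf w = m → w ∈ zpowers g → w ∉ Z →
      ∃ (q k : ℕ) (w' : G), q.Prime ∧ w' ∈ zpowers g ∧ w' ∉ Z ∧ orderOf w' = q ^ k from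
    H _ g rfl (Subgroup.mem_zpowers g) hg
  intro m
  induction m using Nat.strong_induction_on with
  | _ m ih =>
    intro w hm hw hwc
    have hw1 : orderOf w ≠ 1 := by
      intro h1
      rw [orderOf_eq_one_iff] at h1
      rw [h1] at hwc
      exact hwc (Subgroup.one_mem _)
    let q := (orderOf w).minFac
    have hq : q.Prime := Nat.minFac_prime hw1
    have : Fact q.Prime := ⟨hq⟩
    obtain ⟨a, b, hab, -, ⟨k, hk⟩, hb, ha', hb'⟩ := Cfsg.Agent.Lib.Helper22.exists_p_decomp q w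
    by_cases hac : a ∈ Z
    · have hbc : b ∉ Z := by
        intro hbc
        apply hwc
        rw [hab]
        exact Subgroup.mul_mem _ hac hbc
      have hbd : orderOf b ∣ orderOf w := orderOf_dvd_of_mem_zpowers hb'
      have hlt : orderOf b < m := by
        rw [← hm]
        apply lt_of_le_of_ne (Nat.le_of_dvd (orderOf_pos w) hbd)
        intro heq
        have : q ∣ orderOf b := by rw [heq]; exact Nat.minFac_dvd _
        exact (Nat.Prime.coprime_iff_not_dvd hq).1 hb.symm this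
      exact ih _ hlt b rfl ((Subgroup.zpowers_le.2 hw) hb') hbc
    · exact ⟨q, k, a, hq, (Subgroup.zpowers_le.2 hw) ha', hac, hk⟩

/-- normalizers grow in nilpotent groups -/
theorem exists_normalizer_not_mem_nilp (P H : Subgroup G) [Group.IsNilpotent P]
    (hHP : H ≤ P) (hne : H ≠ P) :
    ∃ t ∈ P, t ∈ Subgroup.normalizer (H : Set G) ∧ t ∉ H := by
  have hnc : NormalizerCondition P := Group.normalizerCondition_of_isNilpotent
  have hlt : H.subgroupOf P < ⊤ := by
    rw [lt_top_iff_ne_top]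
    intro htop
    apply hne
    apply le_antisymm hHP
    intro x hx
    have : (⟨x, hx⟩ : P) ∈ H.subgroupOf P := by rw [htop]; trivial
    exact Subgroup.mem_subgroupOf.1 this
  have h1 := hnc _ hlt
  obtain ⟨t, htn, htH⟩ := Set.exists_of_ssubset h1
  refine ⟨t, t.2, ?_, fun h => htH (Subgroup.mem_subgroupOf.2 h)⟩
  have h2 : t ∈ (Subgroup.normalizer (H : Set G)).subgroupOf P := by
    rw [Subgroup.subgroupOf_normalizer_eq hHP]; exact htn
  exact Subgroup.mem_subgroupOf.1 h2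

/-- the union of the `N`-conjugates of a subgroup `A` centralized by `C ≤ N` has at most
`[N : C] * |A|` elements -/
theorem card_conj_union_le [Finite G] (N C A : Subgroup G) (hCN : C ≤ N)
    (hA : ∀ a ∈ A, ∀ c ∈ C, c * a = a * c) :
    Set.ncard {g : G | ∃ n ∈ N, ∃ a ∈ A, g = n * a * n⁻¹} ≤ C.relIndex N * Nat.card A := by
  classical
  let f : (↥N ⧸ C.subgroupOf N) × ↥A → G := fun qa =>
    ((qa.1.out : ↥N) : G) * (qa.2 : G) * ((qa.1.out : ↥N) : G)⁻¹
  have hsub : {g : G | ∃ n ∈ N, ∃ a ∈ A, g = n * a * n⁻¹} ⊆ Set.range f := by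
    rintro g ⟨n, hn, a, ha, rfl⟩
    obtain ⟨c, hc⟩ := QuotientGroup.mk_out_eq_mul (C.subgroupOf N) (⟨n, hn⟩ : ↥N)
    refine ⟨(QuotientGroup.mk (⟨n, hn⟩ : ↥N), ⟨a, ha⟩), ?_⟩
    have hcC : ((c : ↥N) : G) ∈ C := Subgroup.mem_subgroupOf.1 c.2
    have hcomm := hA a ha _ hcC
    show ((_ : ↥N) : G) * a * ((_ : ↥N) : G)⁻¹ = n * a * n⁻¹
    rw [hc]
    simp only [Subgroup.coe_mul, mul_inv_rev]
    calc n * ((c : ↥N) : G) * a * (((c : ↥N) : G)⁻¹ * n⁻¹)
        = n * (((c : ↥N) : G) * a) * (((c : ↥N) : G)⁻¹ * n⁻¹) := by group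
      _ = n * (a * ((c : ↥N) : G)) * (((c : ↥N) : G)⁻¹ * n⁻¹) := by rw [hcomm]
      _ = n * a * n⁻¹ := by group
  calc Set.ncard {g : G | ∃ n ∈ N, ∃ a ∈ A, g = n * a * n⁻¹}
      ≤ Set.ncard (Set.range f) := Set.ncard_le_ncard hsub (Set.toFinite _)
    _ = Nat.card (Set.range f) := (Nat.card_coe_set_eq _).symm
    _ ≤ Nat.card ((↥N ⧸ C.subgroupOf N) × ↥A) := Finite.card_range_le f
    _ = C.relIndex N * Nat.card A := by
      rw [Nat.card_prod]; rfl

theorem sum_odd_sq_le (n : ℕ) :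
    ∑ j ∈ Finset.range n, (1 : ℚ) / ((2 * (j : ℚ) + 5)) ^ 2 ≤ 1 / 8 - 1 / (4 * ((n : ℚ) + 2)) := by
  induction n with
  | zero => norm_num
  | succ n ih =>
    rw [Finset.sum_range_succ]
    have h1 : (1 : ℚ) / ((2 * (n : ℚ) + 5)) ^ 2 ≤
        1 / (4 * ((n : ℚ) + 2)) - 1 / (4 * (((n + 1 : ℕ) : ℚ) + 2)) := by
      have hn : (0 : ℚ) ≤ n := Nat.cast_nonneg n
      push_cast
      rw [div_sub_div _ _ (by positivity) (by positivity), div_le_div_iff₀ (by positivity) (by positivity)]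
      nlinarith
    linarith

/-- `∑ 1/r²` over any finite set of primes is `< 1/2` -/
theorem sum_inv_sq_primes_lt (S : Finset ℕ) (hS : ∀ r ∈ S, r.Prime) :
    ∑ r ∈ S, (1 : ℚ) / (r : ℚ) ^ 2 < 1 / 2 := by
  classical
  have hsplit := (Finset.sum_filter_add_sum_filter_not S (fun r => r < 5)
    (fun r => (1 : ℚ) / (r : ℚ) ^ 2)).symm
  have h1 : ∑ r ∈ S.filter (fun r => r < 5), (1 : ℚ) / (r : ℚ) ^ 2 ≤ 1 / 4 + 1 / 9 := by
    have hsub : S.filter (fun r => r < 5) ⊆ ({2, 3} : Finset ℕ) := by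
      intro r hr
      rw [Finset.mem_filter] at hr
      have hp := hS r hr.1
      have h5 : r < 5 := hr.2
      interval_cases r
      · exact absurd hp (by decide)
      · exact absurd hp (by decide)
      · simp
      · simp
      · exact absurd hp (by decide)
    calc ∑ r ∈ S.filter (fun r => r < 5), (1 : ℚ) / (r : ℚ) ^ 2
        ≤ ∑ r ∈ ({2, 3} : Finset ℕ), (1 : ℚ) / (r : ℚ) ^ 2 :=
          Finset.sum_le_sum_of_subset_of_nonneg hsub (by intros; positivity)
      _ = 1 / 4 + 1 / 9 := by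
          rw [Finset.sum_pair (by decide)]
          norm_num
  have h2 : ∑ r ∈ S.filter (fun r => ¬ r < 5), (1 : ℚ) / (r : ℚ) ^ 2 < 1 / 8 := by
    set n := S.sup id + 1 with hn
    have hsub : S.filter (fun r => ¬ r < 5) ⊆ (Finset.range n).image (fun j : ℕ => 2 * j + 5) := by
      intro r hr
      rw [Finset.mem_filter] at hr
      have hp := hS r hr.1
      have h5 : 5 ≤ r := not_lt.1 hr.2
      have hodd : r % 2 = 1 := by
        rcases hp.eq_two_or_odd with h | h
        · omega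
        · exact h
      rw [Finset.mem_image]
      refine ⟨(r - 5) / 2, ?_, by omega⟩
      rw [Finset.mem_range]
      have : r ≤ S.sup id := Finset.le_sup (f := id) hr.1
      omega
    calc ∑ r ∈ S.filter (fun r => ¬ r < 5), (1 : ℚ) / (r : ℚ) ^ 2
        ≤ ∑ r ∈ (Finset.range n).image (fun j : ℕ => 2 * j + 5), (1 : ℚ) / (r : ℚ) ^ 2 :=
          Finset.sum_le_sum_of_subset_of_nonneg hsub (by intros; positivity)
      _ = ∑ j ∈ Finset.range n, (1 : ℚ) / ((2 * (j : ℚ) + 5)) ^ 2 := by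
          rw [Finset.sum_image (by intro a _ b _ h; simp only at h; omega)]
          apply Finset.sum_congr rfl
          intro j _
          push_cast
          rfl
      _ ≤ 1 / 8 - 1 / (4 * ((n : ℚ) + 2)) := sum_odd_sq_le n
      _ < 1 / 8 := by
          have : (0 : ℚ) < 1 / (4 * ((n : ℚ) + 2)) := by positivity
          linarith
  rw [hsplit]
  linarith

end Cfsg.Agent.Lib.Helper22.MaxCentA
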