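import Mathlib
import Cfsg.Agent.Lib.Helper22.Sylow

set_option autoImplicit false

namespace Cfsg.Agent.Lib.Helper22.TwoClass

open Subgroup

variable {G : Type*} [Group G]

abbrev Cz (x : G) : Subgroup G := Subgroup.centralizer ({x} : Set G)

theorem mem_Cz {x a : G} : a ∈ Cz x ↔ a * x = x * a :=
  Subgroup.mem_centralizer_singleton_iff

theorem self_mem_Cz (x : G) : x ∈ Cz x := mem_Cz.2 rfl

theorem center_le_Cz (x : G) : center G ≤ Cz x := by
  intro z hz
  exact mem_Cz.2 (Subgroup.mem_center_iff.1 hz x).symm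

theorem Cz_eq_top_iff {x : G} : Cz x = ⊤ ↔ x ∈ center G := by
  rw [Cz, Subgroup.centralizer_eq_top_iff_subset]
  simp

theorem index_Cz_eq_one_iff {x : G} : (Cz x).index = 1 ↔ x ∈ center G := by
  rw [Subgroup.index_eq_one, Cz_eq_top_iff]

structure TC (G : Type*) [Group G] (n : ℕ) : Prop where
  one_lt : 1 < n
  idx : ∀ x : G, (Cz x).index = 1 ∨ (Cz x).index = n

theorem TC.idx_eq {n : ℕ} (h : TC G n) {x : G} (hx : x ∉ center G) : (Cz x).index = n := by
  rcases h.idx x with h1 | h1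
  · exact absurd (index_Cz_eq_one_iff.1 h1) hx
  · exact h1

theorem TC.card_Cz {n : ℕ} (h : TC G n) {x : G} (hx : x ∉ center G) :
    Nat.card (Cz x) * n = Nat.card G := by
  rw [← h.idx_eq hx]
  exact Subgroup.card_mul_index _

theorem TC.Cz_eq_of_le {n : ℕ} (h : TC G n) {x y : G} (hx : x ∉ center G) (hy : y ∉ center G)
    (hle : Cz x ≤ Cz y) : Cz x = Cz y := by
  apply le_antisymm hle
  have h1 := Subgroup.relIndex_mul_index hle
  rw [h.idx_eq hx, h.idx_eq hy] at h1
  have hn : 0 < n := lt_trans Nat.zero_lt_one h.one_lt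
  have h2 : (Cz x).relIndex (Cz y) = 1 := by
    have : (Cz x).relIndex (Cz y) * n = 1 * n := by rw [h1, one_mul]
    exact Nat.eq_of_mul_eq_mul_right hn this
  exact Subgroup.relIndex_eq_one.1 h2

theorem Cz_le_of_mem_zpowers {x w : G} (hx : x ∈ zpowers w) : Cz w ≤ Cz x := by
  intro a ha
  obtain ⟨k, rfl⟩ := Subgroup.mem_zpowers_iff.1 hx
  rw [mem_Cz] at ha ⊢
  exact ((Commute.zpow_right (show Commute a w from ha) k)).eq

theorem not_mem_center_of_zpowers {x w : G} (hx : x ∈ zpowers w) (hxc : x ∉ center G) :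
    w ∉ center G := by
  intro hw
  apply hxc
  have : zpowers w ≤ center G := by
    rw [Subgroup.zpowers_le]; exact hw
  exact this hx

theorem TC.Cz_eq_of_pow {n : ℕ} (h : TC G n) {x w : G} (hxc : x ∉ center G)
    (hx : x ∈ zpowers w) : Cz w = Cz x :=
  h.Cz_eq_of_le (not_mem_center_of_zpowers hx hxc) hxc (Cz_le_of_mem_zpowers hx)

theorem mem_zpowers_mul_of_coprime {x y : G} (hc : Commute x y)
    (hcop : (orderOf x).Coprime (orderOf y)) : x ∈ zpowers (x * y) := by
  have h1 : (x * y) ^ (orderOf y) = x ^ (orderOf y) := by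
    rw [hc.mul_pow, pow_orderOf_eq_one, mul_one]
  obtain ⟨m, hm⟩ := exists_pow_eq_self_of_coprime (x := x) (n := orderOf y) hcop.symm
  rw [← h1] at hm
  have hmem : ((x * y) ^ orderOf y) ^ m ∈ zpowers (x * y) :=
    Subgroup.pow_mem _ (Subgroup.pow_mem _ (Subgroup.mem_zpowers (x * y)) _) _
  rwa [hm] at hmem

theorem TC.Cz_le_of_coprime {n : ℕ} (h : TC G n) {x y : G} (hx : x ∉ center G) (hy : y ∈ Cz x)
    (hcop : (orderOf x).Coprime (orderOf y)) : Cz x ≤ Cz y := by
  have hc : Commute x y := (mem_Cz.1 hy).symm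
  have h1 : Cz (x * y) = Cz x := h.Cz_eq_of_pow hx (mem_zpowers_mul_of_coprime hc hcop)
  have h2 : y ∈ zpowers (x * y) := by
    have := mem_zpowers_mul_of_coprime hc.symm hcop.symm
    rwa [hc.symm.eq] at this
  rw [← h1]
  exact Cz_le_of_mem_zpowers h2

theorem exists_primary [Finite G] (g : G) (hg : g ∉ center G) :
    ∃ (q k : ℕ) (w : G), q.Prime ∧ w ∈ zpowers g ∧ w ∉ center G ∧ orderOf w = q ^ k := by
  suffices H : ∀ m : ℕ, ∀ w : G, orderOf w = m → w ∈ zpowers g → w ∉ center G →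
      ∃ (q k : ℕ) (w' : G), q.Prime ∧ w' ∈ zpowers g ∧ w' ∉ center G ∧ orderOf w' = q ^ k from
    H _ g rfl (Subgroup.mem_zpowers g) hg
  intro m
  induction m using Nat.strong_induction_on with
  | _ m ih =>
    intro w hm hw hwc
    have hw1 : orderOf w ≠ 1 := by
      intro h1
      rw [orderOf_eq_one_iff] at h1
      rw [h1] at hwc
      exact hwc (Subgroup.one_mem _)
    let q := (orderOf w).minFac
    have hq : q.Prime := Nat.minFac_prime hw1
    have : Fact q.Prime := ⟨hq⟩
    obtain ⟨a, b, hab, -, ⟨k, hk⟩, hb, ha', hb'⟩ := Cfsg.Agent.Lib.Helper22.exists_p_decomp q w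
    by_cases hac : a ∈ center G
    · have hbc : b ∉ center G := by
        intro hbc
        apply hwc
        rw [hab]
        exact Subgroup.mul_mem _ hac hbc
      have hbd : orderOf b ∣ orderOf w := orderOf_dvd_of_mem_zpowers hb'
      have hlt : orderOf b < m := by
        rw [← hm]
        apply lt_of_le_of_ne (Nat.le_of_dvd (orderOf_pos w) hbd)
        intro heq
        have : q ∣ orderOf b := by rw [heq]; exact Nat.minFac_dvd _
        exact (Nat.Prime.coprime_iff_not_dvd hq).1 hb.symm this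
      exact ih _ hlt b rfl ((Subgroup.zpowers_le.2 hw) hb') hbc
    · exact ⟨q, k, a, hq, (Subgroup.zpowers_le.2 hw) ha', hac, hk⟩

end Cfsg.Agent.Lib.Helper22.TwoClass
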