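import Mathlib
import Cfsg.Agent.Lib.Helper22.MaxCentA
import Cfsg.Agent.Lib.Helper22.TwoClass1

set_option autoImplicit false

namespace Cfsg.Agent.Lib.Helper22.MaxCentB

open Subgroup Cfsg.Agent.Lib.Helper22.TwoClass Cfsg.Agent.Lib.Helper22.MaxCentA

variable {G : Type*} [Group G]

/-- elements of a join `R ⊔ M` when `M` normalizes `R` -/
theorem mem_sup_of_normalizes (R M : Subgroup G)
    (hinv : ∀ m ∈ M, ∀ r ∈ R, m * r * m⁻¹ ∈ R) {g : G} (hg : g ∈ R ⊔ M) :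
    ∃ r ∈ R, ∃ m ∈ M, g = r * m := by
  rw [Subgroup.sup_eq_closure] at hg
  induction hg using Subgroup.closure_induction with
  | mem x hx =>
    rcases hx with hx | hx
    · exact ⟨x, hx, 1, M.one_mem, by simp⟩
    · exact ⟨1, R.one_mem, x, hx, by simp⟩
  | one => exact ⟨1, R.one_mem, 1, M.one_mem, by simp⟩
  | mul x y _ _ hx hy =>
    obtain ⟨r₁, hr₁, m₁, hm₁, rfl⟩ := hx
    obtain ⟨r₂, hr₂, m₂, hm₂, rfl⟩ := hy
    refine ⟨r₁ * (m₁ * r₂ * m₁⁻¹), R.mul_mem hr₁ (hinv m₁ hm₁ r₂ hr₂), m₁ * m₂,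
      M.mul_mem hm₁ hm₂, by group⟩
  | inv x _ hx =>
    obtain ⟨r, hr, m, hm, rfl⟩ := hx
    refine ⟨m⁻¹ * r⁻¹ * m⁻¹⁻¹, hinv m⁻¹ (M.inv_mem hm) r⁻¹ (R.inv_mem hr), m⁻¹, M.inv_mem hm,
      by group⟩

/-- the centralizer of `N` in `G` -/
abbrev Zc (N : Subgroup G) : Subgroup G := Subgroup.centralizer (N : Set G)

/-- `C_N(x)` as a subgroup of `G` -/
abbrev NC (N : Subgroup G) (x : G) : Subgroup G := N ⊓ Cz x

theorem mem_Zc {N : Subgroup G} {z : G} : z ∈ Zc N ↔ ∀ n ∈ N, n * z = z * n :=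
  Subgroup.mem_centralizer_iff

theorem mem_NC {N : Subgroup G} {x a : G} : a ∈ NC N x ↔ a ∈ N ∧ a * x = x * a := by
  rw [NC, Subgroup.mem_inf, mem_Cz]

theorem self_mem_NC {N : Subgroup G} {x : G} (hx : x ∈ N) : x ∈ NC N x := mem_NC.2 ⟨hx, rfl⟩

theorem Z_le_NC {N : Subgroup G} {x : G} (hx : x ∈ N) {z : G} (hzN : z ∈ N) (hz : z ∈ Zc N) :
    z ∈ NC N x := mem_NC.2 ⟨hzN, (mem_Zc.1 hz x hx).symm⟩

/-- the hypothesis: centralizers of the elements of `N` outside `Z(N)` are maximal in `G` -/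
structure MC (N : Subgroup G) : Prop where
  coatom : ∀ x : G, x ∈ N → x ∉ Zc N → IsCoatom (Cz x)

variable {N : Subgroup G}

theorem MC.Cz_eq_of_le (h : MC N) {x y : G} (hxN : x ∈ N) (hx : x ∉ Zc N) (hyN : y ∈ N)
    (hy : y ∉ Zc N) (hle : Cz x ≤ Cz y) : Cz x = Cz y := by
  rcases (h.coatom x hxN hx).le_iff.1 hle with h1 | h1
  · exact absurd h1 (h.coatom y hyN hy).1
  · exact h1.symm

theorem MC.Cz_eq_of_pow (h : MC N) {x w : G} (hwN : w ∈ N) (hx : x ∈ zpowers w)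
    (hxZ : x ∉ Zc N) : Cz w = Cz x := by
  have hwZ : w ∉ Zc N := by
    intro hw
    exact hxZ ((Subgroup.zpowers_le.2 hw) hx)
  have hxN : x ∈ N := (Subgroup.zpowers_le.2 hwN) hx
  exact h.Cz_eq_of_le hwN hwZ hxN hxZ (Cz_le_of_mem_zpowers hx)

theorem MC.Cz_eq_of_coprime (h : MC N) {x y : G} (hxN : x ∈ N) (hx : x ∉ Zc N) (hyN : y ∈ N)
    (hy : y ∉ Zc N) (hc : Commute x y) (hcop : (orderOf x).Coprime (orderOf y)) :
    Cz x = Cz y := by
  have hxyN : x * y ∈ N := N.mul_mem hxN hyN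
  have h1 : x ∈ zpowers (x * y) := mem_zpowers_mul_of_coprime hc hcop
  have h2 : y ∈ zpowers (x * y) := by
    have := mem_zpowers_mul_of_coprime hc.symm hcop.symm
    rwa [hc.symm.eq] at this
  rw [← h.Cz_eq_of_pow hxyN h1 hx, ← h.Cz_eq_of_pow hxyN h2 hy]

/-- the basic consequence of maximality: no `C_G(x)`-invariant subgroup strictly between
`C_N(x)` and `N` -/
theorem MC.inv_sub (h : MC N) {x : G} (hxN : x ∈ N) (hx : x ∉ Zc N) (R : Subgroup G)
    (h1 : NC N x ≤ R) (h2 : R ≤ N) (hinv : ∀ m ∈ Cz x, ∀ r ∈ R, m * r * m⁻¹ ∈ R) :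
    R = NC N x ∨ R = N := by
  rcases (h.coatom x hxN hx).le_iff.1 (le_sup_right : Cz x ≤ R ⊔ Cz x) with h3 | h3
  · right
    apply le_antisymm h2
    intro n hn
    have hn' : n ∈ R ⊔ Cz x := by rw [h3]; trivial
    obtain ⟨r, hr, m, hm, rfl⟩ := mem_sup_of_normalizes R (Cz x) hinv hn'
    have hmN : m ∈ N := by
      have : m = r⁻¹ * (r * m) := by group
      rw [this]
      exact N.mul_mem (N.inv_mem (h2 hr)) hn
    exact R.mul_mem hr (h1 (Subgroup.mem_inf.2 ⟨hmN, hm⟩))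
  · left
    apply le_antisymm _ h1
    intro r hr
    have : r ∈ R ⊔ Cz x := Subgroup.mem_sup_left hr
    rw [h3] at this
    exact Subgroup.mem_inf.2 ⟨h2 hr, this⟩

theorem Cz_normalizes_NC [N.Normal] {x m : G} (hm : m ∈ Cz x) :
    m ∈ Subgroup.normalizer ((NC N x : Subgroup G) : Set G) := by
  have key : ∀ m ∈ Cz x, ∀ a ∈ NC N x, m * a * m⁻¹ ∈ NC N x := by
    intro m hm a ha
    rw [NC, Subgroup.mem_inf] at ha ⊢
    exact ⟨(inferInstance : N.Normal).conj_mem a ha.1 m,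
      (Cz x).mul_mem ((Cz x).mul_mem hm ha.2) ((Cz x).inv_mem hm)⟩
  rw [Subgroup.mem_normalizer_iff]
  intro a
  constructor
  · exact key m hm a
  · intro ha
    have := key m⁻¹ ((Cz x).inv_mem hm) _ ha
    have e : m⁻¹ * (m * a * m⁻¹) * m⁻¹⁻¹ = a := by group
    rwa [e] at this

/-- type dichotomy -/
theorem MC.type_dichotomy [N.Normal] (h : MC N) {x : G} (hxN : x ∈ N) (hx : x ∉ Zc N) :
    N ⊓ Subgroup.normalizer ((NC N x : Subgroup G) : Set G) = NC N x ∨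
      N ≤ Subgroup.normalizer ((NC N x : Subgroup G) : Set G) := by
  have hle : NC N x ≤ N ⊓ Subgroup.normalizer ((NC N x : Subgroup G) : Set G) :=
    le_inf inf_le_left Subgroup.le_normalizer
  have hinv : ∀ m ∈ Cz x, ∀ r ∈ N ⊓ Subgroup.normalizer ((NC N x : Subgroup G) : Set G),
      m * r * m⁻¹ ∈ N ⊓ Subgroup.normalizer ((NC N x : Subgroup G) : Set G) := by
    intro m hm r hr
    rw [Subgroup.mem_inf] at hr ⊢
    refine ⟨(inferInstance : N.Normal).conj_mem r hr.1 m, ?_⟩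
    have hmn := Cz_normalizes_NC (N := N) hm
    exact Subgroup.mul_mem _ (Subgroup.mul_mem _ hmn hr.2) (Subgroup.inv_mem _ hmn)
  have hle2 : N ⊓ Subgroup.normalizer ((NC N x : Subgroup G) : Set G) ≤ N := inf_le_left
  rcases h.inv_sub hxN hx (N ⊓ Subgroup.normalizer ((NC N x : Subgroup G) : Set G)) hle
      hle2 hinv with h1 | h1
  · exact Or.inl h1
  · right
    intro n hn
    have hn' : n ∈ N ⊓ Subgroup.normalizer ((NC N x : Subgroup G) : Set G) := by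
      rw [h1]; exact hn
    exact (Subgroup.mem_inf.1 hn').2

/-- coprime-order elements of `C_N(x)` are central in `C_N(x)` when `x` has prime power order -/
theorem MC.central_of_coprime (h : MC N) {x : G} {r a : ℕ} (hxN : x ∈ N)
    (hx : x ∉ Zc N) (ho : orderOf x = r ^ a) {c : G} (hc : c ∈ NC N x)
    (hcop : (orderOf c).Coprime r) : ∀ d ∈ NC N x, c * d = d * c := by
  intro d hd
  rw [mem_NC] at hc hd
  by_cases hcZ : c ∈ Zc N
  · exact (mem_Zc.1 hcZ d hd.1).symm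
  · have hcomm : Commute x c := hc.2.symm
    have hcop' : (orderOf x).Coprime (orderOf c) := by
      rw [ho]
      exact (Nat.Coprime.pow_left a hcop.symm)
    have h1 := h.Cz_eq_of_coprime hxN hx hc.1 hcZ hcomm hcop'
    have : d ∈ Cz c := by rw [← h1]; exact mem_Cz.2 hd.2
    exact (mem_Cz.1 this).symm

/-- centralizers in `N` of noncentral elements are nilpotent -/
theorem MC.nilpotent_NC [Finite G] (h : MC N) {g : G} (hgN : g ∈ N) (hg : g ∉ Zc N) :
    Group.IsNilpotent ↥(NC N g) := by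
  obtain ⟨q, k, w, hq, hw, hwZ, hwo⟩ := exists_primary_not_mem (Zc N) g hg
  have : Fact q.Prime := ⟨hq⟩
  have hwN : w ∈ N := (Subgroup.zpowers_le.2 hgN) hw
  have hCz : Cz g = Cz w := h.Cz_eq_of_pow hgN hw hwZ
  have hNC : NC N g = NC N w := by rw [NC, NC, hCz]
  rw [hNC]
  apply Group.of_quotient_center_nilpotent
  have hp : IsPGroup q (↥(NC N w) ⧸ Subgroup.center ↥(NC N w)) := by
    intro y
    obtain ⟨c, rfl⟩ := QuotientGroup.mk_surjective y
    obtain ⟨a, b, hab, hcomm, ⟨j, hj⟩, hb, ha', hb'⟩ :=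
      Cfsg.Agent.Lib.Helper22.exists_p_decomp q (c : G)
    refine ⟨j, ?_⟩
    rw [← QuotientGroup.mk_pow, QuotientGroup.eq_one_iff, Subgroup.mem_center_iff]
    intro d
    have hbC : b ∈ NC N w := (Subgroup.zpowers_le.2 c.2) hb'
    have hbcent := h.central_of_coprime hwN hwZ hwo hbC hb
    have hcpow : ((c : G)) ^ q ^ j = b ^ q ^ j := by
      rw [hab, hcomm.mul_pow, ← hj, pow_orderOf_eq_one, one_mul]
    apply Subtype.ext
    simp only [Subgroup.coe_mul, Subgroup.coe_pow]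
    rw [hcpow]
    have h2 : Commute b (d : G) := hbcent d d.2
    exact (h2.pow_left _).eq.symm
  exact hp.isNilpotent

end Cfsg.Agent.Lib.Helper22.MaxCentB
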