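import Mathlib
import Cfsg.Agent.Lib.Helper22.MaxCentB

set_option autoImplicit false

namespace Cfsg.Agent.Lib.Helper22.MaxCentC

open Subgroup Cfsg.Agent.Lib.Helper22.TwoClass Cfsg.Agent.Lib.Helper22.MaxCentA
  Cfsg.Agent.Lib.Helper22.MaxCentB

variable {G : Type*} [Group G] {N : Subgroup G}

/-- `C_N(x)` is self-normalizing in `N` -/
def TypeII (N : Subgroup G) (x : G) : Prop :=
  N ⊓ Subgroup.normalizer ((NC N x : Subgroup G) : Set G) = NC N x

theorem TypeII.eq_of_nilpotent {x : G} (hII : TypeII N x) (D : Subgroup G) (hCD : NC N x ≤ D)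
    (hDN : D ≤ N) [Group.IsNilpotent D] : D = NC N x := by
  by_contra hne
  obtain ⟨t, htD, htn, htC⟩ := exists_normalizer_not_mem_nilp D (NC N x) hCD (Ne.symm hne)
  have : t ∈ N ⊓ Subgroup.normalizer ((NC N x : Subgroup G) : Set G) :=
    Subgroup.mem_inf.2 ⟨hDN htD, htn⟩
  rw [hII] at this
  exact htC this

theorem TypeII.NC_eq_of_central [Finite G] (h : MC N) {x u : G} (hII : TypeII N x)
    (hu : u ∈ NC N x) (hcent : ∀ d ∈ NC N x, u * d = d * u) (huZ : u ∉ Zc N) :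
    NC N u = NC N x := by
  have huN : u ∈ N := (mem_NC.1 hu).1
  have hle : NC N x ≤ NC N u := by
    intro d hd
    exact mem_NC.2 ⟨(mem_NC.1 hd).1, (hcent d hd).symm⟩
  haveI := h.nilpotent_NC huN huZ
  exact hII.eq_of_nilpotent (NC N u) hle inf_le_left

theorem TypeII.of_NC_eq {x u : G} (hII : TypeII N x) (he : NC N u = NC N x) : TypeII N u := by
  unfold TypeII at hII ⊢
  rw [he]
  exact hII

theorem TypeII.normalizer_eq [N.Normal] (h : MC N) {x : G} (hxN : x ∈ N) (hx : x ∉ Zc N)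
    (hII : TypeII N x) : Subgroup.normalizer ((NC N x : Subgroup G) : Set G) = Cz x := by
  have hle : Cz x ≤ Subgroup.normalizer ((NC N x : Subgroup G) : Set G) :=
    fun m hm => Cz_normalizes_NC hm
  rcases (h.coatom x hxN hx).le_iff.1 hle with h1 | h1
  · exfalso
    apply hx
    rw [mem_Zc]
    intro n hn
    have : n ∈ N ⊓ Subgroup.normalizer ((NC N x : Subgroup G) : Set G) := by
      rw [h1]; exact Subgroup.mem_inf.2 ⟨hn, Subgroup.mem_top n⟩
    rw [hII] at this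
    exact (mem_NC.1 this).2
  · exact h1

theorem TypeII.Cz_eq_of_central [Finite G] [N.Normal] (h : MC N) {x u : G} (hxN : x ∈ N)
    (hx : x ∉ Zc N) (hII : TypeII N x)
    (hu : u ∈ NC N x) (hcent : ∀ d ∈ NC N x, u * d = d * u) (huZ : u ∉ Zc N) :
    Cz u = Cz x := by
  have he := hII.NC_eq_of_central h hu hcent huZ
  have h1 := hII.normalizer_eq h hxN hx
  have h2 := (hII.of_NC_eq he).normalizer_eq h (mem_NC.1 hu).1 huZ
  rw [he] at h2
  rw [← h1, ← h2]

theorem conj_mem_Zc_iff [N.Normal] {n x : G} : n * x * n⁻¹ ∈ Zc N ↔ x ∈ Zc N := by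
  have key : ∀ (n x : G), x ∈ Zc N → n * x * n⁻¹ ∈ Zc N := by
    intro n x hx
    rw [mem_Zc] at hx ⊢
    intro m hm
    have hm' : n⁻¹ * m * n⁻¹⁻¹ ∈ N := (inferInstance : N.Normal).conj_mem m hm n⁻¹
    have := hx _ hm'
    calc m * (n * x * n⁻¹) = n * ((n⁻¹ * m * n⁻¹⁻¹) * x) * n⁻¹ := by group
      _ = n * (x * (n⁻¹ * m * n⁻¹⁻¹)) * n⁻¹ := by rw [this]
      _ = n * x * n⁻¹ * m := by group
  constructor
  · intro hx
    have := key n⁻¹ _ hx
    have e : n⁻¹ * (n * x * n⁻¹) * n⁻¹⁻¹ = x := by group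
    rwa [e] at this
  · exact key n x

theorem mem_NC_conj {n x a : G} (hn : n ∈ N) :
    a ∈ NC N (n * x * n⁻¹) ↔ n⁻¹ * a * n ∈ NC N x := by
  rw [mem_NC, mem_NC]
  constructor
  · rintro ⟨haN, hc⟩
    refine ⟨N.mul_mem (N.mul_mem (N.inv_mem hn) haN) hn, ?_⟩
    calc n⁻¹ * a * n * x = n⁻¹ * (a * (n * x * n⁻¹)) * n := by group
      _ = n⁻¹ * ((n * x * n⁻¹) * a) * n := by rw [hc]
      _ = x * (n⁻¹ * a * n) := by group
  · rintro ⟨haN, hc⟩
    refine ⟨?_, ?_⟩
    · have : a = n * (n⁻¹ * a * n) * n⁻¹ := by group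
      rw [this]
      exact N.mul_mem (N.mul_mem hn haN) (N.inv_mem hn)
    · calc a * (n * x * n⁻¹) = n * ((n⁻¹ * a * n) * x) * n⁻¹ := by group
        _ = n * (x * (n⁻¹ * a * n)) * n⁻¹ := by rw [hc]
        _ = n * x * n⁻¹ * a := by group

/-- if `C_N(x)` (`x` an `r`-element) contains an `r'`-element outside `Z(N)`, it is abelian -/
theorem MC.abelian_of_coprime_elt [Finite G] (h : MC N) {x : G} {r a : ℕ} (hr : r.Prime)
    (hxN : x ∈ N) (hx : x ∉ Zc N) (ho : orderOf x = r ^ a) {y : G} (hy : y ∈ NC N x)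
    (hyZ : y ∉ Zc N) (hcop : (orderOf y).Coprime r) :
    ∀ c ∈ NC N x, ∀ d ∈ NC N x, c * d = d * c := by
  haveI : Fact r.Prime := ⟨hr⟩
  obtain ⟨q, k, w, hq, hw, hwZ, hwo⟩ := exists_primary_not_mem (Zc N) y hyZ
  have hwC : w ∈ NC N x := (Subgroup.zpowers_le.2 hy) hw
  have hwN : w ∈ N := (mem_NC.1 hwC).1
  have hwcop : (orderOf w).Coprime r :=
    Nat.Coprime.coprime_dvd_left (orderOf_dvd_of_mem_zpowers hw) hcop
  have hk : k ≠ 0 := by
    rintro rfl
    rw [pow_zero, orderOf_eq_one_iff] at hwo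
    rw [hwo] at hwZ
    exact hwZ (Subgroup.one_mem _)
  have hqr : q ≠ r := by
    rintro rfl
    rw [hwo] at hwcop
    have : q ∣ q ^ k := dvd_pow_self q hk
    exact (Nat.Prime.coprime_iff_not_dvd hq).1 hwcop.symm this
  have hxw : Commute x w := (mem_NC.1 hwC).2.symm
  have hcop' : (orderOf x).Coprime (orderOf w) := by
    rw [ho]; exact Nat.Coprime.pow_left a hwcop.symm
  have hCz : Cz x = Cz w := h.Cz_eq_of_coprime hxN hx hwN hwZ hxw hcop'
  have hNC : NC N w = NC N x := by rw [NC, NC, hCz]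
  intro c hc d hd
  obtain ⟨a', b', hab, hcomm, ⟨j, hj⟩, hb, ha', hb'⟩ :=
    Cfsg.Agent.Lib.Helper22.exists_p_decomp r c
  have haC : a' ∈ NC N x := (Subgroup.zpowers_le.2 hc) ha'
  have hbC : b' ∈ NC N x := (Subgroup.zpowers_le.2 hc) hb'
  have h1 : b' * d = d * b' := h.central_of_coprime hxN hx ho hbC hb d hd
  have hacop : (orderOf a').Coprime q := by
    rw [hj]
    exact Nat.Coprime.pow_left j ((Nat.coprime_primes hr hq).2 hqr.symm)
  have h2 : a' * d = d * a' := by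
    have haC' : a' ∈ NC N w := by rw [hNC]; exact haC
    have hd' : d ∈ NC N w := by rw [hNC]; exact hd
    exact h.central_of_coprime hwN hwZ hwo haC' hacop d hd'
  rw [hab, mul_assoc, h1, ← mul_assoc, h2, mul_assoc]

/-- every `r'`-element of `C_N(x)` lies in `Z(N)` -/
def D2 (N : Subgroup G) (x : G) (r : ℕ) : Prop :=
  ∀ c ∈ NC N x, (orderOf c).Coprime r → c ∈ Zc N

theorem D2.pow_mem [Finite G] {x : G} {r : ℕ} [Fact r.Prime] (hD : D2 N x r) {c : G}
    (hc : c ∈ NC N x) : ∃ k : ℕ, c ^ r ^ k ∈ Zc N := by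
  obtain ⟨a', b', hab, hcomm, ⟨j, hj⟩, hb, ha', hb'⟩ :=
    Cfsg.Agent.Lib.Helper22.exists_p_decomp r c
  have hbC : b' ∈ NC N x := (Subgroup.zpowers_le.2 hc) hb'
  refine ⟨j, ?_⟩
  have : c ^ r ^ j = b' ^ r ^ j := by
    rw [hab, hcomm.mul_pow, ← hj, pow_orderOf_eq_one, one_mul]
  rw [this]
  exact Subgroup.pow_mem _ (hD b' hbC hb) _

/-- the centre of `C_N(x)` as a subgroup of `G` -/
abbrev ZC (N : Subgroup G) (x : G) : Subgroup G :=
  NC N x ⊓ Subgroup.centralizer ((NC N x : Subgroup G) : Set G)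

theorem mem_ZC {x u : G} : u ∈ ZC N x ↔ u ∈ NC N x ∧ ∀ d ∈ NC N x, u * d = d * u := by
  rw [ZC, Subgroup.mem_inf, Subgroup.mem_centralizer_iff]
  constructor
  · rintro ⟨h1, h2⟩
    exact ⟨h1, fun d hd => (h2 d hd).symm⟩
  · rintro ⟨h1, h2⟩
    exact ⟨h1, fun d hd => (h2 d hd).symm⟩

theorem card_ZC_eq (x : G) : Nat.card (ZC N x) = Nat.card (Subgroup.center ↥(NC N x)) := by
  have e : ZC N x = (Subgroup.center ↥(NC N x)).map (NC N x).subtype := by
    ext u
    rw [mem_ZC, Subgroup.mem_map]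
    constructor
    · rintro ⟨h1, h2⟩
      refine ⟨⟨u, h1⟩, ?_, rfl⟩
      rw [Subgroup.mem_center_iff]
      intro d
      apply Subtype.ext
      exact (h2 d d.2).symm
    · rintro ⟨v, hv, rfl⟩
      refine ⟨v.2, ?_⟩
      intro d hd
      rw [Subgroup.mem_center_iff] at hv
      have := hv ⟨d, hd⟩
      exact (congrArg Subtype.val this).symm
  rw [e]
  exact Subgroup.card_map_of_injective (Subgroup.subtype_injective _)

theorem card_ZC_mul_sq_le [Finite G] {x : G} {r : ℕ} [hr : Fact r.Prime] (hD : D2 N x r)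
    (hnab : ¬ ∀ c ∈ NC N x, ∀ d ∈ NC N x, c * d = d * c) :
    Nat.card (ZC N x) * r ^ 2 ≤ Nat.card (NC N x) := by
  have hp : IsPGroup r (↥(NC N x) ⧸ Subgroup.center ↥(NC N x)) := by
    intro y
    obtain ⟨c, rfl⟩ := QuotientGroup.mk_surjective y
    obtain ⟨k, hk⟩ := hD.pow_mem c.2
    refine ⟨k, ?_⟩
    rw [← QuotientGroup.mk_pow, QuotientGroup.eq_one_iff, Subgroup.mem_center_iff]
    intro d
    apply Subtype.ext
    simp only [Subgroup.coe_mul, Subgroup.coe_pow]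
    exact mem_Zc.1 hk d (mem_NC.1 d.2).1
  obtain ⟨m, hm⟩ := IsPGroup.iff_card.1 hp
  have hcard := Subgroup.card_eq_card_quotient_mul_card_subgroup (Subgroup.center ↥(NC N x))
  rw [card_ZC_eq, hcard, hm, mul_comm]
  apply Nat.mul_le_mul_right
  apply Nat.pow_le_pow_right hr.out.pos
  by_contra hlt
  push Not at hlt
  apply hnab
  have hcyc : IsCyclic (↥(NC N x) ⧸ Subgroup.center ↥(NC N x)) := by
    interval_cases m
    · rw [pow_zero] at hm
      haveI : Subsingleton (↥(NC N x) ⧸ Subgroup.center ↥(NC N x)) :=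
        (Nat.card_eq_one_iff_unique.1 hm).1
      infer_instance
    · rw [pow_one] at hm
      exact isCyclic_of_prime_card hm
  have hcomm := (QuotientGroup.mk' (Subgroup.center ↥(NC N x))).isMulCommutative_of_isCyclic_of_ker_le_center
    (by rw [QuotientGroup.ker_mk'])
  intro c hc d hd
  have := hcomm.is_comm.comm (⟨c, hc⟩ : ↥(NC N x)) ⟨d, hd⟩
  exact congrArg Subtype.val this

end Cfsg.Agent.Lib.Helper22.MaxCentC
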