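import Mathlib
import Cfsg.Agent.Lib.Helper22.MaxCentC

set_option autoImplicit false

namespace Cfsg.Agent.Lib.Helper22.MaxCentD

open Subgroup Cfsg.Agent.Lib.Helper22.TwoClass Cfsg.Agent.Lib.Helper22.MaxCentA
  Cfsg.Agent.Lib.Helper22.MaxCentB Cfsg.Agent.Lib.Helper22.MaxCentC

variable {G : Type*} [Group G] {N : Subgroup G}

/-- In case `D2`, a self-normalizing `C_N(x)` contains a Sylow `r`-subgroup of `N` which contains
all its `r`-elements. -/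
theorem exists_sylow_structure [Finite G] (h : MC N) {x : G} {r : ℕ} [hr : Fact r.Prime]
    (hxN : x ∈ N) (hx : x ∉ Zc N) (hII : TypeII N x) (hD : D2 N x r) :
    ∃ P : Sylow r ↥N, (∀ u : ↥N, u ∈ P → (u : G) ∈ NC N x) ∧
      (∀ c : G, c ∈ NC N x → (∃ j : ℕ, orderOf c = r ^ j) → ∃ u : ↥N, u ∈ P ∧ (u : G) = c) := by
  haveI hnil : Group.IsNilpotent ↥(NC N x) := h.nilpotent_NC hxN hx
  obtain ⟨Pc⟩ := (inferInstance : Nonempty (Sylow r ↥(NC N x)))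
  haveI hPcn : (Pc : Subgroup ↥(NC N x)).Normal := inferInstance
  set PG : Subgroup G := (Pc : Subgroup ↥(NC N x)).map (NC N x).subtype with hPGdef
  have hPG : IsPGroup r PG := Pc.isPGroup'.map _
  have hPGC : PG ≤ NC N x := by
    rintro _ ⟨v, -, rfl⟩
    exact v.2
  have hPGN : PG ≤ N := le_trans hPGC inf_le_left
  -- all `r`-elements of `C` lie in `PG`
  have hFb : ∀ c : G, c ∈ NC N x → (∃ j : ℕ, orderOf c = r ^ j) → c ∈ PG := by
    intro c hc ⟨j, hj⟩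
    have hpg : IsPGroup r (Subgroup.zpowers (⟨c, hc⟩ : ↥(NC N x))) := by
      apply IsPGroup.of_card (n := j)
      rw [Nat.card_zpowers, Subgroup.orderOf_mk, hj]
    obtain ⟨Q, hQ⟩ := hpg.exists_le_sylow
    obtain ⟨g, hg⟩ := MulAction.exists_smul_eq ↥(NC N x) Pc Q
    rw [Sylow.smul_eq_of_normal] at hg
    have hcQ : (⟨c, hc⟩ : ↥(NC N x)) ∈ Q := hQ (Subgroup.mem_zpowers _)
    rw [← hg] at hcQ
    exact ⟨⟨c, hc⟩, hcQ, rfl⟩
  have hsub : IsPGroup r (PG.subgroupOf N) := hPG.comap_subtype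
  obtain ⟨P, hP⟩ := hsub.exists_le_sylow
  set PN : Subgroup G := (P : Subgroup ↥N).map N.subtype with hPNdef
  have hPN : IsPGroup r PN := P.isPGroup'.map _
  have hPNN : PN ≤ N := by
    rintro _ ⟨v, -, rfl⟩
    exact v.2
  have hle : PG ≤ PN := by
    intro g hg
    have : (⟨g, hPGN hg⟩ : ↥N) ∈ PG.subgroupOf N := Subgroup.mem_subgroupOf.2 hg
    exact ⟨⟨g, hPGN hg⟩, hP this, rfl⟩
  -- conjugation by elements of `N` normalizing `PG` preserves `C`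
  have key : ∀ s : G, s ∈ N → s ∈ Subgroup.normalizer (PG : Set G) → ∀ c ∈ NC N x,
      s * c * s⁻¹ ∈ NC N x := by
    intro s hsN hsn c hc
    obtain ⟨a', b', hab, hcomm, ⟨j, hj⟩, hb, ha', hb'⟩ :=
      Cfsg.Agent.Lib.Helper22.exists_p_decomp r c
    have haC : a' ∈ NC N x := (Subgroup.zpowers_le.2 hc) ha'
    have hbC : b' ∈ NC N x := (Subgroup.zpowers_le.2 hc) hb'
    have hbZ : b' ∈ Zc N := hD b' hbC hb
    have haP : a' ∈ PG := hFb a' haC ⟨j, hj⟩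
    have h1 : s * a' * s⁻¹ ∈ PG := (Subgroup.mem_normalizer_iff.1 hsn a').1 haP
    have h2 : s * b' * s⁻¹ = b' := by
      rw [mem_Zc.1 hbZ s hsN]; group
    have : s * c * s⁻¹ = (s * a' * s⁻¹) * (s * b' * s⁻¹) := by rw [hab]; group
    rw [this, h2]
    exact Subgroup.mul_mem _ (hPGC h1) hbC
  have heq : PN = PG := by
    by_contra hne
    haveI := hPN.isNilpotent
    obtain ⟨t, htP, htn, htG⟩ := exists_normalizer_not_mem_nilp PN PG hle (Ne.symm hne)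
    have htN : t ∈ N := hPNN htP
    have htnorm : t ∈ Subgroup.normalizer ((NC N x : Subgroup G) : Set G) := by
      rw [Subgroup.mem_normalizer_iff]
      intro c
      constructor
      · exact key t htN htn c
      · intro hc
        have := key t⁻¹ (N.inv_mem htN) (Subgroup.inv_mem _ htn) _ hc
        have e : t⁻¹ * (t * c * t⁻¹) * t⁻¹⁻¹ = c := by group
        rwa [e] at this
    have htC : t ∈ NC N x := by
      have : t ∈ N ⊓ Subgroup.normalizer ((NC N x : Subgroup G) : Set G) :=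
        Subgroup.mem_inf.2 ⟨htN, htnorm⟩
      rw [hII] at this
      exact this
    apply htG
    apply hFb t htC
    obtain ⟨k, hk⟩ := (IsPGroup.iff_orderOf.1 hPN) ⟨t, htP⟩
    exact ⟨k, by rw [← hk, Subgroup.orderOf_mk]⟩
  refine ⟨P, ?_, ?_⟩
  · intro u hu
    have : (u : G) ∈ PN := ⟨u, hu, rfl⟩
    rw [heq] at this
    exact hPGC this
  · intro c hc hj
    have : c ∈ PN := by rw [heq]; exact hFb c hc hj
    obtain ⟨u, hu, rfl⟩ := this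
    exact ⟨u, hu, rfl⟩

/-- Two self-normalizing centralizers of `r`-elements in case `D2` are conjugate in `N`. -/
theorem exists_conj_of_D2 [Finite G] [N.Normal] (h : MC N) {x₁ x₂ : G} {r a₁ : ℕ}
    [hr : Fact r.Prime]
    (hx₁N : x₁ ∈ N) (hx₁ : x₁ ∉ Zc N) (ho₁ : orderOf x₁ = r ^ a₁) (hII₁ : TypeII N x₁)
    (hD₁ : D2 N x₁ r)
    (hx₂N : x₂ ∈ N) (hx₂ : x₂ ∉ Zc N) (hII₂ : TypeII N x₂)
    (hD₂ : D2 N x₂ r) :
    ∃ n ∈ N, NC N (n * x₁ * n⁻¹) = NC N x₂ := by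
  obtain ⟨P₁, hP₁a, hP₁b⟩ := exists_sylow_structure h hx₁N hx₁ hII₁ hD₁
  obtain ⟨P₂, hP₂a, hP₂b⟩ := exists_sylow_structure h hx₂N hx₂ hII₂ hD₂
  obtain ⟨n, hn⟩ := MulAction.exists_smul_eq ↥N P₁ P₂
  refine ⟨(n : G), n.2, ?_⟩
  obtain ⟨u, hu, hux⟩ := hP₁b x₁ (self_mem_NC hx₁N) ⟨a₁, ho₁⟩
  have hmem : n * u * n⁻¹ ∈ P₂ := by
    rw [← hn]
    show n * u * n⁻¹ ∈ ((n • P₁ : Sylow r ↥N) : Subgroup ↥N)
    rw [Cfsg.Agent.Lib.Helper22.mem_smul_sylow_iff]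
    have e : n⁻¹ * (n * u * n⁻¹) * n = u := by group
    rw [e]; exact hu
  have hx₁' : (n : G) * x₁ * (n : G)⁻¹ ∈ NC N x₂ := by
    have := hP₂a _ hmem
    rw [← hux]
    simpa using this
  have hx₁'Z : (n : G) * x₁ * (n : G)⁻¹ ∉ Zc N := by
    rw [conj_mem_Zc_iff]; exact hx₁
  apply hII₂.NC_eq_of_central h hx₁' _ hx₁'Z
  intro c hc
  obtain ⟨a', b', hab, hcomm, ⟨j, hj⟩, hb, ha', hb'⟩ :=
    Cfsg.Agent.Lib.Helper22.exists_p_decomp r c
  have haC : a' ∈ NC N x₂ := (Subgroup.zpowers_le.2 hc) ha'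
  have hbC : b' ∈ NC N x₂ := (Subgroup.zpowers_le.2 hc) hb'
  have hbZ : b' ∈ Zc N := hD₂ b' hbC hb
  have hx₁'N : (n : G) * x₁ * (n : G)⁻¹ ∈ N := (mem_NC.1 hx₁').1
  have h1 : (n : G) * x₁ * (n : G)⁻¹ * b' = b' * ((n : G) * x₁ * (n : G)⁻¹) :=
    mem_Zc.1 hbZ _ hx₁'N
  obtain ⟨v, hv, hva⟩ := hP₂b a' haC ⟨j, hj⟩
  have hv' : n⁻¹ * v * n ∈ P₁ := by
    rw [← hn] at hv
    have hv2 : v ∈ ((n • P₁ : Sylow r ↥N) : Subgroup ↥N) := hv
    rw [Cfsg.Agent.Lib.Helper22.mem_smul_sylow_iff] at hv2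
    exact hv2
  have h2 := hP₁a _ hv'
  have h3 : (n : G)⁻¹ * a' * (n : G) * x₁ = x₁ * ((n : G)⁻¹ * a' * (n : G)) := by
    have := (mem_NC.1 h2).2
    rw [← hva]
    simpa using this
  have h4 : (n : G) * x₁ * (n : G)⁻¹ * a' = a' * ((n : G) * x₁ * (n : G)⁻¹) := by
    calc (n : G) * x₁ * (n : G)⁻¹ * a' = (n : G) * (x₁ * ((n : G)⁻¹ * a' * (n : G))) * (n : G)⁻¹ := by
          group
      _ = (n : G) * ((n : G)⁻¹ * a' * (n : G) * x₁) * (n : G)⁻¹ := by rw [h3]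
      _ = a' * ((n : G) * x₁ * (n : G)⁻¹) := by group
  rw [hab, ← mul_assoc, h4, mul_assoc, h1, ← mul_assoc]

end Cfsg.Agent.Lib.Helper22.MaxCentD
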