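import Mathlib
import Cfsg.Agent.Lib.Helper22.MaxCentD
import Cfsg.Agent.Lib.Helper22.Sylow2
import Cfsg.Agent.Lib.Helper1.Fitting

set_option autoImplicit false

namespace Cfsg.Agent.Lib.Helper22.MaxCentE

open Subgroup Cfsg.Agent.Lib.Helper22.TwoClass Cfsg.Agent.Lib.Helper22.MaxCentA
  Cfsg.Agent.Lib.Helper22.MaxCentB Cfsg.Agent.Lib.Helper22.MaxCentC
  Cfsg.Agent.Lib.Helper22.MaxCentD

variable {G : Type*} [Group G] {N : Subgroup G}

/-- the self-normalizing elements whose relevant prime is `r` -/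
def Tr (N : Subgroup G) (r : ℕ) : Set G :=
  {g : G | g ∈ N ∧ g ∉ Zc N ∧ TypeII N g ∧
    ∃ (w : G) (k : ℕ), w ∈ zpowers g ∧ w ∉ Zc N ∧ orderOf w = r ^ k}

/-- all self-normalizing elements -/
def Tall (N : Subgroup G) : Set G := {g : G | g ∈ N ∧ g ∉ Zc N ∧ TypeII N g}

theorem ncard_Tr_le [Finite G] [N.Normal] (h : MC N)
    (hA : ∀ x ∈ N, x ∉ Zc N → TypeII N x → ¬ ∀ c ∈ NC N x, ∀ d ∈ NC N x, c * d = d * c)
    {r : ℕ} (hr : r.Prime) : Set.ncard (Tr N r) * r ^ 2 ≤ Nat.card N := by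
  haveI : Fact r.Prime := ⟨hr⟩
  by_cases hne : (Tr N r).Nonempty
  swap
  · rw [Set.not_nonempty_iff_eq_empty.1 hne, Set.ncard_empty, zero_mul]
    exact Nat.zero_le _
  obtain ⟨g₀, hg₀N, hg₀Z, hg₀II, x, k₀, hx0, hxZ, hxo⟩ := hne
  -- facts on a primary element
  have prim : ∀ (g w : G) (k : ℕ), g ∈ N → g ∉ Zc N → TypeII N g → w ∈ zpowers g → w ∉ Zc N →
      orderOf w = r ^ k → w ∈ N ∧ NC N w = NC N g ∧ TypeII N w ∧ D2 N w r := by
    intro g w k hgN hgZ hgII hw hwZ hwo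
    have hwN : w ∈ N := (Subgroup.zpowers_le.2 hgN) hw
    have hCz : Cz g = Cz w := h.Cz_eq_of_pow hgN hw hwZ
    have hNC : NC N w = NC N g := by rw [NC, NC, hCz]
    have hwII : TypeII N w := hgII.of_NC_eq hNC
    refine ⟨hwN, hNC, hwII, ?_⟩
    intro c hc hcop
    by_contra hcZ
    exact hA w hwN hwZ hwII (MC.abelian_of_coprime_elt h hr hwN hwZ hwo hc hcZ hcop)
  obtain ⟨hxN, hxNC, hxII, hxD⟩ := prim g₀ x k₀ hg₀N hg₀Z hg₀II hx0 hxZ hxo
  have hsub : Tr N r ⊆ {g : G | ∃ n ∈ N, ∃ u ∈ ZC N x, g = n * u * n⁻¹} := by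
    rintro g ⟨hgN, hgZ, hgII, w, k, hw, hwZ, hwo⟩
    obtain ⟨hwN, hwNC, hwII, hwD⟩ := prim g w k hgN hgZ hgII hw hwZ hwo
    obtain ⟨n, hn, hconj⟩ := exists_conj_of_D2 h hxN hxZ hxo hxII hxD hwN hwZ hwII hwD
    rw [hwNC] at hconj
    -- `NC N (n x n⁻¹) = NC N g`
    refine ⟨n, hn, n⁻¹ * g * n, ?_, by group⟩
    rw [mem_ZC]
    have hgC : g ∈ NC N (n * x * n⁻¹) := by rw [hconj]; exact self_mem_NC hgN
    refine ⟨(mem_NC_conj hn).1 hgC, ?_⟩
    intro d hd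
    have hd' : n * d * n⁻¹ ∈ NC N (n * x * n⁻¹) := by
      rw [mem_NC_conj hn]
      have e : n⁻¹ * (n * d * n⁻¹) * n = d := by group
      rw [e]; exact hd
    rw [hconj] at hd'
    have hc := (mem_NC.1 hd').2
    calc n⁻¹ * g * n * d = n⁻¹ * (g * (n * d * n⁻¹)) * n := by group
      _ = n⁻¹ * ((n * d * n⁻¹) * g) * n := by rw [hc]
      _ = d * (n⁻¹ * g * n) := by group
  have hcent : ∀ a ∈ ZC N x, ∀ c ∈ NC N x, c * a = a * c := by
    intro a ha c hc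
    exact ((mem_ZC.1 ha).2 c hc).symm
  have h1 := card_conj_union_le N (NC N x) (ZC N x) inf_le_left hcent
  have h2 : Set.ncard (Tr N r) ≤ (NC N x).relIndex N * Nat.card (ZC N x) :=
    le_trans (Set.ncard_le_ncard hsub (Set.toFinite _)) h1
  have h3 : Nat.card (ZC N x) * r ^ 2 ≤ Nat.card (NC N x) :=
    card_ZC_mul_sq_le hxD (hA x hxN hxZ hxII)
  have h4 : Nat.card (NC N x) * (NC N x).relIndex N = Nat.card N :=
    Cfsg.Agent.Lib.Helper22.card_mul_relIndex_of_le inf_le_left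
  calc Set.ncard (Tr N r) * r ^ 2 ≤ (NC N x).relIndex N * Nat.card (ZC N x) * r ^ 2 :=
        Nat.mul_le_mul_right _ h2
    _ = (NC N x).relIndex N * (Nat.card (ZC N x) * r ^ 2) := by ring
    _ ≤ (NC N x).relIndex N * Nat.card (NC N x) := Nat.mul_le_mul_left _ h3
    _ = Nat.card N := by rw [mul_comm]; exact h4

omit [Group G] in
theorem ncard_biUnion_le [Finite G] (s : Finset ℕ) (A : ℕ → Set G) :
    Set.ncard (⋃ r ∈ s, A r) ≤ ∑ r ∈ s, Set.ncard (A r) := by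
  classical
  induction s using Finset.induction_on with
  | empty => simp
  | insert a s ha ih =>
    rw [Finset.set_biUnion_insert, Finset.sum_insert ha]
    exact le_trans (Set.ncard_union_le _ _) (Nat.add_le_add_left ih _)

theorem Tall_subset [Finite G] : Tall N ⊆ ⋃ r ∈ (Nat.card G).primeFactors, Tr N r := by
  rintro g ⟨hgN, hgZ, hgII⟩
  obtain ⟨q, k, w, hq, hw, hwZ, hwo⟩ := exists_primary_not_mem (Zc N) g hgZ
  have hk : k ≠ 0 := by
    rintro rfl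
    rw [pow_zero, orderOf_eq_one_iff] at hwo
    rw [hwo] at hwZ
    exact hwZ (Subgroup.one_mem _)
  have hqd : q ∣ Nat.card G := by
    have h1 : q ∣ orderOf w := by rw [hwo]; exact dvd_pow_self q hk
    exact dvd_trans h1 (orderOf_dvd_natCard w)
  simp only [Set.mem_iUnion]
  refine ⟨q, ?_, hgN, hgZ, hgII, w, k, hw, hwZ, hwo⟩
  rw [Nat.mem_primeFactors]
  exact ⟨hq, hqd, Nat.card_pos.ne'⟩

/-- counting: the self-normalizing elements are fewer than half of `N` when none of them has an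
abelian centralizer -/
theorem two_mul_ncard_Tall_lt [Finite G] [N.Normal] (h : MC N)
    (hA : ∀ x ∈ N, x ∉ Zc N → TypeII N x → ¬ ∀ c ∈ NC N x, ∀ d ∈ NC N x, c * d = d * c) :
    2 * Set.ncard (Tall N) < Nat.card N := by
  have h1 : Set.ncard (Tall N) ≤ ∑ r ∈ (Nat.card G).primeFactors, Set.ncard (Tr N r) :=
    le_trans (Set.ncard_le_ncard Tall_subset (Set.toFinite _)) (ncard_biUnion_le _ _)
  have h2 : ∀ r ∈ (Nat.card G).primeFactors,
      (Set.ncard (Tr N r) : ℚ) ≤ (Nat.card N : ℚ) * ((1 : ℚ) / (r : ℚ) ^ 2) := by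
    intro r hr
    have hrp : r.Prime := Nat.prime_of_mem_primeFactors hr
    have := ncard_Tr_le h hA hrp
    have hpos : (0 : ℚ) < (r : ℚ) ^ 2 := by
      have : (0 : ℚ) < r := by exact_mod_cast hrp.pos
      positivity
    rw [mul_one_div, le_div_iff₀ hpos]
    exact_mod_cast this
  have h3 : (Set.ncard (Tall N) : ℚ) ≤
      (Nat.card N : ℚ) * ∑ r ∈ (Nat.card G).primeFactors, (1 : ℚ) / (r : ℚ) ^ 2 := by
    rw [Finset.mul_sum]
    calc (Set.ncard (Tall N) : ℚ) ≤ ((∑ r ∈ (Nat.card G).primeFactors, Set.ncard (Tr N r) : ℕ) : ℚ) := by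
          exact_mod_cast h1
      _ = ∑ r ∈ (Nat.card G).primeFactors, (Set.ncard (Tr N r) : ℚ) := by push_cast; rfl
      _ ≤ _ := Finset.sum_le_sum h2
  have h4 := sum_inv_sq_primes_lt (Nat.card G).primeFactors
    (fun r hr => Nat.prime_of_mem_primeFactors hr)
  have hNpos : (0 : ℚ) < (Nat.card N : ℚ) := by exact_mod_cast Nat.card_pos
  have h5 : (2 * Set.ncard (Tall N) : ℚ) < (Nat.card N : ℚ) := by
    have : (Nat.card N : ℚ) * ∑ r ∈ (Nat.card G).primeFactors, (1 : ℚ) / (r : ℚ) ^ 2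
        < (Nat.card N : ℚ) * (1 / 2) := mul_lt_mul_of_pos_left h4 hNpos
    linarith
  exact_mod_cast h5

end Cfsg.Agent.Lib.Helper22.MaxCentE
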