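import Mathlib
import Cfsg.Agent.Lib.Helper22.MaxCentE

set_option autoImplicit false

namespace Cfsg.Agent.Lib.Helper22.MaxCentF

open Subgroup Cfsg.Agent.Lib.Helper22.TwoClass Cfsg.Agent.Lib.Helper22.MaxCentA
  Cfsg.Agent.Lib.Helper22.MaxCentB Cfsg.Agent.Lib.Helper22.MaxCentC
  Cfsg.Agent.Lib.Helper22.MaxCentD Cfsg.Agent.Lib.Helper22.MaxCentE

variable {G : Type*} [Group G] {N : Subgroup G}

theorem mem_fitting_of_not_typeII [Finite G] [N.Normal] (h : MC N) (g : ↥N)
    (hg : ¬ ((g : G) ∉ Zc N ∧ TypeII N (g : G))) : g ∈ Cfsg.fittingSubgroup ↥N := by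
  by_cases hgZ : (g : G) ∈ Zc N
  · have hc : g ∈ Subgroup.center ↥N := by
      rw [Subgroup.mem_center_iff]
      intro n
      apply Subtype.ext
      exact mem_Zc.1 hgZ n n.2
    have hcn : Group.IsNilpotent ↥(Subgroup.center ↥N) :=
      ⟨⟨1, Subgroup.upperCentralSeries_one_eq_top_iff.2 inferInstance⟩⟩
    exact Cfsg.Agent.Lib.Helper1.le_fittingSubgroup (inferInstance : (Subgroup.center ↥N).Normal)
      hcn hc
  · have hI : N ≤ Subgroup.normalizer ((NC N (g : G) : Subgroup G) : Set G) := by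
      rcases h.type_dichotomy g.2 hgZ with h1 | h1
      · exact absurd ⟨hgZ, h1⟩ hg
      · exact h1
    have hle : NC N (g : G) ≤ N := inf_le_left
    have hnorm : ((NC N (g : G)).subgroupOf N).Normal :=
      (Subgroup.normal_subgroupOf_iff_le_normalizer hle).2 hI
    haveI := h.nilpotent_NC g.2 hgZ
    have hnil : Group.IsNilpotent ↥((NC N (g : G)).subgroupOf N) :=
      Group.nilpotent_of_mulEquiv (Subgroup.subgroupOfEquivOfLe hle).symm
    have hmem : g ∈ (NC N (g : G)).subgroupOf N := Subgroup.mem_subgroupOf.2 (self_mem_NC g.2)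
    exact Cfsg.Agent.Lib.Helper1.le_fittingSubgroup hnorm hnil hmem

theorem nilpotent_of_card [Finite G] [N.Normal] (h : MC N)
    (hc : 2 * Set.ncard (Tall N) < Nat.card N) : Group.IsNilpotent ↥N := by
  set F := Cfsg.fittingSubgroup ↥N with hF
  have hFnil : Group.IsNilpotent ↥F := Cfsg.Agent.Lib.Helper1.fittingSubgroup_nilpotent
  suffices htop : F = ⊤ by
    rw [htop] at hFnil
    exact Group.nilpotent_of_mulEquiv (Subgroup.topEquiv (G := ↥N))
  by_contra hne
  -- the complement of `F` maps into `Tall N`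
  have hsub : Subtype.val '' ((F : Set ↥N)ᶜ) ⊆ Tall N := by
    rintro _ ⟨g, hg, rfl⟩
    have : ¬ ¬ ((g : G) ∉ Zc N ∧ TypeII N (g : G)) := fun hn =>
      hg (mem_fitting_of_not_typeII h g hn)
    rw [not_not] at this
    exact ⟨g.2, this.1, this.2⟩
  have h1 : Set.ncard ((F : Set ↥N)ᶜ) ≤ Set.ncard (Tall N) := by
    rw [← Set.ncard_image_of_injective _ Subtype.val_injective]
    exact Set.ncard_le_ncard hsub (Set.toFinite _)
  have h2 : Set.ncard ((F : Set ↥N)ᶜ) = Nat.card ↥N - Nat.card F := by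
    rw [Set.ncard_compl, ← Nat.card_coe_set_eq]
    rfl
  have h3 : Nat.card F * F.index = Nat.card ↥N := Subgroup.card_mul_index F
  have h4 : 2 ≤ F.index := by
    have h0 : F.index ≠ 0 := Subgroup.index_ne_zero_of_finite
    have h1 : F.index ≠ 1 := fun h => hne (Subgroup.index_eq_one.1 h)
    omega
  have h5 : 2 * Nat.card F ≤ Nat.card ↥N := by
    rw [← h3, mul_comm]
    exact Nat.mul_le_mul_left _ h4
  omega

theorem exists_abelian_typeII [Finite G] [N.Normal] (h : MC N)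
    (hex : ∃ x ∈ N, x ∉ Zc N ∧ TypeII N x) :
    ∃ x ∈ N, x ∉ Zc N ∧ TypeII N x ∧ ∀ c ∈ NC N x, ∀ d ∈ NC N x, c * d = d * c := by
  by_contra hcon
  push Not at hcon
  have hA : ∀ x ∈ N, x ∉ Zc N → TypeII N x →
      ¬ ∀ c ∈ NC N x, ∀ d ∈ NC N x, c * d = d * c := by
    intro x hxN hxZ hxII hab
    obtain ⟨c, hc, d, hd, hne⟩ := hcon x hxN hxZ hxII
    exact hne (hab c hc d hd)
  haveI hnil := nilpotent_of_card h (two_mul_ncard_Tall_lt h hA)
  obtain ⟨x, hxN, hxZ, hxII⟩ := hex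
  have := hxII.eq_of_nilpotent N inf_le_left le_rfl
  apply hxZ
  rw [mem_Zc]
  intro n hn
  rw [this] at hn
  exact (mem_NC.1 hn).2

theorem nilpotent_of_no_typeII [Finite G] [N.Normal] (h : MC N)
    (hno : ∀ x ∈ N, x ∉ Zc N → ¬ TypeII N x) : Group.IsNilpotent ↥N := by
  apply nilpotent_of_card h
  have : Tall N = ∅ := by
    apply Set.eq_empty_iff_forall_notMem.2
    rintro g ⟨hgN, hgZ, hgII⟩
    exact hno g hgN hgZ hgII
  rw [this, Set.ncard_empty, mul_zero]
  exact Nat.card_pos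

end Cfsg.Agent.Lib.Helper22.MaxCentF
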