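import Mathlib
import Cfsg.Agent.Lib.Helper22.MaxCentF

set_option autoImplicit false

namespace Cfsg.Agent.Lib.Helper22.MaxCentG

open Subgroup Cfsg.Agent.Lib.Helper22.TwoClass Cfsg.Agent.Lib.Helper22.MaxCentA
  Cfsg.Agent.Lib.Helper22.MaxCentB Cfsg.Agent.Lib.Helper22.MaxCentC

variable {G : Type*} [Group G] {N : Subgroup G}

/-- For `x` of type I, a subgroup of `N / C_N(x)` invariant under `C_G(x)` is trivial or
everything. -/
theorem MC.sub_quot [N.Normal] (h : MC N) {x : G} (hxN : x ∈ N) (hx : x ∉ Zc N)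
    [hn : ((NC N x).subgroupOf N).Normal]
    (S : Subgroup (↥N ⧸ (NC N x).subgroupOf N))
    (hS : ∀ m ∈ Cz x, ∀ n : ↥N, (QuotientGroup.mk n : ↥N ⧸ (NC N x).subgroupOf N) ∈ S →
      ∀ hmn : m * (n : G) * m⁻¹ ∈ N,
        (QuotientGroup.mk (⟨m * (n : G) * m⁻¹, hmn⟩ : ↥N) : ↥N ⧸ (NC N x).subgroupOf N) ∈ S) :
    S = ⊥ ∨ S = ⊤ := by
  set R : Subgroup G := (S.comap (QuotientGroup.mk' ((NC N x).subgroupOf N))).map N.subtype
    with hR
  have hmemR : ∀ g : G, g ∈ R ↔ ∃ n : ↥N,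
      (QuotientGroup.mk n : ↥N ⧸ (NC N x).subgroupOf N) ∈ S ∧ (n : G) = g := by
    intro g
    rw [hR, Subgroup.mem_map]
    constructor
    · rintro ⟨n, hn, rfl⟩
      exact ⟨n, hn, rfl⟩
    · rintro ⟨n, hn, rfl⟩
      exact ⟨n, hn, rfl⟩
  have h1 : NC N x ≤ R := by
    intro g hg
    rw [hmemR]
    have hgN : g ∈ N := (mem_NC.1 hg).1
    refine ⟨⟨g, hgN⟩, ?_, rfl⟩
    have : (QuotientGroup.mk (⟨g, hgN⟩ : ↥N) : ↥N ⧸ (NC N x).subgroupOf N) = 1 := by
      rw [QuotientGroup.eq_one_iff]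
      exact Subgroup.mem_subgroupOf.2 hg
    rw [this]
    exact S.one_mem
  have h2 : R ≤ N := by
    intro g hg
    obtain ⟨n, -, rfl⟩ := (hmemR g).1 hg
    exact n.2
  have hinv : ∀ m ∈ Cz x, ∀ r ∈ R, m * r * m⁻¹ ∈ R := by
    intro m hm r hr
    obtain ⟨n, hnS, rfl⟩ := (hmemR r).1 hr
    have hmn : m * (n : G) * m⁻¹ ∈ N := (inferInstance : N.Normal).conj_mem _ n.2 m
    rw [hmemR]
    exact ⟨⟨m * (n : G) * m⁻¹, hmn⟩, hS m hm n hnS hmn, rfl⟩
  rcases h.inv_sub hxN hx R h1 h2 hinv with h3 | h3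
  · left
    rw [eq_bot_iff]
    intro q hq
    obtain ⟨n, rfl⟩ := QuotientGroup.mk_surjective q
    have : (n : G) ∈ R := (hmemR _).2 ⟨n, hq, rfl⟩
    rw [h3] at this
    rw [Subgroup.mem_bot, QuotientGroup.eq_one_iff]
    exact Subgroup.mem_subgroupOf.2 this
  · right
    rw [eq_top_iff]
    intro q _
    obtain ⟨n, rfl⟩ := QuotientGroup.mk_surjective q
    have : (n : G) ∈ R := by rw [h3]; exact n.2
    obtain ⟨n', hn', he⟩ := (hmemR _).1 this
    have : n' = n := Subtype.ext he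
    rw [← this]
    exact hn'

/-- conjugation by `m ∈ C_G(x)` preserves membership in `C_N(x)` -/
theorem conj_mem_NC [N.Normal] {x m : G} (hm : m ∈ Cz x) {a : G} (ha : a ∈ NC N x) :
    m * a * m⁻¹ ∈ NC N x :=
  (Subgroup.mem_normalizer_iff.1 (Cz_normalizes_NC (N := N) hm) a).1 ha

/-- In the nilpotent case `N / C_N(x)` is elementary abelian for every noncentral `x`. -/
theorem MC.nilp_quot [Finite G] [N.Normal] (h : MC N) [hnil : Group.IsNilpotent ↥N] {x : G}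
    (hxN : x ∈ N) (hx : x ∉ Zc N) :
    (∀ a ∈ N, ∀ b ∈ N, a * b * a⁻¹ * b⁻¹ ∈ NC N x) ∧
      ∃ p : ℕ, p.Prime ∧ ∀ n ∈ N, n ^ p ∈ NC N x := by
  -- `x` is of type I
  have hI : N ≤ Subgroup.normalizer ((NC N x : Subgroup G) : Set G) := by
    rcases h.type_dichotomy hxN hx with h1 | h1
    · exfalso
      have hII : TypeII N x := h1
      have := hII.eq_of_nilpotent N inf_le_left le_rfl
      apply hx
      rw [mem_Zc]
      intro n hn
      rw [this] at hn
      exact (mem_NC.1 hn).2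
    · exact h1
  have hle : NC N x ≤ N := inf_le_left
  haveI hnorm : ((NC N x).subgroupOf N).Normal :=
    (Subgroup.normal_subgroupOf_iff_le_normalizer hle).2 hI
  set D' := (NC N x).subgroupOf N with hD'
  -- the quotient is nontrivial
  have hnt : Nontrivial (↥N ⧸ D') := by
    by_contra hsub
    rw [not_nontrivial_iff_subsingleton] at hsub
    apply hx
    rw [mem_Zc]
    intro n hn
    have : (QuotientGroup.mk (⟨n, hn⟩ : ↥N) : ↥N ⧸ D') = 1 := Subsingleton.elim _ _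
    rw [QuotientGroup.eq_one_iff] at this
    exact (mem_NC.1 (Subgroup.mem_subgroupOf.1 this)).2
  -- key: transport of the relation `mk a = mk b`
  have hmk : ∀ a b : ↥N, (QuotientGroup.mk a : ↥N ⧸ D') = QuotientGroup.mk b ↔
      (a : G)⁻¹ * (b : G) ∈ NC N x := by
    intro a b
    rw [QuotientGroup.eq]
    exact Subgroup.mem_subgroupOf
  -- the centre is invariant
  have hcenter : Subgroup.center (↥N ⧸ D') = ⊤ := by
    have hinvc : ∀ m ∈ Cz x, ∀ n : ↥N,
        (QuotientGroup.mk n : ↥N ⧸ (NC N x).subgroupOf N) ∈ Subgroup.center (↥N ⧸ D') →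
        ∀ hmn : m * (n : G) * m⁻¹ ∈ N,
          (QuotientGroup.mk (⟨m * (n : G) * m⁻¹, hmn⟩ : ↥N) : ↥N ⧸ (NC N x).subgroupOf N) ∈
            Subgroup.center (↥N ⧸ D') := by
      intro m hm n hn hmn
      rw [Subgroup.mem_center_iff] at hn ⊢
      intro q
      obtain ⟨k, rfl⟩ := QuotientGroup.mk_surjective q
      have hk₀ : m⁻¹ * (k : G) * m ∈ N := by
        have := (inferInstance : N.Normal).conj_mem _ k.2 m⁻¹
        simpa using this
      have h1 := hn (QuotientGroup.mk (⟨m⁻¹ * (k : G) * m, hk₀⟩ : ↥N))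
      rw [← QuotientGroup.mk_mul, ← QuotientGroup.mk_mul, hmk] at h1 ⊢
      have h2 := conj_mem_NC (N := N) hm h1
      have e : m * (((⟨m⁻¹ * (k : G) * m, hk₀⟩ * n : ↥N) : G)⁻¹ *
          ((n * ⟨m⁻¹ * (k : G) * m, hk₀⟩ : ↥N) : G)) * m⁻¹ =
          ((k * ⟨m * (n : G) * m⁻¹, hmn⟩ : ↥N) : G)⁻¹ *
            ((⟨m * (n : G) * m⁻¹, hmn⟩ * k : ↥N) : G) := by
        simp only [Subgroup.coe_mul]
        group
      rw [e] at h2
      exact h2
    rcases MC.sub_quot h hxN hx (Subgroup.center (↥N ⧸ D')) hinvc with h1 | h1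
    · exact absurd h1 (Group.IsNilpotent.center_ne_bot _)
    · exact h1
  have hcomm : ∀ q₁ q₂ : ↥N ⧸ D', q₁ * q₂ = q₂ * q₁ := by
    intro q₁ q₂
    have : q₂ ∈ Subgroup.center (↥N ⧸ D') := by rw [hcenter]; trivial
    exact (Subgroup.mem_center_iff.1 this q₁)
  refine ⟨?_, ?_⟩
  · intro a ha b hb
    have := hcomm (QuotientGroup.mk (⟨b, hb⟩ : ↥N)) (QuotientGroup.mk (⟨a, ha⟩ : ↥N))
    rw [← QuotientGroup.mk_mul, ← QuotientGroup.mk_mul, hmk] at this
    have h2 : ((⟨b, hb⟩ * ⟨a, ha⟩ : ↥N) : G)⁻¹ * ((⟨a, ha⟩ * ⟨b, hb⟩ : ↥N) : G) =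
        a⁻¹ * b⁻¹ * a * b := by
      simp only [Subgroup.coe_mul]; group
    rw [h2] at this
    -- conjugate into the required form
    have h3 : a * b * a⁻¹ * b⁻¹ = (b * a) * (a⁻¹ * b⁻¹ * a * b) * (b * a)⁻¹ := by group
    rw [h3]
    have hbaN : b * a ∈ N := N.mul_mem hb ha
    exact (Subgroup.mem_normalizer_iff.1 (hI hbaN) _).1 this
  · -- a prime `p` dividing the order of the quotient
    obtain ⟨p, hp, hpd⟩ := Nat.exists_prime_and_dvd
      (show Nat.card (↥N ⧸ D') ≠ 1 from fun h1 =>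
        (not_subsingleton (↥N ⧸ D')) ((Nat.card_eq_one_iff_unique.1 h1).1))
    haveI : Fact p.Prime := ⟨hp⟩
    obtain ⟨q₀, hq₀⟩ := exists_prime_orderOf_dvd_card' p hpd
    -- the subgroup of elements of exponent `p`
    let S : Subgroup (↥N ⧸ D') :=
      { carrier := {q | q ^ p = 1}
        one_mem' := one_pow p
        mul_mem' := by
          intro a b ha hb
          show (a * b) ^ p = 1
          rw [(show Commute a b from hcomm a b).mul_pow, ha, hb, one_mul]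
        inv_mem' := by
          intro a ha
          show a⁻¹ ^ p = 1
          rw [inv_pow, ha, inv_one] }
    have hSmem : ∀ q : ↥N ⧸ D', q ∈ S ↔ q ^ p = 1 := fun q => Iff.rfl
    have hinvS : ∀ m ∈ Cz x, ∀ n : ↥N,
        (QuotientGroup.mk n : ↥N ⧸ (NC N x).subgroupOf N) ∈ S →
        ∀ hmn : m * (n : G) * m⁻¹ ∈ N,
          (QuotientGroup.mk (⟨m * (n : G) * m⁻¹, hmn⟩ : ↥N) : ↥N ⧸ (NC N x).subgroupOf N) ∈ S := by
      intro m hm n hn hmn
      rw [hSmem] at hn ⊢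
      rw [← QuotientGroup.mk_pow, QuotientGroup.eq_one_iff] at hn ⊢
      have h1 : ((n ^ p : ↥N) : G) ∈ NC N x := Subgroup.mem_subgroupOf.1 hn
      have h2 := conj_mem_NC (N := N) hm h1
      apply Subgroup.mem_subgroupOf.2
      have e : (((⟨m * (n : G) * m⁻¹, hmn⟩ : ↥N) ^ p : ↥N) : G) = m * ((n ^ p : ↥N) : G) * m⁻¹ := by
        simp only [Subgroup.coe_pow]
        rw [conj_pow]
      rw [e]
      exact h2
    have hStop : S = ⊤ := by
      rcases MC.sub_quot h hxN hx S hinvS with h1 | h1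
      · exfalso
        have hq₀S : q₀ ∈ S := by
          rw [hSmem, ← hq₀]; exact pow_orderOf_eq_one q₀
        rw [h1, Subgroup.mem_bot] at hq₀S
        rw [hq₀S, orderOf_one] at hq₀
        exact hp.one_lt.ne' hq₀.symm
      · exact h1
    refine ⟨p, hp, ?_⟩
    intro n hn
    have : (QuotientGroup.mk (⟨n, hn⟩ : ↥N) : ↥N ⧸ D') ∈ S := by rw [hStop]; trivial
    rw [hSmem, ← QuotientGroup.mk_pow, QuotientGroup.eq_one_iff] at this
    exact Subgroup.mem_subgroupOf.1 this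

end Cfsg.Agent.Lib.Helper22.MaxCentG
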