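import Mathlib
import Cfsg.Prelude.Def_Transfer
import Cfsg.Agent.Lib.Helper22.MaxCentG

set_option autoImplicit false

namespace Cfsg.Agent.Lib.Helper22.MaxCentH

open Subgroup Cfsg.Agent.Lib.Helper22.TwoClass Cfsg.Agent.Lib.Helper22.MaxCentA
  Cfsg.Agent.Lib.Helper22.MaxCentB Cfsg.Agent.Lib.Helper22.MaxCentC
  Cfsg.Agent.Lib.Helper22.MaxCentG

variable {G : Type*} [Group G] {N : Subgroup G}

theorem mem_center_iff_Zc (a : ↥N) : a ∈ Subgroup.center ↥N ↔ (a : G) ∈ Zc N := by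
  rw [Subgroup.mem_center_iff, mem_Zc]
  constructor
  · intro h n hn
    exact congrArg Subtype.val (h ⟨n, hn⟩)
  · intro h n
    exact Subtype.ext (h n n.2)

/-- a group in which every element has order `1` or a prime, and which is commutative,
has prime exponent -/
theorem exists_prime_exponent {Q : Type*} [Group Q] (hcomm : ∀ a b : Q, a * b = b * a)
    (hord : ∀ q : Q, q = 1 ∨ ∃ p : ℕ, p.Prime ∧ q ^ p = 1) :
    ∃ p : ℕ, p.Prime ∧ ∀ q : Q, q ^ p = 1 := by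
  by_cases htriv : ∀ q : Q, q = 1
  · exact ⟨2, Nat.prime_two, fun q => by rw [htriv q, one_pow]⟩
  push Not at htriv
  obtain ⟨q₀, hq₀⟩ := htriv
  have hordp : ∀ q : Q, q ≠ 1 → (orderOf q).Prime ∧ ∀ p : ℕ, p.Prime → q ^ p = 1 → p = orderOf q := by
    intro q hq
    rcases hord q with h1 | ⟨p, hp, hqp⟩
    · exact absurd h1 hq
    · have hd : orderOf q ∣ p := orderOf_dvd_of_pow_eq_one hqp
      have h1 : orderOf q ≠ 1 := fun h => hq (orderOf_eq_one_iff.1 h)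
      have he : orderOf q = p := ((Nat.dvd_prime hp).1 hd).resolve_left h1
      refine ⟨he ▸ hp, ?_⟩
      intro p' hp' hqp'
      have hd' : orderOf q ∣ p' := orderOf_dvd_of_pow_eq_one hqp'
      exact (((Nat.dvd_prime hp').1 hd').resolve_left h1).symm
  obtain ⟨hp₀, -⟩ := hordp q₀ hq₀
  refine ⟨orderOf q₀, hp₀, ?_⟩
  intro q
  by_cases hq : q = 1
  · rw [hq, one_pow]
  obtain ⟨hp, -⟩ := hordp q hq
  by_cases he : orderOf q = orderOf q₀
  · rw [← he]; exact pow_orderOf_eq_one q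
  exfalso
  have hcop : (orderOf q₀).Coprime (orderOf q) := (Nat.coprime_primes hp₀ hp).2 (Ne.symm he)
  have hmul : orderOf (q₀ * q) = orderOf q₀ * orderOf q :=
    (show Commute q₀ q from hcomm q₀ q).orderOf_mul_eq_mul_orderOf_of_coprime hcop
  have hne : q₀ * q ≠ 1 := by
    intro h1
    rw [h1, orderOf_one] at hmul
    have := hp₀.one_lt
    have := hp.one_lt
    nlinarith
  obtain ⟨hpm, -⟩ := hordp (q₀ * q) hne
  rw [hmul] at hpm
  exact Nat.not_prime_mul hp₀.one_lt.ne' hp.one_lt.ne' hpm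

theorem nilp_case [Finite G] [N.Normal] (h : MC N) [hnil : Group.IsNilpotent ↥N] :
    ∃ p : ℕ, p.Prime ∧
      Cfsg.IsElementaryAbelian p (⊤ : Subgroup (↥N ⧸ Subgroup.center ↥N)) := by
  -- (a) commutators are central
  have ha : ∀ a ∈ N, ∀ b ∈ N, a * b * a⁻¹ * b⁻¹ ∈ Zc N := by
    intro a haN b hbN
    have hcN : a * b * a⁻¹ * b⁻¹ ∈ N :=
      N.mul_mem (N.mul_mem (N.mul_mem haN hbN) (N.inv_mem haN)) (N.inv_mem hbN)
    rw [mem_Zc]
    intro n hn
    by_cases hnZ : n ∈ Zc N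
    · exact (mem_Zc.1 hnZ _ hcN).symm
    · have := (MC.nilp_quot h hn hnZ).1 a haN b hbN
      exact ((mem_NC.1 this).2).symm
  -- (b) prime powers are central
  have hb : ∀ x ∈ N, x ∉ Zc N → ∃ p : ℕ, p.Prime ∧ x ^ p ∈ Zc N := by
    intro x hxN hxZ
    obtain ⟨p, hp, hpow⟩ := (MC.nilp_quot h hxN hxZ).2
    refine ⟨p, hp, ?_⟩
    rw [mem_Zc]
    intro n hn
    set c := x * n * x⁻¹ * n⁻¹ with hc
    have hcZ : c ∈ Zc N := ha x hxN n hn
    have hcn : Commute c n := (mem_Zc.1 hcZ n hn).symm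
    have hcx : Commute c x := (mem_Zc.1 hcZ x hxN).symm
    have e1 : x * n * x⁻¹ = c * n := by rw [hc]; group
    have e2 : n * x * n⁻¹ = c⁻¹ * x := by rw [hc]; group
    have h1 : x * n ^ p * x⁻¹ = c ^ p * n ^ p := by
      rw [← conj_pow, e1, hcn.mul_pow]
    have h2 : x * n ^ p * x⁻¹ = n ^ p := by
      have := (mem_NC.1 (hpow n hn)).2
      rw [← this]; group
    have hcp : c ^ p = 1 := by
      rw [h2] at h1
      exact (mul_eq_right.1 h1.symm)
    have h3 : n * x ^ p * n⁻¹ = c⁻¹ ^ p * x ^ p := by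
      rw [← conj_pow, e2, (hcx.inv_left).mul_pow]
    rw [inv_pow, hcp, inv_one, one_mul] at h3
    calc n * x ^ p = n * x ^ p * n⁻¹ * n := by group
      _ = x ^ p * n := by rw [h3]
  -- (c) the quotient
  have hmk1 : ∀ a : ↥N, (QuotientGroup.mk a : ↥N ⧸ Subgroup.center ↥N) = 1 ↔ (a : G) ∈ Zc N := by
    intro a
    rw [QuotientGroup.eq_one_iff, mem_center_iff_Zc]
  have hcomm : ∀ q₁ q₂ : ↥N ⧸ Subgroup.center ↥N, q₁ * q₂ = q₂ * q₁ := by
    intro q₁ q₂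
    obtain ⟨a, rfl⟩ := QuotientGroup.mk_surjective q₁
    obtain ⟨b, rfl⟩ := QuotientGroup.mk_surjective q₂
    rw [← QuotientGroup.mk_mul, ← QuotientGroup.mk_mul, QuotientGroup.eq, mem_center_iff_Zc]
    have := ha (b : G)⁻¹ (N.inv_mem b.2) (a : G)⁻¹ (N.inv_mem a.2)
    have e : (((a * b)⁻¹ * (b * a) : ↥N) : G) = (b : G)⁻¹ * (a : G)⁻¹ * (b : G)⁻¹⁻¹ * (a : G)⁻¹⁻¹ := by
      simp only [Subgroup.coe_mul, Subgroup.coe_inv]
      group
    rw [e]
    exact this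
  have hord : ∀ q : ↥N ⧸ Subgroup.center ↥N, q = 1 ∨ ∃ p : ℕ, p.Prime ∧ q ^ p = 1 := by
    intro q
    obtain ⟨a, rfl⟩ := QuotientGroup.mk_surjective q
    by_cases haZ : (a : G) ∈ Zc N
    · left
      exact (hmk1 a).2 haZ
    · right
      obtain ⟨p, hp, hpow⟩ := hb a a.2 haZ
      refine ⟨p, hp, ?_⟩
      rw [← QuotientGroup.mk_pow, hmk1]
      simpa using hpow
  obtain ⟨p, hp, hexp⟩ := exists_prime_exponent hcomm hord
  refine ⟨p, hp, ?_, ?_⟩
  · exact ⟨⟨fun a b => Subtype.ext (hcomm a.1 b.1)⟩⟩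
  · intro a _
    exact hexp a

end Cfsg.Agent.Lib.Helper22.MaxCentH
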