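import Mathlib
import Cfsg.Agent.Lib.Helper22.MaxCentC

set_option autoImplicit false

namespace Cfsg.Agent.Lib.Helper22.MaxCentI

open Subgroup Cfsg.Agent.Lib.Helper22.TwoClass Cfsg.Agent.Lib.Helper22.MaxCentA
  Cfsg.Agent.Lib.Helper22.MaxCentB Cfsg.Agent.Lib.Helper22.MaxCentC

variable {G : Type*} [Group G] {N : Subgroup G}

/-- the configuration: `x ∈ N ∖ Z(N)` with `C_N(x)` abelian and self-normalizing in `N` -/
structure AbII (N : Subgroup G) (x : G) : Prop where
  mc : MC N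
  xN : x ∈ N
  xZ : x ∉ Zc N
  tII : TypeII N x
  ab : ∀ c ∈ NC N x, ∀ d ∈ NC N x, c * d = d * c

theorem AbII.NC_eq [Finite G] {x : G} (hc : AbII N x) {u : G} (hu : u ∈ NC N x)
    (huZ : u ∉ Zc N) : NC N u = NC N x :=
  hc.tII.NC_eq_of_central hc.mc hu (fun d hd => hc.ab u hu d hd) huZ

theorem AbII.Cz_eq [Finite G] [N.Normal] {x : G} (hc : AbII N x) {u : G} (hu : u ∈ NC N x)
    (huZ : u ∉ Zc N) : Cz u = Cz x :=
  hc.tII.Cz_eq_of_central hc.mc hc.xN hc.xZ hu (fun d hd => hc.ab u hu d hd) huZ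

/-- `C_G(x)` centralizes `C_N(x)` -/
theorem AbII.Cz_comm [Finite G] [N.Normal] {x : G} (hc : AbII N x) {m : G} (hm : m ∈ Cz x)
    {c : G} (hcC : c ∈ NC N x) : m * c = c * m := by
  have key : ∀ u ∈ NC N x, u ∉ Zc N → m * u = u * m := by
    intro u hu huZ
    have : m ∈ Cz u := by rw [hc.Cz_eq hu huZ]; exact hm
    exact mem_Cz.1 this
  by_cases hcZ : c ∈ Zc N
  · -- `c = (c x) x⁻¹`
    have hxC : x ∈ NC N x := self_mem_NC hc.xN
    have h1 : c * x ∈ NC N x := Subgroup.mul_mem _ hcC hxC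
    have h1Z : c * x ∉ Zc N := by
      intro h
      apply hc.xZ
      have : x = c⁻¹ * (c * x) := by group
      rw [this]
      exact Subgroup.mul_mem _ (Subgroup.inv_mem _ hcZ) h
    have h2 := key (c * x) h1 h1Z
    have h3 := key x hxC hc.xZ
    calc m * c = m * (c * x) * x⁻¹ := by group
      _ = c * x * m * x⁻¹ := by rw [h2]
      _ = c * (x * m) * x⁻¹ := by group
      _ = c * (m * x) * x⁻¹ := by rw [h3]
      _ = c * m := by group
  · exact key c hcC hcZ

/-- trivial intersection property -/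
theorem AbII.ti [Finite G] {x : G} (hc : AbII N x) {n u : G} (hn : n ∈ N) (hu : u ∈ NC N x)
    (huZ : u ∉ Zc N) (hconj : n * u * n⁻¹ ∈ NC N x) (hconjZ : n * u * n⁻¹ ∉ Zc N) :
    n ∈ NC N x := by
  have h1 : NC N u = NC N x := hc.NC_eq hu huZ
  have h2 : NC N (n * u * n⁻¹) = NC N x := hc.NC_eq hconj hconjZ
  have hnorm : n ∈ Subgroup.normalizer ((NC N x : Subgroup G) : Set G) := by
    rw [Subgroup.mem_normalizer_iff]
    intro a
    have e : n⁻¹ * (n * a * n⁻¹) * n = a := by group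
    constructor
    · intro ha
      rw [← h2, mem_NC_conj hn, h1, e]
      exact ha
    · intro ha
      rw [← h2, mem_NC_conj hn, h1, e] at ha
      exact ha
  have : n ∈ N ⊓ Subgroup.normalizer ((NC N x : Subgroup G) : Set G) :=
    Subgroup.mem_inf.2 ⟨hn, hnorm⟩
  rw [hc.tII] at this
  exact this

/-- `G = N C_G(x)` -/
theorem AbII.exists_mul [N.Normal] {x : G} (hc : AbII N x) (g : G) :
    ∃ n ∈ N, ∃ t ∈ Cz x, g = n * t := by
  have hsup : N ⊔ Cz x = ⊤ := by
    rcases (hc.mc.coatom x hc.xN hc.xZ).le_iff.1 (le_sup_right : Cz x ≤ N ⊔ Cz x) with h1 | h1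
    · exact h1
    · exfalso
      apply hc.xZ
      rw [mem_Zc]
      intro n hn
      have : n ∈ N ⊔ Cz x := Subgroup.mem_sup_left hn
      rw [h1] at this
      exact mem_Cz.1 this
  have hg : g ∈ N ⊔ Cz x := by rw [hsup]; trivial
  exact mem_sup_of_normalizes N (Cz x)
    (fun m _ r hr => (inferInstance : N.Normal).conj_mem r hr m) hg

end Cfsg.Agent.Lib.Helper22.MaxCentI
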