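import Mathlib
import Cfsg.Prelude.Def_Solvable
import Cfsg.Agent.Lib.Helper22.MaxCentI
import Cfsg.Agent.Lib.Helper22.MaxCentH

set_option autoImplicit false

namespace Cfsg.Agent.Lib.Helper22.MaxCentJ

open Subgroup Cfsg.Agent.Lib.Helper22.TwoClass Cfsg.Agent.Lib.Helper22.MaxCentA
  Cfsg.Agent.Lib.Helper22.MaxCentB Cfsg.Agent.Lib.Helper22.MaxCentC
  Cfsg.Agent.Lib.Helper22.MaxCentH Cfsg.Agent.Lib.Helper22.MaxCentI

open scoped Pointwise

variable {G : Type*} [Group G] {N : Subgroup G}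

/-- image of `C_N(x)` in `N / Z(N)` -/
def Cbar (N : Subgroup G) (x : G) : Subgroup (↥N ⧸ Subgroup.center ↥N) :=
  ((NC N x).subgroupOf N).map (QuotientGroup.mk' (Subgroup.center ↥N))

theorem mk_eq_mk_iff (a b : ↥N) :
    (QuotientGroup.mk a : ↥N ⧸ Subgroup.center ↥N) = QuotientGroup.mk b ↔
      ∃ z : G, z ∈ Zc N ∧ z ∈ N ∧ (b : G) = (a : G) * z := by
  rw [QuotientGroup.eq, mem_center_iff_Zc]
  constructor
  · intro h
    refine ⟨((a⁻¹ * b : ↥N) : G), h, (a⁻¹ * b : ↥N).2, ?_⟩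
    simp only [Subgroup.coe_mul, Subgroup.coe_inv]
    group
  · rintro ⟨z, hz, -, hb⟩
    have : ((a⁻¹ * b : ↥N) : G) = z := by
      simp only [Subgroup.coe_mul, Subgroup.coe_inv]
      rw [hb]; group
    rw [this]; exact hz

theorem mk_eq_one_iff (a : ↥N) :
    (QuotientGroup.mk a : ↥N ⧸ Subgroup.center ↥N) = 1 ↔ (a : G) ∈ Zc N := by
  rw [QuotientGroup.eq_one_iff, mem_center_iff_Zc]

theorem mk_mem_Cbar_iff {x : G} (hxN : x ∈ N) (a : ↥N) :
    (QuotientGroup.mk a : ↥N ⧸ Subgroup.center ↥N) ∈ Cbar N x ↔ (a : G) ∈ NC N x := by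
  rw [Cbar, Subgroup.mem_map]
  constructor
  · rintro ⟨c, hc, he⟩
    have hcC : (c : G) ∈ NC N x := Subgroup.mem_subgroupOf.1 hc
    obtain ⟨z, hz, hzN, hb⟩ := (mk_eq_mk_iff c a).1 he
    rw [hb]
    exact Subgroup.mul_mem _ hcC (Z_le_NC hxN hzN hz)
  · intro ha
    exact ⟨a, Subgroup.mem_subgroupOf.2 ha, rfl⟩

theorem AbII.frob_compl [Finite G] [N.Normal] {x : G} (hc : AbII N x) :
    Cfsg.IsFrobeniusComplement (Cbar N x) := by
  refine ⟨?_, ?_, ?_⟩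
  · intro hbot
    have : (QuotientGroup.mk (⟨x, hc.xN⟩ : ↥N) : ↥N ⧸ Subgroup.center ↥N) ∈ Cbar N x :=
      (mk_mem_Cbar_iff hc.xN _).2 (self_mem_NC hc.xN)
    rw [hbot, Subgroup.mem_bot, mk_eq_one_iff] at this
    exact hc.xZ this
  · intro htop
    apply hc.xZ
    rw [mem_Zc]
    intro n hn
    have : (QuotientGroup.mk (⟨n, hn⟩ : ↥N) : ↥N ⧸ Subgroup.center ↥N) ∈ Cbar N x := by
      rw [htop]; trivial
    rw [mk_mem_Cbar_iff hc.xN] at this
    exact (mem_NC.1 this).2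
  · intro g hg
    rw [eq_bot_iff]
    intro q hq
    rw [Subgroup.mem_inf] at hq
    obtain ⟨hq1, hq2⟩ := hq
    rw [Subgroup.mem_smul_pointwise_iff_exists] at hq2
    obtain ⟨s, hs, hsq⟩ := hq2
    rw [MulAut.smul_def, MulAut.conj_apply] at hsq
    obtain ⟨n, rfl⟩ := QuotientGroup.mk_surjective g
    obtain ⟨c₂, rfl⟩ := QuotientGroup.mk_surjective s
    obtain ⟨c, rfl⟩ := QuotientGroup.mk_surjective q
    rw [mk_mem_Cbar_iff hc.xN] at hq1 hs
    rw [Subgroup.mem_bot]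
    by_cases hc₂Z : (c₂ : G) ∈ Zc N
    · have h1 : (QuotientGroup.mk c₂ : ↥N ⧸ Subgroup.center ↥N) = 1 := (mk_eq_one_iff c₂).2 hc₂Z
      rw [← hsq, h1, mul_one, mul_inv_cancel]
    · exfalso
      apply hg
      rw [mk_mem_Cbar_iff hc.xN]
      rw [← QuotientGroup.mk_inv, ← QuotientGroup.mk_mul, ← QuotientGroup.mk_mul] at hsq
      obtain ⟨z, hz, hzN, hb⟩ := (mk_eq_mk_iff _ _).1 hsq
      simp only [Subgroup.coe_mul, Subgroup.coe_inv] at hb
      have hconj : (n : G) * (c₂ : G) * (n : G)⁻¹ ∈ NC N x := by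
        have : (n : G) * (c₂ : G) * (n : G)⁻¹ = (c : G) * z⁻¹ := by rw [hb]; group
        rw [this]
        exact Subgroup.mul_mem _ hq1 (Subgroup.inv_mem _ (Z_le_NC hc.xN hzN hz))
      have hconjZ : (n : G) * (c₂ : G) * (n : G)⁻¹ ∉ Zc N := by
        rw [conj_mem_Zc_iff]; exact hc₂Z
      exact hc.ti n.2 hs hc₂Z hconj hconjZ

end Cfsg.Agent.Lib.Helper22.MaxCentJ
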