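import Mathlib
import Cfsg.Prelude.Def_Solvable
import Cfsg.Agent.Lib.Helper1.FrobeniusThm
import Cfsg.Agent.Lib.Helper22.MaxCentJ

set_option autoImplicit false

namespace Cfsg.Agent.Lib.Helper22.MaxCentK

open Subgroup Cfsg.Agent.Lib.Helper22.TwoClass Cfsg.Agent.Lib.Helper22.MaxCentA
  Cfsg.Agent.Lib.Helper22.MaxCentB Cfsg.Agent.Lib.Helper22.MaxCentC
  Cfsg.Agent.Lib.Helper22.MaxCentH Cfsg.Agent.Lib.Helper22.MaxCentI
  Cfsg.Agent.Lib.Helper22.MaxCentJ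

open scoped Pointwise

variable {G : Type*} [Group G] {N : Subgroup G}

/-- the properties of the preimage `K` of the Frobenius kernel of `N / Z(N)` -/
structure Ker (N : Subgroup G) (x : G) (K : Subgroup G) : Prop where
  le : K ≤ N
  Z_le : ∀ z ∈ N, z ∈ Zc N → z ∈ K
  not_conj : ∀ k ∈ K, k ∉ Zc N → ∀ n ∈ N, ∀ c ∈ NC N x, k ≠ n * c * n⁻¹
  conj_of_not_mem : ∀ g ∈ N, g ∉ K → ∃ n ∈ N, ∃ c ∈ NC N x, g = n * c * n⁻¹
  mul : ∀ g ∈ N, ∃ k ∈ K, ∃ c ∈ NC N x, g = k * c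
  normN : ∀ n ∈ N, ∀ k ∈ K, n * k * n⁻¹ ∈ K

theorem AbII.exists_ker [Finite G] [N.Normal] {x : G} (hc : AbII N x) :
    ∃ (K : Subgroup G) (Kb : Subgroup (↥N ⧸ Subgroup.center ↥N)), Ker N x K ∧ Kb.Normal ∧
      (Kb : Set (↥N ⧸ Subgroup.center ↥N)) = Cfsg.frobeniusKernel (Cbar N x) ∧
      ∀ a : ↥N, (QuotientGroup.mk a : ↥N ⧸ Subgroup.center ↥N) ∈ Kb ↔ (a : G) ∈ K := by
  obtain ⟨Kb, hKset, hKn, hKcompl⟩ :=
    Cfsg.Agent.Lib.Helper1.frobenius_theorem (Cbar N x) (AbII.frob_compl hc)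
  set K : Subgroup G := (Kb.comap (QuotientGroup.mk' (Subgroup.center ↥N))).map N.subtype with hK
  have hmem : ∀ a : ↥N, (QuotientGroup.mk a : ↥N ⧸ Subgroup.center ↥N) ∈ Kb ↔ (a : G) ∈ K := by
    intro a
    rw [hK, Subgroup.mem_map]
    constructor
    · intro h
      exact ⟨a, h, rfl⟩
    · rintro ⟨b, hb, he⟩
      have : b = a := Subtype.ext he
      rw [← this]; exact hb
  have hKN : K ≤ N := by
    rintro _ ⟨b, -, rfl⟩
    exact b.2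
  have hker : ∀ q : ↥N ⧸ Subgroup.center ↥N, q ∈ Kb ↔
      (q = 1 ∨ ∀ g : ↥N ⧸ Subgroup.center ↥N, q ∉ MulAut.conj g • Cbar N x) := by
    intro q
    have : q ∈ (Kb : Set (↥N ⧸ Subgroup.center ↥N)) ↔ q ∈ Cfsg.frobeniusKernel (Cbar N x) := by
      rw [hKset]
    exact this
  have hconj_mem : ∀ (n c : ↥N), (c : G) ∈ NC N x →
      (QuotientGroup.mk (n * c * n⁻¹) : ↥N ⧸ Subgroup.center ↥N) ∈
        MulAut.conj (QuotientGroup.mk n : ↥N ⧸ Subgroup.center ↥N) • Cbar N x := by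
    intro n c hcC
    rw [Subgroup.mem_smul_pointwise_iff_exists]
    refine ⟨QuotientGroup.mk c, (mk_mem_Cbar_iff hc.xN c).2 hcC, ?_⟩
    rw [MulAut.smul_def, MulAut.conj_apply]
    rfl
  refine ⟨K, Kb, ⟨hKN, ?_, ?_, ?_, ?_, ?_⟩, hKn, hKset, hmem⟩
  · intro z hzN hz
    have : (QuotientGroup.mk (⟨z, hzN⟩ : ↥N) : ↥N ⧸ Subgroup.center ↥N) ∈ Kb := by
      rw [(mk_eq_one_iff _).2 hz]; exact Kb.one_mem
    exact (hmem _).1 this
  · intro k hk hkZ n hn c hcC he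
    have hkN : k ∈ N := hKN hk
    have h1 : (QuotientGroup.mk (⟨k, hkN⟩ : ↥N) : ↥N ⧸ Subgroup.center ↥N) ∈ Kb :=
      (hmem ⟨k, hkN⟩).2 hk
    rcases (hker _).1 h1 with h2 | h2
    · exact hkZ ((mk_eq_one_iff _).1 h2)
    · apply h2 (QuotientGroup.mk (⟨n, hn⟩ : ↥N))
      have hcN : c ∈ N := (mem_NC.1 hcC).1
      have := hconj_mem ⟨n, hn⟩ ⟨c, hcN⟩ hcC
      have e : (⟨k, hkN⟩ : ↥N) = ⟨n, hn⟩ * ⟨c, hcN⟩ * ⟨n, hn⟩⁻¹ := Subtype.ext he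
      rw [e]; exact this
  · intro g hgN hgK
    have h1 : (QuotientGroup.mk (⟨g, hgN⟩ : ↥N) : ↥N ⧸ Subgroup.center ↥N) ∉ Kb :=
      fun h => hgK ((hmem ⟨g, hgN⟩).1 h)
    rw [hker] at h1
    push Not at h1
    obtain ⟨-, gb, hgb⟩ := h1
    rw [Subgroup.mem_smul_pointwise_iff_exists] at hgb
    obtain ⟨s, hs, hsq⟩ := hgb
    rw [MulAut.smul_def, MulAut.conj_apply] at hsq
    obtain ⟨n, rfl⟩ := QuotientGroup.mk_surjective gb
    obtain ⟨c, rfl⟩ := QuotientGroup.mk_surjective s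
    rw [mk_mem_Cbar_iff hc.xN] at hs
    rw [← QuotientGroup.mk_inv, ← QuotientGroup.mk_mul, ← QuotientGroup.mk_mul] at hsq
    obtain ⟨z, hz, hzN, hb⟩ := (mk_eq_mk_iff _ _).1 hsq
    simp only [Subgroup.coe_mul, Subgroup.coe_inv] at hb
    refine ⟨n, n.2, (c : G) * z, Subgroup.mul_mem _ hs (Z_le_NC hc.xN hzN hz), ?_⟩
    have hzn : (n : G)⁻¹ * z = z * (n : G)⁻¹ := mem_Zc.1 hz _ (N.inv_mem n.2)
    rw [hb]
    calc (n : G) * (c : G) * (n : G)⁻¹ * z = (n : G) * (c : G) * ((n : G)⁻¹ * z) := by group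
      _ = (n : G) * (c : G) * (z * (n : G)⁻¹) := by rw [hzn]
      _ = (n : G) * ((c : G) * z) * (n : G)⁻¹ := by group
  · intro g hgN
    obtain ⟨⟨kb, cb⟩, hkc, -⟩ := (Subgroup.isComplement_iff_existsUnique.1 hKcompl)
      (QuotientGroup.mk (⟨g, hgN⟩ : ↥N))
    simp only at hkc
    obtain ⟨k, hk⟩ := QuotientGroup.mk_surjective (kb : ↥N ⧸ Subgroup.center ↥N)
    obtain ⟨c, hcc⟩ := QuotientGroup.mk_surjective (cb : ↥N ⧸ Subgroup.center ↥N)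
    have hkK : (k : G) ∈ K := (hmem k).1 (by rw [hk]; exact kb.2)
    have hcC : (c : G) ∈ NC N x := (mk_mem_Cbar_iff hc.xN c).1 (by rw [hcc]; exact cb.2)
    rw [← hk, ← hcc, ← QuotientGroup.mk_mul] at hkc
    obtain ⟨z, hz, hzN, hb⟩ := (mk_eq_mk_iff _ _).1 hkc
    simp only [Subgroup.coe_mul] at hb
    refine ⟨(k : G), hkK, (c : G) * z, Subgroup.mul_mem _ hcC (Z_le_NC hc.xN hzN hz), ?_⟩
    rw [hb]; group
  · intro n hn k hk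
    have hkN : k ∈ N := hKN hk
    have h1 : (QuotientGroup.mk (⟨k, hkN⟩ : ↥N) : ↥N ⧸ Subgroup.center ↥N) ∈ Kb :=
      (hmem ⟨k, hkN⟩).2 hk
    have h2 := hKn.conj_mem _ h1 (QuotientGroup.mk (⟨n, hn⟩ : ↥N))
    rw [← QuotientGroup.mk_inv, ← QuotientGroup.mk_mul, ← QuotientGroup.mk_mul, hmem] at h2
    simpa using h2

end Cfsg.Agent.Lib.Helper22.MaxCentK
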