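import Mathlib
import Cfsg.Agent.Lib.Helper22.MaxCentK
import Cfsg.Agent.Lib.Helper22.MaxCentG

set_option autoImplicit false

namespace Cfsg.Agent.Lib.Helper22.MaxCentL

open Subgroup Cfsg.Agent.Lib.Helper22.TwoClass Cfsg.Agent.Lib.Helper22.MaxCentA
  Cfsg.Agent.Lib.Helper22.MaxCentB Cfsg.Agent.Lib.Helper22.MaxCentC
  Cfsg.Agent.Lib.Helper22.MaxCentG
  Cfsg.Agent.Lib.Helper22.MaxCentH Cfsg.Agent.Lib.Helper22.MaxCentI
  Cfsg.Agent.Lib.Helper22.MaxCentJ Cfsg.Agent.Lib.Helper22.MaxCentK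

variable {G : Type*} [Group G] {N : Subgroup G} {x : G} {K : Subgroup G}

theorem Ker.inter (hK : Ker N x K) {k : G} (hk : k ∈ K) (hkC : k ∈ NC N x) : k ∈ Zc N := by
  by_contra hkZ
  exact hK.not_conj k hk hkZ 1 N.one_mem k hkC (by group)

theorem Ker.normal [Finite G] [N.Normal] (hc : AbII N x) (hK : Ker N x K) (g : G) {k : G}
    (hk : k ∈ K) : g * k * g⁻¹ ∈ K := by
  by_contra hnot
  have hkN := hK.le hk
  have hgkN : g * k * g⁻¹ ∈ N := (inferInstance : N.Normal).conj_mem k hkN g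
  obtain ⟨n, hn, c, hcC, he⟩ := hK.conj_of_not_mem _ hgkN hnot
  obtain ⟨n', hn', t, ht, hgt⟩ := hc.exists_mul (g⁻¹ * n)
  have htc : t * c * t⁻¹ = c := by rw [hc.Cz_comm ht hcC]; group
  have hk_eq : k = n' * c * n'⁻¹ := by
    have h1 : k = (g⁻¹ * n) * c * (g⁻¹ * n)⁻¹ := by
      calc k = g⁻¹ * (g * k * g⁻¹) * g := by group
        _ = g⁻¹ * (n * c * n⁻¹) * g := by rw [he]
        _ = (g⁻¹ * n) * c * (g⁻¹ * n)⁻¹ := by group
    rw [h1, hgt]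
    calc n' * t * c * (n' * t)⁻¹ = n' * (t * c * t⁻¹) * n'⁻¹ := by group
      _ = n' * c * n'⁻¹ := by rw [htc]
  by_cases hkZ : k ∈ Zc N
  · exact hnot (hK.Z_le _ hgkN (conj_mem_Zc_iff.2 hkZ))
  · exact hK.not_conj k hk hkZ n' hn' c hcC hk_eq

theorem Ker.NC_le [Finite G] [N.Normal] (hc : AbII N x) (hK : Ker N x K) {y : G} (hyK : y ∈ K)
    (hyZ : y ∉ Zc N) : NC N y ≤ K := by
  intro u hu
  by_contra huK
  have huN := (mem_NC.1 hu).1
  obtain ⟨n, hn, c, hcC, he⟩ := hK.conj_of_not_mem u huN huK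
  have hcN : c ∈ N := (mem_NC.1 hcC).1
  have hcZ : c ∉ Zc N := by
    intro hcZ
    apply huK
    rw [he]
    exact hK.Z_le _ ((inferInstance : N.Normal).conj_mem c hcN n) (conj_mem_Zc_iff.2 hcZ)
  have hNCc : NC N c = NC N x := hc.NC_eq hcC hcZ
  have hyN : y ∈ N := hK.le hyK
  have hy' : n⁻¹ * y * n ∈ NC N c := by
    rw [mem_NC]
    refine ⟨N.mul_mem (N.mul_mem (N.inv_mem hn) hyN) hn, ?_⟩
    have hcomm := (mem_NC.1 hu).2
    rw [he] at hcomm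
    calc n⁻¹ * y * n * c = n⁻¹ * (y * (n * c * n⁻¹)) * n := by group
      _ = n⁻¹ * ((n * c * n⁻¹) * y) * n := by rw [hcomm]
      _ = c * (n⁻¹ * y * n) := by group
  rw [hNCc] at hy'
  exact hK.not_conj y hyK hyZ n hn _ hy' (by group)

theorem Ker.le_Cz [Finite G] [N.Normal] (hc : AbII N x) (hK : Ker N x K) {y : G} (hyK : y ∈ K)
    (hyZ : y ∉ Zc N) : K ≤ Cz y := by
  have hyN := hK.le hyK
  rcases (hc.mc.coatom y hyN hyZ).le_iff.1 (le_sup_right : Cz y ≤ K ⊔ Cz y) with h1 | h1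
  · exfalso
    have hNK : N ≤ K := by
      intro n hn
      have hn' : n ∈ K ⊔ Cz y := by rw [h1]; trivial
      obtain ⟨k, hk, m, hm, rfl⟩ := mem_sup_of_normalizes K (Cz y)
        (fun m _ r hr => Ker.normal hc hK m hr) hn'
      have hmN : m ∈ N := by
        have : m = k⁻¹ * (k * m) := by group
        rw [this]
        exact N.mul_mem (N.inv_mem (hK.le hk)) hn
      have : m ∈ NC N y := Subgroup.mem_inf.2 ⟨hmN, hm⟩
      exact K.mul_mem hk (Ker.NC_le hc hK hyK hyZ this)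
    exact hc.xZ (Ker.inter hK (hNK hc.xN) (self_mem_NC hc.xN))
  · intro k hk
    have : k ∈ K ⊔ Cz y := Subgroup.mem_sup_left hk
    rwa [h1] at this

theorem Ker.comm [Finite G] [N.Normal] (hc : AbII N x) (hK : Ker N x K) {a b : G} (ha : a ∈ K)
    (hb : b ∈ K) : a * b = b * a := by
  by_cases haZ : a ∈ Zc N
  · exact (mem_Zc.1 haZ b (hK.le hb)).symm
  · have := Ker.le_Cz hc hK ha haZ hb
    exact (mem_Cz.1 this).symm

theorem Ker.exists_not_Zc (hc : AbII N x) (hK : Ker N x K) : ∃ y ∈ K, y ∉ Zc N := by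
  by_contra hcon
  push Not at hcon
  apply hc.xZ
  rw [mem_Zc]
  intro n hn
  obtain ⟨k, hk, c, hcC, rfl⟩ := hK.mul n hn
  have hkC : k ∈ NC N x := Z_le_NC hc.xN (hK.le hk) (hcon k hk)
  exact (mem_NC.1 (Subgroup.mul_mem _ hkC hcC)).2

theorem Ker.NC_eq [Finite G] [N.Normal] (hc : AbII N x) (hK : Ker N x K) {y : G} (hyK : y ∈ K)
    (hyZ : y ∉ Zc N) : NC N y = K :=
  le_antisymm (Ker.NC_le hc hK hyK hyZ)
    (fun k hk => mem_NC.2 ⟨hK.le hk, Ker.comm hc hK hk hyK⟩)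

theorem Ker.comm_mod [Finite G] [N.Normal] (hc : AbII N x) (hK : Ker N x K) {a b : G}
    (ha : a ∈ N) (hb : b ∈ N) : a * b * a⁻¹ * b⁻¹ ∈ K := by
  haveI : K.Normal := ⟨fun k hk g => Ker.normal hc hK g hk⟩
  obtain ⟨k₁, hk₁, c₁, hc₁, rfl⟩ := hK.mul a ha
  obtain ⟨k₂, hk₂, c₂, hc₂, rfl⟩ := hK.mul b hb
  rw [← QuotientGroup.eq_one_iff (N := K)]
  have e1 : ((k₁ : G) : G ⧸ K) = 1 := (QuotientGroup.eq_one_iff _).2 hk₁
  have e2 : ((k₂ : G) : G ⧸ K) = 1 := (QuotientGroup.eq_one_iff _).2 hk₂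
  have e3 : ((c₁ * c₂ : G) : G ⧸ K) = ((c₂ * c₁ : G) : G ⧸ K) := by rw [hc.ab c₁ hc₁ c₂ hc₂]
  simp only [QuotientGroup.mk_mul, QuotientGroup.mk_inv, e1, e2, one_mul] at e3 ⊢
  rw [e3]
  group

/-- every subgroup between `K` and `N` is normal in `G` -/
theorem Ker.sub_normal [Finite G] [N.Normal] (hc : AbII N x) (hK : Ker N x K) (R : Subgroup G)
    (hKR : K ≤ R) (hRN : R ≤ N) (g : G) {r : G} (hr : r ∈ R) : g * r * g⁻¹ ∈ R := by
  obtain ⟨n, hn, t, ht, rfl⟩ := hc.exists_mul g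
  have h1 : t * r * t⁻¹ ∈ R := by
    obtain ⟨k, hk, c, hcC, rfl⟩ := hK.mul r (hRN hr)
    have htc : t * c * t⁻¹ = c := by rw [hc.Cz_comm ht hcC]; group
    have : t * (k * c) * t⁻¹ = (t * k * t⁻¹ * k⁻¹) * (k * c) := by
      calc t * (k * c) * t⁻¹ = (t * k * t⁻¹) * (t * c * t⁻¹) := by group
        _ = (t * k * t⁻¹) * c := by rw [htc]
        _ = (t * k * t⁻¹ * k⁻¹) * (k * c) := by group
    rw [this]
    exact R.mul_mem (hKR (K.mul_mem (Ker.normal hc hK t hk) (K.inv_mem hk))) hr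
  have h2 : n * (t * r * t⁻¹) * n⁻¹ ∈ R := by
    have h3 := Ker.comm_mod hc hK hn (hRN h1)
    have : n * (t * r * t⁻¹) * n⁻¹ =
        (n * (t * r * t⁻¹) * n⁻¹ * (t * r * t⁻¹)⁻¹) * (t * r * t⁻¹) := by group
    rw [this]
    exact R.mul_mem (hKR h3) h1
  have e : n * t * r * (n * t)⁻¹ = n * (t * r * t⁻¹) * n⁻¹ := by group
  rw [e]; exact h2

theorem Ker.cyclic [Finite G] [N.Normal] (hc : AbII N x) (hK : Ker N x K) {c : G}
    (hcC : c ∈ NC N x) (hcZ : c ∉ Zc N) {c' : G} (hc' : c' ∈ NC N x) :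
    ∃ j : ℤ, c' * (c ^ j)⁻¹ ∈ Zc N := by
  obtain ⟨y, hyK, hyZ⟩ := Ker.exists_not_Zc hc hK
  have hyN := hK.le hyK
  have hNC := Ker.NC_eq hc hK hyK hyZ
  have hcN : c ∈ N := (mem_NC.1 hcC).1
  set R : Subgroup G := K ⊔ Subgroup.zpowers c with hR
  have hKR : K ≤ R := le_sup_left
  have hRN : R ≤ N := sup_le hK.le (Subgroup.zpowers_le.2 hcN)
  have hinv : ∀ m ∈ Cz y, ∀ r ∈ R, m * r * m⁻¹ ∈ R :=
    fun m _ r hr => Ker.sub_normal hc hK R hKR hRN m hr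
  have h1 : NC N y ≤ R := by rw [hNC]; exact hKR
  rcases hc.mc.inv_sub hyN hyZ R h1 hRN hinv with h2 | h2
  · exfalso
    have : c ∈ R := Subgroup.mem_sup_right (Subgroup.mem_zpowers c)
    rw [h2, hNC] at this
    exact hcZ (Ker.inter hK this hcC)
  · have hc'R : c' ∈ K ⊔ Subgroup.zpowers c := by
      rw [← hR, h2]; exact (mem_NC.1 hc').1
    obtain ⟨k, hk, m, hm, he⟩ := mem_sup_of_normalizes K (Subgroup.zpowers c)
      (fun m _ r hr => Ker.normal hc hK m hr) hc'R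
    obtain ⟨j, rfl⟩ := Subgroup.mem_zpowers_iff.1 hm
    refine ⟨j, ?_⟩
    have hk' : c' * (c ^ j)⁻¹ = k := by rw [he]; group
    rw [hk']
    apply Ker.inter hK hk
    rw [← hk']
    exact Subgroup.mul_mem _ hc' (Subgroup.inv_mem _ (Subgroup.zpow_mem _ hcC j))

theorem Ker.exp [Finite G] [N.Normal] (hc : AbII N x) (hK : Ker N x K) {p : ℕ} {k₀ : G}
    (hk₀ : k₀ ∈ K) (hk₀Z : k₀ ∉ Zc N) (hk₀p : k₀ ^ p ∈ Zc N) : ∀ k ∈ K, k ^ p ∈ Zc N := by
  let V : Subgroup G :=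
    { carrier := {k | k ∈ K ∧ k ^ p ∈ Zc N}
      one_mem' := ⟨K.one_mem, by rw [one_pow]; exact Subgroup.one_mem _⟩
      mul_mem' := by
        rintro a b ⟨ha, hap⟩ ⟨hb, hbp⟩
        refine ⟨K.mul_mem ha hb, ?_⟩
        rw [(show Commute a b from Ker.comm hc hK ha hb).mul_pow]
        exact Subgroup.mul_mem _ hap hbp
      inv_mem' := by
        rintro a ⟨ha, hap⟩
        refine ⟨K.inv_mem ha, ?_⟩
        rw [inv_pow]
        exact Subgroup.inv_mem _ hap }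
  have hVmem : ∀ k : G, k ∈ V ↔ k ∈ K ∧ k ^ p ∈ Zc N := fun k => Iff.rfl
  have hVnorm : ∀ g : G, ∀ v ∈ V, g * v * g⁻¹ ∈ V := by
    intro g v hv
    rw [hVmem] at hv ⊢
    refine ⟨Ker.normal hc hK g hv.1, ?_⟩
    rw [conj_pow, conj_mem_Zc_iff]
    exact hv.2
  have hVK : V ≤ K := fun v hv => ((hVmem v).1 hv).1
  set R : Subgroup G := V ⊔ NC N x with hR
  have h1 : NC N x ≤ R := le_sup_right
  have hRN : R ≤ N := sup_le (le_trans hVK hK.le) inf_le_left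
  have hdecomp : ∀ r ∈ R, ∃ v ∈ V, ∃ c ∈ NC N x, r = v * c := fun r hr =>
    mem_sup_of_normalizes V (NC N x) (fun m _ v hv => hVnorm m v hv) hr
  have hinv : ∀ m ∈ Cz x, ∀ r ∈ R, m * r * m⁻¹ ∈ R := by
    intro m hm r hr
    obtain ⟨v, hv, c, hcC, rfl⟩ := hdecomp r hr
    have : m * (v * c) * m⁻¹ = (m * v * m⁻¹) * (m * c * m⁻¹) := by group
    rw [this]
    exact R.mul_mem (Subgroup.mem_sup_left (hVnorm m v hv))
      (Subgroup.mem_sup_right (conj_mem_NC (N := N) hm hcC))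
  rcases hc.mc.inv_sub hc.xN hc.xZ R h1 hRN hinv with h2 | h2
  · exfalso
    have : k₀ ∈ R := Subgroup.mem_sup_left ((hVmem k₀).2 ⟨hk₀, hk₀p⟩)
    rw [h2] at this
    exact hk₀Z (Ker.inter hK hk₀ this)
  · intro k hk
    have hkR : k ∈ R := by rw [h2]; exact hK.le hk
    obtain ⟨v, hv, c, hcC, rfl⟩ := hdecomp k hkR
    have hvK := hVK hv
    have hcK : c ∈ K := by
      have : c = v⁻¹ * (v * c) := by group
      rw [this]
      exact K.mul_mem (K.inv_mem hvK) hk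
    have hcZ : c ∈ Zc N := Ker.inter hK hcK hcC
    rw [(show Commute v c from Ker.comm hc hK hvK hcK).mul_pow]
    exact Subgroup.mul_mem _ ((hVmem v).1 hv).2 (Subgroup.pow_mem _ hcZ p)

end Cfsg.Agent.Lib.Helper22.MaxCentL
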