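import Mathlib
import Cfsg.Agent.Lib.Helper22.MaxCentL

set_option autoImplicit false

namespace Cfsg.Agent.Lib.Helper22.MaxCentM

open Subgroup Cfsg.Agent.Lib.Helper22.TwoClass Cfsg.Agent.Lib.Helper22.MaxCentA
  Cfsg.Agent.Lib.Helper22.MaxCentB Cfsg.Agent.Lib.Helper22.MaxCentC
  Cfsg.Agent.Lib.Helper22.MaxCentF Cfsg.Agent.Lib.Helper22.MaxCentG
  Cfsg.Agent.Lib.Helper22.MaxCentH Cfsg.Agent.Lib.Helper22.MaxCentI
  Cfsg.Agent.Lib.Helper22.MaxCentJ Cfsg.Agent.Lib.Helper22.MaxCentK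
  Cfsg.Agent.Lib.Helper22.MaxCentL

variable {G : Type*} [Group G] {N : Subgroup G}

theorem prime_card_of_cyclic_gen {H : Type*} [Group H] [Finite H] [Nontrivial H]
    (hgen : ∀ a : H, a ≠ 1 → ∀ b : H, b ∈ Subgroup.zpowers a) : (Nat.card H).Prime := by
  have h1 : Nat.card H ≠ 1 := (Finite.one_lt_card (α := H)).ne'
  obtain ⟨p, hp, hpd⟩ := Nat.exists_prime_and_dvd h1
  haveI : Fact p.Prime := ⟨hp⟩
  obtain ⟨a, ha⟩ := exists_prime_orderOf_dvd_card' p hpd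
  have ha1 : a ≠ 1 := by
    rintro rfl
    rw [orderOf_one] at ha
    exact hp.one_lt.ne' ha.symm
  have := orderOf_eq_card_of_forall_mem_zpowers (hgen a ha1)
  rw [← this, ha]
  exact hp

theorem AbII.frob_case [Finite G] [N.Normal] {x : G} (hc : AbII N x) :
    ∃ (Q K : Subgroup (↥N ⧸ Subgroup.center ↥N)) (p : ℕ), p.Prime ∧
      Cfsg.IsFrobeniusComplement Q ∧ (Nat.card ↥Q).Prime ∧ K.Normal ∧
      (K : Set (↥N ⧸ Subgroup.center ↥N)) = Cfsg.frobeniusKernel Q ∧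
      Cfsg.IsElementaryAbelian p K := by
  obtain ⟨K, Kb, hK, hKn, hKset, hmem⟩ := AbII.exists_ker hc
  obtain ⟨y, hyK, hyZ⟩ := Ker.exists_not_Zc hc hK
  have hyN := hK.le hyK
  haveI : Nontrivial ↥Kb := by
    refine ⟨⟨⟨QuotientGroup.mk (⟨y, hyN⟩ : ↥N), (hmem _).2 hyK⟩, 1, ?_⟩⟩
    intro h
    exact hyZ ((mk_eq_one_iff _).1 (congrArg Subtype.val h))
  have hcard1 : Nat.card ↥Kb ≠ 1 := (Finite.one_lt_card (α := ↥Kb)).ne'
  obtain ⟨p, hp, hpd⟩ := Nat.exists_prime_and_dvd hcard1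
  haveI : Fact p.Prime := ⟨hp⟩
  obtain ⟨kb₀, hkb₀⟩ := exists_prime_orderOf_dvd_card' p hpd
  obtain ⟨k₀, hk₀e⟩ := QuotientGroup.mk_surjective (kb₀ : ↥N ⧸ Subgroup.center ↥N)
  have hk₀K : (k₀ : G) ∈ K := (hmem k₀).1 (by rw [hk₀e]; exact kb₀.2)
  have hkb₀1 : kb₀ ≠ 1 := by
    rintro rfl
    rw [orderOf_one] at hkb₀
    exact hp.one_lt.ne' hkb₀.symm
  have hk₀Z : (k₀ : G) ∉ Zc N := by
    intro h
    apply hkb₀1
    apply Subtype.ext
    rw [← hk₀e]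
    exact (mk_eq_one_iff _).2 h
  have hk₀p : (k₀ : G) ^ p ∈ Zc N := by
    have h1 : kb₀ ^ p = 1 := by rw [← hkb₀]; exact pow_orderOf_eq_one kb₀
    have h2 : (kb₀ : ↥N ⧸ Subgroup.center ↥N) ^ p = 1 := by
      have := congrArg Subtype.val h1
      simpa using this
    rw [← hk₀e, ← QuotientGroup.mk_pow, mk_eq_one_iff] at h2
    simpa using h2
  have hexp := Ker.exp hc hK hk₀K hk₀Z hk₀p
  refine ⟨Cbar N x, Kb, p, hp, AbII.frob_compl hc, ?_, hKn, hKset, ?_, ?_⟩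
  · haveI : Nontrivial ↥(Cbar N x) := by
      refine ⟨⟨⟨QuotientGroup.mk (⟨x, hc.xN⟩ : ↥N),
        (mk_mem_Cbar_iff hc.xN _).2 (self_mem_NC hc.xN)⟩, 1, ?_⟩⟩
      intro h
      exact hc.xZ ((mk_eq_one_iff _).1 (congrArg Subtype.val h))
    apply prime_card_of_cyclic_gen
    intro a ha b
    obtain ⟨c, hce⟩ := QuotientGroup.mk_surjective (a : ↥N ⧸ Subgroup.center ↥N)
    obtain ⟨c', hc'e⟩ := QuotientGroup.mk_surjective (b : ↥N ⧸ Subgroup.center ↥N)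
    have hcC : (c : G) ∈ NC N x := (mk_mem_Cbar_iff hc.xN c).1 (by rw [hce]; exact a.2)
    have hc'C : (c' : G) ∈ NC N x := (mk_mem_Cbar_iff hc.xN c').1 (by rw [hc'e]; exact b.2)
    have hcZ : (c : G) ∉ Zc N := by
      intro h
      apply ha
      apply Subtype.ext
      rw [← hce]
      exact (mk_eq_one_iff _).2 h
    obtain ⟨j, hj⟩ := Ker.cyclic hc hK hcC hcZ hc'C
    rw [Subgroup.mem_zpowers_iff]
    refine ⟨j, Subtype.ext ?_⟩
    rw [Subgroup.coe_zpow, ← hce, ← hc'e, ← QuotientGroup.mk_zpow]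
    rw [mk_eq_mk_iff]
    refine ⟨(c' : G) * ((c : G) ^ j)⁻¹, hj, ?_, ?_⟩
    · exact N.mul_mem c'.2 (N.inv_mem (N.zpow_mem c.2 j))
    · -- `c^j = c' * (c' * (c^j)⁻¹)`? need commutation
      have hcomm : (c' : G) * ((c : G) ^ j)⁻¹ * (c : G) ^ j = (c : G) ^ j * ((c' : G) * ((c : G) ^ j)⁻¹) :=
        (mem_Zc.1 hj _ (N.zpow_mem c.2 j)).symm
      simp only [Subgroup.coe_zpow]
      rw [← hcomm]; group
  · refine ⟨⟨fun a b => ?_⟩⟩
    obtain ⟨k₁, hk₁e⟩ := QuotientGroup.mk_surjective (a : ↥N ⧸ Subgroup.center ↥N)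
    obtain ⟨k₂, hk₂e⟩ := QuotientGroup.mk_surjective (b : ↥N ⧸ Subgroup.center ↥N)
    have hk₁K : (k₁ : G) ∈ K := (hmem k₁).1 (by rw [hk₁e]; exact a.2)
    have hk₂K : (k₂ : G) ∈ K := (hmem k₂).1 (by rw [hk₂e]; exact b.2)
    apply Subtype.ext
    rw [Subgroup.coe_mul, Subgroup.coe_mul, ← hk₁e, ← hk₂e, ← QuotientGroup.mk_mul,
      ← QuotientGroup.mk_mul]
    congr 1
    apply Subtype.ext
    simp only [Subgroup.coe_mul]
    exact Ker.comm hc hK hk₁K hk₂K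
  · intro a ha
    obtain ⟨k, rfl⟩ := QuotientGroup.mk_surjective a
    have hkK : (k : G) ∈ K := (hmem k).1 ha
    rw [← QuotientGroup.mk_pow, mk_eq_one_iff]
    simpa using hexp _ hkK

/-- Main theorem: normal subgroups all of whose noncentral elements have maximal centralizers. -/
theorem main [Finite G] (N : Subgroup G) [N.Normal]
    (h : ∀ x : G, x ∈ N → x ∉ Subgroup.centralizer (N : Set G) →
      IsCoatom (Subgroup.centralizer ({x} : Set G))) :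
    (∃ p : ℕ, p.Prime ∧
      Cfsg.IsElementaryAbelian p (⊤ : Subgroup (↥N ⧸ Subgroup.center ↥N))) ∨
    (∃ (Q K : Subgroup (↥N ⧸ Subgroup.center ↥N)) (p : ℕ), p.Prime ∧
      Cfsg.IsFrobeniusComplement Q ∧ (Nat.card ↥Q).Prime ∧ K.Normal ∧
      (K : Set (↥N ⧸ Subgroup.center ↥N)) = Cfsg.frobeniusKernel Q ∧
      Cfsg.IsElementaryAbelian p K) := by
  have hmc : MC N := ⟨h⟩
  by_cases hex : ∃ x ∈ N, x ∉ Zc N ∧ TypeII N x
  · right
    obtain ⟨x, hxN, hxZ, hxII, hab⟩ := exists_abelian_typeII hmc hex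
    exact AbII.frob_case ⟨hmc, hxN, hxZ, hxII, hab⟩
  · left
    push Not at hex
    haveI := nilpotent_of_no_typeII hmc hex
    exact nilp_case hmc

end Cfsg.Agent.Lib.Helper22.MaxCentM
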