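import Mathlib

/-!
# Fixed points of an automorphism of `p`-power order on invariant `p`-subgroups
-/

set_option autoImplicit false
set_option linter.style.haveILetI false

namespace Cfsg.Agent.Lib.Helper22.MetaAut

variable {L : Type*} [Group L]

/-- the subgroup of fixed points of an automorphism -/
def maFix (a : MulAut L) : Subgroup L where
  carrier := {l | a l = l}
  mul_mem' := by
    intro x y hx hy
    show a (x * y) = x * y
    rw [map_mul, hx, hy]
  one_mem' := map_one a
  inv_mem' := by
    intro x hx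
    show a x⁻¹ = x⁻¹
    rw [map_inv, hx]

theorem mem_maFix (a : MulAut L) (l : L) : l ∈ maFix a ↔ a l = l := Iff.rfl

/-- the restriction of an automorphism to an invariant subgroup, as an endomorphism of the set -/
def maRes (S : Subgroup L) (a : MulAut L) (hS : ∀ s ∈ S, a s ∈ S) :
    Function.End S := fun s => ⟨a s, hS s s.2⟩

theorem maRes_pow (S : Subgroup L) (a : MulAut L) (hS : ∀ s ∈ S, a s ∈ S) (k : ℕ) :
    ∀ s : S, (((maRes S a hS) ^ k) s : L) = (a ^ k) s := by
  induction k with
  | zero => intro s; rfl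
  | succ k ih =>
    intro s
    rw [pow_succ', pow_succ']
    show a _ = _
    rw [ih s]
    rfl

/-- the number of fixed points on an invariant finite subgroup is congruent to its order -/
theorem ma_card_fix_modEq {p : ℕ} [Fact p.Prime] (S : Subgroup L) [Finite S] (a : MulAut L)
    (hS : ∀ s ∈ S, a s ∈ S) (ha : a ^ p = 1) :
    Nat.card S ≡ Nat.card ↥(maFix a ⊓ S) [MOD p] := by
  haveI : Fintype S := Fintype.ofFinite S
  have hf : (maRes S a hS) ^ p ^ 1 = 1 := by
    funext s
    apply Subtype.ext
    rw [pow_one, maRes_pow, ha]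
    rfl
  have h1 := @Equiv.Perm.card_fixedPoints_modEq S _ (Classical.decEq S) (maRes S a hS) p 1 _ hf
  rw [Fintype.card_eq_nat_card, Fintype.card_eq_nat_card] at h1
  have h2 : Nat.card ↥(Function.fixedPoints (maRes S a hS)) = Nat.card ↥(maFix a ⊓ S) := by
    apply Nat.card_congr
    refine ⟨fun s => ⟨(s.1 : L), ?_, s.1.2⟩, fun l => ⟨⟨(l : L), l.2.2⟩, ?_⟩, ?_, ?_⟩
    · exact congrArg Subtype.val (show maRes S a hS s.1 = s.1 from s.2)
    · show maRes S a hS _ = _
      apply Subtype.ext
      exact l.2.1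
    · intro s; rfl
    · intro l; rfl
  rw [h2] at h1
  exact h1

/-- an automorphism of order `p` fixes a subgroup of order divisible by `p` in every invariant subgroup of order
divisible by `p` -/
theorem ma_fix_dvd {p : ℕ} [Fact p.Prime] (S : Subgroup L) [Finite S] (a : MulAut L)
    (hS : ∀ s ∈ S, a s ∈ S) (ha : a ^ p = 1) (hcard : p ∣ Nat.card S) :
    p ∣ Nat.card ↥(maFix a ⊓ S) := by
  have h1 := ma_card_fix_modEq S a hS ha
  exact (Nat.modEq_zero_iff_dvd).mp (h1.symm.trans ((Nat.modEq_zero_iff_dvd).mpr hcard))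

/-- an invariant subgroup of order `p` is fixed elementwise -/
theorem ma_fix_of_card_prime {p : ℕ} [Fact p.Prime] (S : Subgroup L) (a : MulAut L)
    (hS : ∀ s ∈ S, a s ∈ S) (ha : a ^ p = 1) (hcard : Nat.card S = p) : ∀ s ∈ S, a s = s := by
  have hp := (Fact.out : p.Prime)
  haveI : Finite S := Nat.finite_of_card_ne_zero (by rw [hcard]; exact hp.ne_zero)
  have h1 := ma_fix_dvd S a hS ha (by rw [hcard])
  haveI : Finite ↥(maFix a ⊓ S) :=
    Finite.of_injective _ (Subgroup.inclusion_injective (inf_le_right : maFix a ⊓ S ≤ S))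
  have h2 : maFix a ⊓ S = S := by
    apply Subgroup.eq_of_le_of_card_ge inf_le_right
    rw [hcard]
    exact Nat.le_of_dvd Nat.card_pos h1
  intro s hs
  rw [← h2] at hs
  exact hs.1

end Cfsg.Agent.Lib.Helper22.MetaAut
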