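import Mathlib
import Cfsg.Agent.Lib.Helper22.MetaAutFix

/-!
# An automorphism of order `p` of a group with a nice `Ω₁`, `Ω₂` : the computation
-/

set_option autoImplicit false
set_option linter.style.haveILetI false
set_option linter.unusedVariables false

namespace Cfsg.Agent.Lib.Helper22.MetaAut

variable {L : Type*} [Group L]

/-- Lemma A : on an invariant abelian subgroup of order `p²`, the "derivation" `w ↦ w⁻¹ a(w)` of an automorphism of
order `p` has fixed values -/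
theorem ma_lemmaA {p : ℕ} [Fact p.Prime] (W : Subgroup L) (hWcard : Nat.card W = p ^ 2)
    (hWab : ∀ x ∈ W, ∀ y ∈ W, x * y = y * x) (a : MulAut L) (hW : ∀ w ∈ W, a w ∈ W)
    (ha : a ^ p = 1) : ∀ w ∈ W, a (w⁻¹ * a w) = w⁻¹ * a w := by
  have hp := (Fact.out : p.Prime)
  haveI : Finite W := Nat.finite_of_card_ne_zero (by rw [hWcard]; exact pow_ne_zero _ hp.ne_zero)
  haveI : Finite ↥(maFix a ⊓ W) :=
    Finite.of_injective _ (Subgroup.inclusion_injective (inf_le_right : maFix a ⊓ W ≤ W))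
  have h1 : p ∣ Nat.card ↥(maFix a ⊓ W) :=
    ma_fix_dvd W a hW ha (by rw [hWcard]; exact dvd_pow_self p (by norm_num))
  have h2 : Nat.card ↥(maFix a ⊓ W) ∣ p ^ 2 := by
    rw [← hWcard]
    exact Subgroup.card_dvd_of_le inf_le_right
  obtain ⟨j, hj2, hj⟩ := (Nat.dvd_prime_pow hp).mp h2
  have hj1 : j ≠ 0 := by
    rintro rfl
    rw [pow_zero] at hj
    rw [hj] at h1
    exact hp.one_lt.ne' (Nat.dvd_one.mp h1)
  -- the derivation
  let D : ↥W →* ↥W :=
    { toFun := fun w => ⟨(w : L)⁻¹ * a w, W.mul_mem (W.inv_mem w.2) (hW w w.2)⟩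
      map_one' := by
        apply Subtype.ext
        show ((1 : W) : L)⁻¹ * a ((1 : W) : L) = ((1 : W) : L)
        rw [Subgroup.coe_one, map_one, inv_one, one_mul]
      map_mul' := by
        intro x y
        apply Subtype.ext
        show ((x * y : W) : L)⁻¹ * a ((x * y : W) : L) = ((x : L)⁻¹ * a x) * ((y : L)⁻¹ * a y)
        rw [Subgroup.coe_mul, map_mul, mul_inv_rev]
        have hc : (x : L)⁻¹ * (a x * a y) = (a x * a y) * (x : L)⁻¹ :=
          hWab _ (W.inv_mem x.2) _ (W.mul_mem (hW x x.2) (hW y y.2))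
        have hc2 : (y : L)⁻¹ * a x = a x * (y : L)⁻¹ := hWab _ (W.inv_mem y.2) _ (hW x x.2)
        calc (y : L)⁻¹ * (x : L)⁻¹ * (a x * a y) = (y : L)⁻¹ * ((x : L)⁻¹ * (a x * a y)) := by
              rw [mul_assoc]
          _ = (y : L)⁻¹ * ((a x * a y) * (x : L)⁻¹) := by rw [hc]
          _ = ((y : L)⁻¹ * a x) * a y * (x : L)⁻¹ := by simp only [mul_assoc]
          _ = (a x * (y : L)⁻¹) * a y * (x : L)⁻¹ := by rw [hc2]
          _ = a x * ((y : L)⁻¹ * a y) * (x : L)⁻¹ := by simp only [mul_assoc]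
          _ = (x : L)⁻¹ * (a x * ((y : L)⁻¹ * a y)) := by
              rw [hWab _ (W.inv_mem x.2) _
                (W.mul_mem (hW x x.2) (W.mul_mem (W.inv_mem y.2) (hW y y.2)))]
          _ = (x : L)⁻¹ * a x * ((y : L)⁻¹ * a y) := by simp only [mul_assoc] }
  have hDapp : ∀ w : W, ((D w : W) : L) = (w : L)⁻¹ * a w := fun w => rfl
  have hker : D.ker = (maFix a ⊓ W).subgroupOf W := by
    ext w
    rw [MonoidHom.mem_ker, Subgroup.mem_subgroupOf, Subgroup.mem_inf, mem_maFix]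
    constructor
    · intro h
      have h3 : (w : L)⁻¹ * a w = 1 := by
        rw [← hDapp, h]
        rfl
      refine ⟨?_, w.2⟩
      rw [inv_mul_eq_one] at h3
      exact h3.symm
    · rintro ⟨h, -⟩
      apply Subtype.ext
      rw [hDapp, h, inv_mul_cancel]
      rfl
  have hkercard : Nat.card D.ker = p ^ j := by
    rw [hker, ← hj]
    exact Nat.card_congr (Subgroup.subgroupOfEquivOfLe (inf_le_right : maFix a ⊓ W ≤ W)).toEquiv
  have hrange : Nat.card D.ker * Nat.card D.range = p ^ 2 := by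
    rw [← Subgroup.index_ker, Subgroup.card_mul_index, hWcard]
  intro w hw
  -- the image of `D`, as a subgroup of `L`
  set S : Subgroup L := D.range.map W.subtype with hS
  have hScard : Nat.card S = Nat.card D.range := by
    rw [hS]
    exact Nat.card_congr (D.range.equivMapOfInjective W.subtype W.subtype_injective).symm.toEquiv
  have hSmem : ∀ s, s ∈ S ↔ ∃ w' ∈ W, s = w'⁻¹ * a w' := by
    intro s
    rw [hS, Subgroup.mem_map]
    constructor
    · rintro ⟨x, ⟨y, rfl⟩, rfl⟩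
      exact ⟨y, y.2, rfl⟩
    · rintro ⟨w', hw', rfl⟩
      exact ⟨D ⟨w', hw'⟩, ⟨⟨w', hw'⟩, rfl⟩, rfl⟩
  have hSinv : ∀ s ∈ S, a s ∈ S := by
    intro s hs
    obtain ⟨w', hw', rfl⟩ := (hSmem s).mp hs
    rw [hSmem]
    refine ⟨a w', hW w' hw', ?_⟩
    rw [map_mul, map_inv]
  have hwS : w⁻¹ * a w ∈ S := (hSmem _).mpr ⟨w, hw, rfl⟩
  rcases Nat.lt_or_ge j 2 with hjlt | hjge
  · -- `|ker D| = p`, `|im D| = p`
    have hj' : j = 1 := by omega
    rw [hkercard, hj', pow_one, sq] at hrange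
    have hr : Nat.card D.range = p := Nat.eq_of_mul_eq_mul_left hp.pos hrange
    exact ma_fix_of_card_prime S a hSinv ha (by rw [hScard, hr]) _ hwS
  · -- everything is fixed
    have hj' : j = 2 := by omega
    have hall : maFix a ⊓ W = W := by
      apply Subgroup.eq_of_le_of_card_ge inf_le_right
      rw [hj, hj', hWcard]
    have hfix : a w = w := by
      rw [← hall] at hw
      exact hw.1
    rw [hfix, inv_mul_cancel, map_one]

/-- the interface : `W = Ω₁(L)` of order `p²`, `M = Ω₂(L)` of order `p⁴`, the `p`-th power map is a homomorphism of `M`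
onto `W`, and `W` is central in `M` -/
structure IsOm2 (p : ℕ) (W M : Subgroup L) : Prop where
  memW : ∀ g, g ∈ W ↔ g ^ p = 1
  cardW : Nat.card W = p ^ 2
  memM : ∀ g, g ∈ M ↔ g ^ (p ^ 2) = 1
  cardM : Nat.card M = p ^ 4
  powmul : ∀ u ∈ M, ∀ v ∈ M, (u * v) ^ p = u ^ p * v ^ p
  cen : ∀ w ∈ W, ∀ u ∈ M, w * u = u * w
  surj : ∀ w ∈ W, ∃ u ∈ M, u ^ p = w

namespace IsOm2

variable {p : ℕ} {W M : Subgroup L}

theorem le (h : IsOm2 p W M) : W ≤ M := by
  intro g hg
  rw [h.memM, sq, pow_mul, (h.memW g).mp hg, one_pow]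

theorem ab (h : IsOm2 p W M) : ∀ x ∈ W, ∀ y ∈ W, x * y = y * x :=
  fun x hx y hy => h.cen x hx y (h.le hy)

theorem autW (h : IsOm2 p W M) (a : MulAut L) : ∀ w ∈ W, a w ∈ W := by
  intro w hw
  rw [h.memW, ← map_pow, (h.memW w).mp hw, map_one]

theorem autM (h : IsOm2 p W M) (a : MulAut L) : ∀ u ∈ M, a u ∈ M := by
  intro u hu
  rw [h.memM, ← map_pow, (h.memM u).mp hu, map_one]

theorem pow_mem (h : IsOm2 p W M) : ∀ u ∈ M, u ^ p ∈ W := by
  intro u hu
  rw [h.memW, ← pow_mul, ← sq]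
  exact (h.memM u).mp hu

end IsOm2

/-- the iterates of `a` on `u` -/
theorem ma_iterate {p : ℕ} {W M : Subgroup L} (h : IsOm2 p W M) (a : MulAut L) (u v w₂ w₃ : L)
    (hu : u ∈ M) (hv : v ∈ M) (hw₂ : w₂ ∈ W) (hw₃ : w₃ ∈ W) (hau : a u = u * v) (hav : a v = v * w₂)
    (haw₂ : a w₂ = w₂ * w₃) (haw₃ : a w₃ = w₃) (k : ℕ) :
    (a ^ k) u = u * v ^ k * w₂ ^ (k.choose 2) * w₃ ^ (k.choose 3) := by
  induction k with
  | zero => simp
  | succ k ih =>
    rw [pow_succ', MulAut.mul_apply, ih, map_mul, map_mul, map_mul, map_pow, map_pow, map_pow, hau,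
      hav, haw₂, haw₃]
    have hc1 : Commute v w₂ := (h.cen w₂ hw₂ v hv).symm
    have hc2 : Commute w₂ w₃ := h.ab w₂ hw₂ w₃ hw₃
    rw [hc1.mul_pow, hc2.mul_pow]
    have e2 : (k + 1).choose 2 = k + k.choose 2 := by
      rw [Nat.choose_succ_succ' k 1, Nat.choose_one_right]
    have e3 : (k + 1).choose 3 = k.choose 2 + k.choose 3 := Nat.choose_succ_succ' k 2
    rw [e2, e3, pow_succ' v k, pow_add, pow_add]
    simp only [mul_assoc]

/-- the forward direction : an automorphism of order `p` moving an element of `W` forces `p = 3` and has exactly `p`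
fixed points -/
theorem ma_forward [Finite L] {p : ℕ} [Fact p.Prime] (hp2 : p ≠ 2) (hL : IsPGroup p L)
    {W M : Subgroup L} (h : IsOm2 p W M) (a : MulAut L) (ha : a ^ p = 1) (x : L) (hx : x ∈ W)
    (hax : a x ≠ x) : p = 3 ∧ Nat.card (maFix a) = p := by
  have hp := (Fact.out : p.Prime)
  have lemA := ma_lemmaA W h.cardW h.ab a (h.autW a) ha
  obtain ⟨u, huM, hux⟩ := h.surj x hx
  set v := u⁻¹ * a u with hv
  have hvM : v ∈ M := M.mul_mem (M.inv_mem huM) (h.autM a u huM)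
  set d := x⁻¹ * a x with hd
  have hdW : d ∈ W := W.mul_mem (W.inv_mem hx) (h.autW a x hx)
  have had : a d = d := lemA x hx
  have hd1 : d ≠ 1 := by
    intro h1
    rw [hd, inv_mul_eq_one] at h1
    exact hax h1.symm
  have hdp : d ^ p = 1 := (h.memW d).mp hdW
  have hvp : v ^ p = d := by
    rw [hv, h.powmul _ (M.inv_mem huM) _ (h.autM a u huM), inv_pow, ← map_pow, hux]
  set w₂ := v⁻¹ * a v with hw₂
  have hw₂W : w₂ ∈ W := by
    rw [h.memW, hw₂, h.powmul _ (M.inv_mem hvM) _ (h.autM a v hvM), inv_pow, ← map_pow, hvp, had,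
      inv_mul_cancel]
  set w₃ := w₂⁻¹ * a w₂ with hw₃
  have hw₃W : w₃ ∈ W := W.mul_mem (W.inv_mem hw₂W) (h.autW a w₂ hw₂W)
  have haw₃ : a w₃ = w₃ := lemA w₂ hw₂W
  have hau : a u = u * v := by rw [hv, mul_inv_cancel_left]
  have hav : a v = v * w₂ := by rw [hw₂, mul_inv_cancel_left]
  have haw₂ : a w₂ = w₂ * w₃ := by rw [hw₃, mul_inv_cancel_left]
  have hw₂p : w₂ ^ p = 1 := (h.memW w₂).mp hw₂W
  have hw₃p : w₃ ^ p = 1 := (h.memW w₃).mp hw₃W
  have hit := ma_iterate h a u v w₂ w₃ huM hvM hw₂W hw₃W hau hav haw₂ haw₃ p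
  rw [ha, MulAut.one_apply, hvp] at hit
  have h2lt : 2 < p := lt_of_le_of_ne hp.two_le (Ne.symm hp2)
  have hc2 : w₂ ^ (p.choose 2) = 1 := by
    obtain ⟨c, hc⟩ := hp.dvd_choose_self (by norm_num : (2 : ℕ) ≠ 0) h2lt
    rw [hc, pow_mul, hw₂p, one_pow]
  rw [hc2, mul_one] at hit
  have hkey : d * w₃ ^ (p.choose 3) = 1 := by
    have : u * (d * w₃ ^ (p.choose 3)) = u * 1 := by
      rw [mul_one, ← mul_assoc]
      exact hit.symm
    exact mul_left_cancel this
  have hp3 : p = 3 := by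
    by_contra hne
    have h3lt : 3 < p := lt_of_le_of_ne (by omega) (Ne.symm hne)
    obtain ⟨c, hc⟩ := hp.dvd_choose_self (by norm_num : (3 : ℕ) ≠ 0) h3lt
    rw [hc, pow_mul, hw₃p, one_pow, mul_one] at hkey
    exact hd1 hkey
  refine ⟨hp3, ?_⟩
  have hc3 : p.choose 3 = 1 := by rw [hp3]; rfl
  rw [hc3, pow_one] at hkey
  have hw₃1 : w₃ ≠ 1 := by
    intro h1
    rw [h1, mul_one] at hkey
    exact hd1 hkey
  have how₃ : orderOf w₃ = p := orderOf_eq_prime hw₃p hw₃1
  -- the fixed points in `W`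
  haveI : Finite W := Nat.finite_of_card_ne_zero (by rw [h.cardW]; exact pow_ne_zero _ hp.ne_zero)
  haveI : Finite ↥(maFix a ⊓ W) :=
    Finite.of_injective _ (Subgroup.inclusion_injective (inf_le_right : maFix a ⊓ W ≤ W))
  have hF1 : p ∣ Nat.card ↥(maFix a ⊓ W) :=
    ma_fix_dvd W a (h.autW a) ha (by rw [h.cardW]; exact dvd_pow_self p (by norm_num))
  have hF2 : Nat.card ↥(maFix a ⊓ W) ∣ p ^ 2 := by
    rw [← h.cardW]
    exact Subgroup.card_dvd_of_le inf_le_right
  have hFcard : Nat.card ↥(maFix a ⊓ W) = p := by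
    obtain ⟨j, hj2, hj⟩ := (Nat.dvd_prime_pow hp).mp hF2
    have hj0 : j ≠ 0 := by
      rintro rfl
      rw [pow_zero] at hj
      rw [hj] at hF1
      exact hp.one_lt.ne' (Nat.dvd_one.mp hF1)
    have hj2' : j ≠ 2 := by
      rintro rfl
      have hall : maFix a ⊓ W = W := by
        apply Subgroup.eq_of_le_of_card_ge inf_le_right
        rw [hj, h.cardW]
      rw [← hall] at hx
      exact hax hx.1
    have hj1 : j = 1 := by omega
    rw [hj, hj1, pow_one]
  have hFd : Subgroup.zpowers d = maFix a ⊓ W := by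
    apply Subgroup.eq_of_le_of_card_ge
    · rw [Subgroup.zpowers_le]
      exact ⟨had, hdW⟩
    · rw [hFcard, Nat.card_zpowers, orderOf_eq_prime hdp hd1]
  -- fixed points in `M` lie in `W`
  have hMfix : ∀ l ∈ M, a l = l → l ∈ W := by
    intro l hlM hal
    have hlp : l ^ p ∈ maFix a ⊓ W := by
      refine ⟨?_, h.pow_mem l hlM⟩
      show a (l ^ p) = l ^ p
      rw [map_pow, hal]
    rw [← hFd, Subgroup.mem_zpowers_iff] at hlp
    obtain ⟨i, hi⟩ := hlp
    set w := l * v ^ (-i) with hw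
    have hvzM : v ^ (-i) ∈ M := M.zpow_mem hvM _
    have hwM : w ∈ M := M.mul_mem hlM hvzM
    have hwW : w ∈ W := by
      rw [h.memW, hw, h.powmul _ hlM _ hvzM, ← hi, ← zpow_natCast (v ^ (-i)) p, ← zpow_mul,
        mul_comm, zpow_mul, zpow_natCast, hvp, ← zpow_add, add_neg_cancel, zpow_zero]
    have hl : l = w * v ^ i := by
      rw [hw, mul_assoc, ← zpow_add, neg_add_cancel, zpow_zero, mul_one]
    have hc1 : Commute v w₂ := (h.cen w₂ hw₂W v hvM).symm
    have hal' : a l = a w * w₂ ^ i * v ^ i := by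
      rw [hl, map_mul, map_zpow, hav, hc1.mul_zpow, mul_assoc]
      congr 1
      have hw₂iW : w₂ ^ i ∈ W := W.zpow_mem hw₂W _
      exact (h.cen _ hw₂iW _ (M.zpow_mem hvM i)).symm
    rw [hal] at hal'
    have h3 : w = a w * w₂ ^ i := by
      have : w * v ^ i = (a w * w₂ ^ i) * v ^ i := by rw [← hl]; exact hal'
      exact mul_right_cancel this
    have h4 : w₂ ^ i = (w⁻¹ * a w)⁻¹ := by
      rw [mul_inv_rev, inv_inv]
      rw [eq_comm, inv_mul_eq_iff_eq_mul]
      exact h3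
    have h5 : a (w₂ ^ i) = w₂ ^ i := by
      rw [h4, map_inv, lemA w hwW]
    have hc23 : Commute w₂ w₃ := h.ab w₂ hw₂W w₃ hw₃W
    rw [map_zpow, haw₂, hc23.mul_zpow] at h5
    have h6 : w₃ ^ i = 1 := by
      have : w₂ ^ i * w₃ ^ i = w₂ ^ i * 1 := by rw [mul_one]; exact h5
      exact mul_left_cancel this
    have h7 : (p : ℤ) ∣ i := by
      rw [← how₃]
      exact orderOf_dvd_iff_zpow_eq_one.mpr h6
    obtain ⟨i', rfl⟩ := h7
    rw [hl]
    apply W.mul_mem hwW
    rw [zpow_mul, zpow_natCast, hvp]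
    exact W.zpow_mem hdW _
  -- all fixed points lie in `W`
  have hfixW : ∀ n : ℕ, ∀ l : L, a l = l → l ^ (p ^ n) = 1 → l ∈ W := by
    intro n
    induction n with
    | zero =>
      intro l _ hl
      rw [pow_zero, pow_one] at hl
      rw [hl]
      exact W.one_mem
    | succ n ih =>
      intro l hal hl
      have h1 : l ^ p ∈ W := by
        apply ih (l ^ p)
        · rw [map_pow, hal]
        · rw [← pow_mul, ← pow_succ']
          exact hl
      apply hMfix l _ hal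
      rw [h.memM, sq, pow_mul]
      exact (h.memW _).mp h1
  have hle : maFix a ≤ W := by
    intro l hl
    obtain ⟨n, hn⟩ := hL l
    exact hfixW n l hl hn
  have : maFix a ⊓ W = maFix a := inf_eq_left.mpr hle
  rw [← this]
  exact hFcard

end Cfsg.Agent.Lib.Helper22.MetaAut
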