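import Mathlib
import Cfsg.Prelude.Def_OddOrderLocal
import Cfsg.Agent.Lib.Helper20.Metacyclic2
import Cfsg.Agent.Lib.Helper20.Metacyclic6
import Cfsg.Agent.Lib.helper6.BLKR0
import Cfsg.Agent.Lib.Helper11.ClassTwoPow
import Cfsg.Agent.Lib.Helper1.Nilp
import Cfsg.Agent.Lib.Helper22.MetaAutB

/-!
# `Ω₁` and `Ω₂` of a metacyclic `p`-group, `p` odd, without cyclic subgroups of index `p`
-/

set_option autoImplicit false
set_option linter.style.haveILetI false
set_option linter.unusedVariables false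

namespace Cfsg.Agent.Lib.Helper22.MetaAut

open scoped commutatorElement

variable {L : Type*} [Group L]

/-- quotients of metacyclic groups are metacyclic -/
theorem ma_quot_metacyclic (hm : Cfsg.IsMetacyclic L) (K : Subgroup L) [K.Normal] :
    Cfsg.IsMetacyclic (L ⧸ K) := by
  obtain ⟨N, hNn, hNc, hQc⟩ := hm
  haveI := hNn
  haveI := hNc
  haveI := hQc
  have hsurj : Function.Surjective (QuotientGroup.mk' K) := QuotientGroup.mk'_surjective K
  haveI hn : (N.map (QuotientGroup.mk' K)).Normal := Subgroup.Normal.map hNn _ hsurj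
  refine ⟨N.map (QuotientGroup.mk' K), hn, ?_, ?_⟩
  · exact isCyclic_of_surjective ((QuotientGroup.mk' K).subgroupMap N)
      ((QuotientGroup.mk' K).subgroupMap_surjective N)
  · have hle : N ≤ (N.map (QuotientGroup.mk' K)).comap (QuotientGroup.mk' K) :=
      Subgroup.le_comap_map _ _
    refine isCyclic_of_surjective
      (QuotientGroup.map N (N.map (QuotientGroup.mk' K)) (QuotientGroup.mk' K) hle) ?_
    intro q
    induction q using QuotientGroup.induction_on with
    | H y =>
      obtain ⟨l, rfl⟩ := hsurj y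
      exact ⟨(l : L ⧸ N), rfl⟩

/-- a nontrivial `p`-group without cyclic subgroups of index `p` is not cyclic -/
theorem ma_not_cyclic [Finite L] {p : ℕ} [Fact p.Prime] (hL : IsPGroup p L) [Nontrivial L]
    (hnc : ∀ C : Subgroup L, IsCyclic C → C.index ≠ p) : ¬ IsCyclic L := by
  intro hc
  have hp := (Fact.out : p.Prime)
  obtain ⟨m, hm⟩ := hL.exists_card_eq
  have hm0 : m ≠ 0 := by
    rintro rfl
    rw [pow_zero] at hm
    have := Finite.one_lt_card (α := L)
    omega
  obtain ⟨m', rfl⟩ := Nat.exists_eq_succ_of_ne_zero hm0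
  obtain ⟨K, hK⟩ := Sylow.exists_subgroup_card_pow_prime p
    (show p ^ m' ∣ Nat.card L by rw [hm]; exact pow_dvd_pow p (Nat.le_succ m'))
  have hidx : K.index = p := by
    have h1 := K.card_mul_index
    rw [hK, hm, pow_succ] at h1
    exact Nat.eq_of_mul_eq_mul_left (pow_pos hp.pos m') h1
  exact hnc K (Subgroup.isCyclic K) hidx

/-- the quotient by `Ω₁` is not cyclic -/
theorem ma_quot_not_cyclic [Finite L] {p : ℕ} [Fact p.Prime] (hL : IsPGroup p L) [Nontrivial L]
    (hnc : ∀ C : Subgroup L, IsCyclic C → C.index ≠ p) (W : Subgroup L) [W.Normal]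
    (hW : ∀ g : L, g ∈ W ↔ g ^ p = 1) (hWcard : Nat.card W = p ^ 2) : ¬ IsCyclic (L ⧸ W) := by
  intro hc
  have hp := (Fact.out : p.Prime)
  have hLnc := ma_not_cyclic hL hnc
  obtain ⟨q, hq⟩ := hc.exists_generator
  obtain ⟨g, rfl⟩ := QuotientGroup.mk_surjective q
  obtain ⟨m, hm⟩ := hL.exists_card_eq
  have hQcard : Nat.card (L ⧸ W) * p ^ 2 = p ^ m := by
    rw [← hWcard, ← Subgroup.card_eq_card_quotient_mul_card_subgroup, hm]
  have hoq : orderOf (g : L ⧸ W) = Nat.card (L ⧸ W) := orderOf_eq_card_of_forall_mem_zpowers hq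
  -- the order of `g`
  obtain ⟨k, hk⟩ : ∃ k, orderOf g = p ^ k := by
    obtain ⟨n, hn⟩ := hL g
    obtain ⟨k, -, hk⟩ := (Nat.dvd_prime_pow hp).mp (orderOf_dvd_of_pow_eq_one hn)
    exact ⟨k, hk⟩
  have hC : Nat.card (Subgroup.zpowers g) = p ^ k := by rw [Nat.card_zpowers, hk]
  have hkm : k ≤ m := by
    have h1 : p ^ k ∣ p ^ m := by
      rw [← hm, ← hk]
      exact orderOf_dvd_natCard g
    exact (Nat.pow_dvd_pow_iff_le_right hp.one_lt).mp h1
  have hidx : (Subgroup.zpowers g).index = p ^ (m - k) := by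
    have h1 := (Subgroup.zpowers g).card_mul_index
    rw [hC, hm] at h1
    have h2 : p ^ m = p ^ k * p ^ (m - k) := by rw [← pow_add]; congr 1; omega
    rw [h2] at h1
    exact Nat.eq_of_mul_eq_mul_left (pow_pos hp.pos k) h1
  -- `m - 1 ≤ k`
  have hk1 : m ≤ k + 1 := by
    rcases Nat.eq_zero_or_pos k with hk0 | hkpos
    · -- `g = 1`
      rw [hk0, pow_zero, orderOf_eq_one_iff] at hk
      rw [hk, QuotientGroup.mk_one, orderOf_one] at hoq
      rw [← hoq, one_mul] at hQcard
      have hm2 : m = 2 := (Nat.pow_right_injective hp.two_le hQcard).symm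
      -- then `L = W` has a cyclic subgroup of index `p`
      exfalso
      obtain ⟨z, hz⟩ := exists_ne (1 : L)
      have hzW : z ∈ W := by
        have htop : W = ⊤ := by
          apply Subgroup.eq_top_of_card_eq
          rw [hWcard, hm, hm2]
        rw [htop]
        exact Subgroup.mem_top z
      have hoz : orderOf z = p := orderOf_eq_prime ((hW z).mp hzW) hz
      have h1 := (Subgroup.zpowers z).card_mul_index
      rw [Nat.card_zpowers, hoz, hm, hm2, sq] at h1
      exact hnc (Subgroup.zpowers z) inferInstance (Nat.eq_of_mul_eq_mul_left hp.pos h1)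
    · -- `g ^ (p ^ (k - 1))` has order `p`, hence lies in `W`
      have h1 : (g ^ (p ^ (k - 1))) ^ p = 1 := by
        rw [← pow_mul, ← pow_succ, Nat.sub_add_cancel hkpos, ← hk]
        exact pow_orderOf_eq_one g
      have h2 : ((g : L ⧸ W)) ^ (p ^ (k - 1)) = 1 := by
        rw [← QuotientGroup.mk_pow, QuotientGroup.eq_one_iff, hW]
        exact h1
      have h3 : orderOf (g : L ⧸ W) ∣ p ^ (k - 1) := orderOf_dvd_of_pow_eq_one h2
      rw [hoq] at h3
      have h4 : p ^ m ∣ p ^ (k - 1) * p ^ 2 := by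
        rw [← hQcard]
        exact Nat.mul_dvd_mul_right h3 _
      rw [← pow_add] at h4
      have := (Nat.pow_dvd_pow_iff_le_right hp.one_lt).mp h4
      omega
  rcases Nat.lt_or_ge k m with hlt | hge
  · have : m - k = 1 := by omega
    rw [this, pow_one] at hidx
    exact hnc (Subgroup.zpowers g) inferInstance hidx
  · have : m - k = 0 := by omega
    rw [this, pow_zero, Subgroup.index_eq_one] at hidx
    exact hLnc (isCyclic_iff_exists_zpowers_eq_top.mpr ⟨g, hidx⟩)

/-- the structure of `Ω₁` and `Ω₂` -/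
theorem ma_exists_om2 [Finite L] {p : ℕ} [Fact p.Prime] (hp2 : p ≠ 2) (hL : IsPGroup p L)
    [Nontrivial L] (hmc : Cfsg.IsMetacyclic L)
    (hnc : ∀ C : Subgroup L, IsCyclic C → C.index ≠ p) : ∃ W M : Subgroup L, IsOm2 p W M := by
  have hp := (Fact.out : p.Prime)
  haveI hnil : Group.IsNilpotent L := hL.isNilpotent
  have hLnc := ma_not_cyclic hL hnc
  obtain ⟨D⟩ := Cfsg.Agent.Lib.Helper20.exists_MC hL hmc
  obtain ⟨W, hW, hWcard⟩ := D.exists_omega hp2 hL hLnc
  haveI hWn : W.Normal := by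
    refine ⟨fun w hw g => ?_⟩
    rw [hW] at hw ⊢
    rw [conj_pow, hw, mul_one, mul_inv_cancel]
  have hQp : IsPGroup p (L ⧸ W) := hL.to_quotient W
  have hQm := ma_quot_metacyclic hmc W
  have hQnc := ma_quot_not_cyclic hL hnc W hW hWcard
  obtain ⟨DQ⟩ := Cfsg.Agent.Lib.Helper20.exists_MC hQp hQm
  obtain ⟨V, hV, hVcard⟩ := DQ.exists_omega hp2 hQp hQnc
  set M : Subgroup L := V.comap (QuotientGroup.mk' W) with hM
  have hMmem : ∀ g : L, g ∈ M ↔ g ^ (p ^ 2) = 1 := by
    intro g
    rw [hM, Subgroup.mem_comap, hV, QuotientGroup.mk'_apply, ← QuotientGroup.mk_pow,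
      QuotientGroup.eq_one_iff, hW, ← pow_mul, sq]
  have hWM : W ≤ M := by
    intro g hg
    rw [hMmem, sq, pow_mul, (hW g).mp hg, one_pow]
  have hMcard : Nat.card M = p ^ 4 := by
    have h1 : M.index = V.index :=
      Subgroup.index_comap_of_surjective V (QuotientGroup.mk'_surjective W)
    have h2 := M.card_mul_index
    have h3 := V.card_mul_index
    have h4 := Subgroup.card_eq_card_quotient_mul_card_subgroup W
    rw [h1] at h2
    rw [hVcard] at h3
    rw [hWcard, ← h3] at h4
    rw [h4] at h2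
    have hpos : 0 < V.index := Nat.pos_of_ne_zero Subgroup.index_ne_zero_of_finite
    have h5 : Nat.card M * V.index = p ^ 4 * V.index := by rw [h2]; ring
    exact Nat.eq_of_mul_eq_mul_right hpos h5
  -- commutators of `M` lie in `W ⊓ L'`, which is central of order at most `p`
  have hVab : ∀ a b : V, a * b = b * a := fun a b =>
    (IsPGroup.isMulCommutative_of_card_eq_prime_sq (p := p) hVcard).is_comm.comm a b
  have hcommW : ∀ u ∈ M, ∀ v ∈ M, ⁅u, v⁆ ∈ W := by
    intro u hu v hv
    rw [← QuotientGroup.eq_one_iff, ← QuotientGroup.mk'_apply, map_commutatorElement,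
      commutatorElement_eq_one_iff_mul_comm]
    have := hVab ⟨_, hu⟩ ⟨_, hv⟩
    exact congrArg Subtype.val this
  set K : Subgroup L := W ⊓ commutator L with hK
  haveI hKn : K.Normal := Subgroup.normal_inf_normal W (commutator L)
  haveI hLc : IsCyclic (commutator L) :=
    Cfsg.Agent.Lib.Helper18.BLK.cyclic_commutator_of_metacyclic hmc
  haveI hKc : IsCyclic K := Subgroup.isCyclic_of_le (inf_le_right : K ≤ commutator L)
  have hKcard : Nat.card K ∣ p := by
    obtain ⟨k₀, hk₀⟩ := hKc.exists_generator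
    rw [← orderOf_eq_card_of_forall_mem_zpowers hk₀, ← Subgroup.orderOf_coe]
    apply orderOf_dvd_of_pow_eq_one
    exact (hW _).mp k₀.2.1
  have hKcen : K ≤ Subgroup.center L := by
    by_cases hbot : K = ⊥
    · rw [hbot]; exact bot_le
    · have h1 := Cfsg.Agent.Lib.Helper1.normal_inf_center_ne_bot K hbot
      have hK1 : Nat.card K ≠ 1 := fun h => hbot (Subgroup.card_eq_one.mp h)
      have hKp : Nat.card K = p := by
        rcases (Nat.dvd_prime hp).mp hKcard with h | h
        · exact absurd h hK1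
        · exact h
      have h2 : Nat.card ↥(K ⊓ Subgroup.center L) ∣ p := by
        rw [← hKp]
        exact Subgroup.card_dvd_of_le inf_le_left
      have h3 : Nat.card ↥(K ⊓ Subgroup.center L) = p := by
        rcases (Nat.dvd_prime hp).mp h2 with h | h
        · exact absurd (Subgroup.card_eq_one.mp h) h1
        · exact h
      have h4 : K ⊓ Subgroup.center L = K :=
        Subgroup.eq_of_le_of_card_ge inf_le_left (by rw [h3, hKp])
      rw [← h4]
      exact inf_le_right
  have hcomm : ∀ u ∈ M, ∀ v ∈ M, ⁅u, v⁆ ∈ Subgroup.center L ∧ ⁅u, v⁆ ^ p = 1 := by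
    intro u hu v hv
    have h1 : ⁅u, v⁆ ∈ K :=
      ⟨hcommW u hu v hv, Subgroup.commutator_mem_commutator (Subgroup.mem_top u) (Subgroup.mem_top v)⟩
    exact ⟨hKcen h1, (hW _).mp h1.1⟩
  have h2lt : 2 < p := lt_of_le_of_ne hp.two_le (Ne.symm hp2)
  have hpowmul : ∀ u ∈ M, ∀ v ∈ M, (u * v) ^ p = u ^ p * v ^ p := by
    intro u hu v hv
    obtain ⟨hz, hzp⟩ := hcomm v hv u hu
    rw [Subgroup.mem_center_iff] at hz
    rw [Cfsg.Agent.Lib.Helper11.mul_pow_class_two u v (hz u).symm (hz v).symm p]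
    obtain ⟨c, hc⟩ := hp.dvd_choose_self (by norm_num : (2 : ℕ) ≠ 0) h2lt
    rw [hc, pow_mul, hzp, one_pow, mul_one]
  -- the `p`-th power homomorphism
  have hpowW : ∀ u ∈ M, u ^ p ∈ W := by
    intro u hu
    rw [hW, ← pow_mul, ← sq]
    exact (hMmem u).mp hu
  let π : ↥M →* ↥W :=
    { toFun := fun u => ⟨(u : L) ^ p, hpowW u u.2⟩
      map_one' := by
        apply Subtype.ext
        show ((1 : M) : L) ^ p = ((1 : W) : L)
        rw [Subgroup.coe_one, one_pow, Subgroup.coe_one]
      map_mul' := by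
        intro x y
        apply Subtype.ext
        show ((x * y : M) : L) ^ p = (x : L) ^ p * (y : L) ^ p
        rw [Subgroup.coe_mul]
        exact hpowmul x x.2 y y.2 }
  have hπker : π.ker = W.subgroupOf M := by
    ext u
    rw [MonoidHom.mem_ker, Subgroup.mem_subgroupOf, hW]
    constructor
    · intro h
      exact congrArg Subtype.val h
    · intro h
      apply Subtype.ext
      exact h
  have hkercard : Nat.card π.ker = p ^ 2 := by
    rw [hπker, ← hWcard]
    exact Nat.card_congr (Subgroup.subgroupOfEquivOfLe hWM).toEquiv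
  have hrange : Nat.card π.range = p ^ 2 := by
    have h1 : Nat.card π.ker * Nat.card π.range = p ^ 4 := by
      rw [← Subgroup.index_ker, Subgroup.card_mul_index, hMcard]
    rw [hkercard] at h1
    have h2 : p ^ 2 * Nat.card π.range = p ^ 2 * p ^ 2 := by rw [h1]; ring
    exact Nat.eq_of_mul_eq_mul_left (pow_pos hp.pos 2) h2
  have hπsurj : π.range = ⊤ := by
    apply Subgroup.eq_top_of_card_eq
    rw [hrange, hWcard]
  have hsurj : ∀ w ∈ W, ∃ u ∈ M, u ^ p = w := by
    intro w hw
    have : (⟨w, hw⟩ : W) ∈ π.range := by rw [hπsurj]; exact Subgroup.mem_top _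
    obtain ⟨u, hu⟩ := this
    exact ⟨u, u.2, congrArg Subtype.val hu⟩
  have hcen : ∀ w ∈ W, ∀ u ∈ M, w * u = u * w := by
    intro w hw u hu
    obtain ⟨t, ht, rfl⟩ := hsurj w hw
    obtain ⟨hz, hzp⟩ := hcomm t ht u hu
    rw [Subgroup.mem_center_iff] at hz
    rw [Cfsg.Agent.Lib.Helper11.pow_mul_comm_commutator u t (hz t).symm p, hzp, one_mul]
  exact ⟨W, M, ⟨hW, hWcard, hMmem, hMcard, hpowmul, hcen, hsurj⟩⟩

end Cfsg.Agent.Lib.Helper22.MetaAut
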