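import Mathlib
import Cfsg.Agent.Lib.Helper1.MaxClass
import Cfsg.Agent.Lib.Helper22.MetaAutFix

/-!
# The semidirect product `L ⋊ ⟨a⟩` : the centralizer of `a`, and maximal class
-/

set_option autoImplicit false
set_option linter.style.haveILetI false
set_option linter.unusedVariables false

namespace Cfsg.Agent.Lib.Helper22.MetaAut

variable {L : Type*} [Group L]

/-- the semidirect product `L ⋊ ⟨a⟩` -/
abbrev maG (a : MulAut L) : Type _ :=
  SemidirectProduct L ↥(Subgroup.zpowers a) (Subgroup.zpowers a).subtype

/-- the element `a` of `L ⋊ ⟨a⟩` -/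
def maAlpha (a : MulAut L) : maG a := SemidirectProduct.inr ⟨a, Subgroup.mem_zpowers a⟩

theorem ma_card_G (a : MulAut L) : Nat.card (maG a) = Nat.card L * orderOf a := by
  rw [SemidirectProduct.card, Nat.card_zpowers]

theorem ma_mem_centralizer (a : MulAut L) (g : maG a) :
    g ∈ Subgroup.centralizer ({maAlpha a} : Set (maG a)) ↔ a g.left = g.left := by
  rw [Subgroup.mem_centralizer_iff]
  constructor
  · intro h
    have h1 := congrArg SemidirectProduct.left (h (maAlpha a) rfl)
    rw [SemidirectProduct.mul_left, SemidirectProduct.mul_left] at h1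
    simp only [maAlpha, SemidirectProduct.left_inr, SemidirectProduct.right_inr, map_one, mul_one,
      one_mul] at h1
    exact h1
  · intro h x hx
    rw [Set.mem_singleton_iff] at hx
    subst hx
    apply SemidirectProduct.ext
    · rw [SemidirectProduct.mul_left, SemidirectProduct.mul_left]
      simp only [maAlpha, SemidirectProduct.left_inr, SemidirectProduct.right_inr, map_one, mul_one,
        one_mul]
      exact h
    · rw [SemidirectProduct.mul_right, SemidirectProduct.mul_right]
      exact (Subgroup.zpowers_isMulCommutative a).is_comm.comm _ _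

theorem ma_card_centralizer (a : MulAut L) :
    Nat.card (Subgroup.centralizer ({maAlpha a} : Set (maG a))) =
      Nat.card (maFix a) * orderOf a := by
  rw [← Nat.card_zpowers a, ← Nat.card_prod]
  apply Nat.card_congr
  refine ⟨fun g => (⟨g.1.left, (ma_mem_centralizer a g.1).mp g.2⟩, g.1.right),
    fun x => ⟨⟨x.1.1, x.2⟩, (ma_mem_centralizer a _).mpr x.1.2⟩, ?_, ?_⟩
  · intro g
    rfl
  · intro x
    rfl

/-- if `a` has order `p` and exactly `p` fixed points on the group `L` of order `p ^ m`, then `L ⋊ ⟨a⟩` has class `m` -/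
theorem ma_class [Finite L] {p : ℕ} [Fact p.Prime] (a : MulAut L) (ha : orderOf a = p) (m : ℕ)
    (hm : Nat.card L = p ^ m) (hfix : Nat.card (maFix a) = p) :
    Group.nilpotencyClass (maG a) = m := by
  have hp := (Fact.out : p.Prime)
  have hG : Nat.card (maG a) = p ^ (m + 1) := by rw [ma_card_G, hm, ha, pow_succ]
  haveI : Finite (maG a) := Nat.finite_of_card_ne_zero (by rw [hG]; exact pow_ne_zero _ hp.ne_zero)
  set A := Subgroup.centralizer ({maAlpha a} : Set (maG a)) with hA
  have hAcard : Nat.card A = p ^ 2 := by rw [hA, ma_card_centralizer, hfix, ha, sq]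
  have hαA : maAlpha a ∈ A := by
    rw [hA, Subgroup.mem_centralizer_iff]
    intro x hx
    rw [Set.mem_singleton_iff] at hx
    rw [hx]
  have hself : Subgroup.centralizer (A : Set (maG a)) = A := by
    apply le_antisymm
    · rw [hA]
      apply Subgroup.centralizer_le
      intro x hx
      rw [Set.mem_singleton_iff] at hx
      rw [hx]
      exact hαA
    · intro x hx
      rw [Subgroup.mem_centralizer_iff]
      intro y hy
      have hcomm := (IsPGroup.isMulCommutative_of_card_eq_prime_sq (p := p) hAcard).is_comm.comm
        (⟨y, hy⟩ : A) ⟨x, hx⟩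
      exact congrArg Subtype.val hcomm
  have := Cfsg.Agent.Lib.Helper1.class_of_self_centralizing p (m + 1) (maG a) hG A hAcard hself
  rw [this, Nat.add_sub_cancel]

end Cfsg.Agent.Lib.Helper22.MetaAut
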