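import Mathlib
import Cfsg.Agent.Lib.Helper18.PRL.Defs
import Cfsg.Agent.Lib.helper23.PRLCH1
import Cfsg.Agent.Lib.helper23.PRLCH2
import Cfsg.Agent.Lib.Helper22.MetaAutA
import Cfsg.Agent.Lib.Helper22.MetaAutC

/-!
# The converse : if `L ⋊ ⟨a⟩` has maximal class then `a` moves an element of order `p`
-/

set_option autoImplicit false
set_option linter.style.haveILetI false
set_option linter.unusedVariables false

namespace Cfsg.Agent.Lib.Helper22.MetaAut

open scoped commutatorElement
open Cfsg.Agent.Lib.Helper18.PRL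

variable {L : Type*} [Group L]

/-- a normal subgroup of order dividing `p` of a finite `p`-group is central -/
theorem ma_le_center_of_card_dvd [Finite L] {p : ℕ} [Fact p.Prime] (hL : IsPGroup p L)
    (K : Subgroup L) [K.Normal] (hK : Nat.card K ∣ p) : K ≤ Subgroup.center L := by
  have hp := (Fact.out : p.Prime)
  haveI hnil : Group.IsNilpotent L := hL.isNilpotent
  by_cases hbot : K = ⊥
  · rw [hbot]; exact bot_le
  · have h1 := Cfsg.Agent.Lib.Helper1.normal_inf_center_ne_bot K hbot
    have hK1 : Nat.card K ≠ 1 := fun h => hbot (Subgroup.card_eq_one.mp h)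
    have hKp : Nat.card K = p := by
      rcases (Nat.dvd_prime hp).mp hK with h | h
      · exact absurd h hK1
      · exact h
    have h2 : Nat.card ↥(K ⊓ Subgroup.center L) ∣ p := by
      rw [← hKp]
      exact Subgroup.card_dvd_of_le inf_le_left
    have h3 : Nat.card ↥(K ⊓ Subgroup.center L) = p := by
      rcases (Nat.dvd_prime hp).mp h2 with h | h
      · exact absurd (Subgroup.card_eq_one.mp h) h1
      · exact h
    have h4 : K ⊓ Subgroup.center L = K :=
      Subgroup.eq_of_le_of_card_ge inf_le_left (by rw [h3, hKp])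
    rw [← h4]
    exact inf_le_right

/-- the image in `L ⋊ ⟨a⟩` of a subgroup of `L` invariant under all automorphisms is normal -/
theorem ma_map_inl_normal (a : MulAut L) (S : Subgroup L)
    (hS : ∀ σ : MulAut L, ∀ s ∈ S, σ s ∈ S) :
    (S.map (SemidirectProduct.inl : L →* maG a)).Normal := by
  refine ⟨fun n hn g => ?_⟩
  obtain ⟨s, hs, rfl⟩ := hn
  have h1 : g * SemidirectProduct.inl s * g⁻¹ =
      SemidirectProduct.inl (MulAut.conj g.left (((Subgroup.zpowers a).subtype g.right) s)) := by
    conv_lhs => rw [← SemidirectProduct.inl_left_mul_inr_right g]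
    rw [MulAut.conj_apply, map_mul, map_mul, SemidirectProduct.inl_aut, map_inv, mul_inv_rev,
      map_inv]
    simp only [mul_assoc]
  rw [h1]
  exact ⟨_, hS _ _ (hS _ s hs), rfl⟩

/-- elements fixed by `a` commute with `inr h` -/
theorem ma_inr_comm (a : MulAut L) (w : L) (hw : a w = w) (h : ↥(Subgroup.zpowers a)) :
    (SemidirectProduct.inr h : maG a) * SemidirectProduct.inl w =
      SemidirectProduct.inl w * SemidirectProduct.inr h := by
  have h1 : ((h : MulAut L)) w = w := by
    have hle : Subgroup.zpowers a ≤ MulAction.stabilizer (MulAut L) w := by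
      rw [Subgroup.zpowers_le, MulAction.mem_stabilizer_iff, MulAut.smul_def]
      exact hw
    have := hle h.2
    rwa [MulAction.mem_stabilizer_iff, MulAut.smul_def] at this
  have h2 := SemidirectProduct.inl_aut (φ := (Subgroup.zpowers a).subtype) h w
  rw [Subgroup.coe_subtype, h1] at h2
  conv_rhs => rw [h2]
  rw [map_inv, inv_mul_cancel_right]

/-- the converse direction -/
theorem ma_backward [Finite L] {p : ℕ} [Fact p.Prime] (hp2 : p ≠ 2) (hL : IsPGroup p L)
    (hmc : Cfsg.IsMetacyclic L) {W M : Subgroup L} (h : IsOm2 p W M) (a : MulAut L)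
    (ha : orderOf a = p) (m : ℕ) (hm : Nat.card L = p ^ m)
    (hclass : Group.nilpotencyClass (maG a) = m) : ∃ x : L, orderOf x = p ∧ a x ≠ x := by
  by_contra hcon
  have hcon : ∀ x : L, orderOf x = p → a x = x := by
    intro x hx
    by_contra hne
    exact hcon ⟨x, hx, hne⟩
  have hp := (Fact.out : p.Prime)
  have hfixW : ∀ w ∈ W, a w = w := by
    intro w hw
    by_cases hw1 : w = 1
    · rw [hw1, map_one]
    · exact hcon w (orderOf_eq_prime ((h.memW w).mp hw) hw1)
  -- `m ≥ 4`
  have hm4 : 4 ≤ m := by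
    have h1 : p ^ 4 ∣ p ^ m := by
      rw [← h.cardM, ← hm]
      exact Subgroup.card_subgroup_dvd_card M
    exact (Nat.pow_dvd_pow_iff_le_right hp.one_lt).mp h1
  have hG : Nat.card (maG a) = p ^ (m + 1) := by rw [ma_card_G, hm, ha, pow_succ]
  haveI : Finite (maG a) := Nat.finite_of_card_ne_zero (by rw [hG]; exact pow_ne_zero _ hp.ne_zero)
  have hMC : MC p (maG a) (m + 1) := ⟨hG, by rw [hclass, Nat.add_sub_cancel]⟩
  have hinj : Function.Injective (SemidirectProduct.inl : L →* maG a) :=
    SemidirectProduct.inl_injective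
  -- the image of `W`
  set WG : Subgroup (maG a) := W.map (SemidirectProduct.inl : L →* maG a) with hWG
  haveI hWGn : WG.Normal := ma_map_inl_normal a W (fun σ w hw => h.autW σ w hw)
  have hWGcard : Nat.card WG = p ^ 2 := by
    rw [hWG, Subgroup.card_map_of_injective hinj, h.cardW]
  have hWGZ : WG = Z (maG a) 2 := normal_eq_Z hMC (by omega) WG 2 (by omega) hWGcard
  -- the commutator subgroup
  set L' : Subgroup L := commutator L with hL'
  have hL'char : ∀ σ : MulAut L, ∀ s ∈ L', σ s ∈ L' := by
    intro σ s hs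
    have hfix := (Subgroup.commutator_characteristic (⊤ : Subgroup L) ⊤).fixed σ⁻¹
    rw [← commutator_def] at hfix
    rw [hL', ← hfix, Subgroup.mem_comap]
    show σ⁻¹ (σ s) ∈ commutator L
    rw [MulAut.inv_apply_self]
    exact hs
  set LG : Subgroup (maG a) := L'.map (SemidirectProduct.inl : L →* maG a) with hLG
  haveI hLGn : LG.Normal := ma_map_inl_normal a L' hL'char
  obtain ⟨k, hk⟩ := (hL.to_subgroup L').exists_card_eq
  have hLGcard : Nat.card LG = p ^ k := by
    rw [hLG, Subgroup.card_map_of_injective hinj, hk]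
  haveI : Nontrivial L := by
    rw [← Finite.one_lt_card_iff_nontrivial, hm]
    exact Nat.one_lt_pow (by omega) hp.one_lt
  haveI : Group.IsSolvable L := by
    haveI := hL.isNilpotent
    infer_instance
  have hkm : k < m := by
    have hlt : L' < ⊤ := Group.IsSolvable.commutator_lt_top_of_nontrivial L
    have h1 : Nat.card L' < Nat.card L := by
      rcases lt_or_ge (Nat.card L') (Nat.card L) with h2 | h2
      · exact h2
      · exfalso
        exact hlt.ne (Subgroup.eq_top_of_le_card L' h2)
    rw [hk, hm] at h1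
    exact (Nat.pow_lt_pow_iff_right hp.one_lt).mp h1
  have hk1 : k ≤ 1 := by
    by_contra hk2
    have hk2 : 1 < k := not_le.mp hk2
    have hLGZ : LG = Z (maG a) k := normal_eq_Z hMC (by omega) LG k (by omega) hLGcard
    have hle : WG ≤ LG := by
      rw [hWGZ, hLGZ]
      exact Subgroup.upperCentralSeries_mono (maG a) (by omega)
    have hWL' : W ≤ L' := by
      rw [hWG, hLG] at hle
      exact (Subgroup.map_le_map_iff_of_injective hinj).mp hle
    haveI hLc : IsCyclic (commutator L) :=
      Cfsg.Agent.Lib.Helper18.BLK.cyclic_commutator_of_metacyclic hmc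
    haveI hWc : IsCyclic W := Subgroup.isCyclic_of_le hWL'
    obtain ⟨w₀, hw₀⟩ := hWc.exists_generator
    have h1 : orderOf w₀ = p ^ 2 := by
      rw [orderOf_eq_card_of_forall_mem_zpowers hw₀, h.cardW]
    have h2 : orderOf w₀ ∣ p := by
      rw [← Subgroup.orderOf_coe]
      exact orderOf_dvd_of_pow_eq_one ((h.memW _).mp w₀.2)
    rw [h1] at h2
    have := Nat.le_of_dvd hp.pos h2
    have : p < p ^ 2 := by
      rw [sq]
      exact lt_mul_of_one_lt_left hp.pos hp.one_lt
    omega
  -- `L'` is central of exponent `p`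
  haveI hL'n : L'.Normal := by rw [hL']; infer_instance
  have hL'dvd : Nat.card L' ∣ p := by
    rw [hk]
    calc p ^ k ∣ p ^ 1 := pow_dvd_pow p hk1
      _ = p := pow_one p
  have hL'cen : L' ≤ Subgroup.center L := ma_le_center_of_card_dvd hL L' hL'dvd
  have hL'exp : ∀ x ∈ L', x ^ p = 1 := by
    intro x hx
    have h1 : orderOf (⟨x, hx⟩ : L') ∣ p := (orderOf_dvd_natCard _).trans hL'dvd
    rw [← Subgroup.orderOf_coe] at h1
    exact orderOf_dvd_iff_pow_eq_one.mp h1
  -- `W` is central in `L`
  have hWcen : W ≤ Subgroup.center L := by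
    intro w hw
    obtain ⟨t, -, rfl⟩ := h.surj w hw
    rw [Subgroup.mem_center_iff]
    intro l
    have hc : ⁅t, l⁆ ∈ L' :=
      Subgroup.commutator_mem_commutator (Subgroup.mem_top t) (Subgroup.mem_top l)
    have hz := hL'cen hc
    rw [Subgroup.mem_center_iff] at hz
    rw [Cfsg.Agent.Lib.Helper11.pow_mul_comm_commutator l t (hz t).symm p, hL'exp _ hc, one_mul]
  -- hence the image of `W` is central in `L ⋊ ⟨a⟩`
  have hWGcen : WG ≤ Subgroup.center (maG a) := by
    rintro _ ⟨w, hw, rfl⟩
    rw [Subgroup.mem_center_iff]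
    intro g
    rw [← SemidirectProduct.inl_left_mul_inr_right g, mul_assoc,
      ma_inr_comm a w (hfixW w hw) g.right, ← mul_assoc, ← mul_assoc, ← map_mul, ← map_mul]
    have := hWcen hw
    rw [Subgroup.mem_center_iff] at this
    rw [this g.left]
  have hZ1 : Nat.card (Z (maG a) 1) = p ^ 1 := card_Z hMC (by omega) 1 (by omega)
  have hZ1' : Z (maG a) 1 = Subgroup.center (maG a) := Subgroup.upperCentralSeries_one (maG a)
  rw [hZ1', pow_one] at hZ1
  have h1 := Subgroup.card_le_of_le hWGcen
  rw [hWGcard, hZ1] at h1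
  have : p < p ^ 2 := by
    rw [sq]
    exact lt_mul_of_one_lt_left hp.pos hp.one_lt
  omega

end Cfsg.Agent.Lib.Helper22.MetaAut
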