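import Mathlib
import Cfsg.Agent.Lib.helper7.NPC.Defs

/-!
# Project NPC, piece A1 (helper22) : the commutator subgroup of a non-perfect minimal
non-`p`-closed group is a `p'`-group.  (Contains a private-named copy `npca1_G1` of G1, so that the
piece does not wait for G1.)
-/

set_option autoImplicit false
set_option linter.unusedVariables false
set_option linter.unusedSectionVars false

namespace Cfsg.Agent.Lib.helper7.NPC

universe u

variable {H : Type u} [Group H] [Finite H] {p : ℕ} [Fact p.Prime]

/-- (G1, own copy) if `N ⊴ H` is a `p`-subgroup and `H ⧸ N` is `p`-closed then every Sylow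
`p`-subgroup of `H` is normal -/
theorem npca1_G1 (N : Subgroup H) [N.Normal] (hN : IsPGroup p ↥N)
    (hq : Cfsg.IsPClosed p (H ⧸ N)) (P : Sylow p H) : (P : Subgroup H).Normal := by
  have hsurj : Function.Surjective (QuotientGroup.mk' N) := QuotientGroup.mk'_surjective N
  have hn : ((P.mapSurjective hsurj : Sylow p (H ⧸ N)) : Subgroup (H ⧸ N)).Normal := hq _
  rw [Sylow.coe_mapSurjective] at hn
  have hle : N ≤ (P : Subgroup H) := hN.le_sylow_of_normal P
  have hcomap : ((P : Subgroup H).map (QuotientGroup.mk' N)).comap (QuotientGroup.mk' N) =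
      (P : Subgroup H) := by
    rw [Subgroup.comap_map_eq, QuotientGroup.ker_mk', sup_eq_left.2 hle]
  rw [← hcomap]
  exact hn.comap _

/-- a proper normal subgroup `K` of a minimal non-`p`-closed group is a `p'`-group -/
theorem npca1_normal_p' (hM : MinNPC p H) (K : Subgroup H) [hKn : K.Normal] (hK : K ≠ ⊤) :
    ¬ p ∣ Nat.card ↥K := by
  intro hdvd
  have hcl := hM.sub K hK
  obtain ⟨Q⟩ : Nonempty (Sylow p ↥K) := inferInstance
  have hQn : (Q : Subgroup ↥K).Normal := hcl Q
  have hQc : (Q : Subgroup ↥K).Characteristic := Sylow.characteristic_of_normal Q hQn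
  have hNn : ((Q : Subgroup ↥K).map K.subtype).Normal := ConjAct.normal_of_characteristic_of_normal
  have hQne : (Q : Subgroup ↥K) ≠ ⊥ := Q.ne_bot_of_dvd_card hdvd
  have hNne : (Q : Subgroup ↥K).map K.subtype ≠ ⊥ := by
    intro h
    apply hQne
    rwa [Subgroup.map_eq_bot_iff_of_injective _ K.subtype_injective] at h
  have hNp : IsPGroup p ↥((Q : Subgroup ↥K).map K.subtype) := Q.2.map K.subtype
  exact hM.npc (npca1_G1 _ hNp (hM.quot _ hNne))

/-- A1 : in a minimal non-`p`-closed group that is not perfect, the commutator subgroup is a `p'`-group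
(it is `p`-closed; its Sylow `p`-subgroup `Q` is normal in `H`; if `Q ≠ 1` then `H ⧸ Q` is `p`-closed and G1 applies). -/
theorem commutator_p' (hM : MinNPC p H) (hnp : commutator H ≠ ⊤) :
    ¬ p ∣ Nat.card ↥(commutator H) :=
  npca1_normal_p' hM (commutator H) hnp

end Cfsg.Agent.Lib.helper7.NPC
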