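import Mathlib
import Cfsg.Agent.Lib.helper7.NPC.Defs
import Cfsg.Agent.Lib.Helper22.NPCA1

/-!
# Project NPC, piece A6, core (helper22) : the non-perfect case `|H| ≥ p m`, with the statements of
A3, A4, A5 as hypotheses
-/

set_option autoImplicit false
set_option linter.unusedVariables false
set_option linter.unusedSectionVars false

namespace Cfsg.Agent.Lib.helper7.NPC

universe u

variable {H : Type u} [Group H] [Finite H] {p : ℕ} [Fact p.Prime]

/-- A6 with A3, A4 (for `R = H'`), A5 as hypotheses -/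
theorem npca6_core (hM : MinNPC p H) (hnp : commutator H ≠ ⊤) (m : ℕ)
    (hleast : ∀ k : ℕ, IsPrimePow k → k % p = 1 → m ≤ k)
    (hA3 : ∀ (P : Sylow p H), ¬ (P : Subgroup H).Normal → ∀ x ∈ (P : Subgroup H),
      (∀ r ∈ commutator H, x * r = r * x) → x = 1)
    (hA4 : ¬ p ∣ Nat.card ↥(commutator H) → ∀ x : H, orderOf x = p →
      (∃ r₀ ∈ commutator H, x * r₀ ≠ r₀ * x) →
      ∃ (r : ℕ) (S : Subgroup H), r.Prime ∧ r ≠ p ∧ S ≤ commutator H ∧ IsPGroup r ↥S ∧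
        (∀ s ∈ S, x * s * x⁻¹ ∈ S) ∧ ∃ s ∈ S, x * s ≠ s * x)
    (hA5 : ∀ (r : ℕ), r.Prime → r ≠ p → ∀ (S : Subgroup H), IsPGroup r ↥S → ∀ x : H,
      orderOf x = p → (∀ s ∈ S, x * s * x⁻¹ ∈ S) → (∃ s ∈ S, x * s ≠ s * x) →
      ∃ k : ℕ, 0 < k ∧ r ^ k % p = 1 ∧ r ^ k ≤ Nat.card ↥S) :
    p * m ≤ Nat.card H := by
  have hp : p.Prime := Fact.out
  obtain ⟨P, hP⟩ : ∃ P : Sylow p H, ¬ (P : Subgroup H).Normal := by
    have := hM.npc
    unfold Cfsg.IsPClosed at this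
    push Not at this
    exact this
  have hPne : (P : Subgroup H) ≠ ⊥ := by
    intro h
    apply hP
    rw [h]
    infer_instance
  obtain ⟨n, hn⟩ := IsPGroup.iff_card.mp P.2
  have hn0 : n ≠ 0 := by
    rintro rfl
    rw [pow_zero] at hn
    exact hPne ((P : Subgroup H).eq_bot_of_card_eq hn)
  have hdvd : p ∣ Nat.card (P : Subgroup H) := by
    rw [hn]
    exact dvd_pow_self p hn0
  obtain ⟨x, hx⟩ := exists_prime_orderOf_dvd_card' (G := ↥(P : Subgroup H)) p hdvd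
  have hx' : orderOf (x : H) = p := by rw [Subgroup.orderOf_coe, hx]
  have hx1 : (x : H) ≠ 1 := by
    intro h
    rw [h, orderOf_one] at hx'
    exact hp.one_lt.ne hx'
  have hnc : ∃ r₀ ∈ commutator H, (x : H) * r₀ ≠ r₀ * (x : H) := by
    by_contra hcon
    push Not at hcon
    exact hx1 (hA3 P hP x x.2 hcon)
  have hR := commutator_p' hM hnp
  obtain ⟨r, S, hr, hrp, hSR, hS, hxS, hxc⟩ := hA4 hR x hx' hnc
  obtain ⟨k, hk, hk1, hkS⟩ := hA5 r hr hrp S hS x hx' hxS hxc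
  have hm : m ≤ r ^ k := hleast (r ^ k) ⟨r, k, hr.prime, hk, rfl⟩ hk1
  have hSR' : Nat.card ↥S ≤ Nat.card ↥(commutator H) := Subgroup.card_le_of_le hSR
  have hcop : (Nat.card (P : Subgroup H)).Coprime (Nat.card ↥(commutator H)) := by
    rw [hn]
    exact Nat.Coprime.pow_left n ((Nat.Prime.coprime_iff_not_dvd hp).2 hR)
  have hmul : Nat.card (P : Subgroup H) * Nat.card ↥(commutator H) ∣ Nat.card H :=
    Nat.Coprime.mul_dvd_of_dvd_of_dvd hcop (Subgroup.card_subgroup_dvd_card _)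
      (Subgroup.card_subgroup_dvd_card _)
  have hpP : p ≤ Nat.card (P : Subgroup H) := Nat.le_of_dvd Nat.card_pos hdvd
  calc p * m ≤ Nat.card (P : Subgroup H) * Nat.card ↥(commutator H) :=
        Nat.mul_le_mul hpP (hm.trans (hkS.trans hSR'))
    _ ≤ Nat.card H := Nat.le_of_dvd Nat.card_pos hmul

end Cfsg.Agent.Lib.helper7.NPC
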