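import Mathlib
import Cfsg.Prelude.Def_GeometricClasses

set_option autoImplicit false
set_option linter.unusedVariables false
set_option linter.unusedSectionVars false
set_option linter.style.haveILetI false

/-!
# Block NP ("NOT PLUS"), piece NP2 (helper22), core : a field `K` of degree 2 acting by similarities of `Q` on a space of
dimension `2 m`, `m` odd: not of plus type - with the statement of NP1 (`not_plus_of_odd_aniso_planes`) as a hypothesis.

Gram–Schmidt over `K`: `V = K v₁ ⟂ … ⟂ K v_m` with anisotropic similar planes `K v_i`.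
-/

namespace Cfsg.Agent.Lib.Helper9.NotPlus

open Cfsg Cfsg.Geo
open scoped MatrixGroups Matrix

variable {n : ℕ} {F : Type*} [Field F]

/-- the dimension of a finite supremum of independent subspaces is the sum of the dimensions -/
theorem np2_finrank_sup {ι : Type*} [DecidableEq ι] {M : Type*} [AddCommGroup M] [Module F M]
    [FiniteDimensional F M] (V : ι → Submodule F M) (s : Finset ι) (h : s.SupIndep V) :
    Module.finrank F ↥(s.sup V) = ∑ i ∈ s, Module.finrank F ↥(V i) := by
  induction s using Finset.induction_on with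
  | empty => simp
  | insert a s ha ih =>
    rw [Finset.sup_insert, Finset.sum_insert ha]
    have hdisj : Disjoint (V a) (s.sup V) := h (Finset.subset_insert a s) (Finset.mem_insert_self a s) ha
    have h1 := Submodule.finrank_sup_add_finrank_inf_eq (V a) (s.sup V)
    rw [hdisj.eq_bot, finrank_bot, add_zero] at h1
    rw [h1, ih (h.subset (Finset.subset_insert a s))]

/-- the dimension of the supremum of a finite independent family of subspaces -/
theorem np2_finrank_iSup {ι : Type*} [Fintype ι] [DecidableEq ι] {M : Type*} [AddCommGroup M] [Module F M]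
    [FiniteDimensional F M] (V : ι → Submodule F M) (h : iSupIndep V) :
    Module.finrank F ↥(⨆ i, V i) = ∑ i, Module.finrank F ↥(V i) := by
  rw [← Finset.sup_univ_eq_iSup]
  exact np2_finrank_sup V Finset.univ (h.supIndep' Finset.univ)

/-- pairwise orthogonal subspaces, each non-degenerate, are independent -/
theorem np2_indep (Q : QuadraticForm F (Fin n → F)) {t : ℕ} (D : Fin t → Submodule F (Fin n → F))
    (hnd : ∀ i, IsNondegenerateOn (QuadraticMap.polar (⇑Q)) (D i))
    (horth : ∀ i j, i ≠ j → AreOrthogonalFor (QuadraticMap.polar (⇑Q)) (D i) (D j)) : iSupIndep D := by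
  classical
  rw [iSupIndep_def]
  intro i
  rw [Submodule.disjoint_def]
  intro x hxi hx
  by_contra hx0
  obtain ⟨⟨y, hy, hyx⟩, _⟩ := hnd i x hxi hx0
  apply hyx
  have hle : (⨆ j, ⨆ (_ : j ≠ i), D j) ≤ LinearMap.ker (QuadraticMap.polarBilin Q y) := by
    apply iSup_le
    intro j
    apply iSup_le
    intro hji z hz
    rw [LinearMap.mem_ker]
    exact horth i j (Ne.symm hji) y hy z hz
  have := hle hx
  rw [LinearMap.mem_ker] at this
  exact this

/-- an anisotropic subspace of dimension at least 2 over a finite field is non-degenerate for the polar form -/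
theorem np2_aniso_nd [Fintype F] (Q : QuadraticForm F (Fin n → F)) (P : Submodule F (Fin n → F))
    (hP : ∀ p ∈ P, p ≠ 0 → Q p ≠ 0) (hdim : 2 ≤ Module.finrank F P) :
    IsNondegenerateOn (QuadraticMap.polar (⇑Q)) P := by
  classical
  intro w hw hw0
  suffices h : ∃ x ∈ P, QuadraticMap.polar (⇑Q) x w ≠ 0 by
    obtain ⟨x, hx, hxw⟩ := h
    exact ⟨⟨x, hx, hxw⟩, ⟨x, hx, by rwa [QuadraticMap.polar_comm]⟩⟩
  by_contra hcon
  push Not at hcon
  have hb : Q w ≠ 0 := hP w hw hw0
  by_cases h2 : (2 : F) = 0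
  · -- characteristic 2
    have hlt : Submodule.span F {w} < P := by
      refine lt_of_le_of_ne ((Submodule.span_singleton_le_iff_mem w P).2 hw) ?_
      intro heq
      have h1 : Module.finrank F ↥(Submodule.span F {w}) = 1 := finrank_span_singleton hw0
      rw [heq] at h1
      omega
    obtain ⟨x, hx, hxw⟩ := SetLike.exists_of_lt hlt
    have hchar : ringChar F = 2 := by
      haveI : CharP F 2 := CharTwo.of_one_ne_zero_of_two_eq_zero one_ne_zero h2
      exact ringChar.eq F 2
    obtain ⟨t, ht⟩ := FiniteField.isSquare_of_char_two hchar (Q x / Q w)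
    have hQ0 : Q (x + t • w) = 0 := by
      rw [QuadraticMap.map_add (⇑Q), QuadraticMap.map_smul, QuadraticMap.polar_smul_right, hcon x hx, smul_zero,
        add_zero, smul_eq_mul, ← ht, div_mul_cancel₀ _ hb]
      linear_combination Q x * h2
    have hne : x + t • w ≠ 0 := by
      intro h0
      apply hxw
      have : x = (-t) • w := by
        rw [neg_smul]
        exact eq_neg_of_add_eq_zero_left h0
      rw [this]
      exact Submodule.smul_mem _ _ (Submodule.mem_span_singleton_self w)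
    exact hP _ (P.add_mem hx (P.smul_mem t hw)) hne hQ0
  · have h1 := hcon w hw
    rw [QuadraticMap.polar_self, nsmul_eq_mul] at h1
    rcases mul_eq_zero.mp h1 with h | h
    · exact h2 (by exact_mod_cast h)
    · exact hb h

/-- the orbit map `k ↦ k v` of a subalgebra of the matrix algebra -/
def np2_line (K : Subalgebra F (Matrix (Fin n) (Fin n) F)) (v : Fin n → F) : K →ₗ[F] (Fin n → F) where
  toFun k := (k : Matrix (Fin n) (Fin n) F) *ᵥ v
  map_add' a b := by
    show ((a + b : K) : Matrix (Fin n) (Fin n) F) *ᵥ v = _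
    rw [Subalgebra.coe_add, Matrix.add_mulVec]
  map_smul' c a := by
    show ((c • a : K) : Matrix (Fin n) (Fin n) F) *ᵥ v = c • _
    rw [Subalgebra.coe_smul, Matrix.smul_mulVec]

theorem np2_line_apply (K : Subalgebra F (Matrix (Fin n) (Fin n) F)) (v : Fin n → F) (k : K) :
    np2_line K v k = (k : Matrix (Fin n) (Fin n) F) *ᵥ v := rfl

theorem np2_mem_line (K : Subalgebra F (Matrix (Fin n) (Fin n) F)) (v p : Fin n → F) :
    p ∈ LinearMap.range (np2_line K v) ↔ ∃ k ∈ K, k *ᵥ v = p := by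
  constructor
  · rintro ⟨k, rfl⟩
    exact ⟨k, k.2, rfl⟩
  · rintro ⟨k, hk, rfl⟩
    exact ⟨⟨k, hk⟩, rfl⟩

/-- `K` acts by similarities of `Q` with multipliers `c k`, non-zero for `k ≠ 0` -/
structure Np2Sim (Q : QuadraticForm F (Fin n → F)) (K : Subalgebra F (Matrix (Fin n) (Fin n) F))
    (c : Matrix (Fin n) (Fin n) F → F) : Prop where
  sim : ∀ k ∈ K, ∀ v : Fin n → F, Q (k *ᵥ v) = c k * Q v
  ne : ∀ k ∈ K, k ≠ 0 → c k ≠ 0

/-- a non-degenerate quadratic form in positive dimension is not zero -/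
theorem np2_exists_ne (Q : QuadraticForm F (Fin n → F)) (hQ : (QuadraticMap.polarBilin Q).Nondegenerate)
    (hn : 0 < n) : ∃ v : Fin n → F, Q v ≠ 0 := by
  classical
  by_contra hcon
  push Not at hcon
  have h1 : (Pi.single (⟨0, hn⟩ : Fin n) (1 : F) : Fin n → F) = 0 := by
    apply hQ.2
    intro y
    show QuadraticMap.polar (⇑Q) y _ = 0
    unfold QuadraticMap.polar
    rw [hcon, hcon, hcon]
    ring
  have := congrFun h1 ⟨0, hn⟩
  simp at this

/-- the multipliers exist -/
theorem np2_sim_exists (Q : QuadraticForm F (Fin n → F)) (hQ : (QuadraticMap.polarBilin Q).Nondegenerate)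
    (hn : 0 < n) (K : Subalgebra F (Matrix (Fin n) (Fin n) F)) (hK : IsFieldSubalgebra 2 K)
    (hsim : ∀ k ∈ K, ∃ c : F, ∀ v : Fin n → F, Q (k *ᵥ v) = c * Q v) :
    ∃ c : Matrix (Fin n) (Fin n) F → F, Np2Sim Q K c := by
  classical
  refine ⟨fun k => if h : k ∈ K then Classical.choose (hsim k h) else 0, ?_, ?_⟩
  · intro k hk v
    simp only [hk, dif_pos]
    exact Classical.choose_spec (hsim k hk) v
  · intro k hk hk0
    simp only [hk, dif_pos]
    intro h0
    obtain ⟨v₀, hv₀⟩ := np2_exists_ne Q hQ hn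
    obtain ⟨k', hk', hkk'⟩ := hK.inv k hk hk0
    apply hv₀
    have h1 := Classical.choose_spec (hsim k hk) (k' *ᵥ v₀)
    rw [Matrix.mulVec_mulVec, hkk', Matrix.one_mulVec, h0, zero_mul] at h1
    exact h1

theorem Np2Sim.polar {Q : QuadraticForm F (Fin n → F)} {K : Subalgebra F (Matrix (Fin n) (Fin n) F)}
    {c : Matrix (Fin n) (Fin n) F → F} (hc : Np2Sim Q K c) (k : Matrix (Fin n) (Fin n) F) (hk : k ∈ K)
    (x y : Fin n → F) :
    QuadraticMap.polar (⇑Q) (k *ᵥ x) (k *ᵥ y) = c k * QuadraticMap.polar (⇑Q) x y := by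
  unfold QuadraticMap.polar
  rw [← Matrix.mulVec_add, hc.sim k hk, hc.sim k hk, hc.sim k hk]
  ring

theorem Np2Sim.line_inj {Q : QuadraticForm F (Fin n → F)} {K : Subalgebra F (Matrix (Fin n) (Fin n) F)}
    {c : Matrix (Fin n) (Fin n) F → F} (hc : Np2Sim Q K c) (v : Fin n → F) (hv : Q v ≠ 0) :
    Function.Injective (np2_line K v) := by
  rw [← LinearMap.ker_eq_bot, LinearMap.ker_eq_bot']
  intro k hk
  by_contra hk0
  have hk0' : (k : Matrix (Fin n) (Fin n) F) ≠ 0 := fun h => hk0 (Subtype.ext h)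
  have h1 := hc.sim k k.2 v
  rw [np2_line_apply] at hk
  rw [hk, QuadraticMap.map_zero] at h1
  exact mul_ne_zero (hc.ne k k.2 hk0') hv h1.symm

theorem Np2Sim.line_aniso {Q : QuadraticForm F (Fin n → F)} {K : Subalgebra F (Matrix (Fin n) (Fin n) F)}
    {c : Matrix (Fin n) (Fin n) F → F} (hc : Np2Sim Q K c) (v : Fin n → F) (hv : Q v ≠ 0) :
    ∀ p ∈ LinearMap.range (np2_line K v), p ≠ 0 → Q p ≠ 0 := by
  rintro p ⟨k, rfl⟩ hp
  rw [np2_line_apply] at hp ⊢
  have hk0 : (k : Matrix (Fin n) (Fin n) F) ≠ 0 := by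
    intro h
    apply hp
    rw [h, Matrix.zero_mulVec]
  rw [hc.sim k k.2 v]
  exact mul_ne_zero (hc.ne k k.2 hk0) hv

theorem Np2Sim.line_finrank {Q : QuadraticForm F (Fin n → F)} {K : Subalgebra F (Matrix (Fin n) (Fin n) F)}
    {c : Matrix (Fin n) (Fin n) F → F} (hc : Np2Sim Q K c) (hK : IsFieldSubalgebra 2 K) (v : Fin n → F)
    (hv : Q v ≠ 0) : Module.finrank F ↥(LinearMap.range (np2_line K v)) = 2 := by
  rw [LinearMap.finrank_range_of_inj (hc.line_inj v hv), hK.finrank_eq]

theorem Np2Sim.line_nd [Fintype F] {Q : QuadraticForm F (Fin n → F)}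
    {K : Subalgebra F (Matrix (Fin n) (Fin n) F)}
    {c : Matrix (Fin n) (Fin n) F → F} (hc : Np2Sim Q K c) (hK : IsFieldSubalgebra 2 K) (v : Fin n → F)
    (hv : Q v ≠ 0) : IsNondegenerateOn (QuadraticMap.polar (⇑Q)) (LinearMap.range (np2_line K v)) :=
  np2_aniso_nd Q _ (hc.line_aniso v hv) (by rw [hc.line_finrank hK v hv])

/-- the Gram–Schmidt step over `K` -/
theorem np2_step [Fintype F] (Q : QuadraticForm F (Fin n → F)) (hQ : (QuadraticMap.polarBilin Q).Nondegenerate)
    (K : Subalgebra F (Matrix (Fin n) (Fin n) F)) (hK : IsFieldSubalgebra 2 K)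
    (c : Matrix (Fin n) (Fin n) F → F) (hc : Np2Sim Q K c) {j : ℕ} (hj : 2 * j < n)
    (v : Fin j → (Fin n → F)) (hv : ∀ i, Q (v i) ≠ 0)
    (horth : ∀ i i', i ≠ i' → ∀ k ∈ K, ∀ k' ∈ K, QuadraticMap.polar (⇑Q) (k *ᵥ v i) (k' *ᵥ v i') = 0) :
    ∃ u : Fin n → F, Q u ≠ 0 ∧ ∀ i, ∀ k ∈ K, ∀ k' ∈ K, QuadraticMap.polar (⇑Q) (k *ᵥ v i) (k' *ᵥ u) = 0 := by
  classical
  set B : LinearMap.BilinForm F (Fin n → F) := QuadraticMap.polarBilin Q with hBdef
  have hBapp : ∀ x y : Fin n → F, B x y = QuadraticMap.polar (⇑Q) x y := fun x y => rfl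
  -- the span of the lines
  set Φ : (Fin j → K) →ₗ[F] (Fin n → F) := ∑ i, (np2_line K (v i)).comp (LinearMap.proj i) with hΦdef
  have hΦ : ∀ κ : Fin j → K, Φ κ = ∑ i, ((κ i : K) : Matrix (Fin n) (Fin n) F) *ᵥ v i := by
    intro κ
    rw [hΦdef, LinearMap.sum_apply]
    rfl
  set S : Submodule F (Fin n → F) := LinearMap.range Φ with hSdef
  have hSle : Module.finrank F S ≤ 2 * j := by
    have h1 := LinearMap.finrank_range_le Φ
    rw [Module.finrank_pi_fintype] at h1
    simp only [hK.finrank_eq, Finset.sum_const, Finset.card_univ, Fintype.card_fin, smul_eq_mul] at h1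
    rw [hSdef]
    omega
  have hmemS : ∀ i, ∀ k ∈ K, k *ᵥ v i ∈ S := by
    intro i k hk
    refine ⟨Pi.single i ⟨k, hk⟩, ?_⟩
    rw [hΦ, Finset.sum_eq_single i]
    · rw [Pi.single_eq_same]
    · intro l _ hl
      rw [Pi.single_eq_of_ne hl]
      show (0 : Matrix (Fin n) (Fin n) F) *ᵥ v l = 0
      rw [Matrix.zero_mulVec]
    · intro h
      exact absurd (Finset.mem_univ i) h
  set T : Submodule F (Fin n → F) := B.orthogonal S with hTdef
  have hmemT : ∀ x : Fin n → F, x ∈ T ↔ ∀ s ∈ S, QuadraticMap.polar (⇑Q) s x = 0 := by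
    intro x
    rw [hTdef, LinearMap.BilinForm.mem_orthogonal_iff]
    constructor
    · intro hx s hs
      have := hx s hs
      rw [← hBapp]
      exact this
    · intro hx s hs
      show B s x = 0
      rw [hBapp]
      exact hx s hs
  -- `S` is non-degenerate
  have hR : S ⊓ T = ⊥ := by
    rw [eq_bot_iff]
    rintro x ⟨⟨κ, rfl⟩, hxT⟩
    rw [Submodule.mem_bot, hΦ]
    apply Finset.sum_eq_zero
    intro i _
    by_contra hy0
    have hyL : ((κ i : K) : Matrix (Fin n) (Fin n) F) *ᵥ v i ∈ LinearMap.range (np2_line K (v i)) :=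
      ⟨κ i, rfl⟩
    obtain ⟨⟨p, hp, hpy⟩, _⟩ := hc.line_nd hK (v i) (hv i) _ hyL hy0
    apply hpy
    obtain ⟨k, rfl⟩ := hp
    rw [np2_line_apply]
    have h1 := (hmemT _).1 hxT _ (hmemS i k k.2)
    rw [hΦ] at h1
    have h2 : QuadraticMap.polar (⇑Q) ((k : Matrix (Fin n) (Fin n) F) *ᵥ v i)
        (∑ l, ((κ l : K) : Matrix (Fin n) (Fin n) F) *ᵥ v l) =
        ∑ l, QuadraticMap.polar (⇑Q) ((k : Matrix (Fin n) (Fin n) F) *ᵥ v i)
          (((κ l : K) : Matrix (Fin n) (Fin n) F) *ᵥ v l) := by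
      rw [← hBapp, map_sum]
      rfl
    rw [h2, Finset.sum_eq_single i] at h1
    · exact h1
    · intro l _ hl
      exact horth i l (Ne.symm hl) _ k.2 _ (κ l).2
    · intro h
      exact absurd (Finset.mem_univ i) h
  have hfr : Module.finrank F T = n - Module.finrank F S := by
    have := LinearMap.BilinForm.finrank_orthogonal (B := B) hQ S
    rwa [Module.finrank_fin_fun] at this
  have hsi := Submodule.finrank_sup_add_finrank_inf_eq S T
  rw [hR, finrank_bot, add_zero] at hsi
  have hsup : S ⊔ T = ⊤ := by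
    apply Submodule.eq_top_of_finrank_eq
    rw [Module.finrank_fin_fun]
    omega
  -- a non-singular vector in `T`
  have hex : ∃ u ∈ T, Q u ≠ 0 := by
    by_contra hcon
    push Not at hcon
    have hTpos : 0 < Module.finrank F T := by omega
    have hTne : T ≠ ⊥ := by
      intro h
      rw [h, finrank_bot] at hTpos
      exact lt_irrefl _ hTpos
    obtain ⟨x, hxT, hx0⟩ := Submodule.exists_mem_ne_zero_of_ne_bot hTne
    apply hx0
    apply hQ.2
    intro y
    have hy : y ∈ S ⊔ T := by rw [hsup]; exact Submodule.mem_top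
    obtain ⟨a, ha, b, hb, rfl⟩ := Submodule.mem_sup.1 hy
    rw [map_add, LinearMap.add_apply, hBapp, hBapp, (hmemT x).1 hxT a ha, zero_add]
    unfold QuadraticMap.polar
    rw [hcon _ (T.add_mem hb hxT), hcon _ hb, hcon _ hxT]
    ring
  obtain ⟨u, huT, hu⟩ := hex
  refine ⟨u, hu, ?_⟩
  intro i k hk k' hk'
  by_cases hk'0 : k' = 0
  · rw [hk'0, Matrix.zero_mulVec]
    unfold QuadraticMap.polar
    rw [add_zero, QuadraticMap.map_zero]
    ring
  · obtain ⟨k'', hk'', hkk⟩ := hK.inv k' hk' hk'0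
    have h1 : k *ᵥ v i = k' *ᵥ ((k'' * k) *ᵥ v i) := by
      rw [Matrix.mulVec_mulVec, ← Matrix.mul_assoc, hkk, Matrix.one_mul]
    rw [h1, hc.polar k' hk', (hmemT u).1 huT _ (hmemS i _ (K.mul_mem hk'' hk)), mul_zero]

/-- Gram–Schmidt over `K` -/
theorem np2_gs [Fintype F] (Q : QuadraticForm F (Fin n → F)) (hQ : (QuadraticMap.polarBilin Q).Nondegenerate)
    (K : Subalgebra F (Matrix (Fin n) (Fin n) F)) (hK : IsFieldSubalgebra 2 K)
    (c : Matrix (Fin n) (Fin n) F → F) (hc : Np2Sim Q K c) (j : ℕ) (hj : 2 * j ≤ n) :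
    ∃ v : Fin j → (Fin n → F), (∀ i, Q (v i) ≠ 0) ∧
      ∀ i i', i ≠ i' → ∀ k ∈ K, ∀ k' ∈ K, QuadraticMap.polar (⇑Q) (k *ᵥ v i) (k' *ᵥ v i') = 0 := by
  induction j with
  | zero => exact ⟨Fin.elim0, fun i => i.elim0, fun i => i.elim0⟩
  | succ j ih =>
    obtain ⟨v, hv, horth⟩ := ih (by omega)
    obtain ⟨u, hu, huo⟩ := np2_step Q hQ K hK c hc (by omega : 2 * j < n) v hv horth
    refine ⟨(Fin.snoc v u : Fin (j + 1) → (Fin n → F)), ?_, ?_⟩
    · intro i
      induction i using Fin.lastCases with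
      | last =>
        rw [Fin.snoc_last]
        exact hu
      | cast a =>
        rw [Fin.snoc_castSucc]
        exact hv a
    · intro i i' hii' k hk k' hk'
      induction i using Fin.lastCases with
      | last =>
        induction i' using Fin.lastCases with
        | last => exact absurd rfl hii'
        | cast b =>
          rw [Fin.snoc_last, Fin.snoc_castSucc, QuadraticMap.polar_comm]
          exact huo b k' hk' k hk
      | cast a =>
        induction i' using Fin.lastCases with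
        | last =>
          rw [Fin.snoc_last, Fin.snoc_castSucc]
          exact huo a k hk k' hk'
        | cast b =>
          rw [Fin.snoc_castSucc, Fin.snoc_castSucc]
          exact horth a b (fun h => hii' (by rw [h])) k hk k' hk'

/-- NP2, with the statement of NP1 as a hypothesis -/
theorem np2_core [Fintype F] (Q : QuadraticForm F (Fin n → F))
    (hNP1 : ∀ {t : ℕ}, Odd t → ∀ D : Fin t → Submodule F (Fin n → F),
      IsNondegenerateMDecomposition (QuadraticMap.polar (⇑Q)) 2 D →
      (∀ i, ∀ v ∈ D i, v ≠ 0 → Q v ≠ 0) →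
      (∀ i j, ∃ (σ : D i ≃ₗ[F] D j) (c : F), c ≠ 0 ∧
        ∀ w : D i, Q ((σ w : D j) : Fin n → F) = c * Q (w : Fin n → F)) → ¬ IsPlusTypeOn (⇑Q) ⊤)
    (hQ : (QuadraticMap.polarBilin Q).Nondegenerate) {m : ℕ} (hn : n = 2 * m) (hm : Odd m)
    (K : Subalgebra F (Matrix (Fin n) (Fin n) F)) (hK : IsFieldSubalgebra 2 K)
    (hsim : ∀ k ∈ K, ∃ c : F, ∀ v : Fin n → F, Q (k *ᵥ v) = c * Q v) : ¬ IsPlusTypeOn (⇑Q) ⊤ := by
  classical
  have hm1 : 1 ≤ m := hm.pos
  obtain ⟨c, hc⟩ := np2_sim_exists Q hQ (by omega) K hK hsim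
  obtain ⟨v, hv, horth⟩ := np2_gs Q hQ K hK c hc m (by omega)
  by_cases h1 : m = 1
  · -- a single anisotropic plane
    subst h1
    have hL : LinearMap.range (np2_line K (v 0)) = ⊤ := by
      apply Submodule.eq_top_of_finrank_eq
      rw [hc.line_finrank hK (v 0) (hv 0), Module.finrank_fin_fun]
      omega
    rintro ⟨U, -, hUts, hUdim⟩
    rw [finrank_top, Module.finrank_fin_fun] at hUdim
    have hUne : U ≠ ⊥ := by
      intro h
      rw [h, finrank_bot] at hUdim
      omega
    obtain ⟨u, huU, hu0⟩ := Submodule.exists_mem_ne_zero_of_ne_bot hUne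
    have huL : u ∈ LinearMap.range (np2_line K (v 0)) := by rw [hL]; exact Submodule.mem_top
    exact hc.line_aniso (v 0) (hv 0) u huL hu0 (hUts u huU)
  · have hm2 : 2 ≤ m := by
      obtain ⟨a, ha⟩ := hm
      omega
    obtain ⟨D, hDdef⟩ : ∃ D : Fin m → Submodule F (Fin n → F),
        ∀ i, D i = LinearMap.range (np2_line K (v i)) := ⟨_, fun i => rfl⟩
    have hnd : ∀ i, IsNondegenerateOn (QuadraticMap.polar (⇑Q)) (D i) := by
      intro i
      rw [hDdef]
      exact hc.line_nd hK (v i) (hv i)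
    have hor : ∀ i j, i ≠ j → AreOrthogonalFor (QuadraticMap.polar (⇑Q)) (D i) (D j) := by
      intro i j hij x hx y hy
      rw [hDdef] at hx hy
      obtain ⟨k, rfl⟩ := hx
      obtain ⟨k', rfl⟩ := hy
      exact horth i j hij _ k.2 _ k'.2
    have hfin : ∀ i, Module.finrank F (D i) = 2 := by
      intro i
      rw [hDdef]
      exact hc.line_finrank hK (v i) (hv i)
    have hind : iSupIndep D := np2_indep Q D hnd hor
    have htop : iSup D = ⊤ := by
      apply Submodule.eq_top_of_finrank_eq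
      rw [np2_finrank_iSup D hind, Module.finrank_fin_fun]
      simp only [hfin, Finset.sum_const, Finset.card_univ, Fintype.card_fin, smul_eq_mul]
      omega
    refine hNP1 hm D ⟨⟨hm2, by norm_num, hfin, hind, htop⟩, hnd, hor⟩ ?_ ?_
    · intro i p hp hp0
      rw [hDdef] at hp
      exact hc.line_aniso (v i) (hv i) p hp hp0
    · intro i j
      have hi := hc.line_inj (v i) (hv i)
      have hj := hc.line_inj (v j) (hv j)
      obtain ⟨σ, hσ⟩ : ∃ σ : D i ≃ₗ[F] D j, ∀ w : D i, ∀ k : K,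
          (w : Fin n → F) = (k : Matrix (Fin n) (Fin n) F) *ᵥ v i →
          ((σ w : D j) : Fin n → F) = (k : Matrix (Fin n) (Fin n) F) *ᵥ v j := by
        rw [hDdef i, hDdef j]
        refine ⟨(LinearEquiv.ofInjective (np2_line K (v i)) hi).symm.trans
          (LinearEquiv.ofInjective (np2_line K (v j)) hj), ?_⟩
        intro w k hw
        have h2 : (LinearEquiv.ofInjective (np2_line K (v i)) hi).symm w = k := by
          rw [LinearEquiv.symm_apply_eq]
          apply Subtype.ext
          rw [LinearEquiv.ofInjective_apply, np2_line_apply]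
          exact hw
        rw [LinearEquiv.trans_apply, h2, LinearEquiv.ofInjective_apply, np2_line_apply]
      refine ⟨σ, Q (v j) / Q (v i), div_ne_zero (hv j) (hv i), ?_⟩
      intro w
      have hw : (w : Fin n → F) ∈ LinearMap.range (np2_line K (v i)) := by
        rw [← hDdef]
        exact w.2
      obtain ⟨k, hk⟩ := hw
      rw [np2_line_apply] at hk
      rw [hσ w k hk.symm, ← hk, hc.sim k k.2, hc.sim k k.2]
      field_simp [hv i]

end Cfsg.Agent.Lib.Helper9.NotPlus
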