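import Mathlib
import Cfsg.Prelude.Def_GeometricClasses
import Cfsg.Agent.Lib.Helper9.NPNP1
import Cfsg.Agent.Lib.Helper22.NPNP2core

set_option autoImplicit false
set_option linter.unusedVariables false
set_option linter.unusedSectionVars false

/-!
# Block NP ("NOT PLUS"), piece NP2 (helper22) : `not_plus_of_unitary`, verbatim vs `Helper9/NotPlus/Skel.lean.txt`
(`np2_core` + helper9's `not_plus_of_odd_aniso_planes`).
-/

namespace Cfsg.Agent.Lib.Helper9.NotPlus

open Cfsg Cfsg.Geo
open scoped MatrixGroups Matrix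

variable {n : ℕ} {F : Type*} [Field F]

/-- NP2 (UNITARY) : a field `K` of degree 2 acting by similarities of `Q` on a space of dimension `2 m`, `m` odd: not of plus
type. -/
theorem not_plus_of_unitary [Fintype F] (Q : QuadraticForm F (Fin n → F))
    (hQ : (QuadraticMap.polarBilin Q).Nondegenerate) {m : ℕ} (hn : n = 2 * m) (hm : Odd m)
    (K : Subalgebra F (Matrix (Fin n) (Fin n) F)) (hK : IsFieldSubalgebra 2 K)
    (hsim : ∀ k ∈ K, ∃ c : F, ∀ v : Fin n → F, Q (k *ᵥ v) = c * Q v) : ¬ IsPlusTypeOn (⇑Q) ⊤ :=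
  np2_core Q (fun ht D hD ha hs => not_plus_of_odd_aniso_planes Q ht D hD ha hs) hQ hn hm K hK hsim

end Cfsg.Agent.Lib.Helper9.NotPlus
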