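import Mathlib
import Cfsg.Agent.S3379
import Cfsg.Agent.Lib.Helper1.Nilp

set_option autoImplicit false

namespace Cfsg.Agent.Lib.Helper22.NearB

open scoped commutatorElement

/-- In a finite group all of whose Sylow subgroups are cyclic, the commutator subgroup is abelian
and so is its centralizer. -/
theorem zgroup_abelian {Γ : Type*} [Group Γ] [Finite Γ]
    (hZ : ∀ (p : ℕ) [Fact p.Prime] (P : Sylow p Γ), IsCyclic (P : Subgroup Γ)) :
    commutator Γ ≤ Subgroup.centralizer (commutator Γ : Set Γ) ∧
    ∀ a ∈ Subgroup.centralizer (commutator Γ : Set Γ),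
      ∀ b ∈ Subgroup.centralizer (commutator Γ : Set Γ), a * b = b * a := by
  classical
  obtain ⟨x, y, n, m, r, hcl, hxn, hym, hconj, hc1, hc2, hr1, hrn⟩ := Cfsg.Agent.S3379.result hZ
  -- `y` lies in the commutator subgroup
  have hy : y ∈ commutator Γ := by
    have h1 : y ^ (r - 1) ∈ commutator Γ := by
      have h2 : y ^ (r - 1) = ⁅y⁻¹, x⁻¹⁆ := by
        rw [commutatorElement_def, inv_inv, inv_inv]
        have h3 : y⁻¹ * x⁻¹ * y * x = y⁻¹ * (x⁻¹ * y * x) := by group
        rw [h3, hconj]
        have h4 : y ^ r = y * y ^ (r - 1) := by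
          rw [← pow_succ']
          congr 1
          omega
        rw [h4, inv_mul_cancel_left]
      rw [h2, commutator_def]
      exact Subgroup.commutator_mem_commutator (Subgroup.mem_top _) (Subgroup.mem_top _)
    have hcop : (r - 1).Coprime (orderOf y) := by rw [hym]; exact hc1
    obtain ⟨k, hk⟩ := exists_pow_eq_self_of_coprime hcop
    rw [← hk]
    exact Subgroup.pow_mem _ h1 k
  -- the abelianization is cyclic
  have hgen : ∀ g : Γ, Abelianization.of g ∈ Subgroup.zpowers (Abelianization.of x) := by
    intro g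
    have hg : g ∈ Subgroup.closure ({x, y} : Set Γ) := by rw [hcl]; exact Subgroup.mem_top g
    induction hg using Subgroup.closure_induction with
    | mem z hz =>
      rcases hz with rfl | hz
      · exact Subgroup.mem_zpowers _
      · rw [Set.mem_singleton_iff] at hz
        subst hz
        have : Abelianization.of z = 1 := by
          rw [← MonoidHom.mem_ker, Abelianization.ker_of]
          exact hy
        rw [this]
        exact Subgroup.one_mem _
    | one => rw [map_one]; exact Subgroup.one_mem _
    | mul a b _ _ iha ihb => rw [map_mul]; exact Subgroup.mul_mem _ iha ihb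
    | inv a _ iha => rw [map_inv]; exact Subgroup.inv_mem _ iha
  have hcyc : IsCyclic (Abelianization Γ) := by
    refine ⟨⟨Abelianization.of x, ?_⟩⟩
    intro q
    obtain ⟨g, rfl⟩ := QuotientGroup.mk_surjective q
    exact hgen g
  -- the commutator subgroup is generated by `y`... we only need: it is abelian
  have hYn : (Subgroup.zpowers y).Normal := by
    rw [← Subgroup.normalizer_eq_top_iff, eq_top_iff, ← hcl, Subgroup.closure_le]
    intro g hg
    rcases hg with rfl | hg
    · have hxinv : g⁻¹ ∈ Subgroup.normalizer ((Subgroup.zpowers y : Subgroup Γ) : Set Γ) := by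
        apply Subgroup.mem_normalizer_fintype
        intro k hk
        obtain ⟨j, rfl⟩ := Subgroup.mem_zpowers_iff.mp hk
        have h1 : g⁻¹ * y ^ j * g⁻¹⁻¹ = (g⁻¹ * y * g) ^ j := by
          have := conj_zpow (a := g⁻¹) (b := y) (i := j)
          rw [inv_inv] at this ⊢
          exact this.symm
        rw [h1, hconj]
        exact Subgroup.zpow_mem _ (Subgroup.pow_mem _ (Subgroup.mem_zpowers y) r) j
      have := Subgroup.inv_mem _ hxinv
      rwa [inv_inv] at this
    · rw [Set.mem_singleton_iff] at hg
      subst hg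
      exact Subgroup.le_normalizer (Subgroup.mem_zpowers g)
  have hgenY : ∀ g : Γ, QuotientGroup.mk' (Subgroup.zpowers y) g ∈
      Subgroup.zpowers (QuotientGroup.mk' (Subgroup.zpowers y) x) := by
    intro g
    have hg : g ∈ Subgroup.closure ({x, y} : Set Γ) := by rw [hcl]; exact Subgroup.mem_top g
    induction hg using Subgroup.closure_induction with
    | mem z hz =>
      rcases hz with rfl | hz
      · exact Subgroup.mem_zpowers _
      · rw [Set.mem_singleton_iff] at hz
        subst hz
        have : QuotientGroup.mk' (Subgroup.zpowers z) z = 1 :=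
          (QuotientGroup.eq_one_iff z).2 (Subgroup.mem_zpowers z)
        rw [this]
        exact Subgroup.one_mem _
    | one => rw [map_one]; exact Subgroup.one_mem _
    | mul a b _ _ iha ihb => rw [map_mul]; exact Subgroup.mul_mem _ iha ihb
    | inv a _ iha => rw [map_inv]; exact Subgroup.inv_mem _ iha
  have hcycY : IsCyclic (Γ ⧸ Subgroup.zpowers y) := by
    refine ⟨⟨QuotientGroup.mk' (Subgroup.zpowers y) x, ?_⟩⟩
    intro q
    obtain ⟨g, rfl⟩ := QuotientGroup.mk_surjective q
    exact hgenY g
  have hle : commutator Γ ≤ Subgroup.zpowers y := by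
    let _ : CommGroup (Γ ⧸ Subgroup.zpowers y) := IsCyclic.commGroup
    have := Abelianization.commutator_subset_ker (QuotientGroup.mk' (Subgroup.zpowers y))
    rwa [QuotientGroup.ker_mk'] at this
  have hcomm : ∀ a ∈ commutator Γ, ∀ b ∈ commutator Γ, a * b = b * a := by
    intro a ha b hb
    obtain ⟨i, rfl⟩ := Subgroup.mem_zpowers_iff.mp (hle ha)
    obtain ⟨j, rfl⟩ := Subgroup.mem_zpowers_iff.mp (hle hb)
    rw [← zpow_add, ← zpow_add, add_comm]
  refine ⟨?_, ?_⟩
  · intro a ha
    rw [Subgroup.mem_centralizer_iff]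
    intro b hb
    exact hcomm b hb a ha
  · set A := Subgroup.centralizer (commutator Γ : Set Γ) with hA
    let g : A →* Abelianization Γ := Abelianization.of.comp A.subtype
    have hker : g.ker ≤ Subgroup.center A := by
      intro a ha
      have ha' : (a : Γ) ∈ commutator Γ := by
        rw [← Abelianization.ker_of]
        exact ha
      rw [Subgroup.mem_center_iff]
      intro b
      apply Subtype.ext
      have hb : (b : Γ) ∈ Subgroup.centralizer (commutator Γ : Set Γ) := b.2
      rw [Subgroup.mem_centralizer_iff] at hb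
      exact (hb a ha').symm
    intro a ha b hb
    have := (g.isMulCommutative_of_isCyclic_of_ker_le_center hker).is_comm.comm ⟨a, ha⟩ ⟨b, hb⟩
    exact congrArg Subtype.val this


/-- A group mapping to `S₄` with a kernel all of whose Sylow subgroups are cyclic has a maximal
normal abelian subgroup `Z` with `|C(Z)|` dividing `24 |Z|`. -/
theorem exists_max_abelian {H : Type*} [Group H] [Finite H] (f : H →* Equiv.Perm (Fin 4))
    (hZ : ∀ (p : ℕ) [Fact p.Prime] (P : Sylow p f.ker), IsCyclic (P : Subgroup f.ker)) :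
    ∃ Z : Subgroup H, Z.Normal ∧ (∀ a ∈ Z, ∀ b ∈ Z, a * b = b * a) ∧
      (∀ B : Subgroup H, B.Normal → (∀ a ∈ B, ∀ b ∈ B, a * b = b * a) → Z ≤ B → B = Z) ∧
      Nat.card (Subgroup.centralizer (Z : Set H)) ∣ 24 * Nat.card Z := by
  classical
  obtain ⟨h1, h2⟩ := zgroup_abelian hZ
  set A₀ : Subgroup f.ker := Subgroup.centralizer (commutator f.ker : Set f.ker) with hA₀
  have hchar : A₀.Characteristic := Subgroup.characteristic_centralizer
  set A' : Subgroup H := A₀.map f.ker.subtype with hA'
  have hA'n : A'.Normal := ConjAct.normal_of_characteristic_of_normal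
  have hA'c : ∀ a ∈ A', ∀ b ∈ A', a * b = b * a := by
    rintro _ ⟨a, ha, rfl⟩ _ ⟨b, hb, rfl⟩
    have := h2 a ha b hb
    exact congrArg Subtype.val this
  -- self-centralizing in the kernel
  have hself : ∀ g : H, g ∈ f.ker → (∀ a ∈ A', a * g = g * a) → g ∈ A' := by
    intro g hg hcent
    refine ⟨⟨g, hg⟩, ?_, rfl⟩
    show (⟨g, hg⟩ : f.ker) ∈ Subgroup.centralizer (commutator f.ker : Set f.ker)
    rw [Subgroup.mem_centralizer_iff]
    intro c hc
    have hcA : (c : H) ∈ A' := ⟨c, h1 hc, rfl⟩
    apply Subtype.ext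
    exact hcent c hcA
  -- a maximal normal abelian subgroup containing A'
  let S : Set (Subgroup H) := {B | B.Normal ∧ (∀ a ∈ B, ∀ b ∈ B, a * b = b * a) ∧ A' ≤ B}
  have hS : S.Nonempty := ⟨A', hA'n, hA'c, le_rfl⟩
  obtain ⟨Z, hZS, hZmax⟩ := (Set.toFinite S).exists_maximal hS
  obtain ⟨hZn, hZc, hAZ⟩ := hZS
  refine ⟨Z, hZn, hZc, ?_, ?_⟩
  · intro B hBn hBc hZB
    have hBS : B ∈ S := ⟨hBn, hBc, hAZ.trans hZB⟩
    exact le_antisymm (hZmax hBS hZB) hZB
  · set K := Subgroup.centralizer (Z : Set H) with hK
    let g : K →* Equiv.Perm (Fin 4) := f.comp K.subtype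
    have hcard := Subgroup.card_mul_index g.ker
    rw [Subgroup.index_ker] at hcard
    rw [← hcard, mul_comm]
    apply Nat.mul_dvd_mul
    · have h24 : Nat.card (Equiv.Perm (Fin 4)) = 24 := by
        rw [Nat.card_eq_fintype_card, Fintype.card_perm, Fintype.card_fin]
        rfl
      rw [← h24]
      exact Subgroup.card_subgroup_dvd_card _
    · have hmem : ∀ k : g.ker, ((k : K) : H) ∈ Z := by
        intro k
        apply hAZ
        apply hself
        · exact k.2
        · intro a ha
          have hk : ((k : K) : H) ∈ Subgroup.centralizer (Z : Set H) := (k : K).2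
          rw [Subgroup.mem_centralizer_iff] at hk
          exact hk a (hAZ ha)
      let ι : g.ker →* Z :=
        { toFun := fun k => ⟨((k : K) : H), hmem k⟩
          map_one' := rfl
          map_mul' := fun _ _ => rfl }
      have hι : Function.Injective ι := by
        intro a b hab
        have := congrArg Subtype.val hab
        exact Subtype.ext (Subtype.ext this)
      exact Subgroup.card_dvd_of_injective ι hι

/-- If `Z` is a maximal normal abelian subgroup then `C(Z)/Z` is not of prime order. -/
theorem not_prime_index {H : Type*} [Group H] [Finite H] (Z : Subgroup H) (hZn : Z.Normal)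
    (hZc : ∀ a ∈ Z, ∀ b ∈ Z, a * b = b * a)
    (hmax : ∀ B : Subgroup H, B.Normal → (∀ a ∈ B, ∀ b ∈ B, a * b = b * a) → Z ≤ B → B = Z)
    (k : ℕ) (hk : k.Prime) :
    Nat.card (Subgroup.centralizer (Z : Set H)) ≠ k * Nat.card Z := by
  classical
  intro hcard
  set K := Subgroup.centralizer (Z : Set H) with hK
  have hZK : Z ≤ K := by
    intro a ha
    rw [hK, Subgroup.mem_centralizer_iff]
    intro b hb
    exact hZc b hb a ha
  have hKn : K.Normal := Subgroup.normal_centralizer
  have hZ'n : (Z.subgroupOf K).Normal := Subgroup.Normal.subgroupOf hZn K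
  have hidx : Nat.card (K ⧸ Z.subgroupOf K) = k := by
    have h1 := Subgroup.card_mul_index (Z.subgroupOf K)
    rw [hcard] at h1
    have h2 : Nat.card (Z.subgroupOf K) = Nat.card Z :=
      Nat.card_congr (Subgroup.subgroupOfEquivOfLe hZK).toEquiv
    rw [h2, Subgroup.index_eq_card, mul_comm] at h1
    have hZpos : 0 < Nat.card Z := Nat.card_pos
    exact Nat.eq_of_mul_eq_mul_right hZpos h1
  have : Fact k.Prime := ⟨hk⟩
  have hcyc : IsCyclic (K ⧸ Z.subgroupOf K) := isCyclic_of_prime_card hidx
  have hker : (QuotientGroup.mk' (Z.subgroupOf K)).ker ≤ Subgroup.center K := by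
    rw [QuotientGroup.ker_mk']
    intro a ha
    rw [Subgroup.mem_center_iff]
    intro b
    apply Subtype.ext
    have hb : (b : H) ∈ Subgroup.centralizer (Z : Set H) := b.2
    rw [Subgroup.mem_centralizer_iff] at hb
    exact (hb a ha).symm
  have hKc := (QuotientGroup.mk' (Z.subgroupOf K)).isMulCommutative_of_isCyclic_of_ker_le_center hker
  have hKc' : ∀ a ∈ K, ∀ b ∈ K, a * b = b * a := by
    intro a ha b hb
    exact congrArg Subtype.val (hKc.is_comm.comm ⟨a, ha⟩ ⟨b, hb⟩)
  have hKZ := hmax K hKn hKc' hZK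
  rw [hKZ] at hcard
  have hZpos : 0 < Nat.card Z := Nat.card_pos
  have : k = 1 := by
    have : 1 * Nat.card Z = k * Nat.card Z := by rw [one_mul]; exact hcard
    exact (Nat.eq_of_mul_eq_mul_right hZpos this).symm
  exact hk.one_lt.ne' this

/-- In a group of prime power order, a maximal normal abelian subgroup is self-centralizing. -/
theorem centralizer_eq_of_pgroup {H : Type*} [Group H] [Finite H] (Z : Subgroup H) (hZn : Z.Normal)
    (hZc : ∀ a ∈ Z, ∀ b ∈ Z, a * b = b * a)
    (hmax : ∀ B : Subgroup H, B.Normal → (∀ a ∈ B, ∀ b ∈ B, a * b = b * a) → Z ≤ B → B = Z)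
    (r e : ℕ) (hr : r.Prime) (hcard : Nat.card H = r ^ e) :
    Subgroup.centralizer (Z : Set H) = Z := by
  have : Fact r.Prime := ⟨hr⟩
  have hp : IsPGroup r H := IsPGroup.of_card hcard
  have hnil : Group.IsNilpotent H := hp.isNilpotent
  have hc : IsMulCommutative Z := (Cfsg.Agent.Lib.Helper1.isMulCommutative_subgroup_iff Z).2 hZc
  have := hZn
  apply Cfsg.Agent.Lib.Helper1.centralizer_eq_self_of_max_abelian_normal Z
  intro M hMn hMc hZM
  exact hmax M hMn ((Cfsg.Agent.Lib.Helper1.isMulCommutative_subgroup_iff M).1 hMc) hZM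

end Cfsg.Agent.Lib.Helper22.NearB
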