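import Mathlib

set_option autoImplicit false

namespace Cfsg.Agent.Lib.Helper22.NearC

/-- boolean check for the first numerical stage. -/
def chk (f p m : ℕ) : Bool :=
  !(decide (0 < f) && decide (2 ≤ p) && decide (2 ≤ m) && decide (p ^ f + 1 ≤ 24 * f) &&
    decide (((p ^ f) ^ m - 1) / (p ^ f - 1) ∣ 24 * f)) ||
  (decide (f = 1) && decide (m = 2) && (decide (p = 2) || decide (p = 3) || decide (p = 5) ||
    decide (p = 7) || decide (p = 11) || decide (p = 23))) ||
  (decide (f = 3) && decide (p = 2) && decide (m = 2))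

set_option maxRecDepth 100000 in
theorem chk_all : ∀ f : Fin 8, ∀ p : Fin 24, ∀ m : Fin 9, chk f p m = true := by
  decide

theorem stageA (f p m : ℕ) (hf : 0 < f) (hp : 2 ≤ p) (hm : 2 ≤ m) (hf8 : f < 8) (hp24 : p < 24)
    (hm9 : m < 9) (h1 : p ^ f + 1 ≤ 24 * f) (h2 : ((p ^ f) ^ m - 1) / (p ^ f - 1) ∣ 24 * f) :
    (f = 1 ∧ m = 2 ∧ (p = 2 ∨ p = 3 ∨ p = 5 ∨ p = 7 ∨ p = 11 ∨ p = 23)) ∨
      (f = 3 ∧ p = 2 ∧ m = 2) := by
  have h := chk_all ⟨f, hf8⟩ ⟨p, hp24⟩ ⟨m, hm9⟩
  simp only [chk, Bool.or_eq_true, Bool.not_eq_true', Bool.and_eq_false_iff, Bool.and_eq_true,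
    decide_eq_true_eq, decide_eq_false_iff_not] at h
  rcases h with (h | h) | h
  · rcases h with (((h | h) | h) | h) | h
    · exact absurd hf h
    · exact absurd hp h
    · exact absurd hm h
    · exact absurd h1 h
    · exact absurd h2 h
  · left
    obtain ⟨⟨hf1, hm2⟩, hp'⟩ := h
    refine ⟨hf1, hm2, ?_⟩
    rcases hp' with ((((h | h) | h) | h) | h) | h
    · exact Or.inl h
    · exact Or.inr (Or.inl h)
    · exact Or.inr (Or.inr (Or.inl h))
    · exact Or.inr (Or.inr (Or.inr (Or.inl h)))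
    · exact Or.inr (Or.inr (Or.inr (Or.inr (Or.inl h))))
    · exact Or.inr (Or.inr (Or.inr (Or.inr (Or.inr h))))
  · right
    obtain ⟨⟨hf3, hp2⟩, hm2⟩ := h
    exact ⟨hf3, hp2, hm2⟩


theorem two_pow_gt (f : ℕ) (h : 8 ≤ f) : 24 * f < 2 ^ f := by
  induction f, h using Nat.le_induction with
  | base => norm_num
  | succ n hn ih =>
    rw [pow_succ]
    omega

/-- the numerical part of the determination of the solvable exceptional near-fields. -/
theorem numerics (p f m t k z : ℕ) (hp : p.Prime) (hf : 0 < f) (hm : 2 ≤ m)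
    (ht : t ∣ f) (hz : z ∣ p ^ f - 1) (hk : k ∣ 24)
    (heq : (p ^ f) ^ m - 1 = t * (k * z))
    (hk2 : k ≠ 2) (hk3 : k ≠ 3)
    (hN : ∀ r e : ℕ, r.Prime → (p ^ f) ^ m - 1 = r ^ e → k = 1) :
    (p ^ f) ^ m = 25 ∨ (p ^ f) ^ m = 49 ∨ (p ^ f) ^ m = 121 ∨ (p ^ f) ^ m = 529 := by
  have hp2 := hp.two_le
  have hq2 : 2 ≤ p ^ f := by
    calc 2 ≤ p := hp2
      _ = p ^ 1 := (pow_one p).symm
      _ ≤ p ^ f := Nat.pow_le_pow_right (by omega) hf
  have hStage : (f = 1 ∧ m = 2 ∧ (p = 2 ∨ p = 3 ∨ p = 5 ∨ p = 7 ∨ p = 11 ∨ p = 23)) ∨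
      (f = 3 ∧ p = 2 ∧ m = 2) := by
    obtain ⟨q, hq⟩ : ∃ q, q = p ^ f := ⟨_, rfl⟩
    rw [← hq] at hq2 hz heq
    have hdvd : q - 1 ∣ q ^ m - 1 := Nat.sub_one_dvd_pow_sub_one q m
    obtain ⟨S, hS⟩ : ∃ S, S = (q ^ m - 1) / (q - 1) := ⟨_, rfl⟩
    have hSmul : S * (q - 1) = q ^ m - 1 := by rw [hS]; exact Nat.div_mul_cancel hdvd
    obtain ⟨z', hz'⟩ := hz
    have hz0 : 0 < z := by
      rcases Nat.eq_zero_or_pos z with h | h
      · rw [h, zero_mul] at hz'; omega
      · exact h
    have hSz : S * z' = t * k := by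
      have : (S * z') * z = (t * k) * z := by
        calc (S * z') * z = S * (z * z') := by ring
          _ = S * (q - 1) := by rw [hz']
          _ = q ^ m - 1 := hSmul
          _ = t * (k * z) := heq
          _ = (t * k) * z := by ring
      exact Nat.eq_of_mul_eq_mul_right hz0 this
    have hSd : S ∣ 24 * f := by
      have h1 : S ∣ t * k := ⟨z', hSz.symm⟩
      have h2 : t * k ∣ f * 24 := Nat.mul_dvd_mul ht hk
      rw [mul_comm 24 f]; exact h1.trans h2
    have hSle : S ≤ 24 * f := Nat.le_of_dvd (by omega) hSd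
    have hlow : q ^ (m - 1) ≤ S := by
      have h1 : q ^ (m - 1) * (q - 1) ≤ S * (q - 1) := by
        rw [hSmul]
        have h2 : q ^ m = q ^ (m - 1) * q := by
          rw [← pow_succ]; congr 1; omega
        have hpos : 1 ≤ q ^ (m - 1) := Nat.one_le_pow _ _ (by omega)
        rw [Nat.mul_sub, mul_one, ← h2]
        omega
      exact Nat.le_of_mul_le_mul_right h1 (by omega)
    have hq1 : q + 1 ≤ S := by
      have h1 : (q + 1) * (q - 1) ≤ S * (q - 1) := by
        rw [hSmul]
        have h2 : q ^ 2 ≤ q ^ m := Nat.pow_le_pow_right (by omega) hm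
        have h3 : (q + 1) * (q - 1) = q ^ 2 - 1 := by
          obtain ⟨q', rfl⟩ : ∃ q', q = q' + 1 := ⟨q - 1, by omega⟩
          rw [Nat.add_sub_cancel]
          have : (q' + 1) ^ 2 = (q' + 1 + 1) * q' + 1 := by ring
          rw [this, Nat.add_sub_cancel]
        rw [h3]
        omega
      exact Nat.le_of_mul_le_mul_right h1 (by omega)
    have hf8 : f < 8 := by
      by_contra hcon
      push Not at hcon
      have h1 := two_pow_gt f hcon
      have h2 : 2 ^ f ≤ p ^ f := Nat.pow_le_pow_left hp2 f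
      omega
    have hp24 : p < 24 := by
      rcases Nat.lt_or_ge f 2 with hf1 | hf2
      · have : f = 1 := by omega
        subst this
        rw [pow_one] at hq
        omega
      · by_contra hcon
        push Not at hcon
        have h1 : p ^ 2 ≤ p ^ f := Nat.pow_le_pow_right (by omega) hf2
        have h2 : 24 ^ 2 ≤ p ^ 2 := Nat.pow_le_pow_left hcon 2
        omega
    have hm9 : m < 9 := by
      have h1 : 2 ^ (m - 1) ≤ q ^ (m - 1) := Nat.pow_le_pow_left hq2 _
      have h2 : 2 ^ (m - 1) < 2 ^ 8 := by omega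
      have h3 := (Nat.pow_lt_pow_iff_right (by norm_num : 1 < 2)).1 h2
      omega
    refine stageA f p m hf hp2 hm hf8 hp24 hm9 ?_ ?_
    · rw [← hq]; omega
    · rw [← hq, ← hS]; exact hSd
  rcases hStage with ⟨rfl, rfl, hp'⟩ | ⟨rfl, rfl, rfl⟩
  · have ht1 : t = 1 := Nat.dvd_one.1 ht
    subst ht1
    rw [pow_one] at hz heq hN ⊢
    rw [one_mul] at heq
    rcases hp' with rfl | rfl | rfl | rfl | rfl | rfl
    · exfalso
      have hz1 : z = 1 := Nat.dvd_one.1 (by simpa using hz)
      subst hz1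
      omega
    · exfalso
      have hk1 := hN 2 3 Nat.prime_two (by norm_num)
      subst hk1
      have hz8 : z = 8 := by omega
      subst hz8
      norm_num at hz
    · left; norm_num
    · right; left; norm_num
    · right; right; left; norm_num
    · right; right; right; norm_num
  · exfalso
    have ht' : t = 1 ∨ t = 3 := (Nat.dvd_prime (by norm_num)).1 ht
    have hz' : z = 1 ∨ z = 7 := (Nat.dvd_prime (by norm_num)).1 (by simpa using hz)
    rcases ht' with rfl | rfl <;> rcases hz' with rfl | rfl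
    · have : k = 63 := by omega
      subst this
      norm_num at hk
    · have : k = 9 := by omega
      subst this
      norm_num at hk
    · have : k = 21 := by omega
      subst this
      norm_num at hk
    · have : k = 3 := by omega
      exact hk3 this

end Cfsg.Agent.Lib.Helper22.NearC
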