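import Mathlib
import Cfsg.Agent.S3358
import Cfsg.Agent.Lib.Helper22.NearA
import Cfsg.Agent.Lib.Helper22.NearB
import Cfsg.Agent.Lib.Helper22.NearC
import Cfsg.Agent.Lib.Helper22.FrobProdC
import Cfsg.Agent.Lib.helper6.RegLinC

set_option autoImplicit false

namespace Cfsg.Agent.Lib.Helper22.NearD

open Cfsg.Agent.Lib.Helper22.NearA Cfsg.Agent.Lib.Helper22.NearB Cfsg.Agent.Lib.Helper22.NearC

variable {p : ℕ} [Fact p.Prime] {V : Type*} [AddCommGroup V] [Module (ZMod p) V]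

/-- the action of a linear group as additive endomorphisms. -/
def rho (H : Subgroup (V ≃ₗ[ZMod p] V)) : H →* AddMonoid.End V where
  toFun h := (((h : V ≃ₗ[ZMod p] V) : V →ₗ[ZMod p] V)).toAddMonoidHom
  map_one' := rfl
  map_mul' _ _ := rfl

lemma rho_apply (H : Subgroup (V ≃ₗ[ZMod p] V)) (h : H) (v : V) :
    rho H h v = (h : V ≃ₗ[ZMod p] V) v := rfl

theorem main [Finite V] (H : Subgroup (V ≃ₗ[ZMod p] V))
    (hreg : ∀ v w : V, v ≠ 0 → w ≠ 0 → ∃! h : H, (h : V ≃ₗ[ZMod p] V) v = w)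
    (hI : ∀ A : Subgroup H, A.Normal → IsCyclic A → ∃ W : Submodule (ZMod p) V, W ≠ ⊥ ∧ W ≠ ⊤ ∧
      ∀ a ∈ A, ∀ v ∈ W, ((a : H) : V ≃ₗ[ZMod p] V) v ∈ W)
    (hsolv : Group.IsSolvable H) :
    Nat.card V = 25 ∨ Nat.card V = 49 ∨ Nat.card V = 121 ∨ Nat.card V = 529 := by
  classical
  have hp : p.Prime := Fact.out
  have hfinL : Finite (V ≃ₗ[ZMod p] V) :=
    Finite.of_injective (fun f => (f : V → V)) DFunLike.coe_injective
  have hfinH : Finite H := inferInstance
  -- three distinct vectors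
  obtain ⟨W₀, hW₀b, hW₀t, -⟩ := hI ⊥ inferInstance inferInstance
  obtain ⟨w₀, hw₀W, hw₀⟩ := (Submodule.ne_bot_iff W₀).mp hW₀b
  obtain ⟨v₀, hv₀W⟩ : ∃ v : V, v ∉ W₀ := by
    by_contra h
    push Not at h
    exact hW₀t (eq_top_iff.mpr fun v _ => h v)
  have hv₀ : v₀ ≠ 0 := fun h => hv₀W (h ▸ W₀.zero_mem)
  have hsemi : ∀ h : H, ∀ v : V, v ≠ 0 → rho H h v = v → h = 1 := by
    intro h v hv hfix
    obtain ⟨h0, -, huniq⟩ := hreg v v hv hv
    rw [huniq h hfix, huniq 1 (by simp)]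
  have reg : Reg (rho H) p :=
    { hp := hp
      exp := by
        intro v
        have h1 : ((p : ℕ) : ZMod p) • v = 0 := by rw [ZMod.natCast_self, zero_smul]
        rwa [Nat.cast_smul_eq_nsmul] at h1
      inj := by
        intro a b hab
        apply Subtype.ext
        apply LinearEquiv.ext
        intro v
        have := congrArg (fun g : AddMonoid.End V => g v) hab
        exact this
      trans := by
        intro v w hv hw
        obtain ⟨h, hh, -⟩ := hreg v w hv hw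
        exact ⟨h, hh⟩
      semi := hsemi
      nontriv := ⟨w₀, hw₀⟩ }
  have hntH : Nontrivial H := by
    obtain ⟨h, hh, -⟩ := hreg w₀ v₀ hw₀ hv₀
    refine ⟨⟨h, 1, ?_⟩⟩
    intro h1
    rw [h1] at hh
    apply hv₀W
    rw [← hh]
    simpa using hw₀W
  have hntV : Nontrivial V := ⟨⟨w₀, 0, hw₀⟩⟩
  -- the Frobenius complement structure
  have hFC := Cfsg.Agent.Lib.Helper22.FrobProdC.exists_frobenius_of_end (rho H) (by
    intro h hh w hw
    by_contra hw0
    exact hh (hsemi h w hw0 hw))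
  obtain ⟨G₀, -, ⟨f, rfl⟩, hSyl, -⟩ := Cfsg.Agent.S3358.result hsolv hFC
  obtain ⟨Z, hZn, hZc, hZmax, hKdvd⟩ := exists_max_abelian f hSyl
  obtain ⟨f₀, m, hf₀, hm, hV, hcyc, hzdvd, ⟨t, ht, hHt⟩, hirr⟩ := reg.field_data hZn hZc
  -- m ≥ 2
  have hm2 : 2 ≤ m := by
    by_contra hcon
    have hm1 : m = 1 := by omega
    obtain ⟨W, hWb, hWt, hWinv⟩ := hI Z hZn hcyc
    rcases hirr hm1 W.toAddSubgroup (fun z hz w hw => hWinv z hz w hw) with h | h
    · apply hWb
      rw [eq_bot_iff]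
      intro x hx
      have : x ∈ W.toAddSubgroup := hx
      rw [h] at this
      exact this
    · apply hWt
      rw [eq_top_iff]
      intro x _
      have : x ∈ W.toAddSubgroup := by rw [h]; exact AddSubgroup.mem_top x
      exact this
  -- |H| = |V| - 1
  have hHcard : Nat.card H = (p ^ f₀) ^ m - 1 := by
    rw [← hV, Cfsg.Agent.Lib.helper6.RegLinC.card_regular hreg hw₀,
      Module.natCard_eq_pow_finrank (K := ZMod p) (V := V), Nat.card_zmod]
  set K := Subgroup.centralizer (Z : Set H) with hK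
  have hZK : Z ≤ K := by
    intro a ha
    rw [hK, Subgroup.mem_centralizer_iff]
    intro b hb
    exact hZc b hb a ha
  obtain ⟨k, hk⟩ : Nat.card Z ∣ Nat.card K := Subgroup.card_dvd_of_le hZK
  have hZpos : 0 < Nat.card Z := Nat.card_pos
  have hk24 : k ∣ 24 := by
    rw [hk, mul_comm (Nat.card Z) k] at hKdvd
    exact Nat.dvd_of_mul_dvd_mul_right hZpos hKdvd
  have hkK : Nat.card K = k * Nat.card Z := by rw [hk, mul_comm]
  have heq : (p ^ f₀) ^ m - 1 = t * (k * Nat.card Z) := by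
    rw [← hHcard, hHt, hkK]
  have hkprime : ∀ k', k'.Prime → k ≠ k' := by
    intro k' hk' hkk
    apply not_prime_index Z hZn hZc hZmax k' hk'
    rw [← hkk]
    exact hkK
  have hN : ∀ r e : ℕ, r.Prime → (p ^ f₀) ^ m - 1 = r ^ e → k = 1 := by
    intro r e hr hre
    have h1 := centralizer_eq_of_pgroup Z hZn hZc hZmax r e hr (by rw [hHcard, hre])
    rw [← hK] at h1
    rw [h1] at hkK
    have : 1 * Nat.card Z = k * Nat.card Z := by rw [one_mul]; exact hkK
    exact (Nat.eq_of_mul_eq_mul_right hZpos this).symm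
  have := numerics p f₀ m t k (Nat.card Z) hp hf₀ hm2 ht hzdvd hk24 heq
    (hkprime 2 Nat.prime_two) (hkprime 3 Nat.prime_three) hN
  rw [hV]
  exact this

end Cfsg.Agent.Lib.Helper22.NearD
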