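import Mathlib
import Cfsg.Agent.Lib.Helper22.Sylow
import Cfsg.Agent.Lib.Helper22.Sylow2
import Cfsg.Agent.Lib.Helper22.BaerSuzuki
import Cfsg.Agent.S4153

set_option autoImplicit false

namespace Cfsg.Agent.Lib.Helper22

universe u

def NoInvert (G : Type*) [Group G] : Prop :=
  ∀ t x : G, Odd (orderOf x) → t * x * t⁻¹ = x⁻¹ → x = 1

theorem involution_mul_of_noInvert {G : Type*} [Group G] [Finite G] (h : NoInvert G) (s t : G)
    (hs : orderOf s = 2) (ht : orderOf t = 2) : ∃ k : ℕ, orderOf (s * t) = 2 ^ k := by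
  obtain ⟨k, m, hm, hkm⟩ := Nat.exists_eq_two_pow_mul_odd (orderOf_pos (s * t)).ne'
  have hs2 : s * s = 1 := by
    have := pow_orderOf_eq_one s
    rw [hs, pow_two] at this; exact this
  have ht2 : t * t = 1 := by
    have := pow_orderOf_eq_one t
    rw [ht, pow_two] at this; exact this
  have hsinv : s⁻¹ = s := inv_eq_of_mul_eq_one_left hs2
  have htinv : t⁻¹ = t := inv_eq_of_mul_eq_one_left ht2
  have hconj : s * (s * t) * s⁻¹ = (s * t)⁻¹ := by
    rw [mul_inv_rev, hsinv, htinv, ← mul_assoc, hs2, one_mul]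
  have ho : orderOf ((s * t) ^ (2 ^ k)) = m := by
    rw [orderOf_pow_of_dvd (pow_ne_zero _ two_ne_zero) (by rw [hkm]; exact dvd_mul_right _ _), hkm,
      Nat.mul_div_cancel_left _ (pow_pos two_pos k)]
  have h1 : (s * t) ^ (2 ^ k) = 1 := by
    apply h s _ (by rw [ho]; exact hm)
    rw [← conj_pow, hconj, inv_pow]
  refine ⟨k, ?_⟩
  rw [h1, orderOf_one] at ho
  rw [hkm, ← ho, mul_one]

theorem involutions_mem_sylow {G : Type*} [Group G] [Finite G] (h : NoInvert G) (P : Sylow 2 G) :
    {t : G | orderOf t = 2} ⊆ ((P : Subgroup G) : Set G) := by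
  have : Fact (Nat.Prime 2) := ⟨Nat.prime_two⟩
  apply baer_suzuki 2
  · intro x hx g
    show orderOf (g * x * g⁻¹) = 2
    have hx' : orderOf x = 2 := hx
    rw [← hx']
    symm
    apply SemiconjBy.orderOf_eq g
    unfold SemiconjBy
    group
  · intro s hs t ht
    have hs' : orderOf s = 2 := hs
    have ht' : orderOf t = 2 := ht
    obtain ⟨k, hk⟩ := involution_mul_of_noInvert h s t hs' ht'
    have hs2 : s * s = 1 := by
      have := pow_orderOf_eq_one s
      rw [hs', pow_two] at this; exact this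
    have ht2 : t * t = 1 := by
      have := pow_orderOf_eq_one t
      rw [ht', pow_two] at this; exact this
    have hsinv : s⁻¹ = s := inv_eq_of_mul_eq_one_left hs2
    have htinv : t⁻¹ = t := inv_eq_of_mul_eq_one_left ht2
    have hconj : s * (s * t) * s⁻¹ = (s * t)⁻¹ := by
      rw [mul_inv_rev, hsinv, htinv, ← mul_assoc, hs2, one_mul]
    have hT : IsPGroup 2 (Subgroup.zpowers s ⊔ Subgroup.zpowers (s * t) : Subgroup G) := by
      apply IsPGroup.to_sup_of_normal_right'
      · apply IsPGroup.of_card (n := 1)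
        rw [Nat.card_zpowers, hs', pow_one]
      · apply IsPGroup.of_card (n := k)
        rw [Nat.card_zpowers, hk]
      · rw [Subgroup.zpowers_le]
        apply Subgroup.mem_normalizer_fintype
        rintro n ⟨i, rfl⟩
        show s * (s * t) ^ i * s⁻¹ ∈ Subgroup.zpowers (s * t)
        rw [← conj_zpow, hconj]
        exact Subgroup.zpow_mem _ (Subgroup.inv_mem _ (Subgroup.mem_zpowers _)) i
    obtain ⟨R, hR⟩ := hT.exists_le_sylow
    refine ⟨R, hR (Subgroup.mem_sup_left (Subgroup.mem_zpowers s)), ?_⟩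
    have h1 : t = s * (s * t) := by rw [← mul_assoc, hs2, one_mul]
    rw [h1]
    exact hR (Subgroup.mul_mem _ (Subgroup.mem_sup_left (Subgroup.mem_zpowers s))
      (Subgroup.mem_sup_right (Subgroup.mem_zpowers (s * t))))

theorem noInvert_quotient {G : Type*} [Group G] [Finite G] (h : NoInvert G) (N : Subgroup G) [N.Normal]
    (hN : IsPGroup 2 N) : NoInvert (G ⧸ N) := by
  intro tb xb hxodd hinv
  by_contra hxb1
  have hord1 : orderOf xb ≠ 1 := fun h1 => hxb1 (orderOf_eq_one_iff.1 h1)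
  obtain ⟨p, hp, hpd⟩ := Nat.exists_prime_and_dvd hord1
  have : Fact p.Prime := ⟨hp⟩
  have hp2 : p ≠ 2 := by
    rintro rfl
    exact (Nat.not_even_iff_odd.2 hxodd) (even_iff_two_dvd.2 hpd)
  have hpodd : Odd p := hp.odd_of_ne_two hp2
  have hn0 : orderOf xb / p ≠ 0 := by
    intro h0
    rw [Nat.div_eq_zero_iff] at h0
    rcases h0 with h0 | h0
    · exact hp.ne_zero h0
    · exact absurd (Nat.le_of_dvd (orderOf_pos xb) hpd) (not_le.2 h0)
  set xb' := xb ^ (orderOf xb / p) with hxb'
  have hoxb' : orderOf xb' = p ^ 1 := by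
    rw [hxb', orderOf_pow_of_dvd hn0 (Nat.div_dvd_of_dvd hpd), pow_one]
    exact Nat.div_div_self hpd (orderOf_pos xb).ne'
  have hinv' : tb * xb' * tb⁻¹ = xb'⁻¹ := by
    rw [hxb', ← conj_pow, hinv, inv_pow]
  obtain ⟨x, ⟨l, hl⟩, hx⟩ := S4153.exists_plift p N xb' 1 hoxb'
  obtain ⟨t, rfl⟩ := QuotientGroup.mk_surjective tb
  have hpN : ¬ p ∣ Nat.card N := by
    intro hdvd
    obtain ⟨k, hk⟩ := hN.exists_card_eq
    rw [hk] at hdvd
    exact hp2 ((Nat.prime_dvd_prime_iff_eq hp Nat.prime_two).1 (hp.dvd_of_dvd_pow hdvd))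
  have hdisj : ∀ z : G, z ∈ Subgroup.zpowers x → z ∈ N → z = 1 := by
    intro z hzx hzN
    have h1 : orderOf z ∣ p ^ l := by rw [← hl]; exact orderOf_dvd_of_mem_zpowers hzx
    obtain ⟨k, hk⟩ := hN.exists_card_eq
    have h2 : orderOf z ∣ 2 ^ k := by
      rw [← hk]
      have := orderOf_dvd_natCard (⟨z, hzN⟩ : N)
      rwa [Subgroup.orderOf_mk] at this
    have hcop : (p ^ l).Coprime (2 ^ k) :=
      Nat.coprime_pow_primes _ _ hp Nat.prime_two hp2
    have h3 : orderOf z ∣ Nat.gcd (p ^ l) (2 ^ k) := Nat.dvd_gcd h1 h2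
    rw [hcop.gcd_eq_one, Nat.dvd_one] at h3
    exact orderOf_eq_one_iff.1 h3
  have hmku : (QuotientGroup.mk (t * x * t⁻¹) : G ⧸ N) = xb'⁻¹ := by
    rw [QuotientGroup.mk_mul, QuotientGroup.mk_mul, QuotientGroup.mk_inv, hx]
    exact hinv'
  have hu : t * x * t⁻¹ ∈ Subgroup.zpowers x ⊔ N := by
    have h1 : x * (t * x * t⁻¹) ∈ N := by
      rw [← QuotientGroup.eq_one_iff, QuotientGroup.mk_mul, hmku, hx, mul_inv_cancel]
    have h2 : t * x * t⁻¹ = x⁻¹ * (x * (t * x * t⁻¹)) := by group
    rw [h2]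
    exact Subgroup.mul_mem_sup (Subgroup.inv_mem _ (Subgroup.mem_zpowers x)) h1
  have hou : orderOf (t * x * t⁻¹) = p ^ l := by
    rw [← hl]
    symm
    apply SemiconjBy.orderOf_eq t
    unfold SemiconjBy
    group
  have hAp : IsPGroup p (Subgroup.zpowers x) := by
    apply IsPGroup.of_card (n := l)
    rw [Nat.card_zpowers, hl]
  obtain ⟨g, hg, hgu⟩ := exists_conj_mem_of_pelement p (Subgroup.zpowers x ⊔ N)
    (Subgroup.zpowers x) hAp (not_dvd_relIndex_zpowers_sup p x l hl N hpN)
    (t * x * t⁻¹) hu l hou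
  have hmkg : ∃ i : ℤ, (QuotientGroup.mk g : G ⧸ N) = xb' ^ i := by
    have h5 : g ∈ ((Subgroup.zpowers x ⊔ N : Subgroup G) : Set G) := hg
    rw [Subgroup.mul_normal, Set.mem_mul] at h5
    obtain ⟨s, hs, n, hn, rfl⟩ := h5
    obtain ⟨j, rfl⟩ := hs
    refine ⟨j, ?_⟩
    rw [QuotientGroup.mk_mul, (QuotientGroup.eq_one_iff n).2 hn, mul_one, QuotientGroup.mk_zpow, hx]
  obtain ⟨i, hi⟩ := hmkg
  have hcinv : (g⁻¹ * t) * x * (g⁻¹ * t)⁻¹ = x⁻¹ := by
    have h1 : (g⁻¹ * t) * x * (g⁻¹ * t)⁻¹ = g⁻¹ * (t * x * t⁻¹) * g := by group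
    rw [h1]
    have h2 : x * (g⁻¹ * (t * x * t⁻¹) * g) = 1 := by
      apply hdisj
      · exact Subgroup.mul_mem _ (Subgroup.mem_zpowers x) hgu
      · rw [← QuotientGroup.eq_one_iff, QuotientGroup.mk_mul, QuotientGroup.mk_mul, QuotientGroup.mk_mul,
          QuotientGroup.mk_inv, hmku, hx, hi]
        have hc : Commute (xb' ^ i) xb'⁻¹ := ((Commute.refl xb').zpow_left i).inv_right
        rw [mul_assoc (xb' ^ i)⁻¹, ← hc.eq, ← mul_assoc (xb' ^ i)⁻¹, inv_mul_cancel, one_mul,
          mul_inv_cancel]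
    exact (eq_inv_of_mul_eq_one_right h2)
  have hx1 : x = 1 := h (g⁻¹ * t) x (by rw [hl]; exact hpodd.pow) hcinv
  have hxb'1 : xb' = 1 := by rw [← hx, hx1]; rfl
  rw [hxb'1, orderOf_one, pow_one] at hoxb'
  exact hp.one_lt.ne hoxb'

theorem sylow2_normal_of_noInvert : ∀ (n : ℕ) (G : Type u) [Group G] [Finite G], Nat.card G = n →
    NoInvert G → ∀ P : Sylow 2 G, (P : Subgroup G).Normal := by
  intro n
  induction n using Nat.strong_induction_on with
  | _ n ih =>
    intro G _ _ hn hNI P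
    have : Fact (Nat.Prime 2) := ⟨Nat.prime_two⟩
    by_cases hinv : ∃ t : G, orderOf t = 2
    · obtain ⟨t₀, ht₀⟩ := hinv
      have hIP : ∀ R : Sylow 2 G, {t : G | orderOf t = 2} ⊆ ((R : Subgroup G) : Set G) :=
        fun R => involutions_mem_sylow hNI R
      set N : Subgroup G := Subgroup.closure {t : G | orderOf t = 2} with hNdef
      have hNP : N ≤ (P : Subgroup G) := (Subgroup.closure_le _).2 (hIP P)
      have hNnormal : N.Normal := by
        constructor
        intro n hn g
        have hle : N ≤ N.comap (MulAut.conj g).toMonoidHom := by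
          rw [hNdef, Subgroup.closure_le]
          intro z hz
          show g * z * g⁻¹ ∈ Subgroup.closure {t : G | orderOf t = 2}
          apply Subgroup.subset_closure
          show orderOf (g * z * g⁻¹) = 2
          have hz' : orderOf z = 2 := hz
          rw [← hz']
          symm
          apply SemiconjBy.orderOf_eq g
          unfold SemiconjBy
          group
        exact hle hn
      have hN2 : IsPGroup 2 N := P.2.to_le hNP
      have ht₀N : t₀ ∈ N := Subgroup.subset_closure ht₀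
      have hcardN : 2 ≤ Nat.card N := by
        have h1 : orderOf t₀ ∣ Nat.card N := by
          have := orderOf_dvd_natCard (⟨t₀, ht₀N⟩ : N)
          rwa [Subgroup.orderOf_mk] at this
        rw [ht₀] at h1
        exact Nat.le_of_dvd Nat.card_pos h1
      have hcardlt : Nat.card (G ⧸ N) < n := by
        have h1 := Subgroup.card_eq_card_quotient_mul_card_subgroup N
        have h2 : 0 < Nat.card (G ⧸ N) := Nat.card_pos
        rw [← hn, h1]
        nlinarith
      have hquot := ih _ hcardlt (G ⧸ N) rfl (noInvert_quotient hNI N hN2)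
        (P.mapSurjective (QuotientGroup.mk'_surjective N))
      have hcomap : (P : Subgroup G) =
          ((P.mapSurjective (QuotientGroup.mk'_surjective N) : Sylow 2 (G ⧸ N)) :
            Subgroup (G ⧸ N)).comap (QuotientGroup.mk' N) := by
        rw [Sylow.coe_mapSurjective, Subgroup.comap_map_eq, QuotientGroup.ker_mk', sup_of_le_left hNP]
      rw [hcomap]
      exact Subgroup.Normal.comap hquot _
    · have h2 : ¬ 2 ∣ Nat.card G := fun h => hinv (exists_prime_orderOf_dvd_card' 2 h)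
      have hbot : (P : Subgroup G) = ⊥ := by
        obtain ⟨k, hk⟩ := P.2.exists_card_eq
        rw [← Subgroup.card_eq_one, hk]
        rcases Nat.eq_zero_or_pos k with rfl | hkpos
        · rfl
        · exfalso
          apply h2
          have h3 : 2 ∣ Nat.card (P : Subgroup G) := by rw [hk]; exact dvd_pow_self 2 hkpos.ne'
          exact dvd_trans h3 (Subgroup.card_subgroup_dvd_card _)
      rw [hbot]
      infer_instance

end Cfsg.Agent.Lib.Helper22
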