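import Mathlib
import Cfsg.Agent.S3995

set_option autoImplicit false

namespace Cfsg.Agent.Lib.Helper22.NseA

open Cfsg.Agent.S3995 Cfsg.Agent.Lib.Helper22

theorem sum_divisors_cop (f : ℕ → ℕ) {a b : ℕ} (h : a.Coprime b) :
    ∑ e ∈ (a * b).divisors, f e = ∑ x ∈ a.divisors, ∑ y ∈ b.divisors, f (x * y) := by
  rw [Nat.divisors_mul, Finset.mul_def, Finset.sum_image h.mul_injOn_divisors,
    Finset.sum_product]

theorem sum_divisors_prime (f : ℕ → ℕ) {p : ℕ} (hp : p.Prime) :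
    ∑ e ∈ p.divisors, f e = f 1 + f p := by
  rw [hp.divisors, Finset.sum_pair hp.one_lt.ne]

theorem divisors_four : (4 : ℕ).divisors = {1, 2, 4} := by decide

theorem sum_divisors_four (f : ℕ → ℕ) : ∑ e ∈ (4 : ℕ).divisors, f e = f 1 + f 2 + f 4 := by
  rw [divisors_four]
  simp [Finset.sum_insert, add_assoc]

section
variable {G : Type*} [Group G] [Finite G]

theorem frobD (d : ℕ) (hd : d ∣ Nat.card G) : d ∣ ∑ e ∈ d.divisors, cnt G e := by
  have hd0 : d ≠ 0 := by
    rintro rfl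
    have := Nat.card_pos (α := G)
    rw [zero_dvd_iff] at hd
    omega
  exact frob_sum d hd d.divisors (fun e he => Nat.dvd_of_mem_divisors he)
    (fun e he => Nat.mem_divisors.2 ⟨he, hd0⟩)

theorem frobZ (d : ℕ) (hd : d ∣ Nat.card G) (p : ℕ) (hpd : p ∣ d) :
    ((∑ e ∈ d.divisors, cnt G e : ℕ) : ZMod p) = 0 := by
  rw [ZMod.natCast_eq_zero_iff]
  exact hpd.trans (frobD d hd)

theorem cnt_pos_of (g : G) : cnt G (orderOf g) ≠ 0 := by
  unfold cnt
  haveI : Nonempty {x : G // orderOf x = orderOf g} := ⟨⟨g, rfl⟩⟩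
  exact Nat.card_pos.ne'

theorem cnt_prime_ne_zero {p : ℕ} (hp : p.Prime) (hd : p ∣ Nat.card G) : cnt G p ≠ 0 := by
  haveI : Fact p.Prime := ⟨hp⟩
  obtain ⟨g, hg⟩ := exists_prime_orderOf_dvd_card' p hd
  rw [← hg]
  exact cnt_pos_of g

theorem exists_of_cnt_ne_zero {k : ℕ} (h : cnt G k ≠ 0) : ∃ g : G, orderOf g = k := by
  by_contra hne
  exact h (cnt_eq_zero k hne)

theorem even_cnt {k : ℕ} (hk : 3 ≤ k) : 2 ∣ cnt G k := by
  have h1 : k.totient ∣ cnt G k := totient_dvd_card_orderOf_eq k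
  have h2 : Even k.totient := Nat.totient_even (by omega)
  exact (even_iff_two_dvd.1 h2).trans h1

theorem frob_p {p : ℕ} (hp : p.Prime) (hd : p ∣ Nat.card G) : p ∣ 1 + cnt G p := by
  have h := frobD (G := G) p hd
  rwa [sum_divisors_prime _ hp, cnt_one] at h

theorem frob_pZ {p : ℕ} (hp : p.Prime) (hd : p ∣ Nat.card G) : ((cnt G p : ℕ) : ZMod p) = -1 := by
  have h := frob_p hp hd
  rw [← ZMod.natCast_eq_zero_iff] at h
  push_cast at h
  linear_combination h

end

theorem exp_pq (f : ℕ → ℕ) {p q : ℕ} (hp : p.Prime) (hq : q.Prime) (hpq : p ≠ q) :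
    ∑ e ∈ (p * q).divisors, f e = f 1 + f q + (f p + f (p * q)) := by
  rw [sum_divisors_cop f ((Nat.coprime_primes hp hq).2 hpq), sum_divisors_prime _ hp,
    sum_divisors_prime _ hq, sum_divisors_prime _ hq]
  simp only [one_mul, mul_one]

theorem exp_pqr (f : ℕ → ℕ) {p q r : ℕ} (hp : p.Prime) (hq : q.Prime) (hr : r.Prime)
    (hpq : p ≠ q) (hpr : p ≠ r) (hqr : q ≠ r) :
    ∑ e ∈ (p * q * r).divisors, f e =
      f 1 + f r + (f q + f (q * r)) + (f p + f (p * r) + (f (p * q) + f (p * q * r))) := by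
  have hc : (p * q).Coprime r :=
    Nat.Coprime.mul_left ((Nat.coprime_primes hp hr).2 hpr) ((Nat.coprime_primes hq hr).2 hqr)
  rw [sum_divisors_cop f hc, exp_pq _ hp hq hpq]
  simp only [sum_divisors_prime _ hr, one_mul, mul_one]

theorem cop_four {p : ℕ} (hp : p.Prime) (hp2 : p ≠ 2) : Nat.Coprime 4 p := by
  have h : Nat.Coprime 2 p := (Nat.coprime_primes Nat.prime_two hp).2 (Ne.symm hp2)
  exact Nat.Coprime.pow_left 2 h

theorem exp_4p (f : ℕ → ℕ) {p : ℕ} (hp : p.Prime) (hp2 : p ≠ 2) :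
    ∑ e ∈ (4 * p).divisors, f e = f 1 + f p + (f 2 + f (2 * p)) + (f 4 + f (4 * p)) := by
  rw [sum_divisors_cop f (cop_four hp hp2), sum_divisors_four]
  simp only [sum_divisors_prime _ hp, one_mul, mul_one]

theorem exp_4pq (f : ℕ → ℕ) {p q : ℕ} (hp : p.Prime) (hq : q.Prime) (hpq : p ≠ q)
    (hp2 : p ≠ 2) (hq2 : q ≠ 2) :
    ∑ e ∈ (4 * (p * q)).divisors, f e =
      f 1 + f q + (f p + f (p * q)) + (f 2 + f (2 * q) + (f (2 * p) + f (2 * (p * q)))) +
        (f 4 + f (4 * q) + (f (4 * p) + f (4 * (p * q)))) := by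
  have hc : Nat.Coprime 4 (p * q) := Nat.Coprime.mul_right (cop_four hp hp2) (cop_four hq hq2)
  rw [sum_divisors_cop f hc, sum_divisors_four]
  simp only [exp_pq _ hp hq hpq, one_mul, mul_one]

theorem three_le_mul {p q : ℕ} (hp : p.Prime) (hq : q.Prime) : 3 ≤ p * q := by
  have := hp.two_le
  have := hq.two_le
  nlinarith

theorem exp_sq (f : ℕ → ℕ) {p : ℕ} (hp : p.Prime) :
    ∑ e ∈ (p ^ 2).divisors, f e = f (p ^ 2) + (f p + f 1) := by
  rw [hp.divisors_sq]
  have h1 : p ≠ 1 := hp.one_lt.ne'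
  have h2 : p ^ 2 ≠ p := by
    have := hp.two_le
    nlinarith
  have h3 : p ^ 2 ≠ 1 := by
    have := hp.two_le
    nlinarith
  rw [Finset.sum_insert (by simp [h2, h3, h1]), Finset.sum_pair h1]

theorem four_dvd_pred_mul {p q : ℕ} (hp : Odd p) (hq : Odd q) : 4 ∣ (p - 1) * (q - 1) := by
  obtain ⟨x, rfl⟩ := hp
  obtain ⟨y, rfl⟩ := hq
  refine ⟨x * y, ?_⟩
  simp only [Nat.add_sub_cancel]
  ring

theorem totient_four : Nat.totient 4 = 2 := by decide

theorem two_ne_zero_Z {p : ℕ} (hp : p.Prime) (hp2 : p ≠ 2) : (2 : ZMod p) ≠ 0 := by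
  intro h
  have h1 : ((2 : ℕ) : ZMod p) = 0 := by exact_mod_cast h
  rw [ZMod.natCast_eq_zero_iff] at h1
  exact hp2 ((Nat.prime_dvd_prime_iff_eq hp Nat.prime_two).1 h1)

theorem one_ne_neg_one_Z {p : ℕ} (hp : p.Prime) (hp2 : p ≠ 2) : (1 : ZMod p) ≠ -1 := by
  intro h
  apply two_ne_zero_Z hp hp2
  linear_combination h

section
variable {G : Type*} [Group G] [Finite G]

theorem lemA {p q : ℕ} (hp : p.Prime) (hq : q.Prime) (hpq : p ≠ q)
    (hpd : p ∣ Nat.card G) (hqd : q ∣ Nat.card G) (hc : cnt G p = cnt G q) :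
    ((cnt G (p * q) : ℕ) : ZMod p) = 1 := by
  have hd : p * q ∣ Nat.card G :=
    ((Nat.coprime_primes hp hq).2 hpq).mul_dvd_of_dvd_of_dvd hpd hqd
  have h1 := frobZ (G := G) (p * q) hd p (dvd_mul_right p q)
  rw [exp_pq _ hp hq hpq, cnt_one, ← hc] at h1
  have h3 := frob_pZ hp hpd
  push_cast at h1
  linear_combination h1 - 2 * h3

theorem sum_cnt_le (T : Finset ℕ) : ∑ e ∈ T, cnt G e ≤ Nat.card G := by
  classical
  let _ : Fintype G := Fintype.ofFinite G
  have h1 : ∑ e ∈ T, cnt G e = (Finset.univ.filter (fun g : G => orderOf g ∈ T)).card := by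
    rw [Finset.card_eq_sum_card_fiberwise (f := orderOf) (t := T)]
    · apply Finset.sum_congr rfl
      intro e he
      unfold cnt
      rw [Nat.card_eq_fintype_card, Fintype.card_subtype]
      congr 1
      ext g
      simp only [Finset.mem_filter, Finset.mem_univ, true_and]
      constructor
      · intro h; exact ⟨by rw [h]; exact he, h⟩
      · rintro ⟨_, h⟩; exact h
    · intro g hg
      simp only [Finset.coe_filter, Finset.mem_univ, true_and, Set.mem_ofPred_eq] at hg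
      exact hg
  rw [h1, Nat.card_eq_fintype_card]
  exact Finset.card_le_univ _

end

section
variable {G : Type*} [Group G] [Finite G]

theorem central_of_uniq (z : G) (hz : orderOf z = 2) (hu : ∀ x : G, orderOf x = 2 → x = z)
    (g : G) : g * z = z * g := by
  have h1 : orderOf (MulAut.conj g z) = 2 := by rw [MulEquiv.orderOf_eq, hz]
  have h2 := hu _ h1
  rw [MulAut.conj_apply] at h2
  calc g * z = g * z * g⁻¹ * g := by group
    _ = z * g := by rw [h2]

theorem orderOf_mul_invol_of_odd (z : G) (hz : orderOf z = 2) (hzc : ∀ g : G, g * z = z * g)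
    {k : ℕ} (hk : Odd k) (g : G) (hg : orderOf g = k) : orderOf (g * z) = 2 * k := by
  have hc : Commute g z := hzc g
  rw [hc.orderOf_mul_eq_mul_orderOf_of_coprime (by rw [hg, hz]; exact Nat.coprime_two_right.2 hk),
    hg, hz, mul_comm]

theorem orderOf_mul_invol_of_two_mul (z : G) (hz : orderOf z = 2)
    (hu : ∀ x : G, orderOf x = 2 → x = z) (hzc : ∀ g : G, g * z = z * g)
    {k : ℕ} (hk : Odd k) (h : G) (hh : orderOf h = 2 * k) : orderOf (h * z) = k := by
  have hk0 : k ≠ 0 := by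
    rintro rfl
    simp at hk
  have hz2 : z ^ 2 = 1 := by rw [← hz]; exact pow_orderOf_eq_one z
  have hzk : z ^ k = z := by
    obtain ⟨j, rfl⟩ := hk
    rw [pow_succ, pow_mul, hz2, one_pow, one_mul]
  have h1 : orderOf (h ^ k) = 2 := by
    rw [orderOf_pow_of_dvd hk0 (by rw [hh]; exact dvd_mul_left k 2), hh]
    exact Nat.mul_div_cancel _ (Nat.pos_of_ne_zero hk0)
  have h2 : h ^ k = z := hu _ h1
  have hc : Commute h z := hzc h
  have h3 : (h * z) ^ k = 1 := by
    rw [hc.mul_pow, h2, hzk, ← pow_two, hz2]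
  apply Nat.dvd_antisymm (orderOf_dvd_of_pow_eq_one h3)
  have h4 : h ^ (2 * orderOf (h * z)) = 1 := by
    have e : h = (h * z) * z := by rw [mul_assoc, ← pow_two, hz2, mul_one]
    have hc' : Commute (h * z) z := by
      show h * z * z = z * (h * z)
      rw [← mul_assoc, ← hzc h]
    generalize hw : h * z = w at e hc'
    calc h ^ (2 * orderOf w) = (w * z) ^ (2 * orderOf w) := by rw [← e]
      _ = w ^ (2 * orderOf w) * z ^ (2 * orderOf w) := hc'.mul_pow _
      _ = 1 := by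
        rw [pow_mul' w, pow_orderOf_eq_one, one_pow, one_mul, pow_mul, hz2, one_pow]
  have h5 := orderOf_dvd_of_pow_eq_one h4
  rw [hh] at h5
  exact Nat.dvd_of_mul_dvd_mul_left (by norm_num) h5

theorem cnt_two_mul (hc2 : cnt G 2 = 1) (z : G) (hz : orderOf z = 2) {k : ℕ} (hk : Odd k) :
    cnt G (2 * k) = cnt G k := by
  have hu := uniq_of_cnt_two hc2 z hz
  have hzc := central_of_uniq z hz hu
  have hz2 : z * z = 1 := by
    rw [← pow_two, ← hz]; exact pow_orderOf_eq_one z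
  unfold cnt
  apply Nat.card_congr
  refine ⟨fun g => ⟨g.1 * z, orderOf_mul_invol_of_two_mul z hz hu hzc hk g.1 g.2⟩,
    fun g => ⟨g.1 * z, orderOf_mul_invol_of_odd z hz hzc hk g.1 g.2⟩, ?_, ?_⟩
  · intro g
    apply Subtype.ext
    show g.1 * z * z = g.1
    rw [mul_assoc, hz2, mul_one]
  · intro g
    apply Subtype.ext
    show g.1 * z * z = g.1
    rw [mul_assoc, hz2, mul_one]

end

section
variable {G : Type*} [Group G] [Finite G] (a b : ℕ)
  (hV : ∀ g : G, cnt G (orderOf g) = 1 ∨ cnt G (orderOf g) = a ∨ cnt G (orderOf g) = b)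
include hV

theorem vals_of_two (g1 g2 : G) (h1 : cnt G (orderOf g1) ≠ 1) (h2 : cnt G (orderOf g2) ≠ 1)
    (h12 : cnt G (orderOf g1) ≠ cnt G (orderOf g2)) (g : G) :
    cnt G (orderOf g) = 1 ∨ cnt G (orderOf g) = cnt G (orderOf g1) ∨
      cnt G (orderOf g) = cnt G (orderOf g2) := by
  have e1 := hV g1
  have e2 := hV g2
  have e3 := hV g
  omega

theorem cnt3 {k : ℕ} (hk : 3 ≤ k) : cnt G k = 0 ∨ cnt G k = a ∨ cnt G k = b := by
  by_cases h : ∃ g : G, orderOf g = k
  · obtain ⟨g, rfl⟩ := h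
    exact Or.inr ((hV g).resolve_left (cnt_ne_one g hk))
  · exact Or.inl (cnt_eq_zero k h)

/-- Two odd primes with the same count `a`: `cnt (p*q) = b`, `b ≡ 1 mod p`. -/
theorem lemA' {p q : ℕ} (hp : p.Prime) (hq : q.Prime) (hpq : p ≠ q) (hp2 : p ≠ 2)
    (hpd : p ∣ Nat.card G) (hqd : q ∣ Nat.card G) (hcp : cnt G p = a) (hcq : cnt G q = a) :
    cnt G (p * q) = b ∧ ((b : ℕ) : ZMod p) = 1 := by
  haveI : Fact p.Prime := ⟨hp⟩
  have h1 := lemA hp hq hpq hpd hqd (hcp.trans hcq.symm)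
  have h2 := frob_pZ hp hpd
  rw [hcp] at h2
  have h3 : 3 ≤ p * q := by
    have := hp.two_le
    have := hq.two_le
    nlinarith
  rcases cnt3 a b hV h3 with h | h | h
  · rw [h] at h1
    exfalso
    simp at h1
  · rw [h] at h1
    exfalso
    exact one_ne_neg_one_Z hp hp2 (h1.symm.trans h2)
  · rw [h] at h1
    exact ⟨h, h1⟩

/-- `cnt p = cnt q = a`, `cnt r = b`: then `cnt (p*r) = a` and `r ∣ a`. -/
theorem mixed_pair {p q r : ℕ} (hp : p.Prime) (hq : q.Prime) (hr : r.Prime)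
    (hpq : p ≠ q) (hpr : p ≠ r) (hp2 : p ≠ 2) (hr2 : r ≠ 2)
    (hpd : p ∣ Nat.card G) (hqd : q ∣ Nat.card G) (hrd : r ∣ Nat.card G)
    (hcp : cnt G p = a) (hcq : cnt G q = a) (hcr : cnt G r = b) :
    cnt G (p * r) = a ∧ ((a : ℕ) : ZMod r) = 0 := by
  haveI : Fact p.Prime := ⟨hp⟩
  haveI : Fact r.Prime := ⟨hr⟩
  obtain ⟨hpqb, hbp⟩ := lemA' a b hV hp hq hpq hp2 hpd hqd hcp hcq
  have hap := frob_pZ hp hpd
  rw [hcp] at hap
  have hbr := frob_pZ hr hrd
  rw [hcr] at hbr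
  have hprd : p * r ∣ Nat.card G :=
    ((Nat.coprime_primes hp hr).2 hpr).mul_dvd_of_dvd_of_dvd hpd hrd
  have e1 := frobZ (G := G) (p * r) hprd p (dvd_mul_right p r)
  rw [exp_pq _ hp hr hpr, cnt_one, hcp, hcr] at e1
  have hcpr : cnt G (p * r) = a := by
    rcases cnt3 a b hV (three_le_mul hp hr) with h | h | h
    · rw [h] at e1
      push_cast at e1
      exfalso
      have : (1 : ZMod p) = 0 := by linear_combination e1 - hbp - hap
      exact one_ne_zero this
    · exact h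
    · rw [h] at e1
      push_cast at e1
      exfalso
      apply two_ne_zero_Z hp hp2
      linear_combination e1 - 2 * hbp - hap
  refine ⟨hcpr, ?_⟩
  have e2 := frobZ (G := G) (p * r) hprd r (dvd_mul_left r p)
  rw [exp_pq _ hp hr hpr, cnt_one, hcp, hcr, hcpr] at e2
  push_cast at e2
  have h2a : (2 : ZMod r) * a = 0 := by linear_combination e2 - hbr
  rcases mul_eq_zero.1 h2a with h | h
  · exact absurd h (two_ne_zero_Z hr hr2)
  · exact h

theorem three_mixed {p q r : ℕ} (hp : p.Prime) (hq : q.Prime) (hr : r.Prime)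
    (hpq : p ≠ q) (hpr : p ≠ r) (hqr : q ≠ r) (hp2 : p ≠ 2) (hq2 : q ≠ 2) (hr2 : r ≠ 2)
    (hpd : p ∣ Nat.card G) (hqd : q ∣ Nat.card G) (hrd : r ∣ Nat.card G)
    (hcp : cnt G p = a) (hcq : cnt G q = a) (hcr : cnt G r = b) : False := by
  haveI : Fact r.Prime := ⟨hr⟩
  obtain ⟨hpqb, -⟩ := lemA' a b hV hp hq hpq hp2 hpd hqd hcp hcq
  obtain ⟨hcpr, har⟩ := mixed_pair a b hV hp hq hr hpq hpr hp2 hr2 hpd hqd hrd hcp hcq hcr
  obtain ⟨hcqr, -⟩ := mixed_pair a b hV hq hp hr hpq.symm hqr hq2 hr2 hqd hpd hrd hcq hcp hcr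
  have hbr := frob_pZ hr hrd
  rw [hcr] at hbr
  have hd : p * q * r ∣ Nat.card G := by
    have h1 : p * q ∣ Nat.card G :=
      ((Nat.coprime_primes hp hq).2 hpq).mul_dvd_of_dvd_of_dvd hpd hqd
    have hc : (p * q).Coprime r :=
      Nat.Coprime.mul_left ((Nat.coprime_primes hp hr).2 hpr) ((Nat.coprime_primes hq hr).2 hqr)
    exact hc.mul_dvd_of_dvd_of_dvd h1 hrd
  have e := frobZ (G := G) (p * q * r) hd r (dvd_mul_left r (p * q))
  rw [exp_pqr _ hp hq hr hpq hpr hqr, cnt_one, hcr, hcq, hcqr, hcp, hcpr, hpqb] at e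
  have h3 : 3 ≤ p * q * r := by
    have := three_le_mul hp hq
    have := hr.two_le
    nlinarith
  rcases cnt3 a b hV h3 with h | h | h
  · rw [h] at e
    push_cast at e
    have : (1 : ZMod r) = 0 := by linear_combination (-1 : ZMod r) * e + 4 * har + 2 * hbr
    exact one_ne_zero this
  · rw [h] at e
    push_cast at e
    have : (1 : ZMod r) = 0 := by linear_combination (-1 : ZMod r) * e + 5 * har + 2 * hbr
    exact one_ne_zero this
  · rw [h] at e
    push_cast at e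
    apply two_ne_zero_Z hr hr2
    linear_combination (-1 : ZMod r) * e + 4 * har + 3 * hbr

theorem cnt_two_eq_one (h2 : 2 ∣ Nat.card G) (ha : 2 ∣ a) (hb : 2 ∣ b) : cnt G 2 = 1 := by
  obtain ⟨z, hz⟩ := exists_prime_orderOf_dvd_card' 2 h2
  have h := hV z
  rw [hz] at h
  have hodd := frob_p (G := G) Nat.prime_two h2
  omega

theorem four_dvd_cnt_mul {p q : ℕ} (hp : p.Prime) (hq : q.Prime) (hpq : p ≠ q) (hp2 : p ≠ 2)
    (hq2 : q ≠ 2) : 4 ∣ cnt G (p * q) := by
  have h1 : (p * q).totient ∣ cnt G (p * q) := totient_dvd_card_orderOf_eq _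
  rw [Nat.totient_mul ((Nat.coprime_primes hp hq).2 hpq), Nat.totient_prime hp,
    Nat.totient_prime hq] at h1
  exact (four_dvd_pred_mul (hp.odd_of_ne_two hp2) (hq.odd_of_ne_two hq2)).trans h1

theorem B1core {p q : ℕ} (hp : p.Prime) (hq : q.Prime) (hpq : p ≠ q) (hp2 : p ≠ 2) (hq2 : q ≠ 2)
    (hpd : p ∣ Nat.card G) (hqd : q ∣ Nat.card G) (hcp : cnt G p = a) (hcq : cnt G q = a)
    (h4 : 4 ∣ Nat.card G) : False := by
  haveI : Fact p.Prime := ⟨hp⟩
  haveI : Fact q.Prime := ⟨hq⟩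
  obtain ⟨hpqb, hbp⟩ := lemA' a b hV hp hq hpq hp2 hpd hqd hcp hcq
  obtain ⟨-, hbq⟩ := lemA' a b hV hq hp hpq.symm hq2 hqd hpd hcq hcp
  have hap := frob_pZ hp hpd
  rw [hcp] at hap
  have haq := frob_pZ hq hqd
  rw [hcq] at haq
  have hp3 : 3 ≤ p := by
    have := hp.two_le
    omega
  have hq3 : 3 ≤ q := by
    have := hq.two_le
    omega
  have ha2 : 2 ∣ a := hcp ▸ even_cnt hp3
  have hb4 : 4 ∣ b := hpqb ▸ four_dvd_cnt_mul a b hV hp hq hpq hp2 hq2
  have h2N : 2 ∣ Nat.card G := (by norm_num : 2 ∣ 4).trans h4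
  have hc2 : cnt G 2 = 1 := cnt_two_eq_one a b hV h2N ha2 ((by norm_num : 2 ∣ 4).trans hb4)
  obtain ⟨z, hz⟩ := exists_prime_orderOf_dvd_card' 2 h2N
  have e4 := frobD (G := G) 4 h4
  rw [sum_divisors_four, cnt_one, hc2] at e4
  have hc4 : cnt G 4 = a ∧ 4 ∣ 2 + a := by
    rcases cnt3 a b hV (by norm_num : 3 ≤ 4) with h | h | h
    · rw [h] at e4
      omega
    · rw [h] at e4
      exact ⟨h, by omega⟩
    · rw [h] at e4
      omega
  have hodd_p : Odd p := hp.odd_of_ne_two hp2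
  have hodd_q : Odd q := hq.odd_of_ne_two hq2
  have c2p : cnt G (2 * p) = a := (cnt_two_mul hc2 z hz hodd_p).trans hcp
  have c2q : cnt G (2 * q) = a := (cnt_two_mul hc2 z hz hodd_q).trans hcq
  have c2pq : cnt G (2 * (p * q)) = b := (cnt_two_mul hc2 z hz (hodd_p.mul hodd_q)).trans hpqb
  -- 4p
  have h4pd : 4 * p ∣ Nat.card G := (cop_four hp hp2).mul_dvd_of_dvd_of_dvd h4 hpd
  have e1 := frobZ (G := G) (4 * p) h4pd p (dvd_mul_left p 4)
  rw [exp_4p _ hp hp2, cnt_one, hcp, hc2, c2p, hc4.1] at e1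
  have c4p : cnt G (4 * p) = b := by
    rcases cnt3 a b hV (by omega : 3 ≤ 4 * p) with h | h | h
    · rw [h] at e1
      push_cast at e1
      exfalso
      have : (1 : ZMod p) = 0 := by linear_combination (-1 : ZMod p) * e1 + 3 * hap
      exact one_ne_zero this
    · rw [h] at e1
      push_cast at e1
      exfalso
      apply two_ne_zero_Z hp hp2
      linear_combination (-1 : ZMod p) * e1 + 4 * hap
    · exact h
  have h4qd : 4 * q ∣ Nat.card G := (cop_four hq hq2).mul_dvd_of_dvd_of_dvd h4 hqd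
  have e2 := frobZ (G := G) (4 * q) h4qd q (dvd_mul_left q 4)
  rw [exp_4p _ hq hq2, cnt_one, hcq, hc2, c2q, hc4.1] at e2
  have c4q : cnt G (4 * q) = b := by
    rcases cnt3 a b hV (by omega : 3 ≤ 4 * q) with h | h | h
    · rw [h] at e2
      push_cast at e2
      exfalso
      have : (1 : ZMod q) = 0 := by linear_combination (-1 : ZMod q) * e2 + 3 * haq
      exact one_ne_zero this
    · rw [h] at e2
      push_cast at e2
      exfalso
      apply two_ne_zero_Z hq hq2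
      linear_combination (-1 : ZMod q) * e2 + 4 * haq
    · exact h
  -- 4pq
  have hcop : Nat.Coprime 4 (p * q) := Nat.Coprime.mul_right (cop_four hp hp2) (cop_four hq hq2)
  have hpqd : p * q ∣ Nat.card G :=
    ((Nat.coprime_primes hp hq).2 hpq).mul_dvd_of_dvd_of_dvd hpd hqd
  have h4pqd : 4 * (p * q) ∣ Nat.card G := hcop.mul_dvd_of_dvd_of_dvd h4 hpqd
  have e3 := frobZ (G := G) (4 * (p * q)) h4pqd p
    (dvd_mul_of_dvd_right (dvd_mul_right p q) 4)
  rw [exp_4pq _ hp hq hpq hp2 hq2, cnt_one, hcq, hcp, hpqb, hc2, c2q, c2p, c2pq, hc4.1, c4q,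
    c4p] at e3
  have h3' : 3 ≤ 4 * (p * q) := by
    have := three_le_mul hp hq
    omega
  rcases cnt3 a b hV h3' with h | h | h
  · rw [h] at e3
    push_cast at e3
    have : (1 : ZMod p) = 0 := by linear_combination e3 - 5 * hap - 4 * hbp
    exact one_ne_zero this
  · have h1 : (4 * (p * q)).totient ∣ cnt G (4 * (p * q)) := totient_dvd_card_orderOf_eq _
    rw [h, Nat.totient_mul hcop, totient_four,
      Nat.totient_mul ((Nat.coprime_primes hp hq).2 hpq), Nat.totient_prime hp,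
      Nat.totient_prime hq] at h1
    have h2 := four_dvd_pred_mul hodd_p hodd_q
    have h5 : 4 ∣ a := (Dvd.dvd.mul_left h2 2).trans h1
    have := hc4.2
    omega
  · rw [h] at e3
    push_cast at e3
    apply two_ne_zero_Z hp hp2
    linear_combination e3 - 5 * hap - 5 * hbp

theorem B2core {p q : ℕ} (hp : p.Prime) (hq : q.Prime) (hpq : p ≠ q) (hp2 : p ≠ 2) (hq2 : q ≠ 2)
    (hpd : p ∣ Nat.card G) (hqd : q ∣ Nat.card G) (hcp : cnt G p = a) (hcq : cnt G q = b)
    (h4 : 4 ∣ Nat.card G) (hc2 : cnt G 2 = 1) (hc4 : cnt G 4 = a) : False := by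
  haveI : Fact p.Prime := ⟨hp⟩
  have hap := frob_pZ hp hpd
  rw [hcp] at hap
  have h2N : 2 ∣ Nat.card G := (by norm_num : 2 ∣ 4).trans h4
  obtain ⟨z, hz⟩ := exists_prime_orderOf_dvd_card' 2 h2N
  have e4 := frobD (G := G) 4 h4
  rw [sum_divisors_four, cnt_one, hc2, hc4] at e4
  have hodd_p : Odd p := hp.odd_of_ne_two hp2
  have c2p : cnt G (2 * p) = a := (cnt_two_mul hc2 z hz hodd_p).trans hcp
  have h4pd : 4 * p ∣ Nat.card G := (cop_four hp hp2).mul_dvd_of_dvd_of_dvd h4 hpd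
  have e1 := frobZ (G := G) (4 * p) h4pd p (dvd_mul_left p 4)
  rw [exp_4p _ hp hp2, cnt_one, hcp, hc2, c2p, hc4] at e1
  have hp3 : 3 ≤ p := by
    have := hp.two_le
    omega
  have hbp : ((b : ℕ) : ZMod p) = 1 := by
    rcases cnt3 a b hV (by omega : 3 ≤ 4 * p) with h | h | h
    · rw [h] at e1
      push_cast at e1
      exfalso
      have : (1 : ZMod p) = 0 := by linear_combination (-1 : ZMod p) * e1 + 3 * hap
      exact one_ne_zero this
    · rw [h] at e1
      push_cast at e1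
      exfalso
      apply two_ne_zero_Z hp hp2
      linear_combination (-1 : ZMod p) * e1 + 4 * hap
    · rw [h] at e1
      push_cast at e1
      linear_combination e1 - 3 * hap
  have hpqd : p * q ∣ Nat.card G :=
    ((Nat.coprime_primes hp hq).2 hpq).mul_dvd_of_dvd_of_dvd hpd hqd
  have e2 := frobZ (G := G) (p * q) hpqd p (dvd_mul_right p q)
  rw [exp_pq _ hp hq hpq, cnt_one, hcp, hcq] at e2
  rcases cnt3 a b hV (three_le_mul hp hq) with h | h | h
  · rw [h] at e2
    push_cast at e2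
    have : (1 : ZMod p) = 0 := by linear_combination e2 - hap - hbp
    exact one_ne_zero this
  · have h1 := four_dvd_cnt_mul a b hV hp hq hpq hp2 hq2
    rw [h] at h1
    omega
  · rw [h] at e2
    push_cast at e2
    apply two_ne_zero_Z hp hp2
    linear_combination e2 - hap - 2 * hbp

theorem three_same {p q r : ℕ} (hp : p.Prime) (hq : q.Prime) (hr : r.Prime)
    (hpq : p ≠ q) (hpr : p ≠ r) (hqr : q ≠ r) (hp2 : p ≠ 2) (hq2 : q ≠ 2)
    (hpd : p ∣ Nat.card G) (hqd : q ∣ Nat.card G) (hrd : r ∣ Nat.card G)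
    (hcp : cnt G p = a) (hcq : cnt G q = a) (hcr : cnt G r = a)
    (hall : ∀ s : ℕ, s.Prime → s ≠ 2 → s ∣ Nat.card G → cnt G s = a) : False := by
  have hb1 : ∀ s : ℕ, s.Prime → s ≠ 2 → s ∣ Nat.card G → ((b : ℕ) : ZMod s) = 1 := by
    intro s hs hs2 hsd
    by_cases h : s = p
    · subst h
      exact (lemA' a b hV hs hq hpq hs2 hsd hqd hcp hcq).2
    · exact (lemA' a b hV hs hp h hs2 hsd hpd (hall s hs hs2 hsd) hcp).2
  have ha1 : ∀ s : ℕ, s.Prime → s ≠ 2 → s ∣ Nat.card G → ((a : ℕ) : ZMod s) = -1 := by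
    intro s hs hs2 hsd
    have := frob_pZ (G := G) hs hsd
    rwa [hall s hs hs2 hsd] at this
  have no_sq : ∀ s : ℕ, s.Prime → s ≠ 2 → s ∣ Nat.card G → ∀ g : G, orderOf g ≠ s ^ 2 := by
    intro s hs hs2 hsd g hg
    haveI : Fact s.Prime := ⟨hs⟩
    have hsq : s ^ 2 ∣ Nat.card G := hg ▸ orderOf_dvd_natCard g
    have e := frobZ (G := G) (s ^ 2) hsq s (dvd_pow_self s two_ne_zero)
    rw [exp_sq _ hs, cnt_one, hall s hs hs2 hsd] at e
    have h3 : 3 ≤ orderOf g := by
      rw [hg]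
      have := hs.two_le
      nlinarith
    have hc := (hV g).resolve_left (cnt_ne_one g h3)
    rw [hg] at hc
    rcases hc with h | h
    · rw [h] at e
      push_cast at e
      have : (1 : ZMod s) = 0 := by linear_combination (-1 : ZMod s) * e + 2 * ha1 s hs hs2 hsd
      exact one_ne_zero this
    · rw [h] at e
      push_cast at e
      have : (1 : ZMod s) = 0 := by
        linear_combination e - ha1 s hs hs2 hsd - hb1 s hs hs2 hsd
      exact one_ne_zero this
  have pow_dvd : ∀ s : ℕ, s.Prime → s ≠ 2 → s ∣ Nat.card G → ∀ k : ℕ, s ^ k ∣ Nat.card G →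
      s ^ k ∣ 1 + a := by
    intro s hs hs2 hsd k hk
    rcases Nat.eq_zero_or_pos k with rfl | hkpos
    · simp
    have h1 := frobenius (G := G) (s ^ k) hk
    have hs1 : (1 : ℕ) ≠ s := hs.one_lt.ne
    rw [card_pow_eq_one_eq_sum (s ^ k) {1, s} (by
        intro e he
        simp only [Finset.mem_insert, Finset.mem_singleton] at he
        rcases he with rfl | rfl
        · exact one_dvd _
        · exact dvd_pow_self _ hkpos.ne') (by
        intro g hg
        have hd := orderOf_dvd_of_pow_eq_one hg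
        obtain ⟨j, hjk, hj⟩ := (Nat.dvd_prime_pow hs).1 hd
        simp only [Finset.mem_insert, Finset.mem_singleton]
        rcases Nat.lt_or_ge j 2 with hj2 | hj2
        · interval_cases j
          · left; simpa using hj
          · right; simpa using hj
        · exfalso
          have hne : s ^ (j - 2) ≠ 0 := pow_ne_zero _ hs.ne_zero
          have hdv : s ^ (j - 2) ∣ orderOf g := by
            rw [hj]; exact pow_dvd_pow s (Nat.sub_le j 2)
          have ho : orderOf (g ^ (s ^ (j - 2))) = s ^ 2 := by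
            rw [orderOf_pow_of_dvd hne hdv, hj]
            apply Nat.div_eq_of_eq_mul_left (Nat.pos_of_ne_zero hne)
            rw [← pow_add]
            congr 1
            omega
          exact no_sq s hs hs2 hsd _ ho),
      Finset.sum_pair hs1, cnt_one, hall s hs hs2 hsd] at h1
    exact h1
  have h4 : ¬ 4 ∣ Nat.card G := fun h4 =>
    B1core a b hV hp hq hpq hp2 hq2 hpd hqd hcp hcq h4
  have hdvd : Nat.card G ∣ 2 * (1 + a) := by
    rw [Nat.dvd_iff_prime_pow_dvd_dvd]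
    intro s k hs hsk
    by_cases hs2 : s = 2
    · subst hs2
      have hk1 : k ≤ 1 := by
        by_contra hk
        push Not at hk
        apply h4
        exact (pow_dvd_pow 2 hk).trans hsk
      exact (pow_dvd_pow 2 hk1).trans (by simp)
    · rcases Nat.eq_zero_or_pos k with rfl | hkpos
      · simp
      have hsd : s ∣ Nat.card G := (dvd_pow_self s hkpos.ne').trans hsk
      exact (pow_dvd s hs hs2 hsd k hsk).trans (dvd_mul_left _ 2)
  have hle : Nat.card G ≤ 2 * (1 + a) := Nat.le_of_dvd (by omega) hdvd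
  have hsum := sum_cnt_le (G := G) {1, p, q, r}
  have hp1 : (1 : ℕ) ≠ p := hp.one_lt.ne
  have hq1 : (1 : ℕ) ≠ q := hq.one_lt.ne
  have hr1 : (1 : ℕ) ≠ r := hr.one_lt.ne
  rw [Finset.sum_insert (by simp [hp1, hq1, hr1]), Finset.sum_insert (by simp [hpq, hpr]),
    Finset.sum_pair hqr, cnt_one, hcp, hcq, hcr] at hsum
  have ha0 : a ≠ 0 := hcp ▸ cnt_prime_ne_zero hp hpd
  have hp3 : 3 ≤ p := by
    have := hp.two_le
    omega
  have ha2 : 2 ∣ a := hcp ▸ even_cnt hp3
  omega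

theorem same_vals {p q : ℕ} (hp : p.Prime) (hq : q.Prime) (hpq : p ≠ q) (hp2 : p ≠ 2)
    (hpd : p ∣ Nat.card G) (hqd : q ∣ Nat.card G) (hc : cnt G p = cnt G q) (g : G) :
    cnt G (orderOf g) = 1 ∨ cnt G (orderOf g) = cnt G p ∨ cnt G (orderOf g) = cnt G (p * q) := by
  haveI : Fact p.Prime := ⟨hp⟩
  have h1 := lemA hp hq hpq hpd hqd hc
  have h2 := frob_pZ hp hpd
  have hne0 : cnt G (p * q) ≠ 0 := by
    intro h
    rw [h] at h1
    simp at h1
  have hne : cnt G p ≠ cnt G (p * q) := by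
    intro h
    rw [← h] at h1
    exact one_ne_neg_one_Z hp hp2 (h1.symm.trans h2)
  obtain ⟨g1, hg1⟩ := exists_of_cnt_ne_zero (cnt_prime_ne_zero hp hpd)
  obtain ⟨g2, hg2⟩ := exists_of_cnt_ne_zero hne0
  have hp3 : 3 ≤ p := by
    have := hp.two_le
    omega
  have hn1 : cnt G (orderOf g1) ≠ 1 := cnt_ne_one g1 (by rw [hg1]; exact hp3)
  have hn2 : cnt G (orderOf g2) ≠ 1 := cnt_ne_one g2 (by rw [hg2]; exact three_le_mul hp hq)
  have := vals_of_two a b hV g1 g2 hn1 hn2 (by rw [hg1, hg2]; exact hne) g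
  rwa [hg1, hg2] at this

theorem claim1_aux {p q r : ℕ} (hp : p.Prime) (hq : q.Prime) (hr : r.Prime)
    (hpq : p ≠ q) (hpr : p ≠ r) (hqr : q ≠ r) (hp2 : p ≠ 2) (hq2 : q ≠ 2) (hr2 : r ≠ 2)
    (hpd : p ∣ Nat.card G) (hqd : q ∣ Nat.card G) (hrd : r ∣ Nat.card G)
    (hc : cnt G p = cnt G q) : False := by
  have hW := same_vals a b hV hp hq hpq hp2 hpd hqd hc
  by_cases hmix : ∃ s : ℕ, s.Prime ∧ s ≠ 2 ∧ s ∣ Nat.card G ∧ cnt G s ≠ cnt G p
  · obtain ⟨s, hs, hs2, hsd, hne⟩ := hmix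
    have hs3 : 3 ≤ s := by
      have := hs.two_le
      omega
    have hcs : cnt G s = cnt G (p * q) := by
      rcases cnt3 _ _ hW hs3 with h | h | h
      · exact absurd h (cnt_prime_ne_zero hs hsd)
      · exact absurd h hne
      · exact h
    have hsp : p ≠ s := by
      rintro rfl
      exact hne rfl
    have hsq : q ≠ s := by
      rintro rfl
      exact hne hc.symm
    exact three_mixed _ _ hW hp hq hs hpq hsp hsq hp2 hq2 hs2 hpd hqd hsd rfl hc.symm hcs
  · push Not at hmix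
    exact three_same _ _ hW hp hq hr hpq hpr hqr hp2 hq2 hpd hqd hrd rfl hc.symm
      (hmix r hr hr2 hrd) hmix

theorem claim1 {p q r : ℕ} (hp : p.Prime) (hq : q.Prime) (hr : r.Prime)
    (hpq : p ≠ q) (hpr : p ≠ r) (hqr : q ≠ r) (hp2 : p ≠ 2) (hq2 : q ≠ 2) (hr2 : r ≠ 2)
    (hpd : p ∣ Nat.card G) (hqd : q ∣ Nat.card G) (hrd : r ∣ Nat.card G) : False := by
  have h3 : ∀ s : ℕ, s.Prime → s ≠ 2 → s ∣ Nat.card G → cnt G s = a ∨ cnt G s = b := by
    intro s hs hs2 hsd
    have hs3 : 3 ≤ s := by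
      have := hs.two_le
      omega
    rcases cnt3 a b hV hs3 with h | h | h
    · exact absurd h (cnt_prime_ne_zero hs hsd)
    · exact Or.inl h
    · exact Or.inr h
  by_cases h1 : cnt G p = cnt G q
  · exact claim1_aux a b hV hp hq hr hpq hpr hqr hp2 hq2 hr2 hpd hqd hrd h1
  by_cases h2 : cnt G p = cnt G r
  · exact claim1_aux a b hV hp hr hq hpr hpq hqr.symm hp2 hr2 hq2 hpd hrd hqd h2
  have h5 : cnt G q = cnt G r := by
    have := h3 p hp hp2 hpd
    have := h3 q hq hq2 hqd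
    have := h3 r hr hr2 hrd
    omega
  exact claim1_aux a b hV hq hr hp hqr hpq.symm hpr.symm hq2 hr2 hp2 hqd hrd hpd h5

theorem claim2a {p q : ℕ} (hp : p.Prime) (hq : q.Prime) (hpq : p ≠ q) (hp2 : p ≠ 2) (hq2 : q ≠ 2)
    (hpd : p ∣ Nat.card G) (hqd : q ∣ Nat.card G) (h2N : 2 ∣ Nat.card G) : cnt G 2 = 1 := by
  by_contra hc2
  haveI : Fact p.Prime := ⟨hp⟩
  obtain ⟨z, hz⟩ := exists_prime_orderOf_dvd_card' 2 h2N
  obtain ⟨g1, hg1⟩ := exists_of_cnt_ne_zero (cnt_prime_ne_zero hp hpd)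
  have hodd := frob_p (G := G) Nat.prime_two h2N
  have hp3 : 3 ≤ p := by
    have := hp.two_le
    omega
  have hq3 : 3 ≤ q := by
    have := hq.two_le
    omega
  have hep : 2 ∣ cnt G p := even_cnt hp3
  have heq : 2 ∣ cnt G q := even_cnt hq3
  have hepq : 2 ∣ cnt G (p * q) := even_cnt (three_le_mul hp hq)
  have hW : ∀ g : G, cnt G (orderOf g) = 1 ∨ cnt G (orderOf g) = cnt G 2 ∨
      cnt G (orderOf g) = cnt G p := by
    intro g
    have := vals_of_two a b hV z g1 (by rw [hz]; exact hc2) (by rw [hg1]; omega)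
      (by rw [hz, hg1]; omega) g
    rwa [hz, hg1] at this
  have hcq : cnt G p = cnt G q := by
    rcases cnt3 _ _ hW hq3 with h | h | h
    · exact absurd h (cnt_prime_ne_zero hq hqd)
    · omega
    · exact h.symm
  have h1 := lemA hp hq hpq hpd hqd hcq
  have h2 := frob_pZ hp hpd
  rcases cnt3 _ _ hW (three_le_mul hp hq) with h | h | h
  · rw [h] at h1
    simp at h1
  · omega
  · rw [h] at h1
    exact one_ne_neg_one_Z hp hp2 (h1.symm.trans h2)

theorem claim2b {p q : ℕ} (hp : p.Prime) (hq : q.Prime) (hpq : p ≠ q) (hp2 : p ≠ 2) (hq2 : q ≠ 2)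
    (hpd : p ∣ Nat.card G) (hqd : q ∣ Nat.card G) (h2N : 2 ∣ Nat.card G) :
    ¬ 4 ∣ Nat.card G := by
  intro h4
  have hc2 := claim2a a b hV hp hq hpq hp2 hq2 hpd hqd h2N
  by_cases hc : cnt G p = cnt G q
  · have hW := same_vals a b hV hp hq hpq hp2 hpd hqd hc
    exact B1core _ _ hW hp hq hpq hp2 hq2 hpd hqd rfl hc.symm h4
  · obtain ⟨g1, hg1⟩ := exists_of_cnt_ne_zero (cnt_prime_ne_zero hp hpd)
    obtain ⟨g2, hg2⟩ := exists_of_cnt_ne_zero (cnt_prime_ne_zero hq hqd)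
    have hp3 : 3 ≤ p := by
      have := hp.two_le
      omega
    have hq3 : 3 ≤ q := by
      have := hq.two_le
      omega
    have hW : ∀ g : G, cnt G (orderOf g) = 1 ∨ cnt G (orderOf g) = cnt G p ∨
        cnt G (orderOf g) = cnt G q := by
      intro g
      have := vals_of_two a b hV g1 g2 (cnt_ne_one g1 (by rw [hg1]; exact hp3))
        (cnt_ne_one g2 (by rw [hg2]; exact hq3)) (by rw [hg1, hg2]; exact hc) g
      rwa [hg1, hg2] at this
    have hW' : ∀ g : G, cnt G (orderOf g) = 1 ∨ cnt G (orderOf g) = cnt G q ∨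
        cnt G (orderOf g) = cnt G p := by
      intro g
      have := hW g
      tauto
    have e4 := frobD (G := G) 4 h4
    rw [sum_divisors_four, cnt_one, hc2] at e4
    rcases cnt3 _ _ hW (by norm_num : 3 ≤ 4) with h | h | h
    · rw [h] at e4
      omega
    · exact B2core _ _ hW hp hq hpq hp2 hq2 hpd hqd rfl rfl h4 hc2 h
    · exact B2core _ _ hW' hq hp hpq.symm hq2 hp2 hqd hpd rfl rfl h4 hc2 h

end

end Cfsg.Agent.Lib.Helper22.NseA
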