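import Mathlib
import Cfsg.Agent.Lib.Helper22.NseA
import Cfsg.Agent.Lib.Helper22.Sylow

set_option autoImplicit false

namespace Cfsg.Agent.Lib.Helper22.NseB

open Cfsg.Agent.S3995 Cfsg.Agent.Lib.Helper22 Cfsg.Agent.Lib.Helper22.NseA

theorem exp_pqsq (f : ℕ → ℕ) {p q : ℕ} (hp : p.Prime) (hq : q.Prime) (hpq : p ≠ q) :
    ∑ e ∈ (p * q ^ 2).divisors, f e =
      f (q ^ 2) + (f q + f 1) + (f (p * q ^ 2) + (f (p * q) + f p)) := by
  have hc : p.Coprime (q ^ 2) := Nat.Coprime.pow_right 2 ((Nat.coprime_primes hp hq).2 hpq)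
  rw [sum_divisors_cop f hc, sum_divisors_prime _ hp, exp_sq _ hq, exp_sq _ hq]
  simp only [one_mul, mul_one]

section
variable {G : Type*} [Group G] [Finite G]

/-- if every element of order `p` commutes with some element of order `q`, there are at least
`(q - 1) * #(order p)` elements of order `p * q`. -/
theorem cnt_mul_ge {p q : ℕ} (hp : p.Prime) (hq : q.Prime) (hpq : p ≠ q)
    (hcomm : ∀ u : G, orderOf u = p → ∃ v : G, orderOf v = q ∧ u * v = v * u) :
    (q - 1) * cnt G p ≤ cnt G (p * q) := by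
  classical
  choose! v hv using hcomm
  have hcop : Nat.Coprime p q := (Nat.coprime_primes hp hq).2 hpq
  have hord : ∀ (u : G) (hu : orderOf u = p) (k : Fin (q - 1)),
      orderOf (u * v u ^ (k.1 + 1)) = p * q := by
    intro u hu k
    have hk : k.1 + 1 < q := by
      have := k.2
      omega
    have hc : Commute u (v u ^ (k.1 + 1)) := Commute.pow_right (hv u hu).2 _
    have ho : orderOf (v u ^ (k.1 + 1)) = q := by
      rw [Nat.Coprime.orderOf_pow, (hv u hu).1]
      rw [(hv u hu).1]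
      exact (Nat.Prime.coprime_iff_not_dvd hq).2 (Nat.not_dvd_of_pos_of_lt (by omega) hk)
    rw [hc.orderOf_mul_eq_mul_orderOf_of_coprime (by rw [hu, ho]; exact hcop), hu, ho]
  let φ : {u : G // orderOf u = p} × Fin (q - 1) → {g : G // orderOf g = p * q} :=
    fun x => ⟨x.1.1 * v x.1.1 ^ (x.2.1 + 1), hord x.1.1 x.1.2 x.2⟩
  have hinj : Function.Injective φ := by
    rintro ⟨⟨u, hu⟩, k⟩ ⟨⟨u', hu'⟩, k'⟩ h
    have h0 : u * v u ^ (k.1 + 1) = u' * v u' ^ (k'.1 + 1) := congrArg Subtype.val h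
    have hq1 : ∀ (w : G) (hw : orderOf w = p) (j : ℕ), (w * v w ^ j) ^ q = w ^ q := by
      intro w hw j
      have hc : Commute w (v w ^ j) := Commute.pow_right (hv w hw).2 _
      rw [hc.mul_pow, ← pow_mul, mul_comm j q, pow_mul, ← (hv w hw).1, pow_orderOf_eq_one,
        one_pow, mul_one]
    have h1 : u ^ q = u' ^ q := by
      rw [← hq1 u hu (k.1 + 1), ← hq1 u' hu' (k'.1 + 1), h0]
    obtain ⟨s, -, hs⟩ := Nat.exists_mul_mod_eq_one_of_coprime hcop.symm hp.one_lt
    have h2 : ∀ (w : G), orderOf w = p → (w ^ q) ^ s = w := by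
      intro w hw
      rw [← pow_mul, ← pow_mod_orderOf, hw, hs, pow_one]
    have h3 : u = u' := by
      rw [← h2 u hu, ← h2 u' hu', h1]
    subst h3
    have h4 : v u ^ (k.1 + 1) = v u ^ (k'.1 + 1) := mul_left_cancel h0
    have hk : k.1 + 1 < orderOf (v u) := by
      rw [(hv u hu).1]
      have := k.2
      omega
    have hk' : k'.1 + 1 < orderOf (v u) := by
      rw [(hv u hu).1]
      have := k'.2
      omega
    have h5 : k.1 + 1 = k'.1 + 1 := pow_injOn_Iio_orderOf hk hk' h4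
    have h6 : k = k' := Fin.ext (by omega)
    rw [h6]
  have hle := Nat.card_le_card_of_injective φ hinj
  rw [Nat.card_prod, Nat.card_fin] at hle
  unfold cnt
  rw [mul_comm]
  exact hle

end

section
variable {G : Type*} [Group G]

theorem orderOf_conj_eq (g v : G) : orderOf (g * v * g⁻¹) = orderOf v := by
  have := (MulAut.conj g).orderOf_eq v
  rwa [MulAut.conj_apply] at this

/-- conjugation action of a subgroup on the elements of order `q` -/
@[reducible] def conjOn (P : Subgroup G) (q : ℕ) : MulAction P {v : G // orderOf v = q} where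
  smul g v := ⟨(g : G) * v.1 * (g : G)⁻¹, by rw [orderOf_conj_eq]; exact v.2⟩
  one_smul v := Subtype.ext (by
    show ((1 : P) : G) * v.1 * ((1 : P) : G)⁻¹ = v.1
    simp)
  mul_smul g h v := Subtype.ext (by
    show ((g * h : P) : G) * v.1 * ((g * h : P) : G)⁻¹ = (g : G) * ((h : G) * v.1 * (h : G)⁻¹) * (g : G)⁻¹
    simp [mul_assoc])

theorem exists_fixed_of_not_dvd [Finite G] {p : ℕ} [Fact p.Prime] (P : Sylow p G) (q : ℕ)
    (hnd : ¬ p ∣ cnt G q) :
    ∃ v : G, orderOf v = q ∧ ∀ g ∈ (P : Subgroup G), g * v * g⁻¹ = v := by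
  letI := conjOn (P : Subgroup G) q
  obtain ⟨v, hv⟩ := P.2.nonempty_fixed_point_of_prime_not_dvd_card {v : G // orderOf v = q} hnd
  refine ⟨v.1, v.2, fun g hg => ?_⟩
  have h := hv ⟨g, hg⟩
  exact congrArg Subtype.val h

/-- an element of a Sylow-fixed class commutes with a conjugate of the fixed element -/
theorem exists_comm_of_fixed [Finite G] {p : ℕ} [Fact p.Prime] (P : Sylow p G) (q : ℕ)
    (v : G) (hv : orderOf v = q) (hfix : ∀ g ∈ (P : Subgroup G), g * v * g⁻¹ = v)
    (u : G) (hu : orderOf u = p) : ∃ v' : G, orderOf v' = q ∧ u * v' = v' * u := by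
  have hp : p.Prime := Fact.out
  have hpg : IsPGroup p (Subgroup.zpowers u) := by
    apply IsPGroup.of_card (n := 1)
    rw [Nat.card_zpowers, hu, pow_one]
  obtain ⟨P', hP'⟩ := hpg.exists_le_sylow
  obtain ⟨g, hg⟩ := MulAction.exists_smul_eq G P P'
  have hu' : u ∈ ((g • P : Sylow p G) : Subgroup G) := by
    rw [hg]
    exact hP' (Subgroup.mem_zpowers u)
  rw [Cfsg.Agent.Lib.Helper22.mem_smul_sylow_iff] at hu'
  have h1 := hfix _ hu'
  refine ⟨g * v * g⁻¹, by rw [orderOf_conj_eq, hv], ?_⟩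
  have h2 : g⁻¹ * u * g * v = v * (g⁻¹ * u * g) := by
    calc g⁻¹ * u * g * v = (g⁻¹ * u * g * v * (g⁻¹ * u * g)⁻¹) * (g⁻¹ * u * g) := by group
      _ = v * (g⁻¹ * u * g) := by rw [h1]
  calc u * (g * v * g⁻¹) = g * (g⁻¹ * u * g * v) * g⁻¹ := by group
    _ = g * (v * (g⁻¹ * u * g)) * g⁻¹ := by rw [h2]
    _ = g * v * g⁻¹ * u := by group

end

section
variable {G : Type*} [Group G] [Finite G] (a b : ℕ)
  (hV : ∀ g : G, cnt G (orderOf g) = 1 ∨ cnt G (orderOf g) = a ∨ cnt G (orderOf g) = b)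
include hV

/-- two odd primes with the same count `a`, all odd primes have count `a`:
the odd prime powers dividing `|G|` divide `1 + a`. -/
theorem same_pow_dvd {p q : ℕ} (hp : p.Prime) (hq : q.Prime)
    (hpq : p ≠ q) (hp2 : p ≠ 2)
    (hpd : p ∣ Nat.card G) (hqd : q ∣ Nat.card G)
    (hcp : cnt G p = a) (hcq : cnt G q = a)
    (hall : ∀ s : ℕ, s.Prime → s ≠ 2 → s ∣ Nat.card G → cnt G s = a) :
    ∀ s : ℕ, s.Prime → s ≠ 2 → s ∣ Nat.card G → ∀ k : ℕ, s ^ k ∣ Nat.card G →
      s ^ k ∣ 1 + a := by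
  have hb1 : ∀ s : ℕ, s.Prime → s ≠ 2 → s ∣ Nat.card G → ((b : ℕ) : ZMod s) = 1 := by
    intro s hs hs2 hsd
    by_cases h : s = p
    · subst h
      exact (lemA' a b hV hs hq hpq hs2 hsd hqd hcp hcq).2
    · exact (lemA' a b hV hs hp h hs2 hsd hpd (hall s hs hs2 hsd) hcp).2
  have ha1 : ∀ s : ℕ, s.Prime → s ≠ 2 → s ∣ Nat.card G → ((a : ℕ) : ZMod s) = -1 := by
    intro s hs hs2 hsd
    have := frob_pZ (G := G) hs hsd
    rwa [hall s hs hs2 hsd] at this
  have no_sq : ∀ s : ℕ, s.Prime → s ≠ 2 → s ∣ Nat.card G → ∀ g : G, orderOf g ≠ s ^ 2 := by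
    intro s hs hs2 hsd g hg
    haveI : Fact s.Prime := ⟨hs⟩
    have hsq : s ^ 2 ∣ Nat.card G := hg ▸ orderOf_dvd_natCard g
    have e := frobZ (G := G) (s ^ 2) hsq s (dvd_pow_self s two_ne_zero)
    rw [exp_sq _ hs, cnt_one, hall s hs hs2 hsd] at e
    have h3 : 3 ≤ orderOf g := by
      rw [hg]
      have := hs.two_le
      nlinarith
    have hc := (hV g).resolve_left (cnt_ne_one g h3)
    rw [hg] at hc
    rcases hc with h | h
    · rw [h] at e
      push_cast at e
      have : (1 : ZMod s) = 0 := by linear_combination (-1 : ZMod s) * e + 2 * ha1 s hs hs2 hsd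
      exact one_ne_zero this
    · rw [h] at e
      push_cast at e
      have : (1 : ZMod s) = 0 := by
        linear_combination e - ha1 s hs hs2 hsd - hb1 s hs hs2 hsd
      exact one_ne_zero this
  intro s hs hs2 hsd k hk
  rcases Nat.eq_zero_or_pos k with rfl | hkpos
  · simp
  have h1 := frobenius (G := G) (s ^ k) hk
  have hs1 : (1 : ℕ) ≠ s := hs.one_lt.ne
  rw [card_pow_eq_one_eq_sum (s ^ k) {1, s} (by
      intro e he
      simp only [Finset.mem_insert, Finset.mem_singleton] at he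
      rcases he with rfl | rfl
      · exact one_dvd _
      · exact dvd_pow_self _ hkpos.ne') (by
      intro g hg
      have hd := orderOf_dvd_of_pow_eq_one hg
      obtain ⟨j, hjk, hj⟩ := (Nat.dvd_prime_pow hs).1 hd
      simp only [Finset.mem_insert, Finset.mem_singleton]
      rcases Nat.lt_or_ge j 2 with hj2 | hj2
      · interval_cases j
        · left; simpa using hj
        · right; simpa using hj
      · exfalso
        have hne : s ^ (j - 2) ≠ 0 := pow_ne_zero _ hs.ne_zero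
        have hdv : s ^ (j - 2) ∣ orderOf g := by
          rw [hj]; exact pow_dvd_pow s (Nat.sub_le j 2)
        have ho : orderOf (g ^ (s ^ (j - 2))) = s ^ 2 := by
          rw [orderOf_pow_of_dvd hne hdv, hj]
          apply Nat.div_eq_of_eq_mul_left (Nat.pos_of_ne_zero hne)
          rw [← pow_add]
          congr 1
          omega
        exact no_sq s hs hs2 hsd _ ho),
    Finset.sum_pair hs1, cnt_one, hall s hs hs2 hsd] at h1
  exact h1

/-- odd order, only two primes, same count: impossible -/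
theorem two_same {p q : ℕ} (hp : p.Prime) (hq : q.Prime)
    (hpq : p ≠ q) (hp2 : p ≠ 2)
    (hpd : p ∣ Nat.card G) (hqd : q ∣ Nat.card G)
    (hcp : cnt G p = a) (hcq : cnt G q = a)
    (honly : ∀ s : ℕ, s.Prime → s ∣ Nat.card G → s = p ∨ s = q)
    (hodd : ¬ 2 ∣ Nat.card G) : False := by
  have hall : ∀ s : ℕ, s.Prime → s ≠ 2 → s ∣ Nat.card G → cnt G s = a := by
    intro s hs _ hsd
    rcases honly s hs hsd with rfl | rfl
    · exact hcp
    · exact hcq
  have hpow := same_pow_dvd a b hV hp hq hpq hp2 hpd hqd hcp hcq hall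
  have hdvd : Nat.card G ∣ 1 + a := by
    rw [Nat.dvd_iff_prime_pow_dvd_dvd]
    intro s k hs hsk
    rcases Nat.eq_zero_or_pos k with rfl | hkpos
    · simp
    have hsd : s ∣ Nat.card G := (dvd_pow_self s hkpos.ne').trans hsk
    have hs2 : s ≠ 2 := by
      rintro rfl
      exact hodd hsd
    exact hpow s hs hs2 hsd k hsk
  have hle : Nat.card G ≤ 1 + a := Nat.le_of_dvd (by omega) hdvd
  have hsum := sum_cnt_le (G := G) {1, p, q}
  have hp1 : (1 : ℕ) ≠ p := hp.one_lt.ne
  have hq1 : (1 : ℕ) ≠ q := hq.one_lt.ne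
  rw [Finset.sum_insert (by simp [hp1, hq1]), Finset.sum_pair hpq, cnt_one, hcp, hcq] at hsum
  have ha0 : a ≠ 0 := hcp ▸ cnt_prime_ne_zero hp hpd
  omega

/-- different counts: no element of order `q ^ 2`. -/
theorem no_sq_two {p q : ℕ} (hp : p.Prime) (hq : q.Prime)
    (hpq : p ≠ q) (hp2 : p ≠ 2)
    (hpd : p ∣ Nat.card G) (hqd : q ∣ Nat.card G)
    (hcp : cnt G p = a) (hcq : cnt G q = b) (g : G) : orderOf g ≠ q ^ 2 := by
  intro hg
  haveI : Fact p.Prime := ⟨hp⟩
  haveI : Fact q.Prime := ⟨hq⟩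
  have hap := frob_pZ hp hpd
  rw [hcp] at hap
  have hbq := frob_pZ hq hqd
  rw [hcq] at hbq
  have hsq : q ^ 2 ∣ Nat.card G := hg ▸ orderOf_dvd_natCard g
  have e1 := frobZ (G := G) (q ^ 2) hsq q (dvd_pow_self q two_ne_zero)
  rw [exp_sq _ hq, cnt_one, hcq] at e1
  have h3 : 3 ≤ orderOf g := by
    rw [hg]
    have := hq.two_le
    nlinarith
  have hc := (hV g).resolve_left (cnt_ne_one g h3)
  rw [hg] at hc
  have hcq2 : cnt G (q ^ 2) = a := by
    rcases hc with h | h
    · exact h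
    · rw [h] at e1
      push_cast at e1
      exfalso
      have : (1 : ZMod q) = 0 := by linear_combination (-1 : ZMod q) * e1 + 2 * hbq
      exact one_ne_zero this
  have hcop : p.Coprime (q ^ 2) := Nat.Coprime.pow_right 2 ((Nat.coprime_primes hp hq).2 hpq)
  have hd2 : p * q ^ 2 ∣ Nat.card G := hcop.mul_dvd_of_dvd_of_dvd hpd hsq
  have e2 := frobZ (G := G) (p * q ^ 2) hd2 p (dvd_mul_right p _)
  rw [exp_pqsq _ hp hq hpq, cnt_one, hcq, hcp, hcq2] at e2
  have hd3 : p * q ∣ Nat.card G :=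
    ((Nat.coprime_primes hp hq).2 hpq).mul_dvd_of_dvd_of_dvd hpd hqd
  have e3 := frobZ (G := G) (p * q) hd3 p (dvd_mul_right p q)
  rw [exp_pq _ hp hq hpq, cnt_one, hcp, hcq] at e3
  push_cast at e2 e3
  have h3' : 3 ≤ p * q ^ 2 := by
    have := hp.two_le
    have := hq.two_le
    nlinarith
  have hb : cnt G (p * q ^ 2) = b := by
    rcases cnt3 a b hV h3' with h | h | h
    · rw [h] at e2
      push_cast at e2
      exfalso
      have : (1 : ZMod p) = 0 := by linear_combination (-1 : ZMod p) * e2 + e3 + hap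
      exact one_ne_zero this
    · rw [h] at e2
      exfalso
      apply two_ne_zero_Z hp hp2
      linear_combination (-1 : ZMod p) * e2 + e3 + 2 * hap
    · exact h
  have ht : (p * q ^ 2).totient ∣ cnt G (p * q ^ 2) := totient_dvd_card_orderOf_eq _
  rw [hb, Nat.totient_mul hcop, Nat.totient_prime_pow hq (by norm_num : 0 < 2)] at ht
  have hqb : q ∣ b := by
    refine Dvd.dvd.trans ?_ ht
    refine Dvd.dvd.mul_left ?_ _
    refine Dvd.dvd.mul_right ?_ _
    simp
  have hqb1 := frob_p (G := G) hq hqd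
  rw [hcq] at hqb1
  have : q ∣ 1 := (Nat.dvd_add_left hqb).1 hqb1
  exact hq.one_lt.ne' (Nat.dvd_one.1 this)

/-- different counts: `cnt (p*q) = a` is impossible. -/
theorem no_pq_aux {p q : ℕ} (hp : p.Prime) (hq : q.Prime)
    (hpq : p ≠ q) (hq2 : q ≠ 2)
    (hpd : p ∣ Nat.card G) (hqd : q ∣ Nat.card G)
    (hcp : cnt G p = a) (hcq : cnt G q = b) (hc : cnt G (p * q) = a) : False := by
  haveI : Fact p.Prime := ⟨hp⟩
  have hap := frob_pZ hp hpd
  rw [hcp] at hap
  have hd3 : p * q ∣ Nat.card G :=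
    ((Nat.coprime_primes hp hq).2 hpq).mul_dvd_of_dvd_of_dvd hpd hqd
  have e3 := frobZ (G := G) (p * q) hd3 p (dvd_mul_right p q)
  rw [exp_pq _ hp hq hpq, cnt_one, hcp, hcq, hc] at e3
  push_cast at e3
  have hb1 : ((b : ℕ) : ZMod p) = 1 := by linear_combination e3 - 2 * hap
  have hnd : ¬ p ∣ cnt G q := by
    rw [hcq]
    intro h
    rw [← ZMod.natCast_eq_zero_iff] at h
    rw [h] at hb1
    exact zero_ne_one hb1
  let P : Sylow p G := default
  obtain ⟨v, hv, hfix⟩ := exists_fixed_of_not_dvd P q hnd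
  have hge := cnt_mul_ge (G := G) hp hq hpq (fun u hu => exists_comm_of_fixed P q v hv hfix u hu)
  rw [hcp, hc] at hge
  have ha0 : a ≠ 0 := hcp ▸ cnt_prime_ne_zero hp hpd
  have hq3 : 3 ≤ q := by
    have := hq.two_le
    omega
  have : 2 * a ≤ (q - 1) * a := Nat.mul_le_mul_right a (by omega)
  omega

theorem no_pq {p q : ℕ} (hp : p.Prime) (hq : q.Prime)
    (hpq : p ≠ q) (hp2 : p ≠ 2) (hq2 : q ≠ 2)
    (hpd : p ∣ Nat.card G) (hqd : q ∣ Nat.card G)
    (hcp : cnt G p = a) (hcq : cnt G q = b) : cnt G (p * q) = 0 := by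
  rcases cnt3 a b hV (three_le_mul hp hq) with h | h | h
  · exact h
  · exact (no_pq_aux a b hV hp hq hpq hq2 hpd hqd hcp hcq h).elim
  · have hV' : ∀ g : G, cnt G (orderOf g) = 1 ∨ cnt G (orderOf g) = b ∨
        cnt G (orderOf g) = a := by
      intro g
      have := hV g
      tauto
    rw [mul_comm] at h
    exact (no_pq_aux b a hV' hq hp hpq.symm hp2 hqd hpd hcq hcp h).elim

end

end Cfsg.Agent.Lib.Helper22.NseB
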