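import Mathlib
import Cfsg.Prelude.Def_Solvable
import Cfsg.Agent.Lib.Helper22.CamA

set_option autoImplicit false

namespace Cfsg.Agent.Lib.Helper22.NseC

open Cfsg.Agent.Lib.Helper22.CamA
open Finset

/-- **Frobenius group of order `pq` acting with fixed-point-free kernel**: if `σ` normalizes
`⟨y⟩` (`y ^ q = 1`), no power `σ ^ l` (`0 < l < p`) centralizes `y`, the nontrivial powers of `y`
act fixed-point-freely on the abelian `q'`-group `𝔸`, and the norm of `σ` is trivial on `𝔸`,
then `𝔸` is trivial. -/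
theorem frobY {G 𝔸 : Type*} [Group G] [CommGroup 𝔸] [Finite 𝔸] (ρ : G →* MulAut 𝔸)
    (p q : ℕ) (hp : 0 < p) (hq : q.Prime) (hcop : ¬ q ∣ Nat.card 𝔸) (y σ : G) (hy : y ^ q = 1)
    (hnorm : ∀ l : ℕ, σ ^ l * y * (σ ^ l)⁻¹ ∈ Subgroup.zpowers y)
    (hne : ∀ l : ℕ, 0 < l → l < p → σ ^ l * y * (σ ^ l)⁻¹ ≠ y)
    (hfpf : ∀ g ∈ Subgroup.zpowers y, g ≠ 1 → ∀ a, ρ g a = a → a = 1)
    (hN : ∀ a : 𝔸, ∏ l ∈ range p, ρ (σ ^ l) a = 1) : ∀ a : 𝔸, a = 1 := by
  intro a
  have H1 : ∀ k ∈ range q, ∏ l ∈ range p, ρ (y ^ k * σ ^ l * (y ^ k)⁻¹) a = 1 := by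
    intro k _
    have h : ∀ l ∈ range p, ρ (y ^ k * σ ^ l * (y ^ k)⁻¹) a =
        ρ (y ^ k) (ρ (σ ^ l) (ρ ((y ^ k)⁻¹) a)) := by
      intro l _
      rw [map_mul, map_mul, MulAut.mul_apply, MulAut.mul_apply]
    rw [Finset.prod_congr rfl h, ← map_prod, hN, map_one]
  have H2 : ∏ l ∈ range p, ∏ k ∈ range q, ρ (y ^ k * σ ^ l * (y ^ k)⁻¹) a = 1 := by
    rw [Finset.prod_comm]
    exact Finset.prod_eq_one H1
  have H3 : ∀ l ∈ range p, l ≠ 0 → ∏ k ∈ range q, ρ (y ^ k * σ ^ l * (y ^ k)⁻¹) a = 1 := by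
    intro l hl hl0
    have hlp : l < p := Finset.mem_range.1 hl
    set w := σ ^ l * y * (σ ^ l)⁻¹ with hw
    have hwz : w ∈ Subgroup.zpowers y := hnorm l
    have hwy : w ≠ y := hne l (Nat.pos_of_ne_zero hl0) hlp
    have hcw : Commute y w := by
      obtain ⟨z, hz⟩ := Subgroup.mem_zpowers_iff.1 hwz
      rw [← hz]
      exact Commute.zpow_right (Commute.refl y) z
    set d := y * w⁻¹ with hd
    have hdz : d ∈ Subgroup.zpowers y :=
      (Subgroup.zpowers y).mul_mem (Subgroup.mem_zpowers y) ((Subgroup.zpowers y).inv_mem hwz)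
    have hd1 : d ≠ 1 := by
      intro h
      apply hwy
      rw [hd, mul_inv_eq_one] at h
      exact h.symm
    have hwk : ∀ k : ℕ, w ^ k = σ ^ l * y ^ k * (σ ^ l)⁻¹ := by
      intro k
      rw [hw, conj_pow]
    have key : ∀ k : ℕ, y ^ k * σ ^ l * (y ^ k)⁻¹ = d ^ k * σ ^ l := by
      intro k
      rw [hd, (hcw.inv_right).mul_pow, inv_pow, hwk]
      group
    have hdq : d ^ q = 1 := by
      obtain ⟨z, hz⟩ := Subgroup.mem_zpowers_iff.1 hdz
      rw [← hz, ← zpow_natCast, ← zpow_mul, mul_comm, zpow_mul, zpow_natCast, hy, one_zpow]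
    have h : ∀ k ∈ range q, ρ (y ^ k * σ ^ l * (y ^ k)⁻¹) a = (ρ d ^ k) (ρ (σ ^ l) a) := by
      intro k _
      rw [key k, map_mul, map_pow, MulAut.mul_apply]
    rw [Finset.prod_congr rfl h]
    exact norm_eq_one (ρ d) q (by rw [← map_pow, hdq, map_one]) (hfpf d hdz hd1) _
  have hp0 : 0 ∈ range p := Finset.mem_range.2 hp
  rw [Finset.prod_eq_single_of_mem 0 hp0 H3] at H2
  simp only [pow_zero, mul_one, mul_inv_cancel, map_one, MulAut.one_apply, Finset.prod_const,
    Finset.card_range] at H2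
  have h5 : orderOf a ∣ q := orderOf_dvd_of_pow_eq_one H2
  have h6 : orderOf a ∣ Nat.card 𝔸 := orderOf_dvd_natCard a
  rcases (Nat.dvd_prime hq).1 h5 with h | h
  · exact orderOf_eq_one_iff.1 h
  · exact absurd (h ▸ h6) hcop

section
variable {G : Type*} [Group G]

theorem conj_pow_mem {y g : G} (hg : g * y * g⁻¹ ∈ Subgroup.zpowers y) (l : ℕ) :
    g ^ l * y * (g ^ l)⁻¹ ∈ Subgroup.zpowers y := by
  have h1 : ∀ x ∈ Subgroup.zpowers y, g * x * g⁻¹ ∈ Subgroup.zpowers y := by
    intro x hx
    obtain ⟨z, rfl⟩ := Subgroup.mem_zpowers_iff.1 hx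
    rw [← conj_zpow]
    exact (Subgroup.zpowers y).zpow_mem hg z
  induction l with
  | zero => simp
  | succ n ih =>
    have := h1 _ ih
    have e : g ^ (n + 1) * y * (g ^ (n + 1))⁻¹ = g * (g ^ n * y * (g ^ n)⁻¹) * g⁻¹ := by
      rw [pow_succ']
      group
    rw [e]
    exact this

/-- an element of order `q` normalizing `⟨y⟩` (`y` of prime order `q`) centralizes `y`. -/
theorem comm_of_normalizes {q : ℕ} (hq : q.Prime) {y g : G} (hy : orderOf y = q)
    (hgq : g ^ q = 1) (hg : g * y * g⁻¹ ∈ Subgroup.zpowers y) : g * y = y * g := by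
  haveI : Fact q.Prime := ⟨hq⟩
  have hfin : IsOfFinOrder y := by
    rw [← orderOf_pos_iff, hy]
    exact hq.pos
  have hpow : g * y * g⁻¹ ∈ Submonoid.powers y := (hfin.mem_powers_iff_mem_zpowers).2 hg
  obtain ⟨s, hs⟩ := (Submonoid.mem_powers_iff _ _).1 hpow
  have hk : ∀ k : ℕ, g ^ k * y * (g ^ k)⁻¹ = y ^ (s ^ k) := by
    intro k
    induction k with
    | zero => simp
    | succ n ih =>
      have e : g ^ (n + 1) * y * (g ^ (n + 1))⁻¹ = g * (g ^ n * y * (g ^ n)⁻¹) * g⁻¹ := by
        rw [pow_succ']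
        group
      rw [e, ih, ← conj_pow, ← hs, ← pow_mul, pow_succ, mul_comm]
  have h1 := hk q
  rw [hgq, one_mul, inv_one, mul_one] at h1
  have h2 : y ^ 1 = y ^ (s ^ q) := by rw [pow_one]; exact h1
  rw [pow_eq_pow_iff_modEq, hy, ← ZMod.natCast_eq_natCast_iff] at h2
  push_cast at h2
  rw [ZMod.pow_card] at h2
  have h3 : y ^ s = y ^ 1 := by
    rw [pow_eq_pow_iff_modEq, hy, ← ZMod.natCast_eq_natCast_iff]
    push_cast
    exact h2.symm
  rw [pow_one] at h3
  rw [h3] at hs
  calc g * y = g * y * g⁻¹ * g := by group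
    _ = y * g := by rw [← hs]

end

open scoped IsMulCommutative Pointwise

theorem struct_aux {G : Type*} [Group G] [Finite G] (p q : ℕ) [hp : Fact p.Prime]
    [hq : Fact q.Prime] (hpq : p ≠ q)
    (hord : ∀ g : G, orderOf g = 1 ∨ orderOf g = p ∨ orderOf g = q)
    (hqd : q ∣ Nat.card G)
    (V : Subgroup G) [V.Normal] (hV1 : V ≠ ⊥) [hVc : IsMulCommutative V]
    (hVp : ∀ x ∈ V, x ^ p = 1) :
    ∃ C : Subgroup G, Cfsg.IsFrobeniusComplement C ∧ (Nat.card C).Prime := by
  have hp1 := hp.1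
  have hq1 := hq.1
  have hcop : Nat.Coprime p q := (Nat.coprime_primes hp1 hq1).2 hpq
  obtain ⟨y, hy⟩ := exists_prime_orderOf_dvd_card' q hqd
  obtain ⟨w0, hw0V, hw01⟩ : ∃ w : G, w ∈ V ∧ w ≠ 1 := by
    obtain ⟨a, ha⟩ := (Subgroup.ne_bot_iff_exists_ne_one (H := V)).1 hV1
    exact ⟨(a : G), a.2, fun h => ha (Subtype.ext h)⟩
  have hcardV : ¬ q ∣ Nat.card V := by
    intro h
    obtain ⟨x, hx⟩ := exists_prime_orderOf_dvd_card' q h
    have h1 : (x : G) ^ p = 1 := hVp x x.2
    have h2 : x ^ p = 1 := Subtype.ext (by simpa using h1)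
    have hd : q ∣ p := hx ▸ orderOf_dvd_of_pow_eq_one h2
    exact hpq ((Nat.prime_dvd_prime_iff_eq hq1 hp1).1 hd).symm
  have hVord : ∀ w ∈ V, w ≠ 1 → orderOf w = p := fun w hw hw1 => by
    have := orderOf_dvd_of_pow_eq_one (hVp w hw)
    rcases (Nat.dvd_prime hp1).1 this with h | h
    · exact absurd (orderOf_eq_one_iff.1 h) hw1
    · exact h
  -- no commuting pair of orders p, q
  have no_comm : ∀ u v : G, orderOf u = p → orderOf v = q → u * v = v * u → False := by
    intro u v hu hv hc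
    have hcomm : Commute u v := hc
    have ho : orderOf (u * v) = p * q := by
      rw [hcomm.orderOf_mul_eq_mul_orderOf_of_coprime (by rw [hu, hv]; exact hcop), hu, hv]
    have h2p := hp1.two_le
    have h2q := hq1.two_le
    rcases hord (u * v) with h | h | h
    · rw [ho] at h
      nlinarith
    · rw [ho] at h
      nlinarith
    · rw [ho] at h
      nlinarith
  have hfpfG : ∀ g : G, orderOf g = q → ∀ w ∈ V, g * w * g⁻¹ = w → w = 1 := by
    intro g hg w hw hc
    by_contra hw1
    have hwo := hVord w hw hw1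
    apply no_comm w g hwo hg
    calc w * g = g * w * g⁻¹ * g := by rw [hc]
      _ = g * w := by group
  let ρ : G →* MulAut V := MulAut.conjNormal
  have hρ : ∀ (g : G) (a : V), ((ρ g a : V) : G) = g * a * g⁻¹ :=
    fun g a => MulAut.conjNormal_apply g a
  have hfpfρ : ∀ g : G, orderOf g = q → ∀ a : V, ρ g a = a → a = 1 := by
    intro g hg a ha
    have := hfpfG g hg a a.2 (by rw [← hρ, ha])
    exact Subtype.ext this
  have hnontriv : ¬ ∀ a : V, a = 1 := by
    intro h
    have := h ⟨w0, hw0V⟩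
    exact hw01 (congrArg Subtype.val this)
  set C := Subgroup.zpowers y with hC
  have hCcard : Nat.card C = q := by rw [Nat.card_zpowers, hy]
  have hyq : y ^ q = 1 := by rw [← hy]; exact pow_orderOf_eq_one y
  have hCord : ∀ g ∈ C, g ≠ 1 → orderOf g = q := by
    intro g hg hg1
    have h1 : orderOf g ∣ q := by
      have := Subgroup.orderOf_dvd_natCard C hg
      rwa [hCcard] at this
    rcases (Nat.dvd_prime hq1).1 h1 with h | h
    · exact absurd (orderOf_eq_one_iff.1 h) hg1
    · exact h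
  have hnormC : ∀ g : G, g * y * g⁻¹ ∈ C → g ∈ C := by
    intro g hg
    rcases hord g with ho | ho | ho
    · rw [orderOf_eq_one_iff] at ho
      rw [ho]
      exact C.one_mem
    · exfalso
      have hgp : g ^ p = 1 := by rw [← ho]; exact pow_orderOf_eq_one g
      apply hnontriv
      apply frobY ρ p q hp1.pos hq1 hcardV y g hyq (conj_pow_mem hg)
      · intro l hl0 hlp hc
        have hol : orderOf (g ^ l) = p := by
          rw [Nat.Coprime.orderOf_pow, ho]
          rw [ho]
          exact (Nat.Prime.coprime_iff_not_dvd hp1).2 (Nat.not_dvd_of_pos_of_lt hl0 hlp)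
        apply no_comm (g ^ l) y hol hy
        calc g ^ l * y = g ^ l * y * (g ^ l)⁻¹ * g ^ l := by group
          _ = y * g ^ l := by rw [hc]
      · intro g' hg' hg'1 a ha
        exact hfpfρ g' (hCord g' hg' hg'1) a ha
      · intro a
        have ident : ∀ n : ℕ, ((∏ l ∈ range n, ρ (g ^ l) a : V) : G) * g ^ n =
            ((a : G) * g) ^ n := by
          intro n
          induction n with
          | zero => simp
          | succ n ih =>
            rw [Finset.prod_range_succ, Subgroup.coe_mul, hρ, pow_succ ((a : G) * g), ← ih,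
              pow_succ]
            group
        have h1 := ident p
        rw [hgp, mul_one] at h1
        set t := (a : G) * g with ht
        have htV : t ^ p ∈ V := by
          rw [← h1]
          exact Subtype.coe_prop _
        have htpp : (t ^ p) ^ p = 1 := hVp _ htV
        have hto : orderOf t ∣ p * p := by
          rw [← pow_mul] at htpp
          exact orderOf_dvd_of_pow_eq_one htpp
        have htp : t ^ p = 1 := by
          rcases hord t with h | h | h
          · rw [orderOf_eq_one_iff] at h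
            rw [h, one_pow]
          · rw [← h]
            exact pow_orderOf_eq_one t
          · exfalso
            rw [h] at hto
            rcases (Nat.Prime.dvd_mul hq1).1 hto with h' | h' <;>
              exact hpq ((Nat.prime_dvd_prime_iff_eq hq1 hp1).1 h').symm
        rw [htp] at h1
        exact Subtype.ext h1
    · by_contra hgC
      have hgq : g ^ q = 1 := by rw [← ho]; exact pow_orderOf_eq_one g
      have hcomm : g * y = y * g := comm_of_normalizes hq1 hy hgq hg
      apply hnontriv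
      have hc : Commute (ρ g) (ρ y) := by
        show ρ g * ρ y = ρ y * ρ g
        rw [← map_mul, ← map_mul, hcomm]
      apply noncyclic_fpf q hq1 hcardV (ρ g) (ρ y) hc
      · rw [← map_pow, hgq, map_one]
      · rw [← map_pow, hyq, map_one]
      · exact hfpfρ y hy
      · intro j
        rw [← map_pow, ← map_mul]
        apply hfpfρ
        have hne1 : g * y ^ j ≠ 1 := by
          intro h
          apply hgC
          have : g = (y ^ j)⁻¹ := eq_inv_of_mul_eq_one_left h
          rw [this]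
          exact C.inv_mem (C.pow_mem (Subgroup.mem_zpowers y) j)
        have hcj : Commute g (y ^ j) := Commute.pow_right hcomm j
        have hq' : (g * y ^ j) ^ q = 1 := by
          rw [hcj.mul_pow, hgq, ← pow_mul, mul_comm, pow_mul, hyq, one_pow, mul_one]
        rcases (Nat.dvd_prime hq1).1 (orderOf_dvd_of_pow_eq_one hq') with h | h
        · exact absurd (orderOf_eq_one_iff.1 h) hne1
        · exact h
  refine ⟨C, ⟨?_, ?_, ?_⟩, by rw [hCcard]; exact hq1⟩
  · intro h
    rw [h, Subgroup.card_bot] at hCcard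
    exact hq1.one_lt.ne' hCcard.symm
  · intro h
    have hw0C : w0 ∈ C := by rw [h]; exact Subgroup.mem_top _
    have := hCord w0 hw0C hw01
    rw [hVord w0 hw0V hw01] at this
    exact hpq this
  · intro g hgC
    rw [Subgroup.eq_bot_iff_forall]
    intro x hx
    by_contra hx1
    obtain ⟨hxC, hxg⟩ := Subgroup.mem_inf.1 hx
    rw [Subgroup.mem_pointwise_smul_iff_inv_smul_mem, MulAut.smul_def, MulAut.conj_inv_apply] at hxg
    have hxo := hCord x hxC hx1
    have hzx : Subgroup.zpowers x = C := by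
      apply Subgroup.eq_of_le_of_card_ge (Subgroup.zpowers_le.2 hxC)
      rw [hCcard, Nat.card_zpowers, hxo]
    have hyx : y ∈ Subgroup.zpowers x := by rw [hzx]; exact Subgroup.mem_zpowers y
    obtain ⟨z, hz⟩ := Subgroup.mem_zpowers_iff.1 hyx
    have h1 : g⁻¹ * y * (g⁻¹)⁻¹ ∈ C := by
      rw [← hz, ← conj_zpow]
      apply C.zpow_mem
      rw [inv_inv]
      exact hxg
    have := hnormC g⁻¹ h1
    exact hgC (inv_inv g ▸ C.inv_mem this)

end Cfsg.Agent.Lib.Helper22.NseC
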