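import Cfsg.Agent.Lib.Helper22.O4320KILLBcore
import Cfsg.Agent.Lib.Helper25.O4320TOP5core
import Cfsg.Agent.Lib.Helper18.O4320FUSE
import Cfsg.Agent.Lib.helper3.O4320RAT
import Cfsg.Agent.Lib.helper8.O4320TVAL
import Cfsg.Agent.Lib.helper17.O4320CLEQ
import Cfsg.Agent.Lib.Helper16.O4320ARITHB

/-!
# Project O4320 (S0977), piece KILLB: `kill_b` (verbatim wrapper of `o4320killb_core`).
-/

set_option autoImplicit false
set_option linter.unusedVariables false
set_option linter.unusedSectionVars false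

namespace Cfsg.Agent.Lib.Helper10.O4320

open Classical
open scoped ComplexConjugate
open Cfsg.Agent.Lib.helper7.BR Cfsg.Agent.Lib.Helper25 Cfsg.Agent.Lib.Helper29

universe u

variable {G : Type u} [Group G] [Fintype G]

/-- KILLB [L]: the case `C_G(P) = P`, `|N_G(P) : C_G(P)| = 4`. -/
theorem kill_b (hperf : commutator G = ⊤) (hG : Nat.card G = 4320) (P : Sylow 5 G)
    (hP : Nat.card ↥(P : Subgroup G) = 5) (hcen : cen P = (P : Subgroup G))
    (hrel : (cen P).relIndex (nrm P) = 4) : False :=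
  o4320killb_core hperf hG P hP hcen hrel
    (o4320top5_core P hP hcen
      (fun x y hx hx1 hy hy1 => fuse_top P hP (hrel.trans (by norm_num)) x y hx hx1 hy hy1)
      (fun χ hχ d hd c hc => rat_vals P hP χ hχ d hd c hc))
    (fun t ht1 ht2 hinv χ hχ d hd v hv => tval (by norm_num) P hP t ht1 ht2 hinv χ hχ d hd v hv)
    (fun t ht1 ht2 hinv x hx hx1 => class_eq (by norm_num) P hP hcen t ht1 ht2 hinv x hx hx1)
    arith_b

end Cfsg.Agent.Lib.Helper10.O4320
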