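import Mathlib
import Cfsg.Agent.Lib.Helper10.O4320.Defs
import Cfsg.Agent.Lib.Helper22.O4320COL
import Cfsg.Agent.Lib.helper4.BTINV
import Cfsg.Agent.Lib.helper23.BRPERF
import Cfsg.Agent.Lib.helper23.BRSQ
import Cfsg.Agent.Lib.helper2.CharInt
import Cfsg.Agent.Lib.helper2.CharNat

/-!
# Project O4320 (S0977), piece KILLB (core): the case `C_G(P) = P`, `|N_G(P) : C_G(P)| = 4`,
with the statements of `top_five`, `tval`, `class_eq`, `arith_b` as hypotheses.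
-/

set_option autoImplicit false
set_option linter.unusedVariables false
set_option linter.unusedSectionVars false

namespace Cfsg.Agent.Lib.Helper10.O4320

open Classical
open scoped ComplexConjugate
open Cfsg.Agent.Lib.helper7.BR Cfsg.Agent.Lib.Helper25 Cfsg.Agent.Lib.Helper29

universe u

variable {G : Type u} [Group G] [Fintype G]

/-- KILLB (core): `top_five`, `tval`, `class_eq` (at `p = 5`, for the given `P`) and `arith_b` as hypotheses. -/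
theorem o4320killb_core (hperf : commutator G = ⊤) (hG : Nat.card G = 4320) (P : Sylow 5 G)
    (hP : Nat.card ↥(P : Subgroup G) = 5) (hcen : cen P = (P : Subgroup G))
    (hrel : (cen P).relIndex (nrm P) = 4)
    (htop : ∃ (B : Finset (Cfsg.IrrCharacter G)) (v : Cfsg.IrrCharacter G → ℤ), B.card = 5 ∧
      trivIrr G ∈ B ∧ v (trivIrr G) = 1 ∧
      (∀ χ ∈ B, (v χ = 1 ∨ v χ = -1) ∧ (5 : ℤ) ∣ (leoDeg χ : ℤ) - v χ) ∧
      (∀ χ ∈ B, ∀ x ∈ (P : Subgroup G), x ≠ 1 → (χ : G → ℂ) x = (v χ : ℂ)) ∧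
      (∀ χ : Cfsg.IrrCharacter G, χ ∉ B → ∀ x ∈ (P : Subgroup G), x ≠ 1 → (χ : G → ℂ) x = 0) ∧
      ∑ χ ∈ B, v χ * (leoDeg χ : ℤ) = 0)
    (htval : ∀ (t : G) (ht1 : t ≠ 1) (ht2 : t * t = 1)
      (hinv : ∀ x ∈ (P : Subgroup G), t * x * t⁻¹ = x⁻¹)
      (χ : G → ℂ) (hχ : Cfsg.IsCharacter G χ) (d : ℕ) (hd : χ 1 = (d : ℂ)) (v : ℤ)
      (hv : ∀ x ∈ (P : Subgroup G), x ≠ 1 → χ x = (v : ℂ)),
      ∃ (k : ℤ) (m₀ m₁ : ℕ), χ t = (k : ℂ) ∧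
        (d : ℤ) + (((5 : ℕ) : ℤ) - 1) * v + ((5 : ℕ) : ℤ) * k = 2 * ((5 : ℕ) : ℤ) * (m₀ : ℤ) ∧
        (d : ℤ) + (((5 : ℕ) : ℤ) - 1) * v - ((5 : ℕ) : ℤ) * k = 2 * ((5 : ℕ) : ℤ) * (m₁ : ℤ))
    (hcleq : ∀ (t : G) (ht1 : t ≠ 1) (ht2 : t * t = 1)
      (hinv : ∀ x ∈ (P : Subgroup G), t * x * t⁻¹ = x⁻¹) (x : G) (hx : x ∈ (P : Subgroup G))
      (hx1 : x ≠ 1),
      (((5 : ℕ) : ℂ)) * (Nat.card ↥(Subgroup.centralizer ({t} : Set G)) : ℂ) ^ 2 =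
        (Nat.card G : ℂ) * ∑ᶠ χ : Cfsg.IrrCharacter G,
          (χ : G → ℂ) t * (χ : G → ℂ) t * conj ((χ : G → ℂ) x) / (χ : G → ℂ) 1)
    (harith : ∀ (D : Fin 4 → ℕ) (v k : Fin 4 → ℤ) (c : ℕ)
      (hv : ∀ i, v i = 1 ∨ v i = -1) (hD2 : ∀ i, 2 ≤ D i) (hDdvd : ∀ i, D i ∣ 4320)
      (hDc : ∀ i, (5 : ℤ) ∣ (D i : ℤ) - v i) (hrel : 1 + ∑ i, v i * (D i : ℤ) = 0)
      (hsq : 1 + ∑ i, (D i) ^ 2 ≤ 4320)
      (hk : ∀ i, ∃ m₀ m₁ : ℕ, (D i : ℤ) + 4 * v i + 5 * k i = 10 * (m₀ : ℤ) ∧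
        (D i : ℤ) + 4 * v i - 5 * k i = 10 * (m₁ : ℤ))
      (hcol : 1 + ∑ i, (k i) ^ 2 ≤ (c : ℤ))
      (hcl : (5 : ℚ) * (c : ℚ) ^ 2 =
        4320 * (1 + ∑ i, (v i : ℚ) * (k i : ℚ) ^ 2 / (D i : ℚ))), False) : False := by
  have hFI : Fintype (Cfsg.IrrCharacter G) := Fintype.ofFinite _
  obtain ⟨B, v, hBcard, htrivB, hvtriv, hBv, hBval, hBout, hBsum⟩ := htop
  obtain ⟨t, ht1, ht2, hinv⟩ := Cfsg.Agent.Lib.Helper13.BT.exists_inverting (p := 5) (by norm_num)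
    P hP hcen (by rw [hrel]; exact ⟨2, rfl⟩)
  -- a non-trivial element of `P`
  obtain ⟨x, hx, hx1⟩ : ∃ x : G, x ∈ (P : Subgroup G) ∧ x ≠ 1 := by
    haveI : Nontrivial ↥(P : Subgroup G) :=
      (Finite.one_lt_card_iff_nontrivial).1 (by rw [hP]; norm_num)
    obtain ⟨z, hz⟩ := exists_ne (1 : ↥(P : Subgroup G))
    exact ⟨z.1, z.2, fun h => hz (Subtype.ext h)⟩
  -- the values at `t`
  have hkex : ∀ χ : Cfsg.IrrCharacter G, χ ∈ B → ∃ (k : ℤ) (m₀ m₁ : ℕ), (χ : G → ℂ) t = (k : ℂ) ∧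
      (leoDeg χ : ℤ) + (((5 : ℕ) : ℤ) - 1) * v χ + ((5 : ℕ) : ℤ) * k = 2 * ((5 : ℕ) : ℤ) * (m₀ : ℤ) ∧
      (leoDeg χ : ℤ) + (((5 : ℕ) : ℤ) - 1) * v χ - ((5 : ℕ) : ℤ) * k = 2 * ((5 : ℕ) : ℤ) * (m₁ : ℤ) :=
    fun χ hχ => htval t ht1 ht2 hinv (χ : G → ℂ) (Cfsg.Agent.Lib.helper2.isCharacter_of_irr χ)
      (leoDeg χ) (leoDeg_spec χ) (v χ) (hBval χ hχ)
  obtain ⟨k, hkdef⟩ : ∃ k : Cfsg.IrrCharacter G → ℤ,
      k = fun χ => if h : χ ∈ B then Classical.choose (hkex χ h) else 0 := ⟨_, rfl⟩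
  have hkspec : ∀ χ : Cfsg.IrrCharacter G, χ ∈ B → ∃ (m₀ m₁ : ℕ), (χ : G → ℂ) t = (k χ : ℂ) ∧
      (leoDeg χ : ℤ) + 4 * v χ + 5 * k χ = 10 * (m₀ : ℤ) ∧
      (leoDeg χ : ℤ) + 4 * v χ - 5 * k χ = 10 * (m₁ : ℤ) := by
    intro χ hχ
    obtain ⟨m₀, m₁, h1, h2, h3⟩ := Classical.choose_spec (hkex χ hχ)
    have hk' : k χ = Classical.choose (hkex χ hχ) := by rw [hkdef]; simp only [hχ, dif_pos]
    rw [← hk'] at h1 h2 h3
    refine ⟨m₀, m₁, h1, ?_, ?_⟩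
    · push_cast at h2; linarith
    · push_cast at h3; linarith
  have hkt : ∀ χ ∈ B, (χ : G → ℂ) t = (k χ : ℂ) := fun χ hχ => by
    obtain ⟨_, _, h1, _⟩ := hkspec χ hχ; exact h1
  have hktriv : k (trivIrr G) = 1 := by
    have h1 := hkt _ htrivB
    rw [trivIrr_apply] at h1
    exact_mod_cast h1.symm
  have hDtriv : leoDeg (trivIrr G) = 1 := by
    have h1 := leoDeg_spec (trivIrr G)
    rw [trivIrr_apply] at h1
    exact_mod_cast h1.symm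
  -- COL
  have hcol := col_ge t B k hkt
  obtain ⟨c, hcdef⟩ : ∃ c : ℕ, c = Nat.card ↥(Subgroup.centralizer ({t} : Set G)) := ⟨_, rfl⟩
  rw [← hcdef] at hcol
  -- CLEQ
  have hcl := hcleq t ht1 ht2 hinv x hx hx1
  rw [← hcdef, hG, finsum_eq_sum_of_fintype] at hcl
  have hterm : ∀ χ ∈ B, (χ : G → ℂ) t * (χ : G → ℂ) t * conj ((χ : G → ℂ) x) / (χ : G → ℂ) 1 =
      (((v χ : ℚ) * (k χ : ℚ) ^ 2 / (leoDeg χ : ℚ) : ℚ) : ℂ) := by
    intro χ hχ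
    rw [hkt χ hχ, hBval χ hχ x hx hx1, leoDeg_spec]
    have : conj ((v χ : ℤ) : ℂ) = ((v χ : ℤ) : ℂ) := by
      rw [show ((v χ : ℤ) : ℂ) = (((v χ : ℤ) : ℝ) : ℂ) by norm_cast, Complex.conj_ofReal]
    rw [this]
    push_cast
    ring
  have hsub : ∑ χ : Cfsg.IrrCharacter G,
      (χ : G → ℂ) t * (χ : G → ℂ) t * conj ((χ : G → ℂ) x) / (χ : G → ℂ) 1 =
      ∑ χ ∈ B, (χ : G → ℂ) t * (χ : G → ℂ) t * conj ((χ : G → ℂ) x) / (χ : G → ℂ) 1 := by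
    symm
    apply Finset.sum_subset (Finset.subset_univ B)
    intro χ _ hχ
    rw [hBout χ hχ x hx hx1, map_zero, mul_zero, zero_div]
  rw [hsub, Finset.sum_congr rfl hterm] at hcl
  have hclQ : (5 : ℚ) * (c : ℚ) ^ 2 =
      4320 * ∑ χ ∈ B, (v χ : ℚ) * (k χ : ℚ) ^ 2 / (leoDeg χ : ℚ) := by
    apply Rat.cast_injective (α := ℂ)
    push_cast
    push_cast at hcl
    exact hcl
  -- enumerate `B.erase (trivIrr G)`
  have hB'card : (B.erase (trivIrr G)).card = 4 := by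
    rw [Finset.card_erase_of_mem htrivB, hBcard]
  obtain ⟨e, -⟩ : ∃ e : Fin 4 ≃ ↥(B.erase (trivIrr G)), True :=
    ⟨((B.erase (trivIrr G)).equivFinOfCardEq hB'card).symm, trivial⟩
  have hsplit : ∀ {M : Type} [AddCommMonoid M] (f : Cfsg.IrrCharacter G → M),
      ∑ χ ∈ B, f χ = f (trivIrr G) + ∑ i : Fin 4, f (e i).1 := by
    intro M _ f
    rw [← Finset.add_sum_erase B f htrivB, ← Finset.sum_coe_sort (B.erase (trivIrr G)) f,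
      ← Equiv.sum_comp e (fun j : ↥(B.erase (trivIrr G)) => f j.1)]
  have hmem : ∀ i : Fin 4, (e i).1 ∈ B := fun i => Finset.mem_of_mem_erase (e i).2
  have hne : ∀ i : Fin 4, (e i).1 ≠ trivIrr G := fun i => Finset.ne_of_mem_erase (e i).2
  apply harith (fun i => leoDeg (e i).1) (fun i => v (e i).1) (fun i => k (e i).1) c
  · intro i; exact (hBv _ (hmem i)).1
  · intro i
    obtain ⟨d, hd2, hd⟩ := deg_ge_two hperf (e i).1 (hne i)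
    rw [leoDeg_spec] at hd
    have : leoDeg (e i).1 = d := by exact_mod_cast hd
    rw [this]; exact hd2
  · intro i
    obtain ⟨n, _, hn, hdvd⟩ := Cfsg.Agent.Lib.helper2.irr_degree_dvd_card (e i).1
    rw [leoDeg_spec] at hn
    have : leoDeg (e i).1 = n := by exact_mod_cast hn
    rw [this, ← hG]; exact hdvd
  · intro i; exact (hBv _ (hmem i)).2
  · have := hsplit (fun χ => v χ * (leoDeg χ : ℤ))
    rw [hBsum, hvtriv, hDtriv] at this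
    simp only [Nat.cast_one, mul_one] at this
    exact this.symm
  · have h1 := sum_sq_le B leoDeg (fun χ _ => leoDeg_spec χ)
    rw [hsplit (fun χ => (leoDeg χ) ^ 2), hDtriv, hG] at h1
    simpa using h1
  · intro i
    obtain ⟨m₀, m₁, _, h2, h3⟩ := hkspec _ (hmem i)
    exact ⟨m₀, m₁, h2, h3⟩
  · rw [hsplit (fun χ => (k χ) ^ 2), hktriv] at hcol
    simpa using hcol
  · rw [hsplit (fun χ => (v χ : ℚ) * (k χ : ℚ) ^ 2 / (leoDeg χ : ℚ)), hvtriv, hktriv, hDtriv] at hclQ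
    simpa using hclQ

end Cfsg.Agent.Lib.Helper10.O4320
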