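import Cfsg.Agent.Lib.Helper28.O73C.Defs

/-!
Project O73C (S5514), piece CV : enumeration of all vectors of `F_3^7` (helper22).
-/

set_option autoImplicit false

namespace Cfsg.Agent.Lib.Helper28.O73C

open Cfsg.Agent.Lib.Helper12.O73 Matrix

theorem h22_tri_spec (p : ℕ → Bool) (h : tri p = true) (k : ℕ) (hk : k < 3) : p k = true := by
  unfold tri at h
  rw [Bool.and_eq_true, Bool.and_eq_true] at h
  interval_cases k
  · exact h.1.1
  · exact h.1.2
  · exact h.2

theorem h22_val_lt (x : K) : x.val < 3 := ZMod.val_lt x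

theorem h22_toVec_val (v : I7 → K) :
    (V7.mk (v (.inl ())).val (v (.inr (.inl 0))).val (v (.inr (.inl 1))).val
      (v (.inr (.inl 2))).val (v (.inr (.inr 0))).val (v (.inr (.inr 1))).val
      (v (.inr (.inr 2))).val).toVec = v := by
  funext i
  rcases i with i | i | i
  · show (((v (.inl ())).val : ℕ) : K) = v (.inl i)
    rw [ZMod.natCast_zmod_val]
  · fin_cases i
    · show (((v (.inr (.inl 0))).val : ℕ) : K) = _
      rw [ZMod.natCast_zmod_val]; rfl
    · show (((v (.inr (.inl 1))).val : ℕ) : K) = _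
      rw [ZMod.natCast_zmod_val]; rfl
    · show (((v (.inr (.inl 2))).val : ℕ) : K) = _
      rw [ZMod.natCast_zmod_val]; rfl
  · fin_cases i
    · show (((v (.inr (.inr 0))).val : ℕ) : K) = _
      rw [ZMod.natCast_zmod_val]; rfl
    · show (((v (.inr (.inr 1))).val : ℕ) : K) = _
      rw [ZMod.natCast_zmod_val]; rfl
    · show (((v (.inr (.inr 2))).val : ℕ) : K) = _
      rw [ZMod.natCast_zmod_val]; rfl

theorem allV_spec (p : V7 → Bool) (h : allV p = true) (v : I7 → K) :
    ∃ a : V7, a.toVec = v ∧ p a = true := by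
  refine ⟨_, h22_toVec_val v, ?_⟩
  unfold allV at h
  have h0 := h22_tri_spec _ h _ (h22_val_lt (v (.inl ())))
  have h1 := h22_tri_spec _ h0 _ (h22_val_lt (v (.inr (.inl 0))))
  have h2 := h22_tri_spec _ h1 _ (h22_val_lt (v (.inr (.inl 1))))
  have h3 := h22_tri_spec _ h2 _ (h22_val_lt (v (.inr (.inl 2))))
  have h4 := h22_tri_spec _ h3 _ (h22_val_lt (v (.inr (.inr 0))))
  have h5 := h22_tri_spec _ h4 _ (h22_val_lt (v (.inr (.inr 1))))
  exact h22_tri_spec _ h5 _ (h22_val_lt (v (.inr (.inr 2))))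

end Cfsg.Agent.Lib.Helper28.O73C
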