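import Mathlib
import Cfsg.Prelude.Def_Classical
import Cfsg.Agent.Lib.helper3.O9A.Defs

set_option autoImplicit false

/-!
# Project O9A (S2517), row CAY (helper22): `cayley`, verbatim from `helper3/O9A/Skel.lean.txt`.
The Cayley transform `z = (1 + N) (1 - N)⁻¹` of a skew nilpotent endomorphism `N`.
-/

namespace Cfsg.Agent.Lib.helper3.O9A

open Matrix Module Polynomial Cfsg.Agent.Lib.Helper1.S8U

/-- CAY -/
theorem cayley {F : Type*} [Field F] (h2 : (2 : F) ≠ 0) {V : Type*} [AddCommGroup V] [Module F V] (Q : QuadraticForm F V)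
    (N : Module.End F V) (hN : ∀ x x', QuadraticMap.polar Q (N x) x' = - QuadraticMap.polar Q x (N x')) (d : ℕ) (hd : N ^ d = 0) :
    ∃ z : Module.End F V, (∀ v, Q (z v) = Q v) ∧ (∀ j : ℕ, (z - 1) ^ j = 0 ↔ N ^ j = 0) ∧
      ∀ a : Module.End F V, Commute a N → Commute a z := by
  set A' : Module.End F V := ∑ i ∈ Finset.range d, N ^ i with hA'
  have h1 : (1 - N) * A' = 1 := by rw [hA', mul_neg_geom_sum, hd, sub_zero]
  have h1' : A' * (1 - N) = 1 := by rw [hA', geom_sum_mul_neg, hd, sub_zero]
  have hcNA : Commute N A' :=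
    Commute.sum_right _ _ _ (fun i _ => (Commute.refl N).pow_right i)
  have hcA'A : Commute A' (1 - N) := by
    show A' * (1 - N) = (1 - N) * A'
    rw [h1, h1']
  have hz1 : (1 + N) * A' - 1 = (2 : F) • (N * A') := by
    have : (1 + N) * A' - 1 = (1 + N) * A' - (1 - N) * A' := by rw [h1]
    rw [this, ← sub_mul, two_smul, ← add_mul]
    congr 1
    abel
  have hpow : ∀ j : ℕ, ((1 + N) * A' - 1) ^ j = ((2 : F) ^ j) • (N ^ j * A' ^ j) := by
    intro j
    rw [hz1, _root_.smul_pow, hcNA.mul_pow]
  refine ⟨(1 + N) * A', ?_, ?_, ?_⟩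
  · intro v
    set x := A' v with hx
    have hv : v = x - N x := by
      have := congrArg (fun T : Module.End F V => T v) h1
      simp only [Module.End.mul_apply, LinearMap.sub_apply, Module.End.one_apply] at this
      rw [hx]
      exact this.symm
    have hzv : ((1 + N) * A') v = x + N x := by
      rw [Module.End.mul_apply, LinearMap.add_apply, Module.End.one_apply]
    have hpol : QuadraticMap.polar Q x (N x) = 0 := by
      have h3 := hN x x
      rw [QuadraticMap.polar_comm] at h3
      have h4 : (2 : F) * QuadraticMap.polar Q x (N x) = 0 := by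
        rw [two_mul]
        nth_rewrite 1 [h3]
        exact neg_add_cancel _
      rcases mul_eq_zero.1 h4 with h5 | h5
      · exact absurd h5 h2
      · exact h5
    have hQv : Q v = Q (x + -(N x)) := by rw [← sub_eq_add_neg, ← hv]
    rw [hzv, hQv, QuadraticMap.map_add (⇑Q) x (N x), QuadraticMap.map_add (⇑Q) x (-(N x)),
      QuadraticMap.map_neg, QuadraticMap.polar_neg_right, hpol, neg_zero]
  · intro j
    rw [hpow j]
    constructor
    · intro h
      have h3 : N ^ j * A' ^ j = 0 := by
        rcases smul_eq_zero.1 h with h4 | h4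
        · exact absurd h4 (pow_ne_zero j h2)
        · exact h4
      have h4 : N ^ j = N ^ j * A' ^ j * (1 - N) ^ j := by
        rw [mul_assoc, ← hcA'A.mul_pow, h1', one_pow, mul_one]
      rw [h4, h3, zero_mul]
    · intro h
      rw [h, zero_mul, smul_zero]
  · intro a ha
    have hA : Commute a A' := Commute.sum_right _ _ _ (fun i _ => ha.pow_right i)
    exact ((Commute.one_right a).add_right ha).mul_right hA

end Cfsg.Agent.Lib.helper3.O9A
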