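import Mathlib
import Cfsg.Prelude.Def_Classical
import Cfsg.Agent.Lib.helper3.O9A.Defs

set_option autoImplicit false

/-!
# Project O9A (S2517), row FIXND (helper22): `fix_nd`, verbatim from `helper3/O9A/Skel.lean.txt`.
The fixed space of an isometry `y` with `y^m = 1`, `m ≠ 0` in `F`, is nondegenerate.
-/

namespace Cfsg.Agent.Lib.helper3.O9A

open Matrix Module Polynomial Cfsg.Agent.Lib.Helper1.S8U

theorem o9afixnd_pow_iso {F : Type*} [Field F] {V : Type*} [AddCommGroup V] [Module F V] (Q : QuadraticForm F V)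
    (y : Module.End F V) (hy : ∀ v, Q (y v) = Q v) (a : ℕ) (v : V) : Q ((y ^ a) v) = Q v := by
  induction a with
  | zero => simp
  | succ a ih => rw [pow_succ', Module.End.mul_apply, hy, ih]

theorem o9afixnd_polar_iso {F : Type*} [Field F] {V : Type*} [AddCommGroup V] [Module F V] (Q : QuadraticForm F V)
    (y : Module.End F V) (hy : ∀ v, Q (y v) = Q v) (u v : V) :
    QuadraticMap.polar Q (y u) (y v) = QuadraticMap.polar Q u v := by
  unfold QuadraticMap.polar
  rw [← map_add, hy, hy, hy]

/-- the averaging vector `∑_{a<m} y^a v` is fixed by `y` when `y^m = 1` -/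
theorem o9afixnd_sum_mem {F : Type*} [Field F] {V : Type*} [AddCommGroup V] [Module F V]
    (y : Module.End F V) (m : ℕ) (hym : y ^ m = 1) (v : V) :
    (∑ a ∈ Finset.range m, (y ^ a) v) ∈ LinearMap.ker (y - 1) := by
  rw [LinearMap.mem_ker, LinearMap.sub_apply, Module.End.one_apply, sub_eq_zero, map_sum]
  have h1 : ∀ a ∈ Finset.range m, y ((y ^ a) v) = (y ^ (a + 1)) v := by
    intro a _
    rw [pow_succ', Module.End.mul_apply]
  rw [Finset.sum_congr rfl h1]
  have h2 := Finset.sum_range_succ' (fun a => (y ^ a) v) m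
  have h3 := Finset.sum_range_succ (fun a => (y ^ a) v) m
  rw [h3] at h2
  have h4 : (y ^ m) v = (y ^ 0) v := by rw [hym, pow_zero]
  rw [h4] at h2
  exact (add_right_cancel h2).symm

theorem o9afixnd_key {F : Type*} [Field F] {V : Type*} [AddCommGroup V] [Module F V] (Q : QuadraticForm F V)
    (y : Module.End F V) (hy : ∀ v, Q (y v) = Q v) (m : ℕ) (hm : (m : F) ≠ 0)
    (u : V) (hu : u ∈ LinearMap.ker (y - 1)) (v : V) :
    QuadraticMap.polar Q u v =
      QuadraticMap.polar Q u ((m : F)⁻¹ • ∑ a ∈ Finset.range m, (y ^ a) v) := by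
  have hfix : ∀ a : ℕ, (y ^ a) u = u := by
    have h1 : y u = u := by
      have := LinearMap.mem_ker.1 hu
      rwa [LinearMap.sub_apply, Module.End.one_apply, sub_eq_zero] at this
    intro a
    induction a with
    | zero => simp
    | succ a ih => rw [pow_succ, Module.End.mul_apply, h1, ih]
  have h2 : ∀ a : ℕ, QuadraticMap.polar Q u ((y ^ a) v) = QuadraticMap.polar Q u v := by
    intro a
    have := o9afixnd_polar_iso Q (y ^ a) (fun w => o9afixnd_pow_iso Q y hy a w) u v
    rwa [hfix a] at this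
  have h3 : QuadraticMap.polar Q u (∑ a ∈ Finset.range m, (y ^ a) v) = (m : F) * QuadraticMap.polar Q u v := by
    have h4 : ∀ w : V, QuadraticMap.polar Q u w = QuadraticMap.polarBilin Q u w := fun w =>
      (QuadraticMap.polarBilin_apply_apply Q u w).symm
    rw [h4, map_sum]
    have h5 : ∀ a ∈ Finset.range m, QuadraticMap.polarBilin Q u ((y ^ a) v) = QuadraticMap.polar Q u v := by
      intro a _
      rw [← h4, h2 a]
    rw [Finset.sum_congr rfl h5, Finset.sum_const, Finset.card_range, nsmul_eq_mul]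
  rw [QuadraticMap.polar_smul_right, h3, smul_eq_mul, ← mul_assoc, inv_mul_cancel₀ hm, one_mul]

/-- FIXND -/
theorem fix_nd {F : Type*} [Field F] {V : Type*} [AddCommGroup V] [Module F V] [FiniteDimensional F V] (Q : QuadraticForm F V)
    (hQ : (QuadraticMap.polarBilin Q).Nondegenerate) (y : Module.End F V) (hy : ∀ v, Q (y v) = Q v) (m : ℕ) (hm : (m : F) ≠ 0) (hym : y ^ m = 1) :
    (QuadraticMap.polarBilin (Q.comp (LinearMap.ker (y - 1)).subtype)).Nondegenerate := by
  have hsub : ∀ a b : ↥(LinearMap.ker (y - 1)),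
      QuadraticMap.polarBilin (Q.comp (LinearMap.ker (y - 1)).subtype) a b =
        QuadraticMap.polar Q (a : V) (b : V) := by
    intro a b
    simp only [QuadraticMap.polarBilin_apply_apply]
    unfold QuadraticMap.polar
    simp only [QuadraticMap.comp_apply, Submodule.subtype_apply, Submodule.coe_add]
  have hleft : ∀ u : ↥(LinearMap.ker (y - 1)),
      (∀ w : ↥(LinearMap.ker (y - 1)), QuadraticMap.polar Q (u : V) (w : V) = 0) → u = 0 := by
    intro u hu
    apply Subtype.ext
    apply hQ.1 (u : V)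
    intro v
    rw [QuadraticMap.polarBilin_apply_apply, o9afixnd_key Q y hy m hm (u : V) u.2 v]
    have hmem : ((m : F)⁻¹ • ∑ a ∈ Finset.range m, (y ^ a) v) ∈ LinearMap.ker (y - 1) :=
      Submodule.smul_mem _ _ (o9afixnd_sum_mem y m hym v)
    exact hu ⟨_, hmem⟩
  constructor
  · intro u hu
    apply hleft u
    intro w
    rw [← hsub]
    exact hu w
  · intro u hu
    apply hleft u
    intro w
    rw [QuadraticMap.polar_comm, ← hsub]
    exact hu w

end Cfsg.Agent.Lib.helper3.O9A
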