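import Mathlib
import Cfsg.Prelude.Def_Classical
import Cfsg.Agent.Lib.helper3.O9A.Defs

set_option autoImplicit false

/-!
# Project O9A (S2517), row HEART (helper22): the core `o9aheart_core`, stated on the STATEMENTS of the rows
FIXND, FIXODD, WITT (at `↥(ker (y - 1))`), SKEW, CAY (at `V`).
-/

namespace Cfsg.Agent.Lib.helper3.O9A

open Matrix Module Polynomial Cfsg.Agent.Lib.Helper1.S8U

theorem o9aheart_polar_sub {F : Type*} [Field F] {V : Type*} [AddCommGroup V] [Module F V] (Q : QuadraticForm F V)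
    (K : Submodule F V) (u v : ↥K) :
    QuadraticMap.polar (Q.comp K.subtype) u v = QuadraticMap.polar Q (u : V) (v : V) := by
  simp [QuadraticMap.polar, QuadraticMap.comp_apply]

theorem o9aheart_core {F : Type*} [Field F] {V : Type*} [AddCommGroup V] [Module F V] [FiniteDimensional F V]
    (Q : QuadraticForm F V) (y : Module.End F V) (hy : ∀ v, Q (y v) = Q v)
    (P : ℕ) (hP : Odd P) (hfix : P + 1 ≤ finrank F ↥(LinearMap.ker (y - 1)))
    (hFIXODD : Odd (finrank F ↥(LinearMap.ker (y - 1))))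
    (hWITT : ∀ r : ℕ, finrank F ↥(LinearMap.ker (y - 1)) = 2 * r + 1 →
      ∃ (e f : Fin r → ↥(LinearMap.ker (y - 1))) (z : ↥(LinearMap.ker (y - 1))),
        (∀ i, (Q.comp (LinearMap.ker (y - 1)).subtype) (e i) = 0) ∧
        (∀ i, (Q.comp (LinearMap.ker (y - 1)).subtype) (f i) = 0) ∧
        (Q.comp (LinearMap.ker (y - 1)).subtype) z ≠ 0 ∧
        (∀ i j, QuadraticMap.polar (Q.comp (LinearMap.ker (y - 1)).subtype) (e i) (f j) = if i = j then 1 else 0) ∧
        (∀ i j, i ≠ j → QuadraticMap.polar (Q.comp (LinearMap.ker (y - 1)).subtype) (e i) (e j) = 0) ∧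
        (∀ i j, i ≠ j → QuadraticMap.polar (Q.comp (LinearMap.ker (y - 1)).subtype) (f i) (f j) = 0) ∧
        (∀ i, QuadraticMap.polar (Q.comp (LinearMap.ker (y - 1)).subtype) (e i) z = 0) ∧
        (∀ i, QuadraticMap.polar (Q.comp (LinearMap.ker (y - 1)).subtype) (f i) z = 0))
    (hSKEW : ∀ (r : ℕ) (e f : Fin r → V) (z : V), (∀ i, Q (e i) = 0) → (∀ i, Q (f i) = 0) → Q z ≠ 0 →
      (∀ i j, QuadraticMap.polar Q (e i) (f j) = if i = j then 1 else 0) →
      (∀ i j, i ≠ j → QuadraticMap.polar Q (e i) (e j) = 0) → (∀ i j, i ≠ j → QuadraticMap.polar Q (f i) (f j) = 0) →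
      (∀ i, QuadraticMap.polar Q (e i) z = 0) → (∀ i, QuadraticMap.polar Q (f i) z = 0) →
      ∃ N : Module.End F V, (∀ x x', QuadraticMap.polar Q (N x) x' = - QuadraticMap.polar Q x (N x')) ∧
        N ^ (2 * r) ≠ 0 ∧ N ^ (2 * r + 1) = 0 ∧
        ∀ a : Module.End F V, (∀ v, Q (a v) = Q v) → (∀ i, a (e i) = e i) → (∀ i, a (f i) = f i) → a z = z → Commute a N)
    (hCAY : ∀ (N : Module.End F V), (∀ x x', QuadraticMap.polar Q (N x) x' = - QuadraticMap.polar Q x (N x')) →
      ∀ d : ℕ, N ^ d = 0 →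
      ∃ z : Module.End F V, (∀ v, Q (z v) = Q v) ∧ (∀ j : ℕ, (z - 1) ^ j = 0 ↔ N ^ j = 0) ∧
        ∀ a : Module.End F V, Commute a N → Commute a z) :
    ∃ z : Module.End F V, (∀ v, Q (z v) = Q v) ∧ Commute y z ∧ (z - 1) ^ P ≠ 0 ∧ (z - 1) ^ (P + 2) = 0 := by
  obtain ⟨t, ht⟩ := hP
  obtain ⟨r', hr'⟩ := hFIXODD
  -- `r = t + 1`, `2 r = P + 1`
  have hrr' : t + 1 ≤ r' := by omega
  obtain ⟨e', f', z', he', hf', hz', hef', hee', hff', hez', hfz'⟩ := hWITT r' hr'
  have hfixK : ∀ u : ↥(LinearMap.ker (y - 1)), y (u : V) = (u : V) := by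
    intro u
    have h1 : (y - 1) (u : V) = 0 := LinearMap.mem_ker.1 u.2
    rw [LinearMap.sub_apply, Module.End.one_apply, sub_eq_zero] at h1
    exact h1
  have hinj : Function.Injective (Fin.castLE hrr') := Fin.castLE_injective hrr'
  obtain ⟨N, hNskew, hN1, hN2, hNc⟩ := hSKEW (t + 1)
    (fun i => ((e' (Fin.castLE hrr' i) : ↥(LinearMap.ker (y - 1))) : V))
    (fun i => ((f' (Fin.castLE hrr' i) : ↥(LinearMap.ker (y - 1))) : V)) (z' : V)
    (fun i => by have := he' (Fin.castLE hrr' i); simpa [QuadraticMap.comp_apply] using this)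
    (fun i => by have := hf' (Fin.castLE hrr' i); simpa [QuadraticMap.comp_apply] using this)
    (by simpa [QuadraticMap.comp_apply] using hz')
    (fun i j => by
      have := hef' (Fin.castLE hrr' i) (Fin.castLE hrr' j)
      rw [o9aheart_polar_sub] at this
      rw [this]
      by_cases hij : i = j
      · subst hij; simp
      · rw [if_neg hij, if_neg (fun h => hij (hinj h))])
    (fun i j hij => by
      have := hee' (Fin.castLE hrr' i) (Fin.castLE hrr' j) (fun h => hij (hinj h))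
      rwa [o9aheart_polar_sub] at this)
    (fun i j hij => by
      have := hff' (Fin.castLE hrr' i) (Fin.castLE hrr' j) (fun h => hij (hinj h))
      rwa [o9aheart_polar_sub] at this)
    (fun i => by
      have := hez' (Fin.castLE hrr' i)
      rwa [o9aheart_polar_sub] at this)
    (fun i => by
      have := hfz' (Fin.castLE hrr' i)
      rwa [o9aheart_polar_sub] at this)
  have hyN : Commute y N := hNc y hy (fun i => hfixK _) (fun i => hfixK _) (hfixK _)
  obtain ⟨z, hzQ, hzj, hzc⟩ := hCAY N hNskew (2 * (t + 1) + 1) hN2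
  refine ⟨z, hzQ, hzc y hyN, ?_, ?_⟩
  · intro h0
    apply hN1
    rw [← hzj]
    have : 2 * (t + 1) = P + 1 := by omega
    rw [this, pow_succ, h0, zero_mul]
  · have : P + 2 = 2 * (t + 1) + 1 := by omega
    rw [this, hzj]
    exact hN2

end Cfsg.Agent.Lib.helper3.O9A
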