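import Mathlib
import Cfsg.Prelude.Def_Classical
import Cfsg.Agent.Lib.helper3.O9A.Defs
import Cfsg.Agent.Lib.Helper22.O9AHEARTcore
import Cfsg.Agent.Lib.Helper22.O9AFIXND
import Cfsg.Agent.Lib.Helper22.O9ACAY
import Cfsg.Agent.Lib.Helper18.O9AWITT
import Cfsg.Agent.Lib.helper6.O9AFIXODD
import Cfsg.Agent.Lib.helper3.O9ASKEW

set_option autoImplicit false

/-!
# Project O9A (S2517), row HEART (helper22): `heart`, verbatim from `helper3/O9A/Skel.lean.txt`
(= `o9aheart_core` applied to the rows FIXND, FIXODD, WITT, SKEW, CAY).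
-/

namespace Cfsg.Agent.Lib.helper3.O9A

open Matrix Module Polynomial Cfsg.Agent.Lib.Helper1.S8U

/-- HEART -/
theorem heart {F : Type*} [Field F] [Fintype F] (h2 : (2 : F) ≠ 0) {V : Type*} [AddCommGroup V] [Module F V] [FiniteDimensional F V] (Q : QuadraticForm F V)
    (hQ : (QuadraticMap.polarBilin Q).Nondegenerate) (y : Module.End F V) (hy : ∀ v, Q (y v) = Q v) (m : ℕ) (hm : (m : F) ≠ 0) (hym : y ^ m = 1)
    (hdet : LinearMap.det y = 1) (hodd : Odd (finrank F V)) (P : ℕ) (hP : Odd P) (hfix : P + 1 ≤ finrank F ↥(LinearMap.ker (y - 1))) :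
    ∃ z : Module.End F V, (∀ v, Q (z v) = Q v) ∧ Commute y z ∧ (z - 1) ^ P ≠ 0 ∧ (z - 1) ^ (P + 2) = 0 :=
  o9aheart_core Q y hy P hP hfix
    (fix_odd h2 Q hQ y hy m hm hym hdet hodd)
    (fun r hr => witt_odd h2 (Q.comp (LinearMap.ker (y - 1)).subtype) (fix_nd Q hQ y hy m hm hym) r hr)
    (fun r e f z he hf hz hef hee hff hez hfz => skew_nil h2 Q r e f z he hf hz hef hee hff hez hfz)
    (fun N hN d hd => cayley h2 Q N hN d hd)

end Cfsg.Agent.Lib.helper3.O9A
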