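import Mathlib
import Cfsg.Prelude.Def_Classical
import Cfsg.Agent.Lib.helper3.O9A.Defs
import Cfsg.Agent.S0292

set_option autoImplicit false

/-!
# Project O9A (S2517), row POM (helper22): `pom_range`, verbatim from `helper3/O9A/Skel.lean.txt`.
The centre of `Ω₉(q)` (`q` odd) is trivial, so `PΩ₉` and `Om9 F ≤ GL` have the same element orders.
-/

namespace Cfsg.Agent.Lib.helper3.O9A

open Matrix Module Polynomial Cfsg.Agent.Lib.Helper1.S8U

/-- the quotient map `Ω₉ → PΩ₉` is injective -/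
theorem o9apom_inj {F : Type*} [Field F] [Fintype F] (h2 : (2 : F) ≠ 0) :
    Function.Injective (QuotientGroup.mk' (Subgroup.center ↥(Cfsg.Omega F (Cfsg.quadFormOdd 4 F)))) := by
  rw [← MonoidHom.ker_eq_bot_iff, QuotientGroup.ker_mk', Cfsg.Agent.S0292.center_trivial h2 4 (by norm_num)]

/-- the order of the image of `γ ∈ Ω₉` in `GL` -/
theorem o9apom_coe {F : Type*} [Field F]
    (γ : ↥(Cfsg.Omega F (Cfsg.quadFormOdd 4 F))) :
    orderOf (((γ : ↥(Cfsg.isometryGroup F (Cfsg.quadFormOdd 4 F))) : GL OI9 F)) = orderOf γ := by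
  rw [Subgroup.orderOf_coe, Subgroup.orderOf_coe]

/-- POM -/
theorem pom_range {F : Type*} [Field F] [Fintype F] (h2 : (2 : F) ≠ 0) (n : ℕ) :
    n ∈ Set.range (orderOf : Cfsg.POmega F (Cfsg.quadFormOdd 4 F) → ℕ) ↔ ∃ X ∈ Om9 F, orderOf X = n := by
  have hord : ∀ g : ↥(Cfsg.Omega F (Cfsg.quadFormOdd 4 F)),
      orderOf (QuotientGroup.mk' (Subgroup.center ↥(Cfsg.Omega F (Cfsg.quadFormOdd 4 F))) g) = orderOf g :=
    fun g => orderOf_injective _ (o9apom_inj h2) g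
  constructor
  · rintro ⟨x, rfl⟩
    obtain ⟨g, rfl⟩ := QuotientGroup.mk'_surjective
      (Subgroup.center ↥(Cfsg.Omega F (Cfsg.quadFormOdd 4 F))) x
    refine ⟨((g : ↥(Cfsg.isometryGroup F (Cfsg.quadFormOdd 4 F))) : GL OI9 F), ?_, ?_⟩
    · exact Subgroup.mem_map.2 ⟨(g : ↥(Cfsg.isometryGroup F (Cfsg.quadFormOdd 4 F))), g.2, rfl⟩
    · rw [o9apom_coe]
      exact (hord g).symm
  · rintro ⟨X, hX, rfl⟩
    obtain ⟨γ, hγ, rfl⟩ := Subgroup.mem_map.1 hX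
    refine ⟨QuotientGroup.mk' (Subgroup.center ↥(Cfsg.Omega F (Cfsg.quadFormOdd 4 F))) ⟨γ, hγ⟩, ?_⟩
    show orderOf (QuotientGroup.mk' (Subgroup.center ↥(Cfsg.Omega F (Cfsg.quadFormOdd 4 F))) ⟨γ, hγ⟩) = _
    rw [hord ⟨γ, hγ⟩]
    have := o9apom_coe (F := F) ⟨γ, hγ⟩
    exact this.symm

end Cfsg.Agent.Lib.helper3.O9A
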