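import Mathlib
import Cfsg.Agent.Lib.Helper12.OMB.Defs

/-!
# Project OMB (designer helper12), row C3, CORE (helper22): the centre of `Ω_{2l+1}(F)` is trivial,
from the STATEMENTS of C1 (`omatB_det`), C2 (`scalar_of_comm`) and G8 + block M (the root elements are elements of `Ω`).
-/

set_option autoImplicit false

namespace Cfsg.Agent.Lib.Helper12.OMB

open Matrix Cfsg.Agent.Lib.helper3.STC Cfsg.Agent.Lib.Lead.STD Cfsg.Agent.Lib.Lead.STB

universe u w

section C

variable {l : ℕ} {F : Type u} [Field F]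

/-- `Q (c • e_0) = c * c`. -/
theorem ombc3_Q_e0 (c : F) :
    Cfsg.quadFormOdd l F (c • (Pi.single i0 1 : Ix (Fin l) → F)) = c * c := by
  unfold Cfsg.quadFormOdd
  have h0 : (c • (Pi.single i0 1 : Ix (Fin l) → F)) (Sum.inl ()) = c := by
    simp [i0]
  have h1 : ∀ i : Fin l, (c • (Pi.single i0 1 : Ix (Fin l) → F)) (Sum.inr (Sum.inl i)) = 0 := by
    intro i
    simp [i0]
  rw [h0, Finset.sum_eq_zero (fun i _ => by rw [h1 i, zero_mul]), add_zero, sq]

/-- a central element of `Ω` commutes (as a matrix) with every matrix of an element of `omegaGL`. -/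
theorem ombc3_comm (z : ↥(Cfsg.Omega F (Cfsg.quadFormOdd l F)))
    (hz : z ∈ Subgroup.center ↥(Cfsg.Omega F (Cfsg.quadFormOdd l F)))
    (M : Matrix.GeneralLinearGroup (Ix (Fin l)) F) (hM : M ∈ Cfsg.Geo.omegaGL (Cfsg.quadFormOdd l F)) :
    omatB z * (M : Matrix (Ix (Fin l)) (Ix (Fin l)) F) = (M : Matrix (Ix (Fin l)) (Ix (Fin l)) F) * omatB z := by
  unfold Cfsg.Geo.omegaGL at hM
  obtain ⟨x, hx, hxT⟩ := hM
  have hc := Subgroup.mem_center_iff.mp hz ⟨x, hx⟩
  have hc' := congrArg omatB hc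
  rw [omatB_mul, omatB_mul] at hc'
  have hxm : omatB ⟨x, hx⟩ = (M : Matrix (Ix (Fin l)) (Ix (Fin l)) F) := by
    rw [← hxT]
    rfl
  rw [hxm] at hc'
  exact hc'.symm

/-- C3 core. -/
theorem ombc3_core (h2 : (2 : F) ≠ 0)
    (hdet : ∀ g : ↥(Cfsg.Omega F (Cfsg.quadFormOdd l F)), (omatB g).det = 1)
    (hsc : ∀ A : Matrix (Ix (Fin l)) (Ix (Fin l)) F,
      (∀ a b : Fin l ⊕ Fin l, a ≠ b → a ≠ ng b → A * TbL a b 1 = TbL a b 1 * A) →
      (∀ a : Fin l ⊕ Fin l, A * TbS a 1 = TbS a 1 * A) →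
      A = A i0 i0 • (1 : Matrix (Ix (Fin l)) (Ix (Fin l)) F))
    (hL : ∀ a b : Fin l ⊕ Fin l, a ≠ b → a ≠ ng b →
      ∃ M : Matrix.GeneralLinearGroup (Ix (Fin l)) F,
        (M : Matrix (Ix (Fin l)) (Ix (Fin l)) F) = TbL a b 1 ∧ M ∈ Cfsg.Geo.omegaGL (Cfsg.quadFormOdd l F))
    (hS : ∀ a : Fin l ⊕ Fin l,
      ∃ M : Matrix.GeneralLinearGroup (Ix (Fin l)) F,
        (M : Matrix (Ix (Fin l)) (Ix (Fin l)) F) = TbS a 1 ∧ M ∈ Cfsg.Geo.omegaGL (Cfsg.quadFormOdd l F)) :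
    Subgroup.center ↥(Cfsg.Omega F (Cfsg.quadFormOdd l F)) = ⊥ := by
  rw [eq_bot_iff]
  intro z hz
  rw [Subgroup.mem_bot]
  set A : Matrix (Ix (Fin l)) (Ix (Fin l)) F := omatB z with hA
  have hsc' : A = A i0 i0 • (1 : Matrix (Ix (Fin l)) (Ix (Fin l)) F) := by
    apply hsc
    · intro a b hab hab'
      obtain ⟨M, hM, hMm⟩ := hL a b hab hab'
      rw [← hM]
      exact ombc3_comm z hz M hMm
    · intro a
      obtain ⟨M, hM, hMm⟩ := hS a
      rw [← hM]
      exact ombc3_comm z hz M hMm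
  set lam : F := A i0 i0 with hlam
  have hiso : Cfsg.quadFormOdd l F (A *ᵥ (Pi.single i0 1 : Ix (Fin l) → F)) =
      Cfsg.quadFormOdd l F (Pi.single i0 1 : Ix (Fin l) → F) :=
    (z : ↥(Cfsg.isometryGroup F (Cfsg.quadFormOdd l F))).2 (Pi.single i0 1) 0
  have hmv : A *ᵥ (Pi.single i0 1 : Ix (Fin l) → F) = lam • (Pi.single i0 1 : Ix (Fin l) → F) := by
    rw [hsc', Matrix.smul_mulVec, Matrix.one_mulVec]
  rw [hmv, ombc3_Q_e0] at hiso
  have h1 := ombc3_Q_e0 (l := l) (1 : F)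
  rw [one_smul, one_mul] at h1
  rw [h1] at hiso
  have hl : lam = 1 ∨ lam = -1 := by
    have : (lam - 1) * (lam + 1) = 0 := by linear_combination hiso
    rcases mul_eq_zero.mp this with h | h
    · left; linear_combination h
    · right; linear_combination h
  rcases hl with h | h
  · apply omatB_injective
    rw [omatB_one, ← hA, hsc', h, one_smul]
  · exfalso
    have hd := hdet z
    rw [← hA, hsc', h, Matrix.det_smul, Matrix.det_one, mul_one] at hd
    have hcard : Fintype.card (Ix (Fin l)) = 2 * l + 1 := by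
      simp only [Fintype.card_sum, Fintype.card_fin, Fintype.card_unit]
      ring
    rw [hcard, pow_succ, pow_mul, neg_one_sq, one_pow, one_mul] at hd
    apply h2
    linear_combination -hd

end C

end Cfsg.Agent.Lib.Helper12.OMB
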