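import Mathlib
import Cfsg.Agent.Lib.Helper12.OMB.Defs
import Cfsg.Agent.Lib.Helper12.OMB.Mat
import Cfsg.Agent.Lib.Helper18.OMBC1
import Cfsg.Agent.Lib.Helper18.OMBC2
import Cfsg.Agent.Lib.Helper18.OMBG8
import Cfsg.Agent.Lib.Helper22.OMBC3core

/-!
# Project OMB (designer helper12), row C3 (helper22), VERBATIM: **(O-c)** the centre of `Ω_{2l+1}(F)` is trivial (`l ≥ 3`, `2 ≠ 0`).
Wrapper of `ombc3_core` on helper18's C1 `omatB_det`, C2 `scalar_of_comm`, G8 `TbL_mem_omegaGL` / `TbS_mem_omegaGL` and helper12's block M (`tbL`, `tbS`).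
-/

set_option autoImplicit false

namespace Cfsg.Agent.Lib.Helper12.OMB

open Matrix Cfsg.Agent.Lib.helper15.St2 Cfsg.Agent.Lib.helper3.STC Cfsg.Agent.Lib.Lead.STD Cfsg.Agent.Lib.Lead.STB
  Cfsg.Agent.Lib.Lead.SPN Cfsg.Agent.Lib.Helper28.CTD Cfsg.Agent.Lib.Helper28.OMM

universe u w

section C

variable {l : ℕ} {F : Type u} [Field F]

/-- C3 [M]  **(O-c)**  `z` central: `omatB z` commutes with `TbL a b 1`, `TbS a 1` (elements of `Ω` by `TbL_mem_omegaGL`, `TbS_mem_omegaGL` at `tbL a b 1`, `tbS a 1`; model `Lead.POM.pom_center_cases`), so `omatB z = λ • 1` (`scalar_of_comm`);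
the isometry condition at `e_0` gives `λ² = 1`; `λ = -1` is impossible: `det (-1) = (-1) ^ (2 * l + 1) = -1 ≠ 1` (`Matrix.det_smul`, `Fintype.card (Ix (Fin l)) = 2 * l + 1`, `omatB_det`, `h2`). -/
theorem center_omegaB (hl : 3 ≤ l) (h2 : (2 : F) ≠ 0) :
    Subgroup.center ↥(Cfsg.Omega F (Cfsg.quadFormOdd l F)) = ⊥ := by
  apply ombc3_core h2 omatB_det (fun A hL hS => scalar_of_comm hl A hL hS)
  · intro a b hab hab'
    exact ⟨tbL a b 1, tbL_coe hab hab' 1, TbL_mem_omegaGL hl hab hab' 1 _ (tbL_coe hab hab' 1)⟩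
  · intro a
    exact ⟨tbS a 1, tbS_coe a 1, TbS_mem_omegaGL hl a 1 _ (tbS_coe a 1)⟩

end C

end Cfsg.Agent.Lib.Helper12.OMB
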