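import Mathlib
import Cfsg.Agent.Lib.helper8.OME.Defs
import Cfsg.Agent.Lib.helper23.ONECNTcore
import Cfsg.Agent.Lib.Helper1.OMECM1M
import Cfsg.Agent.Lib.Helper26.OMECM2M
import Cfsg.Agent.Lib.Helper24.OMECNTPM
import Cfsg.Agent.Lib.Helper29.OPECHI

set_option autoImplicit false
set_option linter.unusedVariables false
set_option linter.unusedSectionVars false

/-!
# Project OME (designer helper8), row CNTMM : `ome_ell_count_ce`, verbatim (written by helper22).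
Port of helper26's `opecntm_core` to the minus ambient: double count of `{(W', W) : W' ≤ W}`, `W'` hyperbolic of dimension `2h - 2`,
`W` elliptic of dimension `2h` (CM1M, CM2M), then CNTPM / OPE CHI.
-/

namespace Cfsg.Agent.Lib.helper8.OME

open Polynomial Module Cfsg.Agent.Lib.Helper13.S5955 Cfsg.Agent.Lib.helper15.S5972
  Cfsg.Agent.Lib.Helper18.OPE
open Cfsg.Agent.Lib.Helper18.ONE (onecnt_double onecnt_prime_dvd)
open scoped Matrix

theorem omecntmm_finite_sub {F : Type*} [Field F] [Fintype F] (d : ℕ) :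
    Finite (Submodule F (MI d → F)) :=
  Finite.of_injective (fun W : Submodule F (MI d → F) => (W : Set (MI d → F))) SetLike.coe_injective

/-- CNTMM with the statements of CM1M, CM2M (at `h = m / 2 ≥ 1`), CNTPM (at `h - 1`) and CHI as hypotheses. -/
theorem omecntmm_core {F : Type*} [Field F] [Fintype F] {p : ℕ} [Fact p.Prime] [CharP F p]
    (d h : ℕ) (hh1 : 1 ≤ h) (hh : h < d) (a b : F) (r : ℕ) [Fact r.Prime] (hrp : r ≠ p) (i : ℕ)
    (hCM1 : ∃ N₁ : ℕ, 0 < N₁ ∧ ∀ W : ELLm d (2 * h) F a b,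
      Nat.card {W' : HYPm d (2 * h - 2) F a b // W'.1 ≤ W.1} = N₁)
    (hCM2 : ∀ W' : HYPm d (2 * h - 2) F a b,
      2 * (Fintype.card F + 1) * Nat.card {W : ELLm d (2 * h) F a b // W'.1 ≤ W.1} =
        Fintype.card F ^ (2 * (d - h)) * (Fintype.card F ^ (d - h + 1) + 1) *
          (Fintype.card F ^ (d - h) + 1))
    (hCNTP : r ∣ Nat.card (HYPm d (2 * h - 2) F a b) → CHm i d (h - 1))
    (hCHI : ∀ e : ℕ, 1 ≤ e → r ∣ Fintype.card F ^ e + 1 → Even i ∧ e % i = i / 2)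
    (hr : r ∣ Nat.card (ELLm d (2 * h) F a b)) : CEm i d h := by
  classical
  have hfin := omecntmm_finite_sub (F := F) d
  have hrpr : r.Prime := Fact.out
  obtain ⟨N₁, -, hN₁⟩ := hCM1
  have hdc := onecnt_double
    (fun (W : ELLm d (2 * h) F a b) (W' : HYPm d (2 * h - 2) F a b) => W'.1 ≤ W.1)
    N₁ (2 * (Fintype.card F + 1)) _ hN₁ hCM2
  have h1 : r ∣ Nat.card (HYPm d (2 * h - 2) F a b) *
      (Fintype.card F ^ (2 * (d - h)) * (Fintype.card F ^ (d - h + 1) + 1) *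
        (Fintype.card F ^ (d - h) + 1)) := by
    rw [← hdc]
    exact Dvd.dvd.mul_left (Dvd.dvd.mul_right hr N₁) _
  rcases (Nat.Prime.dvd_mul hrpr).mp h1 with h2 | h2
  · exact Or.inl (hCNTP h2)
  · rcases (Nat.Prime.dvd_mul hrpr).mp h2 with h3 | h3
    · have h4 : r ∣ (Fintype.card F ^ (d - h + 1) + 1) * Fintype.card F ^ (2 * (d - h)) := by
        rw [mul_comm]; exact h3
      have h5 := onecnt_prime_dvd (F := F) r hrp _ _ h4
      obtain ⟨h6, h7⟩ := hCHI _ (by omega) h5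
      exact Or.inr ⟨h6, Or.inl h7⟩
    · obtain ⟨h6, h7⟩ := hCHI _ (by omega) h3
      exact Or.inr ⟨h6, Or.inr h7⟩

/-- CNTMM [M-L] (port of OPE `ell_count_ce`, Helper26/OPECNTMcore.lean): `h = m / 2`, `1 ≤ h ≤ d - 1`.  Double count `{(W', W) : W' ≤ W}`: `#ELLm(2h) · N₁ = #HYPm(2h-2) · A` (CM1M, CM2M); `r ∣ #ELLm` ⇒ `r ∣ #HYPm(2h-2)`
(CNTPM with `h - 1`: `CHm i d (h-1)`; for `h = 1` `#HYPm d 0 = 1`) or `r ∣ 2 (q + 1) A = q^(2(d-h)) (q^(d-h+1) + 1)(q^(d-h) + 1)`, `r ≠ p`: OPE CHI `ch_of_dvd` (`r ∣ q^e + 1 → Even i ∧ e % i = i / 2`). -/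
theorem ome_ell_count_ce {F : Type*} [Field F] [Fintype F] {p : ℕ} [Fact p.Prime] [CharP F p]
    (d m : ℕ) (hm : 2 ≤ m) (hme : Even m) (hmn : m + 2 ≤ 2 * d) (a b : F)
    (hab : ∀ x y : F, x ^ 2 + a * x * y + b * y ^ 2 = 0 → x = 0 ∧ y = 0)
    (r : ℕ) [Fact r.Prime] (hrp : r ≠ p)
    (hr2 : r ≠ 2) (i : ℕ) (hi : i = orderOf ((Fintype.card F : ℕ) : ZMod r))
    (hr : r ∣ Nat.card (ELLm d m F a b)) : CEm i d (m / 2) := by
  obtain ⟨h, hmh⟩ := hme
  have hm2 : m = 2 * h := by omega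
  subst hm2
  have e : 2 * h / 2 = h := by omega
  rw [e]
  have hh1 : 1 ≤ h := by omega
  have hhd : h < d := by omega
  refine omecntmm_core d h hh1 hhd a b r hrp i (ome_ell_sub_const d h hh1 a b)
    (fun W' => ome_ap_count d h hh1 hhd a b hab W') (fun h2 => ?_)
    (fun e he => (ch_of_dvd (Fintype.card F) r hr2 Fintype.card_pos i hi e he).2) hr
  have e2 : 2 * h - 2 = 2 * (h - 1) := by omega
  rw [e2] at h2
  exact ome_hyp_count_ch d (h - 1) (by omega) a b hab r hrp hr2 i hi h2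

end Cfsg.Agent.Lib.helper8.OME
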