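import Mathlib
import Cfsg.Agent.Lib.helper17.OMP.Defs
import Cfsg.Agent.Lib.Helper22.OMPA10core
import Cfsg.Agent.Lib.helper17.OMPA4
import Cfsg.Agent.Lib.helper17.OMPA5
import Cfsg.Agent.Lib.Helper13.OMPE3
import Cfsg.Agent.Lib.helper2.OMPE4

/-!
# Project OMP (designer helper17), row A10 (helper22): the torus acts on `PP`, `NN`.  VERBATIM wrappers of
`Helper22.OMPA10core` on A4 `yy_comm_blk`, A6 `PP_indep NN_indep`, A7 `PP_swap NN_swap`, E3 `hE_conj_tv`,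
E4 `hE_chain hE_swap`.
-/

set_option autoImplicit false
set_option linter.unusedSectionVars false
set_option linter.unusedVariables false

namespace Cfsg.Agent.Lib.helper17.OMP

open Matrix Cfsg.Agent.Lib.helper14.CTE Cfsg.Agent.Lib.helper14.CTA Cfsg.Agent.Lib.helper17.SLN

universe u v w

section A

variable {F : Type u} [Field F] {G : Type v} [Group G] {ι : Type w} [Fintype ι] [DecidableEq ι]

theorem hE_PP_fst (h4 : 4 ≤ Fintype.card ι) (p : Pts ι) (Φ : Matrix.SpecialLinearGroup ι F →* G) (y : G) (H : OG p Φ y)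
    (a b k m : ι) (hab : a ≠ b) (hak : a ≠ k) (hbk : b ≠ k) (hma : m ≠ a) (hmb : m ≠ b) (s : F) (hs : s ≠ 0) (t : F) :
    Φ (hE a m s) * PP p Φ y a b k t * (Φ (hE a m s))⁻¹ = PP p Φ y a b k (s * t) :=
  ompa10_PP_fst_core h4 p Φ y (fun i j hij g hg => yy_comm_blk h4 p Φ y H.cB i j hij g hg)
    (fun a b k k' hab hak hbk hak' hbk' t => PP_indep h4 p Φ y H a b k k' hab hak hbk hak' hbk' t)
    (fun i j hij s hs a b hab t => hE_conj_tv i j hij s hs a b hab t) a b k m hab hak hbk hma hmb s hs t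

theorem hE_PP_snd (h4 : 4 ≤ Fintype.card ι) (p : Pts ι) (Φ : Matrix.SpecialLinearGroup ι F →* G) (y : G) (H : OG p Φ y)
    (a b k m : ι) (hab : a ≠ b) (hak : a ≠ k) (hbk : b ≠ k) (hma : m ≠ a) (hmb : m ≠ b) (s : F) (hs : s ≠ 0) (t : F) :
    Φ (hE b m s) * PP p Φ y a b k t * (Φ (hE b m s))⁻¹ = PP p Φ y a b k (s * t) :=
  ompa10_PP_snd_core p Φ y (fun a b k m hab hak hbk hma hmb s hs t => hE_PP_fst h4 p Φ y H a b k m hab hak hbk hma hmb s hs t)
    (fun a b k hab hak hbk t => PP_swap h4 p Φ y H a b k hab hak hbk t) a b k m hab hak hbk hma hmb s hs t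

theorem hE_PP_ab (h4 : 4 ≤ Fintype.card ι) (p : Pts ι) (Φ : Matrix.SpecialLinearGroup ι F →* G) (y : G) (H : OG p Φ y)
    (a b k : ι) (hab : a ≠ b) (hak : a ≠ k) (hbk : b ≠ k) (s : F) (hs : s ≠ 0) (t : F) :
    Commute (Φ (hE a b s)) (PP p Φ y a b k t) :=
  ompa10_PP_ab_core p Φ y (fun a b k m hab hak hbk hma hmb s hs t => hE_PP_fst h4 p Φ y H a b k m hab hak hbk hma hmb s hs t)
    (fun a b k m hab hak hbk hma hmb s hs t => hE_PP_snd h4 p Φ y H a b k m hab hak hbk hma hmb s hs t)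
    (fun i j m hij him hjm s hs => hE_chain i j m hij him hjm s hs) (fun i j hij s hs => hE_swap i j hij s hs)
    a b k hab hak hbk s hs t

theorem hE_NN_fst (h4 : 4 ≤ Fintype.card ι) (p : Pts ι) (Φ : Matrix.SpecialLinearGroup ι F →* G) (y : G) (H : OG p Φ y)
    (a b k m : ι) (hab : a ≠ b) (hak : a ≠ k) (hbk : b ≠ k) (hma : m ≠ a) (hmb : m ≠ b) (s : F) (hs : s ≠ 0) (t : F) :
    Φ (hE a m s) * NN p Φ y a b k t * (Φ (hE a m s))⁻¹ = NN p Φ y a b k (s⁻¹ * t) :=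
  ompa10_NN_fst_core h4 p Φ y (fun i j hij g hg => yy_comm_blk h4 p Φ y H.cB i j hij g hg)
    (fun a b k k' hab hak hbk hak' hbk' t => NN_indep h4 p Φ y H a b k k' hab hak hbk hak' hbk' t)
    (fun i j hij s hs a b hab t => hE_conj_tv i j hij s hs a b hab t) a b k m hab hak hbk hma hmb s hs t

theorem hE_NN_snd (h4 : 4 ≤ Fintype.card ι) (p : Pts ι) (Φ : Matrix.SpecialLinearGroup ι F →* G) (y : G) (H : OG p Φ y)
    (a b k m : ι) (hab : a ≠ b) (hak : a ≠ k) (hbk : b ≠ k) (hma : m ≠ a) (hmb : m ≠ b) (s : F) (hs : s ≠ 0) (t : F) :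
    Φ (hE b m s) * NN p Φ y a b k t * (Φ (hE b m s))⁻¹ = NN p Φ y a b k (s⁻¹ * t) :=
  ompa10_NN_snd_core p Φ y (fun a b k m hab hak hbk hma hmb s hs t => hE_NN_fst h4 p Φ y H a b k m hab hak hbk hma hmb s hs t)
    (fun a b k hab hak hbk t => NN_swap h4 p Φ y H a b k hab hak hbk t) a b k m hab hak hbk hma hmb s hs t

end A

end Cfsg.Agent.Lib.helper17.OMP
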