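import Mathlib
import Cfsg.Prelude.Def_KGroupFacts
import Cfsg.Agent.Lib.Helper12.Ord.ONOrder
import Cfsg.Agent.Lib.Helper12.ONL.Final
import Cfsg.Agent.Lib.Helper5.StemB
import Cfsg.Agent.Lib.Helper5.StemX
import Cfsg.Agent.Lib.helper17.ONM.Defs
import Cfsg.Agent.Lib.helper3.StemTools
import Cfsg.Agent.Lib.helper7.CeH
import Cfsg.Agent.S0249

/-!
# Project ONM (S2052), piece PRIME7, core : no stem extension of `ON` with kernel of order seven
(with the statement of `onm_restrict` for `G = ON` as a hypothesis)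
-/

set_option autoImplicit false

namespace Cfsg.Agent.Lib.helper17.ONM

open Cfsg.Spor Cfsg.Agent.Lib.Helper12.TC Cfsg.Agent.Lib.Helper12.TCG
  Cfsg.Agent.Lib.Helper12.Ord Cfsg.Agent.Lib.Helper5.Stem
open Cfsg.Agent.Lib.Helper12.TCG.ONx122760
open scoped commutatorElement

universe u v

/-- a finite simple group whose order is not a prime is perfect -/
theorem onmprime7_perfect {N : Type*} [Group N] [Finite N] [IsSimpleGroup N]
    (hnp : ¬ (Nat.card N).Prime) : commutator N = ⊤ := by
  rcases (Subgroup.Normal.eq_bot_or_eq_top (inferInstance : (commutator N).Normal)) with h | h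
  · exfalso
    apply hnp
    have hcomm : ∀ a b : N, a * b = b * a := by
      intro a b
      have h1 : ⁅a, b⁆ ∈ commutator N := Subgroup.commutator_mem_commutator (Subgroup.mem_top a)
        (Subgroup.mem_top b)
      rw [h, Subgroup.mem_bot, commutatorElement_eq_one_iff_mul_comm] at h1
      exact h1
    letI : CommGroup N := { (inferInstance : Group N) with mul_comm := hcomm }
    exact IsSimpleGroup.prime_card
  · exact h

/-- the image in `G` of a perfect subgroup of a subgroup is perfect -/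
theorem onmprime7_map_perfect {G : Type*} [Group G] (H : Subgroup G) (N : Subgroup ↥H)
    (hN : commutator ↥N = ⊤) : N.map H.subtype ≤ ⁅N.map H.subtype, N.map H.subtype⁆ := by
  have h1 : (⊤ : Subgroup ↥N).map (H.subtype.comp N.subtype) = N.map H.subtype := by
    rw [← Subgroup.map_map, ← MonoidHom.range_eq_map, Subgroup.range_subtype]
  have h2 : ⁅(⊤ : Subgroup ↥N), (⊤ : Subgroup ↥N)⁆ = ⊤ := by
    rw [← commutator_def]
    exact hN
  rw [← h1, ← Subgroup.map_commutator, h2]

/-- PRIME7, with RESTRICT (for `G = ON`, `n = 3`) as a hypothesis -/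
theorem onmprime7_core {Γ : Type} [Group Γ] [Finite Γ] (σ : Γ →* ON) (hσ : Cfsg.IsStemExtension σ)
    (hR : ∀ (S : Subgroup ON), S ≤ ⁅S, S⁆ → ∀ (n : ℕ), 0 < n →
      (∀ (Δ : Type) [Group Δ] [Finite Δ] (τ : Δ →* S), Cfsg.IsStemExtension τ →
        ∃ π : Multiplicative (ZMod n) →* τ.ker, Function.Surjective π) →
      Nat.Coprime n (Nat.card σ.ker) →
      ∀ w ∈ ⁅S.comap σ, S.comap σ⁆, σ w = 1 → w = 1) :
    Nat.card σ.ker ≠ 7 := by
  intro hcard
  haveI : Fact (Nat.Prime 7) := ⟨by norm_num⟩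
  haveI : Finite ON := ONOrder.finite
  obtain ⟨z, hz⟩ := exists_prime_orderOf_dvd_card' (G := σ.ker) 7 (by rw [hcard])
  obtain ⟨N, hNn, hNi, ⟨e⟩⟩ := Cfsg.Agent.Lib.Helper12.ONL.main
  -- the order of `N`
  have hcN : Nat.card ↥N = 1876896 := by
    have h1 := N.card_mul_index
    rw [hNi, ONOrder.card_Hs] at h1
    omega
  -- `N` is simple and perfect
  haveI : IsSimpleGroup (Matrix.ProjectiveSpecialLinearGroup (Fin 3) (ZMod 7)) :=
    Cfsg.Agent.S0249.result 3 le_rfl
  haveI : Nontrivial ↥N := e.toEquiv.nontrivial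
  haveI : IsSimpleGroup ↥N := IsSimpleGroup.isSimpleGroup_of_surjective e.symm.toMonoidHom e.symm.surjective
  have hperfN : commutator ↥N = ⊤ := by
    apply onmprime7_perfect
    rw [hcN]
    norm_num
  -- the subgroup `S` of `ON`
  have hperf := onmprime7_map_perfect Hs N hperfN
  have hind : ¬ 7 ∣ (N.map Hs.subtype).index := by
    rw [Subgroup.index_map_subtype, hNi, rho_index]
    norm_num [cN]
  -- the multiplier of `S`
  have hmult := Cfsg.Agent.Lib.helper7.Ce.psl_mult_main (F := ZMod 7) 3 (by norm_num)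
    (by intro h; omega) (by
      rw [ZMod.card]
      simp only [Set.mem_insert_iff, Set.mem_singleton_iff, Prod.mk.injEq]
      omega)
  have h3 : Nat.gcd 3 (Fintype.card (ZMod 7) - 1) = 3 := by
    rw [ZMod.card]
    norm_num
  rw [h3] at hmult
  let eS : ↥(N.map Hs.subtype) ≃* Matrix.ProjectiveSpecialLinearGroup (Fin 3) (ZMod 7) :=
    (N.equivMapOfInjective Hs.subtype Hs.subtype_injective).symm.trans e
  have hmS : Cfsg.HasSchurMultiplier ↥(N.map Hs.subtype) (Multiplicative (ZMod 3)) :=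
    hasSchurMultiplier_of_equiv eS _ hmult.1 hmult.2
  have hS := hR (N.map Hs.subtype) hperf 3 (by norm_num)
    (fun Δ _ _ τ hτ => hmS.2 Δ τ hτ) (by rw [hcard]; norm_num)
  have hzp : (z : Γ) ^ 7 = 1 := by
    have := pow_orderOf_eq_one z
    rw [hz] at this
    have h2 := congrArg (Subtype.val) this
    simpa using h2
  have h1 := Cfsg.Agent.Lib.helper3.stem_no_prime_of_subgroup σ hσ.1 hσ.2.1 hσ.2.2
    (N.map Hs.subtype) hind hS (z := (z : Γ)) z.2 hzp
  have hz1 : z = 1 := Subtype.ext h1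
  rw [hz1, orderOf_one] at hz
  norm_num at hz

end Cfsg.Agent.Lib.helper17.ONM
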