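import Mathlib
import Cfsg.Prelude.Def_KGroupFacts
import Cfsg.Agent.Lib.Helper12.Ord.ONOrder
import Cfsg.Agent.Lib.Helper5.StemB
import Cfsg.Agent.Lib.helper17.ONM.Defs
import Cfsg.Agent.Lib.Helper16.ONMRESTRICT
import Cfsg.Agent.Lib.Helper22.ONMPRIME7core

/-!
# Project ONM (S2052), piece PRIME7 : no stem extension of `ON` with kernel of order seven
-/

set_option autoImplicit false

namespace Cfsg.Agent.Lib.helper17.ONM

open Cfsg.Spor Cfsg.Agent.Lib.Helper12.TC Cfsg.Agent.Lib.Helper12.TCG
  Cfsg.Agent.Lib.Helper12.Ord Cfsg.Agent.Lib.Helper5.Stem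

universe u v

/-- PRIME7: `Cfsg.Agent.Lib.Helper12.ONL.main` gives `N` normal of index two in `Hs` with
`N ≃* PSL (Fin 3) (ZMod 7)`; its image `S` in `ON` has index `2 * 122760` (`rho_index`), prime to seven; `S` is perfect
(`Cfsg.Agent.S0249.result`: the projective special linear group is simple, and it is not commutative); its finite stem
extensions have kernels which are images of `ZMod 3` (`Cfsg.Agent.Lib.helper7.Ce.psl_mult_main`, transported with
`Cfsg.Agent.Lib.Helper5.Stem.hasSchurMultiplier_of_equiv`); `onm_restrict` with `n = 3` and then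
`Cfsg.Agent.Lib.helper3.stem_no_prime_of_subgroup (file Lib/helper3/StemTools.lean)`. -/
theorem onm_no_seven {Γ : Type} [Group Γ] [Finite Γ] (σ : Γ →* ON) (hσ : Cfsg.IsStemExtension σ) :
    Nat.card σ.ker ≠ 7 :=
  onmprime7_core σ hσ
    (fun S hperf n hn hM hcop => onm_restrict σ hσ.1 hσ.2.1 S hperf n hn hM hcop)

end Cfsg.Agent.Lib.helper17.ONM
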