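import Mathlib
import Cfsg.Prelude.Def_KGroupFacts
import Cfsg.Agent.Lib.Helper12.Ord.ONOrder
import Cfsg.Agent.Lib.Helper5.StemB
import Cfsg.Agent.Lib.helper17.ONM.Defs
import Cfsg.Agent.Lib.helper17.OnOut.Words
import Cfsg.Agent.Lib.helper17.OnOut.ModelSem
import Cfsg.Agent.Lib.helper3.StemLocal
import Cfsg.Agent.Lib.helper3.StemTools

/-!
# Project ONM (S2052), piece PRIMECYC : no stem extension of `ON` with kernel of prime order `p ≥ 5`, `p ≠ 7`
-/

set_option autoImplicit false

namespace Cfsg.Agent.Lib.helper17.ONM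

open Cfsg.Spor Cfsg.Agent.Lib.Helper12.TC Cfsg.Agent.Lib.Helper12.TCG
  Cfsg.Agent.Lib.Helper12.Ord Cfsg.Agent.Lib.Helper5.Stem
open Cfsg.Agent.Lib.helper17.OnOut

universe u v

theorem onmprimecyc_e5 : eqB apON (List.replicate 5 [1, 2, 3, 6]).flatten [] = true := by
  decide +kernel
theorem onmprimecyc_n5 : neB apON [1, 2, 3, 6] = true := by decide +kernel
theorem onmprimecyc_e11 : eqB apON (List.replicate 11 [1, 2, 3, 4, 6]).flatten [] = true := by
  decide +kernel
theorem onmprimecyc_n11 : neB apON [1, 2, 3, 4, 6] = true := by decide +kernel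
theorem onmprimecyc_e19 :
    eqB apON (List.replicate 19 [7, 0, 1, 2, 3, 4, 5, 6]).flatten [] = true := by
  decide +kernel
theorem onmprimecyc_n19 : neB apON [7, 0, 1, 2, 3, 4, 5, 6] = true := by decide +kernel
theorem onmprimecyc_e31 : eqB apON (List.replicate 31 [1, 2, 3, 6, 4]).flatten [] = true := by
  decide +kernel
theorem onmprimecyc_n31 : neB apON [1, 2, 3, 6, 4] = true := by decide +kernel

/-- the order of an element given by a word, from two checks on the base points -/
theorem onmprimecyc_order (p : ℕ) (hp : p.Prime) (w : List ℕ)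
    (h1 : eqB apON (List.replicate p w).flatten [] = true) (h2 : neB apON w = true) :
    orderOf (wprod ONPres.v w) = p := by
  haveI : Fact p.Prime := ⟨hp⟩
  apply orderOf_eq_prime
  · rw [← wprod_replicate]
    exact (eq_of_eqB semON _ _ h1).trans (wprod_nil ONPres.v)
  · exact ne_one_of_neB semON _ h2

/-- the primes dividing the order of `ON` -/
theorem onmprimecyc_primes (p : ℕ) (hp : p.Prime) (h : p ∣ 460815505920) :
    p = 2 ∨ p = 3 ∨ p = 5 ∨ p = 7 ∨ p = 11 ∨ p = 19 ∨ p = 31 := by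
  have e : (460815505920 : ℕ) = 2 ^ 9 * 3 ^ 4 * 5 * 7 ^ 3 * 11 * 19 * 31 := by norm_num
  rw [e] at h
  rcases (Nat.Prime.dvd_mul hp).mp h with h | h
  · rcases (Nat.Prime.dvd_mul hp).mp h with h | h
    · rcases (Nat.Prime.dvd_mul hp).mp h with h | h
      · rcases (Nat.Prime.dvd_mul hp).mp h with h | h
        · rcases (Nat.Prime.dvd_mul hp).mp h with h | h
          · rcases (Nat.Prime.dvd_mul hp).mp h with h | h
            · exact Or.inl ((Nat.prime_dvd_prime_iff_eq hp (by norm_num)).mp (hp.dvd_of_dvd_pow h))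
            · exact Or.inr (Or.inl
                ((Nat.prime_dvd_prime_iff_eq hp (by norm_num)).mp (hp.dvd_of_dvd_pow h)))
          · exact Or.inr (Or.inr (Or.inl ((Nat.prime_dvd_prime_iff_eq hp (by norm_num)).mp h)))
        · exact Or.inr (Or.inr (Or.inr (Or.inl
            ((Nat.prime_dvd_prime_iff_eq hp (by norm_num)).mp (hp.dvd_of_dvd_pow h)))))
      · exact Or.inr (Or.inr (Or.inr (Or.inr (Or.inl
          ((Nat.prime_dvd_prime_iff_eq hp (by norm_num)).mp h)))))
    · exact Or.inr (Or.inr (Or.inr (Or.inr (Or.inr (Or.inl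
        ((Nat.prime_dvd_prime_iff_eq hp (by norm_num)).mp h))))))
  · exact Or.inr (Or.inr (Or.inr (Or.inr (Or.inr (Or.inr
      ((Nat.prime_dvd_prime_iff_eq hp (by norm_num)).mp h))))))

/-- PRIMECYC -/
theorem onm_no_cyc (p : ℕ) (hp : p.Prime) (h5 : 5 ≤ p) (h7 : p ≠ 7) {Γ : Type} [Group Γ] [Finite Γ]
    (σ : Γ →* ON) (hσ : Cfsg.IsStemExtension σ) : Nat.card σ.ker ≠ p := by
  intro hcard
  haveI : Fact p.Prime := ⟨hp⟩
  haveI : Finite ON := ONOrder.finite
  -- an element of order `p` of the kernel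
  obtain ⟨z, hz⟩ := exists_prime_orderOf_dvd_card' (G := σ.ker) p (by rw [hcard])
  -- a cyclic subgroup of index prime to `p`
  obtain ⟨c, hc⟩ : ∃ c : ON, ¬ p ∣ Nat.card ON / orderOf c := by
    by_cases h : p ∣ Nat.card ON
    · rw [ONOrder.card_eq] at h
      rcases onmprimecyc_primes p hp h with rfl | rfl | rfl | rfl | rfl | rfl | rfl
      · omega
      · omega
      · refine ⟨wprod ONPres.v [1, 2, 3, 6], ?_⟩
        rw [onmprimecyc_order 5 (by norm_num) _ onmprimecyc_e5 onmprimecyc_n5, ONOrder.card_eq]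
        norm_num
      · exact absurd rfl h7
      · refine ⟨wprod ONPres.v [1, 2, 3, 4, 6], ?_⟩
        rw [onmprimecyc_order 11 (by norm_num) _ onmprimecyc_e11 onmprimecyc_n11, ONOrder.card_eq]
        norm_num
      · refine ⟨wprod ONPres.v [7, 0, 1, 2, 3, 4, 5, 6], ?_⟩
        rw [onmprimecyc_order 19 (by norm_num) _ onmprimecyc_e19 onmprimecyc_n19, ONOrder.card_eq]
        norm_num
      · refine ⟨wprod ONPres.v [1, 2, 3, 6, 4], ?_⟩
        rw [onmprimecyc_order 31 (by norm_num) _ onmprimecyc_e31 onmprimecyc_n31, ONOrder.card_eq]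
        norm_num
    · exact ⟨1, by rw [orderOf_one, Nat.div_one]; exact h⟩
  obtain ⟨S, hS1, hS2⟩ := Cfsg.Agent.Lib.helper3.local_trivial_of_zpowers σ hσ.2.1 p c hc
  have hzp : (z : Γ) ^ p = 1 := by
    have := pow_orderOf_eq_one z
    rw [hz] at this
    have h2 := congrArg (Subtype.val) this
    simpa using h2
  have h1 := Cfsg.Agent.Lib.helper3.stem_no_prime_of_subgroup σ hσ.1 hσ.2.1 hσ.2.2 S hS1 hS2
    (z := (z : Γ)) z.2 hzp
  have hz1 : z = 1 := Subtype.ext h1
  rw [hz1, orderOf_one] at hz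
  exact hp.one_lt.ne hz

end Cfsg.Agent.Lib.helper17.ONM
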