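import Mathlib
import Cfsg.Agent.Lib.Helper19.ORE.Defs
import Cfsg.Agent.Lib.helper15.ORED1gen
import Cfsg.Agent.Lib.helper15.OREB1gen

/-!
# Project ORE (helper19, S2444), row D1 (`exists_cyc_summand`), verbatim.
Built on helper15's generic `ored1_split` (cyclic primary summand + invariant complement).
-/

set_option autoImplicit false

namespace Cfsg.Agent.Lib.Helper19.ORE

open Polynomial Module

universe u v w v₁ v₂ v₃ v₄

section General
variable {F : Type u} [Field F]

theorem ored1_restr_inj {V : Type v} [AddCommGroup V] [Module F V]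
    (g : V ≃ₗ[F] V) (W : Submodule F V) (hW : ∀ w ∈ W, (g : V →ₗ[F] V) w ∈ W) :
    Function.Injective ((g : V →ₗ[F] V).restrict hW) := by
  intro a b hab
  apply Subtype.ext
  have h := congrArg Subtype.val hab
  rw [LinearMap.coe_restrict_apply, LinearMap.coe_restrict_apply] at h
  exact g.injective h

/-- restriction of a linear automorphism to an invariant subspace of a finite-dimensional space -/
noncomputable def ored1_restr {V : Type v} [AddCommGroup V] [Module F V] [FiniteDimensional F V]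
    (g : V ≃ₗ[F] V) (W : Submodule F V) (hW : ∀ w ∈ W, (g : V →ₗ[F] V) w ∈ W) : W ≃ₗ[F] W :=
  LinearEquiv.ofInjectiveEndo ((g : V →ₗ[F] V).restrict hW) (ored1_restr_inj g W hW)

theorem ored1_restr_coe {V : Type v} [AddCommGroup V] [Module F V] [FiniteDimensional F V]
    (g : V ≃ₗ[F] V) (W : Submodule F V) (hW : ∀ w ∈ W, (g : V →ₗ[F] V) w ∈ W) (w : W) :
    ((ored1_restr g W hW w : W) : V) = g (w : V) := by
  have h := congrFun (LinearEquiv.coe_ofInjectiveEndo ((g : V →ₗ[F] V).restrict hW)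
    (ored1_restr_inj g W hW)) w
  have h2 := congrArg Subtype.val h
  rw [LinearMap.coe_restrict_apply] at h2
  exact h2

/-- polynomials in the restriction are restrictions of polynomials -/
theorem ored1_aeval_restr {V : Type v} [AddCommGroup V] [Module F V] [FiniteDimensional F V]
    (g : V ≃ₗ[F] V) (W : Submodule F V) (hW : ∀ w ∈ W, (g : V →ₗ[F] V) w ∈ W) (q : F[X]) (w : W) :
    ((aeval ((ored1_restr g W hW : W ≃ₗ[F] W) : W →ₗ[F] W) q w : W) : V) =
      aeval (g : V →ₗ[F] V) q (w : V) := by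
  have h : (g : V →ₗ[F] V) ∘ₗ W.subtype =
      W.subtype ∘ₗ ((ored1_restr g W hW : W ≃ₗ[F] W) : W →ₗ[F] W) := by
    apply LinearMap.ext
    intro x
    rw [LinearMap.comp_apply, LinearMap.comp_apply, Submodule.subtype_apply,
      Submodule.subtype_apply]
    exact (ored1_restr_coe g W hW x).symm
  have h2 := Cfsg.Agent.Lib.helper15.OREgen.oreb1_intertwine (g : V →ₗ[F] V)
    ((ored1_restr g W hW : W ≃ₗ[F] W) : W →ₗ[F] W) W.subtype h q
  have h3 := congrArg (fun f => f w) h2
  simp only [LinearMap.comp_apply, Submodule.subtype_apply] at h3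
  exact h3.symm

/-- **D1** (a cyclic direct summand).  `Module.AEval' (g : V →ₗ[F] V)` is a finitely generated
torsion `F[X]`-module; `Module.equiv_directSum_of_isTorsion` gives
`≃ₗ[F[X]] ⨁ i : ι, F[X] ⧸ (p i ^ e i)`; `ι` is nonempty as `V ≠ 0`; split off one summand `i₀`
(`V₁` := preimage of that summand, `V₂` := preimage of the others); both are `g`-stable
(`X • of v = of (g v)`), and `V₁` is cyclic (generated by the preimage of `1`).  Compare
`Cfsg/Agent/Lib/Helper16/PJord4.lean`, `Cfsg/Agent/Lib/Helper29/GLK/PieceA.lean`, `Cfsg/Agent/S2580.lean`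
for this API in use. -/
theorem exists_cyc_summand {V : Type v} [AddCommGroup V] [Module F V] [FiniteDimensional F V]
    [Nontrivial V] (g : V ≃ₗ[F] V) :
    ∃ (V₁ V₂ : Submodule F V) (g₁ : V₁ ≃ₗ[F] V₁) (g₂ : V₂ ≃ₗ[F] V₂) (e : V ≃ₗ[F] V₁ × V₂),
      Conj e g (g₁.prodCongr g₂) ∧ IsCyc g₁ ∧ 0 < finrank F V₁ := by
  obtain ⟨W, W', v, p, n, hp, hn, hc, hW, hW', hspan, hann⟩ :=
    Cfsg.Agent.Lib.helper15.OREgen.ored1_split (g : V →ₗ[F] V)
  have hvW : v ∈ W := by
    rw [hspan]
    exact Submodule.subset_span ⟨0, by simp⟩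
  have hv0 : v ≠ 0 := by
    intro h0
    have h1 : (aeval (g : V →ₗ[F] V) (1 : F[X])) v = 0 := by
      rw [h0, map_zero]
    have h2 := (hann 1).mp h1
    have h3 : IsUnit (p ^ n) := isUnit_of_dvd_one h2
    have h4 : IsUnit p := (isUnit_pow_iff (Nat.pos_iff_ne_zero.mp hn)).mp h3
    exact hp.not_isUnit h4
  refine ⟨W, W', ored1_restr g W hW, ored1_restr g W' hW',
    (Submodule.prodEquivOfIsCompl W W' hc).symm, ?_, ?_, ?_⟩
  · intro x
    apply (Submodule.prodEquivOfIsCompl W W' hc).injective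
    rw [LinearEquiv.apply_symm_apply]
    obtain ⟨⟨a, b⟩, rfl⟩ := (Submodule.prodEquivOfIsCompl W W' hc).surjective x
    rw [LinearEquiv.symm_apply_apply, LinearEquiv.prodCongr_apply,
      Submodule.coe_prodEquivOfIsCompl', Submodule.coe_prodEquivOfIsCompl']
    rw [ored1_restr_coe, ored1_restr_coe, map_add]
  · refine ⟨⟨v, hvW⟩, ?_⟩
    rintro ⟨x, hx⟩
    have key : ∀ y ∈ Submodule.span F (Set.range fun k : ℕ => ((g : V →ₗ[F] V) ^ k) v),
        ∃ q : F[X], y = aeval (g : V →ₗ[F] V) q v := by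
      intro y hy
      induction hy using Submodule.span_induction with
      | mem y hy =>
        obtain ⟨k, rfl⟩ := hy
        exact ⟨X ^ k, by rw [map_pow, aeval_X]⟩
      | zero => exact ⟨0, by rw [map_zero, LinearMap.zero_apply]⟩
      | add y z _ _ hy hz =>
        obtain ⟨q1, rfl⟩ := hy
        obtain ⟨q2, rfl⟩ := hz
        exact ⟨q1 + q2, by rw [map_add, LinearMap.add_apply]⟩
      | smul c y _ hy =>
        obtain ⟨q1, rfl⟩ := hy
        exact ⟨c • q1, by rw [map_smul, LinearMap.smul_apply]⟩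
    obtain ⟨q, hq⟩ := key x (hspan ▸ hx)
    refine ⟨q, ?_⟩
    apply Subtype.ext
    rw [ored1_aeval_restr]
    exact hq
  · rw [Module.finrank_pos_iff]
    exact ⟨⟨⟨v, hvW⟩, 0, fun h => hv0 (congrArg Subtype.val h)⟩⟩

end General

end Cfsg.Agent.Lib.Helper19.ORE
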