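import Mathlib
import Cfsg.Agent.Lib.Helper19.ORE.Defs
import Cfsg.Agent.Lib.Helper24.OREB3

/-!
# Project ORE (helper19, S2444), row D2 (`rep_one`, `rep_two`, `rep_smulE`), verbatim.
-/

set_option autoImplicit false

namespace Cfsg.Agent.Lib.Helper19.ORE

open Polynomial Module

universe u v w v₁ v₂ v₃ v₄

section General
variable {F : Type u} [Field F]

/-- the matrix of `g` in a basis indexed by `Fin k` represents `g`. -/
theorem ored2_rep_of_basis {V : Type v} [AddCommGroup V] [Module F V] {k : ℕ}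
    (b : Basis (Fin k) F V) (g : V ≃ₗ[F] V) :
    Rep g (LinearMap.toMatrix b b (g : V →ₗ[F] V)) := by
  refine ⟨b.equivFun, ?_⟩
  intro x
  have h := LinearMap.toMatrix_mulVec_repr b b (g : V →ₗ[F] V) x
  rw [Basis.equivFun_apply, Basis.equivFun_apply]
  exact h.symm

theorem ored2_det_eq {V : Type v} [AddCommGroup V] [Module F V] {k : ℕ}
    (b : Basis (Fin k) F V) (g : V ≃ₗ[F] V) :
    (LinearMap.toMatrix b b (g : V →ₗ[F] V)).det = ((LinearEquiv.det g : Fˣ) : F) := by
  rw [LinearMap.det_toMatrix, LinearEquiv.coe_det]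

/-- **D2** (matrices of small cyclic pieces; basis `v, g v` from `cyc_basis`;
`det (comp2 t δ) = δ`). -/
theorem rep_one {V : Type v} [AddCommGroup V] [Module F V] (g : V ≃ₗ[F] V)
    (h1 : finrank F V = 1) : Rep g (mat1 ((LinearEquiv.det g : Fˣ) : F)) := by
  haveI : FiniteDimensional F V := Module.finite_of_finrank_eq_succ h1
  have b : Basis (Fin 1) F V := Module.finBasisOfFinrankEq F V h1
  have h := ored2_rep_of_basis b g
  have hd := ored2_det_eq b g
  rw [Matrix.det_fin_one] at hd
  have hM : LinearMap.toMatrix b b (g : V →ₗ[F] V) = mat1 ((LinearEquiv.det g : Fˣ) : F) := by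
    ext i j
    fin_cases i
    fin_cases j
    simp only [mat1, Fin.zero_eta, Fin.isValue, Matrix.of_apply, Matrix.cons_val', Matrix.cons_val_zero,
      Matrix.cons_val_fin_one]
    exact hd
  rw [← hM]
  exact h

theorem rep_two {V : Type v} [AddCommGroup V] [Module F V] [FiniteDimensional F V]
    (g : V ≃ₗ[F] V) (hg : IsCyc g) (h2 : finrank F V = 2) :
    ∃ t : F, Rep g (comp2 t ((LinearEquiv.det g : Fˣ) : F)) := by
  obtain ⟨v, b, hb⟩ := cyc_basis g hg 2 h2
  have h := ored2_rep_of_basis b g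
  have hd := ored2_det_eq b g
  rw [Matrix.det_fin_two] at hd
  have hb0 : b 0 = v := by
    have := hb 0
    simpa using this
  have hb1 : b 1 = g v := by
    have := hb 1
    simpa using this
  have hcol : ∀ i : Fin 2, LinearMap.toMatrix b b (g : V →ₗ[F] V) i 0 = if i = 1 then 1 else 0 := by
    intro i
    rw [LinearMap.toMatrix_apply, hb0, LinearEquiv.coe_coe, ← hb1, Basis.repr_self,
      Finsupp.single_apply]
    by_cases hi : i = 1
    · rw [if_pos hi, if_pos hi.symm]
    · rw [if_neg hi, if_neg (fun h => hi h.symm)]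
  have h00 := hcol 0
  have h10 := hcol 1
  rw [if_neg (by decide)] at h00
  rw [if_pos rfl] at h10
  rw [h00, h10, zero_mul, zero_sub, mul_one] at hd
  refine ⟨LinearMap.toMatrix b b (g : V →ₗ[F] V) 1 1, ?_⟩
  have hM : LinearMap.toMatrix b b (g : V →ₗ[F] V) =
      comp2 (LinearMap.toMatrix b b (g : V →ₗ[F] V) 1 1) ((LinearEquiv.det g : Fˣ) : F) := by
    ext i j
    fin_cases i <;> fin_cases j
    · simpa [comp2] using h00
    · simp only [comp2, Fin.zero_eta, Fin.mk_one, Fin.isValue, Matrix.of_apply, Matrix.cons_val',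
        Matrix.cons_val_zero, Matrix.cons_val_one, Matrix.cons_val_fin_one]
      rw [← hd, neg_neg]
    · simpa [comp2] using h10
    · simp [comp2]
  rw [← hM]
  exact h

theorem rep_smulE (κ : Fˣ) : Rep (smulE κ) (mat1 (κ : F)) := by
  refine ⟨(LinearEquiv.funUnique (Fin 1) F F).symm, ?_⟩
  intro x
  ext i
  fin_cases i
  simp [smulE, mat1, Matrix.mulVec, dotProduct, LinearEquiv.smulOfUnit, Units.smul_def]

end General

end Cfsg.Agent.Lib.Helper19.ORE
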