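import Mathlib
import Cfsg.Prelude.Def_GeometricClasses
import Cfsg.Agent.Lib.Helper19.OU.Defs

set_option autoImplicit false
set_option linter.unusedVariables false
set_option linter.unusedSectionVars false

/-!
# Project OU (leader: helper19) -> S5700, piece PROP2 (helper22), CORE : `all_sro` from the STATEMENTS of
START, SPRA, SPRB, PROP1, MIX, `rs_iff_sro` taken as hypotheses (the verbatim wrapper `OUPROP2.lean` instantiates them
with the landed pieces).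
-/

namespace Cfsg.Agent.Lib.Helper19.OU

open Matrix Cfsg.Agent.Lib.Helper28.HForm Cfsg.Agent.Lib.Helper28.OGen
  Cfsg.Agent.Lib.Helper28.OMax Cfsg.Agent.Lib.Helper28.OQ Cfsg.Agent.Lib.Helper28.OMax2
  Cfsg.Agent.Lib.Helper28.OIwa Cfsg.Agent.Lib.Helper28.OPair

variable {n : ℕ} {F : Type*} [Field F] {Q : (Fin n → F) → F}
  {f : (Fin n → F) → (Fin n → F) → F} {θ : Matrix (Fin n) (Fin n) F} {t N : F}
  {G M : Subgroup (Matrix.GeneralLinearGroup (Fin n) F)}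

/-- PROP2, core: the propagation argument, with START / SPRA / SPRB / PROP1 / MIX / `rs_iff_sro` as hypotheses. -/
theorem ouprop2_core (hsym : SymF f)
    (hstart : ∃ u v : Fin n → F, Q u = 0 ∧ u ≠ 0 ∧ Q v = 0 ∧ f u v = 0 ∧ v ∉ Kl θ u ∧ v ∈ RS Q f M u)
    (hA : ∀ {u v : Fin n → F}, Q u = 0 → u ≠ 0 → Q v = 0 → HO f θ u v → v ∉ Kl θ u →
      v ∈ RS Q f M u → Full1 Q f θ M u)
    (hB : ∀ {u v : Fin n → F}, Q u = 0 → u ≠ 0 → Q v = 0 → f u v = 0 → f (θ *ᵥ u) v ≠ 0 →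
      v ∈ RS Q f M u → Full Q f M u)
    (hP1 : ∀ {u₀ : Fin n → F}, Q u₀ = 0 → u₀ ≠ 0 → Full1 Q f θ M u₀ →
      ∀ x, Q x = 0 → x ≠ 0 → Full1 Q f θ M x)
    (hmix : (∀ x, Q x = 0 → x ≠ 0 → Full1 Q f θ M x) → ∀ {u : Fin n → F}, Q u = 0 → u ≠ 0 →
      ∃ v, Q v = 0 ∧ f u v = 0 ∧ f (θ *ᵥ u) v ≠ 0 ∧ v ∈ RS Q f M u)
    (hsro : ∀ {u y : Fin n → F}, Q y = 0 → f u y = 0 → (y ∈ RS Q f M u ↔ SRO f M u y)) :
    ∀ u v : Fin n → F, Q u = 0 → Q v = 0 → f u v = 0 → SRO f M u v := by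
  obtain ⟨u₀, v₀, hu, hu0, hv, huv, hvK, hvR⟩ := hstart
  have h1 : Full1 Q f θ M u₀ := by
    by_cases hβ : f (θ *ᵥ u₀) v₀ = 0
    · exact hA hu hu0 hv ⟨huv, hβ⟩ hvK hvR
    · have hF : Full Q f M u₀ := hB hu hu0 hv huv hβ hvR
      intro y hy hho
      exact hF y hy hho.1
  have hall : ∀ x, Q x = 0 → x ≠ 0 → Full1 Q f θ M x := hP1 hu hu0 h1
  have hfull : ∀ x, Q x = 0 → x ≠ 0 → Full Q f M x := by
    intro x hx hx0
    obtain ⟨v, hv, hxv, hβ, hvR⟩ := hmix hall hx hx0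
    exact hB hx hx0 hv hxv hβ hvR
  intro u v hu hv huv
  by_cases hu0 : u = 0
  · intro c τ hτ
    rw [hu0] at hτ
    rw [isSg_one_of_zero hsym hτ]
    exact Subgroup.one_mem _
  · exact (hsro hv huv).mp (hfull u hu hu0 v hv huv)

end Cfsg.Agent.Lib.Helper19.OU
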