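import Mathlib
import Cfsg.Prelude.Def_Transfer
import Cfsg.Agent.Lib.Helper22.Ord4A
import Cfsg.Agent.Lib.helper14.Quat

set_option autoImplicit false

namespace Cfsg.Agent.Lib.Helper22.Ord4B

open Cfsg.Agent.Lib.Helper22.Ord4A

theorem sq_sq {L : Type*} [Group L] (y : L) : y * y * (y * y) = y ^ 4 := by
  simp [pow_succ, mul_assoc]

theorem inverts_of_fpf {L : Type*} [Group L] [Finite L] (N : Subgroup L) [hNn : N.Normal] (t : L)
    (ht2 : t * t = 1) (hfpf : ∀ n ∈ N, t * n = n * t → n = 1) {n : L} (hn : n ∈ N) :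
    t * n * t⁻¹ = n⁻¹ := by
  have htinv : t⁻¹ = t := inv_eq_of_mul_eq_one_left ht2
  let f : N → N := fun a => ⟨(a : L)⁻¹ * (t * a * t⁻¹), N.mul_mem (N.inv_mem a.2) (hNn.conj_mem _ a.2 t)⟩
  have hf : Function.Injective f := by
    intro a b hab
    have h1 : (a : L)⁻¹ * (t * a * t⁻¹) = (b : L)⁻¹ * (t * b * t⁻¹) := congrArg Subtype.val hab
    have h2 : t * ((b : L) * (a : L)⁻¹) = ((b : L) * (a : L)⁻¹) * t := by
      have e1 : t * ((b : L) * (a : L)⁻¹) = (b : L) * ((b : L)⁻¹ * (t * b * t⁻¹)) * t * (a : L)⁻¹ := by group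
      have e2 : ((b : L) * (a : L)⁻¹) * t = (b : L) * ((a : L)⁻¹ * (t * a * t⁻¹)) * t * (a : L)⁻¹ := by group
      rw [e1, e2, h1]
    have h3 : (b : L) * (a : L)⁻¹ = 1 := hfpf _ (N.mul_mem b.2 (N.inv_mem a.2)) h2
    apply Subtype.ext
    exact (mul_inv_eq_one.mp h3).symm
  have hs : Function.Surjective f := Finite.surjective_of_injective hf
  obtain ⟨a, ha⟩ := hs ⟨n, hn⟩
  have h1 : (a : L)⁻¹ * (t * a * t⁻¹) = n := congrArg Subtype.val ha
  rw [← h1, htinv]
  have e1 : t * ((a : L)⁻¹ * (t * a * t)) * t = t * (a : L)⁻¹ * t * a * (t * t) := by group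
  have e2 : ((a : L)⁻¹ * (t * a * t))⁻¹ = t⁻¹ * (a : L)⁻¹ * t⁻¹ * a := by group
  rw [e1, e2, ht2, htinv, mul_one]

theorem comm_of_inverts {L : Type*} [Group L] (N : Subgroup L) (t : L)
    (hinv : ∀ n ∈ N, t * n * t⁻¹ = n⁻¹) (a b : L) (ha : a ∈ N) (hb : b ∈ N) : a * b = b * a := by
  have h1 := hinv (a * b) (N.mul_mem ha hb)
  have h2 := hinv a ha
  have h3 := hinv b hb
  have e : t * (a * b) * t⁻¹ = (t * a * t⁻¹) * (t * b * t⁻¹) := by group
  rw [e, h2, h3] at h1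
  have h4 := congrArg Inv.inv h1
  rw [mul_inv_rev, inv_inv, inv_inv, inv_inv] at h4
  exact h4.symm

theorem case3 {G : Type*} [Group G] [Finite G] (h : Ord4 G) (g4 : G) (hg4 : orderOf g4 = 4)
    (N₀ : Subgroup G) [hN₀n : N₀.Normal] (hN₀ : N₀ ≠ ⊥) (h3 : ∀ x ∈ N₀, x ^ 3 = 1) :
    ∃ (N : Subgroup G) (_ : N.Normal), Cfsg.IsElementaryAbelian 3 N ∧
      ((IsCyclic (G ⧸ N) ∧ N.index = 4) ∨ Nonempty (G ⧸ N ≃* QuaternionGroup 2)) := by
  classical
  obtain ⟨n₀, hn₀, hn₀1⟩ : ∃ n ∈ N₀, n ≠ 1 := by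
    by_contra hcon
    push Not at hcon
    exact hN₀ ((Subgroup.eq_bot_iff_forall _).mpr hcon)
  obtain ⟨N, hNdef⟩ : ∃ N : Subgroup G, N = Subgroup.centralizer (N₀ : Set G) := ⟨_, rfl⟩
  have hNn : N.Normal := by rw [hNdef]; infer_instance
  have hN3 : ∀ x ∈ N, x ^ 3 = 1 := by
    intro x hx
    rcases pow4_or_pow3 h x with e | e
    · rw [hNdef, Subgroup.mem_centralizer_iff] at hx
      have hc : Commute x n₀ := (hx n₀ hn₀).symm
      rcases no_comm h x n₀ e (h3 n₀ hn₀) hc with r | r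
      · rw [r, one_pow]
      · exact absurd r hn₀1
    · exact e
  obtain ⟨t, ht⟩ : ∃ t : G, t = g4 * g4 := ⟨_, rfl⟩
  have hg44 : g4 ^ 4 = 1 := by rw [← hg4]; exact pow_orderOf_eq_one g4
  have ht2 : t * t = 1 := by rw [ht, ← hg44]; exact sq_sq g4
  have ht1 : t ≠ 1 := by
    intro e
    have h1 : g4 ^ 2 = 1 := by rw [pow_two, ← ht]; exact e
    have h2 := orderOf_dvd_of_pow_eq_one h1
    rw [hg4] at h2
    norm_num at h2
  have htinv : t⁻¹ = t := inv_eq_of_mul_eq_one_left ht2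
  have hinv4 : ∀ s : G, s * s = 1 → s ^ 4 = 1 := by
    intro s hs
    rw [← sq_sq, hs, one_mul]
  have hfpf : ∀ (M : Subgroup G), (∀ x ∈ M, x ^ 3 = 1) → ∀ s : G, s * s = 1 → s ≠ 1 →
      ∀ n ∈ M, s * n = n * s → n = 1 := by
    intro M hM s hs hs1 n hn hc
    rcases no_comm h s n (hinv4 s hs) (hM n hn) hc with r | r
    · exact absurd r hs1
    · exact r
  have hinvN : ∀ s : G, s * s = 1 → s ≠ 1 → ∀ n ∈ N, s * n * s⁻¹ = n⁻¹ := fun s hs hs1 n hn =>
    inverts_of_fpf N s hs (hfpf N hN3 s hs hs1) hn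
  have hinvN₀ : ∀ s : G, s * s = 1 → s ≠ 1 → ∀ n ∈ N₀, s * n * s⁻¹ = n⁻¹ := fun s hs hs1 n hn =>
    inverts_of_fpf N₀ s hs (hfpf N₀ h3 s hs hs1) hn
  have hNcomm : ∀ a ∈ N, ∀ b ∈ N, a * b = b * a := fun a ha b hb =>
    comm_of_inverts N t (hinvN t ht2 ht1) a b ha hb
  have hEA : Cfsg.IsElementaryAbelian 3 N :=
    ⟨⟨⟨fun a b => Subtype.ext (hNcomm a a.2 b b.2)⟩⟩, hN3⟩
  have hprod : ∀ s : G, s * s = 1 → s ≠ 1 → t * s ∈ N := by
    intro s hs hs1
    rw [hNdef, Subgroup.mem_centralizer_iff]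
    intro n hn
    have h1 := hinvN₀ s hs hs1 n hn
    have h2 := hinvN₀ t ht2 ht1 n⁻¹ (N₀.inv_mem hn)
    rw [inv_inv] at h2
    have e : t * s * n = t * (s * n * s⁻¹) * t⁻¹ * (t * s) := by group
    rw [e, h1, h2]
  obtain ⟨P, hPdef⟩ : ∃ P : Subgroup G, P = Subgroup.centralizer ({t} : Set G) := ⟨_, rfl⟩
  have hmemP : ∀ x : G, x ∈ P ↔ x * t = t * x := by
    intro x
    rw [hPdef, Subgroup.mem_centralizer_singleton_iff]
  have hP4 : ∀ x ∈ P, x ^ 4 = 1 := by
    intro x hx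
    rcases pow4_or_pow3 h x with e | e
    · exact e
    · have hc : Commute t x := ((hmemP x).mp hx).symm
      rcases no_comm h t x (hinv4 t ht2) e hc with r | r
      · exact absurd r ht1
      · rw [r, one_pow]
  have hdecomp : ∀ g : G, ∃ n ∈ N, ∃ c ∈ P, g = n * c := by
    intro g
    obtain ⟨s, hs⟩ : ∃ s : G, s = g * t * g⁻¹ := ⟨_, rfl⟩
    have hs2 : s * s = 1 := by
      rw [hs]
      have e : g * t * g⁻¹ * (g * t * g⁻¹) = g * (t * t) * g⁻¹ := by group
      rw [e, ht2]; group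
    have hs1 : s ≠ 1 := by
      intro e
      apply ht1
      have e2 : t = g⁻¹ * s * g := by rw [hs]; group
      rw [e2, e]; group
    have hu := hprod s hs2 hs1
    obtain ⟨u, hu_def⟩ : ∃ u : G, u = t * s := ⟨_, rfl⟩
    rw [← hu_def] at hu
    have hu3 := hN3 u hu
    obtain ⟨w, hw_def⟩ : ∃ w : G, w = u * u := ⟨_, rfl⟩
    have hw : w ∈ N := by rw [hw_def]; exact N.mul_mem hu hu
    have hww : w * w = u := by
      rw [hw_def]
      have e : u * u * (u * u) = u ^ 3 * u := by rw [sq_sq, pow_succ]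
      rw [e, hu3, one_mul]
    have h1 : t * w * t⁻¹ = w⁻¹ := hinvN t ht2 ht1 w hw
    have hsw : s = w⁻¹ * t * w := by
      calc s = t * u := by rw [hu_def, ← mul_assoc, ht2, one_mul]
        _ = (t * u * t⁻¹) * t := by group
        _ = u⁻¹ * t := by rw [hinvN t ht2 ht1 u hu]
        _ = (w * w)⁻¹ * t := by rw [hww]
        _ = w⁻¹ * (t * w * t⁻¹) * t := by rw [h1]; group
        _ = w⁻¹ * t * w := by group
    refine ⟨w⁻¹, N.inv_mem hw, w * g, ?_, by group⟩
    rw [hmemP]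
    have e1 : w * g * t = w * (g * t * g⁻¹) * g := by group
    rw [e1, ← hs, hsw]
    group
  let f : P →* G ⧸ N := (QuotientGroup.mk' N).comp P.subtype
  have hfinj : Function.Injective f := by
    rw [injective_iff_map_eq_one]
    intro c hc
    have hcN : (c : G) ∈ N := by
      have h1 : QuotientGroup.mk' N (c : G) = 1 := hc
      rwa [QuotientGroup.mk'_apply, QuotientGroup.eq_one_iff] at h1
    apply Subtype.ext
    exact eq_one_of_pow4_pow3 _ (hP4 c c.2) (hN3 c hcN)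
  have hfsurj : Function.Surjective f := by
    intro q
    obtain ⟨g, rfl⟩ := QuotientGroup.mk_surjective q
    obtain ⟨n, hn, c, hc, rfl⟩ := hdecomp g
    refine ⟨⟨c, hc⟩, ?_⟩
    show QuotientGroup.mk' N c = QuotientGroup.mk' N (n * c)
    rw [map_mul]
    have h1 : QuotientGroup.mk' N n = 1 := by
      rw [QuotientGroup.mk'_apply, QuotientGroup.eq_one_iff]; exact hn
    rw [h1, one_mul]
  let e : P ≃* G ⧸ N := MulEquiv.ofBijective f ⟨hfinj, hfsurj⟩
  have hxP : g4 ∈ P := by rw [hmemP, ht]; group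
  have htP : t ∈ P := by rw [hmemP]
  have hinvP : ∀ s ∈ P, s * s = 1 → s = 1 ∨ s = t := by
    intro s hsP hs
    by_cases hs1 : s = 1
    · left; exact hs1
    · right
      have h1 := hprod s hs hs1
      have h2 : t * s ∈ P := P.mul_mem htP hsP
      have h3 := eq_one_of_pow4_pow3 _ (hP4 _ h2) (hN3 _ h1)
      have h4 : s = t⁻¹ := (inv_eq_of_mul_eq_one_right h3).symm
      rw [h4, htinv]
  have hsqP : ∀ y ∈ P, y * y = 1 ∨ y * y = t := by
    intro y hy
    apply hinvP (y * y) (P.mul_mem hy hy)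
    have h1 := hP4 y hy
    rw [← h1]; exact sq_sq y
  obtain ⟨C, hCdef⟩ : ∃ C : Subgroup G, C = Subgroup.zpowers g4 := ⟨_, rfl⟩
  have hxC : g4 ∈ C := by rw [hCdef]; exact Subgroup.mem_zpowers g4
  have htC : t ∈ C := by rw [ht]; exact C.mul_mem hxC hxC
  have hCP : C ≤ P := by rw [hCdef]; exact (Subgroup.zpowers_le).mpr hxP
  have hout : ∀ y ∈ P, y ∉ C → y * y = t := by
    intro y hy hyC
    rcases hsqP y hy with e1 | e1
    · rcases hinvP y hy e1 with r | r
      · exact absurd (r ▸ C.one_mem) hyC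
      · exact absurd (r ▸ htC) hyC
    · exact e1
  have hinvx : ∀ y ∈ P, y ∉ C → y * g4 * y⁻¹ = g4⁻¹ := by
    intro y hy hyC
    have h1 := hout y hy hyC
    have h2 : g4 * y ∉ C := fun hm => hyC (by
      have := C.mul_mem (C.inv_mem hxC) hm
      simpa using this)
    have h3 := hout (g4 * y) (P.mul_mem hxP hy) h2
    have h4 : y * g4 * y = g4 := by
      have e1 : g4 * (y * g4 * y) = g4 * g4 := by
        rw [← ht, ← h3]; group
      exact mul_left_cancel e1
    calc y * g4 * y⁻¹ = (y * g4 * y) * (y * y)⁻¹ := by group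
      _ = g4 * t⁻¹ := by rw [h4, h1]
      _ = g4⁻¹ := by rw [ht]; group
  have hprodC : ∀ y ∈ P, y ∉ C → ∀ z ∈ P, z ∉ C → y * z ∈ C := by
    intro y hy hyC z hz hzC
    by_contra hcon
    have h1 := hinvx y hy hyC
    have h2 := hinvx z hz hzC
    have h3 := hinvx (y * z) (P.mul_mem hy hz) hcon
    have h4 : y * z * g4 * (y * z)⁻¹ = g4 := by
      have e1 : y * z * g4 * (y * z)⁻¹ = y * (z * g4 * z⁻¹) * y⁻¹ := by group
      rw [e1, h2]
      have e2 : y * g4⁻¹ * y⁻¹ = (y * g4 * y⁻¹)⁻¹ := by group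
      rw [e2, h1, inv_inv]
    rw [h4] at h3
    apply ht1
    rw [ht]
    calc g4 * g4 = g4 * g4⁻¹ := by rw [← h3]
      _ = 1 := mul_inv_cancel g4
  refine ⟨N, hNn, hEA, ?_⟩
  by_cases hall : ∀ y ∈ P, y ∈ C
  · left
    constructor
    · refine ⟨⟨QuotientGroup.mk' N g4, fun q => ?_⟩⟩
      obtain ⟨c, rfl⟩ := e.surjective q
      have hcC := hall c c.2
      rw [hCdef] at hcC
      obtain ⟨k, hk⟩ := Subgroup.mem_zpowers_iff.mp hcC
      refine Subgroup.mem_zpowers_iff.mpr ⟨k, ?_⟩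
      show (QuotientGroup.mk' N g4) ^ k = QuotientGroup.mk' N (c : G)
      rw [← map_zpow, hk]
    · rw [Subgroup.index_eq_card, ← Nat.card_congr e.toEquiv]
      have hPC : P = C := le_antisymm (fun y hy => hall y hy) hCP
      rw [hPC, hCdef, Nat.card_zpowers, hg4]
  · right
    push Not at hall
    obtain ⟨y, hyP, hyC⟩ := hall
    obtain ⟨hcard, ⟨eq⟩⟩ := Cfsg.Agent.Lib.helper14.quaternion_closure 2 (by norm_num) g4 y
      (by rw [hg4]) (by rw [hout y hyP hyC, ht, pow_two]) (hinvx y hyP hyC)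
    have hCle : C ≤ Subgroup.closure ({g4, y} : Set G) := by
      rw [hCdef]
      exact Subgroup.zpowers_le.mpr (Subgroup.subset_closure (by simp))
    have hPQ : P = Subgroup.closure ({g4, y} : Set G) := by
      apply le_antisymm
      · intro z hz
        by_cases hzC : z ∈ C
        · exact hCle hzC
        · have h1 := hprodC z hz hzC y hyP hyC
          have h2 : z * y ∈ Subgroup.closure ({g4, y} : Set G) := hCle h1
          have h3 : y ∈ Subgroup.closure ({g4, y} : Set G) := Subgroup.subset_closure (by simp)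
          have e1 : z = z * y * y⁻¹ := by group
          rw [e1]
          exact Subgroup.mul_mem _ h2 (Subgroup.inv_mem _ h3)
      · rw [Subgroup.closure_le]
        intro z hz
        simp only [Set.mem_insert_iff, Set.mem_singleton_iff] at hz
        rcases hz with rfl | rfl
        · exact hxP
        · exact hyP
    exact ⟨(e.symm.trans (MulEquiv.subgroupCongr hPQ)).trans eq⟩

end Cfsg.Agent.Lib.Helper22.Ord4B
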