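import Mathlib
import Cfsg.Prelude.Def_SolvableStructure
import Cfsg.Agent.Lib.helper4.SupersolvableC

set_option autoImplicit false

namespace Cfsg.Agent.Lib.Helper22.OrdTypeA

open Cfsg

/-- all prime factors of `m` are at least `t` -/
def Big (t m : ℕ) : Prop := ∀ q : ℕ, q.Prime → q ∣ m → t ≤ q

/-- all prime factors of `m` are below `t` -/
def Small (t m : ℕ) : Prop := ∀ q : ℕ, q.Prime → q ∣ m → q < t

theorem Big.of_dvd {t a b : ℕ} (h : Big t b) (hab : a ∣ b) : Big t a :=
  fun q hq hqa => h q hq (hqa.trans hab)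

theorem Small.of_dvd {t a b : ℕ} (h : Small t b) (hab : a ∣ b) : Small t a :=
  fun q hq hqa => h q hq (hqa.trans hab)

theorem Big.mul {t a b : ℕ} (ha : Big t a) (hb : Big t b) : Big t (a * b) := by
  intro q hq hqd
  rcases (Nat.Prime.dvd_mul hq).1 hqd with h | h
  · exact ha q hq h
  · exact hb q hq h

theorem big_one (t : ℕ) : Big t 1 := by
  intro q hq hq1
  exact absurd (Nat.dvd_one.1 hq1) hq.ne_one

theorem big_prime_pow {t p : ℕ} (hp : p.Prime) (htp : t ≤ p) (k : ℕ) : Big t (p ^ k) := by
  intro q hq hqd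
  have := (Nat.prime_dvd_prime_iff_eq hq hp).1 (hq.dvd_of_dvd_pow hqd)
  omega

noncomputable def cntBig (X : Type*) [Group X] (t : ℕ) : ℕ :=
  Nat.card {x : X // Big t (orderOf x)}

/-- the tower property at threshold `t` -/
def Tat (X : Type*) [Group X] (t : ℕ) : Prop :=
  ∃ d : ℕ, Nat.card X = cntBig X t * d ∧ Big t (cntBig X t) ∧ Small t d

section count

variable {X : Type*} [Group X] [Finite X]

theorem card_pred_eq_sum (P : ℕ → Prop) [DecidablePred P] (B : ℕ)
    (hB : ∀ x : X, orderOf x < B) :
    Nat.card {x : X // P (orderOf x)} =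
      ∑ m ∈ (Finset.range B).filter P, Nat.card {x : X // orderOf x = m} := by
  classical
  let _ : Fintype X := Fintype.ofFinite X
  rw [Nat.card_eq_fintype_card, Fintype.card_subtype]
  rw [Finset.card_eq_sum_card_fiberwise (f := orderOf) (t := (Finset.range B).filter P)]
  · apply Finset.sum_congr rfl
    intro e he
    rw [Nat.card_eq_fintype_card, Fintype.card_subtype]
    congr 1
    ext g
    simp only [Finset.mem_filter, Finset.mem_univ, true_and]
    constructor
    · rintro ⟨_, h⟩; exact h
    · intro h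
      refine ⟨?_, h⟩
      rw [h]
      exact (Finset.mem_filter.1 he).2
  · intro g hg
    simp only [Finset.coe_filter, Finset.mem_univ, true_and, Set.mem_setOf_eq] at hg
    simp only [Finset.coe_filter, Finset.mem_range, Set.mem_setOf_eq]
    exact ⟨hB g, hg⟩

end count

theorem card_pred_eq_of_same {G H : Type*} [Group G] [Finite G] [Group H] [Finite H]
    (hT : ∀ m : ℕ, Nat.card {g : G // orderOf g = m} = Nat.card {h : H // orderOf h = m})
    (P : ℕ → Prop) :
    Nat.card {x : G // P (orderOf x)} = Nat.card {x : H // P (orderOf x)} := by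
  classical
  have hG : ∀ x : G, orderOf x < Nat.card G + Nat.card H + 1 := by
    intro x
    have := Nat.le_of_dvd Nat.card_pos (orderOf_dvd_natCard x)
    omega
  have hH : ∀ x : H, orderOf x < Nat.card G + Nat.card H + 1 := by
    intro x
    have := Nat.le_of_dvd Nat.card_pos (orderOf_dvd_natCard x)
    omega
  rw [card_pred_eq_sum P _ hG, card_pred_eq_sum P _ hH]
  exact Finset.sum_congr rfl (fun m _ => hT m)

theorem card_eq_of_same {G H : Type*} [Group G] [Finite G] [Group H] [Finite H]
    (hT : ∀ m : ℕ, Nat.card {g : G // orderOf g = m} = Nat.card {h : H // orderOf h = m}) :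
    Nat.card G = Nat.card H := by
  have h := card_pred_eq_of_same hT (fun _ => True)
  have e1 : Nat.card {x : G // True} = Nat.card G := Nat.card_congr (Equiv.subtypeUnivEquiv (fun _ => trivial))
  have e2 : Nat.card {x : H // True} = Nat.card H := Nat.card_congr (Equiv.subtypeUnivEquiv (fun _ => trivial))
  rw [← e1, ← e2]
  exact h

theorem tat_of_same {G H : Type*} [Group G] [Finite G] [Group H] [Finite H]
    (hT : ∀ m : ℕ, Nat.card {g : G // orderOf g = m} = Nat.card {h : H // orderOf h = m})
    (t : ℕ) (h : Tat G t) : Tat H t := by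
  obtain ⟨d, h1, h2, h3⟩ := h
  have hc : cntBig G t = cntBig H t := card_pred_eq_of_same hT (Big t)
  refine ⟨d, ?_, ?_, h3⟩
  · rw [← hc, ← card_eq_of_same hT]; exact h1
  · rw [← hc]; exact h2

section quot

variable {X : Type*} [Group X]

/-- the preimage of a subset of the quotient is in bijection with subset × subgroup -/
noncomputable def preimEquiv (N : Subgroup X) [N.Normal] (S : X ⧸ N → Prop) :
    {x : X // S (x : X ⧸ N)} ≃ {y : X ⧸ N // S y} × N where
  toFun x := (⟨(x.1 : X ⧸ N), x.2⟩, ⟨(Quotient.out (x.1 : X ⧸ N))⁻¹ * x.1, by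
    rw [← QuotientGroup.eq]
    exact QuotientGroup.out_eq' _⟩)
  invFun z := ⟨Quotient.out z.1.1 * z.2.1, by
    have : ((Quotient.out z.1.1 * z.2.1 : X) : X ⧸ N) = z.1.1 := by
      rw [QuotientGroup.mk_mul, (QuotientGroup.eq_one_iff _).2 z.2.2, mul_one]
      exact QuotientGroup.out_eq' _
    rw [this]
    exact z.1.2⟩
  left_inv x := by
    apply Subtype.ext
    simp
  right_inv z := by
    have h1 : ((Quotient.out z.1.1 * z.2.1 : X) : X ⧸ N) = z.1.1 := by
      rw [QuotientGroup.mk_mul, (QuotientGroup.eq_one_iff _).2 z.2.2, mul_one]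
      exact QuotientGroup.out_eq' _
    apply Prod.ext
    · apply Subtype.ext
      exact h1
    · apply Subtype.ext
      show (Quotient.out ((Quotient.out z.1.1 * z.2.1 : X) : X ⧸ N))⁻¹ * (Quotient.out z.1.1 * z.2.1) = z.2.1
      rw [h1]
      group

theorem card_preim [Finite X] (N : Subgroup X) [N.Normal] (S : X ⧸ N → Prop) :
    Nat.card {x : X // S (x : X ⧸ N)} = Nat.card N * Nat.card {y : X ⧸ N // S y} := by
  rw [Nat.card_congr (preimEquiv N S), Nat.card_prod, mul_comm]

theorem big_orderOf_quot_iff [Finite X] (N : Subgroup X) [N.Normal] {p t : ℕ} (hp : p.Prime)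
    (hN : IsPGroup p N) (htp : t ≤ p) (x : X) :
    Big t (orderOf (x : X ⧸ N)) ↔ Big t (orderOf x) := by
  constructor
  · intro h q hq hqd
    set m := orderOf (x : X ⧸ N) with hm
    have hxm : x ^ m ∈ N := by
      rw [← QuotientGroup.eq_one_iff, QuotientGroup.mk_pow, hm]
      exact pow_orderOf_eq_one _
    obtain ⟨k, hk⟩ := hN ⟨x ^ m, hxm⟩
    have hk' : (x ^ m) ^ (p ^ k) = 1 := by
      have := congrArg Subtype.val hk
      simpa using this
    rw [← pow_mul] at hk'
    have hdvd : orderOf x ∣ m * p ^ k := orderOf_dvd_of_pow_eq_one hk'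
    rcases (Nat.Prime.dvd_mul hq).1 (hqd.trans hdvd) with h1 | h1
    · exact h q hq h1
    · have := (Nat.prime_dvd_prime_iff_eq hq hp).1 (hq.dvd_of_dvd_pow h1)
      omega
  · intro h
    exact h.of_dvd (orderOf_map_dvd (QuotientGroup.mk' N) x)

theorem cntBig_quot [Finite X] (N : Subgroup X) [N.Normal] {p t : ℕ} (hp : p.Prime)
    (hN : IsPGroup p N) (htp : t ≤ p) :
    cntBig X t = Nat.card N * cntBig (X ⧸ N) t := by
  unfold cntBig
  rw [← card_preim N (fun y => Big t (orderOf y))]
  apply Nat.card_congr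
  exact Equiv.subtypeEquivRight (fun x => (big_orderOf_quot_iff N hp hN htp x).symm)

theorem tat_of_small [Finite X] {t : ℕ} (h : Small t (Nat.card X)) : Tat X t := by
  have hc : cntBig X t = 1 := by
    unfold cntBig
    rw [Nat.card_eq_one_iff_unique]
    constructor
    · constructor
      rintro ⟨a, ha⟩ ⟨b, hb⟩
      apply Subtype.ext
      show a = b
      have key : ∀ c : X, Big t (orderOf c) → c = 1 := by
        intro c hc
        by_contra hne
        have hne' : orderOf c ≠ 1 := fun h1 => hne (orderOf_eq_one_iff.1 h1)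
        obtain ⟨q, hq, hqd⟩ := Nat.exists_prime_and_dvd hne'
        have h1 := hc q hq hqd
        have h2 := h q hq (hqd.trans (orderOf_dvd_natCard c))
        omega
      rw [key a ha, key b hb]
    · exact ⟨⟨1, by rw [orderOf_one]; exact big_one t⟩⟩
  refine ⟨Nat.card X, ?_, ?_, h⟩
  · rw [hc, one_mul]
  · rw [hc]; exact big_one t

end quot

/-- a nontrivial finite group has a largest prime divisor of its order -/
theorem exists_largest_prime (n : ℕ) (hn : n ≠ 0) (h1 : n ≠ 1) :
    ∃ p : ℕ, p.Prime ∧ p ∣ n ∧ ∀ q : ℕ, q.Prime → q ∣ n → q ≤ p := by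
  have hne : n.primeFactors.Nonempty := by
    obtain ⟨q, hq, hqd⟩ := Nat.exists_prime_and_dvd h1
    exact ⟨q, Nat.mem_primeFactors.2 ⟨hq, hqd, hn⟩⟩
  refine ⟨n.primeFactors.max' hne, ?_, ?_, ?_⟩
  · exact (Nat.mem_primeFactors.1 (Finset.max'_mem _ hne)).1
  · exact (Nat.mem_primeFactors.1 (Finset.max'_mem _ hne)).2.1
  · intro q hq hqd
    exact Finset.le_max' _ _ (Nat.mem_primeFactors.2 ⟨hq, hqd, hn⟩)

universe u

theorem tat_of_supersolvable_aux (n : ℕ) : ∀ (G : Type u) [Group G] [Finite G],
    Nat.card G = n → IsSupersolvable G → ∀ t : ℕ, Tat G t := by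
  induction n using Nat.strong_induction_on with
  | _ n ih =>
    intro G _ _ hn hG t
    by_cases hs : Small t (Nat.card G)
    · exact tat_of_small hs
    · unfold Small at hs
      push Not at hs
      obtain ⟨q, hq, hqd, htq⟩ := hs
      have hn1 : Nat.card G ≠ 1 := by
        intro h1
        rw [h1] at hqd
        exact hq.ne_one (Nat.dvd_one.1 hqd)
      obtain ⟨p, hp, hpd, hmax⟩ := exists_largest_prime (Nat.card G) Nat.card_pos.ne' hn1
      have htp : t ≤ p := htq.trans (hmax q hq hqd)
      obtain ⟨N, hNn, hNc⟩ := Cfsg.Agent.Lib.helper4.exists_normal_largest_prime hG p hp hpd hmax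
      haveI := hNn
      have hNp : IsPGroup p N := IsPGroup.of_card (n := 1) (by rw [hNc, pow_one])
      have hcard := Subgroup.card_eq_card_quotient_mul_card_subgroup N
      rw [hNc] at hcard
      have hlt : Nat.card (G ⧸ N) < n := by
        rw [← hn, hcard]
        have : 0 < Nat.card (G ⧸ N) := Nat.card_pos
        have := hp.two_le
        nlinarith
      obtain ⟨d, h1, h2, h3⟩ := ih _ hlt (G ⧸ N) rfl
        (Cfsg.Agent.Lib.helper4.isSupersolvable_quotient N hG) t
      have hc := cntBig_quot N hp hNp htp (t := t)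
      rw [hNc] at hc
      refine ⟨d, ?_, ?_, h3⟩
      · rw [hcard, hc, h1]; ring
      · rw [hc]
        have : Big t (p ^ 1) := big_prime_pow hp htp 1
        rw [pow_one] at this
        exact this.mul h2

theorem tat_of_supersolvable {G : Type u} [Group G] [Finite G] (hG : IsSupersolvable G) (t : ℕ) :
    Tat G t :=
  tat_of_supersolvable_aux _ G rfl hG t

end Cfsg.Agent.Lib.Helper22.OrdTypeA
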