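import Mathlib
import Cfsg.Agent.Lib.Helper22.OrdTypeA

set_option autoImplicit false

namespace Cfsg.Agent.Lib.Helper22.OrdTypeB

open Cfsg Cfsg.Agent.Lib.Helper22.OrdTypeA

universe u

/-- if the tower property holds at the largest prime `p` then the Sylow `p`-subgroup is normal -/
theorem sylow_normal_of_tat {H : Type u} [Group H] [Finite H] {p : ℕ} [Fact p.Prime]
    (hpd : p ∣ Nat.card H) (hmax : ∀ q : ℕ, q.Prime → q ∣ Nat.card H → q ≤ p)
    (hT : Tat H p) (P : Sylow p H) : (P : Subgroup H).Normal := by
  have hp : p.Prime := Fact.out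
  obtain ⟨d, h1, h2, h3⟩ := hT
  set c := cntBig H p with hc
  have hc0 : c ≠ 0 := by
    intro h0
    rw [h0, zero_mul] at h1
    exact Nat.card_pos.ne' h1
  -- c is a power of p
  have hcpow : c = p ^ c.primeFactorsList.length := by
    apply Nat.eq_prime_pow_of_unique_prime_dvd hc0
    intro q hq hqd
    have hle1 : p ≤ q := h2 q hq hqd
    have hle2 : q ≤ p := hmax q hq (hqd.trans (Dvd.intro _ h1.symm))
    omega
  -- p does not divide d
  have hpd' : ¬ p ∣ d := fun h => lt_irrefl p (h3 p hp h)
  -- so c = |P|
  have hPc : Nat.card P = c := by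
    rw [Sylow.card_eq_multiplicity, h1, Nat.factorization_mul hc0 (by
      intro h0; rw [h0, mul_zero] at h1; exact Nat.card_pos.ne' h1)]
    rw [Finsupp.add_apply, Nat.factorization_eq_zero_of_not_dvd hpd', add_zero]
    conv_rhs => rw [hcpow]
    congr 1
    conv_lhs => rw [hcpow]
    rw [Nat.Prime.factorization_pow hp]
    simp
  -- the set of big elements equals P
  have hsub : (P : Set H) ⊆ {x : H | Big p (orderOf x)} := by
    intro x hx
    obtain ⟨k, hk⟩ := (IsPGroup.iff_orderOf.1 P.2) ⟨x, hx⟩
    rw [Subgroup.orderOf_mk] at hk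
    show Big p (orderOf x)
    rw [hk]
    exact big_prime_pow hp le_rfl k
  have hfin : ({x : H | Big p (orderOf x)} : Set H).Finite := Set.toFinite _
  have heq : (P : Set H) = {x : H | Big p (orderOf x)} := by
    apply Set.eq_of_subset_of_ncard_le hsub _ hfin
    rw [← Nat.card_coe_set_eq, ← Nat.card_coe_set_eq]
    show Nat.card {x : H // Big p (orderOf x)} ≤ Nat.card P
    rw [hPc, hc]
    exact le_of_eq rfl
  constructor
  intro n hn g
  have hn' : n ∈ (P : Set H) := hn
  rw [heq] at hn'
  have : g * n * g⁻¹ ∈ (P : Set H) := by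
    rw [heq]
    show Big p (orderOf (g * n * g⁻¹))
    have ho : orderOf (g * n * g⁻¹) = orderOf n := by
      have := MulEquiv.orderOf_eq (MulAut.conj g) n
      simpa [MulAut.conj_apply] using this
    rw [ho]
    exact hn'
  exact this

theorem solvable_of_tat_aux (n : ℕ) : ∀ (H : Type u) [Group H] [Finite H],
    Nat.card H = n → (∀ t : ℕ, Tat H t) → Group.IsSolvable H := by
  induction n using Nat.strong_induction_on with
  | _ n ih =>
    intro H _ _ hn hT
    by_cases h1 : Nat.card H = 1
    · haveI : Subsingleton H := (Nat.card_eq_one_iff_unique.1 h1).1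
      infer_instance
    · obtain ⟨p, hp, hpd, hmax⟩ := exists_largest_prime (Nat.card H) Nat.card_pos.ne' h1
      haveI : Fact p.Prime := ⟨hp⟩
      let P : Sylow p H := default
      haveI hPn : (P : Subgroup H).Normal := sylow_normal_of_tat hpd hmax (hT p) P
      have hcard := Subgroup.card_eq_card_quotient_mul_card_subgroup (P : Subgroup H)
      have hPgt : 1 < Nat.card (P : Subgroup H) := by
        have hdvd : p ∣ Nat.card (P : Subgroup H) := by
          rw [Sylow.card_eq_multiplicity]
          apply dvd_pow_self
          intro h0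
          have := (Nat.factorization_eq_zero_iff _ _).1 h0
          rcases this with h | h | h
          · exact h hp
          · exact h hpd
          · exact Nat.card_pos.ne' h
        have := Nat.le_of_dvd Nat.card_pos hdvd
        have := hp.two_le
        omega
      have hlt : Nat.card (H ⧸ (P : Subgroup H)) < n := by
        rw [← hn, hcard]
        have : 0 < Nat.card (H ⧸ (P : Subgroup H)) := Nat.card_pos
        nlinarith
      have hTq : ∀ t : ℕ, Tat (H ⧸ (P : Subgroup H)) t := by
        intro t
        by_cases htp : t ≤ p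
        · obtain ⟨d, h1', h2, h3⟩ := hT t
          have hc := cntBig_quot (P : Subgroup H) hp P.2 htp (t := t)
          refine ⟨d, ?_, ?_, h3⟩
          · have hpos : 0 < Nat.card (P : Subgroup H) := Nat.card_pos
            apply Nat.eq_of_mul_eq_mul_left hpos
            rw [mul_comm, ← hcard, h1', hc]; ring
          · exact h2.of_dvd (Dvd.intro_left _ hc.symm)
        · apply tat_of_small
          intro q hq hqd
          have : q ≤ p := hmax q hq (hqd.trans (Dvd.intro _ hcard.symm))
          omega
      haveI hsq : Group.IsSolvable (H ⧸ (P : Subgroup H)) := ih _ hlt _ rfl hTq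
      haveI hsP : Group.IsSolvable (P : Subgroup H) := by
        haveI : Group.IsNilpotent (P : Subgroup H) := IsPGroup.isNilpotent P.2
        infer_instance
      exact Group.isSolvable_of_ker_le_range (P : Subgroup H).subtype (QuotientGroup.mk' (P : Subgroup H))
        (by rw [QuotientGroup.ker_mk', Subgroup.range_subtype])

theorem solvable_of_tat {H : Type u} [Group H] [Finite H] (hT : ∀ t : ℕ, Tat H t) : Group.IsSolvable H :=
  solvable_of_tat_aux _ H rfl hT

end Cfsg.Agent.Lib.Helper22.OrdTypeB
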