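import Mathlib
import Cfsg.Agent.Lib.Helper24.P2P.Defs
import Cfsg.Agent.Lib.Helper22.P2PCEN
import Cfsg.Agent.Lib.helper8.CountOrder

/-!
# Project P2P, piece COUNT : `2p · #{g : p ∣ o(g)} = (p - 1) |G|` (helper22)
-/

set_option autoImplicit false
set_option linter.unusedVariables false
set_option linter.unusedSectionVars false
set_option linter.style.haveILetI false
open scoped ComplexConjugate
open Classical

namespace Cfsg.Agent.Lib.Helper24.P2P

open MulAction Cfsg.Agent.Lib.helper6.PermChar Cfsg.Agent.Lib.Lead.W2P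

universe u v

section setting

variable {G : Type u} [Group G] [Fintype G] {Ω : Type v} [Fintype Ω] [DecidableEq Ω] [MulAction G Ω]
  {p : ℕ} [Fact p.Prime] {P : Sylow p G}

/-- the setting passes to every Sylow `p`-subgroup -/
theorem p2pcount_setting (h : Setting2 G Ω p P) (Q : Sylow p G) : Setting2 G Ω p Q := by
  have hp : p.Prime := Fact.out
  have hQP : Nat.card (Q : Subgroup G) = Nat.card (P : Subgroup G) := by
    rw [Sylow.card_eq_multiplicity, Sylow.card_eq_multiplicity]
  refine ⟨⟨h.S.prim, h.S.faithful, h.S.card, h.S.odd, h.S.not2, h.S.fpf, hQP.trans h.S.cardP⟩, h.big, ?_⟩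
  have h1 := (Subgroup.normalizer ((P : Subgroup G) : Set G)).card_mul_index
  have h2 := (Subgroup.normalizer ((Q : Subgroup G) : Set G)).card_mul_index
  have hiP : Nat.card (Sylow p G) = (Subgroup.normalizer ((P : Subgroup G) : Set G)).index :=
    Sylow.card_eq_index_normalizer P
  have hiQ : Nat.card (Sylow p G) = (Subgroup.normalizer ((Q : Subgroup G) : Set G)).index :=
    Sylow.card_eq_index_normalizer Q
  rw [← hiP] at h1
  rw [← hiQ] at h2
  have hpos : 0 < Nat.card (Sylow p G) := Nat.card_pos
  have h3 : Nat.card ↥(Subgroup.normalizer ((Q : Subgroup G) : Set G)) * Nat.card (Sylow p G)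
      = Nat.card ↥(Subgroup.normalizer ((P : Subgroup G) : Set G)) * Nat.card (Sylow p G) := by
    rw [h1, h2]
  have h4 := Nat.eq_of_mul_eq_mul_right hpos h3
  rw [h4, h.nrm]

/-- every `p`-singular element has order `p` -/
theorem p2pcount_psing (h : Setting2 G Ω p P) (g : G) (hg : p ∣ orderOf g) : orderOf g = p := by
  have hp : p.Prime := Fact.out
  have ho : orderOf g ≠ 0 := (orderOf_pos g).ne'
  set y : G := g ^ (orderOf g / p) with hy
  have hoy : orderOf y = p := orderOf_pow_orderOf_div ho hg
  have hcz : Nat.card ↥(Subgroup.zpowers y) = p := by rw [Nat.card_zpowers, hoy]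
  have hpg : IsPGroup p ↥(Subgroup.zpowers y) := IsPGroup.of_card (n := 1) (by rw [hcz, pow_one])
  obtain ⟨Q, hQ⟩ := hpg.exists_le_sylow
  have hS := p2pcount_setting h Q
  have hzQ : Subgroup.zpowers y = (Q : Subgroup G) := by
    apply Subgroup.eq_of_le_of_card_ge hQ
    rw [hcz, hS.S.cardP]
  have hgc : g ∈ Subgroup.centralizer ((Q : Subgroup G) : Set G) := by
    rw [← hzQ, Subgroup.mem_centralizer_iff]
    intro z hz
    rw [SetLike.mem_coe, Subgroup.mem_zpowers_iff] at hz
    obtain ⟨k, rfl⟩ := hz
    have hc : Commute g y := (Commute.refl g).pow_right _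
    exact ((hc.zpow_right k).eq).symm
  rw [cen_eq hS] at hgc
  have hd : orderOf g ∣ p := by
    have := Subgroup.orderOf_dvd_natCard _ hgc
    rwa [hS.S.cardP] at this
  exact Nat.dvd_antisymm hd hg

theorem card_psing (h : Setting2 G Ω p P) :
    2 * p * Nat.card {g : G // p ∣ orderOf g} = (p - 1) * Nat.card G := by
  have hp : p.Prime := Fact.out
  have hcong : Nat.card {g : G // p ∣ orderOf g} = Nat.card {g : G // orderOf g = p} := by
    apply Nat.card_congr
    exact Equiv.subtypeEquivRight (fun g => ⟨fun hg => p2pcount_psing h g hg, fun hg => hg ▸ dvd_rfl⟩)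
  have hm : Nat.card G = p * (P : Subgroup G).index := by
    have := (P : Subgroup G).card_mul_index
    rw [h.S.cardP] at this
    exact this.symm
  have hpm : ¬ p ∣ (P : Subgroup G).index := Sylow.not_dvd_index P
  have h1 := (Subgroup.normalizer ((P : Subgroup G) : Set G)).card_mul_index
  have hiP : Nat.card (Sylow p G) = (Subgroup.normalizer ((P : Subgroup G) : Set G)).index :=
    Sylow.card_eq_index_normalizer P
  rw [← hiP, h.nrm] at h1
  rw [hcong, Cfsg.Agent.Lib.helper8.h8_card_orderOf_eq_prime p _ hm hpm, ← h1]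
  ring

end setting

end Cfsg.Agent.Lib.Helper24.P2P
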