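import Mathlib
import Cfsg.Agent.Lib.helper23.P4S.DefsC

set_option autoImplicit false

/-!
# Project P4C (S3466), row AFF1 (helper22): `aff_spec`, verbatim from `helper23/P4S/SkelC.lean.txt`.
-/

namespace Cfsg.Agent.Lib.helper23.P4S

open Matrix
open scoped Kronecker

/-- `toLin'` commutes with powers -/
theorem p4caff1_toLin_pow {E : Type*} [Field E] {ι : Type*} [Fintype ι] [DecidableEq ι]
    (M : Matrix ι ι E) (i : ℕ) : (Matrix.toLin' M) ^ i = Matrix.toLin' (M ^ i) := by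
  induction i with
  | zero => rw [pow_zero, pow_zero, Matrix.toLin'_one]; rfl
  | succ i ih => rw [pow_succ, pow_succ, ih, Matrix.toLin'_mul]; rfl

/-- the dictionary: helper28's `geo` for `hlin H` is `toLin'` of `gsum` -/
theorem p4caff1_geo {E : Type*} [Field E] {ι : Type*} [Fintype ι] [DecidableEq ι]
    (H : Subgroup (GL ι E)) (g : ↥H) (k : ℕ) :
    Cfsg.Agent.Lib.Helper28.O9AFF.geo (hlin H) g k = Matrix.toLin' (gsum ((g : GL ι E) : Matrix ι ι E) k) := by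
  unfold Cfsg.Agent.Lib.Helper28.O9AFF.geo gsum
  rw [map_sum]
  refine Finset.sum_congr rfl (fun i _ => ?_)
  rw [← p4caff1_toLin_pow]
  rfl

theorem p4caff1_geo_ne {E : Type*} [Field E] {ι : Type*} [Fintype ι] [DecidableEq ι]
    (H : Subgroup (GL ι E)) (g : ↥H) (k : ℕ) :
    Cfsg.Agent.Lib.Helper28.O9AFF.geo (hlin H) g k ≠ 0 ↔ gsum ((g : GL ι E) : Matrix ι ι E) k ≠ 0 := by
  rw [p4caff1_geo, Ne, Ne, LinearEquiv.map_eq_zero_iff]

/-- AFF1 -/
theorem aff_spec {E : Type} [Field E] {ι : Type} [Fintype ι] [DecidableEq ι] (p : ℕ) [Fact p.Prime] [CharP E p]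
    (H : Subgroup (GL ι E)) [Finite H] (m : ℕ) :
    m ∈ Set.range (orderOf : Aff H → ℕ) ↔
      (∃ g ∈ H, orderOf g = m) ∨
        (∃ g ∈ H, p * orderOf g = m ∧ gsum (g : Matrix ι ι E) (orderOf g) ≠ 0) := by
  rw [Cfsg.Agent.Lib.Helper28.O9AFF.o9aff_range p (hlin H) m]
  constructor
  · rintro (⟨g, hg⟩ | ⟨g, hg, hne⟩)
    · exact Or.inl ⟨g.1, g.2, by rw [← hg, Subgroup.orderOf_coe]⟩
    · refine Or.inr ⟨g.1, g.2, by rw [← hg, Subgroup.orderOf_coe], ?_⟩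
      rw [Subgroup.orderOf_coe]
      exact (p4caff1_geo_ne H g _).1 hne
  · rintro (⟨g, hgH, hg⟩ | ⟨g, hgH, hg, hne⟩)
    · exact Or.inl ⟨⟨g, hgH⟩, by rw [← hg, ← Subgroup.orderOf_coe]⟩
    · refine Or.inr ⟨⟨g, hgH⟩, by rw [← hg, ← Subgroup.orderOf_coe], ?_⟩
      rw [p4caff1_geo_ne, ← Subgroup.orderOf_coe]
      exact hne

end Cfsg.Agent.Lib.helper23.P4S
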