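import Mathlib
import Cfsg.Agent.Lib.helper23.P4S.DefsC

set_option autoImplicit false

/-!
# Project P4C (S3466), row AFF2 (helper22): `aff_normal`, verbatim from `helper23/P4S/SkelC.lean.txt`.
-/

namespace Cfsg.Agent.Lib.helper23.P4S

open Matrix
open scoped Kronecker

/-- generic: the kernel of `rightHom` of `N ⋊ G` with `N` commutative and nontrivial -/
theorem p4caff2_core {N G : Type*} [CommGroup N] [Group G] (φ : G →* MulAut N) (a : N) (ha : a ≠ 1) :
    ∃ K : Subgroup (N ⋊[φ] G), K.Normal ∧ K ≠ ⊥ ∧ Group.IsSolvable K := by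
  refine ⟨(SemidirectProduct.rightHom (N := N) (G := G) (φ := φ)).ker, inferInstance, ?_, ?_⟩
  · intro hbot
    have hmem : (SemidirectProduct.inl a : N ⋊[φ] G) ∈ (SemidirectProduct.rightHom (N := N) (G := G) (φ := φ)).ker := by
      rw [MonoidHom.mem_ker, SemidirectProduct.rightHom_inl]
    rw [hbot, Subgroup.mem_bot] at hmem
    apply ha
    apply SemidirectProduct.inl_injective (φ := φ)
    rw [hmem, map_one]
  · rw [← SemidirectProduct.range_inl_eq_ker_rightHom]
    refine Group.isSolvable_of_comm ?_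
    rintro ⟨x, ⟨a, rfl⟩⟩ ⟨y, ⟨b, rfl⟩⟩
    apply Subtype.ext
    show SemidirectProduct.inl a * SemidirectProduct.inl b = SemidirectProduct.inl b * SemidirectProduct.inl a
    rw [← map_mul, ← map_mul, mul_comm]

/-- AFF2 -/
theorem aff_normal {E : Type} [Field E] {ι : Type} [Fintype ι] [DecidableEq ι] [Nonempty ι]
    (H : Subgroup (GL ι E)) :
    ∃ K : Subgroup (Aff H), K.Normal ∧ K ≠ ⊥ ∧ Group.IsSolvable K := by
  obtain ⟨i⟩ := ‹Nonempty ι›
  refine p4caff2_core _ (Multiplicative.ofAdd (Pi.single i (1 : E))) ?_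
  intro h
  have := congrArg Multiplicative.toAdd h
  simp at this

end Cfsg.Agent.Lib.helper23.P4S
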