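import Mathlib
import Cfsg.Agent.Lib.helper23.P4S.DefsC
import Cfsg.Agent.Lib.Helper22.P4CSL7

set_option autoImplicit false

/-!
# Project P4C (S3466), row OUT6 (helper22): `exists_outer_minus`, verbatim from `helper23/P4S/SkelC.lean.txt`.
-/

namespace Cfsg.Agent.Lib.helper23.P4S

open Matrix
open scoped Kronecker

/-- `SL₂`-map of a ring endomorphism on the split torus -/
theorem p4cout6_map_D {E : Type*} [Field E] (φ : E →+* E) (u : Eˣ) :
    Matrix.SpecialLinearGroup.map φ (p4csl7_D u) = p4csl7_D (Units.map (φ : E →* E) u) := by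
  apply Subtype.ext
  rw [Matrix.SpecialLinearGroup.map_apply_coe, p4csl7_D_coe, p4csl7_D_coe, RingHom.mapMatrix_apply,
    Matrix.diagonal_map (map_zero φ)]
  congr 1
  funext i
  fin_cases i
  · rfl
  · show φ ((u⁻¹ : Eˣ) : E) = (((Units.map (φ : E →* E) u)⁻¹ : Eˣ) : E)
    rw [← map_inv]
    rfl

theorem p4cout6_map_frq {E : Type*} [Field E] (p : ℕ) [Fact p.Prime] [CharP E p] (n : ℕ) (u : Eˣ) :
    Units.map ((frq E p n : E →+* E) : E →* E) u = u ^ (p ^ n) := by
  apply Units.ext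
  rw [Units.coe_map, Units.val_pow_eq_pow_val]
  exact frq_apply E p n (u : E)

/-- the product `A * A^φ` for `A = diag(a, a⁻¹)` -/
theorem p4cout6_prod {E : Type*} [Field E] (p : ℕ) [Fact p.Prime] [CharP E p] (n : ℕ) (a : Eˣ) :
    p4csl7_D a * Matrix.SpecialLinearGroup.map (frq E p n) (p4csl7_D a) = p4csl7_D (a ^ (p ^ n + 1)) := by
  rw [p4cout6_map_D, p4cout6_map_frq, ← p4csl7_D_mul, pow_succ']

/-- OUT6 -/
theorem exists_outer_minus {E : Type} [Field E] [Fintype E] (p : ℕ) [Fact p.Prime] [CharP E p] (hp : 5 ≤ p) (n : ℕ) (hn : 1 ≤ n)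
    (hE : Fintype.card E = p ^ (2 * n)) :
    ∃ A : Matrix.SpecialLinearGroup (Fin 2) E,
      orderOf (A * Matrix.SpecialLinearGroup.map (frq E p n) A) = p ^ n - 1 ∧
        (A * Matrix.SpecialLinearGroup.map (frq E p n) A).1.trace ^ 2 ≠ 4 := by
  set q := p ^ n with hq
  have hq5 : 5 ≤ q := by
    calc 5 ≤ p := hp
      _ = p ^ 1 := (pow_one p).symm
      _ ≤ p ^ n := Nat.pow_le_pow_right (by omega) hn
  have hcard : Fintype.card E - 1 = q ^ 2 - 1 := by
    rw [hE, mul_comm 2 n, pow_mul]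
  obtain ⟨a, ha⟩ := p4csl7_exists_unit (E := E) (q ^ 2 - 1) (by rw [hcard])
  have hfac : q ^ 2 - 1 = (q - 1) * (q + 1) := by
    obtain ⟨k, hk⟩ : ∃ k, q = k + 1 := ⟨q - 1, by omega⟩
    rw [hk]
    simp only [Nat.add_sub_cancel]
    have : (k + 1) ^ 2 = k * (k + 1 + 1) + 1 := by ring
    rw [this, Nat.add_sub_cancel]
  have hord : orderOf (a ^ (q + 1)) = q - 1 := by
    rw [orderOf_pow_of_dvd (by omega) (by rw [ha, hfac]; exact Dvd.intro_left _ rfl), ha, hfac]
    exact Nat.mul_div_cancel _ (by omega)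
  refine ⟨p4csl7_D a, ?_, ?_⟩
  · rw [p4cout6_prod, p4csl7_orderOf_D, hord]
  · rw [p4cout6_prod]
    apply p4csl7_trace_ne
    rw [hord]
    intro h
    have := Nat.le_of_dvd (by omega) h
    omega

end Cfsg.Agent.Lib.helper23.P4S
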