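import Mathlib
import Cfsg.Prelude.Def_Classical
import Cfsg.Agent.Lib.helper23.P4S.Defs
import Cfsg.Agent.S0246

set_option autoImplicit false

/-!
# Project P4S (S3466), row L1 (helper22): `psp_of_sp`, verbatim from `helper23/P4S/SkelS.lean.txt`.
-/

namespace Cfsg.Agent.Lib.helper23.P4S

open Matrix Polynomial

/-- general rank: the image of `x` in `PSp` has order `o` with `o ∣ M ∣ 2 o` -/
theorem p4sl1_mk_order {F : Type*} [Field F] (n : ℕ) (hn : 1 ≤ n) (x : Matrix.symplecticGroup (Fin n) F) :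
    orderOf (QuotientGroup.mk x : Cfsg.PSp n F) ∣ orderOf x ∧
      orderOf x ∣ 2 * orderOf (QuotientGroup.mk x : Cfsg.PSp n F) := by
  obtain ⟨o, ho⟩ : ∃ o, o = orderOf (QuotientGroup.mk x : Cfsg.PSp n F) := ⟨_, rfl⟩
  rw [← ho]
  have hodvd : o ∣ orderOf x := by
    rw [ho]
    apply orderOf_dvd_of_pow_eq_one
    rw [← QuotientGroup.mk_pow, pow_orderOf_eq_one, QuotientGroup.mk_one]
  have hmem : x ^ o ∈ Subgroup.center (Matrix.symplecticGroup (Fin n) F) := by
    rw [← QuotientGroup.eq_one_iff, QuotientGroup.mk_pow, ho]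
    exact pow_orderOf_eq_one _
  have hsq : (x ^ o) ^ 2 = 1 := by
    rcases Cfsg.Agent.S0246.center_cases hn _ hmem with h | h
    · rw [h, one_pow]
    · rw [h]
      apply Subtype.ext
      show (Cfsg.Agent.S0246.negOne F n : Matrix (Fin n ⊕ Fin n) (Fin n ⊕ Fin n) F) ^ 2 = 1
      rw [Cfsg.Agent.S0246.negOne_coe, neg_sq, one_pow]
  rw [← pow_mul, mul_comm] at hsq
  exact ⟨hodvd, orderOf_dvd_of_pow_eq_one hsq⟩

/-- general rank version of L1 -/
theorem p4sl1_gen {F : Type*} [Field F] (n : ℕ) (hn : 1 ≤ n) (x : Matrix.symplecticGroup (Fin n) F) (M : ℕ)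
    (hM : 0 < M) (hx : orderOf x = M) : ∃ y : Cfsg.PSp n F, orderOf y = M / Nat.gcd M 2 := by
  obtain ⟨h1, h2⟩ := p4sl1_mk_order n hn x
  rw [hx] at h1 h2
  set y0 : Cfsg.PSp n F := QuotientGroup.mk x with hy0
  set o := orderOf y0 with ho
  have hopos : 0 < o := Nat.pos_of_dvd_of_pos h1 hM
  rcases Nat.even_or_odd M with hev | hodd
  · obtain ⟨k, hk⟩ := hev
    have hk2 : M = 2 * k := by omega
    have hg : Nat.gcd M 2 = 2 := by
      rw [hk2]
      exact Nat.gcd_eq_right (Dvd.intro _ rfl)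
    have hkpos : 0 < k := by omega
    have hko : k ∣ o := by
      rw [hk2] at h2
      exact (Nat.mul_dvd_mul_iff_left (by norm_num)).1 h2
    refine ⟨y0 ^ (o / k), ?_⟩
    have hdiv : o / k ∣ o := Nat.div_dvd_of_dvd hko
    have hne : o / k ≠ 0 := by
      have := Nat.div_pos (Nat.le_of_dvd hopos hko) hkpos
      omega
    rw [orderOf_pow_of_dvd hne (by rw [← ho]; exact hdiv), ← ho, hg, hk2,
      Nat.mul_div_cancel_left _ (by norm_num), Nat.div_div_self hko hopos.ne']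
  · have hg : Nat.gcd M 2 = 1 := Nat.Coprime.symm (Nat.coprime_two_left.2 hodd)
    have hcop : Nat.Coprime M 2 := hg
    refine ⟨y0, ?_⟩
    rw [hg, Nat.div_one, ← ho]
    exact Nat.dvd_antisymm h1 (hcop.dvd_of_dvd_mul_left h2)

/-- L1 -/
theorem psp_of_sp {F : Type*} [Field F] (x : Matrix.symplecticGroup (Fin 2) F) (M : ℕ) (hM : 0 < M)
    (hx : orderOf x = M) : ∃ y : Cfsg.PSp 2 F, orderOf y = M / Nat.gcd M 2 :=
  p4sl1_gen 2 (by norm_num) x M hM hx

end Cfsg.Agent.Lib.helper23.P4S
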