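import Mathlib
import Cfsg.Prelude.Def_Classical
import Cfsg.Agent.Lib.helper23.P4S.Defs
import Cfsg.Agent.S0246
import Cfsg.Agent.S2469
import Cfsg.Agent.Lib.Helper22.P4SL1

set_option autoImplicit false

/-!
# Project P4S (S3466), row L2 (helper22): `exists_torus`, verbatim from `helper23/P4S/SkelS.lean.txt`.
-/

namespace Cfsg.Agent.Lib.helper23.P4S

open Matrix Polynomial

/-- `gcd (q² + 1) 2 = gcd 2 (q - 1)` for `q ≥ 1` -/
theorem p4sl2_gcd_plus (q : ℕ) (hq : 1 ≤ q) : Nat.gcd (q ^ 2 + 1) 2 = Nat.gcd 2 (q - 1) := by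
  rcases Nat.even_or_odd q with ⟨k, hk⟩ | ⟨k, hk⟩
  · have h1 : q ^ 2 + 1 = 2 * (2 * k * k) + 1 := by rw [hk]; ring
    have h2 : q - 1 = 2 * (k - 1) + 1 := by omega
    have e1 : Nat.gcd (2 * (2 * k * k) + 1) 2 = 1 := Nat.Coprime.symm (Nat.coprime_two_left.2 ⟨_, rfl⟩)
    have e2 : Nat.gcd 2 (2 * (k - 1) + 1) = 1 := Nat.coprime_two_left.2 ⟨_, rfl⟩
    rw [h1, h2, e1, e2]
  · have h1 : q ^ 2 + 1 = 2 * (2 * k * k + 2 * k + 1) := by rw [hk]; ring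
    have h2 : q - 1 = 2 * k := by omega
    rw [h1, h2, Nat.gcd_eq_right (Dvd.intro _ rfl), Nat.gcd_eq_left (Dvd.intro _ rfl)]

/-- `gcd (q² - 1) 2 = gcd 2 (q - 1)` for `q ≥ 1` -/
theorem p4sl2_gcd_minus (q : ℕ) (hq : 1 ≤ q) : Nat.gcd (q ^ 2 - 1) 2 = Nat.gcd 2 (q - 1) := by
  rcases Nat.even_or_odd q with ⟨k, hk⟩ | ⟨k, hk⟩
  · have hk1 : 1 ≤ k := by omega
    obtain ⟨j, rfl⟩ : ∃ j, k = j + 1 := ⟨k - 1, by omega⟩
    have h1 : q ^ 2 - 1 = 2 * (2 * j * j + 4 * j + 1) + 1 := by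
      have : q ^ 2 = 2 * (2 * j * j + 4 * j + 1) + 1 + 1 := by rw [hk]; ring
      omega
    have h2 : q - 1 = 2 * j + 1 := by omega
    have e1 : Nat.gcd (2 * (2 * j * j + 4 * j + 1) + 1) 2 = 1 :=
      Nat.Coprime.symm (Nat.coprime_two_left.2 ⟨_, rfl⟩)
    have e2 : Nat.gcd 2 (2 * j + 1) = 1 := Nat.coprime_two_left.2 ⟨_, rfl⟩
    rw [h1, h2, e1, e2]
  · have h1 : q ^ 2 - 1 = 2 * (2 * k * k + 2 * k) := by
      have : q ^ 2 = 2 * (2 * k * k + 2 * k) + 1 := by rw [hk]; ring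
      omega
    have h2 : q - 1 = 2 * k := by omega
    rw [h1, h2, Nat.gcd_eq_right (Dvd.intro _ rfl), Nat.gcd_eq_left (Dvd.intro _ rfl)]

/-- L2 -/
theorem exists_torus {F : Type*} [Field F] [Fintype F] :
    (∃ y : Cfsg.PSp 2 F, orderOf y = (Fintype.card F ^ 2 + 1) / Nat.gcd 2 (Fintype.card F - 1)) ∧
      (∃ y : Cfsg.PSp 2 F, orderOf y = (Fintype.card F ^ 2 - 1) / Nat.gcd 2 (Fintype.card F - 1)) := by
  have hq : 1 < Fintype.card F := Fintype.one_lt_card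
  constructor
  · obtain ⟨x, hx⟩ := Cfsg.Agent.S2469.exists_cyc_sp_even (F := F) 2 2 (Fintype.card F ^ 2 + 1) (by norm_num)
      le_rfl (dvd_refl _)
    obtain ⟨y, hy⟩ := psp_of_sp x _ (by omega) hx
    exact ⟨y, by rw [hy, p4sl2_gcd_plus _ hq.le]⟩
  · obtain ⟨x, hx⟩ := Cfsg.Agent.S2469.exists_cyc_sp_odd (F := F) 2 2 (Fintype.card F ^ 2 - 1) (by norm_num)
      le_rfl (dvd_refl _)
    have hpos : 0 < Fintype.card F ^ 2 - 1 := by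
      have : 2 ^ 2 ≤ Fintype.card F ^ 2 := Nat.pow_le_pow_left hq 2
      omega
    obtain ⟨y, hy⟩ := psp_of_sp x _ hpos hx
    exact ⟨y, by rw [hy, p4sl2_gcd_minus _ hq.le]⟩

end Cfsg.Agent.Lib.helper23.P4S
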