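import Mathlib
import Cfsg.Prelude.Def_Classical
import Cfsg.Agent.Lib.helper23.P4V.Defs

/-!
# Project P4V (helper23, S2460), row C1 (`gauss_dec`), verbatim.
-/

set_option autoImplicit false

namespace Cfsg.Agent.Lib.helper23.P4V

open Matrix

universe u

section Field

variable {F : Type u} [Field F]

/-- the block relations of a symplectic matrix used in the Gauss decomposition. -/
theorem p4vc1_rel (a b c d : M2 F)
    (hmem : (Matrix.fromBlocks a b c d : M4 F) ∈ Matrix.symplecticGroup (Fin 2) F) :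
    b * aᵀ = a * bᵀ ∧ aᵀ * c = cᵀ * a ∧ aᵀ * d - cᵀ * b = 1 := by
  have h1 := SymplecticGroup.mem_iff.mp hmem
  have h2 := SymplecticGroup.mem_iff'.mp hmem
  rw [Matrix.J, Matrix.fromBlocks_transpose, Matrix.fromBlocks_multiply,
    Matrix.fromBlocks_multiply, Matrix.fromBlocks_inj] at h1 h2
  simp only [Matrix.mul_zero, Matrix.mul_one, Matrix.mul_neg, zero_add, add_zero,
    Matrix.neg_mul] at h1 h2
  obtain ⟨e1, -, -, -⟩ := h1
  obtain ⟨f1, f2, -, -⟩ := h2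
  refine ⟨?_, ?_, ?_⟩
  · have : b * aᵀ - a * bᵀ = 0 := by rw [← e1]; abel
    exact sub_eq_zero.mp this
  · have : cᵀ * a - aᵀ * c = 0 := by rw [← f1]; abel
    exact (sub_eq_zero.mp this).symm
  · have : -(aᵀ * d - cᵀ * b) = -1 := by rw [← f2]; abel
    exact neg_injective this

/-- **C1** [H].  `g = fromBlocks a b c d`; `s = c a⁻¹`, `t = a⁻¹ b`.  From `g J gᵀ = J`: `a bᵀ = b aᵀ`;
from `gᵀ J g = J` (`SymplecticGroup.mem_iff'`): `aᵀ c = cᵀ a`, `aᵀ d - cᵀ b = 1`; so `s, t` are symmetric and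
`d = a⁻ᵀ + s b`. -/
theorem gauss_dec (g : Sp4 F) (ha : (g : M4 F).toBlocks₁₁.det ≠ 0) :
    ∃ (s t : M2 F) (hs : sᵀ = s) (ht : tᵀ = t),
      g = qmS s hs * lvS (g : M4 F).toBlocks₁₁ ha * qpS t ht := by
  set a : M2 F := (g : M4 F).toBlocks₁₁ with ha_def
  set b : M2 F := (g : M4 F).toBlocks₁₂ with hb_def
  set c : M2 F := (g : M4 F).toBlocks₂₁ with hc_def
  set d : M2 F := (g : M4 F).toBlocks₂₂ with hd_def
  have hg : (g : M4 F) = Matrix.fromBlocks a b c d := (Matrix.fromBlocks_toBlocks _).symm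
  have hmem : (Matrix.fromBlocks a b c d : M4 F) ∈ Matrix.symplecticGroup (Fin 2) F := by
    rw [← hg]; exact g.2
  obtain ⟨r1, r2, r3⟩ := p4vc1_rel a b c d hmem
  have hu : IsUnit a.det := isUnit_iff_ne_zero.mpr ha
  have ia : a * a⁻¹ = 1 := Matrix.mul_nonsing_inv a hu
  have ia' : a⁻¹ * a = 1 := Matrix.nonsing_inv_mul a hu
  have iat : (a⁻¹)ᵀ * aᵀ = 1 := by rw [← Matrix.transpose_mul, ia, Matrix.transpose_one]
  have iat' : aᵀ * (a⁻¹)ᵀ = 1 := by rw [← Matrix.transpose_mul, ia', Matrix.transpose_one]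
  have hs : (c * a⁻¹)ᵀ = c * a⁻¹ := by
    rw [Matrix.transpose_mul]
    calc (a⁻¹)ᵀ * cᵀ = (a⁻¹)ᵀ * (cᵀ * a) * a⁻¹ := by
          rw [Matrix.mul_assoc, Matrix.mul_assoc, ia, Matrix.mul_one]
      _ = (a⁻¹)ᵀ * (aᵀ * c) * a⁻¹ := by rw [r2]
      _ = c * a⁻¹ := by rw [← Matrix.mul_assoc (a⁻¹)ᵀ, iat, Matrix.one_mul]
  have ht : (a⁻¹ * b)ᵀ = a⁻¹ * b := by
    rw [Matrix.transpose_mul]
    calc bᵀ * (a⁻¹)ᵀ = a⁻¹ * (a * bᵀ) * (a⁻¹)ᵀ := by
          rw [← Matrix.mul_assoc a⁻¹, ia', Matrix.one_mul]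
      _ = a⁻¹ * (b * aᵀ) * (a⁻¹)ᵀ := by rw [r1]
      _ = a⁻¹ * b := by
          rw [Matrix.mul_assoc, Matrix.mul_assoc, iat', Matrix.mul_one]
  have hd : d = c * a⁻¹ * a * (a⁻¹ * b) + (a⁻¹)ᵀ := by
    have e1 : aᵀ * d = 1 + cᵀ * b := by rw [← r3]; abel
    have e2 : d = (a⁻¹)ᵀ * (aᵀ * d) := by rw [← Matrix.mul_assoc, iat, Matrix.one_mul]
    rw [e2, e1, Matrix.mul_add, Matrix.mul_one, ← Matrix.mul_assoc (a⁻¹)ᵀ, ← Matrix.transpose_mul,
      hs, Matrix.mul_assoc (c * a⁻¹) a, ← Matrix.mul_assoc a, ia, Matrix.one_mul, add_comm]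
  refine ⟨c * a⁻¹, a⁻¹ * b, hs, ht, ?_⟩
  apply Subtype.ext
  rw [Submonoid.coe_mul, Submonoid.coe_mul, qmS_coe, lvS_coe, qpS_coe, hg]
  unfold qmM lvM qpM
  rw [Matrix.fromBlocks_multiply, Matrix.fromBlocks_multiply]
  simp only [Matrix.mul_zero, Matrix.zero_mul, Matrix.mul_one, Matrix.one_mul, add_zero, zero_add,
    Matrix.toBlocks_fromBlocks₁₁]
  congr 1
  · rw [← Matrix.mul_assoc, ia, Matrix.one_mul]
  · rw [Matrix.mul_assoc, ia', Matrix.mul_one]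

end Field

end Cfsg.Agent.Lib.helper23.P4V
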