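import Mathlib
import Cfsg.Prelude.Def_Classical
import Cfsg.Agent.Lib.helper23.P4V.Defs

/-!
# Project P4V (helper23, S2460), row C2 (`lvS_mul`, `lvS_conj`), verbatim.
-/

set_option autoImplicit false

namespace Cfsg.Agent.Lib.helper23.P4V

open Matrix

universe u

section Field

variable {F : Type u} [Field F]

theorem p4vc2_lvM_mul (A B : M2 F) : lvM A * lvM B = lvM (A * B) := by
  unfold lvM
  rw [Matrix.fromBlocks_multiply]
  simp only [Matrix.mul_zero, Matrix.zero_mul, add_zero, zero_add]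
  rw [Matrix.mul_inv_rev, Matrix.transpose_mul]

theorem p4vc2_lvM_one : lvM (1 : M2 F) = 1 := by
  unfold lvM
  rw [inv_one, Matrix.transpose_one, Matrix.fromBlocks_one]

/-- **C2** (both; `fromBlocks_multiply`, `Matrix.mul_inv_rev`, `Matrix.transpose_mul`). -/
theorem lvS_mul (A B : M2 F) (hA : A.det ≠ 0) (hB : B.det ≠ 0) (hAB : (A * B).det ≠ 0) :
    lvS A hA * lvS B hB = lvS (A * B) hAB := by
  apply Subtype.ext
  rw [Submonoid.coe_mul, lvS_coe, lvS_coe, lvS_coe]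
  exact p4vc2_lvM_mul A B

theorem p4vc2_lvS_inv (P : M2 F) (hP : P.det ≠ 0) (hP' : (P⁻¹).det ≠ 0) :
    (lvS P hP)⁻¹ = lvS P⁻¹ hP' := by
  apply inv_eq_of_mul_eq_one_right
  apply Subtype.ext
  rw [Submonoid.coe_mul, lvS_coe, lvS_coe, p4vc2_lvM_mul,
    Matrix.mul_nonsing_inv P (isUnit_iff_ne_zero.mpr hP), p4vc2_lvM_one]
  rfl

theorem lvS_conj (P A : M2 F) (hP : P.det ≠ 0) (hA : A.det ≠ 0) (hPA : (P * A * P⁻¹).det ≠ 0) :
    lvS P hP * lvS A hA * (lvS P hP)⁻¹ = lvS (P * A * P⁻¹) hPA := by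
  have hP' : (P⁻¹).det ≠ 0 := by
    intro h
    apply hPA
    rw [Matrix.det_mul, h, mul_zero]
  have hPA' : (P * A).det ≠ 0 := by
    rw [Matrix.det_mul]
    exact mul_ne_zero hP hA
  rw [p4vc2_lvS_inv P hP hP', lvS_mul P A hP hA hPA', lvS_mul (P * A) P⁻¹ hPA' hP' hPA]

end Field

end Cfsg.Agent.Lib.helper23.P4V
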