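import Cfsg.Agent.Lib.Helper1.PLK.Defs
import Cfsg.Agent.Lib.Helper22.PLKC2core
import Cfsg.Agent.Lib.Helper1.PLKMAIN0
import Cfsg.Agent.Lib.Helper24.PLKT5

/-!
# Project PLK (S2480), row C2 (`fix_ncard_le_ubd`), verbatim.
-/

set_option autoImplicit false

namespace Cfsg.Agent.Lib.Helper1.PLK

open Polynomial
open Cfsg.Agent.Lib.Helper29.GLK
open Cfsg.Agent.Lib.Helper1.SLK

universe u

theorem fix_ncard_le_ubd {F : Type u} [Field F] [Fintype F] (n : ℕ) (hn : 1 ≤ n)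
    (z : Matrix.SpecialLinearGroup (Fin n) F)
    (hz : z ∈ Subgroup.center (Matrix.SpecialLinearGroup (Fin n) F)) (ζ : Fˣ) (hζn : ζ ^ n = 1)
    (hζ : (z : Matrix (Fin n) (Fin n) F) = (ζ : F) • (1 : Matrix (Fin n) (Fin n) F)) :
    (czFix z).ncard ≤ ubd F (n / orderOf ζ) :=
  plkc2_core n hn (fun z hz ζ hζ => fix_ncard_le n z hz ζ hζ)
    (fun m hm hmn => sum_tupTw_le n m hm hmn) z hz ζ hζn hζ

end Cfsg.Agent.Lib.Helper1.PLK
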