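import Mathlib
import Cfsg.Agent.Lib.helper7.REE.Defs
import Cfsg.Agent.Lib.Helper22.REEG7Ecore
import Cfsg.Agent.Lib.Helper1.REEG6
import Cfsg.Agent.Lib.Helper10.REEG7B
import Cfsg.Agent.Lib.Helper5.REEG7Dcore
import Cfsg.Agent.Lib.Helper29.REEARA

/-!
# Project REE, row G7E (helper22): `ReeAx.tor_count`, verbatim from `helper7/REE/Skel2.lean.txt`
(= `reeg7e_core` applied to G7A `tor_pi`, G7B `tor_cyclic`, G7D through helper5's `tor_hall_core`).
-/

set_option autoImplicit false

namespace Cfsg.Agent.Lib.helper7.REE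

open Matrix Cfsg.Agent.Lib.helper8

universe u v

namespace ReeAx

variable {G : Type u} [Group G] [Finite G] {K : Type v} [Field K] [Fintype K] {m : ℕ}

/-- G7E. The π-elements whose centraliser has order `a`. -/
theorem tor_count (R : ReeAx G K m) (A : Subgroup G) (hA : R.IsTor A) :
    Nat.card {x : G // R.IsPi x ∧ Nat.card (Subgroup.centralizer {x}) = Nat.card A} =
      gg m / Nat.card (Subgroup.normalizer (A : Set G)) * (Nat.card A - 1) :=
  by
  have hhall := R.tor_hall_core (ar_basic m).2.2.2.2.2.2.2.1 (fun A hA => R.tor_pi A hA)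
    (fun A hA => R.tor_cyclic A hA)
  exact reeg7e_core R A hA (R.tor_pi A hA).1 (R.tor_pi A hA).2.2.1 (R.tor_cyclic A hA).2
    (fun g a ha ha1 hg => hhall.2.1 A hA g a ha ha1 hg)
    (fun A' hA' hnc => hhall.2.2.2.1 A A' hA hA' hnc)

end ReeAx

end Cfsg.Agent.Lib.helper7.REE
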