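import Mathlib
import Cfsg.Agent.Lib.helper7.REE.Defs
import Cfsg.Agent.Lib.Helper20.REEGENA
import Cfsg.Agent.Lib.Helper22.REEG2Gcore
import Cfsg.Agent.Lib.Helper22.REEG7Ecore
import Cfsg.Agent.Lib.Helper29.REEARA
import Cfsg.Agent.Lib.Helper29.REEARB

/-!
# Project REE, row G8F (helper22): the CORES of `count_A`:
`reeg8f_count` (elements of order `i` conjugate into a TI cyclic subgroup `A`), `reeg8f_arith`.
-/

set_option autoImplicit false

namespace Cfsg.Agent.Lib.helper7.REE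

open Matrix Cfsg.Agent.Lib.helper8

universe u v

/-- arithmetic: `6 * (|G| / (6 a)) = q³ (q² - 1) a'` when `N₀ = a' a` (or `a a'`) and `6 a ∣ |G|` -/
theorem reeg8f_arith (m a a' : ℕ) (ha : 0 < a) (hnn : nn m = a' * a) (hdvd : 6 * a ∣ gg m) :
    6 * (gg m / (6 * a)) = qq m ^ 3 * (qq m ^ 2 - 1) * a' := by
  obtain ⟨k, hk⟩ := hdvd
  have hgg := (ar_basic m).2.2.2.2.2.2.2.1
  have hq1 : 1 ≤ qq m := Nat.one_le_pow _ _ (by norm_num)
  have hsq : qq m ^ 2 - 1 = (qq m - 1) * (qq m + 1) := by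
    obtain ⟨j, hj⟩ : ∃ j, qq m = j + 1 := ⟨qq m - 1, by omega⟩
    rw [hj, Nat.add_sub_cancel]
    have : (j + 1) ^ 2 = j * (j + 1 + 1) + 1 := by ring
    rw [this, Nat.add_sub_cancel]
  rw [hk, Nat.mul_div_cancel_left _ (by omega : 0 < 6 * a), hsq]
  have h1 : 6 * a * k = qq m ^ 3 * (qq m - 1) * (qq m + 1) * (a' * a) := by
    rw [← hk, hgg, hnn]
  have h2 : (6 * k) * a = (qq m ^ 3 * ((qq m - 1) * (qq m + 1)) * a') * a := by
    calc (6 * k) * a = 6 * a * k := by ring
      _ = qq m ^ 3 * (qq m - 1) * (qq m + 1) * (a' * a) := h1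
      _ = (qq m ^ 3 * ((qq m - 1) * (qq m + 1)) * a') * a := by ring
  exact Nat.eq_of_mul_eq_mul_right ha h2

namespace ReeAx

variable {G : Type u} [Group G] [Finite G] {K : Type v} [Field K] [Fintype K] {m : ℕ}

/-- the number of elements of order `i > 1` all of whose centralisers are conjugates of the TI subgroup `A`
with `φ(i)` elements of order `i` -/
theorem reeg8f_count (R : ReeAx G K m) (A : Subgroup G) (i : ℕ) (hi : 1 < i)
    (hTI : ∀ g : G, ∀ a ∈ A, a ≠ 1 → g * a * g⁻¹ ∈ A → g ∈ Subgroup.normalizer (A : Set G))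
    (hphi : Nat.card ({a : G | a ∈ A ∧ orderOf a = i} : Set G) = Nat.totient i)
    (hstar : ∀ x : G, orderOf x = i → ∃ g : G, Subgroup.centralizer {x} = A.map (MulAut.conj g).toMonoidHom) :
    Nat.card {g : G // orderOf g = i} =
      gg m / Nat.card (Subgroup.normalizer (A : Set G)) * Nat.totient i := by
  classical
  have h := ti_count (Subgroup.normalizer (A : Set G)) ({a : G | a ∈ A ∧ orderOf a = i} : Set G)
    (by
      rintro n hn d ⟨hd, hdi⟩
      exact ⟨(Subgroup.mem_normalizer_iff.1 hn d).1 hd, by rw [reeg2g_orderOf_conj]; exact hdi⟩)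
    (by
      rintro g d ⟨hd, hdi⟩ ⟨hgd, -⟩
      refine hTI g d hd ?_ hgd
      intro hd1
      rw [hd1, orderOf_one] at hdi
      omega)
  rw [R.card, hphi] at h
  rw [← h]
  apply Nat.card_congr
  apply Equiv.subtypeEquivRight
  intro x
  constructor
  · intro hx
    obtain ⟨g, hg⟩ := hstar x hx
    have hxC : x ∈ Subgroup.centralizer {x} := by
      rw [Subgroup.mem_centralizer_iff]
      intro y hy
      rw [Set.mem_singleton_iff] at hy
      rw [hy]
    rw [hg] at hxC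
    obtain ⟨d, hd, hdx⟩ := Subgroup.mem_map.1 hxC
    rw [MulEquiv.coe_toMonoidHom, MulAut.conj_apply] at hdx
    refine ⟨g, d, ⟨hd, ?_⟩, hdx.symm⟩
    rw [← hx, ← hdx, reeg2g_orderOf_conj]
  · rintro ⟨g, d, ⟨-, hdi⟩, rfl⟩
    rw [reeg2g_orderOf_conj]
    exact hdi

end ReeAx

end Cfsg.Agent.Lib.helper7.REE
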