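import Mathlib
import Cfsg.Agent.Lib.helper7.REE.Defs
import Cfsg.Agent.Lib.Helper22.REEG8Fcore
import Cfsg.Agent.Lib.Helper1.REEG6
import Cfsg.Agent.Lib.Helper10.REEG7B
import Cfsg.Agent.Lib.Helper5.REEG7Dcore
import Cfsg.Agent.Lib.helper3.REEG7F
import Cfsg.Agent.Lib.helper14.REEGENG

/-!
# Project REE, row G8F (helper22): `ReeAx.count_A`, verbatim from `helper7/REE/Skel2.lean.txt`
(cites G7F `ward`, G7D through helper5's `tor_hall_core`, G7A `tor_pi`, G7B `tor_cyclic`, GENG `cyclic_count`, ARA, ARB, GENA through `reeg8f_count`).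
-/

set_option autoImplicit false

namespace Cfsg.Agent.Lib.helper7.REE

open Matrix Cfsg.Agent.Lib.helper8

universe u v

namespace ReeAx

variable {G : Type u} [Group G] [Finite G] {K : Type v} [Field K] [Fintype K] {m : ℕ}

/-- one half of G8F, for a π-torus `A` of order `a`, the other class having order `a'` prime to `a` -/
theorem reeg8f_half (R : ReeAx G K m) (A A' : Subgroup G) (hA : R.IsTor A) (a a' : ℕ)
    (hcA : Nat.card A = a) (hcA' : Nat.card A' = a') (hnn : nn m = a' * a) (hcop : a.Coprime a')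
    (hN : Nat.card (Subgroup.normalizer (A : Set G)) = 6 * a)
    (hall : ∀ T, R.IsTor T → (∃ g : G, T = A.map (MulAut.conj g).toMonoidHom) ∨
        (∃ g : G, T = A'.map (MulAut.conj g).toMonoidHom))
    (i : ℕ) (hi : 1 < i) (hdvd : i ∣ a) :
    6 * Nat.card {g : G // orderOf g = i} = Nat.totient i * qq m ^ 3 * (qq m ^ 2 - 1) * a' := by
  have hapos : 0 < a := by
    rw [← hcA]
    exact Nat.card_pos
  have hstar : ∀ x : G, orderOf x = i →
      ∃ g : G, Subgroup.centralizer {x} = A.map (MulAut.conj g).toMonoidHom := by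
    intro x hx
    have hxpi : R.IsPi x := by
      refine ⟨?_, ?_⟩
      · intro h1
        rw [h1, orderOf_one] at hx
        omega
      · apply orderOf_dvd_iff_pow_eq_one.1
        rw [hx, hnn]
        exact Dvd.dvd.mul_left hdvd a'
    rcases hall _ ⟨x, hxpi, rfl⟩ with ⟨g, hg⟩ | ⟨g, hg⟩
    · exact ⟨g, hg⟩
    · exfalso
      have hxC : x ∈ Subgroup.centralizer {x} := by
        rw [Subgroup.mem_centralizer_iff]
        intro y hy
        rw [Set.mem_singleton_iff] at hy
        rw [hy]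
      have h1 : orderOf x ∣ Nat.card (Subgroup.centralizer {x}) := by
        have := Subgroup.orderOf_dvd_natCard _ hxC
        exact this
      rw [hg, reeg7e_card_map_conj, hcA', hx] at h1
      have h2 : i ∣ Nat.gcd a a' := Nat.dvd_gcd hdvd h1
      rw [hcop] at h2
      have := Nat.le_of_dvd one_pos h2
      omega
  have hhall := R.tor_hall_core (ar_basic m).2.2.2.2.2.2.2.1 (fun A hA => R.tor_pi A hA)
    (fun A hA => R.tor_cyclic A hA)
  have hcount := R.reeg8f_count A i hi (fun g x hx hx1 hg => hhall.2.1 A hA g x hx hx1 hg)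
    (cyclic_count A (R.tor_cyclic A hA).1 i (by rw [hcA]; exact hdvd)).1 hstar
  have hdvdG : 6 * a ∣ gg m := by
    rw [← hN, ← R.card]
    exact Subgroup.card_subgroup_dvd_card _
  rw [hcount, hN, ← mul_assoc, reeg8f_arith m a a' hapos hnn hdvdG]
  ring

/-- G8F. Elements of order `i > 1`, `i ∣ q ∓ r + 1`. -/
theorem count_A (R : ReeAx G K m) (i : ℕ) (hi : 1 < i) :
    (i ∣ qq m - rr m + 1 → 6 * Nat.card {g : G // orderOf g = i} =
      Nat.totient i * qq m ^ 3 * (qq m ^ 2 - 1) * (qq m + rr m + 1)) ∧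
    (i ∣ qq m + rr m + 1 → 6 * Nat.card {g : G // orderOf g = i} =
      Nat.totient i * qq m ^ 3 * (qq m ^ 2 - 1) * (qq m - rr m + 1)) := by
  obtain ⟨A₂, A₃, h₂, h₃, c₂, c₃, n₂, n₃, hall⟩ := R.ward
  have hnn := (ar_basic m).2.2.2.2.2.1
  have hcop := (ar_coprime m).2.2.2.2.1
  constructor
  · intro hdvd
    exact R.reeg8f_half A₃ A₂ h₃ _ _ c₃ c₂ hnn hcop.symm n₃
      (fun T hT => (hall T hT).symm) i hi hdvd
  · intro hdvd
    exact R.reeg8f_half A₂ A₃ h₂ _ _ c₂ c₃ (by rw [hnn, mul_comm]) hcop n₂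
      (fun T hT => hall T hT) i hi hdvd

end ReeAx

end Cfsg.Agent.Lib.helper7.REE
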