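import Mathlib
import Cfsg.Agent.Lib.helper7.REE.Defs
import Cfsg.Agent.Lib.Helper22.REEG3D
import Cfsg.Agent.Lib.Helper22.REEG8F
import Cfsg.Agent.Lib.Helper26.REEG4B
import Cfsg.Agent.Lib.helper17.REEG8D

/-!
# Project REE, row G8G (helper22): `ReeAx.counts`, verbatim from `helper7/REE/Skel2.lean.txt`
(assembly of G4B `invol_count`, G3D `three_counts`, G8D `count_H`, G8E `count_E`, G8F `count_A`).
-/

set_option autoImplicit false

namespace Cfsg.Agent.Lib.helper7.REE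

open Matrix Cfsg.Agent.Lib.helper8

universe u v

namespace ReeAx

variable {G : Type u} [Group G] [Finite G] {K : Type v} [Field K] [Fintype K] {m : ℕ}

/-- G8G core: the assembly from the statements of the five cited rows -/
theorem reeg8g_core (R : ReeAx G K m)
    (h2 : Nat.card {g : G // orderOf g = 2} = qq m ^ 2 * nn m)
    (h3 : Nat.card {g : G // orderOf g = 3} = (qq m ^ 2 - 1) * (qq m ^ 3 + 1) ∧
      Nat.card {g : G // orderOf g = 9} = (qq m ^ 3 - qq m ^ 2) * (qq m ^ 3 + 1) ∧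
      Nat.card {g : G // orderOf g = 6} = qq m ^ 2 * (qq m - 1) * (qq m ^ 3 + 1) ∧
      Nat.card {g : G // 3 ∣ orderOf g} = (qq m ^ 3 + 1) * (2 * qq m ^ 3 - qq m ^ 2 - 1))
    (hH : ∀ i : ℕ, 2 < i → i ∣ qq m - 1 →
      2 * Nat.card {g : G // orderOf g = i} = Nat.totient i * qq m ^ 3 * (qq m ^ 3 + 1))
    (hE : ∀ i : ℕ, 1 < i → i ∣ (qq m + 1) / 4 →
      6 * Nat.card {g : G // orderOf g = i} =
          Nat.totient i * qq m ^ 3 * (qq m - 1) * (qq m ^ 2 - qq m + 1) ∧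
        2 * Nat.card {g : G // orderOf g = 2 * i} =
          Nat.totient i * qq m ^ 3 * (qq m - 1) * (qq m ^ 2 - qq m + 1))
    (hA : ∀ i : ℕ, 1 < i →
      (i ∣ qq m - rr m + 1 → 6 * Nat.card {g : G // orderOf g = i} =
        Nat.totient i * qq m ^ 3 * (qq m ^ 2 - 1) * (qq m + rr m + 1)) ∧
      (i ∣ qq m + rr m + 1 → 6 * Nat.card {g : G // orderOf g = i} =
        Nat.totient i * qq m ^ 3 * (qq m ^ 2 - 1) * (qq m - rr m + 1))) :
    Nat.card {g : G // orderOf g = 2} = qq m ^ 2 * (qq m ^ 2 - qq m + 1) ∧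
    Nat.card {g : G // orderOf g = 3} = (qq m ^ 2 - 1) * (qq m ^ 3 + 1) ∧
    Nat.card {g : G // orderOf g = 6} = qq m ^ 2 * (qq m - 1) * (qq m ^ 3 + 1) ∧
    Nat.card {g : G // orderOf g = 9} = qq m ^ 2 * (qq m - 1) * (qq m ^ 3 + 1) ∧
    (∀ i : ℕ, 2 < i → i ∣ qq m - 1 →
      2 * Nat.card {g : G // orderOf g = i} = Nat.totient i * qq m ^ 3 * (qq m ^ 3 + 1)) ∧
    (∀ i : ℕ, 1 < i → i ∣ (qq m + 1) / 4 →
      6 * Nat.card {g : G // orderOf g = i} =
          Nat.totient i * qq m ^ 3 * (qq m - 1) * (qq m ^ 2 - qq m + 1) ∧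
        2 * Nat.card {g : G // orderOf g = 2 * i} =
          Nat.totient i * qq m ^ 3 * (qq m - 1) * (qq m ^ 2 - qq m + 1)) ∧
    (∀ i : ℕ, 1 < i → i ∣ qq m - rr m + 1 →
      6 * Nat.card {g : G // orderOf g = i} =
        Nat.totient i * qq m ^ 3 * (qq m ^ 2 - 1) * (qq m + rr m + 1)) ∧
    (∀ i : ℕ, 1 < i → i ∣ qq m + rr m + 1 →
      6 * Nat.card {g : G // orderOf g = i} =
        Nat.totient i * qq m ^ 3 * (qq m ^ 2 - 1) * (qq m - rr m + 1)) := by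
  have hmul : qq m ^ 2 * (qq m - 1) = qq m ^ 3 - qq m ^ 2 := by
    rw [Nat.mul_sub, mul_one, ← pow_succ]
  refine ⟨h2, h3.1, h3.2.2.1, ?_, hH, hE, fun i hi hd => (hA i hi).1 hd, fun i hi hd => (hA i hi).2 hd⟩
  rw [hmul]
  exact h3.2.1

/-- G8G (→ S2357). The numbers of elements of each order. -/
theorem counts (R : ReeAx G K m) :
    Nat.card {g : G // orderOf g = 2} = qq m ^ 2 * (qq m ^ 2 - qq m + 1) ∧
    Nat.card {g : G // orderOf g = 3} = (qq m ^ 2 - 1) * (qq m ^ 3 + 1) ∧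
    Nat.card {g : G // orderOf g = 6} = qq m ^ 2 * (qq m - 1) * (qq m ^ 3 + 1) ∧
    Nat.card {g : G // orderOf g = 9} = qq m ^ 2 * (qq m - 1) * (qq m ^ 3 + 1) ∧
    (∀ i : ℕ, 2 < i → i ∣ qq m - 1 →
      2 * Nat.card {g : G // orderOf g = i} = Nat.totient i * qq m ^ 3 * (qq m ^ 3 + 1)) ∧
    (∀ i : ℕ, 1 < i → i ∣ (qq m + 1) / 4 →
      6 * Nat.card {g : G // orderOf g = i} =
          Nat.totient i * qq m ^ 3 * (qq m - 1) * (qq m ^ 2 - qq m + 1) ∧
        2 * Nat.card {g : G // orderOf g = 2 * i} =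
          Nat.totient i * qq m ^ 3 * (qq m - 1) * (qq m ^ 2 - qq m + 1)) ∧
    (∀ i : ℕ, 1 < i → i ∣ qq m - rr m + 1 →
      6 * Nat.card {g : G // orderOf g = i} =
        Nat.totient i * qq m ^ 3 * (qq m ^ 2 - 1) * (qq m + rr m + 1)) ∧
    (∀ i : ℕ, 1 < i → i ∣ qq m + rr m + 1 →
      6 * Nat.card {g : G // orderOf g = i} =
        Nat.totient i * qq m ^ 3 * (qq m ^ 2 - 1) * (qq m - rr m + 1)) :=
  R.reeg8g_core R.invol_count R.three_counts (fun i hi hd => R.count_H i hi hd)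
    (fun i hi hd => R.count_E i hi hd) (fun i hi => R.count_A i hi)

end ReeAx

end Cfsg.Agent.Lib.helper7.REE
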