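import Mathlib
import Cfsg.Agent.Lib.Helper18.REELA.Defs
import Cfsg.Agent.Lib.Helper25.REELA10

/-!
# Project REE, block LA, row LA20 (second copy by helper22): the CORE `reela20h22_core` of `la_abs_norm`,
with the statements of LA07, LA11, LA13, LA15 as hypotheses (LA10, LA16, LA17 are cited from `Helper25.REELA10`).
-/

set_option autoImplicit false
set_option linter.unusedSectionVars false

namespace Cfsg.Agent.Lib.helper7.REE

open Matrix Polynomial

universe v

section finite

variable {K : Type v} [Field K] [Fintype K]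

variable {V : Type*} [AddCommGroup V] [Module K V]

/-- an element commuting with `f` commutes with every polynomial in `f` -/
theorem reela20h22_commute {A : Type*} [Ring A] [Algebra K A] (h f : A) (hh : Commute h f) (p : K[X]) :
    Commute h (aeval f p) := by
  rw [Polynomial.aeval_eq_sum_range]
  exact Commute.sum_right _ _ _ (fun i _ => (hh.pow_right i).smul_right _)

/-- `ker p(f)` is invariant under everything that commutes with `f` -/
theorem reela20h22_inv (f : Module.End K V) (p : K[X]) (h : Module.End K V) (hh : Commute h f) :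
    ∀ x ∈ LinearMap.ker (aeval f p), h x ∈ LinearMap.ker (aeval f p) := by
  intro x hx
  rw [LinearMap.mem_ker] at hx ⊢
  have hc : Commute h (aeval f p) := reela20h22_commute h f hh p
  have : (aeval f p) (h x) = h ((aeval f p) x) := by
    rw [← Module.End.mul_apply, ← Module.End.mul_apply, hc.eq]
  rw [this, hx, map_zero]

/-- LA20 core: abstract `la_norm_six` from the statements of LA07, LA11, LA13, LA15. -/
theorem reela20h22_core [Module.Finite K V] (f : Module.End K V) (p : K[X]) (hs : LaSplit f p)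
    {G : Type*} [Group G] [Finite G] (ρ : G →* Module.End K V) (hρ : Function.Injective ρ)
    (hcom : ∀ g, Commute (ρ g) f)
    (g₀ : G) (hg₀ : ρ g₀ = f)
    (N N' : Module.End K V) (hNN' : N * N' = 1) (hN'N : N' * N = 1)
    (σ : G → G) (hσ : ∀ g, N * ρ g * N' = ρ (σ g))
    (h07 : ∀ g : Module.End K V, Commute g f →
      ∃ r : K[X], ∀ x ∈ LinearMap.ker (aeval f p), g x = aeval f r x)
    (h11 : ∀ g : Module.End K V, Commute g f →
      (∀ x ∈ LinearMap.ker (aeval f p), aeval g p x = 0) →
      ∃ i, i < p.natDegree ∧ ∀ x ∈ LinearMap.ker (aeval f p), g x = (f ^ (Fintype.card K ^ i)) x)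
    (h13 : ∀ g : G, ∀ x ∈ LinearMap.ker (f - 1), ρ g x = x)
    (h15 : ∀ g₁ : G, N * f * N' = ρ g₁ →
      ∀ x ∈ LinearMap.ker (aeval f p),
        N x ∈ LinearMap.ker (aeval f p) ∧ N' x ∈ LinearMap.ker (aeval f p)) :
    ∃ i, i < p.natDegree ∧ ∀ g : G, σ g = g ^ (Fintype.card K ^ i) := by
  -- g' = N f N'
  have hg' : N * f * N' = ρ (σ g₀) := by rw [← hg₀]; exact hσ g₀
  have hpres := h15 (σ g₀) hg'
  have hcomg' : Commute (N * f * N') f := by rw [hg']; exact hcom _
  have hpg' : ∀ x ∈ LinearMap.ker (aeval f p), aeval (N * f * N') p x = 0 := by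
    intro x hx
    rw [la_aeval_conj N N' f hNN' hN'N p, Module.End.mul_apply, Module.End.mul_apply,
      LinearMap.mem_ker.1 (hpres x hx).2, map_zero]
  obtain ⟨i, hi, hfrob⟩ := h11 _ hcomg' hpg'
  refine ⟨i, hi, ?_⟩
  intro g
  apply hρ
  -- the two endomorphisms agree on both summands
  obtain ⟨r, hr⟩ := h07 (ρ g) (hcom g)
  have hWinv_f : ∀ x ∈ LinearMap.ker (aeval f p), (f ^ (Fintype.card K ^ i)) x ∈ LinearMap.ker (aeval f p) :=
    reela20h22_inv f p _ ((Commute.refl f).pow_left _)
  have hWinv_r : ∀ x ∈ LinearMap.ker (aeval f p), (aeval f r) x ∈ LinearMap.ker (aeval f p) := by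
    exact reela20h22_inv f p _ (reela20h22_commute f f (Commute.refl f) r).symm
  have hW : ∀ x ∈ LinearMap.ker (aeval f p), ρ (σ g) x = ρ (g ^ (Fintype.card K ^ i)) x := by
    intro x hx
    have hN'x := (hpres x hx).2
    calc ρ (σ g) x = (N * ρ g * N') x := by rw [hσ g]
      _ = N (ρ g (N' x)) := by rw [Module.End.mul_apply, Module.End.mul_apply]
      _ = N (aeval f r (N' x)) := by rw [hr _ hN'x]
      _ = (N * aeval f r * N') x := by rw [Module.End.mul_apply, Module.End.mul_apply]
      _ = aeval (N * f * N') r x := by rw [la_aeval_conj N N' f hNN' hN'N r]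
      _ = aeval (f ^ (Fintype.card K ^ i)) r x :=
        (la_agree (LinearMap.ker (aeval f p)) (N * f * N') (f ^ (Fintype.card K ^ i)) hWinv_f hfrob).2 r x hx
      _ = ((aeval f r) ^ (Fintype.card K ^ i)) x := by rw [la_aeval_frob f r i]
      _ = ((ρ g) ^ (Fintype.card K ^ i)) x :=
        ((la_agree (LinearMap.ker (aeval f p)) (ρ g) (aeval f r) hWinv_r hr).1 _ x hx).symm
      _ = ρ (g ^ (Fintype.card K ^ i)) x := by rw [map_pow]
  have hU : ∀ x ∈ LinearMap.ker (f - 1), ρ (σ g) x = ρ (g ^ (Fintype.card K ^ i)) x := by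
    intro x hx
    rw [h13 _ x hx, h13 _ x hx]
  apply LinearMap.ext
  intro x
  have hx : x ∈ LinearMap.ker (f - 1) ⊔ LinearMap.ker (aeval f p) := by
    rw [hs.compl.sup_eq_top]
    exact Submodule.mem_top
  obtain ⟨u, hu, w, hw, rfl⟩ := Submodule.mem_sup.1 hx
  rw [map_add, map_add, hU u hu, hW w hw]

end finite

end Cfsg.Agent.Lib.helper7.REE
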