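import Mathlib
import Cfsg.Agent.Lib.helper8.RSM.Defs

/-!
# Project RSM (helper8), rows A1 (`field_basic`) and A2 (`tits`), verbatim.
-/

set_option autoImplicit false

namespace Cfsg.Agent.Lib.helper8.RSM

universe u v w

variable {G : Type u} [Group G] {K : Type v} [Field K] [Fintype K] {m : ℕ}

/-- `3 = 0` in a field with `3 ^ (2 m + 1)` elements -/
theorem rsma1_three (hK : Fintype.card K = 3 ^ (2 * m + 1)) : (3 : K) = 0 := by
  have h := Nat.cast_card_eq_zero K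
  rw [hK] at h
  push_cast at h
  exact pow_eq_zero_iff (n := 2 * m + 1) (by omega) |>.mp h

/-- the field has characteristic `3` -/
theorem rsma1_charP (hK : Fintype.card K = 3 ^ (2 * m + 1)) : CharP K 3 := by
  have h3 : (3 : K) = 0 := rsma1_three hK
  exact (CharP.charP_iff_prime_eq_zero Nat.prime_three).mpr (by exact_mod_cast h3)

/-- `a ^ q = a` -/
theorem rsma1_frob (hK : Fintype.card K = 3 ^ (2 * m + 1)) (a : K) :
    a ^ 3 ^ (2 * m + 1) = a := by
  rw [← hK]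
  exact FiniteField.pow_card a

/-- `-1` is not a square -/
theorem rsma1_neg_one (hK : Fintype.card K = 3 ^ (2 * m + 1)) (a : K) : a ^ 2 ≠ -1 := by
  intro h
  have hsq : IsSquare (-1 : K) := ⟨a, by rw [← h]; ring⟩
  have h4 := FiniteField.isSquare_neg_one_iff.mp hsq
  apply h4
  rw [hK, pow_succ, pow_mul, Nat.mul_mod, Nat.pow_mod]
  norm_num

/-- the `3 ^ k`-th power map is additive -/
theorem rsma1_add_pow (hK : Fintype.card K = 3 ^ (2 * m + 1)) (k : ℕ) (a b : K) :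
    (a + b) ^ 3 ^ k = a ^ 3 ^ k + b ^ 3 ^ k := by
  have := rsma1_charP hK
  have : Fact (Nat.Prime 3) := ⟨Nat.prime_three⟩
  exact add_pow_char_pow a b 3 k

/-- cubing is additive -/
theorem rsma1_add_cube (hK : Fintype.card K = 3 ^ (2 * m + 1)) (a b : K) :
    (a + b) ^ 3 = a ^ 3 + b ^ 3 := by
  have h3 : (3 : K) = 0 := rsma1_three hK
  linear_combination (a ^ 2 * b + a * b ^ 2) * h3

/-- cubing is injective at `1` -/
theorem rsma1_cube_one (hK : Fintype.card K = 3 ^ (2 * m + 1)) (a : K) (h : a ^ 3 = 1) :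
    a = 1 := by
  have h3 : (3 : K) = 0 := rsma1_three hK
  have h1 : (a - 1) ^ 3 = 0 := by
    linear_combination h + (-(a ^ 2) + a) * h3
  have h2 : a - 1 = 0 := pow_eq_zero_iff (n := 3) (by norm_num) |>.mp h1
  linear_combination h2

/-- A1 [S]. `FiniteField.pow_card`, `FiniteField.isSquare_neg_one_iff` (`q % 4 = 3`),
`add_pow_char_pow`, `CharP` from the cardinality (compare Helper27.REEPE `reepe_three`, `sl2_basic`). -/
theorem field_basic (hK : Fintype.card K = 3 ^ (2 * m + 1)) :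
    (3 : K) = 0 ∧ (∀ a : K, a ^ 3 ^ (2 * m + 1) = a) ∧ (∀ a : K, a ^ 2 ≠ -1) ∧
    (∀ a b : K, (a + b) ^ 3 ^ m = a ^ 3 ^ m + b ^ 3 ^ m) ∧
    (∀ a b : K, (a + b) ^ 3 = a ^ 3 + b ^ 3) ∧ (∀ a : K, a ^ 3 = 1 → a = 1) :=
  ⟨rsma1_three hK, rsma1_frob hK, rsma1_neg_one hK, rsma1_add_pow hK m, rsma1_add_cube hK,
    rsma1_cube_one hK⟩

/-- A2 [S]. `3 θ² = 1`: `((a^θ)^3)^θ = a ^ (3 ^ (2 m + 1)) = a`. -/
theorem tits (hK : Fintype.card K = 3 ^ (2 * m + 1)) (a : K) :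
    ((a ^ 3 ^ m) ^ 3) ^ 3 ^ m = a := by
  have h := rsma1_frob hK a
  rw [← pow_mul, ← pow_mul]
  have e : 3 ^ m * (3 * 3 ^ m) = 3 ^ (2 * m + 1) := by
    rw [pow_succ, two_mul, pow_add]; ring
  rw [e]
  exact h

end Cfsg.Agent.Lib.helper8.RSM
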