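import Mathlib
import Cfsg.Agent.Lib.helper8.RSM.Defs
import Cfsg.Agent.Lib.helper4.RSMC1
import Cfsg.Agent.Lib.helper2.RSMC7
import Cfsg.Agent.Lib.Helper22.RSMC234h22

/-!
# Project RSM (helper8), rows C5 (`mem_U_iff`), C6 (`U_index`), C8 (`torus_act`):
second copies under own names, exact Skel statements.
-/

set_option autoImplicit false

namespace Cfsg.Agent.Lib.helper8.RSM

open scoped commutatorElement

universe u v w

variable {G : Type u} [Group G] {K : Type v} [Field K] [Fintype K] {m : ℕ}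

/-- C5 (second copy). -/
theorem rsmc5_h22 (RU : ReeU G K m) (g : G) : g ∈ RU.U ↔ RU.InU g := by
  constructor
  · intro hg
    unfold ReeU.U at hg
    induction hg using Subgroup.closure_induction with
    | mem x hx => exact hx
    | one => exact ⟨0, 0, 0, (x_basic RU).1.symm⟩
    | mul x y _ _ hx hy => exact (rsmc4_h22 RU x y hx hy).2.1
    | inv x _ hx => exact (rsmc4_h22 RU x x hx hx).2.2
  · intro hg
    exact Subgroup.subset_closure hg

/-- C8 (second copy). -/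
theorem rsmc8_h22 (RU : ReeU G K m) (a : K) (ha : a ≠ 0) :
    ∃ i : ℕ, a = RU.a0 ^ i ∧ ∀ t u v : K, RU.h0 ^ i * RU.x t u v * (RU.h0 ^ i)⁻¹ =
      RU.x (a * t) (nrm m a * u) (a * nrm m a * v) := by
  obtain ⟨i, hi⟩ := RU.a0_gen a ha
  refine ⟨i, hi, ?_⟩
  intro t u v
  rw [hi]
  exact h0_pow_conj RU i t u v

/-- `|U| = q ^ 3` -/
theorem rsmc6_card_U (RU : ReeU G K m) : Nat.card RU.U = (3 ^ (2 * m + 1)) ^ 3 := by
  classical
  have e : (K × K × K) ≃ RU.U := by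
    refine Equiv.ofBijective
      (fun p => ⟨RU.x p.1 p.2.1 p.2.2, (rsmc5_h22 RU _).2 ⟨p.1, p.2.1, p.2.2, rfl⟩⟩) ⟨?_, ?_⟩
    · rintro ⟨t, u, v⟩ ⟨t', u', v'⟩ h
      have h' : RU.x t u v = RU.x t' u' v' := congrArg Subtype.val h
      obtain ⟨h1, h2, h3⟩ := RU.x_inj _ _ _ _ _ _ h'
      simp only [Prod.mk.injEq]
      exact ⟨h1, h2, h3⟩
    · rintro ⟨g, hg⟩
      obtain ⟨t, u, v, rfl⟩ := (rsmc5_h22 RU g).1 hg
      exact ⟨(t, u, v), rfl⟩
  rw [← Nat.card_congr e, Nat.card_prod, Nat.card_prod, Nat.card_eq_fintype_card, RU.hK]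
  ring

/-- C6 (second copy). -/
theorem rsmc6_h22 (RU : ReeU G K m) [Finite G] : ¬ 3 ∣ RU.U.index := by
  have h1 : Nat.card RU.U * RU.U.index = Nat.card G := RU.U.card_mul_index
  rw [rsmc6_card_U RU, RU.card] at h1
  set q : ℕ := 3 ^ (2 * m + 1) with hq
  have hq0 : 0 < q ^ 3 := by positivity
  have h2 : RU.U.index = (q - 1) * (q ^ 3 + 1) := by
    have : q ^ 3 * RU.U.index = q ^ 3 * ((q - 1) * (q ^ 3 + 1)) := by
      rw [h1]; ring
    exact Nat.eq_of_mul_eq_mul_left hq0 this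
  rw [h2]
  have hq3 : q % 3 = 0 := by
    rw [hq, pow_succ]
    exact Nat.mul_mod_left _ _
  have hq1 : 1 ≤ q := Nat.one_le_pow _ _ (by norm_num)
  have ha : (q - 1) % 3 = 2 := by omega
  have hb : (q ^ 3 + 1) % 3 = 1 := by
    have : q ^ 3 % 3 = 0 := by
      rw [Nat.pow_mod, hq3]
    omega
  intro hdvd
  have := Nat.mod_eq_zero_of_dvd hdvd
  rw [Nat.mul_mod, ha, hb] at this
  omega

end Cfsg.Agent.Lib.helper8.RSM
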