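import Mathlib
import Cfsg.Agent.Lib.Helper22.TwoClass1

set_option autoImplicit false

namespace Cfsg.Agent.Lib.Helper22.TwoClass

open Subgroup

variable {G : Type*} [Group G]

theorem card_pgroup_dvd [Finite G] (p : ℕ) [Fact p.Prime] {H K : Subgroup G} (hHK : H ≤ K)
    (hH : IsPGroup p H) : Nat.card H ∣ p ^ (Nat.card K).factorization p := by
  have hp : p.Prime := Fact.out
  obtain ⟨s, hs⟩ := IsPGroup.iff_card.1 hH
  rw [hs]
  apply pow_dvd_pow
  rw [← Nat.Prime.pow_dvd_iff_le_factorization hp Nat.card_pos.ne', ← hs]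
  exact Subgroup.card_dvd_of_le hHK

structure CaseI (G : Type*) [Group G] (q : ℕ) (x : G) : Prop where
  prime : q.Prime
  nc : x ∉ center G
  ord : ∃ k : ℕ, orderOf x = q ^ k
  cen : ∀ y ∈ Cz x, (orderOf y).Coprime q → y ∈ center G

theorem CaseI.relem_central [Finite G] {n q : ℕ} {x : G} (h : TC G n) (hI : CaseI G q x)
    (r : ℕ) (hr : r.Prime) (hrq : r ≠ q) (y : G) (j : ℕ) (hy : orderOf y = r ^ j) :
    y ∈ center G := by
  by_contra hyc
  have : Fact r.Prime := ⟨hr⟩
  have hn : 0 < n := lt_trans Nat.zero_lt_one h.one_lt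
  have hcard : Nat.card (Cz y) = Nat.card (Cz x) := by
    have h1 := h.card_Cz hyc
    have h2 := h.card_Cz hI.nc
    exact Nat.eq_of_mul_eq_mul_right hn (h1.trans h2.symm)
  obtain ⟨Rx⟩ : Nonempty (Sylow r (Cz x)) := inferInstance
  let R : Subgroup G := (Rx : Subgroup (Cz x)).map (Cz x).subtype
  have hRcard : Nat.card R = r ^ (Nat.card (Cz x)).factorization r := by
    rw [Subgroup.card_map_of_injective (Cz x).subtype_injective]
    exact Rx.card_eq_multiplicity
  have hRp : IsPGroup r R := Rx.2.map _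
  have hRc : R ≤ center G := by
    rintro _ ⟨w, hw, rfl⟩
    obtain ⟨i, hi⟩ := (IsPGroup.iff_orderOf.1 Rx.2) ⟨w, hw⟩
    rw [Subgroup.orderOf_mk] at hi
    apply hI.cen _ w.2
    rw [Subgroup.orderOf_coe, hi]
    exact Nat.Coprime.pow_left _ ((Nat.coprime_primes hr hI.prime).2 hrq)
  have hRn : R.Normal := by
    constructor
    intro a ha g
    have := Subgroup.mem_center_iff.1 (hRc ha) g
    rw [this, mul_inv_cancel_right]
    exact ha
  have hyp : IsPGroup r (zpowers y) := by
    apply IsPGroup.of_card (n := j)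
    rw [Nat.card_zpowers, hy]
  have hTp : IsPGroup r (zpowers y ⊔ R : Subgroup G) := IsPGroup.to_sup_of_normal_right hyp hRp
  have hTle : (zpowers y ⊔ R : Subgroup G) ≤ Cz y := by
    apply sup_le
    · rw [Subgroup.zpowers_le]; exact self_mem_Cz y
    · exact hRc.trans (center_le_Cz y)
  have h1 := card_pgroup_dvd r hTle hTp
  rw [hcard, ← hRcard] at h1
  have h2 : R = zpowers y ⊔ R :=
    Subgroup.eq_of_le_of_card_ge le_sup_right (Nat.le_of_dvd Nat.card_pos h1)
  apply hyc
  apply hRc
  rw [h2]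
  exact le_sup_left (a := zpowers y) (Subgroup.mem_zpowers y)

theorem CaseI.coprime_central [Finite G] {n q : ℕ} {x : G} (h : TC G n) (hI : CaseI G q x)
    (y : G) (hy : (orderOf y).Coprime q) : y ∈ center G := by
  by_contra hyc
  obtain ⟨r, k, w, hr, hw, hwc, hwo⟩ := exists_primary y hyc
  have hk : k ≠ 0 := by
    rintro rfl
    rw [pow_zero, orderOf_eq_one_iff] at hwo
    rw [hwo] at hwc
    exact hwc (Subgroup.one_mem _)
  have hrq : r ≠ q := by
    rintro rfl
    have h1 : r ∣ orderOf y := by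
      have := orderOf_dvd_of_mem_zpowers hw
      rw [hwo] at this
      exact (dvd_pow_self r hk).trans this
    exact (Nat.Prime.coprime_iff_not_dvd hr).1 hy.symm h1
  exact hwc (hI.relem_central h r hr hrq w k hwo)

theorem CaseI.quot_pgroup [Finite G] {n q : ℕ} {x : G} (h : TC G n) (hI : CaseI G q x) :
    IsPGroup q (G ⧸ center G) := by
  have : Fact q.Prime := ⟨hI.prime⟩
  intro gbar
  induction gbar using QuotientGroup.induction_on with
  | H g =>
    obtain ⟨a, b, hab, -, ⟨k, hk⟩, hb, -, -⟩ := Cfsg.Agent.Lib.Helper22.exists_p_decomp q g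
    have hbc : b ∈ center G := hI.coprime_central h b hb
    refine ⟨k, ?_⟩
    have h1 : (QuotientGroup.mk g : G ⧸ center G) = QuotientGroup.mk a := by
      rw [hab, QuotientGroup.mk_mul, (QuotientGroup.eq_one_iff b).2 hbc, mul_one]
    rw [h1, ← QuotientGroup.mk_pow, ← hk, pow_orderOf_eq_one, QuotientGroup.mk_one]

theorem CaseI.index_center [Finite G] {n q : ℕ} {x : G} (h : TC G n) (hI : CaseI G q x) :
    ∃ e : ℕ, (center G).index = q ^ e := by
  have : Fact q.Prime := ⟨hI.prime⟩
  obtain ⟨e, he⟩ := IsPGroup.iff_card.1 (hI.quot_pgroup h)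
  exact ⟨e, by rw [Subgroup.index_eq_card, he]⟩

theorem CaseI.n_pow [Finite G] {n q : ℕ} {x : G} (h : TC G n) (hI : CaseI G q x) :
    ∃ a : ℕ, n = q ^ a := by
  obtain ⟨e, he⟩ := hI.index_center h
  have h1 : n ∣ q ^ e := by
    rw [← he, ← h.idx_eq hI.nc]
    exact Subgroup.index_dvd_of_le (center_le_Cz x)
  obtain ⟨a, -, ha⟩ := (Nat.dvd_prime_pow hI.prime).1 h1
  exact ⟨a, ha⟩

theorem CaseI.sup_top [Finite G] {n q : ℕ} {x : G} (h : TC G n) (hI : CaseI G q x)
    [Fact q.Prime] (Q : Sylow q G) : (Q : Subgroup G) ⊔ center G = ⊤ := by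
  obtain ⟨e, he⟩ := hI.index_center h
  rw [← Subgroup.index_eq_one]
  have h1 : ((Q : Subgroup G) ⊔ center G).index ∣ q ^ e := by
    rw [← he]; exact Subgroup.index_dvd_of_le le_sup_right
  have h2 : ((Q : Subgroup G) ⊔ center G).index ∣ (Q : Subgroup G).index :=
    Subgroup.index_dvd_of_le le_sup_left
  obtain ⟨i, -, hi⟩ := (Nat.dvd_prime_pow hI.prime).1 h1
  rcases Nat.eq_zero_or_pos i with rfl | hipos
  · rw [hi, pow_zero]
  · exfalso
    apply Q.not_dvd_index
    refine dvd_trans ?_ h2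
    rw [hi]
    exact dvd_pow_self q hipos.ne'

theorem CaseI.sylow_normal [Finite G] {n q : ℕ} {x : G} (h : TC G n) (hI : CaseI G q x)
    [Fact q.Prime] (Q : Sylow q G) : (Q : Subgroup G).Normal := by
  rw [← Subgroup.normalizer_eq_top_iff, eq_top_iff, ← hI.sup_top h Q]
  exact sup_le Subgroup.le_normalizer (Subgroup.center_le_normalizer _)

theorem CaseI.complement [Finite G] {n q : ℕ} {x : G} (h : TC G n) (hI : CaseI G q x)
    [Fact q.Prime] (Q : Sylow q G) :
    ∃ N : Subgroup G, N.Normal ∧ N.IsComplement' (Q : Subgroup G) ∧ IsMulCommutative N ∧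
      ∀ a ∈ N, ∀ y ∈ (Q : Subgroup G), a * y = y * a := by
  have hQn : (Q : Subgroup G).Normal := hI.sylow_normal h Q
  obtain ⟨N, hN⟩ := Subgroup.exists_left_complement'_of_coprime (N := (Q : Subgroup G))
    Q.card_coprime_index
  have hNc : N ≤ center G := by
    intro a ha
    apply hI.coprime_central h
    have h1 : orderOf a ∣ Nat.card N := Subgroup.orderOf_dvd_natCard N ha
    have h2 : Nat.card N = (Q : Subgroup G).index := by
      have h3 := hN.card_mul_card
      have h4 := Subgroup.card_mul_index (Q : Subgroup G)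
      rw [mul_comm] at h3
      exact Nat.eq_of_mul_eq_mul_left Nat.card_pos (h3.trans h4.symm)
    have h5 : ¬ q ∣ orderOf a := fun hd => Q.not_dvd_index (h2 ▸ hd.trans h1)
    exact ((Nat.Prime.coprime_iff_not_dvd hI.prime).2 h5).symm
  refine ⟨N, ?_, hN, ?_, ?_⟩
  · constructor
    intro a ha g
    have := Subgroup.mem_center_iff.1 (hNc ha) g
    rw [this, mul_inv_cancel_right]
    exact ha
  · constructor
    constructor
    intro a b
    apply Subtype.ext
    have := Subgroup.mem_center_iff.1 (hNc a.2) b.1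
    simpa using this.symm
  · intro a ha y _
    exact (Subgroup.mem_center_iff.1 (hNc ha) y).symm

end Cfsg.Agent.Lib.Helper22.TwoClass
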