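import Mathlib
import Cfsg.Agent.Lib.Helper22.TwoClass2

set_option autoImplicit false

namespace Cfsg.Agent.Lib.Helper22.TwoClass

open Subgroup

variable {G : Type*} [Group G]

theorem Cz_mul_central {a c : G} (hc : c ∈ center G) : Cz (a * c) = Cz a := by
  ext t
  rw [mem_Cz, mem_Cz]
  have h1 : t * c = c * t := Subgroup.mem_center_iff.1 hc t
  constructor
  · intro h
    have h2 : t * a * c = a * t * c := by
      calc t * a * c = t * (a * c) := by rw [mul_assoc]
        _ = a * c * t := h
        _ = a * (c * t) := by rw [mul_assoc]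
        _ = a * (t * c) := by rw [h1]
        _ = a * t * c := by rw [mul_assoc]
    exact mul_right_cancel h2
  · intro h
    calc t * (a * c) = t * a * c := by rw [mul_assoc]
      _ = a * t * c := by rw [h]
      _ = a * (t * c) := by rw [mul_assoc]
      _ = a * (c * t) := by rw [h1]
      _ = a * c * t := by rw [mul_assoc]

theorem conj_mem_Cz_conj {a x : G} (g : G) (ha : a ∈ Cz x) :
    g * a * g⁻¹ ∈ Cz (g * x * g⁻¹) := by
  rw [mem_Cz] at ha ⊢
  calc g * a * g⁻¹ * (g * x * g⁻¹) = g * (a * x) * g⁻¹ := by group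
    _ = g * (x * a) * g⁻¹ := by rw [ha]
    _ = g * x * g⁻¹ * (g * a * g⁻¹) := by group

structure Z2 (p : ℕ) (P : Subgroup G) (x : G) : Prop where
  mem : x ∈ P
  nc : x ∉ center G
  pow : x ^ p ∈ center G
  comm : ∀ g ∈ P, x⁻¹ * g⁻¹ * x * g ∈ center G

theorem Z2.conj_mem {p : ℕ} {P : Subgroup G} {x : G} (hx : Z2 p P x) {g a : G} (hg : g ∈ P)
    (ha : a ∈ Cz x) : g * a * g⁻¹ ∈ Cz x := by
  have hc := hx.comm g⁻¹ (P.inv_mem hg)
  have h1 : g * x * g⁻¹ = x * (x⁻¹ * g⁻¹⁻¹ * x * g⁻¹) := by group
  have h2 := conj_mem_Cz_conj g ha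
  rwa [h1, Cz_mul_central hc] at h2

theorem exists_z2 [Finite G] (p : ℕ) [Fact p.Prime] (P : Subgroup G) (hP : IsPGroup p P)
    (hZ : ∀ z ∈ P, (∀ g ∈ P, g * z = z * g) → z ∈ center G) (hnc : ¬ P ≤ center G) :
    ∃ x : G, Z2 p P x := by
  have hcen : ∀ w : P, w ∈ center P → (w : G) ∈ center G := by
    intro w hw
    apply hZ _ w.2
    intro g hg
    have := Subgroup.mem_center_iff.1 hw ⟨g, hg⟩
    exact congrArg Subtype.val this
  have hnt : Nontrivial (P ⧸ center P) := by
    by_contra hcon
    rw [not_nontrivial_iff_subsingleton] at hcon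
    apply hnc
    intro z hz
    have h1 : (QuotientGroup.mk (⟨z, hz⟩ : P) : P ⧸ center P) = 1 := Subsingleton.elim _ _
    exact hcen _ ((QuotientGroup.eq_one_iff _).1 h1)
  have hQ : IsPGroup p (P ⧸ center P) := hP.to_quotient _
  have hcn : Nontrivial (center (P ⧸ center P)) := hQ.center_nontrivial
  have hcp : IsPGroup p (center (P ⧸ center P)) := hQ.to_subgroup _
  have hdvd : p ∣ Nat.card (center (P ⧸ center P)) := by
    rcases hcp.card_eq_or_dvd with h1 | h1
    · exfalso
      have := (Nat.card_eq_one_iff_unique.1 h1).1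
      exact not_subsingleton _ this
    · exact h1
  obtain ⟨xc, hxc⟩ := exists_prime_orderOf_dvd_card' p hdvd
  obtain ⟨x0, hx0⟩ := QuotientGroup.mk_surjective (xc : P ⧸ center P)
  have hord : orderOf (QuotientGroup.mk x0 : P ⧸ center P) = p := by
    rw [hx0, Subgroup.orderOf_coe, hxc]
  have hp : p.Prime := Fact.out
  have hx0c : x0 ∉ center P := by
    intro hmem
    rw [(QuotientGroup.eq_one_iff x0).2 hmem, orderOf_one] at hord
    exact hp.one_lt.ne hord
  refine ⟨(x0 : G), x0.2, ?_, ?_, ?_⟩
  · intro hxc'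
    apply hx0c
    rw [Subgroup.mem_center_iff]
    intro g
    apply Subtype.ext
    exact Subgroup.mem_center_iff.1 hxc' g
  · have h1 : (QuotientGroup.mk (x0 ^ p) : P ⧸ center P) = 1 := by
      rw [QuotientGroup.mk_pow, ← hord, pow_orderOf_eq_one]
    have := hcen _ ((QuotientGroup.eq_one_iff _).1 h1)
    simpa using this
  · intro g hg
    have hcomm : (QuotientGroup.mk (⟨g, hg⟩ : P) : P ⧸ center P) * QuotientGroup.mk x0 =
        QuotientGroup.mk x0 * QuotientGroup.mk (⟨g, hg⟩ : P) := by
      rw [hx0]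
      exact Subgroup.mem_center_iff.1 xc.2 _
    have h1 : (QuotientGroup.mk (x0⁻¹ * (⟨g, hg⟩ : P)⁻¹ * x0 * ⟨g, hg⟩) : P ⧸ center P) = 1 := by
      rw [QuotientGroup.mk_mul, QuotientGroup.mk_mul, QuotientGroup.mk_mul, QuotientGroup.mk_inv,
        QuotientGroup.mk_inv, mul_assoc, ← hcomm]
      group
    have := hcen _ ((QuotientGroup.eq_one_iff _).1 h1)
    simpa using this

theorem Z2.abelian_normal [Finite G] {n p : ℕ} (h : TC G n) {P : Subgroup G} {x : G}
    (hx : Z2 p P x) :
    ∃ A : Subgroup P, A.Normal ∧ IsMulCommutative A ∧ ∀ y : P, y ^ p ∈ A := by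
  let AG : Subgroup G := Cz x ⊓ Subgroup.centralizer (Cz x : Set G)
  have hcenA : center G ≤ AG := le_inf (center_le_Cz x) (Subgroup.center_le_centralizer _)
  refine ⟨AG.subgroupOf P, ?_, ?_, ?_⟩
  · constructor
    intro a ha g
    rw [Subgroup.mem_subgroupOf, Subgroup.mem_inf] at ha ⊢
    obtain ⟨ha1, ha2⟩ := ha
    constructor
    · exact hx.conj_mem g.2 ha1
    · rw [Subgroup.mem_centralizer_iff]
      intro b hb
      have hb' : (g : G)⁻¹ * b * (g : G)⁻¹⁻¹ ∈ Cz x := hx.conj_mem (P.inv_mem g.2) hb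
      have h1 := (Subgroup.mem_centralizer_iff.1 ha2) _ hb'
      simp only [Subgroup.coe_mul, Subgroup.coe_inv]
      calc b * ((g : G) * (a : G) * (g : G)⁻¹)
          = (g : G) * ((g : G)⁻¹ * b * (g : G)⁻¹⁻¹ * (a : G)) * (g : G)⁻¹ := by group
        _ = (g : G) * ((a : G) * ((g : G)⁻¹ * b * (g : G)⁻¹⁻¹)) * (g : G)⁻¹ := by rw [h1]
        _ = (g : G) * (a : G) * (g : G)⁻¹ * b := by group
  · constructor
    constructor
    intro a b
    apply Subtype.ext
    apply Subtype.ext
    have ha := a.2
    have hb := b.2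
    rw [Subgroup.mem_subgroupOf, Subgroup.mem_inf] at ha hb
    have := (Subgroup.mem_centralizer_iff.1 ha.2) _ hb.1
    simpa using this.symm
  · intro y
    rw [Subgroup.mem_subgroupOf]
    by_cases hyp : (y : G) ^ p ∈ center G
    · simpa using hcenA hyp
    · have hyc : (y : G) ∉ center G := fun hc => hyp (Subgroup.pow_mem _ hc _)
      have h1 : Cz (y : G) = Cz ((y : G) ^ p) :=
        h.Cz_eq_of_pow hyp (Subgroup.pow_mem _ (Subgroup.mem_zpowers _) _)
      have hc := hx.comm (y : G) y.2
      have hcomm : (QuotientGroup.mk (y : G) : G ⧸ center G) * QuotientGroup.mk x =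
          QuotientGroup.mk x * QuotientGroup.mk (y : G) := by
        have h2 := (QuotientGroup.eq_one_iff (N := center G) _).2 hc
        rw [QuotientGroup.mk_mul, QuotientGroup.mk_mul, QuotientGroup.mk_mul, QuotientGroup.mk_inv,
          QuotientGroup.mk_inv] at h2
        have h3 : (QuotientGroup.mk x : G ⧸ center G) * QuotientGroup.mk (y : G) =
            QuotientGroup.mk (y : G) * QuotientGroup.mk x *
              ((QuotientGroup.mk x : G ⧸ center G)⁻¹ * (QuotientGroup.mk (y : G))⁻¹ *
                QuotientGroup.mk x * QuotientGroup.mk (y : G)) := by group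
        rw [h3, h2, mul_one]
      have hpow : (QuotientGroup.mk (((y : G) * x) ^ p) : G ⧸ center G) =
          QuotientGroup.mk ((y : G) ^ p) := by
        have hxp : (QuotientGroup.mk x : G ⧸ center G) ^ p = 1 := by
          rw [← QuotientGroup.mk_pow]
          exact (QuotientGroup.eq_one_iff _).2 hx.pow
        rw [QuotientGroup.mk_pow, QuotientGroup.mk_mul, (show Commute _ _ from hcomm).mul_pow,
          hxp, mul_one, QuotientGroup.mk_pow]
      have hcc : (((y : G)) ^ p)⁻¹ * ((y : G) * x) ^ p ∈ center G := QuotientGroup.eq.1 hpow.symm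
      have hw : ((y : G) * x) ^ p = (y : G) ^ p * ((((y : G)) ^ p)⁻¹ * ((y : G) * x) ^ p) := by
        group
      have hwp : ((y : G) * x) ^ p ∉ center G := by
        intro hwc
        apply hyp
        have : (y : G) ^ p = ((y : G) * x) ^ p * ((((y : G)) ^ p)⁻¹ * ((y : G) * x) ^ p)⁻¹ := by
          group
        rw [this]
        exact Subgroup.mul_mem _ hwc (Subgroup.inv_mem _ hcc)
      have h2 : Cz ((y : G) * x) = Cz (((y : G) * x) ^ p) :=
        h.Cz_eq_of_pow hwp (Subgroup.pow_mem _ (Subgroup.mem_zpowers _) _)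
      have h3 : Cz (((y : G) * x) ^ p) = Cz ((y : G) ^ p) := by
        rw [hw, Cz_mul_central hcc]
      have h4 : Cz ((y : G) * x) = Cz (y : G) := by rw [h2, h3, h1]
      have h5 : Cz (y : G) ≤ Cz x := by
        intro t ht
        have ht2 : t ∈ Cz ((y : G) * x) := by rw [h4]; exact ht
        rw [mem_Cz] at ht ht2 ⊢
        have : (y : G) * (t * x) = (y : G) * (x * t) := by
          calc (y : G) * (t * x) = (y : G) * t * x := by rw [mul_assoc]
            _ = t * (y : G) * x := by rw [ht]
            _ = t * ((y : G) * x) := by rw [mul_assoc]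
            _ = (y : G) * x * t := ht2
            _ = (y : G) * (x * t) := by rw [mul_assoc]
        exact mul_left_cancel this
      have h6 : Cz (y : G) = Cz x := h.Cz_eq_of_le hyc hx.nc h5
      have hyA : (y : G) ∈ AG := by
        rw [Subgroup.mem_inf]
        constructor
        · have := self_mem_Cz (y : G)
          rw [h6] at this
          exact this
        · rw [Subgroup.mem_centralizer_iff]
          intro b hb
          have hb' : b ∈ Cz (y : G) := by rw [h6]; exact hb
          exact mem_Cz.1 hb'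
      simpa using Subgroup.pow_mem _ hyA p

end Cfsg.Agent.Lib.Helper22.TwoClass
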