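import Mathlib

set_option autoImplicit false

namespace Cfsg.Agent.Lib.Helper22.TwoClass

open Finset

theorem prod_mul_reindex {A : Type*} [CommMonoid A] (p i : ℕ) (hp : p.Prime) (hi0 : 0 < i)
    (hip : i < p) (ψ : ℕ → A) (hper : ∀ m, ψ (m + p) = ψ m) :
    ∏ c ∈ range p, ψ (c * i) = ∏ j ∈ range p, ψ j := by
  have hP : Function.Periodic ψ p := hper
  have hcop : Nat.gcd p i = 1 := by
    rw [← Nat.coprime_iff_gcd_eq_one, Nat.Prime.coprime_iff_not_dvd hp]
    intro hd
    exact absurd (Nat.le_of_dvd hi0 hd) (not_le.2 hip)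
  have hinj : Set.InjOn (fun c => (c * i) % p) (range p : Set ℕ) := by
    intro c hc c' hc' h
    simp only [coe_range, Set.mem_Iio] at hc hc'
    have h1 : c * i ≡ c' * i [MOD p] := h
    have h2 : c ≡ c' [MOD p] := Nat.ModEq.cancel_right_of_coprime hcop h1
    have h3 : c % p = c' % p := h2
    rwa [Nat.mod_eq_of_lt hc, Nat.mod_eq_of_lt hc'] at h3
  have himg : (range p).image (fun c => (c * i) % p) = range p := by
    apply Finset.eq_of_subset_of_card_le
    · intro j hj
      obtain ⟨c, -, rfl⟩ := Finset.mem_image.1 hj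
      exact Finset.mem_range.2 (Nat.mod_lt _ hp.pos)
    · rw [Finset.card_image_of_injOn hinj]
  calc ∏ c ∈ range p, ψ (c * i) = ∏ c ∈ range p, ψ ((c * i) % p) := by
        apply Finset.prod_congr rfl
        intro c _
        exact (hP.map_mod_nat _).symm
    _ = ∏ j ∈ (range p).image (fun c => (c * i) % p), ψ j := by
        rw [Finset.prod_image hinj]
    _ = ∏ j ∈ range p, ψ j := by rw [himg]

theorem prod_shift {A : Type*} [CommGroup A] (p : ℕ) (g : ℕ → A) (hg : g p = g 0) :
    ∏ i ∈ range p, g (i + 1) = ∏ i ∈ range p, g i := by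
  have h1 := Finset.prod_range_succ' g p
  have h2 := Finset.prod_range_succ g p
  rw [h1, hg] at h2
  exact mul_right_cancel h2

theorem gen_lemma {A : Type*} [CommGroup A] (p : ℕ) (hp : p.Prime) (f : ℕ → ℕ → A →* A)
    (h00 : ∀ a, f 0 0 a = a)
    (hadd : ∀ i j i' j' a, f i j (f i' j' a) = f (i + i') (j + j') a)
    (hper1 : ∀ i j a, f (i + p) j a = f i j a) (hper2 : ∀ i j a, f i (j + p) a = f i j a)
    (F : Subgroup A) (hfix : ∀ i j, ¬ (p ∣ i ∧ p ∣ j) → ∀ a, f i j a = a → a ∈ F) (u : A) :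
    u ^ p ∈ F := by
  have hperB : ∀ b i j a, f i (j + b * p) a = f i j a := by
    intro b
    induction b with
    | zero => intro i j a; simp
    | succ b ih =>
      intro i j a
      rw [Nat.succ_mul, ← add_assoc, hper2, ih]
  have hp1 : ¬ p ∣ 1 := fun h => hp.one_lt.ne' (Nat.dvd_one.1 h)
  have hN : ∀ c, ∏ i ∈ range p, f i (c * i) u ∈ F := by
    intro c
    apply hfix 1 c (fun h => hp1 h.1)
    rw [map_prod]
    have h1 : ∀ i ∈ range p, f 1 c (f i (c * i) u) = (fun i => f i (c * i) u) (i + 1) := by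
      intro i _
      rw [hadd]
      have e1 : 1 + i = i + 1 := add_comm _ _
      have e2 : c + c * i = c * (i + 1) := by ring
      simp only [e1, e2]
    rw [Finset.prod_congr rfl h1]
    apply prod_shift p (fun i => f i (c * i) u)
    have := hper1 0 (c * p) u
    rw [zero_add] at this
    rw [this]
    have := hperB c 0 0 u
    rw [zero_add] at this
    rw [this, Nat.mul_zero]
  have hNinf : ∏ j ∈ range p, f 0 j u ∈ F := by
    apply hfix 0 1 (fun h => hp1 h.2)
    rw [map_prod]
    have h1 : ∀ j ∈ range p, f 0 1 (f 0 j u) = (fun j => f 0 j u) (j + 1) := by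
      intro j _
      rw [hadd]
      have e1 : 1 + j = j + 1 := add_comm _ _
      simp only [e1, add_zero]
    rw [Finset.prod_congr rfl h1]
    apply prod_shift p (fun j => f 0 j u)
    have := hper2 0 0 u
    rw [zero_add] at this
    exact this
  have hT : ∏ i ∈ range p, ∏ j ∈ range p, f i j u ∈ F := by
    apply hfix 1 0 (fun h => hp1 h.1)
    rw [map_prod]
    have h1 : ∀ i ∈ range p, f 1 0 (∏ j ∈ range p, f i j u) =
        (fun i => ∏ j ∈ range p, f i j u) (i + 1) := by
      intro i _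
      rw [map_prod]
      apply Finset.prod_congr rfl
      intro j _
      rw [hadd]
      have e1 : 1 + i = i + 1 := add_comm _ _
      simp only [e1, zero_add]
    rw [Finset.prod_congr rfl h1]
    apply prod_shift p (fun i => ∏ j ∈ range p, f i j u)
    apply Finset.prod_congr rfl
    intro j _
    have := hper1 0 j u
    rw [zero_add] at this
    exact this
  have hid : (∏ c ∈ range p, ∏ i ∈ range p, f i (c * i) u) * ∏ j ∈ range p, f 0 j u =
      u ^ p * ∏ i ∈ range p, ∏ j ∈ range p, f i j u := by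
    rw [Finset.prod_comm]
    obtain ⟨p', rfl⟩ : ∃ p', p = p' + 1 := ⟨p - 1, (Nat.sub_add_cancel hp.pos).symm⟩
    rw [Finset.prod_range_succ' (fun i => ∏ c ∈ range (p' + 1), f i (c * i) u) p',
      Finset.prod_range_succ' (fun i => ∏ j ∈ range (p' + 1), f i j u) p']
    have h0 : ∏ c ∈ range (p' + 1), f 0 (c * 0) u = u ^ (p' + 1) := by
      simp only [Nat.mul_zero, h00, Finset.prod_const, Finset.card_range]
    have h1 : ∀ i ∈ range p', ∏ c ∈ range (p' + 1), f (i + 1) (c * (i + 1)) u =
        ∏ j ∈ range (p' + 1), f (i + 1) j u := by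
      intro i hi
      apply prod_mul_reindex (p' + 1) (i + 1) hp (Nat.succ_pos _)
        (Nat.succ_lt_succ (Finset.mem_range.1 hi)) (fun j => f (i + 1) j u)
      intro m
      exact hper2 _ _ _
    rw [Finset.prod_congr rfl h1, h0]
    ac_rfl
  have hfin : u ^ p = (∏ c ∈ range p, ∏ i ∈ range p, f i (c * i) u) * (∏ j ∈ range p, f 0 j u) *
      (∏ i ∈ range p, ∏ j ∈ range p, f i j u)⁻¹ := by
    rw [hid, mul_inv_cancel_right]
  rw [hfin]
  exact F.mul_mem (F.mul_mem (F.prod_mem (fun c _ => hN c)) hNinf) (F.inv_mem hT)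

theorem gen_lemma' {A : Type*} [Group A] (hcomm : ∀ a b : A, a * b = b * a) (p : ℕ) (hp : p.Prime)
    (f : ℕ → ℕ → A →* A) (h00 : ∀ a, f 0 0 a = a)
    (hadd : ∀ i j i' j' a, f i j (f i' j' a) = f (i + i') (j + j') a)
    (hper1 : ∀ i j a, f (i + p) j a = f i j a) (hper2 : ∀ i j a, f i (j + p) a = f i j a)
    (F : Subgroup A) (hfix : ∀ i j, ¬ (p ∣ i ∧ p ∣ j) → ∀ a, f i j a = a → a ∈ F) (u : A) :
    u ^ p ∈ F := by
  let _ : CommGroup A := { (inferInstance : Group A) with mul_comm := hcomm }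
  exact gen_lemma p hp f h00 hadd hper1 hper2 F hfix u

end Cfsg.Agent.Lib.Helper22.TwoClass
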