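import Mathlib
import Cfsg.Agent.Lib.Helper22.TwoClass3
import Cfsg.Agent.Lib.Helper22.TwoClass4

set_option autoImplicit false

namespace Cfsg.Agent.Lib.Helper22.TwoClass

open Subgroup

variable {G : Type*} [Group G]

def CaseII (G : Type*) [Group G] : Prop :=
  ∀ q : ℕ, q.Prime → ∀ x : G, x ∉ center G → (∃ k : ℕ, orderOf x = q ^ k) →
    ∃ y ∈ Cz x, (orderOf y).Coprime q ∧ y ∉ center G

theorem abelian_primary [Finite G] {n : ℕ} (h : TC G n) (hII : CaseII G) {q k : ℕ} (hq : q.Prime)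
    {x : G} (hx : x ∉ center G) (hk : orderOf x = q ^ k) :
    ∀ a ∈ Cz x, ∀ b ∈ Cz x, a * b = b * a := by
  obtain ⟨y, hy, hycop, hyc⟩ := hII q hq x hx ⟨k, hk⟩
  have h1 : Cz x ≤ Cz y := by
    apply h.Cz_le_of_coprime hx hy
    rw [hk]
    exact Nat.Coprime.pow_left k hycop.symm
  obtain ⟨r, j, w, hr, hw, hwc, hwo⟩ := exists_primary y hyc
  have hj : j ≠ 0 := by
    rintro rfl
    rw [pow_zero, orderOf_eq_one_iff] at hwo
    rw [hwo] at hwc
    exact hwc (Subgroup.one_mem _)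
  have hrq : r ≠ q := by
    rintro rfl
    have h2 : r ∣ orderOf y := by
      have := orderOf_dvd_of_mem_zpowers hw
      rw [hwo] at this
      exact (dvd_pow_self r hj).trans this
    exact (Nat.Prime.coprime_iff_not_dvd hr).1 hycop.symm h2
  have h2 : Cz x ≤ Cz w := h1.trans (Cz_le_of_mem_zpowers hw)
  have h3 : Cz x = Cz w := h.Cz_eq_of_le hx hwc h2
  intro a ha b hb
  have : Fact q.Prime := ⟨hq⟩
  obtain ⟨s, t, hst, -, ⟨i, hi⟩, ht, hs', ht'⟩ := Cfsg.Agent.Lib.Helper22.exists_p_decomp q a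
  have hza : zpowers a ≤ Cz x := by rw [Subgroup.zpowers_le]; exact ha
  have hsC : s ∈ Cz x := hza hs'
  have htC : t ∈ Cz x := hza ht'
  have h4 : Cz x ≤ Cz t := by
    apply h.Cz_le_of_coprime hx htC
    rw [hk]
    exact Nat.Coprime.pow_left k ht.symm
  have h5 : Cz w ≤ Cz s := by
    apply h.Cz_le_of_coprime hwc (h3 ▸ hsC)
    rw [hwo, hi]
    exact Nat.Coprime.pow _ _ ((Nat.coprime_primes hr hq).2 hrq)
  have hbs : b * s = s * b := mem_Cz.1 (h5 (h3 ▸ hb))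
  have hbt : b * t = t * b := mem_Cz.1 (h4 hb)
  rw [hst]
  calc s * t * b = s * (t * b) := by rw [mul_assoc]
    _ = s * (b * t) := by rw [hbt]
    _ = s * b * t := by rw [mul_assoc]
    _ = b * s * t := by rw [hbs]
    _ = b * (s * t) := by rw [mul_assoc]

theorem abelian_Cz [Finite G] {n : ℕ} (h : TC G n) (hII : CaseII G) {g : G} (hg : g ∉ center G) :
    ∀ a ∈ Cz g, ∀ b ∈ Cz g, a * b = b * a := by
  obtain ⟨q, k, w, hq, hw, hwc, hwo⟩ := exists_primary g hg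
  have h1 : Cz g = Cz w := h.Cz_eq_of_pow hwc hw
  rw [h1]
  exact abelian_primary h hII hq hwc hwo

theorem Cz_eq_of_mem [Finite G] {n : ℕ} (h : TC G n) (hII : CaseII G) {g c : G}
    (hg : g ∉ center G) (hc : c ∉ center G) (hcg : c ∈ Cz g) : Cz c = Cz g := by
  symm
  apply h.Cz_eq_of_le hg hc
  intro a ha
  exact mem_Cz.2 (abelian_Cz h hII hg a ha c hcg)

theorem center_of_sylow_center [Finite G] {n p : ℕ} (h : TC G n) [Fact p.Prime] (hpn : p ∣ n)
    (P : Sylow p G) {z : G} (hz : ∀ g ∈ (P : Subgroup G), g * z = z * g) : z ∈ center G := by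
  by_contra hzc
  have h1 : (P : Subgroup G) ≤ Cz z := fun g hg => mem_Cz.2 (hz g hg)
  have h2 := Subgroup.index_dvd_of_le h1
  rw [h.idx_eq hzc] at h2
  exact P.not_dvd_index (hpn.trans h2)

theorem sylow_not_le_center [Finite G] {n p : ℕ} (h : TC G n) [Fact p.Prime] (hpn : p ∣ n)
    (P : Sylow p G) {x0 : G} (hx0 : x0 ∉ center G) : ¬ (P : Subgroup G) ≤ center G := by
  intro hle
  have h1 : (P : Subgroup G) ≤ Cz x0 := hle.trans (center_le_Cz x0)
  have h2 := Subgroup.index_dvd_of_le h1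
  rw [h.idx_eq hx0] at h2
  exact P.not_dvd_index (hpn.trans h2)

theorem exists_z2_sylow [Finite G] {n p : ℕ} (h : TC G n) [Fact p.Prime] (hpn : p ∣ n)
    (P : Sylow p G) {x0 : G} (hx0 : x0 ∉ center G) : ∃ x : G, Z2 p (P : Subgroup G) x :=
  exists_z2 p (P : Subgroup G) P.2
    (fun _ _ hz => center_of_sylow_center h hpn P hz) (sylow_not_le_center h hpn P hx0)

theorem Z2.comm_eq {p : ℕ} {P : Subgroup G} {x : G} (_hx : Z2 p P x) (g : G) :
    x * g = g * x * (x⁻¹ * g⁻¹ * x * g) := by group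

noncomputable def Z2.phi {p : ℕ} {P : Subgroup G} {x : G} (hx : Z2 p P x) : P →* center G :=
  MonoidHom.mk' (fun g => ⟨x⁻¹ * (g : G)⁻¹ * x * (g : G), hx.comm g g.2⟩) (by
    intro g k
    apply Subtype.ext
    have hc : ∀ t : G, t * (x⁻¹ * (g : G)⁻¹ * x * (g : G)) = (x⁻¹ * (g : G)⁻¹ * x * (g : G)) * t :=
      fun t => Subgroup.mem_center_iff.1 (hx.comm g g.2) t
    show x⁻¹ * ((g : G) * (k : G))⁻¹ * x * ((g : G) * (k : G)) =
      (x⁻¹ * (g : G)⁻¹ * x * (g : G)) * (x⁻¹ * (k : G)⁻¹ * x * (k : G))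
    calc x⁻¹ * ((g : G) * (k : G))⁻¹ * x * ((g : G) * (k : G))
        = (x⁻¹ * (k : G)⁻¹ * x) * (x⁻¹ * (g : G)⁻¹ * x * (g : G)) * (k : G) := by group
      _ = (x⁻¹ * (g : G)⁻¹ * x * (g : G)) * (x⁻¹ * (k : G)⁻¹ * x) * (k : G) := by rw [hc]
      _ = (x⁻¹ * (g : G)⁻¹ * x * (g : G)) * (x⁻¹ * (k : G)⁻¹ * x * (k : G)) := by group)

theorem Z2.phi_apply {p : ℕ} {P : Subgroup G} {x : G} (hx : Z2 p P x) (g : P) :
    ((hx.phi g : center G) : G) = x⁻¹ * (g : G)⁻¹ * x * (g : G) := rfl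

theorem Z2.phi_eq_one_iff {p : ℕ} {P : Subgroup G} {x : G} (hx : Z2 p P x) (g : P) :
    hx.phi g = 1 ↔ (g : G) ∈ Cz x := by
  rw [mem_Cz, ← Subtype.coe_inj, hx.phi_apply]
  constructor
  · intro h1
    have : x * (g : G) = (g : G) * x * (x⁻¹ * (g : G)⁻¹ * x * (g : G)) := by group
    rw [this, h1]
    simp
  · intro h1
    calc x⁻¹ * (g : G)⁻¹ * x * (g : G) = x⁻¹ * (g : G)⁻¹ * (x * (g : G)) := by group
      _ = x⁻¹ * (g : G)⁻¹ * ((g : G) * x) := by rw [h1]
      _ = 1 := by group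

theorem Z2.pow_comm {p : ℕ} {P : Subgroup G} {x : G} (hx : Z2 p P x) (g : P) (k : ℕ) :
    x ^ k * (g : G) = (g : G) * x ^ k * ((hx.phi g : center G) : G) ^ k := by
  have hc : ∀ t : G, t * ((hx.phi g : center G) : G) = ((hx.phi g : center G) : G) * t :=
    fun t => Subgroup.mem_center_iff.1 (hx.phi g).2 t
  have hb : x * (g : G) = (g : G) * x * ((hx.phi g : center G) : G) := by
    rw [hx.phi_apply]; group
  induction k with
  | zero => simp
  | succ k ih =>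
    calc x ^ (k + 1) * (g : G) = x * (x ^ k * (g : G)) := by rw [pow_succ']; group
      _ = x * ((g : G) * x ^ k * ((hx.phi g : center G) : G) ^ k) := by rw [ih]
      _ = (x * (g : G)) * x ^ k * ((hx.phi g : center G) : G) ^ k := by group
      _ = (g : G) * x * ((hx.phi g : center G) : G) * x ^ k * ((hx.phi g : center G) : G) ^ k := by
          rw [hb]
      _ = (g : G) * x * (((hx.phi g : center G) : G) * x ^ k) * ((hx.phi g : center G) : G) ^ k := by
          group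
      _ = (g : G) * x * (x ^ k * ((hx.phi g : center G) : G)) * ((hx.phi g : center G) : G) ^ k := by
          rw [hc]
      _ = (g : G) * x ^ (k + 1) * ((hx.phi g : center G) : G) ^ (k + 1) := by
          rw [pow_succ' x k, pow_succ' _ k]; group

theorem Z2.phi_pow {p : ℕ} {P : Subgroup G} {x : G} (hx : Z2 p P x) (g : P) :
    (hx.phi g) ^ p = 1 := by
  have h1 := hx.pow_comm g p
  have h2 : x ^ p * (g : G) = (g : G) * x ^ p := (Subgroup.mem_center_iff.1 hx.pow (g : G)).symm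
  rw [h2] at h1
  apply Subtype.ext
  have h3 : (g : G) * x ^ p * 1 = (g : G) * x ^ p * ((hx.phi g : center G) : G) ^ p := by
    rw [mul_one]; exact h1
  have := mul_left_cancel h3
  simpa using this.symm

theorem Z2.conj_eq_of_phi_eq {p : ℕ} {P : Subgroup G} {x : G} (hx : Z2 p P x)
    (hab : ∀ a ∈ Cz x, ∀ b ∈ Cz x, a * b = b * a) {s t : P} (hst : hx.phi s = hx.phi t)
    {c : G} (hc : c ∈ Cz x) : (s : G) * c * (s : G)⁻¹ = (t : G) * c * (t : G)⁻¹ := by
  have h1 : hx.phi (s⁻¹ * t) = 1 := by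
    rw [map_mul, map_inv, hst, inv_mul_cancel]
  have h2 : ((s⁻¹ * t : P) : G) ∈ Cz x := (hx.phi_eq_one_iff _).1 h1
  have h3 := hab _ h2 c hc
  simp only [Subgroup.coe_mul, Subgroup.coe_inv] at h3
  calc (s : G) * c * (s : G)⁻¹ = (s : G) * (c * ((s : G)⁻¹ * (t : G))) * (t : G)⁻¹ := by group
    _ = (s : G) * ((s : G)⁻¹ * (t : G) * c) * (t : G)⁻¹ := by rw [h3]
    _ = (t : G) * c * (t : G)⁻¹ := by group

end Cfsg.Agent.Lib.Helper22.TwoClass
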