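import Mathlib
import Cfsg.Agent.Lib.Helper22.TwoClass5

set_option autoImplicit false

namespace Cfsg.Agent.Lib.Helper22.TwoClass

open Subgroup

variable {G : Type*} [Group G]

noncomputable def Z2.conjHom {p : ℕ} {P : Subgroup G} {x : G} (hx : Z2 p P x) (t : P) :
    Cz x →* Cz x :=
  MonoidHom.mk' (fun a => ⟨(t : G) * (a : G) * (t : G)⁻¹, hx.conj_mem t.2 a.2⟩) (by
    intro a b
    apply Subtype.ext
    show (t : G) * ((a : G) * (b : G)) * (t : G)⁻¹ =
      ((t : G) * (a : G) * (t : G)⁻¹) * ((t : G) * (b : G) * (t : G)⁻¹)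
    group)

theorem Z2.conjHom_apply {p : ℕ} {P : Subgroup G} {x : G} (hx : Z2 p P x) (t : P) (a : Cz x) :
    ((hx.conjHom t a : Cz x) : G) = (t : G) * (a : G) * (t : G)⁻¹ := rfl

theorem Z2.dependent [Finite G] {n p : ℕ} (h : TC G n) (hII : CaseII G) (hp : p.Prime)
    {P : Subgroup G} {x : G} (hx : Z2 p P x) (hxo : ∃ k : ℕ, orderOf x = p ^ k) (g k : P) :
    ∃ i j : ℕ, (g : G) ^ i * (k : G) ^ j ∈ Cz x ∧ ¬ (p ∣ i ∧ p ∣ j) := by
  by_contra hcon
  push Not at hcon
  obtain ⟨u, hu, hucop, huc⟩ := hII p hp x hx.nc hxo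
  have hab := abelian_Cz h hII hx.nc
  have hcomm : ∀ a b : Cz x, a * b = b * a := fun a b => Subtype.ext (hab a.1 a.2 b.1 b.2)
  have hphi : ∀ i j : ℕ, hx.phi (g ^ i * k ^ j) = (hx.phi g) ^ i * (hx.phi k) ^ j := by
    intro i j
    rw [map_mul, map_pow, map_pow]
  have key := gen_lemma' hcomm p hp (fun i j => hx.conjHom (g ^ i * k ^ j))
    (by
      intro a
      apply Subtype.ext
      rw [hx.conjHom_apply]
      simp)
    (by
      intro i j i' j' a
      apply Subtype.ext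
      rw [hx.conjHom_apply, hx.conjHom_apply, hx.conjHom_apply]
      have h1 : hx.phi ((g ^ i * k ^ j) * (g ^ i' * k ^ j')) = hx.phi (g ^ (i + i') * k ^ (j + j')) := by
        rw [map_mul, hphi, hphi, hphi, pow_add, pow_add]
        calc hx.phi g ^ i * hx.phi k ^ j * (hx.phi g ^ i' * hx.phi k ^ j')
            = hx.phi g ^ i * (hx.phi k ^ j * hx.phi g ^ i') * hx.phi k ^ j' := by group
          _ = hx.phi g ^ i * (hx.phi g ^ i' * hx.phi k ^ j) * hx.phi k ^ j' := by
              rw [mul_comm' (hx.phi k ^ j) (hx.phi g ^ i')]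
          _ = hx.phi g ^ i * hx.phi g ^ i' * (hx.phi k ^ j * hx.phi k ^ j') := by group
      have h2 := hx.conj_eq_of_phi_eq hab h1 a.2
      rw [← h2]
      simp only [Subgroup.coe_mul, Subgroup.coe_pow]
      group)
    (by
      intro i j a
      apply Subtype.ext
      rw [hx.conjHom_apply, hx.conjHom_apply]
      apply hx.conj_eq_of_phi_eq hab _ a.2
      rw [hphi, hphi, pow_add, hx.phi_pow, mul_one])
    (by
      intro i j a
      apply Subtype.ext
      rw [hx.conjHom_apply, hx.conjHom_apply]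
      apply hx.conj_eq_of_phi_eq hab _ a.2
      rw [hphi, hphi, pow_add, hx.phi_pow, mul_one])
    ((center G).subgroupOf (Cz x))
    (by
      intro i j hij a ha
      rw [Subgroup.mem_subgroupOf]
      by_contra hac
      have h1 : Cz (a : G) = Cz x := Cz_eq_of_mem h hII hx.nc hac a.2
      have h2 := congrArg Subtype.val ha
      rw [hx.conjHom_apply] at h2
      have h3 : ((g ^ i * k ^ j : P) : G) ∈ Cz (a : G) := by
        rw [mem_Cz]
        calc ((g ^ i * k ^ j : P) : G) * (a : G)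
            = ((g ^ i * k ^ j : P) : G) * (a : G) * ((g ^ i * k ^ j : P) : G)⁻¹ *
                ((g ^ i * k ^ j : P) : G) := by group
          _ = (a : G) * ((g ^ i * k ^ j : P) : G) := by rw [h2]
      rw [h1] at h3
      simp only [Subgroup.coe_mul, Subgroup.coe_pow] at h3
      exact hij (hcon i j h3))
    ⟨u, hu⟩
  rw [Subgroup.mem_subgroupOf] at key
  simp only [Subgroup.coe_pow] at key
  apply huc
  have hcop : Nat.Coprime p (orderOf u) := hucop.symm
  obtain ⟨m, hm⟩ := exists_pow_eq_self_of_coprime hcop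
  rw [← hm]
  exact Subgroup.pow_mem _ key m

theorem Z2.card_range [Finite G] {n p : ℕ} (h : TC G n) (hII : CaseII G) (hp : p.Prime)
    {P : Subgroup G} {x : G} (hx : Z2 p P x) (hxo : ∃ k : ℕ, orderOf x = p ^ k)
    (hex : ∃ g ∈ P, g ∉ Cz x) : Nat.card hx.phi.range = p := by
  have : Fact p.Prime := ⟨hp⟩
  obtain ⟨g, hgP, hgC⟩ := hex
  have ha1 : hx.phi ⟨g, hgP⟩ ≠ 1 := by
    intro h1
    exact hgC ((hx.phi_eq_one_iff _).1 h1)
  have hao : orderOf (hx.phi ⟨g, hgP⟩) = p := orderOf_eq_prime (hx.phi_pow _) ha1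
  have hrange : hx.phi.range = zpowers (hx.phi ⟨g, hgP⟩) := by
    apply le_antisymm
    · rintro _ ⟨k, rfl⟩
      obtain ⟨i, j, hij, hne⟩ := hx.dependent h hII hp hxo ⟨g, hgP⟩ k
      have h1 : hx.phi ((⟨g, hgP⟩ : P) ^ i * k ^ j) = 1 := by
        rw [hx.phi_eq_one_iff]
        simpa using hij
      rw [map_mul, map_pow, map_pow] at h1
      by_cases hj : p ∣ j
      · exfalso
        obtain ⟨j', rfl⟩ := hj
        rw [pow_mul, hx.phi_pow, one_pow, mul_one] at h1
        have := orderOf_dvd_of_pow_eq_one h1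
        rw [hao] at this
        exact hne ⟨this, dvd_mul_right _ _⟩
      · have hbo : orderOf (hx.phi k) ∣ p := orderOf_dvd_of_pow_eq_one (hx.phi_pow k)
        have hcop : Nat.Coprime j (orderOf (hx.phi k)) :=
          Nat.Coprime.coprime_dvd_right hbo ((Nat.Prime.coprime_iff_not_dvd hp).2 hj).symm
        obtain ⟨m, hm⟩ := exists_pow_eq_self_of_coprime hcop
        rw [← hm]
        apply Subgroup.pow_mem
        have h2 : (hx.phi k) ^ j = ((hx.phi ⟨g, hgP⟩) ^ i)⁻¹ := eq_inv_of_mul_eq_one_right h1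
        rw [h2]
        exact Subgroup.inv_mem _ (Subgroup.pow_mem _ (Subgroup.mem_zpowers _) _)
    · rw [Subgroup.zpowers_le]
      exact ⟨_, rfl⟩
  rw [hrange, Nat.card_zpowers, hao]

theorem Z2.card_inf [Finite G] {n p : ℕ} (h : TC G n) (hII : CaseII G) (hp : p.Prime)
    {P : Subgroup G} {x : G} (hx : Z2 p P x) (hxo : ∃ k : ℕ, orderOf x = p ^ k)
    (hex : ∃ g ∈ P, g ∉ Cz x) : Nat.card (P ⊓ Cz x : Subgroup G) * p = Nat.card P := by
  have h1 := Subgroup.card_mul_index hx.phi.ker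
  rw [Subgroup.index_ker, hx.card_range h hII hp hxo hex] at h1
  have h2 : hx.phi.ker = (P ⊓ Cz x : Subgroup G).subgroupOf P := by
    ext g
    rw [MonoidHom.mem_ker, hx.phi_eq_one_iff, Subgroup.mem_subgroupOf, Subgroup.mem_inf]
    exact ⟨fun hg => ⟨g.2, hg⟩, fun hg => hg.2⟩
  rw [h2, Nat.card_congr (Subgroup.subgroupOfEquivOfLe (inf_le_left : P ⊓ Cz x ≤ P)).toEquiv] at h1
  exact h1

end Cfsg.Agent.Lib.Helper22.TwoClass
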