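import Mathlib
import Cfsg.Agent.Lib.Helper22.Basic
import Cfsg.Agent.Lib.Helper22.TwoClass6

set_option autoImplicit false

namespace Cfsg.Agent.Lib.Helper22.TwoClass

open Subgroup

variable {G : Type*} [Group G]

theorem exists_not_mem_Cz [Finite G] {n p : ℕ} (h : TC G n) [Fact p.Prime] (hpn : p ∣ n)
    (P : Sylow p G) {x : G} (hx : x ∉ center G) : ∃ g ∈ (P : Subgroup G), g ∉ Cz x := by
  by_contra hcon
  push Not at hcon
  apply hx
  apply center_of_sylow_center h hpn P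
  intro g hg
  exact mem_Cz.1 (hcon g hg)

theorem sylow_data [Finite G] {n p : ℕ} (h : TC G n) (hII : CaseII G) [Fact p.Prime]
    (hpn : p ∣ n) (P : Sylow p G) {x0 : G} (hx0 : x0 ∉ center G) :
    ∃ x : G, Z2 p (P : Subgroup G) x ∧ (∃ k : ℕ, orderOf x = p ^ k) ∧
      (∃ g ∈ (P : Subgroup G), g ∉ Cz x) ∧
      Nat.card ((P : Subgroup G) ⊓ Cz x : Subgroup G) * p = Nat.card P := by
  have hp : p.Prime := Fact.out
  obtain ⟨x, hx⟩ := exists_z2_sylow h hpn P hx0
  have hxo : ∃ k : ℕ, orderOf x = p ^ k :=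
    Cfsg.Agent.Lib.Helper22.orderOf_of_mem_pgroup p (P : Subgroup G) P.2 x hx.mem
  have hex := exists_not_mem_Cz h hpn P hx.nc
  exact ⟨x, hx, hxo, hex, hx.card_inf h hII hp hxo hex⟩

theorem sylow_card_Cz [Finite G] {n p : ℕ} (h : TC G n) (hII : CaseII G) [Fact p.Prime]
    (hpn : p ∣ n) (P : Sylow p G) {c : G} (hc : c ∉ center G) (T : Sylow p (Cz c)) :
    Nat.card T * p = Nat.card P := by
  have hp : p.Prime := Fact.out
  have hn : 0 < n := lt_trans Nat.zero_lt_one h.one_lt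
  obtain ⟨x, hx, -, -, hcard⟩ := sylow_data h hII hpn P hc
  have hCc : Nat.card (Cz c) = Nat.card (Cz x) :=
    Nat.eq_of_mul_eq_mul_right hn ((h.card_Cz hc).trans (h.card_Cz hx.nc).symm)
  have hT : Nat.card T = p ^ (Nat.card (Cz x)).factorization p := by
    rw [T.card_eq_multiplicity, hCc]
  have hP : Nat.card P = p ^ (Nat.card G).factorization p := P.card_eq_multiplicity
  have hfac : (Nat.card G).factorization p =
      (Nat.card (Cz x)).factorization p + n.factorization p := by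
    rw [← h.card_Cz hx.nc, Nat.factorization_mul Nat.card_pos.ne' hn.ne']
    rfl
  have hnpos : 0 < n.factorization p := hp.factorization_pos_of_dvd hn.ne' hpn
  have hS : Nat.card ((P : Subgroup G) ⊓ Cz x : Subgroup G) ∣
      p ^ (Nat.card (Cz x)).factorization p :=
    card_pgroup_dvd p inf_le_right (P.2.to_le inf_le_left)
  have h1 : p ^ (Nat.card G).factorization p ∣ p ^ ((Nat.card (Cz x)).factorization p + 1) := by
    rw [← hP, ← hcard, pow_succ]
    exact Nat.mul_dvd_mul_right hS p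
  have h2 := (Nat.pow_dvd_pow_iff_le_right hp.one_lt).1 h1
  have h3 : (Nat.card G).factorization p = (Nat.card (Cz x)).factorization p + 1 := by omega
  rw [hT, hP, h3, pow_succ]

theorem conj_not_mem_center {c v : G} (hc : c ∉ center G) : v * c * v⁻¹ ∉ center G := by
  intro hcon
  apply hc
  have : c = v⁻¹ * (v * c * v⁻¹) * v⁻¹⁻¹ := by group
  rw [this]
  exact (inferInstance : (center G).Normal).conj_mem _ hcon _

theorem Cz_normal [Finite G] {n : ℕ} (h : TC G n) (hII : CaseII G) {c : G} (hc : c ∉ center G) :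
    (Cz c).Normal := by
  rw [← Subgroup.normalizer_eq_top_iff]
  by_contra hnt
  have hidx : (Subgroup.normalizer (Cz c : Set G)).index ≠ 1 := by
    rw [Ne, Subgroup.index_eq_one]; exact hnt
  obtain ⟨p, hp, hpd⟩ := Nat.exists_prime_and_dvd hidx
  have : Fact p.Prime := ⟨hp⟩
  have hpn : p ∣ n := by
    rw [← h.idx_eq hc]
    exact hpd.trans (Subgroup.index_dvd_of_le Subgroup.le_normalizer)
  obtain ⟨T⟩ : Nonempty (Sylow p (Cz c)) := inferInstance
  let TG : Subgroup G := (T : Subgroup (Cz c)).map (Cz c).subtype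
  have hTGle : TG ≤ Cz c := by
    rintro _ ⟨w, -, rfl⟩
    exact w.2
  have hTGcard : Nat.card TG = Nat.card T :=
    Subgroup.card_map_of_injective (Cz c).subtype_injective
  have hTGp : IsPGroup p TG := T.2.map _
  obtain ⟨P', hP'⟩ := hTGp.exists_le_sylow
  have hB1 : Nat.card TG * p = Nat.card P' := by
    rw [hTGcard]; exact sylow_card_Cz h hII hpn P' hc T
  apply P'.not_dvd_index
  refine hpd.trans (Subgroup.index_dvd_of_le ?_)
  have hnorm : (TG.subgroupOf (P' : Subgroup G)).Normal := by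
    apply Subgroup.normal_of_index_eq_minFac_card
    have h1 := Subgroup.card_mul_index (TG.subgroupOf (P' : Subgroup G))
    rw [Nat.card_congr (Subgroup.subgroupOfEquivOfLe hP').toEquiv, ← hB1] at h1
    have h2 : (TG.subgroupOf (P' : Subgroup G)).index = p :=
      Nat.eq_of_mul_eq_mul_left Nat.card_pos h1
    rw [h2]
    have h3 : Nat.card (P' : Subgroup G) = p ^ (Nat.card G).factorization p :=
      P'.card_eq_multiplicity
    have h4 : (Nat.card G).factorization p ≠ 0 := by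
      intro h0
      rw [h0, pow_zero, ← hB1] at h3
      have : p ∣ 1 := h3 ▸ dvd_mul_left p _
      exact hp.one_lt.ne' (Nat.dvd_one.1 this)
    rw [h3, hp.pow_minFac h4]
  have hconj : ∀ v ∈ (P' : Subgroup G), ∀ t ∈ TG, v * t * v⁻¹ ∈ TG := by
    intro v hv t ht
    have h1 : (⟨t, hP' ht⟩ : (P' : Subgroup G)) ∈ TG.subgroupOf (P' : Subgroup G) := by
      rw [Subgroup.mem_subgroupOf]; exact ht
    have h2 := hnorm.conj_mem _ h1 ⟨v, hv⟩
    rw [Subgroup.mem_subgroupOf] at h2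
    simpa using h2
  have hex : ∃ c' ∈ TG, c' ∉ center G := by
    by_contra hcon
    push Not at hcon
    obtain ⟨x', hx', -, -, hcard'⟩ := sylow_data h hII hpn P' hc
    have hle : TG ≤ ((P' : Subgroup G) ⊓ Cz x' : Subgroup G) :=
      le_inf hP' (fun t ht => center_le_Cz x' (hcon t ht))
    have hcardeq : Nat.card ((P' : Subgroup G) ⊓ Cz x' : Subgroup G) ≤ Nat.card TG := by
      have := hcard'.trans hB1.symm
      exact (Nat.eq_of_mul_eq_mul_right hp.pos this).le
    have heq := Subgroup.eq_of_le_of_card_ge hle hcardeq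
    apply hx'.nc
    apply hcon
    rw [heq]
    exact ⟨hx'.mem, self_mem_Cz x'⟩
  obtain ⟨c', hc'T, hc'c⟩ := hex
  have hCc' : Cz c' = Cz c := Cz_eq_of_mem h hII hc hc'c (hTGle hc'T)
  have hfwd : ∀ v ∈ (P' : Subgroup G), ∀ a ∈ Cz c, v * a * v⁻¹ ∈ Cz c := by
    intro v hv a ha
    have h1 : Cz (v * c' * v⁻¹) = Cz c :=
      Cz_eq_of_mem h hII hc (conj_not_mem_center hc'c) (hTGle (hconj v hv c' hc'T))
    rw [← h1]
    apply conj_mem_Cz_conj
    rw [hCc']
    exact ha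
  intro v hv
  rw [Subgroup.mem_normalizer_iff]
  intro a
  constructor
  · exact hfwd v hv a
  · intro ha
    have := hfwd v⁻¹ (Subgroup.inv_mem _ hv) _ ha
    have e : v⁻¹ * (v * a * v⁻¹) * v⁻¹⁻¹ = a := by group
    rwa [e] at this

theorem caseII_false [Finite G] {n : ℕ} (h : TC G n) (hII : CaseII G) {x0 : G}
    (hx0 : x0 ∉ center G) : False := by
  obtain ⟨p, hp, hpn⟩ := Nat.exists_prime_and_dvd h.one_lt.ne'
  have : Fact p.Prime := ⟨hp⟩
  obtain ⟨P⟩ : Nonempty (Sylow p G) := inferInstance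
  obtain ⟨x, hx, hxo, ⟨g, hgP, hgC⟩, -⟩ := sylow_data h hII hpn P hx0
  obtain ⟨u, hu, hucop, huc⟩ := hII p hp x hx.nc hxo
  have hgc : g ∉ center G := fun hg => hgC (center_le_Cz x hg)
  have hNg : (Cz g).Normal := Cz_normal h hII hgc
  have hNu : (Cz u).Normal := Cz_normal h hII huc
  have hCu : Cz u = Cz x := Cz_eq_of_mem h hII hx.nc huc hu
  have hwg : g * u * g⁻¹ * u⁻¹ ∈ Cz g := by
    have h1 : u * g⁻¹ * u⁻¹ ∈ Cz g := hNg.conj_mem _ (Subgroup.inv_mem _ (self_mem_Cz g)) u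
    have h2 : g * u * g⁻¹ * u⁻¹ = g * (u * g⁻¹ * u⁻¹) := by group
    rw [h2]
    exact Subgroup.mul_mem _ (self_mem_Cz g) h1
  have hwu : g * u * g⁻¹ * u⁻¹ ∈ Cz u :=
    Subgroup.mul_mem _ (hNu.conj_mem _ (self_mem_Cz u) g) (Subgroup.inv_mem _ (self_mem_Cz u))
  have hwc : g * u * g⁻¹ * u⁻¹ ∈ center G := by
    by_contra hwc
    have h1 : Cz (g * u * g⁻¹ * u⁻¹) = Cz g := Cz_eq_of_mem h hII hgc hwc hwg
    have h2 : Cz (g * u * g⁻¹ * u⁻¹) = Cz u := Cz_eq_of_mem h hII huc hwc hwu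
    apply hgC
    rw [← hCu, ← h2, h1]
    exact self_mem_Cz g
  have hcw : ∀ t : G, t * (g * u * g⁻¹ * u⁻¹) = (g * u * g⁻¹ * u⁻¹) * t :=
    fun t => Subgroup.mem_center_iff.1 hwc t
  have hpowconj : ∀ j : ℕ, g ^ j * u * (g ^ j)⁻¹ = (g * u * g⁻¹ * u⁻¹) ^ j * u := by
    intro j
    induction j with
    | zero => simp
    | succ j ih =>
      calc g ^ (j + 1) * u * (g ^ (j + 1))⁻¹ = g * (g ^ j * u * (g ^ j)⁻¹) * g⁻¹ := by
            rw [pow_succ']; group
        _ = g * ((g * u * g⁻¹ * u⁻¹) ^ j * u) * g⁻¹ := by rw [ih]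
        _ = (g * (g * u * g⁻¹ * u⁻¹) ^ j) * u * g⁻¹ := by group
        _ = ((g * u * g⁻¹ * u⁻¹) ^ j * g) * u * g⁻¹ := by
            rw [((Commute.pow_right (show Commute g (g * u * g⁻¹ * u⁻¹) from hcw g) j)).eq]
        _ = (g * u * g⁻¹ * u⁻¹) ^ j * (g * u * g⁻¹ * u⁻¹) * u := by group
        _ = (g * u * g⁻¹ * u⁻¹) ^ (j + 1) * u := by rw [pow_succ]
  have hw1 : (g * u * g⁻¹ * u⁻¹) ^ orderOf g = 1 := by
    have := hpowconj (orderOf g)
    rw [pow_orderOf_eq_one, one_mul, inv_one, mul_one] at this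
    have h2 : 1 * u = (g * u * g⁻¹ * u⁻¹) ^ orderOf g * u := by rw [one_mul]; exact this
    exact (mul_right_cancel h2).symm
  have hw2 : (g * u * g⁻¹ * u⁻¹) ^ orderOf u = 1 := by
    have h1 : g * u * g⁻¹ = (g * u * g⁻¹ * u⁻¹) * u := by group
    have h2 : (g * u * g⁻¹) ^ orderOf u = 1 := by
      rw [conj_pow, pow_orderOf_eq_one]; group
    rw [h1, (show Commute (g * u * g⁻¹ * u⁻¹) u from (hcw u).symm).mul_pow, pow_orderOf_eq_one,
      mul_one] at h2
    exact h2
  obtain ⟨kg, hkg⟩ := Cfsg.Agent.Lib.Helper22.orderOf_of_mem_pgroup p (P : Subgroup G) P.2 g hgP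
  have hcop : Nat.Coprime (orderOf g) (orderOf u) := by
    rw [hkg]; exact Nat.Coprime.pow_left _ hucop.symm
  have hwo : orderOf (g * u * g⁻¹ * u⁻¹) = 1 :=
    Nat.eq_one_of_dvd_coprimes hcop (orderOf_dvd_of_pow_eq_one hw1) (orderOf_dvd_of_pow_eq_one hw2)
  rw [orderOf_eq_one_iff] at hwo
  apply hgC
  rw [← hCu, mem_Cz]
  have : g * u = (g * u * g⁻¹ * u⁻¹) * u * g := by group
  rw [this, hwo, one_mul]

theorem exists_caseI [Finite G] {n : ℕ} (h : TC G n) {x0 : G} (hx0 : x0 ∉ center G) :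
    ∃ (q : ℕ) (x : G), CaseI G q x := by
  by_contra hno
  apply caseII_false h _ hx0
  intro q hq x hx hk
  by_contra hcon
  push Not at hcon
  exact hno ⟨q, x, hq, hx, hk, fun y hy hcop => hcon y hy hcop⟩

end Cfsg.Agent.Lib.Helper22.TwoClass
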