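import Mathlib
import Cfsg.Agent.Lib.Helper22.Basic
import Cfsg.Agent.Lib.Helper22.Sylow2
import Cfsg.Agent.Lib.Helper22.TwoClass7

set_option autoImplicit false

namespace Cfsg.Agent.Lib.Helper22.RelClassA

open Subgroup
open Cfsg.Agent.Lib.Helper22.TwoClass

variable {G : Type*} [Group G]

/-- relative two-class-size hypothesis: every element of `N` has `G`-class size `1` or `m` -/
structure RTC (N : Subgroup G) (m : ℕ) : Prop where
  idx : ∀ x ∈ N, (Cz x).index = 1 ∨ (Cz x).index = m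

variable {N : Subgroup G} {m : ℕ}

theorem RTC.idx_eq (h : RTC N m) {x : G} (hxN : x ∈ N) (hx : x ∉ center G) :
    (Cz x).index = m := by
  rcases h.idx x hxN with h1 | h1
  · exact absurd (index_Cz_eq_one_iff.1 h1) hx
  · exact h1

theorem RTC.card_Cz (h : RTC N m) {x : G} (hxN : x ∈ N) (hx : x ∉ center G) :
    Nat.card (Cz x) * m = Nat.card G := by
  rw [← h.idx_eq hxN hx]
  exact Subgroup.card_mul_index _

theorem RTC.m_pos [Finite G] (h : RTC N m) {x : G} (hxN : x ∈ N) (hx : x ∉ center G) : 0 < m := by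
  rw [← h.idx_eq hxN hx]
  exact Nat.pos_of_ne_zero Subgroup.index_ne_zero_of_finite

theorem RTC.card_Cz_eq [Finite G] (h : RTC N m) {x y : G} (hxN : x ∈ N) (hx : x ∉ center G)
    (hyN : y ∈ N) (hy : y ∉ center G) : Nat.card (Cz x) = Nat.card (Cz y) :=
  Nat.eq_of_mul_eq_mul_right (h.m_pos hxN hx) ((h.card_Cz hxN hx).trans (h.card_Cz hyN hy).symm)

theorem RTC.Cz_eq_of_le [Finite G] (h : RTC N m) {x y : G} (hxN : x ∈ N) (hx : x ∉ center G)
    (hyN : y ∈ N) (hy : y ∉ center G) (hle : Cz x ≤ Cz y) : Cz x = Cz y :=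
  Subgroup.eq_of_le_of_card_ge hle (h.card_Cz_eq hyN hy hxN hx).le

theorem RTC.Cz_eq_of_pow [Finite G] (h : RTC N m) {x w : G} (hwN : w ∈ N) (hxc : x ∉ center G)
    (hx : x ∈ zpowers w) : Cz w = Cz x :=
  h.Cz_eq_of_le hwN (not_mem_center_of_zpowers hx hxc) ((Subgroup.zpowers_le.2 hwN) hx) hxc
    (Cz_le_of_mem_zpowers hx)

theorem RTC.Cz_le_of_coprime [Finite G] (h : RTC N m) {x y : G} (hxN : x ∈ N)
    (hx : x ∉ center G) (hyN : y ∈ N) (hy : y ∈ Cz x)
    (hcop : (orderOf x).Coprime (orderOf y)) : Cz x ≤ Cz y := by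
  have hc : Commute x y := (mem_Cz.1 hy).symm
  have h1 : Cz (x * y) = Cz x :=
    h.Cz_eq_of_pow (N.mul_mem hxN hyN) hx (mem_zpowers_mul_of_coprime hc hcop)
  have h2 : y ∈ zpowers (x * y) := by
    have := mem_zpowers_mul_of_coprime hc.symm hcop.symm
    rwa [hc.symm.eq] at this
  rw [← h1]
  exact Cz_le_of_mem_zpowers h2

/-- `x` is a noncentral element of `N` whose `N`-centralizer is central in `Cz x`. -/
structure Blk (N : Subgroup G) (x : G) : Prop where
  mem : x ∈ N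
  nc : x ∉ center G
  cen : ∀ a ∈ N, a ∈ Cz x → Cz x ≤ Cz a

theorem Blk.Cz_eq [Finite G] (h : RTC N m) {x a : G} (hx : Blk N x) (haN : a ∈ N)
    (ha : a ∈ Cz x) (hac : a ∉ center G) : Cz a = Cz x :=
  (h.Cz_eq_of_le hx.mem hx.nc haN hac (hx.cen a haN ha)).symm

theorem Blk.of_mem [Finite G] (h : RTC N m) {x a : G} (hx : Blk N x) (haN : a ∈ N)
    (ha : a ∈ Cz x) (hac : a ∉ center G) : Blk N a := by
  have e := hx.Cz_eq h haN ha hac
  refine ⟨haN, hac, ?_⟩
  intro c hcN hc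
  rw [e] at hc ⊢
  exact hx.cen c hcN hc

theorem Blk.comm {x a b : G} (hx : Blk N x) (haN : a ∈ N) (ha : a ∈ Cz x) (hb : b ∈ Cz x) :
    b * a = a * b :=
  mem_Cz.1 (hx.cen a haN ha hb)

theorem blk_of_coprime_pair [Finite G] (h : RTC N m) {x y : G} {p s i j : ℕ} (hp : p.Prime)
    (hs : s.Prime) (hps : p ≠ s) (hxN : x ∈ N) (hx : x ∉ center G) (hyN : y ∈ N)
    (hy : y ∉ center G) (hyx : y ∈ Cz x) (hox : orderOf x = p ^ i) (hoy : orderOf y = s ^ j) :
    Cz x = Cz y ∧ Blk N x := by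
  have : Fact p.Prime := ⟨hp⟩
  have hcop : (orderOf x).Coprime (orderOf y) := by
    rw [hox, hoy]
    exact Nat.Coprime.pow _ _ ((Nat.coprime_primes hp hs).2 hps)
  have hle : Cz x ≤ Cz y := h.Cz_le_of_coprime hxN hx hyN hyx hcop
  have heq : Cz x = Cz y := h.Cz_eq_of_le hxN hx hyN hy hle
  refine ⟨heq, hxN, hx, ?_⟩
  intro a haN ha
  obtain ⟨u, v, huv, -, ⟨k, hk⟩, hv, hu', hv'⟩ := Cfsg.Agent.Lib.Helper22.exists_p_decomp p a
  have hzN : zpowers a ≤ N := Subgroup.zpowers_le.2 haN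
  have hzC : zpowers a ≤ Cz x := Subgroup.zpowers_le.2 ha
  have h1 : Cz x ≤ Cz v := by
    apply h.Cz_le_of_coprime hxN hx (hzN hv') (hzC hv')
    rw [hox]
    exact Nat.Coprime.pow_left _ hv.symm
  have h2 : Cz y ≤ Cz u := by
    apply h.Cz_le_of_coprime hyN hy (hzN hu') (heq ▸ hzC hu')
    rw [hoy, hk]
    exact Nat.Coprime.pow _ _ ((Nat.coprime_primes hs hp).2 hps.symm)
  intro g hg
  have hgu : g * u = u * g := mem_Cz.1 (h2 (heq ▸ hg))
  have hgv : g * v = v * g := mem_Cz.1 (h1 hg)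
  rw [mem_Cz, huv]
  calc g * (u * v) = g * u * v := by rw [mul_assoc]
    _ = u * g * v := by rw [hgu]
    _ = u * (g * v) := by rw [mul_assoc]
    _ = u * (v * g) := by rw [hgv]
    _ = u * v * g := by rw [mul_assoc]

/-- every `r`-element lies in a normal subgroup containing a Sylow `r`-subgroup -/
theorem relem_mem [Finite G] {r : ℕ} [Fact r.Prime] (R : Sylow r G) [N.Normal]
    (hRN : (R : Subgroup G) ≤ N) {g : G} {k : ℕ} (hg : orderOf g = r ^ k) : g ∈ N := by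
  have hpg : IsPGroup r (zpowers g) := by
    apply IsPGroup.of_card (n := k)
    rw [Nat.card_zpowers, hg]
  obtain ⟨Q, hQ⟩ := hpg.exists_le_sylow
  obtain ⟨c, hc⟩ := MulAction.exists_smul_eq G R Q
  have h1 : g ∈ ((c • R : Sylow r G) : Subgroup G) := by
    rw [hc]; exact hQ (Subgroup.mem_zpowers g)
  rw [Cfsg.Agent.Lib.Helper22.mem_smul_sylow_iff] at h1
  have h2 : c⁻¹ * g * c ∈ N := hRN h1
  have h3 := (inferInstance : N.Normal).conj_mem _ h2 c
  have e : c * (c⁻¹ * g * c) * c⁻¹ = g := by group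
  rwa [e] at h3

theorem pgroup_le [Finite G] {r : ℕ} [Fact r.Prime] (R : Sylow r G) [N.Normal]
    (hRN : (R : Subgroup G) ≤ N) (P : Subgroup G) (hP : IsPGroup r P) : P ≤ N := by
  intro g hg
  obtain ⟨k, hk⟩ := Cfsg.Agent.Lib.Helper22.orderOf_of_mem_pgroup r P hP g hg
  exact relem_mem R hRN hk

/-- a central `r`-element lies in every Sylow `r`-subgroup -/
theorem central_relem_mem [Finite G] {r : ℕ} [Fact r.Prime] (R : Sylow r G) {z : G} {k : ℕ}
    (hz : z ∈ center G) (hzo : orderOf z = r ^ k) : z ∈ (R : Subgroup G) := by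
  have hpg : IsPGroup r (zpowers z) := by
    apply IsPGroup.of_card (n := k)
    rw [Nat.card_zpowers, hzo]
  obtain ⟨Q, hQ⟩ := hpg.exists_le_sylow
  obtain ⟨c, hc⟩ := MulAction.exists_smul_eq G R Q
  have h1 : z ∈ ((c • R : Sylow r G) : Subgroup G) := by
    rw [hc]; exact hQ (Subgroup.mem_zpowers z)
  rw [Cfsg.Agent.Lib.Helper22.mem_smul_sylow_iff] at h1
  have e : c⁻¹ * z * c = z := by
    rw [mul_assoc, (Subgroup.mem_center_iff.1 hz c).symm, ← mul_assoc, inv_mul_cancel, one_mul]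
  rwa [e] at h1

end Cfsg.Agent.Lib.Helper22.RelClassA
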