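import Mathlib
import Cfsg.Agent.Lib.Helper22.RelClassA

set_option autoImplicit false

namespace Cfsg.Agent.Lib.Helper22.RelClassB

open Subgroup
open Cfsg.Agent.Lib.Helper22.TwoClass
open Cfsg.Agent.Lib.Helper22.RelClassA

variable {G : Type*} [Group G] {N : Subgroup G} {m : ℕ}

/-- Type I exclusion: a noncentral `q`-element of `N` (`q ≠ r`) commutes with a noncentral
`r`-element having the same centralizer, and that centralizer is a block. -/
theorem exists_relem_blk [Finite G] {r : ℕ} [Fact r.Prime] (R : Sylow r G)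
    (hR : ¬ (R : Subgroup G) ≤ center G) [N.Normal] (hRN : (R : Subgroup G) ≤ N)
    (h : RTC N m) {y : G} {q j : ℕ} (hq : q.Prime) (hqr : q ≠ r) (hyN : y ∈ N)
    (hy : y ∉ center G) (hoy : orderOf y = q ^ j) :
    ∃ (b : G) (k : ℕ), b ∈ N ∧ b ∉ center G ∧ orderOf b = r ^ k ∧ b ∈ Cz y ∧ Cz b = Cz y ∧
      Blk N b := by
  have hr : r.Prime := Fact.out
  obtain ⟨Rx⟩ : Nonempty (Sylow r (Cz y)) := inferInstance
  let Rg : Subgroup G := (Rx : Subgroup (Cz y)).map (Cz y).subtype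
  have hRgcard : Nat.card Rg = r ^ (Nat.card (Cz y)).factorization r := by
    rw [Subgroup.card_map_of_injective (Cz y).subtype_injective]
    exact Rx.card_eq_multiplicity
  have hRgp : IsPGroup r Rg := Rx.2.map _
  have hex : ∃ b ∈ Rg, b ∉ center G := by
    by_contra hcon
    push Not at hcon
    have hRgc : Rg ≤ center G := hcon
    obtain ⟨u, huR, huc⟩ := Set.not_subset.1 hR
    have huN : u ∈ N := hRN huR
    have hcard : Nat.card (Cz u) = Nat.card (Cz y) := h.card_Cz_eq huN huc hyN hy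
    have hRgn : Rg.Normal := by
      constructor
      intro a ha g
      have := Subgroup.mem_center_iff.1 (hRgc ha) g
      rw [this, mul_inv_cancel_right]
      exact ha
    have hup : IsPGroup r (zpowers u) := by
      obtain ⟨k, hk⟩ := Cfsg.Agent.Lib.Helper22.orderOf_of_mem_pgroup r (R : Subgroup G) R.2 u huR
      apply IsPGroup.of_card (n := k)
      rw [Nat.card_zpowers, hk]
    have hTp : IsPGroup r (zpowers u ⊔ Rg : Subgroup G) := IsPGroup.to_sup_of_normal_right hup hRgp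
    have hTle : (zpowers u ⊔ Rg : Subgroup G) ≤ Cz u := by
      apply sup_le
      · rw [Subgroup.zpowers_le]; exact self_mem_Cz u
      · exact hRgc.trans (center_le_Cz u)
    have h1 := card_pgroup_dvd r hTle hTp
    rw [hcard, ← hRgcard] at h1
    have h2 : Rg = zpowers u ⊔ Rg :=
      Subgroup.eq_of_le_of_card_ge le_sup_right (Nat.le_of_dvd Nat.card_pos h1)
    apply huc
    apply hRgc
    rw [h2]
    exact le_sup_left (a := zpowers u) (Subgroup.mem_zpowers u)
  obtain ⟨b, hbRg, hbc⟩ := hex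
  obtain ⟨k, hk⟩ := Cfsg.Agent.Lib.Helper22.orderOf_of_mem_pgroup r Rg hRgp b hbRg
  have hbCy : b ∈ Cz y := by
    obtain ⟨w, -, rfl⟩ := hbRg
    exact w.2
  have hbN : b ∈ N := relem_mem R hRN hk
  have hyb : y ∈ Cz b := mem_Cz.2 (mem_Cz.1 hbCy).symm
  obtain ⟨heq, hblk⟩ := blk_of_coprime_pair h hr hq hqr.symm hbN hbc hyN hy hyb hk hoy
  exact ⟨b, k, hbN, hbc, hk, hbCy, heq, hblk⟩

/-- if all `r'`-elements of `N` are central in `G` then `N` is nilpotent -/
theorem nilpotent_of_rprime_central [Finite G] {r : ℕ} [Fact r.Prime] (N : Subgroup G)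
    (hc : ∀ y ∈ N, (orderOf y).Coprime r → y ∈ center G) : Group.IsNilpotent N := by
  have hQ : IsPGroup r (N ⧸ center N) := by
    intro gbar
    induction gbar using QuotientGroup.induction_on with
    | H g =>
      obtain ⟨a, b, hab, -, ⟨k, hk⟩, hb, -, -⟩ := Cfsg.Agent.Lib.Helper22.exists_p_decomp r g
      have hbc : b ∈ center N := by
        have h1 : (b : G) ∈ center G := hc _ b.2 (by rwa [Subgroup.orderOf_coe])
        rw [Subgroup.mem_center_iff]
        intro t
        apply Subtype.ext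
        exact Subgroup.mem_center_iff.1 h1 t
      refine ⟨k, ?_⟩
      have h1 : (QuotientGroup.mk g : N ⧸ center N) = QuotientGroup.mk a := by
        rw [hab, QuotientGroup.mk_mul, (QuotientGroup.eq_one_iff b).2 hbc, mul_one]
      rw [h1, ← QuotientGroup.mk_pow, ← hk, pow_orderOf_eq_one, QuotientGroup.mk_one]
  exact Group.of_quotient_center_nilpotent hQ.isNilpotent

/-- Case A: if `r ∤ m` then `N` is abelian. -/
theorem caseA [Finite G] {r : ℕ} [Fact r.Prime] (R : Sylow r G)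
    (hR : ¬ (R : Subgroup G) ≤ center G) [N.Normal] (hRN : (R : Subgroup G) ≤ N)
    (h : RTC N m) (hrm : ¬ r ∣ m) : ∀ a ∈ N, ∀ b ∈ N, a * b = b * a := by
  have hr : r.Prime := Fact.out
  -- every element of N centralizes a conjugate of R
  have hA1 : ∀ x ∈ N, ∃ c : G, ∀ g ∈ (R : Subgroup G), c * g * c⁻¹ ∈ Cz x := by
    intro x hx
    have hidx : ¬ r ∣ (Cz x).index := by
      rcases h.idx x hx with h1 | h1
      · rw [h1]; exact hr.one_lt.ne' ∘ Nat.dvd_one.1
      · rw [h1]; exact hrm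
    obtain ⟨Q, hQ, -⟩ := Cfsg.Agent.Lib.Helper22.exists_sylow_le_of_pelement r (Cz x) hidx 1
      (Subgroup.one_mem _) 0 (by simp)
    obtain ⟨c, hc⟩ := MulAction.exists_smul_eq G R Q
    refine ⟨c, fun g hg => hQ ?_⟩
    rw [← hc, Cfsg.Agent.Lib.Helper22.mem_smul_sylow_iff]
    have e : c⁻¹ * (c * g * c⁻¹) * c = g := by group
    rwa [e]
  -- Frattini
  have hfrat : ∀ c : G, ∃ n ∈ N, ∃ t ∈ Subgroup.normalizer ((R : Subgroup G) : Set G), c = n * t := by
    intro c
    have h1 := Sylow.normalizer_sup_eq_top (R.subtype hRN)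
    have h2 : ((R.subtype hRN : Sylow r N) : Subgroup N).map N.subtype = (R : Subgroup G) := by
      rw [Sylow.coe_subtype, Subgroup.subgroupOf_map_subtype, inf_eq_left.2 hRN]
    rw [h2] at h1
    have h3 : c ∈ Subgroup.normalizer ((R : Subgroup G) : Set G) ⊔ N := by rw [h1]; trivial
    rw [sup_comm] at h3
    have h4 : c ∈ ((N ⊔ Subgroup.normalizer ((R : Subgroup G) : Set G) : Subgroup G) : Set G) := h3
    rw [Subgroup.normal_mul] at h4
    obtain ⟨n, hn, t, ht, rfl⟩ := Set.mem_mul.1 h4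
    exact ⟨n, hn, t, ht, rfl⟩
  let H : Subgroup G := Subgroup.centralizer ((R : Subgroup G) : Set G) ⊓ N
  have hA2 : ∀ x : N, ∃ n : N, n⁻¹ * x * n ∈ H.subgroupOf N := by
    intro x
    obtain ⟨c, hc⟩ := hA1 x x.2
    obtain ⟨n, hn, t, ht, rfl⟩ := hfrat c
    refine ⟨⟨n, hn⟩, ?_⟩
    rw [Subgroup.mem_subgroupOf]
    have hmemN : n⁻¹ * (x : G) * n ∈ N :=
      Subgroup.mul_mem _ (Subgroup.mul_mem _ (Subgroup.inv_mem _ hn) x.2) hn
    have hcent : n⁻¹ * (x : G) * n ∈ Subgroup.centralizer ((R : Subgroup G) : Set G) := by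
      rw [Subgroup.mem_centralizer_iff]
      intro g hg
      -- g = t g' t⁻¹ with g' = t⁻¹ g t ∈ R
      have hg' : t⁻¹ * g * t ∈ (R : Subgroup G) := by
        have := (Subgroup.mem_normalizer_iff.1 (Subgroup.inv_mem _ ht) g).1 hg
        simpa using this
      have h1 := mem_Cz.1 (hc _ hg')
      have e1 : n * t * (t⁻¹ * g * t) * (n * t)⁻¹ = n * g * n⁻¹ := by group
      rw [e1] at h1
      calc g * (n⁻¹ * (x : G) * n) = n⁻¹ * (n * g * n⁻¹ * (x : G)) * n := by group
        _ = n⁻¹ * ((x : G) * (n * g * n⁻¹)) * n := by rw [h1]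
        _ = n⁻¹ * (x : G) * n * g := by group
    have : ((⟨n, hn⟩ : N)⁻¹ * x * ⟨n, hn⟩ : N).1 = n⁻¹ * (x : G) * n := rfl
    rw [this]
    exact ⟨hcent, hmemN⟩
  have hA3 : H.subgroupOf N = ⊤ :=
    Cfsg.Agent.Lib.Helper22.eq_top_of_conj_cover (H.subgroupOf N) hA2
  have hNle : N ≤ Subgroup.centralizer ((R : Subgroup G) : Set G) := by
    intro x hx
    have h1 : (⟨x, hx⟩ : N) ∈ H.subgroupOf N := by rw [hA3]; trivial
    rw [Subgroup.mem_subgroupOf] at h1
    exact h1.1
  -- elements of R commute with N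
  have hRc : ∀ g ∈ (R : Subgroup G), ∀ x ∈ N, g * x = x * g := by
    intro g hg x hx
    exact (Subgroup.mem_centralizer_iff.1 (hNle hx) g hg)
  obtain ⟨x0, hx0R, hx0c⟩ := Set.not_subset.1 hR
  have hx0N : x0 ∈ N := hRN hx0R
  obtain ⟨k0, hk0⟩ := Cfsg.Agent.Lib.Helper22.orderOf_of_mem_pgroup r (R : Subgroup G) R.2 x0 hx0R
  have hNCz : N ≤ Cz x0 := fun x hx => mem_Cz.2 (hRc x0 hx0R x hx).symm
  -- r'-elements of N are central in N
  have hprime : ∀ y ∈ N, (orderOf y).Coprime r → ∀ x ∈ N, x * y = y * x := by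
    intro y hy hcop x hx
    have h1 : Cz x0 ≤ Cz y := by
      apply h.Cz_le_of_coprime hx0N hx0c hy (hNCz hy)
      rw [hk0]
      exact Nat.Coprime.pow_left _ hcop.symm
    exact mem_Cz.1 (h1 (hNCz hx))
  -- r-elements of N are central in N
  have hrel : ∀ y ∈ N, (∃ k : ℕ, orderOf y = r ^ k) → ∀ x ∈ N, x * y = y * x := by
    intro y _ ⟨k, hk⟩ x hx
    have hpg : IsPGroup r (zpowers y) := by
      apply IsPGroup.of_card (n := k)
      rw [Nat.card_zpowers, hk]
    obtain ⟨Q, hQ⟩ := hpg.exists_le_sylow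
    obtain ⟨c, hc⟩ := MulAction.exists_smul_eq G R Q
    have h1 : y ∈ ((c • R : Sylow r G) : Subgroup G) := by
      rw [hc]; exact hQ (Subgroup.mem_zpowers y)
    rw [Cfsg.Agent.Lib.Helper22.mem_smul_sylow_iff] at h1
    have hx' : c⁻¹ * x * c ∈ N := by
      have := (inferInstance : N.Normal).conj_mem _ hx c⁻¹
      simpa using this
    have h2 := hRc _ h1 _ hx'
    calc x * y = c * ((c⁻¹ * x * c) * (c⁻¹ * y * c)) * c⁻¹ := by group
      _ = c * ((c⁻¹ * y * c) * (c⁻¹ * x * c)) * c⁻¹ := by rw [h2]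
      _ = y * x := by group
  intro a ha b hb
  obtain ⟨u, v, huv, -, hu, hv, hu', hv'⟩ := Cfsg.Agent.Lib.Helper22.exists_p_decomp r b
  have hzN : zpowers b ≤ N := Subgroup.zpowers_le.2 hb
  have h1 := hrel u (hzN hu') hu a ha
  have h2 := hprime v (hzN hv') hv a ha
  rw [huv]
  calc a * (u * v) = a * u * v := by rw [mul_assoc]
    _ = u * a * v := by rw [h1]
    _ = u * (a * v) := by rw [mul_assoc]
    _ = u * (v * a) := by rw [h2]
    _ = u * v * a := by rw [mul_assoc]

end Cfsg.Agent.Lib.Helper22.RelClassB
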