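import Mathlib
import Cfsg.Agent.Lib.Helper22.RelClassB

set_option autoImplicit false

namespace Cfsg.Agent.Lib.Helper22.RelClassC

open Subgroup
open Cfsg.Agent.Lib.Helper22.TwoClass
open Cfsg.Agent.Lib.Helper22.RelClassA

variable {G : Type*} [Group G] {N : Subgroup G} {m : ℕ}

/-- If `X` has a central Sylow `r`-subgroup `S` then the `r'`-elements of `X` form a subgroup `K`
with `X = S K`. -/
theorem exists_hall_of_central_sylow [Finite G] {r : ℕ} [Fact r.Prime] (X S : Subgroup G)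
    (hS : IsPGroup r S) (hidx : ¬ r ∣ S.relIndex X)
    (hcen : ∀ s ∈ S, ∀ g ∈ X, g * s = s * g) :
    ∃ K : Subgroup G, (∀ g, g ∈ K ↔ g ∈ X ∧ (orderOf g).Coprime r) ∧
      (∀ g ∈ X, ∃ s ∈ S, ∃ k ∈ K, g = s * k) := by
  have hr : r.Prime := Fact.out
  have hnorm : (S.subgroupOf X).Normal := by
    constructor
    intro a ha g
    rw [Subgroup.mem_subgroupOf] at ha ⊢
    have h1 := hcen _ ha _ g.2
    simp only [Subgroup.coe_mul, Subgroup.coe_inv]
    rw [h1, mul_inv_cancel_right]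
    exact ha
  have hSp : IsPGroup r (S.subgroupOf X) := hS.comap_of_injective _ X.subtype_injective
  obtain ⟨e, he⟩ := IsPGroup.iff_card.1 hSp
  have hcop : (Nat.card (S.subgroupOf X)).Coprime (S.subgroupOf X).index := by
    rw [he]
    exact Nat.Coprime.pow_left _ ((Nat.Prime.coprime_iff_not_dvd hr).2 hidx)
  obtain ⟨K', hK'⟩ := Subgroup.exists_right_complement'_of_coprime hcop
  have hcardK' : Nat.card K' = (S.subgroupOf X).index := hK'.symm.index_eq_card.symm
  have hKcop : (Nat.card K').Coprime r := by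
    rw [hcardK']
    exact ((Nat.Prime.coprime_iff_not_dvd hr).2 hidx).symm
  have hdecomp : ∀ g : X, ∃ s ∈ S.subgroupOf X, ∃ k ∈ K', g = s * k := by
    intro g
    obtain ⟨⟨s, k⟩, hsk, -⟩ := (Subgroup.isComplement_iff_existsUnique.1 hK') g
    exact ⟨s.1, s.2, k.1, k.2, hsk.symm⟩
  refine ⟨K'.map X.subtype, ?_, ?_⟩
  · intro g
    constructor
    · rintro ⟨k, hk, rfl⟩
      refine ⟨k.2, ?_⟩
      have h1 : orderOf (⟨k, hk⟩ : K') ∣ Nat.card K' := orderOf_dvd_natCard _
      rw [Subgroup.orderOf_mk] at h1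
      have h2 : orderOf ((X.subtype k : G)) = orderOf k := Subgroup.orderOf_coe k
      rw [h2]
      exact Nat.Coprime.coprime_dvd_left h1 hKcop
    · rintro ⟨hgX, hgcop⟩
      obtain ⟨s, hs, k, hk, hsk⟩ := hdecomp ⟨g, hgX⟩
      have hcomm : Commute s k := by
        have := hcen _ (Subgroup.mem_subgroupOf.1 hs) _ k.2
        exact Subtype.ext this.symm
      have hordg : orderOf (⟨g, hgX⟩ : X) ∣ Nat.card K' := by
        have h1 : orderOf (⟨g, hgX⟩ : X) ∣ Nat.card X := orderOf_dvd_natCard _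
        have h2 : Nat.card X = Nat.card (S.subgroupOf X) * Nat.card K' := by
          rw [hcardK']; exact (Subgroup.card_mul_index _).symm
        rw [h2, he] at h1
        have h3 : (orderOf (⟨g, hgX⟩ : X)).Coprime (r ^ e) := by
          rw [Subgroup.orderOf_mk]
          exact Nat.Coprime.pow_right _ hgcop
        exact h3.dvd_of_dvd_mul_left h1
      have hk1 : k ^ Nat.card K' = 1 := by
        have : (⟨k, hk⟩ : K') ^ Nat.card K' = 1 := pow_card_eq_one'
        exact congrArg Subtype.val this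
      have hs1 : s ^ Nat.card K' = 1 := by
        have h1 : (⟨g, hgX⟩ : X) ^ Nat.card K' = 1 := orderOf_dvd_iff_pow_eq_one.1 hordg
        rw [hsk, hcomm.mul_pow, hk1, mul_one] at h1
        exact h1
      have hso : orderOf s = 1 := by
        have h1 : orderOf s ∣ Nat.card K' := orderOf_dvd_of_pow_eq_one hs1
        have h2 : orderOf s ∣ r ^ e := by
          have : orderOf (⟨s, hs⟩ : S.subgroupOf X) ∣ Nat.card (S.subgroupOf X) :=
            orderOf_dvd_natCard _
          rwa [Subgroup.orderOf_mk, he] at this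
        exact Nat.eq_one_of_dvd_coprimes (Nat.Coprime.pow_right e hKcop) h1 h2
      rw [orderOf_eq_one_iff] at hso
      rw [hso, one_mul] at hsk
      refine ⟨k, hk, ?_⟩
      have := congrArg Subtype.val hsk
      exact this.symm
  · intro g hgX
    obtain ⟨s, hs, k, hk, hsk⟩ := hdecomp ⟨g, hgX⟩
    refine ⟨s, Subgroup.mem_subgroupOf.1 hs, k, ⟨k, hk, rfl⟩, ?_⟩
    have := congrArg Subtype.val hsk
    simpa using this

theorem conj_mem_Cz_of_central_mul {u v c : G} (hc : c ∈ center G) (huv : u * v * u⁻¹ = v * c)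
    {g : G} (hg : g ∈ Cz v) : u * g * u⁻¹ ∈ Cz v := by
  have h1 := conj_mem_Cz_conj u hg
  rwa [huv, Cz_mul_central hc] at h1


/-- coset fixed-point argument: if `X` has a central Sylow `r`-subgroup inside `N` and the
`r`-element `u ∈ N` normalizes `X` then `X ≤ (X ∩ C(u)) N`. -/
theorem le_inf_Cz_sup [Finite G] {r : ℕ} [Fact r.Prime] [N.Normal] (X S : Subgroup G)
    (hS : IsPGroup r S) (hidx : ¬ r ∣ S.relIndex X)
    (hcen : ∀ s ∈ S, ∀ g ∈ X, g * s = s * g) (hSN : S ≤ N) {u : G} {j : ℕ} (huN : u ∈ N)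
    (huo : orderOf u = r ^ j) (hnorm : ∀ g ∈ X, u * g * u⁻¹ ∈ X) :
    X ≤ (X ⊓ Cz u) ⊔ N := by
  classical
  have hr : r.Prime := Fact.out
  obtain ⟨K, hK, hdec⟩ := exists_hall_of_central_sylow X S hS hidx hcen
  intro g hgX
  obtain ⟨s, hs, k, hk, rfl⟩ := hdec g hgX
  apply Subgroup.mul_mem _ (le_sup_right (a := X ⊓ Cz u) (hSN hs))
  -- the set of elements of `K` in the coset `k N`
  let Ω := {h : G // h ∈ K ∧ k⁻¹ * h ∈ N}
  have : Finite Ω := Subtype.finite
  have : Fintype Ω := Fintype.ofFinite Ω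
  have hfmem : ∀ h : Ω, u * h.1 * u⁻¹ ∈ K ∧ k⁻¹ * (u * h.1 * u⁻¹) ∈ N := by
    intro h
    constructor
    · rw [hK]
      refine ⟨hnorm _ ((hK _).1 h.2.1).1, ?_⟩
      have e : u * h.1 * u⁻¹ = MulAut.conj u h.1 := rfl
      rw [e, MulEquiv.orderOf_eq]
      exact ((hK _).1 h.2.1).2
    · have h1 : h.1⁻¹ * u * h.1 ∈ N := by
        have := (inferInstance : N.Normal).conj_mem _ huN h.1⁻¹
        simpa using this
      have e : k⁻¹ * (u * h.1 * u⁻¹) = (k⁻¹ * h.1) * ((h.1⁻¹ * u * h.1) * u⁻¹) := by group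
      rw [e]
      exact N.mul_mem h.2.2 (N.mul_mem h1 (N.inv_mem huN))
  let f : Function.End Ω := fun h => ⟨u * h.1 * u⁻¹, hfmem h⟩
  have hfpow : ∀ n : ℕ, ∀ h : Ω, ((f ^ n) h).1 = u ^ n * h.1 * (u ^ n)⁻¹ := by
    intro n
    induction n with
    | zero => intro h; rw [pow_zero, pow_zero, one_mul, inv_one, mul_one]; rfl
    | succ n ih =>
      intro h
      rw [pow_succ']
      show u * ((f ^ n) h).1 * u⁻¹ = _
      rw [ih, pow_succ']
      group
  have hf1 : f ^ r ^ j = 1 := by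
    funext h
    apply Subtype.ext
    rw [hfpow, ← huo, pow_orderOf_eq_one]
    simp
    rfl
  have hmod := Equiv.Perm.card_fixedPoints_modEq (f := f) hf1
  -- |Ω| = |K ⊓ N|
  have hcardΩ : Fintype.card Ω = Nat.card (K ⊓ N : Subgroup G) := by
    rw [← Nat.card_eq_fintype_card]
    apply Nat.card_congr
    refine ⟨fun h => ⟨k⁻¹ * h.1, K.mul_mem (K.inv_mem hk) h.2.1, h.2.2⟩,
      fun a => ⟨k * a.1, K.mul_mem hk a.2.1, by rw [inv_mul_cancel_left]; exact a.2.2⟩, ?_, ?_⟩
    · intro h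
      apply Subtype.ext
      simp
    · intro a
      apply Subtype.ext
      simp
  have hnd : ¬ r ∣ Nat.card (K ⊓ N : Subgroup G) := by
    intro hd
    obtain ⟨a, ha⟩ := exists_prime_orderOf_dvd_card' r hd
    have h1 : (orderOf (a : G)).Coprime r := ((hK _).1 a.2.1).2
    rw [Subgroup.orderOf_coe, ha] at h1
    exact hr.one_lt.ne' (Nat.coprime_self r |>.1 h1)
  have hfix : 0 < Fintype.card (Function.fixedPoints f) := by
    rcases Nat.eq_zero_or_pos (Fintype.card (Function.fixedPoints f)) with h0 | h0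
    · exfalso
      rw [h0] at hmod
      apply hnd
      rw [← hcardΩ]
      exact (Nat.modEq_zero_iff_dvd).1 hmod
    · exact h0
  obtain ⟨⟨h, hh⟩⟩ := Fintype.card_pos_iff.1 hfix
  have hh' : u * h.1 * u⁻¹ = h.1 := congrArg Subtype.val hh
  have hhCz : h.1 ∈ Cz u := by
    rw [mem_Cz]
    calc h.1 * u = u⁻¹ * (u * h.1 * u⁻¹) * u * u := by group
      _ = u⁻¹ * h.1 * u * u := by rw [hh']
      _ = u * h.1 := by
          have : h.1 = u⁻¹ * h.1 * u := by
            calc h.1 = u⁻¹ * (u * h.1 * u⁻¹) * u := by group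
              _ = u⁻¹ * h.1 * u := by rw [hh']
          rw [← this]
          exact (mul_inv_eq_iff_eq_mul.1 hh').symm
  have e : k = h.1 * (k⁻¹ * h.1)⁻¹ := by group
  rw [e]
  apply Subgroup.mul_mem
  · exact le_sup_left (b := N) ⟨((hK _).1 h.2.1).1, hhCz⟩
  · exact le_sup_right (a := X ⊓ Cz u) (N.inv_mem h.2.2)


/-- data of a central Sylow `r`-subgroup of `Cz v` inside `N` -/
structure CSyl (N : Subgroup G) (r : ℕ) (v : G) (S : Subgroup G) : Prop where
  pg : IsPGroup r S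
  idx : ¬ r ∣ S.relIndex (Cz v)
  cen : ∀ s ∈ S, ∀ g ∈ Cz v, g * s = s * g
  leN : S ≤ N

theorem card_inf_mul_relIndex (X : Subgroup G) (N : Subgroup G) :
    Nat.card (X ⊓ N : Subgroup G) * N.relIndex X = Nat.card X := by
  have h1 := Cfsg.Agent.Lib.Helper22.card_mul_relIndex_of_le (inf_le_left : X ⊓ N ≤ X)
  rwa [Subgroup.inf_relIndex_left] at h1

/-- (L): two noncentral `r`-elements of `N` with central Sylow subgroups in their centralizers
which normalize each other's centralizers have `N`-centralizers of the same order. -/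
theorem card_CN_eq_of_normalize [Finite G] {r : ℕ} [Fact r.Prime] [N.Normal] (h : RTC N m)
    {u v : G} {i j : ℕ} (huN : u ∈ N) (huc : u ∉ center G) (hvN : v ∈ N) (hvc : v ∉ center G)
    (huo : orderOf u = r ^ j) (hvo : orderOf v = r ^ i) {Su Sv : Subgroup G}
    (hSu : CSyl N r u Su) (hSv : CSyl N r v Sv)
    (hnu : ∀ g ∈ Cz v, u * g * u⁻¹ ∈ Cz v) (hnv : ∀ g ∈ Cz u, v * g * v⁻¹ ∈ Cz u) :
    Nat.card (Cz u ⊓ N : Subgroup G) = Nat.card (Cz v ⊓ N : Subgroup G) := by
  have h1 : Cz v ≤ (Cz v ⊓ Cz u) ⊔ N :=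
    le_inf_Cz_sup (Cz v) Sv hSv.pg hSv.idx hSv.cen hSv.leN huN huo hnu
  have h2 : Cz u ≤ (Cz u ⊓ Cz v) ⊔ N :=
    le_inf_Cz_sup (Cz u) Su hSu.pg hSu.idx hSu.cen hSu.leN hvN hvo hnv
  have h3 : Cz v ⊔ N = Cz u ⊔ N := by
    apply le_antisymm
    · apply sup_le _ le_sup_right
      exact h1.trans (sup_le (inf_le_right.trans le_sup_left) le_sup_right)
    · apply sup_le _ le_sup_right
      exact h2.trans (sup_le (inf_le_right.trans le_sup_left) le_sup_right)
  have h4 : N.relIndex (Cz v) = N.relIndex (Cz u) := by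
    have e1 := Cfsg.Agent.Lib.Helper22.card_sup_normal (Cz v) N
    have e2 := Cfsg.Agent.Lib.Helper22.card_sup_normal (Cz u) N
    rw [h3, e2] at e1
    exact (Nat.eq_of_mul_eq_mul_left Nat.card_pos e1).symm
  have h5 := card_inf_mul_relIndex (Cz v) N
  have h6 := card_inf_mul_relIndex (Cz u) N
  rw [h4] at h5
  have h7 : Nat.card (Cz u) = Nat.card (Cz v) := h.card_Cz_eq huN huc hvN hvc
  rw [h7, ← h5] at h6
  have hpos : 0 < N.relIndex (Cz u) := by
    rcases Nat.eq_zero_or_pos (N.relIndex (Cz u)) with h0 | h0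
    · rw [h0, mul_zero] at h5
      exact absurd h5.symm Nat.card_pos.ne'
    · exact h0
  exact Nat.eq_of_mul_eq_mul_right hpos h6

end Cfsg.Agent.Lib.Helper22.RelClassC
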