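import Mathlib
import Cfsg.Agent.Lib.Helper22.RelClassC

set_option autoImplicit false

namespace Cfsg.Agent.Lib.Helper22.RelClassD

open Subgroup
open Cfsg.Agent.Lib.Helper22.TwoClass
open Cfsg.Agent.Lib.Helper22.RelClassA
open Cfsg.Agent.Lib.Helper22.RelClassC

variable {G : Type*} [Group G] {N : Subgroup G} {m : ℕ}

theorem normal_of_le_center {H : Subgroup G} (hH : H ≤ center G) : H.Normal := by
  constructor
  intro a ha g
  have := Subgroup.mem_center_iff.1 (hH ha) g
  rw [this, mul_inv_cancel_right]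
  exact ha

/-- in the case `|C(v)|_r = r |Z_r|`, `⟨v⟩ Z_r` is a central Sylow subgroup of `C(v)` -/
theorem csyl_of_alpha [Finite G] {r : ℕ} [Fact r.Prime] (R : Sylow r G) [N.Normal]
    (hRN : (R : Subgroup G) ≤ N) {v : G} {i : ℕ} (hvc : v ∉ center G)
    (hvo : orderOf v = r ^ i)
    (hα : r ^ (Nat.card (Cz v)).factorization r =
      r * Nat.card ((R : Subgroup G) ⊓ center G : Subgroup G)) :
    CSyl N r v (zpowers v ⊔ ((R : Subgroup G) ⊓ center G)) := by
  have hr : r.Prime := Fact.out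
  set Z : Subgroup G := (R : Subgroup G) ⊓ center G with hZ
  have hZc : Z ≤ center G := inf_le_right
  have hZn : Z.Normal := normal_of_le_center hZc
  have hZp : IsPGroup r Z := R.2.to_le inf_le_left
  have hvp : IsPGroup r (zpowers v) := by
    apply IsPGroup.of_card (n := i)
    rw [Nat.card_zpowers, hvo]
  have hSp : IsPGroup r (zpowers v ⊔ Z : Subgroup G) := IsPGroup.to_sup_of_normal_right hvp hZp
  have hSle : (zpowers v ⊔ Z : Subgroup G) ≤ Cz v := by
    apply sup_le
    · rw [Subgroup.zpowers_le]; exact self_mem_Cz v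
    · exact hZc.trans (center_le_Cz v)
  have hScen : (zpowers v ⊔ Z : Subgroup G) ≤ Subgroup.centralizer (Cz v : Set G) := by
    apply sup_le
    · rw [Subgroup.zpowers_le, Subgroup.mem_centralizer_iff]
      intro g hg
      exact mem_Cz.1 hg
    · exact hZc.trans (Subgroup.center_le_centralizer _)
  have hcard : Nat.card (zpowers v ⊔ Z : Subgroup G) = r ^ (Nat.card (Cz v)).factorization r := by
    have h1 := card_pgroup_dvd r hSle hSp
    obtain ⟨a, ha⟩ := IsPGroup.iff_card.1 hSp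
    obtain ⟨z, hz⟩ := IsPGroup.iff_card.1 hZp
    have hza : z < a := by
      have h2 : r ^ z ∣ r ^ a := by
        rw [← ha, ← hz]; exact Subgroup.card_dvd_of_le le_sup_right
      have h3 := (Nat.pow_dvd_pow_iff_le_right hr.one_lt).1 h2
      rcases Nat.lt_or_ge z a with h4 | h4
      · exact h4
      · exfalso
        have h5 : z = a := le_antisymm h3 h4
        have h6 : Z = zpowers v ⊔ Z :=
          Subgroup.eq_of_le_of_card_ge le_sup_right (by rw [ha, hz, h5])
        apply hvc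
        apply hZc
        rw [h6]
        exact le_sup_left (b := Z) (Subgroup.mem_zpowers v)
    have h7 : r * Nat.card Z ∣ Nat.card (zpowers v ⊔ Z : Subgroup G) := by
      rw [ha, hz, ← pow_succ']
      exact pow_dvd_pow r hza
    rw [hα] at h1 ⊢
    exact Nat.dvd_antisymm h1 h7
  refine ⟨hSp, ?_, ?_, pgroup_le R hRN _ hSp⟩
  · intro hd
    have h1 := Cfsg.Agent.Lib.Helper22.card_mul_relIndex_of_le hSle
    obtain ⟨F, hF⟩ : ∃ F, F = (Nat.card (Cz v)).factorization r := ⟨_, rfl⟩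
    rw [← hF] at hcard
    have h2 : r ^ (F + 1) ∣ Nat.card (Cz v) := by
      rw [← h1, hcard, pow_succ]
      exact Nat.mul_dvd_mul_left _ hd
    rw [hF] at h2
    exact Nat.pow_succ_factorization_not_dvd Nat.card_pos.ne' hr h2
  · intro s hs g hg
    exact (Subgroup.mem_centralizer_iff.1 (hScen hs) g hg)

theorem card_CN_conj [N.Normal] (c v : G) :
    Nat.card (Cz (c * v * c⁻¹) ⊓ N : Subgroup G) = Nat.card (Cz v ⊓ N : Subgroup G) := by
  apply Nat.card_congr
  refine ⟨fun a => ⟨c⁻¹ * a.1 * c, ?_, ?_⟩, fun a => ⟨c * a.1 * c⁻¹, ?_, ?_⟩, ?_, ?_⟩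
  · have h1 := conj_mem_Cz_conj c⁻¹ a.2.1
    have e : c⁻¹ * (c * v * c⁻¹) * c⁻¹⁻¹ = v := by group
    rw [e, inv_inv] at h1
    exact h1
  · have := (inferInstance : N.Normal).conj_mem _ a.2.2 c⁻¹
    simpa using this
  · exact conj_mem_Cz_conj c a.2.1
  · exact (inferInstance : N.Normal).conj_mem _ a.2.2 c
  · intro a
    apply Subtype.ext
    show c * (c⁻¹ * a.1 * c) * c⁻¹ = a.1
    group
  · intro a
    apply Subtype.ext
    show c⁻¹ * (c * a.1 * c⁻¹) * c = a.1
    group

/-- In the case `|C(v)|_r = r |Z_r|` all noncentral `r`-elements have `N`-centralizers of the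
same order. -/
theorem alpha_const [Finite G] {r : ℕ} [Fact r.Prime] (R : Sylow r G)
    (hR : ¬ (R : Subgroup G) ≤ center G) [N.Normal] (hRN : (R : Subgroup G) ≤ N)
    (h : RTC N m) (hrm : r ∣ m)
    (hα : ∀ v ∈ N, v ∉ center G → r ^ (Nat.card (Cz v)).factorization r =
      r * Nat.card ((R : Subgroup G) ⊓ center G : Subgroup G)) :
    ∃ L : ℕ, ∀ v : G, v ∉ center G → (∃ i : ℕ, orderOf v = r ^ i) →
      Nat.card (Cz v ⊓ N : Subgroup G) = L := by
  have hr : r.Prime := Fact.out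
  have hZ : ∀ z ∈ (R : Subgroup G), (∀ g ∈ (R : Subgroup G), g * z = z * g) → z ∈ center G := by
    intro z hzR hz
    by_contra hzc
    have hle : (R : Subgroup G) ≤ Cz z := fun g hg => mem_Cz.2 (hz g hg)
    have h1 : (Cz z).index ∣ (R : Subgroup G).index := Subgroup.index_dvd_of_le hle
    rw [h.idx_eq (hRN hzR) hzc] at h1
    exact R.not_dvd_index (hrm.trans h1)
  obtain ⟨x, hx⟩ := exists_z2 r (R : Subgroup G) R.2 hZ hR
  obtain ⟨ix, hix⟩ := Cfsg.Agent.Lib.Helper22.orderOf_of_mem_pgroup r (R : Subgroup G) R.2 x hx.mem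
  have hxN : x ∈ N := hRN hx.mem
  have hSx := csyl_of_alpha R hRN hx.nc hix (hα x hxN hx.nc)
  refine ⟨Nat.card (Cz x ⊓ N : Subgroup G), ?_⟩
  rintro v hvc ⟨i, hvo⟩
  -- conjugate v into R
  have hpg : IsPGroup r (zpowers v) := by
    apply IsPGroup.of_card (n := i)
    rw [Nat.card_zpowers, hvo]
  obtain ⟨Q, hQ⟩ := hpg.exists_le_sylow
  obtain ⟨c, hc⟩ := MulAction.exists_smul_eq G R Q
  have h1 : v ∈ ((c • R : Sylow r G) : Subgroup G) := by
    rw [hc]; exact hQ (Subgroup.mem_zpowers v)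
  rw [Cfsg.Agent.Lib.Helper22.mem_smul_sylow_iff] at h1
  set v' := c⁻¹ * v * c with hv'
  have hv'c : v' ∉ center G := by
    intro hcon
    apply hvc
    have := (inferInstance : (center G).Normal).conj_mem _ hcon c
    have e : c * v' * c⁻¹ = v := by rw [hv']; group
    rwa [e] at this
  have hv'o : orderOf v' = r ^ i := by
    have e : v' = MulAut.conj c⁻¹ v := by rw [hv']; simp
    rw [e, MulEquiv.orderOf_eq, hvo]
  have hv'N : v' ∈ N := hRN h1
  have hcard1 : Nat.card (Cz v ⊓ N : Subgroup G) = Nat.card (Cz v' ⊓ N : Subgroup G) := by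
    have := card_CN_conj (N := N) c⁻¹ v
    rw [inv_inv] at this
    exact this.symm
  rw [hcard1]
  have hSv := csyl_of_alpha R hRN hv'c hv'o (hα v' hv'N hv'c)
  apply card_CN_eq_of_normalize h hv'N hv'c hxN hx.nc hv'o hix hSv hSx
  · intro g hg
    exact hx.conj_mem h1 hg
  · intro g hg
    have hc1 := hx.comm v'⁻¹ (Subgroup.inv_mem _ h1)
    rw [inv_inv] at hc1
    have e1 : x * (x⁻¹ * v' * x * v'⁻¹) * x⁻¹ = x⁻¹ * v' * x * v'⁻¹ := by
      rw [Subgroup.mem_center_iff.1 hc1 x, mul_inv_cancel_right]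
    have e2 : x * v' * x⁻¹ = (x * (x⁻¹ * v' * x * v'⁻¹) * x⁻¹)⁻¹ * v' := by group
    rw [e1] at e2
    have hc2 : (x⁻¹ * v' * x * v'⁻¹)⁻¹ ∈ center G := Subgroup.inv_mem _ hc1
    have e3 : x * v' * x⁻¹ = v' * (x⁻¹ * v' * x * v'⁻¹)⁻¹ := by
      rw [e2]; exact (Subgroup.mem_center_iff.1 hc2 v').symm
    exact conj_mem_Cz_of_central_mul hc2 e3 hg

end Cfsg.Agent.Lib.Helper22.RelClassD
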