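import Mathlib
import Cfsg.Agent.Lib.Helper22.RelClassD

set_option autoImplicit false

namespace Cfsg.Agent.Lib.Helper22.RelClassE

open Subgroup
open scoped commutatorElement
open Cfsg.Agent.Lib.Helper22.TwoClass
open Cfsg.Agent.Lib.Helper22.RelClassA

variable {G : Type*} [Group G] {N : Subgroup G} {m : ℕ}

/-- a nontrivial normal subgroup of a nilpotent group meets the center nontrivially -/
theorem normal_inf_center_ne_bot' {Q : Type*} [Group Q] [Group.IsNilpotent Q]
    (M : Subgroup Q) [M.Normal] (hM : M ≠ ⊥) : M ⊓ Subgroup.center Q ≠ ⊥ := by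
  classical
  have hex : ∃ n : ℕ, M ⊓ Subgroup.upperCentralSeries Q n ≠ ⊥ := by
    obtain ⟨n, hn⟩ := Group.IsNilpotent.nilpotent Q
    exact ⟨n, by rw [hn, inf_top_eq]; exact hM⟩
  have hmin : ∀ k, k < Nat.find hex → ¬ (M ⊓ Subgroup.upperCentralSeries Q k ≠ ⊥) :=
    fun k hk => Nat.find_min hex hk
  have hspec := Nat.find_spec hex
  set n := Nat.find hex with hn
  cases hn' : n with
  | zero =>
    rw [hn'] at hspec
    simp at hspec
  | succ k =>
    have hk : M ⊓ Subgroup.upperCentralSeries Q k = ⊥ := by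
      have := hmin k (by omega)
      simpa using this
    rw [hn'] at hspec
    intro hbot
    apply hspec
    rw [eq_bot_iff] at hbot ⊢
    refine le_trans ?_ hbot
    intro x hx
    refine Subgroup.mem_inf.mpr ⟨hx.1, ?_⟩
    rw [Subgroup.mem_center_iff]
    intro y
    have h1 : ⁅x, y⁆ ∈ Subgroup.upperCentralSeries Q k :=
      Subgroup.mem_upperCentralSeries_succ_iff.mp hx.2 y
    have h2 : ⁅x, y⁆ ∈ M := by
      rw [commutatorElement_def]
      have := ‹M.Normal›.conj_mem x⁻¹ (M.inv_mem hx.1) y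
      have h3 : x * y * x⁻¹ * y⁻¹ = x * (y * x⁻¹ * y⁻¹) := by group
      rw [h3]
      exact M.mul_mem hx.1 this
    have h4 : ⁅x, y⁆ ∈ M ⊓ Subgroup.upperCentralSeries Q k := ⟨h2, h1⟩
    rw [hk, Subgroup.mem_bot, commutatorElement_eq_one_iff_mul_comm] at h4
    exact h4.symm

/-- a `Z2`-element of the `p`-group `T` inside a normal subgroup `R0` of `T` -/
theorem exists_z2_in_normal [Finite G] (p : ℕ) [Fact p.Prime] (T R0 : Subgroup G)
    (hT : IsPGroup p T) (hle : R0 ≤ T) (hn : T ≤ Subgroup.normalizer (R0 : Set G))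
    (hnc : ¬ R0 ≤ center G) : ∃ v ∈ R0, Z2 p T v := by
  have hp : p.Prime := Fact.out
  let Zt : Subgroup T := (center G).subgroupOf T
  have hZtn : Zt.Normal := inferInstance
  let Q := T ⧸ Zt
  have hQp : IsPGroup p Q := hT.to_quotient Zt
  have hQnil : Group.IsNilpotent Q := hQp.isNilpotent
  have hR0n : (R0.subgroupOf T).Normal := (Subgroup.normal_subgroupOf_iff_le_normalizer hle).2 hn
  let Rbar : Subgroup Q := (R0.subgroupOf T).map (QuotientGroup.mk' Zt)
  have hRbarn : Rbar.Normal := hR0n.map _ (QuotientGroup.mk'_surjective Zt)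
  have hRbar : Rbar ≠ ⊥ := by
    intro hbot
    apply hnc
    intro w hw
    have h1 : (QuotientGroup.mk' Zt ⟨w, hle hw⟩) ∈ Rbar :=
      ⟨⟨w, hle hw⟩, Subgroup.mem_subgroupOf.2 hw, rfl⟩
    rw [hbot, Subgroup.mem_bot] at h1
    have h2 : (⟨w, hle hw⟩ : T) ∈ Zt := (QuotientGroup.eq_one_iff _).1 h1
    exact Subgroup.mem_subgroupOf.1 h2
  have hne := normal_inf_center_ne_bot' Rbar hRbar
  have hnt : Nontrivial (Rbar ⊓ center Q : Subgroup Q) :=
    (Subgroup.nontrivial_iff_ne_bot _).2 hne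
  have hIp : IsPGroup p (Rbar ⊓ center Q : Subgroup Q) := hQp.to_subgroup _
  have hdvd : p ∣ Nat.card (Rbar ⊓ center Q : Subgroup Q) := by
    rcases hIp.card_eq_or_dvd with h1 | h1
    · exfalso
      have := (Nat.card_eq_one_iff_unique.1 h1).1
      exact not_subsingleton _ this
    · exact h1
  obtain ⟨xc, hxc⟩ := exists_prime_orderOf_dvd_card' p hdvd
  obtain ⟨x0, hx0R, hx0⟩ := xc.2.1
  have hx0R' : (x0 : G) ∈ R0 := Subgroup.mem_subgroupOf.1 hx0R
  have hord : orderOf (QuotientGroup.mk' Zt x0) = p := by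
    rw [hx0, Subgroup.orderOf_coe, hxc]
  have hx0c : x0 ∉ Zt := by
    intro hmem
    have : QuotientGroup.mk' Zt x0 = 1 := (QuotientGroup.eq_one_iff x0).2 hmem
    rw [this, orderOf_one] at hord
    exact hp.one_lt.ne hord
  refine ⟨(x0 : G), hx0R', x0.2, ?_, ?_, ?_⟩
  · intro hxc'
    exact hx0c (Subgroup.mem_subgroupOf.2 hxc')
  · have h1 : (QuotientGroup.mk' Zt (x0 ^ p)) = 1 := by
      rw [map_pow, ← hord, pow_orderOf_eq_one]
    have h2 : x0 ^ p ∈ Zt := (QuotientGroup.eq_one_iff _).1 h1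
    have := Subgroup.mem_subgroupOf.1 h2
    simpa using this
  · intro g hg
    have hcomm : (QuotientGroup.mk' Zt ⟨g, hg⟩) * QuotientGroup.mk' Zt x0 =
        QuotientGroup.mk' Zt x0 * QuotientGroup.mk' Zt ⟨g, hg⟩ := by
      rw [hx0]
      exact Subgroup.mem_center_iff.1 xc.2.2 _
    have h1 : (QuotientGroup.mk' Zt (x0⁻¹ * (⟨g, hg⟩ : T)⁻¹ * x0 * ⟨g, hg⟩)) = 1 := by
      rw [map_mul, map_mul, map_mul, map_inv, map_inv, mul_assoc, ← hcomm]
      group
    have h2 := (QuotientGroup.eq_one_iff _).1 h1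
    have := Subgroup.mem_subgroupOf.1 h2
    simpa using this

/-- normalizers grow in `p`-groups -/
theorem exists_normalizer_not_mem [Finite G] {p : ℕ} [Fact p.Prime] (P H : Subgroup G)
    (hP : IsPGroup p P) (hHP : H ≤ P) (hne : H ≠ P) :
    ∃ t ∈ P, t ∈ Subgroup.normalizer (H : Set G) ∧ t ∉ H := by
  have hnil : Group.IsNilpotent P := hP.isNilpotent
  have hnc : NormalizerCondition P := Group.normalizerCondition_of_isNilpotent
  have hlt : H.subgroupOf P < ⊤ := by
    rw [lt_top_iff_ne_top]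
    intro htop
    apply hne
    apply le_antisymm hHP
    intro x hx
    have : (⟨x, hx⟩ : P) ∈ H.subgroupOf P := by rw [htop]; trivial
    exact Subgroup.mem_subgroupOf.1 this
  have h1 := hnc _ hlt
  obtain ⟨t, htn, htH⟩ := Set.exists_of_ssubset h1
  refine ⟨t, t.2, ?_, fun h => htH (Subgroup.mem_subgroupOf.2 h)⟩
  have h2 : t ∈ (Subgroup.normalizer (H : Set G)).subgroupOf P := by
    rw [Subgroup.subgroupOf_normalizer_eq hHP]; exact htn
  exact Subgroup.mem_subgroupOf.1 h2

end Cfsg.Agent.Lib.Helper22.RelClassE
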