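import Mathlib
import Cfsg.Agent.Lib.Helper22.RelClassE

set_option autoImplicit false

namespace Cfsg.Agent.Lib.Helper22.RelClassF

open Subgroup
open Cfsg.Agent.Lib.Helper22.TwoClass
open Cfsg.Agent.Lib.Helper22.RelClassA

variable {G : Type*} [Group G] {N : Subgroup G} {m : ℕ}

noncomputable def conjHomD [N.Normal] {p : ℕ} {P : Subgroup G} {x : G} (hx : Z2 p P x) (t : P) :
    (Cz x ⊓ N : Subgroup G) →* (Cz x ⊓ N : Subgroup G) :=
  MonoidHom.mk' (fun a => ⟨(t : G) * (a : G) * (t : G)⁻¹, hx.conj_mem t.2 a.2.1,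
    (inferInstance : N.Normal).conj_mem _ a.2.2 _⟩) (by
    intro a b
    apply Subtype.ext
    show (t : G) * ((a : G) * (b : G)) * (t : G)⁻¹ =
      ((t : G) * (a : G) * (t : G)⁻¹) * ((t : G) * (b : G) * (t : G)⁻¹)
    group)

theorem conjHomD_apply [N.Normal] {p : ℕ} {P : Subgroup G} {x : G} (hx : Z2 p P x) (t : P)
    (a : (Cz x ⊓ N : Subgroup G)) :
    ((conjHomD (N := N) hx t a : (Cz x ⊓ N : Subgroup G)) : G) = (t : G) * (a : G) * (t : G)⁻¹ :=
  rfl

theorem conj_eq_of_phi_eq_rel {p : ℕ} {P : Subgroup G} {x : G} (hx : Z2 p P x)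
    (hxB : Blk N x) (hPN : P ≤ N) {s t : P} (hst : hx.phi s = hx.phi t)
    {c : G} (hc : c ∈ Cz x) :
    (s : G) * c * (s : G)⁻¹ = (t : G) * c * (t : G)⁻¹ := by
  have h1 : hx.phi (s⁻¹ * t) = 1 := by
    rw [map_mul, map_inv, hst, inv_mul_cancel]
  have h2 : ((s⁻¹ * t : P) : G) ∈ Cz x := (hx.phi_eq_one_iff _).1 h1
  have h3 := hxB.comm (hPN (s⁻¹ * t : P).2) h2 hc
  simp only [Subgroup.coe_mul, Subgroup.coe_inv] at h3
  calc (s : G) * c * (s : G)⁻¹ = (s : G) * (c * ((s : G)⁻¹ * (t : G))) * (t : G)⁻¹ := by group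
    _ = (s : G) * ((s : G)⁻¹ * (t : G) * c) * (t : G)⁻¹ := by rw [h3]
    _ = (t : G) * c * (t : G)⁻¹ := by group

theorem dependent_rel [Finite G] [N.Normal] (h : RTC N m) {p : ℕ} (hp : p.Prime)
    {P : Subgroup G} {x : G} (hx : Z2 p P x) (hxB : Blk N x) (hPN : P ≤ N)
    (hu : ∃ u ∈ N, u ∈ Cz x ∧ u ∉ center G ∧ (orderOf u).Coprime p) (g k : P) :
    ∃ i j : ℕ, (g : G) ^ i * (k : G) ^ j ∈ Cz x ∧ ¬ (p ∣ i ∧ p ∣ j) := by
  by_contra hcon
  push Not at hcon
  obtain ⟨u, huN, hu, huc, hucop⟩ := hu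
  have hcomm : ∀ a b : (Cz x ⊓ N : Subgroup G), a * b = b * a :=
    fun a b => Subtype.ext (hxB.comm b.2.2 b.2.1 a.2.1)
  have hphi : ∀ i j : ℕ, hx.phi (g ^ i * k ^ j) = (hx.phi g) ^ i * (hx.phi k) ^ j := by
    intro i j
    rw [map_mul, map_pow, map_pow]
  have key := gen_lemma' hcomm p hp (fun i j => conjHomD (N := N) hx (g ^ i * k ^ j))
    (by
      intro a
      apply Subtype.ext
      rw [conjHomD_apply]
      simp)
    (by
      intro i j i' j' a
      apply Subtype.ext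
      rw [conjHomD_apply, conjHomD_apply, conjHomD_apply]
      have h1 : hx.phi ((g ^ i * k ^ j) * (g ^ i' * k ^ j')) =
          hx.phi (g ^ (i + i') * k ^ (j + j')) := by
        rw [map_mul, hphi, hphi, hphi, pow_add, pow_add]
        calc hx.phi g ^ i * hx.phi k ^ j * (hx.phi g ^ i' * hx.phi k ^ j')
            = hx.phi g ^ i * (hx.phi k ^ j * hx.phi g ^ i') * hx.phi k ^ j' := by group
          _ = hx.phi g ^ i * (hx.phi g ^ i' * hx.phi k ^ j) * hx.phi k ^ j' := by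
              rw [mul_comm' (hx.phi k ^ j) (hx.phi g ^ i')]
          _ = hx.phi g ^ i * hx.phi g ^ i' * (hx.phi k ^ j * hx.phi k ^ j') := by group
      have h2 := conj_eq_of_phi_eq_rel hx hxB hPN h1 a.2.1
      rw [← h2]
      simp only [Subgroup.coe_mul, Subgroup.coe_pow]
      group)
    (by
      intro i j a
      apply Subtype.ext
      rw [conjHomD_apply, conjHomD_apply]
      apply conj_eq_of_phi_eq_rel hx hxB hPN _ a.2.1
      rw [hphi, hphi, pow_add, hx.phi_pow, mul_one])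
    (by
      intro i j a
      apply Subtype.ext
      rw [conjHomD_apply, conjHomD_apply]
      apply conj_eq_of_phi_eq_rel hx hxB hPN _ a.2.1
      rw [hphi, hphi, pow_add, hx.phi_pow, mul_one])
    ((center G).subgroupOf (Cz x ⊓ N : Subgroup G))
    (by
      intro i j hij a ha
      rw [Subgroup.mem_subgroupOf]
      by_contra hac
      have h1 : Cz (a : G) = Cz x := hxB.Cz_eq h a.2.2 a.2.1 hac
      have h2 := congrArg Subtype.val ha
      rw [conjHomD_apply] at h2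
      have h3 : ((g ^ i * k ^ j : P) : G) ∈ Cz (a : G) := by
        rw [mem_Cz]
        calc ((g ^ i * k ^ j : P) : G) * (a : G)
            = ((g ^ i * k ^ j : P) : G) * (a : G) * ((g ^ i * k ^ j : P) : G)⁻¹ *
                ((g ^ i * k ^ j : P) : G) := by group
          _ = (a : G) * ((g ^ i * k ^ j : P) : G) := by rw [h2]
      rw [h1] at h3
      simp only [Subgroup.coe_mul, Subgroup.coe_pow] at h3
      exact hij (hcon i j h3))
    ⟨u, hu, huN⟩
  rw [Subgroup.mem_subgroupOf] at key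
  simp only [Subgroup.coe_pow] at key
  apply huc
  have hcop : Nat.Coprime p (orderOf u) := hucop.symm
  obtain ⟨e, he⟩ := exists_pow_eq_self_of_coprime hcop
  rw [← he]
  exact Subgroup.pow_mem _ key e

theorem card_inf_of_dependent [Finite G] {p : ℕ} (hp : p.Prime)
    {P : Subgroup G} {x : G} (hx : Z2 p P x)
    (hdep : ∀ g k : P, ∃ i j : ℕ, (g : G) ^ i * (k : G) ^ j ∈ Cz x ∧ ¬ (p ∣ i ∧ p ∣ j))
    (hex : ∃ g ∈ P, g ∉ Cz x) : Nat.card (P ⊓ Cz x : Subgroup G) * p = Nat.card P := by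
  have : Fact p.Prime := ⟨hp⟩
  obtain ⟨g, hgP, hgC⟩ := hex
  have ha1 : hx.phi ⟨g, hgP⟩ ≠ 1 := by
    intro h1
    exact hgC ((hx.phi_eq_one_iff _).1 h1)
  have hao : orderOf (hx.phi ⟨g, hgP⟩) = p := orderOf_eq_prime (hx.phi_pow _) ha1
  have hrange : hx.phi.range = zpowers (hx.phi ⟨g, hgP⟩) := by
    apply le_antisymm
    · rintro _ ⟨k, rfl⟩
      obtain ⟨i, j, hij, hne⟩ := hdep ⟨g, hgP⟩ k
      have h1 : hx.phi ((⟨g, hgP⟩ : P) ^ i * k ^ j) = 1 := by
        rw [hx.phi_eq_one_iff]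
        simpa using hij
      rw [map_mul, map_pow, map_pow] at h1
      by_cases hj : p ∣ j
      · exfalso
        obtain ⟨j', rfl⟩ := hj
        rw [pow_mul, hx.phi_pow, one_pow, mul_one] at h1
        have := orderOf_dvd_of_pow_eq_one h1
        rw [hao] at this
        exact hne ⟨this, dvd_mul_right _ _⟩
      · have hbo : orderOf (hx.phi k) ∣ p := orderOf_dvd_of_pow_eq_one (hx.phi_pow k)
        have hcop : Nat.Coprime j (orderOf (hx.phi k)) :=
          Nat.Coprime.coprime_dvd_right hbo ((Nat.Prime.coprime_iff_not_dvd hp).2 hj).symm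
        obtain ⟨e, he⟩ := exists_pow_eq_self_of_coprime hcop
        rw [← he]
        apply Subgroup.pow_mem
        have h2 : (hx.phi k) ^ j = ((hx.phi ⟨g, hgP⟩) ^ i)⁻¹ := eq_inv_of_mul_eq_one_right h1
        rw [h2]
        exact Subgroup.inv_mem _ (Subgroup.pow_mem _ (Subgroup.mem_zpowers _) _)
    · rw [Subgroup.zpowers_le]
      exact ⟨_, rfl⟩
  have hcr : Nat.card hx.phi.range = p := by rw [hrange, Nat.card_zpowers, hao]
  have h1 := Subgroup.card_mul_index hx.phi.ker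
  rw [Subgroup.index_ker, hcr] at h1
  have h2 : hx.phi.ker = (P ⊓ Cz x : Subgroup G).subgroupOf P := by
    ext g
    rw [MonoidHom.mem_ker, hx.phi_eq_one_iff, Subgroup.mem_subgroupOf, Subgroup.mem_inf]
    exact ⟨fun hg => ⟨g.2, hg⟩, fun hg => hg.2⟩
  rw [h2, Nat.card_congr (Subgroup.subgroupOfEquivOfLe (inf_le_left : P ⊓ Cz x ≤ P)).toEquiv] at h1
  exact h1

end Cfsg.Agent.Lib.Helper22.RelClassF
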