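import Mathlib
import Cfsg.Agent.Lib.Helper22.RelClassF

set_option autoImplicit false

namespace Cfsg.Agent.Lib.Helper22.RelClassG

open Subgroup
open Cfsg.Agent.Lib.Helper22.TwoClass
open Cfsg.Agent.Lib.Helper22.RelClassA
open Cfsg.Agent.Lib.Helper22.RelClassC
open Cfsg.Agent.Lib.Helper22.RelClassD
open Cfsg.Agent.Lib.Helper22.RelClassE
open Cfsg.Agent.Lib.Helper22.RelClassF

variable {G : Type*} [Group G] {N : Subgroup G} {m : ℕ}

/-- the Sylow `r`-subgroup of the centralizer of a block element -/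
theorem exists_R0 [Finite G] {r : ℕ} [Fact r.Prime] (R : Sylow r G) [N.Normal]
    (hRN : (R : Subgroup G) ≤ N) (h : RTC N m) {b : G} (hb : Blk N b) :
    ∃ R0 : Subgroup G, IsPGroup r R0 ∧ R0 ≤ Cz b ∧ R0 ≤ N ∧
      Nat.card R0 = r ^ (Nat.card (Cz b)).factorization r ∧
      (∀ g ∈ Cz b, (∃ k : ℕ, orderOf g = r ^ k) → g ∈ R0) ∧
      (∀ w ∈ R0, w ∉ center G → Cz w = Cz b) := by
  obtain ⟨Rx⟩ : Nonempty (Sylow r (Cz b)) := inferInstance
  let R0 : Subgroup G := (Rx : Subgroup (Cz b)).map (Cz b).subtype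
  have hcard : Nat.card R0 = r ^ (Nat.card (Cz b)).factorization r := by
    rw [Subgroup.card_map_of_injective (Cz b).subtype_injective]
    exact Rx.card_eq_multiplicity
  have hp : IsPGroup r R0 := Rx.2.map _
  have hle : R0 ≤ Cz b := by
    rintro _ ⟨w, -, rfl⟩
    exact w.2
  have hN : R0 ≤ N := pgroup_le R hRN R0 hp
  refine ⟨R0, hp, hle, hN, hcard, ?_, ?_⟩
  · rintro g hg ⟨k, hk⟩
    have hgN : g ∈ N := relem_mem R hRN hk
    have hcomm : ∀ w ∈ R0, w * g = g * w := fun w hw => hb.comm hgN hg (hle hw)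
    have hgp : IsPGroup r (zpowers g) := by
      apply IsPGroup.of_card (n := k)
      rw [Nat.card_zpowers, hk]
    have hnorm : zpowers g ≤ Subgroup.normalizer (R0 : Set G) := by
      rw [Subgroup.zpowers_le, Subgroup.mem_normalizer_iff]
      intro n
      constructor
      · intro hn
        have e : g * n * g⁻¹ = n := by rw [← hcomm n hn, mul_inv_cancel_right]
        rwa [e]
      · intro hn
        have e1 := hcomm _ hn
        have e2 : g * n = g * (g * n * g⁻¹) := by
          rw [← e1]; group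
        have e : n = g * n * g⁻¹ := mul_left_cancel e2
        rw [e]; exact hn
    have hTp : IsPGroup r (zpowers g ⊔ R0 : Subgroup G) :=
      IsPGroup.to_sup_of_normal_right' hgp hp hnorm
    have hTle : (zpowers g ⊔ R0 : Subgroup G) ≤ Cz b :=
      sup_le (Subgroup.zpowers_le.2 hg) hle
    have h1 := card_pgroup_dvd r hTle hTp
    rw [← hcard] at h1
    have h2 : R0 = zpowers g ⊔ R0 :=
      Subgroup.eq_of_le_of_card_ge le_sup_right (Nat.le_of_dvd Nat.card_pos h1)
    rw [h2]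
    exact le_sup_left (b := R0) (Subgroup.mem_zpowers g)
  · intro w hw hwc
    exact hb.Cz_eq h (hN hw) (hle hw) hwc

/-- `|B| ≤ r |B ∩ A|` when `A` has index `r` in `L ⊇ B` -/
theorem card_le_of_index [Finite G] {r : ℕ} (A B L : Subgroup G) (hAL : A ≤ L) (hBL : B ≤ L)
    (hL : Nat.card L = r * Nat.card A) : Nat.card B ≤ r * Nat.card (B ⊓ A : Subgroup G) := by
  have h1 := card_inf_mul_relIndex B A
  have h2 := Cfsg.Agent.Lib.Helper22.card_mul_relIndex_of_le hAL
  have h3 : A.relIndex L = r := by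
    rw [hL, mul_comm] at h2
    exact Nat.eq_of_mul_eq_mul_right Nat.card_pos h2
  have h4 : A.relIndex B ≤ A.relIndex L := by
    apply Subgroup.relIndex_le_of_le_right hBL
    rw [h3]
    rintro rfl
    rw [zero_mul] at hL
    exact Nat.card_pos.ne' hL
  rw [← h1, mul_comm]
  exact Nat.mul_le_mul_right _ (h3 ▸ h4)


theorem conj_not_center {c v : G} (hv : v ∉ center G) : c * v * c⁻¹ ∉ center G := by
  intro hcon
  apply hv
  have := (inferInstance : (center G).Normal).conj_mem _ hcon c⁻¹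
  have e : c⁻¹ * (c * v * c⁻¹) * c⁻¹⁻¹ = v := by group
  rwa [e] at this

theorem orderOf_conj (c v : G) : orderOf (c * v * c⁻¹) = orderOf v := by
  have e : c * v * c⁻¹ = MulAut.conj c v := rfl
  rw [e, MulEquiv.orderOf_eq]

/-- In the case `|C(b)|_r ≠ r |Z_r|` all noncentral `r`-elements have `N`-centralizers of the
same order as the block element `b`. -/
theorem beta_const [Finite G] {r : ℕ} [Fact r.Prime] (R : Sylow r G) [N.Normal]
    (hRN : (R : Subgroup G) ≤ N) (h : RTC N m) (hrm : r ∣ m)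
    {b : G} (hb : Blk N b) {kb : ℕ} (hbo : orderOf b = r ^ kb)
    (hu : ∃ u ∈ N, u ∈ Cz b ∧ u ∉ center G ∧ (orderOf u).Coprime r)
    (hβ : r ^ (Nat.card (Cz b)).factorization r ≠
      r * Nat.card ((R : Subgroup G) ⊓ center G : Subgroup G)) :
    ∀ v : G, v ∉ center G → (∃ i : ℕ, orderOf v = r ^ i) →
      Nat.card (Cz v ⊓ N : Subgroup G) = Nat.card (Cz b ⊓ N : Subgroup G) := by
  have hr : r.Prime := Fact.out
  have hm0 : m ≠ 0 := (h.m_pos hb.mem hb.nc).ne'
  obtain ⟨R0, hR0p, hR0le, hR0N, hR0card, hR0all, hR0cz⟩ := exists_R0 R hRN h hb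
  obtain ⟨F, hF⟩ : ∃ F, F = (Nat.card (Cz b)).factorization r := ⟨_, rfl⟩
  rw [← hF] at hR0card hβ
  have hbR0 : b ∈ R0 := hR0all b (self_mem_Cz b) ⟨kb, hbo⟩
  have hZeq : (R0 ⊓ center G : Subgroup G) = ((R : Subgroup G) ⊓ center G : Subgroup G) := by
    apply le_antisymm
    · rintro z ⟨hz0, hzc⟩
      obtain ⟨k, hk⟩ := Cfsg.Agent.Lib.Helper22.orderOf_of_mem_pgroup r R0 hR0p z hz0
      exact ⟨central_relem_mem R hzc hk, hzc⟩
    · rintro z ⟨hzR, hzc⟩
      obtain ⟨k, hk⟩ := Cfsg.Agent.Lib.Helper22.orderOf_of_mem_pgroup r (R : Subgroup G) R.2 z hzR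
      exact ⟨hR0all z (center_le_Cz b hzc) ⟨k, hk⟩, hzc⟩
  have hlt : r * Nat.card (R0 ⊓ center G : Subgroup G) < Nat.card R0 := by
    have hZp : IsPGroup r (R0 ⊓ center G : Subgroup G) := hR0p.to_le inf_le_left
    obtain ⟨z, hz⟩ := IsPGroup.iff_card.1 hZp
    have hzF : z < F := by
      have h2 : r ^ z ∣ r ^ F := by
        rw [← hR0card, ← hz]; exact Subgroup.card_dvd_of_le inf_le_left
      have h3 := (Nat.pow_dvd_pow_iff_le_right hr.one_lt).1 h2
      rcases Nat.lt_or_ge z F with h4 | h4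
      · exact h4
      · exfalso
        have h5 : z = F := le_antisymm h3 h4
        have h6 : (R0 ⊓ center G : Subgroup G) = R0 :=
          Subgroup.eq_of_le_of_card_ge inf_le_left (by rw [hR0card, hz, h5])
        apply hb.nc
        have : b ∈ (R0 ⊓ center G : Subgroup G) := by rw [h6]; exact hbR0
        exact this.2
    rw [hz, hR0card, ← pow_succ']
    have h7 : r ^ (z + 1) ≤ r ^ F := Nat.pow_le_pow_right hr.pos hzF
    apply lt_of_le_of_ne h7
    intro heq
    apply hβ
    rw [← hZeq, hz, ← pow_succ', heq]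
  obtain ⟨R', hR'⟩ := hR0p.exists_le_sylow
  have hR'card : Nat.card R' = r ^ (Nat.card G).factorization r := R'.card_eq_multiplicity
  have hfac : (Nat.card G).factorization r = F + m.factorization r := by
    rw [← h.card_Cz hb.mem hb.nc, Nat.factorization_mul Nat.card_pos.ne' hm0, hF]
    rfl
  have hmfac : 0 < m.factorization r := hr.factorization_pos_of_dvd hm0 hrm
  have hR0ne : R0 ≠ (R' : Subgroup G) := by
    intro heq
    have h1 : Nat.card R0 = Nat.card (R' : Subgroup G) := by rw [heq]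
    rw [hR0card, hR'card, hfac] at h1
    have := Nat.pow_right_injective hr.two_le h1
    omega
  set T : Subgroup G := (R' : Subgroup G) ⊓ Subgroup.normalizer (R0 : Set G) with hTdef
  have hTp : IsPGroup r T := R'.2.to_le inf_le_left
  have hR0T : R0 ≤ T := le_inf hR' Subgroup.le_normalizer
  have hTn : T ≤ Subgroup.normalizer (R0 : Set G) := inf_le_right
  have hTN : T ≤ N := pgroup_le R hRN T hTp
  obtain ⟨t, htR', htn, htR0⟩ :=
    exists_normalizer_not_mem (R' : Subgroup G) R0 R'.2 hR' hR0ne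
  have htT : t ∈ T := ⟨htR', htn⟩
  have hTC : ∀ g ∈ T, g ∈ Cz b → g ∈ R0 := fun g hg hgc =>
    hR0all g hgc (Cfsg.Agent.Lib.Helper22.orderOf_of_mem_pgroup r T hTp g hg)
  have hnc : ¬ R0 ≤ center G := fun hle => hb.nc (hle hbR0)
  obtain ⟨v, hvR0, hv⟩ := exists_z2_in_normal r T R0 hTp hR0T hTn hnc
  have hCv : Cz v = Cz b := hR0cz v hvR0 hv.nc
  have hvB : Blk N v := hb.of_mem h (hR0N hvR0) (hR0le hvR0) hv.nc
  have hex : ∃ g ∈ T, g ∉ Cz v := ⟨t, htT, fun hc => htR0 (hTC t htT (hCv ▸ hc))⟩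
  have hu' : ∃ u ∈ N, u ∈ Cz v ∧ u ∉ center G ∧ (orderOf u).Coprime r := by
    rw [hCv]; exact hu
  have hcardT := card_inf_of_dependent hr hv (dependent_rel h hr hv hvB hTN hu') hex
  have hTCz : (T ⊓ Cz v : Subgroup G) = R0 := by
    apply le_antisymm
    · rintro g ⟨hgT, hgC⟩
      exact hTC g hgT (hCv ▸ hgC)
    · exact le_inf hR0T (hCv ▸ hR0le)
  rw [hTCz] at hcardT
  -- T = R'
  have hTR' : T = (R' : Subgroup G) := by
    by_contra hne
    obtain ⟨g, hgR', hgn, hgT⟩ :=
      exists_normalizer_not_mem (R' : Subgroup G) T R'.2 inf_le_left hne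
    let R0g : Subgroup G := R0.map (MulAut.conj g).toMonoidHom
    have hR0gT : R0g ≤ T := by
      rintro _ ⟨w, hw, rfl⟩
      exact (Subgroup.mem_normalizer_iff.1 hgn w).1 (hR0T hw)
    have hR0gcard : Nat.card R0g = Nat.card R0 :=
      Subgroup.card_map_of_injective (MulAut.conj g).injective
    have hint : (R0g ⊓ R0 : Subgroup G) ≤ R0 ⊓ center G := by
      rintro w ⟨⟨w', hw', rfl⟩, hw0⟩
      refine ⟨hw0, ?_⟩
      by_contra hwc
      have hw0' : g * w' * g⁻¹ ∈ R0 := hw0
      have hwc' : g * w' * g⁻¹ ∉ center G := hwc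
      have hw'c : w' ∉ center G := by
        intro hcon
        apply hwc'
        exact (inferInstance : (center G).Normal).conj_mem _ hcon g
      have e1 : Cz (g * w' * g⁻¹) = Cz b := hR0cz _ hw0' hwc'
      have e2 : Cz w' = Cz b := hR0cz _ hw' hw'c
      have hgnorm : ∀ a ∈ Cz b, g * a * g⁻¹ ∈ Cz b := by
        intro a ha
        rw [← e1]
        apply conj_mem_Cz_conj
        rw [e2]; exact ha
      have hsub : R0g ≤ R0 := by
        rintro _ ⟨a, ha, rfl⟩
        obtain ⟨k, hk⟩ := Cfsg.Agent.Lib.Helper22.orderOf_of_mem_pgroup r R0 hR0p a ha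
        apply hR0all _ (hgnorm a (hR0le ha))
        exact ⟨k, by rw [orderOf_conj, hk]⟩
      have heq : R0g = R0 := Subgroup.eq_of_le_of_card_ge hsub hR0gcard.symm.le
      have hgn0 : g ∈ Subgroup.normalizer (R0 : Set G) := by
        rw [Subgroup.mem_normalizer_iff]
        intro n
        constructor
        · intro hn
          rw [← heq]
          exact ⟨n, hn, rfl⟩
        · intro hn
          rw [← heq] at hn
          obtain ⟨n', hn', hnn'⟩ := hn
          have hnn'' : g * n' * g⁻¹ = g * n * g⁻¹ := hnn'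
          have : n' = n := by
            have := mul_right_cancel hnn''
            exact mul_left_cancel this
          rw [← this]; exact hn'
      exact hgT ⟨hgR', hgn0⟩
    have h1 := card_le_of_index R0 R0g T hR0T hR0gT (by rw [← hcardT, mul_comm])
    have h2 : Nat.card (R0g ⊓ R0 : Subgroup G) ≤ Nat.card (R0 ⊓ center G : Subgroup G) :=
      Subgroup.card_le_of_le hint
    rw [hR0gcard] at h1
    exact lt_irrefl _ (lt_of_lt_of_le hlt (h1.trans (Nat.mul_le_mul_left r h2)))
  -- final step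
  rintro v' hv'c ⟨i, hv'o⟩
  have hv'N : v' ∈ N := relem_mem R hRN hv'o
  have hv'p : IsPGroup r (zpowers (⟨v', self_mem_Cz v'⟩ : Cz v')) := by
    apply IsPGroup.of_card (n := i)
    rw [Nat.card_zpowers, Subgroup.orderOf_mk, hv'o]
  obtain ⟨Px, hPx⟩ := hv'p.exists_le_sylow
  let P : Subgroup G := (Px : Subgroup (Cz v')).map (Cz v').subtype
  have hPcard : Nat.card P = r ^ F := by
    rw [Subgroup.card_map_of_injective (Cz v').subtype_injective, Px.card_eq_multiplicity,
      h.card_Cz_eq hv'N hv'c hb.mem hb.nc, hF]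
  have hPp : IsPGroup r P := Px.2.map _
  have hPle : P ≤ Cz v' := by
    rintro _ ⟨w, -, rfl⟩
    exact w.2
  obtain ⟨R'', hR''⟩ := hPp.exists_le_sylow
  obtain ⟨c, hc⟩ := MulAction.exists_smul_eq G R' R''
  have hconjR' : ∀ w ∈ P, c⁻¹ * w * c ∈ (R' : Subgroup G) := by
    intro w hw
    have : w ∈ ((c • R' : Sylow r G) : Subgroup G) := by rw [hc]; exact hR'' hw
    exact (Cfsg.Agent.Lib.Helper22.mem_smul_sylow_iff c w R').1 this
  let P'' : Subgroup G := P.map (MulAut.conj c⁻¹).toMonoidHom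
  have hP''card : Nat.card P'' = r ^ F := by
    rw [Subgroup.card_map_of_injective (MulAut.conj c⁻¹).injective, hPcard]
  have hP''R' : P'' ≤ (R' : Subgroup G) := by
    rintro _ ⟨w, hw, rfl⟩
    have := hconjR' w hw
    simpa using this
  have hP''Cz : P'' ≤ Cz (c⁻¹ * v' * c) := by
    rintro _ ⟨w, hw, rfl⟩
    have := conj_mem_Cz_conj c⁻¹ (hPle hw)
    simpa using this
  have hv''c : c⁻¹ * v' * c ∉ center G := by
    have := conj_not_center (c := c⁻¹) hv'c
    simpa using this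
  have hv''o : orderOf (c⁻¹ * v' * c) = r ^ i := by
    have := orderOf_conj c⁻¹ v'
    rw [inv_inv] at this
    rw [this, hv'o]
  have hcard1 : Nat.card (Cz v' ⊓ N : Subgroup G) =
      Nat.card (Cz (c⁻¹ * v' * c) ⊓ N : Subgroup G) := by
    have := card_CN_conj (N := N) c⁻¹ v'
    rw [inv_inv] at this
    exact this.symm
  rw [hcard1]
  by_cases hv''R0 : c⁻¹ * v' * c ∈ R0
  · rw [hR0cz _ hv''R0 hv''c]
  · exfalso
    have hint : (P'' ⊓ R0 : Subgroup G) ≤ R0 ⊓ center G := by
      rintro w ⟨hwP, hw0⟩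
      refine ⟨hw0, ?_⟩
      by_contra hwc
      have e1 : Cz w = Cz b := hR0cz w hw0 hwc
      have h1 : c⁻¹ * v' * c ∈ Cz w := mem_Cz.2 (mem_Cz.1 (hP''Cz hwP)).symm
      rw [e1] at h1
      exact hv''R0 (hR0all _ h1 ⟨i, hv''o⟩)
    have h1 := card_le_of_index R0 P'' (R' : Subgroup G) hR' hP''R'
      (by rw [← hTR', ← hcardT, mul_comm])
    have h2 : Nat.card (P'' ⊓ R0 : Subgroup G) ≤ Nat.card (R0 ⊓ center G : Subgroup G) :=
      Subgroup.card_le_of_le hint
    rw [hP''card, ← hR0card] at h1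
    exact lt_irrefl _ (lt_of_lt_of_le hlt (h1.trans (Nat.mul_le_mul_left r h2)))

end Cfsg.Agent.Lib.Helper22.RelClassG
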