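import Mathlib
import Cfsg.Agent.Lib.Helper22.RelClassG

set_option autoImplicit false

namespace Cfsg.Agent.Lib.Helper22.RelClassH

open Subgroup
open Cfsg.Agent.Lib.Helper22.TwoClass
open Cfsg.Agent.Lib.Helper22.RelClassA
open Cfsg.Agent.Lib.Helper22.RelClassB
open Cfsg.Agent.Lib.Helper22.RelClassC
open Cfsg.Agent.Lib.Helper22.RelClassD
open Cfsg.Agent.Lib.Helper22.RelClassG

variable {G : Type*} [Group G]

theorem nilpotent_of_comm (N : Subgroup G) (hc : ∀ a ∈ N, ∀ b ∈ N, a * b = b * a) :
    Group.IsNilpotent N := by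
  have hcen : center N = ⊤ := by
    rw [eq_top_iff]
    intro a _
    rw [Subgroup.mem_center_iff]
    intro g
    exact Subtype.ext (hc g g.2 a a.2)
  exact ⟨⟨1, by rw [Subgroup.upperCentralSeries_one, hcen]⟩⟩

theorem centralizer_sub_eq (N : Subgroup G) (x : N) :
    Subgroup.centralizer ({x} : Set N) = (Cz (x : G)).subgroupOf N := by
  ext g
  rw [Subgroup.mem_centralizer_singleton_iff, Subgroup.mem_subgroupOf, mem_Cz]
  constructor
  · intro hg
    have := congrArg Subtype.val hg
    simpa using this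
  · intro hg
    exact Subtype.ext (by simpa using hg)

theorem main [Finite G] (r : ℕ) [Fact r.Prime] (R : Sylow r G)
    (hR : ¬ (R : Subgroup G) ≤ Subgroup.center G) (N : Subgroup G) [N.Normal]
    (hRN : (R : Subgroup G) ≤ N) (m : ℕ)
    (h0 : ∀ x ∈ N, (Subgroup.centralizer ({x} : Set G)).index = 1 ∨
      (Subgroup.centralizer ({x} : Set G)).index = m) : Group.IsNilpotent N := by
  have hr : r.Prime := Fact.out
  have h : RTC N m := ⟨h0⟩
  by_cases hrm : r ∣ m
  swap
  · exact nilpotent_of_comm N (caseA R hR hRN h hrm)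
  by_cases hex : ∃ y ∈ N, y ∉ center G ∧ (orderOf y).Coprime r
  swap
  · push Not at hex
    apply nilpotent_of_rprime_central (r := r) N
    intro y hy hcop
    by_contra hyc
    exact hex y hy hyc hcop
  obtain ⟨y, hyN, hyc, hycop⟩ := hex
  -- a noncentral primary r'-element
  obtain ⟨q, k, w, hq, hwy, hwc, hwo⟩ := exists_primary y hyc
  have hwN : w ∈ N := (Subgroup.zpowers_le.2 hyN) hwy
  have hk : k ≠ 0 := by
    rintro rfl
    rw [pow_zero, orderOf_eq_one_iff] at hwo
    rw [hwo] at hwc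
    exact hwc (Subgroup.one_mem _)
  have hwcop : (orderOf w).Coprime r :=
    Nat.Coprime.coprime_dvd_left (orderOf_dvd_of_mem_zpowers hwy) hycop
  have hqr : q ≠ r := by
    rintro rfl
    rw [hwo] at hwcop
    have : (q).Coprime q := Nat.Coprime.coprime_dvd_left (dvd_pow_self q hk) hwcop
    exact hq.one_lt.ne' ((Nat.coprime_self q).1 this)
  obtain ⟨b, kb, hbN, hbc, hbo, hbCw, hCbw, hbB⟩ :=
    exists_relem_blk R hR hRN h hq hqr hwN hwc hwo
  have hu : ∃ u ∈ N, u ∈ Cz b ∧ u ∉ center G ∧ (orderOf u).Coprime r :=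
    ⟨w, hwN, hCbw ▸ self_mem_Cz w, hwc, hwcop⟩
  -- all noncentral r-elements have the same |C_N|
  have hL : ∃ L : ℕ, ∀ v : G, v ∉ center G → (∃ i : ℕ, orderOf v = r ^ i) →
      Nat.card (Cz v ⊓ N : Subgroup G) = L := by
    by_cases hab : r ^ (Nat.card (Cz b)).factorization r =
        r * Nat.card ((R : Subgroup G) ⊓ center G : Subgroup G)
    · apply alpha_const R hR hRN h hrm
      intro v hvN hvc
      rw [h.card_Cz_eq hvN hvc hbN hbc]
      exact hab
    · exact ⟨_, beta_const R hRN h hrm hbB hbo hu hab⟩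
  obtain ⟨L, hL⟩ := hL
  -- all noncentral elements of N have the same |C_N|
  have hLall : ∀ x ∈ N, x ∉ center G → Nat.card (Cz x ⊓ N : Subgroup G) = L := by
    intro x hxN hxc
    obtain ⟨q', k', w', hq', hw'x, hw'c, hw'o⟩ := exists_primary x hxc
    have hw'N : w' ∈ N := (Subgroup.zpowers_le.2 hxN) hw'x
    have e1 : Cz x = Cz w' := h.Cz_eq_of_pow hxN hw'c hw'x
    rw [e1]
    by_cases hq'r : q' = r
    · subst hq'r
      exact hL w' hw'c ⟨k', hw'o⟩
    · obtain ⟨b', kb', -, hb'c, hb'o, -, hCb'w', -⟩ :=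
        exists_relem_blk R hR hRN h hq' hq'r hw'N hw'c hw'o
      rw [← hCb'w']
      exact hL b' hb'c ⟨kb', hb'o⟩
  have hLpos : 0 < L := by
    rw [← hLall b hbN hbc]; exact Nat.card_pos
  -- class sizes in N
  have hidx : ∀ x : N, (x : G) ∉ center G →
      (Subgroup.centralizer ({x} : Set N)).index = (Cz b).relIndex N := by
    intro x hxc
    rw [centralizer_sub_eq]
    show (Cz (x : G)).relIndex N = (Cz b).relIndex N
    have h1 := card_inf_mul_relIndex N (Cz (x : G))
    have h2 := card_inf_mul_relIndex N (Cz b)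
    rw [inf_comm, hLall x x.2 hxc] at h1
    rw [inf_comm, hLall b hbN hbc, ← h1] at h2
    exact (Nat.eq_of_mul_eq_mul_left hLpos h2).symm
  have hidx1 : ∀ x : N, (x : G) ∈ center G → (Subgroup.centralizer ({x} : Set N)).index = 1 := by
    intro x hxc
    rw [Subgroup.index_eq_one, eq_top_iff]
    intro g _
    rw [Subgroup.mem_centralizer_singleton_iff]
    exact Subtype.ext (Subgroup.mem_center_iff.1 hxc g)
  by_cases hn1 : (Cz b).relIndex N = 1
  · -- N abelian
    apply nilpotent_of_comm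
    intro a ha c hc
    have hcen : ∀ x : N, (Subgroup.centralizer ({x} : Set N)).index = 1 := by
      intro x
      by_cases hxc : (x : G) ∈ center G
      · exact hidx1 x hxc
      · rw [hidx x hxc, hn1]
    have h1 := hcen ⟨c, hc⟩
    rw [Subgroup.index_eq_one] at h1
    have h2 : (⟨a, ha⟩ : N) ∈ Subgroup.centralizer ({(⟨c, hc⟩ : N)} : Set N) := by
      rw [h1]; trivial
    rw [Subgroup.mem_centralizer_singleton_iff] at h2
    exact congrArg Subtype.val h2
  · have hn0 : (Cz b).relIndex N ≠ 0 := by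
      intro h0'
      have h2 := card_inf_mul_relIndex N (Cz b)
      rw [h0', mul_zero] at h2
      exact Nat.card_pos.ne' h2.symm
    have hTC : TC N ((Cz b).relIndex N) := by
      refine ⟨by omega, ?_⟩
      intro x
      by_cases hxc : (x : G) ∈ center G
      · left; exact hidx1 x hxc
      · right; exact hidx x hxc
    have hb0 : (⟨b, hbN⟩ : N) ∉ center N := by
      intro hcon
      have := index_Cz_eq_one_iff.2 hcon
      rw [show Cz (⟨b, hbN⟩ : N) = Subgroup.centralizer ({(⟨b, hbN⟩ : N)} : Set N) from rfl,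
        hidx ⟨b, hbN⟩ hbc] at this
      exact hn1 this
    obtain ⟨q0, x0, hI⟩ := exists_caseI hTC hb0
    have : Fact q0.Prime := ⟨hI.prime⟩
    exact Group.of_quotient_center_nilpotent (hI.quot_pgroup hTC).isNilpotent

end Cfsg.Agent.Lib.Helper22.RelClassH
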