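import Mathlib
import Cfsg.Agent.Lib.Helper22.S6002.Defs
import Cfsg.Agent.Lib.Helper27.SPINVCONJ

/-!
# S6002 row C1 (`invol_fix_dim`) (helper22)
-/

set_option autoImplicit false
set_option linter.unusedSimpArgs false
set_option linter.unusedVariables false
open scoped MatrixGroups

namespace Cfsg.Agent.Lib.Helper22.S6002

open Matrix Module

variable {F : Type*} [Field F]

local notation "I4" => (Fin 2 ⊕ Fin 2)

/-- C1. -/
theorem invol_fix_dim (h2 : (2 : F) ≠ 0) (x : GL (Fin 2 ⊕ Fin 2) F) (hx : x ∈ Cfsg.spGL 2 F)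
    (hx2 : x * x = 1) (h1 : x ≠ 1) (h1' : x ≠ -1) :
    Module.finrank F (LinearMap.ker ((x : Matrix (Fin 2 ⊕ Fin 2) (Fin 2 ⊕ Fin 2) F).mulVecLin - LinearMap.id)) = 2 := by
  classical
  have hM2 : (x : Matrix I4 I4 F) * (x : Matrix I4 I4 F) = 1 := by
    rw [← Units.val_mul, hx2, Units.val_one]
  obtain ⟨k, k', φp, φm, hφp, hφm, -, -, -, hsurj, hinj, hk⟩ :=
    Cfsg.Agent.Lib.Helper27.SpInv.spinv_param h2 2 (x : Matrix I4 I4 F) hM2 hx
  rw [← hk]
  have hbij : Function.Bijective (φp.coprod φm) := by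
    constructor
    · rw [← LinearMap.ker_eq_bot, LinearMap.ker_eq_bot']
      rintro ⟨a, b⟩ hab
      rw [LinearMap.coprod_apply] at hab
      obtain ⟨ha, hb⟩ := hinj a b hab
      rw [ha, hb]
      rfl
    · intro v
      obtain ⟨a, b, hv⟩ := hsurj v
      exact ⟨(a, b), by rw [LinearMap.coprod_apply, hv]⟩
  have hdim := (LinearEquiv.ofBijective (φp.coprod φm) hbij).finrank_eq
  rw [Module.finrank_prod, Module.finrank_fintype_fun_eq_card, Module.finrank_fintype_fun_eq_card,
    Module.finrank_fintype_fun_eq_card, Fintype.card_sum, Fintype.card_sum, Fintype.card_sum, Fintype.card_fin,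
    Fintype.card_fin, Fintype.card_fin] at hdim
  -- k ≥ 1
  have hk1 : 1 ≤ k := by
    by_contra hk0
    have hk0' : k = 0 := by omega
    subst hk0'
    apply h1'
    apply Units.ext
    rw [Units.val_neg, Units.val_one]
    ext i j
    have hv : ∀ v : I4 → F, (x : Matrix I4 I4 F) *ᵥ v = -v := by
      intro v
      obtain ⟨a, b, hv⟩ := hsurj v
      have ha : a = 0 := Subsingleton.elim _ _
      rw [hv, ha, map_zero, zero_add, hφm]
    have := congrFun (hv (Pi.single j 1)) i
    rw [Matrix.mulVec_single_one] at this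
    rw [Matrix.neg_apply, Matrix.one_apply]
    rw [Matrix.col_apply] at this
    rw [this, Pi.neg_apply, Pi.single_apply]
  have hk1' : 1 ≤ k' := by
    by_contra hk0
    have hk0' : k' = 0 := by omega
    subst hk0'
    apply h1
    apply Units.ext
    rw [Units.val_one]
    ext i j
    have hv : ∀ v : I4 → F, (x : Matrix I4 I4 F) *ᵥ v = v := by
      intro v
      obtain ⟨a, b, hv⟩ := hsurj v
      have hb : b = 0 := Subsingleton.elim _ _
      rw [hv, hb, map_zero, add_zero, hφp]
    have := congrFun (hv (Pi.single j 1)) i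
    rw [Matrix.mulVec_single_one] at this
    rw [Matrix.one_apply]
    rw [Matrix.col_apply] at this
    rw [this, Pi.single_apply]
  omega

end Cfsg.Agent.Lib.Helper22.S6002
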