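import Mathlib
import Cfsg.Agent.Lib.Helper22.S6002.Defs
import Cfsg.Agent.Lib.Helper22.S6002M0
import Cfsg.Agent.Lib.Helper22.S6002C1
import Cfsg.Agent.Lib.Helper27.SPINVCONJ
import Cfsg.Agent.Lib.Helper27.SPSQNEG

/-!
# S6002 row C2 (`two_suff`) (helper22)
-/

set_option autoImplicit false
set_option linter.unusedSimpArgs false
set_option linter.unusedVariables false
open scoped MatrixGroups

namespace Cfsg.Agent.Lib.Helper22.S6002

open Matrix Module

variable {F : Type*} [Field F]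

local notation "I4" => (Fin 2 ⊕ Fin 2)

/-- an element anticommuting with another one is not `± 1`. -/
theorem s6002c2_ne_pm (h2 : (2 : F) ≠ 0) (x y : GL I4 F) (h : x * y = -(y * x)) : x ≠ 1 ∧ x ≠ -1 := by
  have key : y ≠ -y := by
    intro hy
    have h1 := congrArg Units.val hy
    rw [Units.val_neg] at h1
    have h3 : (y : Matrix I4 I4 F) * ((y⁻¹ : GL I4 F) : Matrix I4 I4 F) = 1 := by
      rw [← Units.val_mul, mul_inv_cancel, Units.val_one]
    have h4 : (2 : F) • (y : Matrix I4 I4 F) = 0 := by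
      rw [two_smul]
      nth_rewrite 1 [h1]
      rw [neg_add_cancel]
    have h5 : (y : Matrix I4 I4 F) = 0 := by
      rcases smul_eq_zero.mp h4 with h6 | h6
      · exact absurd h6 h2
      · exact h6
    rw [h5, zero_mul] at h3
    have h7 := congrFun (congrFun h3 (Sum.inl 0)) (Sum.inl 0)
    simp at h7
  constructor
  · intro hx
    rw [hx, one_mul, mul_one] at h
    exact key h
  · intro hx
    rw [hx, neg_one_mul, mul_neg_one, neg_neg] at h
    exact key h.symm

/-- C2. -/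
theorem two_suff [Fintype F] {R : Subgroup (GL (Fin 2 ⊕ Fin 2) F)} (hE : ECtx R) (hRf : R ≤ Cfsg.spGL 2 F)
    (e : Fin 4 → GL (Fin 2 ⊕ Fin 2) F) (he : IsFrame R e)
    (x : GL (Fin 2 ⊕ Fin 2) F) (hx : x ∈ Cfsg.spGL 2 F) (hx2 : IsScal (x ^ 2)) (hxs : ¬ IsScal x) :
    ∃ g ∈ Cfsg.spGL 2 F, g⁻¹ * x * g ∈ Nrm R := by
  classical
  have h2 : (2 : F) ≠ 0 := hE.two
  have hx2sp : x ^ 2 ∈ Cfsg.spGL 2 F := (Cfsg.spGL 2 F).pow_mem hx 2
  have hRN : R ≤ Nrm R := Subgroup.le_normalizer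
  rcases sp_scal (x ^ 2) hx2sp hx2 with h1 | h1
  · -- involution
    have hxx : x * x = 1 := by rw [← pow_two]; exact h1
    have hx1 : x ≠ 1 := by
      intro h
      apply hxs
      exact ⟨1, by rw [h, Units.val_one, one_smul]⟩
    have hx1' : x ≠ -1 := by
      intro h
      apply hxs
      exact ⟨-1, by rw [h, Units.val_neg, Units.val_one, neg_smul, one_smul]⟩
    obtain ⟨he1, he1'⟩ := s6002c2_ne_pm h2 (e 0) (e 1) (he.anti 0 1 (by decide))
    have hd1 := invol_fix_dim h2 x hx hxx hx1 hx1'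
    have hd2 := invol_fix_dim h2 (e 0) (hRf (he.mem 0)) (he.sq 0) he1 he1'
    have hxm : (x : Matrix I4 I4 F) * (x : Matrix I4 I4 F) = 1 := by
      rw [← Units.val_mul, hxx, Units.val_one]
    have hem : (e 0 : Matrix I4 I4 F) * (e 0 : Matrix I4 I4 F) = 1 := by
      rw [← Units.val_mul, he.sq 0, Units.val_one]
    obtain ⟨g, hg, hgx⟩ := Cfsg.Agent.Lib.Helper27.SpInv.sp_invol_conj h2 2 x (e 0) hx (hRf (he.mem 0)) hxm hem
      (by rw [hd1, hd2])
    exact ⟨g, hg, by rw [hgx]; exact hRN (he.mem 0)⟩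
  · -- square -1
    have hxx : x * x = -1 := by rw [← pow_two]; exact h1
    have hxm : (x : Matrix I4 I4 F) * (x : Matrix I4 I4 F) = -1 := by
      rw [← Units.val_mul, hxx, Units.val_neg, Units.val_one]
    have h01 : (e 0 * e 1) * (e 0 * e 1) = -1 := by
      have ha := he.anti 1 0 (by decide)
      calc (e 0 * e 1) * (e 0 * e 1) = e 0 * (e 1 * e 0) * e 1 := by simp only [mul_assoc]
        _ = -((e 0 * e 0) * (e 1 * e 1)) := by rw [ha, mul_neg, neg_mul]; simp only [mul_assoc]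
        _ = -1 := by rw [he.sq 0, he.sq 1, one_mul]
    have hym : ((e 0 * e 1 : GL I4 F) : Matrix I4 I4 F) * ((e 0 * e 1 : GL I4 F) : Matrix I4 I4 F) = -1 := by
      rw [← Units.val_mul, h01, Units.val_neg, Units.val_one]
    have hmem : e 0 * e 1 ∈ R := R.mul_mem (he.mem 0) (he.mem 1)
    obtain ⟨g, hg, hgx⟩ := Cfsg.Agent.Lib.Helper27.SpInv.sp_sqneg_conj h2 2 x (e 0 * e 1) hx (hRf hmem) hxm hym
    exact ⟨g, hg, by rw [hgx]; exact hRN hmem⟩

end Cfsg.Agent.Lib.Helper22.S6002
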