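import Mathlib
import Cfsg.Agent.Lib.Helper22.S6002.Defs
import Cfsg.Agent.Lib.helper6.Symp

/-!
# S6002 row X1 (`xc_mem`) (helper22)
-/

set_option autoImplicit false
set_option linter.unusedSimpArgs false
open scoped MatrixGroups

namespace Cfsg.Agent.Lib.Helper22.S6002

open Matrix Cfsg.Agent.Lib.helper6

variable {F : Type*} [Field F]

local notation "I4" => (Fin 2 ⊕ Fin 2)

/-- the inverse of `xc c`. -/
def s6002x1_xci (c : F) : Matrix I4 I4 F :=
  Matrix.fromBlocks !![c, 0; 0, 1] !![1, 0; 0, 0] !![-1, 0; 0, 0] !![0, 0; 0, 1]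

theorem s6002x1_mul_inv (c : F) : xc c * s6002x1_xci c = 1 := by
  ext i j
  rcases i with i | i <;> rcases j with j | j <;> fin_cases i <;> fin_cases j <;>
    simp [xc, s6002x1_xci, Matrix.mul_apply, Fintype.sum_sum_type, Fin.sum_univ_two, Matrix.one_apply]

theorem s6002x1_inv_mul (c : F) : s6002x1_xci c * xc c = 1 := by
  ext i j
  rcases i with i | i <;> rcases j with j | j <;> fin_cases i <;> fin_cases j <;>
    simp [xc, s6002x1_xci, Matrix.mul_apply, Fintype.sum_sum_type, Fin.sum_univ_two, Matrix.one_apply]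

theorem s6002x1_symp (c : F) : xc c ∈ Matrix.symplecticGroup (Fin 2) F := by
  rw [SymplecticGroup.mem_iff]
  ext i j
  rcases i with i | i <;> rcases j with j | j <;> fin_cases i <;> fin_cases j <;>
    simp [xc, Matrix.J, Matrix.mul_apply, Fintype.sum_sum_type, Fin.sum_univ_two, Matrix.one_apply,
      Matrix.transpose_apply]

/-- X1. -/
theorem xc_mem (c : F) : ∃ x : GL (Fin 2 ⊕ Fin 2) F, (x : Matrix (Fin 2 ⊕ Fin 2) (Fin 2 ⊕ Fin 2) F) = xc c ∧
    x ∈ Cfsg.spGL 2 F ∧ ¬ IsScal x ∧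
    Matrix.trace (x : Matrix (Fin 2 ⊕ Fin 2) (Fin 2 ⊕ Fin 2) F) = 2 + c ∧
    Matrix.trace ((x⁻¹ : GL (Fin 2 ⊕ Fin 2) F) : Matrix (Fin 2 ⊕ Fin 2) (Fin 2 ⊕ Fin 2) F) = 2 + c := by
  refine ⟨⟨xc c, s6002x1_xci c, s6002x1_mul_inv c, s6002x1_inv_mul c⟩, rfl, ?_, ?_, ?_, ?_⟩
  · exact (mem_symplecticGroup_iff_sympForm 2 (xc c)).mp (s6002x1_symp c)
  · rintro ⟨k, hk⟩
    have h := congrFun (congrFun hk (Sum.inl 0)) (Sum.inr 0)
    simp [xc, Matrix.smul_apply] at h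
  · show Matrix.trace (xc c) = 2 + c
    simp [xc, Matrix.trace, Fintype.sum_sum_type, Fin.sum_univ_two]
    ring
  · show Matrix.trace (s6002x1_xci c) = 2 + c
    simp [s6002x1_xci, Matrix.trace, Fintype.sum_sum_type, Fin.sum_univ_two]
    ring

end Cfsg.Agent.Lib.Helper22.S6002
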