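import Mathlib
import Cfsg.Agent.Lib.Helper22.S6002.Defs
import Cfsg.Agent.Lib.Helper22.S6002X1
import Cfsg.Agent.Lib.Helper22.S6002C2
import Cfsg.Agent.Lib.helper23.S6002X2
import Cfsg.Agent.Lib.helper6.S6002N7
import Cfsg.Agent.Lib.helper6.S6002N9
import Cfsg.Agent.Lib.Lead.S6002N13

/-!
# S6002 rows M1 (`nec_three`) and M2 (`nec_five`) (helper22)
-/

set_option autoImplicit false
set_option linter.unusedSimpArgs false
set_option linter.unusedVariables false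
open scoped MatrixGroups

namespace Cfsg.Agent.Lib.Helper22.S6002

open Matrix Module

variable {F : Type*} [Field F]

local notation "I4" => (Fin 2 ⊕ Fin 2)

section conj

variable {ι : Type} [Fintype ι] [DecidableEq ι]

theorem s6002m1_conj_pow (x g : GL ι F) (n : ℕ) : (g⁻¹ * x * g) ^ n = g⁻¹ * x ^ n * g := by
  induction n with
  | zero => simp
  | succ k ih => rw [pow_succ, ih, pow_succ]; group

theorem s6002m1_conj_scal (x g : GL ι F) (n : ℕ) (h : IsScal (x ^ n)) : IsScal ((g⁻¹ * x * g) ^ n) := by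
  obtain ⟨c, hc⟩ := h
  refine ⟨c, ?_⟩
  rw [s6002m1_conj_pow, Units.val_mul, Units.val_mul, hc, Matrix.mul_smul, Matrix.mul_one, Matrix.smul_mul,
    ← Units.val_mul, inv_mul_cancel, Units.val_one]

theorem s6002m1_conj_nscal (x g : GL ι F) (h : ¬ IsScal x) : ¬ IsScal (g⁻¹ * x * g) := by
  rintro ⟨c, hc⟩
  apply h
  refine ⟨c, ?_⟩
  have h1 : x = g * (g⁻¹ * x * g) * g⁻¹ := by group
  rw [h1, Units.val_mul, Units.val_mul, hc, Matrix.mul_smul, Matrix.mul_one, Matrix.smul_mul,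
    ← Units.val_mul, mul_inv_cancel, Units.val_one]

theorem s6002m1_conj_trace (x g : GL ι F) :
    Matrix.trace ((g⁻¹ * x * g : GL ι F) : Matrix ι ι F) = Matrix.trace (x : Matrix ι ι F) := by
  rw [Units.val_mul, Units.val_mul, Matrix.trace_mul_cycle, ← Units.val_mul, mul_inv_cancel, Units.val_one,
    Matrix.one_mul]

theorem s6002m1_conj_trace_inv (x g : GL ι F) :
    Matrix.trace (((g⁻¹ * x * g)⁻¹ : GL ι F) : Matrix ι ι F) = Matrix.trace ((x⁻¹ : GL ι F) : Matrix ι ι F) := by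
  have h : (g⁻¹ * x * g)⁻¹ = g⁻¹ * x⁻¹ * g := by group
  rw [h, s6002m1_conj_trace]

theorem s6002m1_conj_transv (x g : GL ι F) (u φ : ι → F) (hx : (x : Matrix ι ι F) = 1 + Matrix.vecMulVec u φ)
    (hφu : φ ⬝ᵥ u = 0) :
    ((g⁻¹ * x * g : GL ι F) : Matrix ι ι F) =
      1 + Matrix.vecMulVec (((g⁻¹ : GL ι F) : Matrix ι ι F) *ᵥ u) (φ ᵥ* (g : Matrix ι ι F)) ∧
      (φ ᵥ* (g : Matrix ι ι F)) ⬝ᵥ (((g⁻¹ : GL ι F) : Matrix ι ι F) *ᵥ u) = 0 := by
  constructor
  · rw [Units.val_mul, Units.val_mul, hx, Matrix.mul_add, Matrix.mul_one, Matrix.add_mul, ← Units.val_mul,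
      inv_mul_cancel, Units.val_one]
    congr 1
    ext i j
    simp only [Matrix.mul_apply, Matrix.vecMulVec_apply, Matrix.mulVec, Matrix.vecMul, dotProduct]
    rw [Finset.sum_mul_sum]
    rw [Finset.sum_comm]
    apply Finset.sum_congr rfl
    intro a _
    rw [Finset.sum_mul]
    apply Finset.sum_congr rfl
    intro b _
    ring
  · rw [Matrix.dotProduct_mulVec, Matrix.vecMul_vecMul, ← Units.val_mul, mul_inv_cancel, Units.val_one,
      Matrix.vecMul_one]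
    exact hφu

end conj

theorem s6002m1_card : Fintype.card I4 = 4 := by
  simp

/-- common part: the transvection case. -/
theorem s6002m1_transv_case {R : Subgroup (GL I4 F)} (hE : ECtx R) (x g : GL I4 F)
    (hxv : (x : Matrix I4 I4 F) = xc (2 : F)) (hxs : ¬ IsScal x) (hy : g⁻¹ * x * g ∈ Nrm R) : False := by
  obtain ⟨u, φ, hu, hφu⟩ := xc_transv (F := F)
  rw [← hxv] at hu
  obtain ⟨h1, h2⟩ := s6002m1_conj_transv x g u φ hu hφu
  have h3 := no_transv hE s6002m1_card (g⁻¹ * x * g) hy _ _ h1 h2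
  apply s6002m1_conj_nscal x g hxs
  rw [h3]
  exact ⟨1, by rw [Units.val_one, one_smul]⟩

/-- M1. Necessity, `r = 3`. -/
theorem nec_three {R : Subgroup (GL (Fin 2 ⊕ Fin 2) F)} (hE : ECtx R) (hK : NoKlein R)
    (e : Fin 4 → GL (Fin 2 ⊕ Fin 2) F) (he : IsFrame R e) :
    ¬ ∀ x ∈ Cfsg.spGL 2 F, IsScal (x ^ 3) → ¬ IsScal x → ∃ g ∈ Cfsg.spGL 2 F, g⁻¹ * x * g ∈ Nrm R := by
  intro hall
  obtain ⟨x, hxv, hxsp, hxs, htr, htr'⟩ := xc_mem (-1 : F)
  have hx3 : IsScal (x ^ 3) := by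
    refine ⟨1, ?_⟩
    rw [Units.val_pow_eq_pow_val, hxv, xc_pow3, one_smul]
  obtain ⟨g, hg, hy⟩ := hall x hxsp hx3 hxs
  by_cases h3 : (3 : F) = 0
  · have hm : (-1 : F) = 2 := by
      have : (2 : F) - (-1) = 3 := by norm_num
      rw [h3] at this
      exact (sub_eq_zero.mp this).symm
    rw [hm] at hxv
    exact s6002m1_transv_case hE x g hxv hxs hy
  · obtain ⟨he1, he1'⟩ := s6002c2_ne_pm hE.two (e 0) (e 1) (he.anti 0 1 (by decide))
    have h := three_trace hE hK s6002m1_card (e 0) (he.mem 0) (he.sq 0) he1 he1' (g⁻¹ * x * g) hy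
      (s6002m1_conj_scal x g 3 hx3) (s6002m1_conj_nscal x g hxs)
    rw [s6002m1_conj_trace, s6002m1_conj_trace_inv, htr, htr'] at h
    apply h3
    have : (3 : F) = 4 - (2 + -1) * (2 + -1) := by norm_num
    rw [this, h, sub_self]

/-- M2. Necessity, `r = 5`. -/
theorem nec_five {R : Subgroup (GL (Fin 2 ⊕ Fin 2) F)} (hE : ECtx R) (c : F) (hc : c ^ 2 + c = 1) :
    ¬ ∀ x ∈ Cfsg.spGL 2 F, IsScal (x ^ 5) → ¬ IsScal x → ∃ g ∈ Cfsg.spGL 2 F, g⁻¹ * x * g ∈ Nrm R := by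
  intro hall
  obtain ⟨x, hxv, hxsp, hxs, htr, htr'⟩ := xc_mem c
  have hx5 : IsScal (x ^ 5) := by
    refine ⟨1, ?_⟩
    rw [Units.val_pow_eq_pow_val, hxv, xc_pow5 c hc, one_smul]
  obtain ⟨g, hg, hy⟩ := hall x hxsp hx5 hxs
  by_cases h5 : (5 : F) = 0
  · have hc2 : c = 2 := by
      have h1 : (c - 2) ^ 2 = 0 := by
        have : (c - 2) ^ 2 = (c ^ 2 + c) - 5 * c + 4 := by ring
        rw [this, hc, h5]
        have : (1 : F) - 0 * c + 4 = 5 := by norm_num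
        rw [this, h5]
      exact sub_eq_zero.mp (pow_eq_zero_iff (by norm_num) |>.mp h1)
    rw [hc2] at hxv
    exact s6002m1_transv_case hE x g hxv hxs hy
  · have h := five_trace hE s6002m1_card (g⁻¹ * x * g) hy
      (s6002m1_conj_scal x g 5 hx5) (s6002m1_conj_nscal x g hxs)
    rw [s6002m1_conj_trace, s6002m1_conj_trace_inv, htr, htr'] at h
    apply h5
    -- (2+c)^2 = 1, c^2 + c = 1 ⟹ 5 = 0
    have h1 : 3 * c = -4 := by
      have : (2 + c) * (2 + c) = (c ^ 2 + c) + 3 * c + 4 := by ring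
      rw [this, hc] at h
      linear_combination h
    have h2 : (5 : F) = -(9 * (c ^ 2 + c - 1)) + ((3 * c) ^ 2 + 3 * (3 * c) - 9 + 5) := by ring
    rw [h2, hc, h1]
    norm_num

end Cfsg.Agent.Lib.Helper22.S6002
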