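import Mathlib
import Cfsg.Prelude.Def_GeometricClasses
import Cfsg.Prelude.Def_ClassicalGeometry
import Cfsg.Agent.Lib.Helper22.S6002.Defs
import Cfsg.Agent.Lib.Helper22.S6002M0
import Cfsg.Agent.Lib.Helper22.S6002M1
import Cfsg.Agent.Lib.Helper22.S6002C2
import Cfsg.Agent.Lib.Helper22.S6002Y2
import Cfsg.Agent.Lib.Helper11.S6002M3
import Cfsg.Agent.Lib.Helper11.S6002M4core
import Cfsg.Agent.Lib.helper23.S6002L3
import Cfsg.Agent.Lib.helper23.S6002A1
import Cfsg.Agent.Lib.helper23.S6002A2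
import Cfsg.Agent.Lib.Helper9.S6002S1
import Cfsg.Agent.Lib.Helper9.S6002S2
import Cfsg.Agent.Lib.Lead.S6002S4

/-!
# S6002 : MAIN (`main_abs`) (helper22)
-/

set_option autoImplicit false
open scoped MatrixGroups

namespace Cfsg.Agent.Lib.Helper22.S6002

variable {ι : Type} [Fintype ι] [DecidableEq ι] {F : Type*} [Field F]

/-- M4 (wrapper of helper11's core with M0, Y2, L3), under a prefixed name. -/
theorem s6002main_suff_five [Fintype F] {R : Subgroup (GL (Fin 2 ⊕ Fin 2) F)} (hE : ECtx R) (hRf : R ≤ Cfsg.spGL 2 F)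
    (e : Fin 4 → GL (Fin 2 ⊕ Fin 2) F) (he : IsFrame R e)
    (hirr : Irreducible (Polynomial.cyclotomic 5 F))
    (x : GL (Fin 2 ⊕ Fin 2) F) (hx : x ∈ Cfsg.spGL 2 F) (hx5 : IsScal (x ^ 5)) (hxs : ¬ IsScal x) :
    ∃ g ∈ Cfsg.spGL 2 F, g⁻¹ * x * g ∈ Nrm R := by
  have hι : Fintype.card (Fin 2 ⊕ Fin 2) = 4 := by simp
  have : Finite (Cfsg.spGL 2 F) := inferInstance
  exact s6002m4_core hE.neg hRf sp_scal (y0_exists hE hRf e he)
    (fun y y₀ hy hy₀ h1 h2 hne => five_conj hι hirr (Cfsg.spGL 2 F) y y₀ hy hy₀ h1 h2 hne) x hx hx5 hxs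

/-- MAIN. The abstract form of S6002. -/
theorem main_abs [Fintype F] {p : ℕ} [Fact p.Prime] [CharP F p] (hF : Fintype.card F = p) (hodd : Odd p)
    (R : Subgroup (GL (Fin 2 ⊕ Fin 2) F)) (hRs : Cfsg.Geo.IsSymplecticTypeGroup 2 R)
    (hRi : Cfsg.Geo.ActsAbsolutelyIrreducibly (Cfsg.Geo.matrixSet R))
    (hRf : R ≤ Cfsg.spGL 2 F) (hR5 : Nat.card R = 2 ^ 5) (hRZ : Nat.card (Subgroup.center R) = 2)
    (hRm : Cfsg.Geo.IsOfMinusType 2 R) (r : ℕ) (hr : r.Prime)
    (hΩ : r ∣ (Nrm R).relIndex (Cfsg.spGL 2 F)) :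
    (∀ x ∈ Cfsg.spGL 2 F, IsScal (x ^ r) → ¬ IsScal x → ∃ g ∈ Cfsg.spGL 2 F, g⁻¹ * x * g ∈ Nrm R) ↔
      (r = 2 ∨ (r = 5 ∧ orderOf (p : ZMod 5) = 4)) := by
  classical
  have hp : p.Prime := Fact.out
  have h2 : (2 : F) ≠ 0 := by
    intro h0
    have h1 : ((2 : ℕ) : F) = 0 := by exact_mod_cast h0
    have h2' := (CharP.cast_eq_zero_iff F p 2).mp h1
    have h4 := (Nat.prime_dvd_prime_iff_eq hp Nat.prime_two).mp h2'
    rw [h4] at hodd
    exact absurd hodd (by decide)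
  have hE : ECtx R := ectx_of_hyp h2 R hRs hRi hR5 hRZ
  have hK : NoKlein R := noklein_of_minus hE hRm
  obtain ⟨e, he⟩ := frame_exists hE hK
  constructor
  · intro hall
    by_contra hneg
    rw [not_or, not_and] at hneg
    obtain ⟨hr2, hr5⟩ := hneg
    have hr2' : 2 ≤ r := hr.two_le
    by_cases h3 : r = 3
    · subst h3
      exact nec_three hE hK e he hall
    by_cases h5 : r = 5
    · subst h5
      obtain ⟨c, hc⟩ := exists_c hF (hr5 rfl)
      exact nec_five hE c hc hall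
    have h7 : 7 ≤ r := by
      by_contra hlt
      rw [not_le] at hlt
      interval_cases r
      · exact hr2 rfl
      · exact h3 rfl
      · exact absurd hr (by decide)
      · exact h5 rfl
      · exact absurd hr (by decide)
    exact nec_big hE r hr h7 hΩ hall
  · rintro (rfl | ⟨rfl, h4⟩)
    · intro x hx hx2 hxs
      exact two_suff hE hRf e he x hx hx2 hxs
    · intro x hx hx5 hxs
      exact s6002main_suff_five hE hRf e he (cyc5_irr hF h4) x hx hx5 hxs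

end Cfsg.Agent.Lib.Helper22.S6002
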