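import Mathlib
import Cfsg.Prelude.Def_AxialAlgebras
import Cfsg.Agent.Lib.Helper24.SAK.Defs
import Cfsg.Agent.Lib.Helper22.SAKA5
import Cfsg.Agent.Lib.Helper11.SAKA6

set_option autoImplicit false

namespace Cfsg.Agent.Lib.Helper24.SAK

open Cfsg.Axial

variable {V : Type*} [AddCommGroup V] [Module ℝ V]

/-- Own-name copy of the statement of row A10 (`sg_decomp`): `u0`, `u4` are the `0`- and
`1/4`-components of `b`. -/
theorem saka13_sg_decomp {mul : V →ₗ[ℝ] V →ₗ[ℝ] V} {B : LinearMap.BilinForm ℝ V} {μ : V ≃ₗ[ℝ] V}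
    {a : V} (hV : IsMajoranaAmbient mul B) (h : IsMajoranaPair mul B μ a) (hn : B a a = 1) (b : V) :
    ∃ b32 : V, mul a (u0 mul B μ a b) = 0 ∧ mul a (u4 mul B μ a b) = (1 / 4 : ℝ) • u4 mul B μ a b ∧
      mul a b32 = (1 / 32 : ℝ) • b32 ∧ b = B a b • a + u0 mul B μ a b + u4 mul B μ a b + b32 ∧
      μ b = B a b • a + u0 mul B μ a b + u4 mul B μ a b - b32 := by
  obtain ⟨b0, b4, b32, e0, e4, e32, hb, hμb⟩ := decomp4 hV h hn b
  have haa : mul a a = a := h.2.2.1.1.2.1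
  have hsg : sg mul a b = ((31 / 32 : ℝ) * B a b - 1 / 32) • a - (1 / 32 : ℝ) • b0 +
      (7 / 32 : ℝ) • b4 := by
    unfold sg
    generalize B a b = t at hb hμb ⊢
    have h2 : mul a b = t • a + (1 / 4 : ℝ) • b4 + (1 / 32 : ℝ) • b32 := by
      conv_lhs => rw [hb]
      simp only [map_add, map_smul, haa, e0, e4, e32]
      module
    rw [h2]
    conv_lhs => rw [hb]
    module
  have hsum : b + μ b = (2 * B a b) • a + (2 : ℝ) • b0 + (2 : ℝ) • b4 := by
    generalize B a b = t at hb hμb ⊢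
    rw [hμb]
    conv_lhs => rw [hb]
    module
  have hu0 : u0 mul B μ a b = b0 := by
    unfold u0
    rw [hsg, hsum]
    module
  have hu4 : u4 mul B μ a b = b4 := by
    unfold u4
    rw [hsg, hsum]
    module
  rw [hu0, hu4]
  exact ⟨b32, e0, e4, e32, hb, hμb⟩

theorem u4_norm {mul : V →ₗ[ℝ] V →ₗ[ℝ] V} {B : LinearMap.BilinForm ℝ V} {μ : V ≃ₗ[ℝ] V} {a : V}
    (hV : IsMajoranaAmbient mul B) (h : IsMajoranaPair mul B μ a) (hn : B a a = 1) (b : V) :
    B (u4 mul B μ a b) (u4 mul B μ a b) = B (u4 mul B μ a b) b := by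
  obtain ⟨b32, e0, e4, e32, hb, -⟩ := saka13_sg_decomp hV h hn b
  have haa : mul a a = (1 : ℝ) • a := by rw [one_smul]; exact h.2.2.1.1.2.1
  have o1 : B (u4 mul B μ a b) a = 0 :=
    orth hV a _ _ (1 / 4) 1 (by norm_num) e4 haa
  have o0 : B (u4 mul B μ a b) (u0 mul B μ a b) = 0 :=
    orth hV a _ _ (1 / 4) 0 (by norm_num) e4 (by rw [e0, zero_smul])
  have o32 : B (u4 mul B μ a b) b32 = 0 :=
    orth hV a _ _ (1 / 4) (1 / 32) (by norm_num) e4 e32
  have hb' := congrArg (B (u4 mul B μ a b)) hb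
  rw [hb']
  simp only [map_add, map_smul, smul_eq_mul, o1, o0, o32]
  ring

end Cfsg.Agent.Lib.Helper24.SAK
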