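import Mathlib
import Cfsg.Prelude.Def_AxialAlgebras
import Cfsg.Agent.Lib.Helper24.SAK.Defs
import Cfsg.Agent.Lib.Helper11.SAKA7
import Cfsg.Agent.Lib.Helper26.SAKA8
import Cfsg.Agent.Lib.Helper26.SAKA9
import Cfsg.Agent.Lib.Helper22.SAKA13

set_option autoImplicit false

namespace Cfsg.Agent.Lib.Helper24.SAK

open Cfsg.Axial

variable {V : Type*} [AddCommGroup V] [Module ℝ V]

theorem fus_b {mul : V →ₗ[ℝ] V →ₗ[ℝ] V} {B : LinearMap.BilinForm ℝ V} {μ : V ≃ₗ[ℝ] V} {a : V}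
    (hV : IsMajoranaAmbient mul B) (h : IsMajoranaPair mul B μ a) (hn : B a a = 1) (b : V) :
    mul a (mul (u0 mul B μ a b) (u0 mul B μ a b)) = 0 ∧
      mul a (mul (u0 mul B μ a b) (u4 mul B μ a b)) = (1 / 4 : ℝ) • mul (u0 mul B μ a b) (u4 mul B μ a b) ∧
      mul a (mul (u4 mul B μ a b) (u4 mul B μ a b)) = ((1 / 4 : ℝ) * B (u4 mul B μ a b) b) • a := by
  obtain ⟨b32, e0, e4, -, -, -⟩ := saka13_sg_decomp hV h hn b
  refine ⟨fuse00 h _ _ e0 e0, fuse04 h _ _ e0 e4, ?_⟩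
  rw [← u4_norm hV h hn b]
  exact fuse44 hV h hn _ _ e4 e4

end Cfsg.Agent.Lib.Helper24.SAK
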