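import Cfsg.Agent.Lib.helper7.SAP.Defs

/-!
Project SAP row PRES3 (core): the extended Carmichael family in `Perm (Pt p k)`; the statements of PERM1
(`ah_pow_conj_zh`) and PERM4 (`th_conj_zh`) are hypotheses.
-/

namespace Cfsg.Agent.Lib.helper7.SAP

open Equiv

universe u

section pres
variable (p k l : ℕ)

/-- the orbit of the point `l` under the index version of `th` runs through the new points -/
theorem sappres3_iter [NeZero p] (hlp : l + 1 ≤ p) (i : ℕ) (hi : i < k) :
    (tauI p k l)^[i + 1] (Sum.inl ((l : ℕ) : ZMod p)) = Sum.inr ⟨i, hi⟩ := by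
  induction i with
  | zero =>
    have hv : (((l : ℕ) : ZMod p)).val = l := by
      rw [ZMod.val_natCast]
      exact Nat.mod_eq_of_lt (by omega)
    show tauI p k l (Sum.inl ((l : ℕ) : ZMod p)) = Sum.inr ⟨0, hi⟩
    unfold tauI
    simp only [hv]
    rw [if_neg (by omega), if_pos trivial, dif_pos hi]
  | succ i ih =>
    rw [Function.iterate_succ_apply', ih (by omega)]
    unfold tauI
    simp only
    rw [dif_pos hi]

/-- iterated conjugation by `th` -/
theorem sappres3_th_pow_conj
    (hth : ∀ y : Ix p k, th p k l * zh y * (th p k l)⁻¹ = zh (tauI p k l y)) (n : ℕ) (y : Ix p k) :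
    (th p k l) ^ n * zh y * ((th p k l) ^ n)⁻¹ = zh ((tauI p k l)^[n] y) := by
  induction n with
  | zero => simp
  | succ n ih =>
    rw [Function.iterate_succ_apply', ← hth, ← ih, pow_succ']
    group

/-- PRES3 core.  `hconj` = `fun i x => ah_pow_conj_zh p k i x`, `hth` = `fun y => th_conj_zh p k l hlp hl y`. -/
theorem sappres3_core [NeZero p] (hlp : l + 1 ≤ p)
    (hconj : ∀ (i : ℕ) (x : ZMod p),
      (ah p k) ^ i * zh (Sum.inl x) * ((ah p k) ^ i)⁻¹ = zh (Sum.inl (x + (i : ZMod p)) : Ix p k))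
    (hth : ∀ y : Ix p k, th p k l * zh y * (th p k l)⁻¹ = zh (tauI p k l y)) (y : Ix p k) :
    zx (ah p k) (zh (Sum.inl 0)) (th p k l) l y = zh y := by
  have hzo : ∀ x : ZMod p, zo (ah p k) (zh (Sum.inl 0 : Ix p k)) x = zh (Sum.inl x) := by
    intro x
    unfold zo
    rw [hconj, zero_add, ZMod.natCast_zmod_val]
  rcases y with x | j
  · exact hzo x
  · show (th p k l) ^ (j.val + 1) * zo (ah p k) (zh (Sum.inl 0 : Ix p k)) ((l : ℕ) : ZMod p) *
      ((th p k l) ^ (j.val + 1))⁻¹ = zh (Sum.inr j)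
    rw [hzo, sappres3_th_pow_conj p k l hth, sappres3_iter p k l hlp j.val j.isLt]

end pres

end Cfsg.Agent.Lib.helper7.SAP
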