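import Cfsg.Agent.Lib.helper7.SAP.Defs
import Cfsg.Agent.Lib.Helper22.SAPPRES3core
import Cfsg.Agent.Lib.Helper28.SAPPERM1
import Cfsg.Agent.Lib.Helper28.SAPPERM4

/-!
Project SAP row PRES3 (verbatim): the extended Carmichael family in `Perm (Pt p k)`.
-/

namespace Cfsg.Agent.Lib.helper7.SAP

open Equiv

universe u

section pres
variable (p k l : ℕ)

/-- PRES3 [M]: the extended Carmichael family in `Perm (Pt p k)` (PERM1, PERM4). -/
theorem zx_perm [NeZero p] (hlp : l + 1 ≤ p) (hl : 1 ≤ l) (y : Ix p k) :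
    zx (ah p k) (zh (Sum.inl 0)) (th p k l) l y = zh y :=
  sappres3_core p k l hlp (fun i x => ah_pow_conj_zh p k i x) (fun y => th_conj_zh p k l hlp hl y) y

end pres

end Cfsg.Agent.Lib.helper7.SAP
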