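import Cfsg.Agent.Lib.helper7.SAP.Defs
import Cfsg.Agent.Lib.Helper22.SAPPRES4core
import Cfsg.Agent.Lib.Helper28.SAPPERM1
import Cfsg.Agent.Lib.Helper9.SAPPERM9

/-!
Project SAP row PRES4 (verbatim): evaluation of the basic words.
-/

namespace Cfsg.Agent.Lib.helper7.SAP

open Equiv

universe u

section pres
variable (p k l : ℕ)

/-- PRES4 [S-M]: evaluation of the basic words (PERM9, PERM1). -/
theorem evP_basic [NeZero p] (hlp : l + 1 ≤ p) (ez et : ℕ) (hz3 : ez % 3 = 1) (hzm : (l + k) ∣ ez)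
    (ht3 : 3 ∣ et) (htm : et % (l + k) = 1 % (l + k)) :
    evP p k l wA = ah p k ∧ evP p k l (wG ^ ez) = zh (Sum.inl 0) ∧ evP p k l (wG ^ et) = th p k l ∧
      ∀ x : ZMod p, evP p k l (zo wA (wG ^ ez) x) = zh (Sum.inl x) :=
  sappres4_core p k l ez et (gh_pow_ez p k l hlp ez hz3 hzm) (gh_pow_et p k l hlp et ht3 htm)
    (fun i x => ah_pow_conj_zh p k i x)

end pres

end Cfsg.Agent.Lib.helper7.SAP
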