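import Mathlib
import Cfsg.Agent.Lib.helper14.SGUDefs
import Cfsg.Agent.Lib.helper6.Symp
import Cfsg.Agent.Lib.helper6.SympBasis
import Cfsg.Agent.S5960
import Cfsg.Agent.Lib.Helper20.SGUQNE
import Cfsg.Agent.Lib.Helper20.SGUNORM

/-!
# Project SGU (S5976; designer helper14), row FRAME (helper22, second copy; the verbatim `frame` is in Helper19/SGUFRAME.lean, this copy is renamed `sguframe_h22_frame`).
A hermitian-orthogonal family `v : Fin d → V` with `f (v k, j (v k)) = -1`.
Induction on `j`-invariant nondegenerate subspaces (QNE + NORM + `Cfsg.Agent.S5960.rel`).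
-/

set_option autoImplicit false
set_option linter.unusedVariables false
set_option linter.unusedSectionVars false

namespace Cfsg.Agent.Lib.helper14.SGU

open Polynomial Module Cfsg.Agent.Lib.Lead.SPU Cfsg.Agent.Lib.Helper19.SPD Cfsg.Agent.Lib.helper6

variable {F : Type*} [Field F] {d : ℕ}

theorem sguframe_h22_jj {j : Matrix (Fin d ⊕ Fin d) (Fin d ⊕ Fin d) F} {c0 : F} (hJ : JS j c0)
    (u : Fin d ⊕ Fin d → F) : j.mulVec (j.mulVec u) = c0 • u := by
  rw [Matrix.mulVec_mulVec, hJ.sq, Matrix.smul_mulVec, Matrix.one_mulVec]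

/-- rescaling: from `Q v₀ = a ≠ 0` to `Q v = -1` inside any `j`-invariant subspace. -/
theorem sguframe_h22_rescale [Fintype F] (hodd : Odd (Fintype.card F))
    {j : Matrix (Fin d ⊕ Fin d) (Fin d ⊕ Fin d) F} {c0 : F} (hJ : JS j c0)
    (U : Submodule F (Fin d ⊕ Fin d → F)) (hUj : ∀ u ∈ U, j.mulVec u ∈ U)
    (v0 : Fin d ⊕ Fin d → F) (hv0 : v0 ∈ U) (ha : Cfsg.sympForm d F v0 (j.mulVec v0) ≠ 0) :
    ∃ v ∈ U, Cfsg.sympForm d F v (j.mulVec v) = -1 := by
  have hc0 : c0 ≠ 0 := by
    intro h0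
    exact hJ.nsq 0 (by rw [h0, mul_zero])
  set a := Cfsg.sympForm d F v0 (j.mulVec v0) with ha_def
  obtain ⟨α, β, hαβ⟩ := norm_surj hodd c0 (-a⁻¹) hc0
  refine ⟨α • v0 + β • j.mulVec v0, U.add_mem (U.smul_mem _ hv0) (U.smul_mem _ (hUj _ hv0)), ?_⟩
  rw [Matrix.mulVec_add, Matrix.mulVec_smul, Matrix.mulVec_smul, sguframe_h22_jj hJ]
  simp only [sympForm_add_left, sympForm_add_right, sympForm_smul_left, sympForm_smul_right,
    sympForm_self]
  have h1 : Cfsg.sympForm d F (j.mulVec v0) v0 = -a := by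
    rw [sympForm_swap]
  rw [h1, ← ha_def]
  have : (α * α - c0 * (β * β)) * a = -1 := by
    rw [hαβ]; field_simp
  linear_combination this

/-- the induction: a frame inside every `j`-invariant nondegenerate subspace of dimension `2 n`. -/
theorem sguframe_h22_ind [Fintype F] (hodd : Odd (Fintype.card F))
    {j : Matrix (Fin d ⊕ Fin d) (Fin d ⊕ Fin d) F} {c0 : F} (hJ : JS j c0) :
    ∀ (n : ℕ) (U : Submodule F (Fin d ⊕ Fin d → F)), (∀ u ∈ U, j.mulVec u ∈ U) → ND U →
      finrank F U = 2 * n →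
      ∃ v : Fin n → (Fin d ⊕ Fin d → F), (∀ k, v k ∈ U) ∧
        (∀ k, Cfsg.sympForm d F (v k) (j.mulVec (v k)) = -1) ∧
        ∀ k l, k ≠ l → Cfsg.sympForm d F (v k) (v l) = 0 ∧
          Cfsg.sympForm d F (v k) (j.mulVec (v l)) = 0 := by
  intro n
  induction n with
  | zero =>
    intro U _ _ _
    exact ⟨fun k => k.elim0, fun k => k.elim0, fun k => k.elim0, fun k => k.elim0⟩
  | succ n ih =>
    intro U hUj hnd hdim
    have hne : U ≠ ⊥ := by
      intro h
      rw [h, finrank_bot] at hdim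
      omega
    obtain ⟨v0, hv0, ha⟩ := qne hJ U hUj hnd hne
    obtain ⟨v, hvU, hQ⟩ := sguframe_h22_rescale hodd hJ U hUj v0 hv0 ha
    have hne1 : Cfsg.sympForm d F v (j.mulVec v) ≠ 0 := by rw [hQ]; simp
    -- the plane
    have hPle : Cfsg.Agent.S5960.pl d v (j.mulVec v) ≤ U :=
      Cfsg.Agent.S5960.pl_le d v (j.mulVec v) U hvU (hUj v hvU)
    have hPnd := Cfsg.Agent.S5960.pl_nd d v (j.mulVec v) hne1
    have hPfr := Cfsg.Agent.S5960.pl_finrank d v (j.mulVec v) hne1
    obtain ⟨hsup, hdisj, hnd', hfr'⟩ :=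
      Cfsg.Agent.S5960.rel d U (Cfsg.Agent.S5960.pl d v (j.mulVec v)) hnd hPnd hPle
    set U' := U ⊓ SB.orth d (Cfsg.Agent.S5960.pl d v (j.mulVec v)) with hU'
    -- membership in U'
    have hmem : ∀ w, w ∈ U' ↔ w ∈ U ∧ Cfsg.sympForm d F v w = 0 ∧
        Cfsg.sympForm d F (j.mulVec v) w = 0 := by
      intro w
      rw [hU', Submodule.mem_inf, SB.mem_orth]
      constructor
      · rintro ⟨h1, h2⟩
        exact ⟨h1, h2 v (Cfsg.Agent.S5960.left_mem_pl d _ _),
          h2 _ (Cfsg.Agent.S5960.right_mem_pl d _ _)⟩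
      · rintro ⟨h1, h2, h3⟩
        refine ⟨h1, ?_⟩
        intro x hx
        obtain ⟨a, b, rfl⟩ := (Cfsg.Agent.S5960.mem_pl d _ _ _).mp hx
        rw [sympForm_add_left, sympForm_smul_left, sympForm_smul_left, h2, h3]
        ring
    have hU'j : ∀ u ∈ U', j.mulVec u ∈ U' := by
      intro u hu
      obtain ⟨h1, h2, h3⟩ := (hmem u).mp hu
      refine (hmem _).mpr ⟨hUj u h1, ?_, ?_⟩
      · have := hJ.adj v u
        rw [h3] at this
        have h4 : Cfsg.sympForm d F v (j.mulVec u) = 0 := by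
          have h5 := neg_eq_zero.mp this.symm
          exact h5
        exact h4
      · have := hJ.adj (j.mulVec v) u
        rw [sguframe_h22_jj hJ, sympForm_smul_left, h2, mul_zero] at this
        exact neg_eq_zero.mp this.symm
    have hdim' : finrank F U' = 2 * n := by
      rw [hPfr, hdim] at hfr'
      omega
    obtain ⟨w, hwU, hwQ, hworth⟩ := ih U' hU'j hnd' hdim'
    refine ⟨Fin.cons v w, ?_, ?_, ?_⟩
    · intro k
      refine Fin.cases ?_ (fun k' => ?_) k
      · simpa using hvU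
      · simpa using ((hmem _).mp (hwU k')).1
    · intro k
      refine Fin.cases ?_ (fun k' => ?_) k
      · simpa using hQ
      · simpa using hwQ k'
    · intro k l
      refine Fin.cases ?_ (fun k' => ?_) k <;> refine Fin.cases ?_ (fun l' => ?_) l
      · intro h; exact absurd rfl h
      · intro _
        obtain ⟨h1, h2, h3⟩ := (hmem _).mp (hwU l')
        simp only [Fin.cons_zero, Fin.cons_succ]
        refine ⟨h2, ?_⟩
        have := hJ.adj v (w l')
        rw [h3] at this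
        exact neg_eq_zero.mp this.symm
      · intro _
        obtain ⟨h1, h2, h3⟩ := (hmem _).mp (hwU k')
        simp only [Fin.cons_zero, Fin.cons_succ]
        refine ⟨?_, ?_⟩
        · rw [sympForm_swap, h2, neg_zero]
        · rw [sympForm_swap, h3, neg_zero]
      · intro hkl
        simp only [Fin.cons_succ]
        exact hworth k' l' (fun h => hkl (by rw [h]))

theorem sguframe_h22_frame [Fintype F] (hodd : Odd (Fintype.card F)) {j : Matrix (Fin d ⊕ Fin d) (Fin d ⊕ Fin d) F} {c0 : F}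
    (hJ : JS j c0) :
    ∃ v : Fin d → (Fin d ⊕ Fin d → F), (∀ k, Cfsg.sympForm d F (v k) (j.mulVec (v k)) = -1) ∧
      ∀ k l, k ≠ l → Cfsg.sympForm d F (v k) (v l) = 0 ∧ Cfsg.sympForm d F (v k) (j.mulVec (v l)) = 0 := by
  have hnd : ND (⊤ : Submodule F (Fin d ⊕ Fin d → F)) := by
    intro u _ h
    by_contra hu
    obtain ⟨x, hx⟩ := sympForm_nondeg d u hu
    exact hx (h x Submodule.mem_top)
  have hdim : finrank F (⊤ : Submodule F (Fin d ⊕ Fin d → F)) = 2 * d := by
    rw [finrank_top, Module.finrank_fintype_fun_eq_card, Fintype.card_sum, Fintype.card_fin]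
    ring
  obtain ⟨v, _, h2, h3⟩ := sguframe_h22_ind hodd hJ d ⊤ (fun _ _ => Submodule.mem_top) hnd hdim
  exact ⟨v, h2, h3⟩

end Cfsg.Agent.Lib.helper14.SGU
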