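import Mathlib
import Cfsg.Agent.Lib.helper14.SGUDefs
import Cfsg.Agent.Lib.helper6.Symp
import Cfsg.Agent.Lib.Helper27.SPINVCONJ
import Cfsg.Agent.Lib.Helper27.SPSQNEG
import Cfsg.Agent.Lib.helper3.SPDNONSC

/-!
# Project SGU (S5976; designer helper14), row TWO (helper22, second copy): core of `two_j0`
with the conclusions of INVEX / SQNEGEX as hypotheses.
-/

set_option autoImplicit false
set_option linter.unusedVariables false
set_option linter.unusedSectionVars false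

namespace Cfsg.Agent.Lib.helper14.SGU

open Matrix Polynomial Module Cfsg.Agent.Lib.Lead.SPU Cfsg.Agent.Lib.Helper19.SPD

variable {F : Type*} [Field F] {d : ℕ}

theorem sgutwo_h22_core [Fintype F] (hodd : Odd (Fintype.card F)) (hd : 1 ≤ d) (c0 : F) (hc : c0 ≠ 0)
    (hinv : ∀ k : ℕ, k ≤ d →
      ∃ y : Matrix.GeneralLinearGroup (Fin d ⊕ Fin d) F, y ∈ Cfsg.spGL d F ∧
      (y : Matrix (Fin d ⊕ Fin d) (Fin d ⊕ Fin d) F) * (y : Matrix (Fin d ⊕ Fin d) (Fin d ⊕ Fin d) F) = 1 ∧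
      (y : Matrix (Fin d ⊕ Fin d) (Fin d ⊕ Fin d) F) * j0 d c0 = j0 d c0 * (y : Matrix (Fin d ⊕ Fin d) (Fin d ⊕ Fin d) F) ∧
      finrank F (LinearMap.ker ((y : Matrix (Fin d ⊕ Fin d) (Fin d ⊕ Fin d) F).mulVecLin - LinearMap.id)) = 2 * k)
    (hsq : ∃ y : Matrix.GeneralLinearGroup (Fin d ⊕ Fin d) F, y ∈ Cfsg.spGL d F ∧
      (y : Matrix (Fin d ⊕ Fin d) (Fin d ⊕ Fin d) F) * (y : Matrix (Fin d ⊕ Fin d) (Fin d ⊕ Fin d) F) = -1 ∧
      (y : Matrix (Fin d ⊕ Fin d) (Fin d ⊕ Fin d) F) * j0 d c0 = -(j0 d c0 * (y : Matrix (Fin d ⊕ Fin d) (Fin d ⊕ Fin d) F)))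
    (x : Matrix.GeneralLinearGroup (Fin d ⊕ Fin d) F) (hx : x ∈ Cfsg.spGL d F) (z : F)
    (hz : ((x ^ 2 : Matrix.GeneralLinearGroup (Fin d ⊕ Fin d) F) : Matrix (Fin d ⊕ Fin d) (Fin d ⊕ Fin d) F) =
      z • (1 : Matrix (Fin d ⊕ Fin d) (Fin d ⊕ Fin d) F)) :
    ∃ g ∈ Cfsg.spGL d F, InN (j0 d c0) (g⁻¹ * x * g) := by
  classical
  -- 2 ≠ 0
  have h2 : (2 : F) ≠ 0 := by
    intro h
    obtain ⟨p, hp⟩ := CharP.exists F
    have hpI : CharP F p := hp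
    have hpP : Fact p.Prime := ⟨(CharP.char_is_prime_or_zero F p).resolve_right (by
      intro h0; subst h0
      have hcz : CharZero F := CharP.charP_to_charZero F
      exact not_finite F)⟩
    have hp2 : p = 2 := by
      have : (p : ℕ) ∣ 2 := by
        rw [← CharP.cast_eq_zero_iff F p]; exact_mod_cast h
      exact (Nat.prime_dvd_prime_iff_eq Fact.out Nat.prime_two).mp this
    subst hp2
    obtain ⟨n, hn⟩ := FiniteField.card F 2
    rw [hn.2] at hodd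
    have hn0 : (n : ℕ) ≠ 0 := n.ne_zero
    exact (Nat.not_even_iff_odd.mpr hodd) ((Nat.even_pow' hn0).mpr even_two)
  -- x * x = z • 1 as matrices
  have hxx : (x : Matrix (Fin d ⊕ Fin d) (Fin d ⊕ Fin d) F) * (x : Matrix (Fin d ⊕ Fin d) (Fin d ⊕ Fin d) F) =
      z • (1 : Matrix (Fin d ⊕ Fin d) (Fin d ⊕ Fin d) F) := by
    rw [← hz, pow_two]; rfl
  have hxf : ∀ u v, Cfsg.sympForm d F ((x : Matrix (Fin d ⊕ Fin d) (Fin d ⊕ Fin d) F) *ᵥ u)
      ((x : Matrix (Fin d ⊕ Fin d) (Fin d ⊕ Fin d) F) *ᵥ v) = Cfsg.sympForm d F u v := hx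
  -- z • 1 is symplectic
  have hzS : z • (1 : Matrix (Fin d ⊕ Fin d) (Fin d ⊕ Fin d) F) ∈ Matrix.symplecticGroup (Fin d) F := by
    rw [Cfsg.Agent.Lib.helper6.mem_symplecticGroup_iff_sympForm]
    intro u v
    rw [← hxx, ← Matrix.mulVec_mulVec, ← Matrix.mulVec_mulVec, hxf, hxf]
  have hzz : z * z = 1 := spdnonsc_sq_one hd z hzS
  rcases mul_self_eq_one_iff.mp hzz with h1 | h1
  · -- involution
    subst h1
    rw [one_smul] at hxx
    obtain ⟨k, k', φp, φm, hφp, hφm, hfp, hfm, hpm, hsurj, hinj, hk⟩ :=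
      Cfsg.Agent.Lib.Helper27.SpInv.spinv_param h2 d _ hxx hxf
    have hkd : k ≤ d := by
      have hle : finrank F (LinearMap.ker ((x : Matrix (Fin d ⊕ Fin d) (Fin d ⊕ Fin d) F).mulVecLin - LinearMap.id))
          ≤ finrank F (Fin d ⊕ Fin d → F) := Submodule.finrank_le _
      rw [Module.finrank_fintype_fun_eq_card, Fintype.card_sum, Fintype.card_fin] at hle
      omega
    obtain ⟨y, hy, hy2, hyj, hyk⟩ := hinv k hkd
    obtain ⟨g, hg, hgx⟩ := Cfsg.Agent.Lib.Helper27.SpInv.sp_invol_conj h2 d x y hx hy hxx hy2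
      (by rw [← hk, hyk])
    refine ⟨g, hg, Or.inl ?_⟩
    rw [hgx]; exact hyj
  · subst h1
    rw [neg_smul, one_smul] at hxx
    obtain ⟨y, hy, hy2, hyj⟩ := hsq
    obtain ⟨g, hg, hgx⟩ := Cfsg.Agent.Lib.Helper27.SpInv.sp_sqneg_conj h2 d x y hx hy hxx hy2
    refine ⟨g, hg, Or.inr ?_⟩
    rw [hgx]; exact hyj

end Cfsg.Agent.Lib.helper14.SGU
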