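import Mathlib
import Cfsg.Agent.Lib.helper14.SGUDefs
import Cfsg.Agent.Lib.Helper22.SGUTWOcore
import Cfsg.Agent.Lib.helper14.SGUINVEX
import Cfsg.Agent.Lib.helper14.SGUSQNEGEX

/-!
# Project SGU (S5976; designer helper14), row TWO: `two_j0` verbatim (helper22), from `sgutwo_h22_core`
+ helper14's `sguinv14_inv_ex` / `sgusq14_sqneg_ex`.
-/

set_option autoImplicit false
set_option linter.unusedVariables false
set_option linter.unusedSectionVars false

namespace Cfsg.Agent.Lib.helper14.SGU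

open Polynomial Module Cfsg.Agent.Lib.Lead.SPU Cfsg.Agent.Lib.Helper19.SPD

variable {F : Type*} [Field F] {d : ℕ}

theorem sgutwo_h22_two_ne [Fintype F] (hodd : Odd (Fintype.card F)) : (2 : F) ≠ 0 := by
  intro h
  obtain ⟨p, hp⟩ := CharP.exists F
  have hpI : CharP F p := hp
  have hpP : Fact p.Prime := ⟨(CharP.char_is_prime_or_zero F p).resolve_right (by
    intro h0; subst h0
    have hcz : CharZero F := CharP.charP_to_charZero F
    exact not_finite F)⟩
  have hp2 : p = 2 := by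
    have : (p : ℕ) ∣ 2 := by
      rw [← CharP.cast_eq_zero_iff F p]; exact_mod_cast h
    exact (Nat.prime_dvd_prime_iff_eq Fact.out Nat.prime_two).mp this
  subst hp2
  obtain ⟨n, hn⟩ := FiniteField.card F 2
  rw [hn.2] at hodd
  have hn0 : (n : ℕ) ≠ 0 := n.ne_zero
  exact (Nat.not_even_iff_odd.mpr hodd) ((Nat.even_pow' hn0).mpr even_two)

theorem two_j0 [Fintype F] (hodd : Odd (Fintype.card F)) (hd : 1 ≤ d) (c0 : F) (hc : c0 ≠ 0)
    (x : Matrix.GeneralLinearGroup (Fin d ⊕ Fin d) F) (hx : x ∈ Cfsg.spGL d F) (z : F)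
    (hz : ((x ^ 2 : Matrix.GeneralLinearGroup (Fin d ⊕ Fin d) F) : Matrix (Fin d ⊕ Fin d) (Fin d ⊕ Fin d) F) =
      z • (1 : Matrix (Fin d ⊕ Fin d) (Fin d ⊕ Fin d) F)) :
    ∃ g ∈ Cfsg.spGL d F, InN (j0 d c0) (g⁻¹ * x * g) :=
  sgutwo_h22_core hodd hd c0 hc
    (fun k hk => sguinv14_inv_ex (sgutwo_h22_two_ne hodd) c0 k hk)
    (sgusq14_sqneg_ex hodd c0 hc) x hx z hz

end Cfsg.Agent.Lib.helper14.SGU
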