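import Mathlib
import Cfsg.Agent.Lib.helper17.SLP.Defs
import Cfsg.Agent.Lib.helper17.SL3.Defs

set_option autoImplicit false

namespace Cfsg.Agent.Lib.helper17.SL3

open Cfsg.Agent.Lib.helper17.SLP
open Polynomial

universe u v

/-- in a finite group of units generated by `ζ`, every unit is a natural power of `ζ` -/
theorem sl3a2_exists_pow {F : Type*} [Field F] [Fintype F] (ζ : Fˣ)
    (hζ : ∀ y : Fˣ, y ∈ Subgroup.zpowers ζ) (y : Fˣ) : ∃ n : ℕ, ζ ^ n = y := by
  have h := hζ y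
  rw [← mem_powers_iff_mem_zpowers] at h
  exact h

theorem aeval_gen_surjective {F : Type*} [Field F] [Fintype F] (p : ℕ) [Fact p.Prime] [Algebra (ZMod p) F]
    (ζ : Fˣ) (hζ : ∀ y : Fˣ, y ∈ Subgroup.zpowers ζ) :
    Function.Surjective (fun f : (ZMod p)[X] => aeval (ζ : F) f) := by
  intro y
  by_cases hy : y = 0
  · exact ⟨0, by simp [hy]⟩
  · obtain ⟨n, hn⟩ := sl3a2_exists_pow ζ hζ (Units.mk0 y hy)
    refine ⟨X ^ n, ?_⟩
    have : ((ζ ^ n : Fˣ) : F) = y := by rw [hn]; rfl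
    simpa using this

end Cfsg.Agent.Lib.helper17.SL3
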