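import Mathlib
import Cfsg.Agent.Lib.Helper1.SLN.Defs

/-!
# SL7 P6 (designer helper1, Skel `Helper1/SLN/Skel.lean.txt`, for S2290): `two_gen_of_pres`
-/

set_option autoImplicit false

namespace Cfsg.Agent.Lib.Helper1.SLN

open Matrix Equiv

universe u v

/-- P6 [S]  `a := e (of 0)`, `b := e (of 1)`; `PresentedGroup.closure_range_of`, `Subgroup.map_closure` along `e`, `Set.range` of a function on `Fin 2` is a pair. -/
theorem two_gen_of_pres {G : Type v} [Group G] (rels : Set (FreeGroup (Fin 2)))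
    (e : PresentedGroup rels ≃* G) : ∃ a b : G, Subgroup.closure ({a, b} : Set G) = ⊤ := by
  refine ⟨e (PresentedGroup.of 0), e (PresentedGroup.of 1), ?_⟩
  have h1 : Subgroup.closure (Set.range (PresentedGroup.of (rels := rels))) = ⊤ :=
    PresentedGroup.closure_range_of rels
  have h2 : (Subgroup.closure (Set.range (PresentedGroup.of (rels := rels)))).map e.toMonoidHom = ⊤ := by
    rw [h1, ← MonoidHom.range_eq_map, MonoidHom.range_eq_top]
    exact e.surjective
  rw [MonoidHom.map_closure] at h2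
  rw [← h2]
  congr 1
  ext x
  simp only [Set.mem_insert_iff, Set.mem_singleton_iff, Set.mem_image, Set.mem_range,
    MulEquiv.coe_toMonoidHom]
  constructor
  · rintro (rfl | rfl)
    · exact ⟨_, ⟨0, rfl⟩, rfl⟩
    · exact ⟨_, ⟨1, rfl⟩, rfl⟩
  · rintro ⟨_, ⟨i, rfl⟩, rfl⟩
    fin_cases i
    · left; rfl
    · right; rfl

end Cfsg.Agent.Lib.Helper1.SLN
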