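import Mathlib
import Cfsg.Agent.Lib.Helper1.SLN.Defs
import Cfsg.Agent.Lib.Helper1.SLN.Defs2

/-!
# Project SL7 (designer helper1), skeleton 2, row Z4: `stab01 0 = ⊥`.
-/

set_option autoImplicit false

namespace Cfsg.Agent.Lib.Helper1.SLN

open Matrix Equiv

theorem sl7z4_perm4 : ∀ p : Equiv.Perm (Fin 4), p 0 = 0 → p 1 = 1 → Equiv.Perm.sign p = 1 → p = 1 := by
  decide

/-- Z4 [S-M]  `n = 4`: the only even permutation of `Fin 4` fixing `0` and `1` is `1` (it fixes or swaps `2, 3`; the swap is odd; `decide` works on `Equiv.Perm (Fin 4)`). -/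
theorem stab01_zero : stab01 0 = ⊥ := by
  rw [eq_bot_iff]
  intro τ hτ
  rw [Subgroup.mem_bot]
  obtain ⟨h0, h1⟩ := hτ
  apply Subtype.ext
  have hs : Equiv.Perm.sign (τ : Equiv.Perm (Fin (0 + 4))) = 1 := Equiv.Perm.mem_alternatingGroup.mp τ.2
  exact sl7z4_perm4 (τ : Equiv.Perm (Fin (0 + 4))) h0 h1 hs

end Cfsg.Agent.Lib.Helper1.SLN
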