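import Cfsg.Agent.Lib.Helper1.SLK.Defs
import Cfsg.Agent.Lib.Helper22.SLKA4core
import Cfsg.Agent.Lib.Helper10.SLKA3
import Cfsg.Agent.Lib.helper4.SLKD3
import Cfsg.Agent.Lib.helper4.SLKD4

set_option autoImplicit false

namespace Cfsg.Agent.Lib.Helper1.SLK

open Polynomial
open Cfsg.Agent.Lib.Helper29.GLK

universe u

theorem det_decomp {F : Type u} [Field F] [DecidableEq F] {n : ℕ}
    (x : Matrix.GeneralLinearGroup (Fin n) F) {ι : Type u} [Fintype ι] (p : ι → F[X]) (e : ι → ℕ)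
    (hp : ∀ j, Irreducible (p j))
    (Φ : gMod x ≃ₗ[F[X]] DirectSum ι fun j => F[X] ⧸ Ideal.span {p j ^ e j}) :
    (x : Matrix (Fin n) (Fin n) F).det =
      ∏ j, ((-1) ^ (p j).natDegree * (normalize (p j)).coeff 0) ^ e j :=
  slka4_core x (fun g a hg Φ => det_conj_dmul x g a hg Φ)
    (fun p a hp e => norm_quot_pow p a hp e) (fun p hp => norm_quot_X p hp) p e hp Φ

end Cfsg.Agent.Lib.Helper1.SLK
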