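import Mathlib
import Cfsg.Agent.Lib.helper17.SLP.Defs
import Cfsg.Agent.Lib.helper3.SP4.Defs
import Cfsg.Agent.Lib.Helper22.SP4FIN4core
import Cfsg.Agent.Lib.Helper10.SP4M2
import Cfsg.Agent.Lib.helper3.SP4M5
import Cfsg.Agent.Lib.Helper9.SP4P2

/-!
Project SP4 row FIN4 (verbatim): the relators hold at the six matrices, which generate `Sp₄(F)`.
-/

set_option autoImplicit false

namespace Cfsg.Agent.Lib.helper3.SP4

open Cfsg.Agent.Lib.helper17.SLP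

universe u v

section FIN

variable {F : Type u} [Field F] [Fintype F]

/-- FIN4 [M]  deps M4 P2 P3 P4 H1 + `closure_M`. -/
theorem words_M (ζ : Fˣ) (hζ : ∀ y : Fˣ, y ∈ Subgroup.zpowers ζ) (L : List (FreeGroup (Fin 3)))
    (az : FreeGroup (Fin 3)) (hLrel : ∀ r ∈ L, ev (xM (1 : F)) (hM ζ) wM r = 1)
    (haz : ev (xM (1 : F)) (hM ζ) wM az = xM (ζ : F)) :
    (∀ r ∈ L.map inA ++ L.map inB ++ wordsS6 (inA az),
        ev6 (rhoA (xM (1 : F))) (rhoA (hM ζ)) (rhoA wM) (rhoB (xM (1 : F))) (rhoB (hM ζ)) (rhoB wM) r = 1) ∧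
      Subgroup.closure {rhoA (xM (1 : F)), rhoA (hM ζ), rhoA wM, rhoB (xM (1 : F)), rhoB (hM ζ), rhoB wM} = ⊤ :=
  sp4fin4_core ζ hζ (hyp_M ζ) closure_Sp4
    (fun ua ha wa ub hb wb r => ev6_inA ua ha wa ub hb wb r)
    (fun ua ha wa ub hb wb r => ev6_inB ua ha wa ub hb wb r)
    (fun ua ha wa ub hb wb za => ev6_wordsS6 ua ha wa ub hb wb za)
    (hyp_iff_rel ζ rhoA rhoB) L az hLrel haz

end FIN

end Cfsg.Agent.Lib.helper3.SP4
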