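import Mathlib
import Cfsg.Prelude.Def_Classical
import Cfsg.Prelude.Def_KGroupFacts
import Cfsg.Agent.Lib.helper3.SPB.Defs

/-!
# Project SPB (designer helper3), row C10 (helper22), verbatim: `hs a t = t p_a + t⁻¹ p_{-a}` in the Clifford algebra `ClB l F`.
Self-contained on `SPB/Defs.lean`: own-name copies of C1 (`YY_mul`, `YY_opp`) and C8 (`wsOf_XCs`).
-/

set_option autoImplicit false

namespace Cfsg.Agent.Lib.helper3.SPB

open Cfsg.Agent.Lib.helper15.St2 Cfsg.Agent.Lib.helper3.STC Cfsg.Agent.Lib.Lead.STD Cfsg.Agent.Lib.Lead.STB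
  Cfsg.Agent.Lib.Lead.SPN Cfsg.Agent.Lib.Helper16 Cfsg.Agent.Lib.Helper12.OMB

universe u v w

/-- ring form of C8: `(1 + tY)(1 + sZ)(1 + tY) = tY + sZ` if `Y² = 0`, `YZ + ZY = -1`, `ts = 1`. -/
theorem spbc10_ws_ring {F : Type*} [Field F] {R : Type*} [Ring R] [Algebra F R] {Y Z : R} (hY : Y * Y = 0)
    (hYZ : Y * Z + Z * Y = -1) (t s : F) (hts : t * s = 1) :
    (1 + t • Y) * (1 + s • Z) * (1 + t • Y) = t • Y + s • Z := by
  have hZY : Z * Y = -1 - Y * Z := by rw [← hYZ]; abel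
  have hYZY : Y * Z * Y = -Y := by
    rw [mul_assoc, hZY, mul_sub, mul_neg, mul_one, ← mul_assoc, hY, zero_mul, sub_zero]
  have hP : (1 + t • Y) * (1 + s • Z) = 1 + t • Y + s • Z + Y * Z := by
    rw [mul_add, mul_one, add_mul, one_mul, smul_mul_assoc, mul_smul_comm, smul_smul, hts, one_smul]
    abel
  have hPY : (1 + t • Y + s • Z + Y * Z) * Y = s • (Z * Y) := by
    rw [add_mul, add_mul, add_mul, one_mul, smul_mul_assoc, hY, smul_zero, smul_mul_assoc, hYZY]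
    abel
  rw [hP, mul_add, mul_one, mul_smul_comm, hPY, smul_smul, hts, one_smul, add_assoc, hYZ]
  abel

/-- ring form of C10: `(tY + sZ)(-Y - Z) = -t YZ - s ZY` if `Y² = Z² = 0`. -/
theorem spbc10_hs_ring {F : Type*} [Field F] {R : Type*} [Ring R] [Algebra F R] {Y Z : R} (hY : Y * Y = 0)
    (hZ : Z * Z = 0) (t s : F) :
    (t • Y + s • Z) * ((-1 : F) • Y + (-1 : F) • Z) = -(t • (Y * Z)) - s • (Z * Y) := by
  rw [mul_add, add_mul, add_mul, smul_mul_smul_comm, smul_mul_smul_comm, smul_mul_smul_comm, smul_mul_smul_comm,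
    hY, hZ, smul_zero, smul_zero, mul_neg_one, mul_neg_one, neg_smul, neg_smul]
  abel

section C

variable {l : ℕ} {F : Type u} [Field F]

/-- own-name copy of C1 `YY_mul`. -/
theorem spbc10_YY_mul (a b : Fin l ⊕ Fin l) : YY (F := F) a * YY b = -(gamB a * gamB b) := by
  unfold YY
  calc gam0 (F := F) * gamB a * (gam0 * gamB b) = gam0 * (gamB a * gam0) * gamB b := by noncomm_ring
    _ = -(gam0 * gam0 * (gamB a * gamB b)) := by rw [gamB_gam0]; noncomm_ring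
    _ = -(gamB a * gamB b) := by rw [gam0_sq, one_mul]

theorem spbc10_ng_ng (a : Fin l ⊕ Fin l) : ng (ng a) = a := by cases a <;> rfl

/-- own-name copy of C1 `YY_opp`. -/
theorem spbc10_YY_opp (a : Fin l ⊕ Fin l) : YY (F := F) a * YY (ng a) + YY (ng a) * YY a = -1 := by
  rw [spbc10_YY_mul, spbc10_YY_mul]
  have h := gamB_car (F := F) a (ng a)
  rw [if_pos (spbc10_ng_ng a).symm] at h
  rw [← h]
  abel

/-- own-name copy of C8 `wsOf_XCs`. -/
theorem spbc10_wsOf_XCs (a : Fin l ⊕ Fin l) (t : F) (ht : t ≠ 0) :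
    ((wsOf (XCs (l := l) (F := F)) a t : (ClB l F)ˣ) : ClB l F) = t • YY a + t⁻¹ • YY (ng a) := by
  unfold wsOf
  rw [Units.val_mul, Units.val_mul, XCs_val, XCs_val]
  exact spbc10_ws_ring (YY_sq a) (spbc10_YY_opp a) t t⁻¹ (mul_inv_cancel₀ ht)

/-- C10 [S-M]  `hs a t = ws a t * ws a (-1) = (tY + t⁻¹Z)(-Y - Z) = -t YZ - t⁻¹ ZY = t p_a + t⁻¹ p_{-a}` (C8 twice, `(-1)⁻¹ = -1`; `YZ = -p_a`, `ZY = -p_{-a}` by C1 `YY_mul`; `ng (ng a) = a`). -/
theorem hsOf_XCs (a : Fin l ⊕ Fin l) (t : F) (ht : t ≠ 0) :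
    ((hsOf (XCs (l := l) (F := F)) a t : (ClB l F)ˣ) : ClB l F) = t • ppB a + t⁻¹ • ppB (ng a) := by
  unfold hsOf
  rw [Units.val_mul, spbc10_wsOf_XCs a t ht, spbc10_wsOf_XCs a (-1) (neg_ne_zero.2 one_ne_zero)]
  have e1 : ((-1 : F))⁻¹ = -1 := by rw [inv_neg, inv_one]
  rw [e1]
  have hyz : YY (F := F) a * YY (ng a) = -ppB a := by
    rw [spbc10_YY_mul]; rfl
  have hzy : YY (F := F) (ng a) * YY a = -ppB (ng a) := by
    rw [spbc10_YY_mul]
    unfold ppB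
    rw [spbc10_ng_ng]
  rw [spbc10_hs_ring (YY_sq a) (YY_sq (ng a)) t t⁻¹, hyz, hzy, smul_neg, smul_neg, neg_neg, sub_neg_eq_add]

end C

end Cfsg.Agent.Lib.helper3.SPB
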