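import Mathlib
import Cfsg.Agent.Lib.Helper22.SPBM2core
import Cfsg.Agent.Lib.Helper11.SPBT5
import Cfsg.Agent.Lib.Helper29.SPBT10

/-!
# Project SPB (designer helper3; S2094), row M2 (helper22), VERBATIM: `sig` is a Schur cover.
-/

set_option autoImplicit false

namespace Cfsg.Agent.Lib.helper3.SPB

open Cfsg.Agent.Lib.helper15.St2 Cfsg.Agent.Lib.helper3.STC Cfsg.Agent.Lib.Lead.STD Cfsg.Agent.Lib.Lead.STB
  Cfsg.Agent.Lib.Lead.SPN Cfsg.Agent.Lib.Helper16 Cfsg.Agent.Lib.Helper12.OMB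

universe u v w

/-- M2 [S-M]  `sig` is a Schur cover: helper23's `scv_cover_of_trivial C.sig C.stem hG Δ τ hτ` (`helper23.SchurCoverD`), T8, T10.  (Model: SPN M2, `helper4/SPNM1b.lean`.) -/
theorem CovB.schur {l : ℕ} {F : Type u} [Field F] [Fintype F] {G : Type u} [Group G] (C : CovB l F G)
    (hstb : ∀ (H : Type u) [Group H], StbInjAt l F H) (homb : OmbSys l F) (hcen : OmbCenter l F)
    (hG : Cfsg.HasCyclicSchurMultiplier G 1) {A : Type w} [CommGroup A] (e : Nonempty (C.sig.ker ≃* A)) :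
    Cfsg.HasSchurMultiplier (Cfsg.POmega F (Cfsg.quadFormOdd l F)) A :=
  CovB.spbm2_core C (CovB.finite C hstb) (CovB.stem C hstb homb hcen) hG e

end Cfsg.Agent.Lib.helper3.SPB
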