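import Mathlib
import Cfsg.Agent.Lib.helper7.SPC.Defs

set_option autoImplicit false

/-!
# Project SPC, row A3: `blkA_scale`.
-/

namespace Cfsg.Agent.Lib.helper7.SPC

universe u

open Module

variable {F : Type u} [Field F]

theorem spca3_gram_smul (k : ℕ) (c : F) : gramA k c = c • gramA k (1 : F) := by
  ext a b
  simp only [gramA, Matrix.smul_apply, smul_eq_mul]
  split_ifs
  · ring
  · ring

/-- the form with Gram matrix `gramA k c` is `c` times the form with Gram matrix `gramA k 1` -/
theorem spca3_form (k : ℕ) (c : F) (v w : Fin k → F) :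
    Matrix.toLinearMap₂' F (gramA k c) v w = c * Matrix.toLinearMap₂' F (gramA k (1 : F)) v w := by
  rw [spca3_gram_smul k c, map_smul]
  rfl

/-- an isomorphism of blocks from a linear equivalence of the coordinate spaces -/
theorem spca3_tiso_of (k : ℕ) (c c' : F) (e : (Fin k → F) ≃ₗ[F] (Fin k → F))
    (h1 : ∀ x y : Fin k → F, Matrix.toLinearMap₂' F (gramA k c') (e x) (e y) =
      Matrix.toLinearMap₂' F (gramA k c) x y)
    (h2 : ∀ x : Fin k → F, e (Matrix.toLin' (shiftM k F) x) = Matrix.toLin' (shiftM k F) (e x)) :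
    TIso (blkA k c) (blkA k c') := ⟨e, h1, h2⟩

/-- A3 [S-M]: `c * c' = t * t`, `c' = (t / c) ^ 2 * c`; `e = s • id` with `s = c / t`: `B' (s v, s w) = s² c' ⟨v, w⟩ = c ⟨v, w⟩`. -/
theorem blkA_scale (k : ℕ) (c c' : F) (hc : c ≠ 0) (hc' : c' ≠ 0) (h : IsSquare (c * c')) :
    TIso (blkA k c) (blkA k c') := by
  obtain ⟨t, ht⟩ := h
  have ht0 : t ≠ 0 := by
    intro h0
    rw [h0, mul_zero] at ht
    exact mul_ne_zero hc hc' ht
  have hs : t / c' ≠ 0 := div_ne_zero ht0 hc'
  have h1 : ∀ v : Fin k → F, LinearEquiv.smulOfNeZero F (Fin k → F) (t / c') hs v = (t / c') • v :=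
    fun v => rfl
  apply spca3_tiso_of k c c' (LinearEquiv.smulOfNeZero F (Fin k → F) (t / c') hs)
  · intro x y
    rw [h1 x, h1 y, spca3_form, spca3_form k c]
    simp only [map_smul, LinearMap.smul_apply, smul_eq_mul]
    have h2 : c' * (t / c' * (t / c')) = c := by
      field_simp
      linear_combination -ht
    rw [← h2]
    ring
  · intro x
    rw [h1, h1, map_smul]

end Cfsg.Agent.Lib.helper7.SPC
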