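import Mathlib
import Cfsg.Agent.Lib.helper7.SPC.Defs
import Cfsg.Agent.Lib.Helper22.SPCA3

set_option autoImplicit false

/-!
# Project SPC, row A4: `blkA_exchange`.
-/

namespace Cfsg.Agent.Lib.helper7.SPC

universe u

open Module

variable {F : Type u} [Field F]

section mix

variable {V : Type u} [AddCommGroup V] [Module F V]

/-- the map `(v, w) ↦ (a v + b w, c v + d w)` -/
def spca4_mix (a b c d : F) : (V × V) →ₗ[F] (V × V) :=
  LinearMap.prod (a • LinearMap.fst F V V + b • LinearMap.snd F V V)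
    (c • LinearMap.fst F V V + d • LinearMap.snd F V V)

theorem spca4_mix_apply (a b c d : F) (p : V × V) :
    spca4_mix a b c d p = (a • p.1 + b • p.2, c • p.1 + d • p.2) := rfl

theorem spca4_mix_comp (a b c d a' b' c' d' : F) (p : V × V) :
    spca4_mix a b c d (spca4_mix a' b' c' d' p) =
      spca4_mix (a * a' + b * c') (a * b' + b * d') (c * a' + d * c') (c * b' + d * d') p := by
  simp only [spca4_mix_apply]
  apply Prod.ext
  · show a • (a' • p.1 + b' • p.2) + b • (c' • p.1 + d' • p.2) =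
      (a * a' + b * c') • p.1 + (a * b' + b * d') • p.2
    module
  · show c • (a' • p.1 + b' • p.2) + d • (c' • p.1 + d' • p.2) =
      (c * a' + d * c') • p.1 + (c * b' + d * d') • p.2
    module

theorem spca4_mix_one (p : V × V) : spca4_mix (1 : F) 0 0 1 p = p := by
  rw [spca4_mix_apply]
  apply Prod.ext
  · show (1 : F) • p.1 + (0 : F) • p.2 = p.1
    rw [one_smul, zero_smul, add_zero]
  · show (0 : F) • p.1 + (1 : F) • p.2 = p.2
    rw [one_smul, zero_smul, zero_add]

/-- the linear equivalence of an invertible `2 × 2` scalar matrix -/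
def spca4_equiv (a b c d a' b' c' d' : F) (h11 : a * a' + b * c' = 1) (h12 : a * b' + b * d' = 0)
    (h21 : c * a' + d * c' = 0) (h22 : c * b' + d * d' = 1) (k11 : a' * a + b' * c = 1)
    (k12 : a' * b + b' * d = 0) (k21 : c' * a + d' * c = 0) (k22 : c' * b + d' * d = 1) :
    (V × V) ≃ₗ[F] (V × V) :=
  LinearEquiv.ofLinearMap (spca4_mix a b c d) (spca4_mix a' b' c' d')
    (LinearMap.ext fun p => by
      rw [LinearMap.comp_apply, spca4_mix_comp, h11, h12, h21, h22, spca4_mix_one]
      rfl)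
    (LinearMap.ext fun p => by
      rw [LinearMap.comp_apply, spca4_mix_comp, k11, k12, k21, k22, spca4_mix_one]
      rfl)

theorem spca4_equiv_apply (a b c d a' b' c' d' : F) (h11 : a * a' + b * c' = 1)
    (h12 : a * b' + b * d' = 0)
    (h21 : c * a' + d * c' = 0) (h22 : c * b' + d * d' = 1) (k11 : a' * a + b' * c = 1)
    (k12 : a' * b + b' * d = 0) (k21 : c' * a + d' * c = 0) (k22 : c' * b + d' * d = 1) (p : V × V) :
    (spca4_equiv a b c d a' b' c' d' h11 h12 h21 h22 k11 k12 k21 k22 : (V × V) ≃ₗ[F] (V × V)) p =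
      (a • p.1 + b • p.2, c • p.1 + d • p.2) := rfl

end mix

/-- an isomorphism of sums of two blocks from a linear equivalence of the coordinate spaces -/
theorem spca4_tiso_of (k : ℕ) (c₁ c₂ c₃ c₄ : F)
    (e : ((Fin k → F) × (Fin k → F)) ≃ₗ[F] ((Fin k → F) × (Fin k → F)))
    (h1 : ∀ p q : (Fin k → F) × (Fin k → F),
      Matrix.toLinearMap₂' F (gramA k c₃) (e p).1 (e q).1 +
        Matrix.toLinearMap₂' F (gramA k c₄) (e p).2 (e q).2 =
      Matrix.toLinearMap₂' F (gramA k c₁) p.1 q.1 + Matrix.toLinearMap₂' F (gramA k c₂) p.2 q.2)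
    (h2 : ∀ p : (Fin k → F) × (Fin k → F),
      e (Matrix.toLin' (shiftM k F) p.1, Matrix.toLin' (shiftM k F) p.2) =
        (Matrix.toLin' (shiftM k F) (e p).1, Matrix.toLin' (shiftM k F) (e p).2)) :
    TIso (TSum (blkA k c₁) (blkA k c₂)) (TSum (blkA k c₃) (blkA k c₄)) := ⟨e, h1, h2⟩

/-- a solution of `c x² + e y² = c'` over a finite field of odd characteristic -/
theorem spca4_solve [Fintype F] (h2 : (2 : F) ≠ 0) (c e c' : F) (hc : c ≠ 0) (he : e ≠ 0) :
    ∃ x y : F, c * x ^ 2 + e * y ^ 2 = c' := by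
  have hchar : ringChar F ≠ 2 := by
    intro h
    apply h2
    have h3 := CharP.cast_eq_zero F (ringChar F)
    rw [h] at h3
    exact_mod_cast h3
  have hcard : Fintype.card F % 2 = 1 := FiniteField.odd_card_of_char_ne_two hchar
  have hf : (Polynomial.C c * Polynomial.X ^ 2 : Polynomial F).degree = 2 :=
    Polynomial.degree_C_mul_X_pow 2 hc
  have hg : (Polynomial.C e * Polynomial.X ^ 2 - Polynomial.C c' : Polynomial F).degree = 2 := by
    rw [Polynomial.degree_sub_C]
    · exact Polynomial.degree_C_mul_X_pow 2 he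
    · rw [Polynomial.degree_C_mul_X_pow 2 he]
      norm_num
  obtain ⟨x, y, hxy⟩ := FiniteField.exists_root_sum_quadratic hf hg hcard
  refine ⟨x, y, ?_⟩
  simp only [Polynomial.eval_mul, Polynomial.eval_C, Polynomial.eval_pow, Polynomial.eval_X,
    Polynomial.eval_sub] at hxy
  linear_combination hxy

/-- A4 [M-L]: `c x² + e y² = c'` has a solution (`FiniteField.exists_root_sum_quadratic` with `f = C c * X ^ 2`, `g = C e * X ^ 2 - C c'`).  The map `(v, w) ↦ (x v - e y w, y v + c x w)` from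
`blkA k c' ⊕ blkA k (c e c')` to `blkA k c ⊕ blkA k e` is invertible (determinant `c'`), commutes with the shifts, and pulls `c ⟨,⟩ + e ⟨,⟩` back to `c' ⟨,⟩ + c e c' ⟨,⟩`
(`⟨v, w⟩ = Σ (gramA k 1) a b v_a w_b`, `gramA k c = c • gramA k 1`). -/
theorem blkA_exchange [Fintype F] (h2 : (2 : F) ≠ 0) (k : ℕ) (c e c' : F) (hc : c ≠ 0) (he : e ≠ 0)
    (hc' : c' ≠ 0) :
    TIso (TSum (blkA k c) (blkA k e)) (TSum (blkA k c') (blkA k (c * e * c'))) := by
  obtain ⟨x, y, hxy⟩ := spca4_solve h2 c e c' hc he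
  subst hxy
  obtain ⟨i, hi⟩ : ∃ i : F, (c * x ^ 2 + e * y ^ 2) * i = 1 := ⟨_, mul_inv_cancel₀ hc'⟩
  have h11 : c * x * i * x + e * y * i * y = 1 := by linear_combination hi
  have h12 : c * x * i * (-(e * y)) + e * y * i * (c * x) = 0 := by ring
  have h21 : -y * i * x + x * i * y = 0 := by ring
  have h22 : -y * i * (-(e * y)) + x * i * (c * x) = 1 := by linear_combination hi
  have k11 : x * (c * x * i) + -(e * y) * (-y * i) = 1 := by linear_combination hi
  have k12 : x * (e * y * i) + -(e * y) * (x * i) = 0 := by ring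
  have k21 : y * (c * x * i) + c * x * (-y * i) = 0 := by ring
  have k22 : y * (e * y * i) + c * x * (x * i) = 1 := by linear_combination hi
  apply spca4_tiso_of k c e (c * x ^ 2 + e * y ^ 2) (c * e * (c * x ^ 2 + e * y ^ 2))
    (spca4_equiv (V := Fin k → F) _ _ _ _ _ _ _ _ h11 h12 h21 h22 k11 k12 k21 k22)
  · intro p q
    simp only [spca4_equiv_apply, spca3_form k c, spca3_form k e, spca3_form k (c * x ^ 2 + e * y ^ 2),
      spca3_form k (c * e * (c * x ^ 2 + e * y ^ 2)), map_add, map_smul, LinearMap.add_apply,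
      LinearMap.smul_apply, smul_eq_mul]
    generalize Matrix.toLinearMap₂' F (gramA k (1 : F)) p.1 q.1 = A
    generalize Matrix.toLinearMap₂' F (gramA k (1 : F)) p.1 q.2 = B
    generalize Matrix.toLinearMap₂' F (gramA k (1 : F)) p.2 q.1 = C
    generalize Matrix.toLinearMap₂' F (gramA k (1 : F)) p.2 q.2 = D
    linear_combination (c * A + e * D) * ((c * x ^ 2 + e * y ^ 2) * i + 1) * hi
  · intro p
    simp only [spca4_equiv_apply, map_add, map_smul]

end Cfsg.Agent.Lib.helper7.SPC
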