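import Mathlib
import Cfsg.Agent.Lib.Helper19.SPD.Defs
import Cfsg.Agent.Lib.Helper28.SPDORTHINV

set_option autoImplicit false
set_option linter.unusedVariables false
set_option linter.unusedSectionVars false

namespace Cfsg.Agent.Lib.Helper19.SPD

open Polynomial
open Cfsg.Agent.Lib.helper6 Cfsg.Agent.Lib.helper6.SB

variable {F : Type*} [Field F] {d : ℕ}

/-- arithmetic of one peeling step -/
theorem spdpeel_arith (c a T j f : ℕ) (hce : Even c) (hc2 : 2 ≤ c) (hae : Even a) (hca : c ≤ a)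
    (hT : 1 ≤ T) (hjf : c * j + 2 * f = a * T) (hl : T * (a % c) < c) :
    ∃ i' ≤ j, ∃ g ≤ f, c * i' + 2 * g = a := by
  obtain ⟨c', rfl⟩ := hce
  obtain ⟨a', rfl⟩ := hae
  have hc0 : 0 < c' + c' := by omega
  have hdm := Nat.div_add_mod (a' + a') (c' + c')
  set u := (a' + a') / (c' + c') with hu
  set l := (a' + a') % (c' + c') with hl'
  have hlc : l < c' + c' := Nat.mod_lt _ hc0
  by_cases hju : u ≤ j
  · -- i' = u, 2 g = l
    have hl2 : l % 2 = 0 := by
      have h1 : (c' + c') * u = 2 * (c' * u) := by ring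
      omega
    refine ⟨u, hju, l / 2, ?_, ?_⟩
    · -- l ≤ 2 f
      by_contra hcon
      push Not at hcon
      -- 2 f < l
      by_cases hjuT : j ≤ u * T
      · -- 2f = c(uT - j) + lT ≥ l
        have e1 : (a' + a') * T = (c' + c') * (u * T) + l * T := by
          rw [← hdm]; ring
        have e2 : (c' + c') * (u * T) = (c' + c') * j + (c' + c') * (u * T - j) := by
          rw [← Nat.mul_add]; congr 1; omega
        have e3 : l ≤ l * T := Nat.le_mul_of_pos_right l hT
        have e4 : 0 ≤ (c' + c') * (u * T - j) := Nat.zero_le _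
        omega
      · push Not at hjuT
        -- j ≥ uT + 1: c j ≥ c u T + c, so a T = c j + 2 f ≥ c u T + c, so l T ≥ c
        have e1 : (a' + a') * T = (c' + c') * (u * T) + l * T := by
          rw [← hdm]; ring
        have e2 : (c' + c') * (u * T + 1) ≤ (c' + c') * j := Nat.mul_le_mul_left _ hjuT
        have e3 : (c' + c') * (u * T + 1) = (c' + c') * (u * T) + (c' + c') := by ring
        have e4 : T * l = l * T := Nat.mul_comm _ _
        omega
    · omega
  · push Not at hju
    -- i' = j, 2 g = a - c j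
    have e1 : (c' + c') * j = 2 * (c' * j) := by ring
    have e2 : (c' + c') * (j + 1) ≤ (c' + c') * u := Nat.mul_le_mul_left _ hju
    have e3 : (c' + c') * (j + 1) = (c' + c') * j + (c' + c') := by ring
    have e4 : a' + a' ≤ (a' + a') * T := Nat.le_mul_of_pos_right _ hT
    refine ⟨j, le_rfl, (a' + a' - (c' + c') * j) / 2, ?_, ?_⟩
    · omega
    · omega

/-- PEEL [L]: peel off `t'` pairwise orthogonal invariant nondegenerate `a`-spaces (induction on `t'` as in `Cfsg.Agent.S5960.peel`).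
Arithmetic of one step (`T = t' + 1`, `u = a / c`, `l = a % c`, `c j + 2 f = a T`): take `i' = min j u`, `g = (a - c i') / 2`; `g ≤ f` because `T l < c`
(`j ≥ u`: `2 g = l`; if `j > u T` then `2 f = l T - c (j - u T) ≥ 0` forces `l T ≥ c`). -/
theorem peel_r (r : ℕ) (hr : 0 < r) (c a : ℕ) (hce : Even c) (hc2 : 2 ≤ c) (hae : Even a) (hca : c ≤ a)
    (y : (Fin d ⊕ Fin d → F) →ₗ[F] (Fin d ⊕ Fin d → F)) (hiso : Isom y) (hy : y ^ r = 1)
    (hstruct : ∀ (d' : ℕ) (V' : Submodule F (Fin d ⊕ Fin d → F)), Inv y V' → ND V' → Module.finrank F V' = 2 * d' →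
      ∃ j f : ℕ, c * j + 2 * f = 2 * d' ∧
        ∀ i' ≤ j, ∀ g ≤ f, ∃ D ≤ V', Inv y D ∧ ND D ∧ Module.finrank F D = c * i' + 2 * g) :
    ∀ (t' : ℕ) (V' : Submodule F (Fin d ⊕ Fin d → F)), Inv y V' → ND V' → Module.finrank F V' = a * t' →
      t' * (a % c) < c →
      ∃ D : Fin t' → Submodule F (Fin d ⊕ Fin d → F), (∀ j, Module.finrank F (D j) = a) ∧ (∀ j, ND (D j)) ∧
        (∀ j j', j ≠ j' → Orth (D j) (D j')) ∧ iSupIndep D ∧ iSup D = V' ∧ ∀ j, Inv y (D j) := by
  intro t'
  induction t' with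
  | zero =>
    intro V' hinv hnd hdim _
    have hV : V' = ⊥ := by
      rw [← Submodule.finrank_eq_zero]; omega
    refine ⟨fun j => j.elim0, fun j => j.elim0, fun j => j.elim0, fun j => j.elim0,
      iSupIndep_subsingleton _, ?_, fun j => j.elim0⟩
    rw [iSup_of_empty, hV]
  | succ t ih =>
    intro V' hinv hnd hdim hl
    obtain ⟨a', ha'⟩ := hae
    have hdim2 : Module.finrank F V' = 2 * (a' * (t + 1)) := by rw [hdim, ha']; ring
    obtain ⟨j, f, hjf, hD⟩ := hstruct (a' * (t + 1)) V' hinv hnd hdim2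
    have hjf' : c * j + 2 * f = a * (t + 1) := by rw [hjf, ha']; ring
    obtain ⟨i', hi', g, hg, hig⟩ := spdpeel_arith c a (t + 1) j f hce hc2 ⟨a', ha'⟩ hca (by omega) hjf' hl
    obtain ⟨D₀, hD1, hD2, hD3, hD4⟩ := hD i' hi' g hg
    rw [hig] at hD4
    obtain ⟨r1, r2, r3, r4⟩ := Cfsg.Agent.S5960.rel d V' D₀ hnd hD3 hD1
    have hV''inv : Inv y (V' ⊓ orth d D₀) := fun v hv =>
      ⟨hinv v hv.1, orth_inv r hr y hiso hy D₀ hD2 v hv.2⟩
    have hexp : a * (t + 1) = a * t + a := by ring
    have hl' : t * (a % c) < c := by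
      have : (t + 1) * (a % c) = t * (a % c) + a % c := by ring
      omega
    obtain ⟨D', e1, e2, e3, e4, e5, e6⟩ := ih (V' ⊓ orth d D₀) hV''inv r3 (by omega) hl'
    have hD'le : ∀ j, D' j ≤ orth d D₀ := fun j =>
      (le_iSup D' j).trans (e5.le.trans inf_le_right)
    refine ⟨Fin.cons D₀ D', ?_, ?_, ?_, ?_, ?_, ?_⟩
    · intro j
      refine Fin.cases ?_ (fun j => ?_) j
      · exact hD4
      · exact e1 j
    · intro j
      refine Fin.cases ?_ (fun j => ?_) j
      · exact hD3
      · exact e2 j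
    · intro j j'
      refine Fin.cases ?_ (fun j => ?_) j <;> refine Fin.cases ?_ (fun j' => ?_) j'
      · intro h; exact absurd rfl h
      · intro _ u hu v hv
        exact (Cfsg.Agent.S5960.orth_zero d D₀ v u (hD'le j' hv) hu).2
      · intro _ u hu v hv
        exact (Cfsg.Agent.S5960.orth_zero d D₀ u v (hD'le j hu) hv).1
      · intro h u hu v hv
        exact e3 j j' (fun h' => h (by rw [h'])) u hu v hv
    · apply Cfsg.Agent.S5957.indep_cons _ _ e4
      rw [e5]; exact r2
    · rw [Cfsg.Agent.S5957.iSup_cons, e5, r1]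
    · intro j
      refine Fin.cases ?_ (fun j => ?_) j
      · exact hD2
      · exact e6 j

end Cfsg.Agent.Lib.Helper19.SPD
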