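import Mathlib
import Cfsg.Agent.Lib.Helper19.SPD.Defs

set_option autoImplicit false
set_option linter.unusedVariables false
set_option linter.unusedSectionVars false

namespace Cfsg.Agent.Lib.Helper19.SPD

open Polynomial

variable {F : Type*} [Field F] {d : ℕ}

/-- generic version of SEMI: `ker (y - 1)` and `range (y - 1)` are disjoint when `y ^ r = 1`, `r` invertible. -/
theorem spdsemi_disjoint {V : Type*} [AddCommGroup V] [Module F V] (r : ℕ) (hrF : (r : F) ≠ 0)
    (y : Module.End F V) (hy : y ^ r = 1) :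
    Disjoint (LinearMap.ker (y - 1)) (LinearMap.range (y - 1)) := by
  rw [Submodule.disjoint_def]
  intro v hv1 hv2
  rw [LinearMap.mem_ker, LinearMap.sub_apply, Module.End.one_apply, sub_eq_zero] at hv1
  obtain ⟨w, rfl⟩ := hv2
  have hN : (∑ k ∈ Finset.range r, y ^ k) * (y - 1) = 0 := by
    rw [geom_sum_mul, hy, sub_self]
  have hpow : ∀ k : ℕ, (y ^ k) ((y - 1) w) = (y - 1) w := by
    intro k
    induction k with
    | zero => simp
    | succ k ih => rw [pow_succ, Module.End.mul_apply, hv1, ih]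
  have h1 : (∑ k ∈ Finset.range r, y ^ k) ((y - 1) w) = (r : F) • ((y - 1) w) := by
    rw [LinearMap.sum_apply, Finset.sum_congr rfl (fun k _ => hpow k), Finset.sum_const,
      Finset.card_range, Nat.cast_smul_eq_nsmul]
  have h2 : (∑ k ∈ Finset.range r, y ^ k) ((y - 1) w) = 0 := by
    rw [← Module.End.mul_apply, hN, LinearMap.zero_apply]
  rw [h1] at h2
  exact (smul_eq_zero.1 h2).resolve_left hrF

/-- generic version of SEMI -/
theorem spdsemi_isCompl {V : Type*} [AddCommGroup V] [Module F V] [FiniteDimensional F V]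
    (r : ℕ) (hrF : (r : F) ≠ 0) (y : Module.End F V) (hy : y ^ r = 1) :
    IsCompl (LinearMap.ker (y - 1)) (LinearMap.range (y - 1)) := by
  have hd := spdsemi_disjoint r hrF y hy
  refine ⟨hd, ?_⟩
  rw [codisjoint_iff]
  apply Submodule.eq_top_of_disjoint _ _ _ hd
  rw [add_comm, LinearMap.finrank_range_add_finrank_ker]

/-- SEMI [S-M]: `ker (y - 1)` and `range (y - 1)` are complementary when `r` is invertible in `F`.
(`N = ∑ k < r, y ^ k`: `N (y - 1) = y ^ r - 1 = 0`; `v ∈ ker ∩ range`: `N v = r v` and `N v = 0`;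
`v = r⁻¹ N v + r⁻¹ ∑ k, (v - y ^ k v)`, and `1 - y ^ k = -(y - 1)(1 + ... + y ^ (k-1))`; or use `finrank` (rank-nullity) + disjointness.) -/
theorem semi_compl (r : ℕ) (hrF : (r : F) ≠ 0)
    (y : (Fin d ⊕ Fin d → F) →ₗ[F] (Fin d ⊕ Fin d → F)) (hy : y ^ r = 1) :
    IsCompl (Fx y) (Mv y) :=
  spdsemi_isCompl r hrF y hy

end Cfsg.Agent.Lib.Helper19.SPD
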