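import Mathlib
import Cfsg.Prelude.Def_LieTypeChar
import Cfsg.Agent.Lib.helper14.SQD.Defs
import Cfsg.Agent.Lib.helper14.SQD.DefsU
import Cfsg.Agent.Lib.Helper24.SQD.DefsO

/-!
Project SQD row OA3: `A * S * Aᵀ` is alternating for alternating `S` (own copy of OA1 inside).
-/

set_option autoImplicit false

namespace Cfsg.Agent.Lib.helper14.SQD

open Cfsg Cfsg.Lie Matrix

universe u

section OA
variable {k : ℕ} {R : Type u} [CommRing R]

/-- own copy of OA1: the quadratic form of an alternating matrix vanishes in characteristic 2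
(`S = T + Tᵀ` with `T` the strictly upper triangular part). -/
theorem sqdoa3_quad_zero [CharP R 2] (S : Matrix (Fin k) (Fin k) R) (hS : S ∈ altAdd k R) (y : Fin k → R) :
    y ⬝ᵥ (S *ᵥ y) = 0 := by
  obtain ⟨hsym, hdiag⟩ := hS
  set T : Matrix (Fin k) (Fin k) R := Matrix.of fun i j => if i < j then S i j else 0 with hT
  have hST : S = T + Tᵀ := by
    ext i j
    rw [Matrix.add_apply, Matrix.transpose_apply, hT, Matrix.of_apply, Matrix.of_apply]
    rcases lt_trichotomy i j with h | h | h
    · rw [if_pos h, if_neg (not_lt.2 h.le), add_zero]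
    · subst h
      rw [if_neg (lt_irrefl _), add_zero, hdiag]
    · rw [if_neg (not_lt.2 h.le), if_pos h, zero_add]
      have := congrFun (congrFun hsym i) j
      rw [Matrix.transpose_apply] at this
      exact this.symm
  have hTT : y ⬝ᵥ (Tᵀ *ᵥ y) = y ⬝ᵥ (T *ᵥ y) := by
    rw [Matrix.dotProduct_mulVec, Matrix.vecMul_transpose, dotProduct_comm]
  rw [hST, Matrix.add_mulVec, dotProduct_add, hTT]
  exact CharTwo.add_self_eq_zero _

/-- OA3 [E-M]. `A * S * Aᵀ` is alternating. -/
theorem alt_stable [CharP R 2] (A S : Matrix (Fin k) (Fin k) R) (hS : S ∈ altAdd k R) :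
    A * S * tadj (RingHom.id R) A ∈ altAdd k R := by
  have hA : tadj (RingHom.id R) A = Aᵀ := by
    unfold tadj
    rw [RingHom.coe_id, Matrix.map_id]
  rw [hA]
  refine ⟨?_, fun i => ?_⟩
  · rw [Matrix.transpose_mul, Matrix.transpose_mul, Matrix.transpose_transpose, hS.1, Matrix.mul_assoc]
  · have h := sqdoa3_quad_zero S hS (fun j => A i j)
    rw [← h, Matrix.mul_apply, dotProduct]
    have h1 : ∀ l, (A * S) i l * Aᵀ l i = ∑ j, A i j * S j l * A i l := by
      intro l
      rw [Matrix.mul_apply, Matrix.transpose_apply, Finset.sum_mul]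
    have h2 : ∀ j, A i j * (S *ᵥ fun j => A i j) j = ∑ l, A i j * S j l * A i l := by
      intro j
      rw [Matrix.mulVec, dotProduct, Finset.mul_sum]
      exact Finset.sum_congr rfl fun l _ => (mul_assoc _ _ _).symm
    rw [Finset.sum_congr rfl fun l _ => h1 l, Finset.sum_congr rfl fun j _ => h2 j]
    exact Finset.sum_comm

end OA

end Cfsg.Agent.Lib.helper14.SQD
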