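import Mathlib
import Cfsg.Prelude.Def_LieTypeChar
import Cfsg.Prelude.Def_ChevStructure
import Cfsg.Agent.Lib.helper14.SQD.Defs
import Cfsg.Agent.S0245
import Cfsg.Agent.S0246

/-!
Project SQD row P4: the centre of `Sp_2m(F)` in characteristic 2 is trivial, and the 2-part of `|PSp_2m(F)|`.
-/

set_option autoImplicit false

namespace Cfsg.Agent.Lib.helper14.SQD

open Cfsg Cfsg.Lie Matrix

/-- a power of two minus one is odd -/
theorem sqdp4_odd_pred (a : ℕ) (ha : 2 ∣ a) (h0 : 0 < a) : ¬ 2 ∣ a - 1 := by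
  omega

/-- a product of odd numbers is odd -/
theorem sqdp4_odd_prod (s : Finset ℕ) (g : ℕ → ℕ) (h : ∀ i ∈ s, ¬ 2 ∣ g i) : ¬ 2 ∣ ∏ i ∈ s, g i := by
  intro hd
  obtain ⟨i, hi, hdi⟩ := (Prime.dvd_finsetProd_iff Nat.prime_two.prime g).1 hd
  exact h i hi hdi

/-- the cardinality of a finite field of characteristic 2 is a positive power of two -/
theorem sqdp4_card_field {F : Type} [Field F] [Fintype F] [CharP F 2] :
    ∃ k : ℕ, 0 < k ∧ Fintype.card F = 2 ^ k := by
  obtain ⟨k, -, hk⟩ := FiniteField.card F 2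
  exact ⟨k, k.pos, hk⟩

/-- P4a [E-M]. `Cfsg.Agent.S0246.result`: the centre has `gcd 2 (q - 1) = 1` elements (`q` even). -/
theorem sp_center_bot {F : Type} [Field F] [Fintype F] [CharP F 2] (m : ℕ) (hm : 1 ≤ m) :
    Subgroup.center ↥(Matrix.symplecticGroup (Fin m) F) = ⊥ := by
  obtain ⟨k, hk0, hk⟩ := sqdp4_card_field (F := F)
  have h := Cfsg.Agent.S0246.result (F := F) hk m hm
  have hodd : ¬ 2 ∣ 2 ^ k - 1 :=
    sqdp4_odd_pred _ (dvd_pow_self 2 hk0.ne') (by positivity)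
  have hg : Nat.gcd 2 (2 ^ k - 1) = 1 :=
    (Nat.Prime.coprime_iff_not_dvd Nat.prime_two).2 hodd
  rw [hg] at h
  exact Subgroup.eq_bot_of_card_eq _ h

/-- P4b [M]. `Cfsg.Agent.S0245.result`, P4a, `∏ i ∈ range m, (q ^ (2 * (i + 1)) - 1)` odd. -/
theorem card_psp_two_part {F : Type} [Field F] [Fintype F] [CharP F 2] (f : ℕ) (hF : Fintype.card F = 2 ^ f)
    (m : ℕ) (hm : 1 ≤ m) : ∃ r, Nat.card (PSp m F) = 2 ^ (f * m ^ 2) * r ∧ ¬ 2 ∣ r := by
  have hf0 : 0 < f := by
    rcases Nat.eq_zero_or_pos f with h | h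
    · exfalso
      rw [h, pow_zero] at hF
      have := Fintype.one_lt_card (α := F)
      omega
    · exact h
  have hc := Cfsg.Agent.S0245.result (F := F) hF m
  have hZ := sp_center_bot (F := F) m hm
  refine ⟨∏ i ∈ Finset.range m, ((2 ^ f) ^ (2 * (i + 1)) - 1), ?_, ?_⟩
  · have h1 : Nat.card (PSp m F) = Nat.card ↥(Matrix.symplecticGroup (Fin m) F) := by
      have := Subgroup.card_eq_card_quotient_mul_card_subgroup
        (Subgroup.center ↥(Matrix.symplecticGroup (Fin m) F))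
      have h2 : Nat.card ↥(Subgroup.center ↥(Matrix.symplecticGroup (Fin m) F)) = 1 := by
        rw [hZ, Subgroup.card_bot]
      rw [h2, mul_one] at this
      exact this.symm
    rw [h1, hc, ← pow_mul]
  · apply sqdp4_odd_prod
    intro i _
    apply sqdp4_odd_pred
    · rw [← pow_mul]
      exact dvd_pow_self 2 (by positivity)
    · positivity

end Cfsg.Agent.Lib.helper14.SQD
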