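import Mathlib
import Cfsg.Prelude.Def_LieTypeChar
import Cfsg.Agent.Lib.helper14.SQD.Defs
import Cfsg.Agent.Lib.helper14.SQD.DefsU
import Cfsg.Agent.Lib.Helper22.SQDUO6core
import Cfsg.Agent.Lib.helper15.SQDUE1
import Cfsg.Agent.Lib.Helper25.SQDUE2

/-!
Project SQD row UO6 (verbatim): the range of `psiO`.
-/

set_option autoImplicit false

namespace Cfsg.Agent.Lib.helper14.SQD

open Cfsg Cfsg.Lie Matrix

universe u v

section UO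
variable {F : Type} [Field F] [Fintype F] [CharP F 2] (e : ℕ) {k : ℕ}

/-- UO6 [M-H]. As UE4, with `P = embGL 1 (pevU a)`, `Pᵀ * P^τ = fromBlocks (fromBlocks 0 1 1 0) 0 0 1`. -/
theorem mem_range_psiO (a : F) (ha : a ^ 2 ^ e + a = 1) (w : GL ((Fin k ⊕ Fin k) ⊕ Fin 1) F) :
    w ∈ (psiO (k := k) (F := F) (2 ^ e) a).range ↔
      (w : Matrix ((Fin k ⊕ Fin k) ⊕ Fin 1) ((Fin k ⊕ Fin k) ⊕ Fin 1) F).det = 1 ∧
      (w : Matrix ((Fin k ⊕ Fin k) ⊕ Fin 1) ((Fin k ⊕ Fin k) ⊕ Fin 1) F)ᵀ *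
        Matrix.fromBlocks (Matrix.fromBlocks 0 1 1 0) 0 0 1 *
        (w : Matrix ((Fin k ⊕ Fin k) ⊕ Fin 1) ((Fin k ⊕ Fin k) ⊕ Fin 1) F).map (frobE F e) =
        Matrix.fromBlocks (Matrix.fromBlocks 0 1 1 0) 0 0 1 :=
  sqduo6_core e (fun n g => mem_su_iff e n g) (fun a ha => pev_gram e a ha) a ha w

end UO

end Cfsg.Agent.Lib.helper14.SQD
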