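import Mathlib
import Cfsg.Prelude.Def_LieTypeChar
import Cfsg.Prelude.Def_ChevStructure
import Cfsg.Agent.Lib.helper14.SQD.Defs

/-!
Project SQD row X5: `Good2` passes to quotients.
-/

set_option autoImplicit false

namespace Cfsg.Agent.Lib.helper14.SQD

universe u v

/-- own copy of X2: `SqD` passes to images -/
theorem sqdx5_sqd_map {G : Type u} {H : Type v} [Group G] [Group H] (f : G →* H) (U : Subgroup G)
    (h : SqD U) : SqD (U.map f) := by
  rintro _ ⟨x, hx, rfl⟩
  rw [← map_pow, ← Subgroup.map_commutator]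
  exact Subgroup.mem_map_of_mem f (h x hx)

/-- X5 [M]. Passage to a quotient. -/
theorem good2_quot {G : Type u} [Group G] [Finite G] (N : Subgroup G) [N.Normal] (h : Good2 G) :
    Good2 (G ⧸ N) := by
  obtain ⟨U, hp, hi, hS⟩ := h
  refine ⟨U.map (QuotientGroup.mk' N), hp.map _, fun h2 => hi ?_, sqdx5_sqd_map _ U hS⟩
  exact h2.trans (Subgroup.index_map_dvd U (QuotientGroup.mk'_surjective N))

end Cfsg.Agent.Lib.helper14.SQD
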