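import Mathlib
import Cfsg.Agent.Lib.Lead.STB.Defs

/-!
# Project STB (designer lead), row B2 (helper22): the rank one system `S.sts a` of a short root — `sts_x sts_y sts_w sts_h`.  VERBATIM vs `Lead/STB/Skel1.lean.txt`.
-/

set_option autoImplicit false

namespace Cfsg.Agent.Lib.Lead.STB

open Cfsg.Agent.Lib.helper15.St2 Cfsg.Agent.Lib.helper3.STC Cfsg.Agent.Lib.Lead.STD

universe v w

namespace SysB

variable {K : Type*} [Field K] {ι : Type*} {G : Type*} [Group G] (S : SysB K ι G)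

/-- B2 [S] -/
theorem sts_x (a : ι ⊕ ι) (t : K) : (S.sts a).x t = S.xs a t := rfl

theorem sts_y (a : ι ⊕ ι) (t : K) : (S.sts a).y t = S.xs (ng a) (-t) := rfl

theorem sts_w (a : ι ⊕ ι) (t : K) : (S.sts a).w t = S.ws a t := by
  show S.xs a t * S.xs (ng a) (-(-t⁻¹)) * S.xs a t = S.xs a t * S.xs (ng a) t⁻¹ * S.xs a t
  rw [neg_neg]

theorem sts_h (a : ι ⊕ ι) (t : K) : (S.sts a).h t = S.hs a t := by
  show (S.sts a).w t * (S.sts a).w (-1) = S.ws a t * S.ws a (-1)
  rw [sts_w, sts_w]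

end SysB

end Cfsg.Agent.Lib.Lead.STB
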