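import Mathlib
import Cfsg.Agent.Lib.helper15.St2
import Cfsg.Agent.Lib.helper7.StA
import Cfsg.Agent.Lib.helper7.StC
import Cfsg.Agent.Lib.helper7.StE
import Cfsg.Agent.Lib.helper3.STC.Defs
import Cfsg.Agent.Lib.helper3.STC.Defs2
import Cfsg.Agent.Lib.helper3.STC.Defs3
import Cfsg.Agent.Lib.Helper24.STCI1
import Cfsg.Agent.Lib.Helper26.STCN1
import Cfsg.Agent.Lib.helper2.STCN3
import Cfsg.Agent.Lib.helper23.STCX2

/-!
# STC row F2 (designer helper3, Skel3): properties of `NP`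

On N1 (`Helper26.STCN1`), N3 (`helper2.STCN3`), X2 (`helper23.STCX2`), block I (`Helper24.STCI1`).
-/

set_option autoImplicit false

namespace Cfsg.Agent.Lib.helper3.STC

open Cfsg.Agent.Lib.helper15.St2 Cfsg.Agent.Lib.helper7.St

namespace SysC

variable {K : Type*} [Field K] {ι : Type*} {G : Type*} [Group G] (S : SysC K ι G)

section F
variable [DecidableEq ι] (o : ι ⊕ ι)

/-- F2 [S]  properties of `NP` (`Defs3.lean`): closed under products (`cj_cj`); torus elements; Weyl elements of the Levi factor. -/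
theorem NP_mul {n n' : G} (h : S.NP o n) (h' : S.NP o n') : S.NP o (n * n') := by
  refine ⟨mul_mem h.1 h'.1, fun y hy => ?_⟩
  rw [← cj_cj]
  exact h.2 _ (h'.2 y hy)

/-- `h o b t` normalises `Yg o` (`hH`, then N3 `IsMon.cj_mem_Yg` with `σ = 1`). -/
theorem h_cj_mem_Yg (hH : S.HH) {b : ι ⊕ ι} (hb : b ≠ o) {t : K} (ht : t ≠ 0) :
    ∀ y ∈ S.Yg o, cj (S.h o b t) y ∈ S.Yg o :=
  SysC.IsMon.cj_mem_Yg S o (hH o b (Ne.symm hb) t ht) rfl

theorem NP_h (hH : S.HH) {b : ι ⊕ ι} (hb : b ≠ o) {t : K} (ht : t ≠ 0) : S.NP o (S.h o b t) :=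
  ⟨S.h_mem_Phat o hb ht, S.h_cj_mem_Yg o hH hb ht⟩

/-- a Weyl element of the Levi factor (short or long): in `Lg o ≤ Pg o ≤ Phat o` (N1 `w_mem_Lg`), and monomial (`hW`) with the permutation `wpm a b` fixing `o` (X2 `wpm_of_ne`), hence
normalising `Yg o` (N3). -/
theorem NP_w (hW : S.HW) {a b : ι ⊕ ι} (hab : a ≠ b) (ha : a ≠ o) (ha' : a ≠ ng o) (hb : b ≠ o) (hb' : b ≠ ng o) {u : K}
    (hu : u ≠ 0) : S.NP o (S.w a b u) := by
  refine ⟨S.Pg_le_Phat o (S.Lg_le_Pg o (S.w_mem_Lg o hab ha ha' hb hb' u)), ?_⟩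
  apply SysC.IsMon.cj_mem_Yg S o (hW a b hab u hu)
  apply wpm_of_ne (Ne.symm ha) (Ne.symm hb)
  · intro h
    exact ha' (ng_eq_iff.1 h.symm)
  · intro h
    exact hb' (ng_eq_iff.1 h.symm)

end F

end SysC

end Cfsg.Agent.Lib.helper3.STC
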