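import Mathlib
import Cfsg.Agent.Lib.Helper22.STMF18bcore
import Cfsg.Agent.Lib.helper2.STMF18

/-!
# Project STM (designer helper17), part 2, row F18b (helper22), VERBATIM: `InD_all`.
-/

set_option autoImplicit false

namespace Cfsg.Agent.Lib.helper17.STM

open Cfsg.Agent.Lib.helper15.St2 Cfsg.Agent.Lib.helper3.STC Cfsg.Agent.Lib.Lead.STD

universe v w

namespace SysM

variable {F : Type*} [Field F] {A B : F} [Fact (∀ r : F, r ^ 2 ≠ -B + A * r)] {ι : Type*} [DecidableEq ι] {G : Type*} [Group G] (S : SysM F A B ι G)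

section F
variable (o : ι ⊕ ι)

/-- F18b [S-M]  (`Subgroup.closure_induction` on `g ∈ ⊤ = XQ ⊤ ⊤`; the inverse of a generator is a generator: `XQ_gens_inv`.) -/
theorem InD_all [Finite F] [Finite ι] (hgen : S.XQ (fun _ _ => True) (fun _ => True) = ⊤) (g : G) : S.InD o g :=
  S.stmf18b_core o (fun a b t _ hg => S.InD_mul o a b t hg) (fun a t _ hg => S.InD_mul_s o a t hg) hgen g

end F

end SysM

end Cfsg.Agent.Lib.helper17.STM
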