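import Mathlib
import Cfsg.Agent.Lib.helper8.SU4FIN5core
import Cfsg.Agent.Lib.Helper13.SU4FIN1
import Cfsg.Agent.Lib.Helper5.SU4W4
import Cfsg.Agent.Lib.Helper5.SU4FIN3
import Cfsg.Agent.Lib.helper15.SU4FIN4
import Cfsg.Agent.Lib.Helper22.SU4M6
import Cfsg.Agent.Lib.Helper22.SU4M7

/-!
# Project SU4 (designer helper22), row FIN5 `su4_main`: VERBATIM wrapper of helper8's `su4fin5_core`
on the landed FIN1 `TTT_card` (Helper13), FIN2 `card_le_su4` (Helper5), FIN3 `hypT_of_words` (Helper5),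
FIN4 `wordsT_M` (helper15), M6 `suj_iso`, M7 `card_SU4` (Helper22).
-/

set_option autoImplicit false
set_option linter.unusedVariables false

namespace Cfsg.Agent.Lib.Helper22.SU4

open Cfsg.Agent.Lib.helper17.SLP Cfsg.Agent.Lib.helper3.SP4

universe u v

/-- FIN5: `SU₄(q)` has a presentation on six generators with at most 35 relators. -/
theorem su4_main {F : Type u} [Field F] [Fintype F] (q : ℕ) (hF : Fintype.card F = q ^ 2) :
    ∃ rels : Finset (FreeGroup (Fin 6)), rels.card ≤ 35 ∧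
      Nonempty (PresentedGroup (↑rels : Set (FreeGroup (Fin 6))) ≃* ↥(Cfsg.SU 4 F q)) :=
  su4fin5_core q hF
    (fun K _ _ G _ D φa φb R => (TTT_card D φa φb R).1)
    (fun K _ _ G _ D hFK ζ hζ ζ₀ hζ₀ hn φa φb H hgen => card_le_su4 D hFK ζ hζ ζ₀ hζ₀ hn φa φb H hgen)
    (fun K _ _ D ζ ζ₀ e he LA LB za zc zb zd hza hzc hzb hzd hLA hLB G _ ua ha wa ub hb wb hgen hrel =>
      hypT_of_words D ζ ζ₀ e he LA LB za zc zb zd hza hzc hzb hzd hLA hLB G ua ha wa ub hb wb hgen hrel)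
    (fun K _ _ D hFK ζ hζ ζ₀ hζ₀ hn e he LA LB za zc zb zd hLArel hLBrel hza hzc hzb hzd =>
      wordsT_M D hFK ζ hζ ζ₀ hζ₀ hn e he LA LB za zc zb zd hLArel hLBrel hza hzc hzb hzd)
    (fun K _ _ D hσ => suj_iso q hF D hσ)
    (card_SU4 q hF)

end Cfsg.Agent.Lib.Helper22.SU4
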