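import Mathlib

set_option autoImplicit false

namespace Cfsg.Agent.Lib.Helper22.SolvRad

theorem solvable_sup {K : Type*} [Group K] (A B : Subgroup K) [hA : A.Normal]
    (hAs : Group.IsSolvable A) (hBs : Group.IsSolvable B) : Group.IsSolvable ↥(A ⊔ B) := by
  have hAn : (A.subgroupOf (A ⊔ B)).Normal := inferInstance
  rw [Group.isSolvable_iff_subgroup_quotient (A.subgroupOf (A ⊔ B))]
  constructor
  · exact Group.isSolvable_of_isSolvable_injective
      (f := (Subgroup.subgroupOfEquivOfLe (le_sup_left : A ≤ A ⊔ B)).toMonoidHom)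
      (Subgroup.subgroupOfEquivOfLe _).injective
  · let f : B →* (↥(A ⊔ B) ⧸ A.subgroupOf (A ⊔ B)) :=
      (QuotientGroup.mk' _).comp (Subgroup.inclusion (le_sup_right : B ≤ A ⊔ B))
    have hf : Function.Surjective f := by
      intro q
      obtain ⟨x, rfl⟩ := QuotientGroup.mk'_surjective _ q
      have hx : (x : K) ∈ ((A ⊔ B : Subgroup K) : Set K) := x.2
      rw [Subgroup.normal_mul] at hx
      obtain ⟨a, ha, b, hb, hab⟩ := Set.mem_mul.mp hx
      refine ⟨⟨b, hb⟩, ?_⟩
      show QuotientGroup.mk' _ (Subgroup.inclusion (le_sup_right : B ≤ A ⊔ B) ⟨b, hb⟩) =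
        QuotientGroup.mk' _ x
      rw [QuotientGroup.mk'_apply, QuotientGroup.mk'_apply, eq_comm, QuotientGroup.eq,
        Subgroup.mem_subgroupOf]
      have h1 : ((x⁻¹ * Subgroup.inclusion (le_sup_right : B ≤ A ⊔ B) ⟨b, hb⟩ : ↥(A ⊔ B)) : K) =
          (x : K)⁻¹ * b := rfl
      rw [h1, ← hab]
      have h2 : (a * b)⁻¹ * b = b⁻¹ * a⁻¹ * b⁻¹⁻¹ := by group
      rw [h2]
      exact hA.conj_mem _ (A.inv_mem ha) _
    exact Group.isSolvable_of_surjective hf

theorem exists_radical {K : Type*} [Group K] [Finite K] :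
    ∃ R : Subgroup K, R.Normal ∧ Group.IsSolvable R ∧
      ∀ S : Subgroup K, S.Normal → Group.IsSolvable S → S ≤ R := by
  have hfin : {S : Subgroup K | S.Normal ∧ Group.IsSolvable S}.Finite := Set.toFinite _
  have hbot : (⊥ : Subgroup K) ∈ {S : Subgroup K | S.Normal ∧ Group.IsSolvable S} :=
    ⟨inferInstance, inferInstance⟩
  obtain ⟨R, -, hR⟩ := hfin.exists_le_maximal hbot
  refine ⟨R, hR.prop.1, hR.prop.2, ?_⟩
  intro S hSn hSs
  have hRn : R.Normal := hR.prop.1
  have h1 : (R ⊔ S) ∈ {S : Subgroup K | S.Normal ∧ Group.IsSolvable S} :=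
    ⟨inferInstance, solvable_sup R S hR.prop.2 hSs⟩
  have h2 : R ⊔ S ≤ R := hR.le_of_ge h1 le_sup_left
  exact le_trans le_sup_right h2

theorem solvable_of_normalClosure {G : Type*} [Group G] [Finite G] (g : G)
    (h : Group.IsSolvable (Subgroup.normalClosure
      ({⟨g, Subgroup.subset_normalClosure (Set.mem_singleton g)⟩} :
        Set ↥(Subgroup.normalClosure ({g} : Set G))))) :
    Group.IsSolvable ↥(Subgroup.normalClosure ({g} : Set G)) := by
  set N := Subgroup.normalClosure ({g} : Set G) with hN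
  set g' : ↥N := ⟨g, Subgroup.subset_normalClosure (Set.mem_singleton g)⟩ with hg'
  obtain ⟨R, hRn, hRs, hRmax⟩ := exists_radical (K := ↥N)
  have hgR : g' ∈ R := by
    have h1 := hRmax (Subgroup.normalClosure ({g'} : Set ↥N)) inferInstance h
    exact h1 (Subgroup.subset_normalClosure (Set.mem_singleton g'))
  have hconj : ∀ x : G, MulAut.conjNormal (H := N) x g' ∈ R := by
    intro x
    set φ : ↥N ≃* ↥N := MulAut.conjNormal (H := N) x with hφ
    have h1 : (R.map φ.toMonoidHom).Normal := hRn.map _ φ.surjective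
    have h2 : Group.IsSolvable ↥(R.map φ.toMonoidHom) :=
      Group.isSolvable_of_surjective (φ.toMonoidHom.subgroupMap_surjective R)
    have h3 := hRmax _ h1 h2
    exact h3 (Subgroup.mem_map_of_mem _ hgR)
  have hle : N ≤ R.map N.subtype := by
    refine (Subgroup.closure_le (K := R.map N.subtype)).mpr ?_
    intro y hy
    rw [Group.mem_conjugatesOfSet_iff] at hy
    obtain ⟨b, hb, hby⟩ := hy
    rw [Set.mem_singleton_iff] at hb
    subst hb
    rw [isConj_iff] at hby
    obtain ⟨c, hc⟩ := hby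
    refine ⟨MulAut.conjNormal (H := N) c g', hconj c, ?_⟩
    rw [← hc]
    rfl
  have htop : R = ⊤ := by
    rw [eq_top_iff]
    intro y _
    obtain ⟨z, hz, hzy⟩ := hle y.2
    have : z = y := Subtype.ext hzy
    rw [← this]
    exact hz
  rw [htop] at hRs
  exact Group.isSolvable_of_surjective (f := (Subgroup.topEquiv (G := ↥N)).toMonoidHom)
    Subgroup.topEquiv.surjective

theorem solvable_of_commutator_pgroup {G : Type*} [Group G] [Finite G] (p : ℕ) [Fact p.Prime]
    (h : IsPGroup p (commutator G)) : Group.IsSolvable G := by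
  rw [Group.isSolvable_iff_subgroup_quotient (commutator G)]
  constructor
  · have : Group.IsNilpotent ↥(commutator G) := h.isNilpotent
    infer_instance
  · show Group.IsSolvable (Abelianization G)
    infer_instance

end Cfsg.Agent.Lib.Helper22.SolvRad
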