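import Mathlib
import Cfsg.Agent.Lib.Helper22.OrdTypeA
import Cfsg.Agent.Lib.Helper22.SchurZassenhaus
import Cfsg.Agent.Lib.Helper22.SolvRad

set_option autoImplicit false

namespace Cfsg.Agent.Lib.Helper22.SotFrobA

open Cfsg

universe u

/-- `m` is a power of `p` -/
def PPow (p m : ℕ) : Prop := ∃ j : ℕ, m = p ^ j

/-- if the number of `p`-elements equals the order of a Sylow `p`-subgroup, it is normal -/
theorem sylow_normal_of_card_pelts {H : Type u} [Group H] [Finite H] {p : ℕ} [Fact p.Prime]
    (hc : Nat.card {x : H // PPow p (orderOf x)} = p ^ (Nat.card H).factorization p)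
    (P : Sylow p H) : (P : Subgroup H).Normal := by
  have hPc : Nat.card P = p ^ (Nat.card H).factorization p := Sylow.card_eq_multiplicity P
  have hsub : (P : Set H) ⊆ {x : H | PPow p (orderOf x)} := by
    intro x hx
    obtain ⟨k, hk⟩ := (IsPGroup.iff_orderOf.1 P.2) ⟨x, hx⟩
    rw [Subgroup.orderOf_mk] at hk
    exact ⟨k, hk⟩
  have hfin : ({x : H | PPow p (orderOf x)} : Set H).Finite := Set.toFinite _
  have heq : (P : Set H) = {x : H | PPow p (orderOf x)} := by
    apply Set.eq_of_subset_of_ncard_le hsub _ hfin
    rw [← Nat.card_coe_set_eq, ← Nat.card_coe_set_eq]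
    show Nat.card {x : H // PPow p (orderOf x)} ≤ Nat.card P
    rw [hPc, hc]
  constructor
  intro n hn g
  have hn' : n ∈ (P : Set H) := hn
  rw [heq] at hn'
  have : g * n * g⁻¹ ∈ (P : Set H) := by
    rw [heq]
    show PPow p (orderOf (g * n * g⁻¹))
    have ho : orderOf (g * n * g⁻¹) = orderOf n := by
      have := MulEquiv.orderOf_eq (MulAut.conj g) n
      simpa [MulAut.conj_apply] using this
    rw [ho]
    exact hn'
  exact this

/-- with a normal Sylow `p`-subgroup the `p`-elements are exactly its elements -/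
theorem card_pelts_of_normal_sylow {H : Type u} [Group H] [Finite H] {p : ℕ} [Fact p.Prime]
    (P : Sylow p H) (hP : (P : Subgroup H).Normal) :
    Nat.card {x : H // PPow p (orderOf x)} = p ^ (Nat.card H).factorization p := by
  rw [← Sylow.card_eq_multiplicity P]
  have heq : {x : H | PPow p (orderOf x)} = (P : Set H) := by
    ext x
    constructor
    · rintro ⟨j, hj⟩
      have hpg : IsPGroup p (Subgroup.zpowers x) := by
        apply IsPGroup.of_card (n := j)
        rw [Nat.card_zpowers, hj]
      obtain ⟨Q, hQ⟩ := hpg.exists_le_sylow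
      have := Sylow.unique_of_normal P hP
      have : Q = P := Subsingleton.elim _ _
      rw [this] at hQ
      exact hQ (Subgroup.mem_zpowers x)
    · intro hx
      obtain ⟨k, hk⟩ := (IsPGroup.iff_orderOf.1 P.2) ⟨x, hx⟩
      rw [Subgroup.orderOf_mk] at hk
      exact ⟨k, hk⟩
  show Nat.card ({x : H | PPow p (orderOf x)} : Set H) = Nat.card (P : Set H)
  rw [heq]

/-- normal Sylow subgroups for a set of primes give a solvable normal subgroup of the product
order -/
theorem exists_normal_of_normal_sylows {H : Type u} [Group H] [Finite H] (s : Finset ℕ)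
    (hs : ∀ p ∈ s, p.Prime ∧ ∃ P : Subgroup H, P.Normal ∧
      Nat.card P = p ^ (Nat.card H).factorization p) :
    ∃ N : Subgroup H, N.Normal ∧ Group.IsSolvable N ∧
      Nat.card N = ∏ p ∈ s, p ^ (Nat.card H).factorization p := by
  classical
  induction s using Finset.induction_on with
  | empty =>
    refine ⟨⊥, inferInstance, inferInstance, ?_⟩
    simp
  | insert p s hps ih =>
    obtain ⟨N, hNn, hNs, hNc⟩ := ih (fun q hq => hs q (Finset.mem_insert_of_mem hq))
    obtain ⟨hp, P, hPn, hPc⟩ := hs p (Finset.mem_insert_self p s)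
    haveI : Fact p.Prime := ⟨hp⟩
    have hcop : Nat.Coprime (Nat.card P) (Nat.card N) := by
      rw [hPc, hNc]
      apply Nat.Coprime.prod_right
      intro q hq
      have hqp : q.Prime := (hs q (Finset.mem_insert_of_mem hq)).1
      apply Nat.Coprime.pow
      rw [Nat.coprime_primes hp hqp]
      rintro rfl
      exact hps hq
    have hPs : Group.IsSolvable P := by
      have hpg : IsPGroup p P := IsPGroup.of_card hPc
      haveI : Group.IsNilpotent P := hpg.isNilpotent
      infer_instance
    refine ⟨P ⊔ N, inferInstance, Cfsg.Agent.Lib.Helper22.SolvRad.solvable_sup P N hPs hNs, ?_⟩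
    rw [Cfsg.Agent.Lib.Helper22.card_sup_of_coprime P N hcop, hPc, hNc,
      Finset.prod_insert hps]

end Cfsg.Agent.Lib.Helper22.SotFrobA
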