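import Mathlib
import Cfsg.Agent.Lib.Helper22.FrobKernel
import Cfsg.Agent.Lib.Helper22.SotFrobA

set_option autoImplicit false

namespace Cfsg.Agent.Lib.Helper22.SotFrobB

open Cfsg Cfsg.Agent.Lib.Helper22.SotFrobA
open scoped Pointwise

universe u

variable {X : Type u} [Group X]

theorem inf_eq_bot [Finite X] (K C : Subgroup X) (hC : Cfsg.IsFrobeniusComplement C)
    (hK : Cfsg.frobeniusKernel C = (K : Set X)) : K ⊓ C = ⊥ :=
  (Cfsg.Agent.Lib.Helper22.FrobKernel.isComplement' K C hC hK).disjoint.eq_bot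

/-- elements outside the kernel have order dividing the order of the complement -/
theorem orderOf_dvd_of_not_mem (K C : Subgroup X)
    (hK : Cfsg.frobeniusKernel C = (K : Set X)) {x : X} (hx : x ∉ K) :
    orderOf x ∣ Nat.card C := by
  have hxK : x ∉ Cfsg.frobeniusKernel C := by rw [hK]; exact hx
  have h1 : ¬ (x = 1 ∨ ∀ g : X, x ∉ MulAut.conj g • C) := hxK
  push Not at h1
  obtain ⟨-, g, hg⟩ := h1
  rw [Cfsg.Agent.Lib.Helper19.mem_conj_smul_iff'] at hg
  have ho : orderOf (g⁻¹ * x * g) = orderOf x := by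
    have := MulEquiv.orderOf_eq (MulAut.conj g⁻¹) x
    simpa [MulAut.conj_apply] using this
  rw [← ho]
  exact Subgroup.orderOf_dvd_natCard C hg

theorem orderOf_dvd_or (K C : Subgroup X)
    (hK : Cfsg.frobeniusKernel C = (K : Set X)) (x : X) :
    orderOf x ∣ Nat.card K ∨ orderOf x ∣ Nat.card C := by
  by_cases hx : x ∈ K
  · exact Or.inl (Subgroup.orderOf_dvd_natCard K hx)
  · exact Or.inr (orderOf_dvd_of_not_mem K C hK hx)

/-- an element whose order is prime to the order of the complement lies in the kernel -/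
theorem mem_of_coprime (K C : Subgroup X)
    (hK : Cfsg.frobeniusKernel C = (K : Set X)) {x : X}
    (hx : Nat.Coprime (orderOf x) (Nat.card C)) : x ∈ K := by
  by_contra hxK
  have h1 := orderOf_dvd_of_not_mem K C hK hxK
  have h2 : orderOf x = 1 := Nat.Coprime.eq_one_of_dvd hx h1
  rw [orderOf_eq_one_iff] at h2
  rw [h2] at hxK
  exact hxK K.one_mem

/-- in a Frobenius group, `n * h` has the order of `h` for `h ≠ 1` in the complement -/
theorem orderOf_mul_eq [Finite X] (K C : Subgroup X) [hKn : K.Normal]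
    (hC : Cfsg.IsFrobeniusComplement C) (hK : Cfsg.frobeniusKernel C = (K : Set X))
    {n h : X} (hn : n ∈ K) (hh : h ∈ C) (hh1 : h ≠ 1) : orderOf (n * h) = orderOf h := by
  have hinf := inf_eq_bot K C hC hK
  -- powers agree modulo K
  have hpow : ∀ j : ℕ, (n * h) ^ j ∈ K ↔ h ^ j ∈ K := by
    intro j
    have e : ((n * h : X) : X ⧸ K) = ((h : X) : X ⧸ K) := by
      rw [QuotientGroup.eq]
      have : (n * h)⁻¹ * h = h⁻¹ * n⁻¹ * h := by group
      rw [this]
      have := hKn.conj_mem n⁻¹ (K.inv_mem hn) h⁻¹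
      simpa using this
    rw [← QuotientGroup.eq_one_iff, ← QuotientGroup.eq_one_iff, QuotientGroup.mk_pow,
      QuotientGroup.mk_pow, e]
  have hx : n * h ∉ K := by
    intro hx
    have h1 : h ∈ K := by
      have := (hpow 1).mp (by simpa using hx)
      simpa using this
    have h2 : h ∈ K ⊓ C := ⟨h1, hh⟩
    rw [hinf, Subgroup.mem_bot] at h2
    exact hh1 h2
  have hxK : n * h ∉ Cfsg.frobeniusKernel C := by rw [hK]; exact hx
  have h1 : ¬ (n * h = 1 ∨ ∀ g : X, n * h ∉ MulAut.conj g • C) := hxK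
  push Not at h1
  obtain ⟨-, g, hg⟩ := h1
  rw [Cfsg.Agent.Lib.Helper19.mem_conj_smul_iff'] at hg
  apply Nat.dvd_antisymm
  · -- (n*h)^(orderOf h) = 1
    apply orderOf_dvd_of_pow_eq_one
    have h2 : (n * h) ^ orderOf h ∈ K := (hpow _).mpr (by rw [pow_orderOf_eq_one]; exact K.one_mem)
    have h3 : (g⁻¹ * (n * h) * g) ^ orderOf h ∈ K ⊓ C := by
      refine ⟨?_, C.pow_mem hg _⟩
      have e : (g⁻¹ * (n * h) * g) ^ orderOf h = g⁻¹ * (n * h) ^ orderOf h * g := by
        have := map_pow (MulAut.conj g⁻¹) (n * h) (orderOf h)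
        simpa [MulAut.conj_apply] using this.symm
      rw [e]
      have := hKn.conj_mem _ h2 g⁻¹
      simpa using this
    rw [hinf, Subgroup.mem_bot] at h3
    have e : (g⁻¹ * (n * h) * g) ^ orderOf h = g⁻¹ * (n * h) ^ orderOf h * g := by
      have := map_pow (MulAut.conj g⁻¹) (n * h) (orderOf h)
      simpa [MulAut.conj_apply] using this.symm
    rw [e] at h3
    have : (n * h) ^ orderOf h = g * (g⁻¹ * (n * h) ^ orderOf h * g) * g⁻¹ := by group
    rw [this, h3]
    group
  · apply orderOf_dvd_of_pow_eq_one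
    have h2 : h ^ orderOf (n * h) ∈ K := (hpow _).mp (by rw [pow_orderOf_eq_one]; exact K.one_mem)
    have h3 : h ^ orderOf (n * h) ∈ K ⊓ C := ⟨h2, C.pow_mem hh _⟩
    rw [hinf, Subgroup.mem_bot] at h3
    exact h3

/-- counting elements of an order prime to the kernel -/
theorem card_orderOf_eq [Finite X] (K C : Subgroup X) [hKn : K.Normal]
    (hC : Cfsg.IsFrobeniusComplement C) (hK : Cfsg.frobeniusKernel C = (K : Set X))
    {m : ℕ} (hm : Nat.Coprime m (Nat.card K)) (hm1 : m ≠ 1) :
    Nat.card {x : X // orderOf x = m} = Nat.card K * Nat.card {y : C // orderOf y = m} := by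
  have hc := Cfsg.Agent.Lib.Helper22.FrobKernel.isComplement' K C hC hK
  have hbij : Function.Bijective (fun p : K × C => (p.1 : X) * (p.2 : X)) := hc
  let e : K × C ≃ X := Equiv.ofBijective _ hbij
  have hiff : ∀ p : K × C, orderOf (e p) = m ↔ orderOf p.2 = m := by
    rintro ⟨⟨n, hn⟩, ⟨h, hh⟩⟩
    show orderOf (n * h) = m ↔ orderOf (⟨h, hh⟩ : C) = m
    rw [Subgroup.orderOf_mk]
    by_cases hh1 : h = 1
    · subst hh1
      rw [mul_one, orderOf_one]
      constructor
      · intro h1
        exfalso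
        have h2 : m ∣ Nat.card K := by rw [← h1]; exact Subgroup.orderOf_dvd_natCard K hn
        exact hm1 (Nat.Coprime.eq_one_of_dvd hm h2)
      · intro h1
        exact absurd h1.symm hm1
    · rw [orderOf_mul_eq K C hC hK hn hh hh1]
  have e1 : {x : X // orderOf x = m} ≃ {p : K × C // orderOf p.2 = m} :=
    (Equiv.subtypeEquiv e (fun p => (hiff p).symm)).symm
  have e2 : {p : K × C // orderOf p.2 = m} ≃ K × {y : C // orderOf y = m} :=
    { toFun := fun p => (p.1.1, ⟨p.1.2, p.2⟩)
      invFun := fun q => ⟨(q.1, q.2.1), q.2.2⟩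
      left_inv := fun p => rfl
      right_inv := fun q => rfl }
  rw [Nat.card_congr (e1.trans e2), Nat.card_prod]

/-- the `p`-elements of a Frobenius group with nilpotent kernel, `p` dividing the kernel order -/
theorem card_pelts [Finite X] (K C : Subgroup X) [hKn : K.Normal]
    (hC : Cfsg.IsFrobeniusComplement C) (hK : Cfsg.frobeniusKernel C = (K : Set X))
    (hnil : Group.IsNilpotent K) {p : ℕ} [hp : Fact p.Prime] (hpK : p ∣ Nat.card K) :
    Nat.card {x : X // PPow p (orderOf x)} = p ^ (Nat.card X).factorization p := by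
  have hcop := Cfsg.Agent.Lib.Helper22.FrobKernel.coprime K C hC hK
  have hc := Cfsg.Agent.Lib.Helper22.FrobKernel.isComplement' K C hC hK
  have hpC : ¬ p ∣ Nat.card C := by
    intro h
    have := Nat.dvd_gcd hpK h
    rw [hcop] at this
    exact hp.out.one_lt.ne' (Nat.dvd_one.mp this)
  have hfac : (Nat.card X).factorization p = (Nat.card K).factorization p := by
    rw [← hc.card_mul_card, Nat.factorization_mul Nat.card_pos.ne' Nat.card_pos.ne',
      Finsupp.add_apply, Nat.factorization_eq_zero_of_not_dvd hpC, add_zero]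
  have hmem : ∀ x : X, PPow p (orderOf x) → x ∈ K := by
    rintro x ⟨j, hj⟩
    apply mem_of_coprime K C hK
    rw [hj]
    apply Nat.Coprime.pow_left
    exact (Nat.Prime.coprime_iff_not_dvd hp.out).mpr hpC
  have e1 : {x : X // PPow p (orderOf x)} ≃ {y : K // PPow p (orderOf y)} :=
    { toFun := fun x => ⟨⟨x.1, hmem x.1 x.2⟩, by rw [Subgroup.orderOf_mk]; exact x.2⟩
      invFun := fun y => ⟨y.1.1, by rw [Subgroup.orderOf_coe]; exact y.2⟩
      left_inv := fun x => rfl
      right_inv := fun y => rfl }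
  rw [Nat.card_congr e1, hfac]
  have hsyl := (Group.isNilpotent_of_finite_tfae (G := K)).out 0 3
  have hall := hsyl.mp hnil
  let P : Sylow p K := default
  exact card_pelts_of_normal_sylow P (hall p hp P)

end Cfsg.Agent.Lib.Helper22.SotFrobB
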