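import Mathlib

set_option autoImplicit false

namespace Cfsg.Agent.Lib.Helper22.ZFormA

/-- In a ring all of whose left ideals are complemented, a left ideal with all products zero
is zero. -/
theorem eq_bot_of_mul_eq_zero {S : Type*} [Ring S]
    (hss : ∀ p : Submodule S S, ∃ q : Submodule S S, IsCompl p q)
    (P : Submodule S S) (hP : ∀ u ∈ P, ∀ v ∈ P, u * v = 0) : P = ⊥ := by
  obtain ⟨Q, hQ⟩ := hss P
  have h1 : (1 : S) ∈ P ⊔ Q := by rw [hQ.sup_eq_top]; exact Submodule.mem_top
  obtain ⟨p, hp, q, hq, hpq⟩ := Submodule.mem_sup.mp h1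
  have hpq' : p * q ∈ Q := by
    have := Q.smul_mem p hq
    simpa using this
  have h2 : p = p * q := by
    have : p * 1 = p * p + p * q := by rw [← hpq, mul_add]
    rw [mul_one, hP p hp p hp, zero_add] at this
    exact this
  have h3 : p ∈ P ⊓ Q := ⟨hp, by rw [h2]; exact hpq'⟩
  rw [hQ.inf_eq_bot, Submodule.mem_bot] at h3
  rw [h3, zero_add] at hpq
  have hQtop : Q = ⊤ := by
    rw [eq_top_iff]
    intro s _
    have := Q.smul_mem s hq
    rw [hpq] at this
    simpa using this
  have := hQ.inf_eq_bot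
  rw [hQtop, inf_top_eq] at this
  exact this

/-- In a ring all of whose left ideals are complemented, a proper two-sided ideal is annihilated
by a nonzero central idempotent. -/
theorem exists_central_idem {S : Type*} [Ring S]
    (hss : ∀ p : Submodule S S, ∃ q : Submodule S S, IsCompl p q)
    (J : Submodule S S) (hJ2 : ∀ x ∈ J, ∀ y : S, x * y ∈ J) (hJtop : (1 : S) ∉ J) :
    ∃ e : S, e ≠ 0 ∧ e * e = e ∧ (∀ s : S, s * e = e * s) ∧ (∀ x ∈ J, x * e = 0) ∧
      (∀ x ∈ J, e * x = 0) := by
  obtain ⟨I, hI⟩ := hss J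
  have h1 : (1 : S) ∈ J ⊔ I := by rw [hI.sup_eq_top]; exact Submodule.mem_top
  obtain ⟨ε, hε, e, he, hsum⟩ := Submodule.mem_sup.mp h1
  have hJl : ∀ s : S, ∀ x ∈ J, s * x ∈ J := fun s x hx => by
    have := J.smul_mem s hx
    simpa using this
  have hIl : ∀ s : S, ∀ x ∈ I, s * x ∈ I := fun s x hx => by
    have := I.smul_mem s hx
    simpa using this
  -- (a)
  have ha : ∀ x ∈ J, ∀ y ∈ I, x * y = 0 := by
    intro x hx y hy
    have h2 : x * y ∈ J ⊓ I := ⟨hJ2 x hx y, hIl x y hy⟩
    rw [hI.inf_eq_bot, Submodule.mem_bot] at h2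
    exact h2
  -- (b)
  have hb : ∀ y ∈ I, ∀ x ∈ J, y * x = 0 := by
    intro y hy x hx
    have hP : Submodule.span S {y * x} = ⊥ := by
      apply eq_bot_of_mul_eq_zero hss
      intro u hu v hv
      obtain ⟨a, rfl⟩ := Submodule.mem_span_singleton.mp hu
      obtain ⟨b, rfl⟩ := Submodule.mem_span_singleton.mp hv
      simp only [smul_eq_mul]
      have h3 : x * b * y = 0 := ha (x * b) (hJ2 x hx b) y hy
      calc a * (y * x) * (b * (y * x)) = a * y * (x * b * y) * x := by noncomm_ring
        _ = 0 := by rw [h3]; simp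
    have : y * x ∈ Submodule.span S {y * x} := Submodule.mem_span_singleton_self _
    rw [hP, Submodule.mem_bot] at this
    exact this
  have hidem : e * e = e := by
    have : (ε + e) * e = e := by rw [hsum, one_mul]
    rw [add_mul, ha ε hε e he, zero_add] at this
    exact this
  refine ⟨e, ?_, hidem, ?_, fun x hx => ha x hx e he, fun x hx => hb e he x hx⟩
  · intro h0
    rw [h0, add_zero] at hsum
    rw [hsum] at hε
    exact hJtop hε
  · intro s
    have h4 : s * e = e * s * e := by
      have : s * e = (ε + e) * (s * e) := by rw [hsum, one_mul]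
      rw [add_mul, ← mul_assoc ε, ha (ε * s) (hJ2 ε hε s) e he, zero_add, ← mul_assoc] at this
      exact this
    have h5 : e * s = e * s * e := by
      have : e * s = e * s * (ε + e) := by rw [hsum, mul_one]
      rw [mul_add, mul_assoc e s ε, hb e he (s * ε) (hJl s ε hε), zero_add] at this
      exact this
    rw [h4, ← h5]

/-- Explicit lifting of an idempotent along a ring hom whose kernel consists of elements with
vanishing `k`th power; the lift is a polynomial in the given preimage. -/
theorem lift_idem {S' S : Type*} [Ring S'] [Ring S] (π : S' →+* S) (k : ℕ) (hk : 0 < k)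
    (hker : ∀ y : S', π y = 0 → y ^ k = 0) (x : S') (hx : π x * π x = π x) :
    (1 - (1 - x ^ k) ^ k) * (1 - (1 - x ^ k) ^ k) = (1 - (1 - x ^ k) ^ k) ∧
    π (1 - (1 - x ^ k) ^ k) = π x := by
  have hx' : IsIdempotentElem (π x) := hx
  constructor
  · apply isIdempotentElem_one_sub_one_sub_pow_pow
    apply hker
    rw [map_sub, map_pow, pow_two, hx, sub_self]
  · obtain ⟨j, rfl⟩ : ∃ j, k = j + 1 := ⟨k - 1, by omega⟩
    simp only [map_sub, map_one, map_pow, hx'.pow_succ_eq, hx'.one_sub.pow_succ_eq, sub_sub_cancel]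

/-- a commuting product of idempotents that maps to zero is zero -/
theorem idem_mul_eq_zero {S' S : Type*} [Ring S'] [Ring S] (π : S' →+* S) (k : ℕ)
    (hker : ∀ y : S', π y = 0 → y ^ k = 0) (e f : S') (he : e * e = e) (hf : f * f = f)
    (hc : e * f = f * e) (h0 : π (e * f) = 0) : e * f = 0 := by
  have hi : IsIdempotentElem (e * f) := by
    change e * f * (e * f) = e * f
    calc e * f * (e * f) = e * (f * e) * f := by noncomm_ring
      _ = e * (e * f) * f := by rw [hc]
      _ = (e * e) * (f * f) := by noncomm_ring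
      _ = e * f := by rw [he, hf]
  rcases Nat.eq_zero_or_pos k with hk | hk
  · have := hker 1 ?_
    · rw [hk, pow_zero] at this
      rw [← mul_one (e * f), this, mul_zero]
    · have h1 := hker (e * f) h0
      rw [hk, pow_zero] at h1
      rw [h1, map_zero]
  · have h1 := hker (e * f) h0
    obtain ⟨j, rfl⟩ : ∃ j, k = j + 1 := ⟨k - 1, by omega⟩
    rw [hi.pow_succ_eq] at h1
    exact h1

end Cfsg.Agent.Lib.Helper22.ZFormA
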