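import Mathlib
import Cfsg.Agent.Lib.Helper22.ZFormA

set_option autoImplicit false

namespace Cfsg.Agent.Lib.Helper22.ZFormB

open Finset

variable {G : Type*} [Group G]

/-- the norm element `1 + g + ... + g^(o(g)-1)` of the group algebra -/
noncomputable def nrm (R : Type*) [Semiring R] (g : G) : MonoidAlgebra R G :=
  ∑ i ∈ range (orderOf g), MonoidAlgebra.of R G g ^ i

theorem map_nrm {R S : Type*} [Semiring R] [Semiring S] (f : R →+* S) (g : G) :
    MonoidAlgebra.mapRingHom G f (nrm R g) = nrm S g := by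
  unfold nrm
  rw [map_sum]
  apply Finset.sum_congr rfl
  intro i _
  rw [map_pow]
  congr 1
  simp [MonoidAlgebra.of_apply]

theorem of_pow_orderOf (R : Type*) [Semiring R] (g : G) :
    MonoidAlgebra.of R G g ^ orderOf g = 1 := by
  rw [← map_pow, pow_orderOf_eq_one, map_one]

theorem of_mul_nrm (R : Type*) [Ring R] (g : G) :
    MonoidAlgebra.of R G g * nrm R g = nrm R g := by
  unfold nrm
  rw [Finset.mul_sum]
  have h1 : ∀ i ∈ range (orderOf g), MonoidAlgebra.of R G g * MonoidAlgebra.of R G g ^ i =
      MonoidAlgebra.of R G g ^ (i + 1) := fun i _ => by rw [pow_succ']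
  rw [Finset.sum_congr rfl h1]
  have h2 := Finset.sum_range_succ' (fun i => MonoidAlgebra.of R G g ^ i) (orderOf g)
  have h3 := Finset.sum_range_succ (fun i => MonoidAlgebra.of R G g ^ i) (orderOf g)
  rw [h3, of_pow_orderOf, pow_zero] at h2
  exact (add_right_cancel h2).symm

theorem nrm_mul_of (R : Type*) [Ring R] (g : G) :
    nrm R g * MonoidAlgebra.of R G g = nrm R g := by
  have h1 : nrm R g * MonoidAlgebra.of R G g = MonoidAlgebra.of R G g * nrm R g := by
    unfold nrm
    rw [Finset.mul_sum, Finset.sum_mul]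
    apply Finset.sum_congr rfl
    intro i _
    rw [← pow_succ', ← pow_succ]
  rw [h1, of_mul_nrm]

theorem of_pow_mul_nrm (R : Type*) [Ring R] (g : G) (i : ℕ) :
    MonoidAlgebra.of R G g ^ i * nrm R g = nrm R g := by
  induction i with
  | zero => simp
  | succ i ih => rw [pow_succ, mul_assoc, of_mul_nrm, ih]

theorem nrm_mul_nrm (R : Type*) [Ring R] (g : G) :
    nrm R g * nrm R g = (orderOf g : MonoidAlgebra R G) * nrm R g := by
  have h1 : nrm R g * nrm R g =
      ∑ i ∈ range (orderOf g), MonoidAlgebra.of R G g ^ i * nrm R g := by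
    rw [← Finset.sum_mul]
    rfl
  rw [h1, Finset.sum_congr rfl (fun i _ => of_pow_mul_nrm R g i)]
  simp

theorem conj_nrm (R : Type*) [Semiring R] (h g : G) :
    MonoidAlgebra.of R G h * nrm R g * MonoidAlgebra.of R G h⁻¹ = nrm R (h * g * h⁻¹) := by
  unfold nrm
  have ho : orderOf (h * g * h⁻¹) = orderOf g := by
    have := (MulAut.conj h).orderOf_eq g
    simpa [MulAut.conj_apply] using this
  rw [ho, Finset.mul_sum, Finset.sum_mul]
  apply Finset.sum_congr rfl
  intro i _
  rw [← map_pow, ← map_pow, ← map_mul, ← map_mul, conj_pow]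

/-- the left ideal generated by the norm elements of the nonidentity elements -/
noncomputable def J (R : Type*) [Ring R] (G : Type*) [Group G] :
    Submodule (MonoidAlgebra R G) (MonoidAlgebra R G) :=
  Submodule.span _ {x | ∃ g : G, g ≠ 1 ∧ x = nrm R g}

theorem nrm_mem_J (R : Type*) [Ring R] (g : G) (hg : g ≠ 1) : nrm R g ∈ J R G :=
  Submodule.subset_span ⟨g, hg, rfl⟩

theorem J_mul_left (R : Type*) [Ring R] (a x : MonoidAlgebra R G) (hx : x ∈ J R G) :
    a * x ∈ J R G := by
  have := (J R G).smul_mem a hx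
  simpa using this

theorem J_mul_of (R : Type*) [Ring R] (x : MonoidAlgebra R G) (hx : x ∈ J R G) (h : G) :
    x * MonoidAlgebra.of R G h ∈ J R G := by
  unfold J at hx
  induction hx using Submodule.span_induction with
  | mem x hx =>
    obtain ⟨g, hg, rfl⟩ := hx
    have h1 := conj_nrm R h⁻¹ g
    rw [inv_inv] at h1
    have h2 : nrm R g * MonoidAlgebra.of R G h =
        MonoidAlgebra.of R G h * nrm R (h⁻¹ * g * h) := by
      rw [← h1, ← mul_assoc, ← mul_assoc, ← map_mul, mul_inv_cancel, map_one, one_mul]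
    rw [h2]
    apply J_mul_left
    apply nrm_mem_J
    intro h3
    apply hg
    have : g = h * (h⁻¹ * g * h) * h⁻¹ := by group
    rw [this, h3]; group
  | zero => rw [zero_mul]; exact Submodule.zero_mem _
  | add x y _ _ hx hy => rw [add_mul]; exact Submodule.add_mem _ hx hy
  | smul a x _ hx =>
    rw [smul_eq_mul, mul_assoc]
    exact J_mul_left R a _ hx

theorem J_mul_right (R : Type*) [CommRing R] (x : MonoidAlgebra R G) (hx : x ∈ J R G)
    (y : MonoidAlgebra R G) : x * y ∈ J R G := by
  induction y using MonoidAlgebra.induction_on with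
  | of h => exact J_mul_of R x hx h
  | add y z hy hz => rw [mul_add]; exact Submodule.add_mem _ hy hz
  | smul c y hy =>
    rw [mul_smul_comm, Algebra.smul_def]
    exact J_mul_left R _ _ hy

theorem map_J {R S : Type*} [Ring R] [Ring S] (f : R →+* S) (x : MonoidAlgebra R G)
    (hx : x ∈ J R G) : MonoidAlgebra.mapRingHom G f x ∈ J S G := by
  unfold J at hx
  induction hx using Submodule.span_induction with
  | mem x hx =>
    obtain ⟨g, hg, rfl⟩ := hx
    rw [map_nrm]
    exact nrm_mem_J S g hg
  | zero => rw [map_zero]; exact Submodule.zero_mem _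
  | add x y _ _ hx hy => rw [map_add]; exact Submodule.add_mem _ hx hy
  | smul a x _ hx =>
    rw [smul_eq_mul, map_mul]
    exact J_mul_left S _ _ hx

theorem J_mul_eq_zero (R : Type*) [Ring R] (e : MonoidAlgebra R G)
    (he : ∀ g : G, g ≠ 1 → nrm R g * e = 0) (x : MonoidAlgebra R G) (hx : x ∈ J R G) :
    x * e = 0 := by
  unfold J at hx
  induction hx using Submodule.span_induction with
  | mem x hx =>
    obtain ⟨g, hg, rfl⟩ := hx
    exact he g hg
  | zero => rw [zero_mul]
  | add x y _ _ hx hy => rw [add_mul, hx, hy, add_zero]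
  | smul a x _ hx => rw [smul_eq_mul, mul_assoc, hx, mul_zero]

end Cfsg.Agent.Lib.Helper22.ZFormB
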