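import Mathlib
import Cfsg.Agent.Lib.Helper22.ZFormB

set_option autoImplicit false

namespace Cfsg.Agent.Lib.Helper22.ZFormC

open Finset Cfsg.Agent.Lib.Helper22.ZFormB

variable {G : Type*} [Group G]

/-- the averaging operator -/
noncomputable def tau (R : Type*) [CommRing R] [Fintype G] (u : R) (y : MonoidAlgebra R G) :
    MonoidAlgebra R G :=
  algebraMap R (MonoidAlgebra R G) u *
    ∑ h : G, MonoidAlgebra.of R G h * y * MonoidAlgebra.of R G h⁻¹

theorem of_mul_tau (R : Type*) [CommRing R] [Fintype G] (u : R) (y : MonoidAlgebra R G) (g : G) :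
    MonoidAlgebra.of R G g * tau R u y = tau R u y * MonoidAlgebra.of R G g := by
  unfold tau
  rw [← mul_assoc, ← Algebra.commutes, mul_assoc, mul_assoc]
  congr 1
  rw [Finset.mul_sum, Finset.sum_mul]
  rw [← Equiv.sum_comp (Equiv.mulLeft g⁻¹)]
  apply Finset.sum_congr rfl
  intro h _
  simp only [Equiv.coe_mulLeft, mul_inv_rev, inv_inv, map_mul]
  simp only [← mul_assoc]
  rw [← map_mul, mul_inv_cancel, map_one, one_mul]

theorem tau_of_central (R : Type*) [CommRing R] [Fintype G] (u : R)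
    (hu : u * (Fintype.card G : R) = 1) (z : MonoidAlgebra R G)
    (hz : ∀ g : G, MonoidAlgebra.of R G g * z = z * MonoidAlgebra.of R G g) :
    tau R u z = z := by
  unfold tau
  have h1 : ∀ h ∈ (Finset.univ : Finset G),
      MonoidAlgebra.of R G h * z * MonoidAlgebra.of R G h⁻¹ = z := by
    intro h _
    rw [hz h, mul_assoc, ← map_mul, mul_inv_cancel, map_one, mul_one]
  rw [Finset.sum_congr rfl h1, Finset.sum_const, Finset.card_univ, nsmul_eq_mul, ← mul_assoc]
  have h2 : algebraMap R (MonoidAlgebra R G) u * (Fintype.card G : MonoidAlgebra R G) = 1 := by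
    rw [← map_natCast (algebraMap R (MonoidAlgebra R G)), ← map_mul, hu, map_one]
  rw [h2, one_mul]

theorem map_tau {R S : Type*} [CommRing R] [CommRing S] [Fintype G] (f : R →+* S) (u : R)
    (y : MonoidAlgebra R G) :
    MonoidAlgebra.mapRingHom G f (tau R u y) = tau S (f u) (MonoidAlgebra.mapRingHom G f y) := by
  unfold tau
  rw [map_mul, map_sum]
  congr 1
  · simp [MonoidAlgebra.coe_algebraMap]
  · apply Finset.sum_congr rfl
    intro h _
    rw [map_mul, map_mul]
    simp [MonoidAlgebra.of_apply]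

/-- the reduction map `(ℤ/r^k)[G] → (ℤ/r)[G]` -/
noncomputable def red (G : Type*) [Group G] (r k : ℕ) (hk : k ≠ 0) :
    MonoidAlgebra (ZMod (r ^ k)) G →+* MonoidAlgebra (ZMod r) G :=
  MonoidAlgebra.mapRingHom G (ZMod.castHom (dvd_pow_self r hk) (ZMod r))

theorem zmod_eq_mul_of_cast_eq_zero (r k : ℕ) (hr : 0 < r) (hk : k ≠ 0) (c : ZMod (r ^ k))
    (hc : ZMod.castHom (dvd_pow_self r hk) (ZMod r) c = 0) :
    ∃ c' : ZMod (r ^ k), c = (r : ZMod (r ^ k)) * c' := by
  haveI : NeZero (r ^ k) := ⟨(pow_pos hr k).ne'⟩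
  obtain ⟨t, rfl⟩ := ZMod.natCast_zmod_surjective c
  rw [map_natCast, ZMod.natCast_eq_zero_iff] at hc
  obtain ⟨q, rfl⟩ := hc
  exact ⟨(q : ZMod (r ^ k)), by push_cast; rfl⟩

theorem zmod_cast_eq_zero_of_mul (r a : ℕ) (hr : 0 < r) (c : ZMod (r ^ (a + 1)))
    (hc : ((r ^ a : ℕ) : ZMod (r ^ (a + 1))) * c = 0) :
    ZMod.castHom (dvd_pow_self r (Nat.succ_ne_zero a)) (ZMod r) c = 0 := by
  haveI : NeZero (r ^ (a + 1)) := ⟨(pow_pos hr (a + 1)).ne'⟩
  obtain ⟨t, rfl⟩ := ZMod.natCast_zmod_surjective c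
  rw [map_natCast, ZMod.natCast_eq_zero_iff]
  rw [← Nat.cast_mul, ZMod.natCast_eq_zero_iff, pow_succ] at hc
  exact Nat.dvd_of_mul_dvd_mul_left (pow_pos hr a) hc

theorem red_ker_pow (r k : ℕ) (hr : 0 < r) (hk : k ≠ 0) (y : MonoidAlgebra (ZMod (r ^ k)) G)
    (hy : red G r k hk y = 0) : y ^ k = 0 := by
  classical
  have h1 : ∀ g : G, ∃ c' : ZMod (r ^ k), y.coeff g = (r : ZMod (r ^ k)) * c' := by
    intro g
    apply zmod_eq_mul_of_cast_eq_zero r k hr hk
    have := congrArg (fun z => z.coeff g) hy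
    simpa [red] using this
  choose q hq using h1
  -- build y'
  let y' : MonoidAlgebra (ZMod (r ^ k)) G :=
    MonoidAlgebra.ofCoeff (Finsupp.onFinset y.coeff.support
      (fun g => if y.coeff g = 0 then 0 else q g) (by
        intro g hg
        simp only [Finsupp.mem_support_iff]
        intro h0
        apply hg
        simp [h0]))
  have hy' : y = (r : MonoidAlgebra (ZMod (r ^ k)) G) * y' := by
    apply MonoidAlgebra.coeff_injective
    ext g
    rw [MonoidAlgebra.natCast_def, MonoidAlgebra.coeff_single_one_mul]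
    simp only [y', Finsupp.onFinset_apply]
    by_cases h0 : y.coeff g = 0
    · simp [h0]
    · simp only [h0, if_false]
      exact hq g
  rw [hy', (Nat.cast_commute r y').mul_pow, ← Nat.cast_pow]
  have : ((r ^ k : ℕ) : MonoidAlgebra (ZMod (r ^ k)) G) = 0 := by
    rw [MonoidAlgebra.natCast_def, ZMod.natCast_self, MonoidAlgebra.single_zero]
  rw [this, zero_mul]

theorem red_eq_zero_of_smul (r a : ℕ) (hr : 0 < r) (y : MonoidAlgebra (ZMod (r ^ (a + 1))) G)
    (hy : ((r ^ a : ℕ) : MonoidAlgebra (ZMod (r ^ (a + 1))) G) * y = 0) :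
    red G r (a + 1) (Nat.succ_ne_zero a) y = 0 := by
  apply MonoidAlgebra.coeff_injective
  ext g
  simp only [red, MonoidAlgebra.coeff_mapRingHom, MonoidAlgebra.coeff_zero, Finsupp.coe_zero,
    Pi.zero_apply]
  apply zmod_cast_eq_zero_of_mul r a hr
  have := congrArg (fun z => z.coeff g) hy
  rw [MonoidAlgebra.natCast_def] at this
  simpa [MonoidAlgebra.coeff_single_one_mul] using this

end Cfsg.Agent.Lib.Helper22.ZFormC
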