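import Mathlib
import Cfsg.Agent.Lib.Helper22.ZFormC

set_option autoImplicit false

namespace Cfsg.Agent.Lib.Helper22.ZFormD

open Finset Cfsg.Agent.Lib.Helper22.ZFormA Cfsg.Agent.Lib.Helper22.ZFormB
  Cfsg.Agent.Lib.Helper22.ZFormC

variable {G : Type*} [Group G]

theorem commute_nrm (R : Type*) [Ring R] (e : MonoidAlgebra R G) (g : G)
    (h : Commute (MonoidAlgebra.of R G g) e) : Commute (nrm R g) e := by
  unfold nrm
  apply Commute.sum_left
  intro i _
  exact h.pow_left i

/-- key lifting statement -/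
theorem key [Finite G] (r : ℕ) [Fact r.Prime] (hr : ¬ r ∣ Nat.card G)
    (h1 : (1 : MonoidAlgebra (ZMod r) G) ∉ J (ZMod r) G) (k : ℕ) (hk : k ≠ 0) :
    ∃ e : MonoidAlgebra (ZMod (r ^ k)) G,
      (∀ g : G, g ≠ 1 → nrm (ZMod (r ^ k)) g * e = 0) ∧ red G r k hk e ≠ 0 := by
  classical
  haveI := Fintype.ofFinite G
  have hrp : r.Prime := Fact.out
  have hrpos : 0 < r := hrp.pos
  haveI : NeZero ((Nat.card G : ℕ) : ZMod r) :=
    ⟨by rw [Ne, ZMod.natCast_eq_zero_iff]; exact hr⟩
  have hss : ∀ p : Submodule (MonoidAlgebra (ZMod r) G) (MonoidAlgebra (ZMod r) G),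
      ∃ q : Submodule (MonoidAlgebra (ZMod r) G) (MonoidAlgebra (ZMod r) G), IsCompl p q :=
    fun p => MonoidAlgebra.Submodule.exists_isCompl p
  obtain ⟨ε, hε0, hεi, hεc, hεJ, hεJ'⟩ := exists_central_idem hss (J (ZMod r) G)
    (fun x hx y => J_mul_right _ x hx y) h1
  -- lift
  obtain ⟨y, hy⟩ := MonoidAlgebra.map_surjective (M := G)
    (ZMod.castHom (dvd_pow_self r hk) (ZMod r)).toAddMonoidHom (ZMod.ringHom_surjective _) ε
  have hy' : red G r k hk y = ε := hy
  have hcop : Nat.Coprime (Nat.card G) (r ^ k) :=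
    Nat.Coprime.pow_right k (Nat.coprime_comm.mp ((Nat.Prime.coprime_iff_not_dvd hrp).mpr hr))
  set u : ZMod (r ^ k) := ((Nat.card G : ℕ) : ZMod (r ^ k))⁻¹ with hu_def
  have hu : u * (Fintype.card G : ZMod (r ^ k)) = 1 := by
    rw [Fintype.card_eq_nat_card, mul_comm]
    exact ZMod.coe_mul_inv_eq_one _ hcop
  set x := tau (ZMod (r ^ k)) u y with hx_def
  have hxc : ∀ g : G, Commute (MonoidAlgebra.of (ZMod (r ^ k)) G g) x :=
    fun g => of_mul_tau _ u y g
  have hπx : red G r k hk x = ε := by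
    rw [hx_def, red, map_tau]
    have : MonoidAlgebra.mapRingHom G (ZMod.castHom (dvd_pow_self r hk) (ZMod r)) y = ε := hy
    rw [this]
    apply tau_of_central
    · rw [← map_natCast (ZMod.castHom (dvd_pow_self r hk) (ZMod r)), ← map_mul, hu, map_one]
    · intro g
      exact hεc _
  have hker := red_ker_pow (G := G) r k hrpos hk
  obtain ⟨hei, hπe⟩ := lift_idem (red G r k hk) k (Nat.pos_of_ne_zero hk) hker x
    (by rw [hπx]; exact hεi)
  set e := 1 - (1 - x ^ k) ^ k with he_def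
  have hec : ∀ g : G, Commute (MonoidAlgebra.of (ZMod (r ^ k)) G g) e := by
    intro g
    rw [he_def]
    exact (Commute.one_right _).sub_right
      (((Commute.one_right _).sub_right ((hxc g).pow_right k)).pow_right k)
  refine ⟨e, ?_, by rw [hπe, hπx]; exact hε0⟩
  intro g hg
  have ho : orderOf g ∣ Nat.card G := orderOf_dvd_natCard g
  have hcop2 : Nat.Coprime (orderOf g) (r ^ k) := hcop.coprime_dvd_left ho
  set v : ZMod (r ^ k) := ((orderOf g : ℕ) : ZMod (r ^ k))⁻¹ with hv_def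
  have hv : ((orderOf g : ℕ) : ZMod (r ^ k)) * v = 1 := ZMod.coe_mul_inv_eq_one _ hcop2
  set a : MonoidAlgebra (ZMod (r ^ k)) G :=
    algebraMap (ZMod (r ^ k)) (MonoidAlgebra (ZMod (r ^ k)) G) v with ha_def
  have hac : ∀ z : MonoidAlgebra (ZMod (r ^ k)) G, a * z = z * a := fun z => Algebra.commutes _ _
  have hao : a * ((orderOf g : ℕ) : MonoidAlgebra (ZMod (r ^ k)) G) = 1 := by
    rw [ha_def, ← map_natCast (algebraMap (ZMod (r ^ k)) (MonoidAlgebra (ZMod (r ^ k)) G)),
      ← map_mul, mul_comm, hv, map_one]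
  set N := nrm (ZMod (r ^ k)) g with hN_def
  have hNN : N * N = ((orderOf g : ℕ) : MonoidAlgebra (ZMod (r ^ k)) G) * N := nrm_mul_nrm _ g
  have h3 : N = ((orderOf g : ℕ) : MonoidAlgebra (ZMod (r ^ k)) G) * (a * N) := by
    rw [← mul_assoc, ← hac, hao, one_mul]
  have hegi : a * N * (a * N) = a * N := by
    calc a * N * (a * N) = a * (N * a) * N := by noncomm_ring
      _ = a * (a * N) * N := by rw [hac N]
      _ = a * a * (N * N) := by noncomm_ring
      _ = a * (a * ((orderOf g : ℕ) : MonoidAlgebra (ZMod (r ^ k)) G)) * N := by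
          rw [hNN]; noncomm_ring
      _ = a * N := by rw [hao, mul_one]
  have hcn : Commute N e := commute_nrm _ e g (hec g)
  have hcomm : e * (a * N) = a * N * e := by
    rw [← mul_assoc, ← hac e, mul_assoc, mul_assoc, hcn.eq]
  have h0 : red G r k hk (e * (a * N)) = 0 := by
    rw [map_mul, hπe, hπx, map_mul, hN_def, red, map_nrm, ← mul_assoc]
    have h5 : MonoidAlgebra.mapRingHom G (ZMod.castHom (dvd_pow_self r hk) (ZMod r)) a =
        algebraMap (ZMod r) (MonoidAlgebra (ZMod r) G)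
          (ZMod.castHom (dvd_pow_self r hk) (ZMod r) v) := by
      simp [ha_def, MonoidAlgebra.coe_algebraMap]
    rw [h5, ← Algebra.commutes, mul_assoc, hεJ' _ (nrm_mem_J _ g hg), mul_zero]
  have h2 := idem_mul_eq_zero (red G r k hk) k hker e (a * N) hei hegi hcomm h0
  rw [hcn.eq, h3, ← mul_assoc, (Nat.cast_commute (orderOf g) e).eq.symm, mul_assoc, h2, mul_zero]

end Cfsg.Agent.Lib.Helper22.ZFormD
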