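import Mathlib
import Cfsg.Agent.Lib.Helper22.ZFormD

set_option autoImplicit false

namespace Cfsg.Agent.Lib.Helper22.ZFormE

open Finset Cfsg.Agent.Lib.Helper22.ZFormA Cfsg.Agent.Lib.Helper22.ZFormB
  Cfsg.Agent.Lib.Helper22.ZFormC Cfsg.Agent.Lib.Helper22.ZFormD

variable {G : Type*} [Group G]

theorem natCast_not_mem_J [Finite G] (r : ℕ) [Fact r.Prime] (hr : ¬ r ∣ Nat.card G)
    (h1 : (1 : MonoidAlgebra (ZMod r) G) ∉ J (ZMod r) G) (m : ℕ) (hm : m ≠ 0) :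
    ((m : ℕ) : MonoidAlgebra ℤ G) ∉ J ℤ G := by
  have hrp : r.Prime := Fact.out
  obtain ⟨a, m', hm', rfl⟩ := Nat.exists_eq_pow_mul_and_not_dvd hm r hrp.ne_one
  obtain ⟨e, he, hne⟩ := key r hr h1 (a + 1) (Nat.succ_ne_zero a)
  intro hmem
  have h2 := map_J (Int.castRingHom (ZMod (r ^ (a + 1)))) _ hmem
  rw [map_natCast] at h2
  have h3 := J_mul_eq_zero _ e he _ h2
  apply hne
  apply red_eq_zero_of_smul r a hrp.pos
  -- m' is a unit
  have hcop : Nat.Coprime m' (r ^ (a + 1)) :=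
    Nat.Coprime.pow_right _ (Nat.coprime_comm.mp ((Nat.Prime.coprime_iff_not_dvd hrp).mpr hm'))
  set w : ZMod (r ^ (a + 1)) := ((m' : ℕ) : ZMod (r ^ (a + 1)))⁻¹ with hw_def
  have hw : ((m' : ℕ) : ZMod (r ^ (a + 1))) * w = 1 := ZMod.coe_mul_inv_eq_one _ hcop
  set b : MonoidAlgebra (ZMod (r ^ (a + 1))) G :=
    algebraMap (ZMod (r ^ (a + 1))) (MonoidAlgebra (ZMod (r ^ (a + 1))) G) w with hb_def
  have hbm : b * ((m' : ℕ) : MonoidAlgebra (ZMod (r ^ (a + 1))) G) = 1 := by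
    rw [hb_def, ← map_natCast (algebraMap (ZMod (r ^ (a + 1)))
      (MonoidAlgebra (ZMod (r ^ (a + 1))) G)), ← map_mul, mul_comm, hw, map_one]
  have h4 : ((r ^ a : ℕ) : MonoidAlgebra (ZMod (r ^ (a + 1))) G) * e =
      b * (((r ^ a * m' : ℕ) : MonoidAlgebra (ZMod (r ^ (a + 1))) G) * e) := by
    rw [Nat.cast_mul, ← mul_assoc, ← mul_assoc, (Nat.cast_commute (r ^ a) b).eq.symm,
      mul_assoc _ b, hbm, mul_one]
  rw [h4, h3, mul_zero]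

theorem intCast_not_mem_J [Finite G] (r : ℕ) [Fact r.Prime] (hr : ¬ r ∣ Nat.card G)
    (h1 : (1 : MonoidAlgebra (ZMod r) G) ∉ J (ZMod r) G) (m : ℤ) (hm : m ≠ 0) :
    ((m : ℤ) : MonoidAlgebra ℤ G) ∉ J ℤ G := by
  intro hmem
  have h2 : ((m.natAbs : ℕ) : MonoidAlgebra ℤ G) ∈ J ℤ G := by
    rcases Int.natAbs_eq m with h | h
    · rw [h] at hmem
      simpa using hmem
    · rw [h] at hmem
      have := Submodule.neg_mem _ hmem
      simpa using this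
  exact natCast_not_mem_J r hr h1 _ (Int.natAbs_ne_zero.mpr hm) h2

/-- the saturation of `J ℤ G` -/
noncomputable def Jsat (G : Type*) [Group G] :
    Submodule (MonoidAlgebra ℤ G) (MonoidAlgebra ℤ G) where
  carrier := {x | ∃ m : ℤ, m ≠ 0 ∧ ((m : ℤ) : MonoidAlgebra ℤ G) * x ∈ J ℤ G}
  add_mem' := by
    rintro x y ⟨m, hm, hx⟩ ⟨n, hn, hy⟩
    refine ⟨m * n, mul_ne_zero hm hn, ?_⟩
    have : ((m * n : ℤ) : MonoidAlgebra ℤ G) * (x + y) =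
        ((n : ℤ) : MonoidAlgebra ℤ G) * (((m : ℤ) : MonoidAlgebra ℤ G) * x) +
        ((m : ℤ) : MonoidAlgebra ℤ G) * (((n : ℤ) : MonoidAlgebra ℤ G) * y) := by
      rw [Int.cast_mul, mul_add, ← mul_assoc, ← mul_assoc, (Int.cast_commute n _).eq]
    rw [this]
    exact Submodule.add_mem _ (J_mul_left _ _ _ hx) (J_mul_left _ _ _ hy)
  zero_mem' := ⟨1, one_ne_zero, by simp⟩
  smul_mem' := by
    rintro a x ⟨m, hm, hx⟩
    refine ⟨m, hm, ?_⟩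
    rw [smul_eq_mul, ← mul_assoc, (Int.cast_commute m a).eq, mul_assoc]
    exact J_mul_left _ _ _ hx

theorem mem_Jsat (x : MonoidAlgebra ℤ G) :
    x ∈ Jsat G ↔ ∃ m : ℤ, m ≠ 0 ∧ ((m : ℤ) : MonoidAlgebra ℤ G) * x ∈ J ℤ G := Iff.rfl

theorem J_le_Jsat : J ℤ G ≤ Jsat G := by
  intro x hx
  exact ⟨1, one_ne_zero, by simpa using hx⟩

end Cfsg.Agent.Lib.Helper22.ZFormE
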