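import Mathlib
import Cfsg.Agent.Lib.Helper22.ZFormE

set_option autoImplicit false

namespace Cfsg.Agent.Lib.Helper22.ZFormF

open Finset Cfsg.Agent.Lib.Helper22.ZFormA Cfsg.Agent.Lib.Helper22.ZFormB
  Cfsg.Agent.Lib.Helper22.ZFormC Cfsg.Agent.Lib.Helper22.ZFormD Cfsg.Agent.Lib.Helper22.ZFormE

variable {G : Type*} [Group G]

/-- the torsion-free quotient lattice -/
abbrev ZLat (G : Type*) [Group G] : Type _ := MonoidAlgebra ℤ G ⧸ Jsat G

theorem nrm_smul_eq_zero (g : G) (hg : g ≠ 1) (x : ZLat G) : nrm ℤ g • x = 0 := by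
  obtain ⟨y, rfl⟩ := Submodule.Quotient.mk_surjective _ x
  rw [← Submodule.Quotient.mk_smul, Submodule.Quotient.mk_eq_zero, smul_eq_mul]
  exact J_le_Jsat (J_mul_right ℤ _ (nrm_mem_J ℤ g hg) y)

theorem lat_torsionFree : Module.IsTorsionFree ℤ (ZLat G) := by
  apply Module.IsTorsionFree.of_smul_eq_zero
  intro m x hx
  by_cases hm : m = 0
  · exact Or.inl hm
  · right
    obtain ⟨y, rfl⟩ := Submodule.Quotient.mk_surjective _ x
    rw [← Submodule.Quotient.mk_smul, Submodule.Quotient.mk_eq_zero] at hx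
    rw [Submodule.Quotient.mk_eq_zero]
    obtain ⟨n, hn, hmem⟩ := (mem_Jsat _).mp hx
    refine (mem_Jsat _).mpr ⟨n * m, mul_ne_zero hn hm, ?_⟩
    rw [zsmul_eq_mul] at hmem
    rw [Int.cast_mul, mul_assoc]
    exact hmem

theorem lat_nontrivial [Finite G] (r : ℕ) [Fact r.Prime] (hr : ¬ r ∣ Nat.card G)
    (h1 : (1 : MonoidAlgebra (ZMod r) G) ∉ J (ZMod r) G) : Nontrivial (ZLat G) := by
  refine ⟨⟨Submodule.Quotient.mk 1, 0, ?_⟩⟩
  rw [Ne, Submodule.Quotient.mk_eq_zero]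
  rintro ⟨m, hm, hmem⟩
  rw [mul_one] at hmem
  exact intCast_not_mem_J r hr h1 m hm hmem

theorem toModuleEnd_nrm (g : G) (hg : g ≠ 1) :
    Module.toModuleEnd ℤ (S := MonoidAlgebra ℤ G) (ZLat G) (nrm ℤ g) = 0 := by
  apply LinearMap.ext
  intro x
  rw [Module.toModuleEnd_apply]
  exact nrm_smul_eq_zero g hg x

/-- **Integral form**: if the two-sided ideal of `𝔽_r[G]` generated by norm elements is proper
(`r ∤ |G|`), then `G` has an integral matrix representation in which all norm elements of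
nonidentity elements act as zero. -/
theorem exists_zform [Finite G] (r : ℕ) [Fact r.Prime] (hr : ¬ r ∣ Nat.card G)
    (h1 : (1 : MonoidAlgebra (ZMod r) G) ∉ J (ZMod r) G) :
    ∃ (d : ℕ) (ρ : G →* Matrix (Fin d) (Fin d) ℤ), 0 < d ∧
      ∀ g : G, g ≠ 1 → ∑ i ∈ range (orderOf g), ρ g ^ i = 0 := by
  haveI := lat_torsionFree (G := G)
  haveI := lat_nontrivial r hr h1
  obtain ⟨d, b⟩ : Σ n : ℕ, Module.Basis (Fin n) ℤ (ZLat G) := Module.basisOfFiniteTypeTorsionFree'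
  have hd : 0 < d := by
    rcases Nat.eq_zero_or_pos d with h0 | h0
    · exfalso
      subst h0
      obtain ⟨x, hx⟩ := exists_ne (0 : ZLat G)
      apply hx
      apply b.repr.injective
      ext i
      exact i.elim0
    · exact h0
  obtain ⟨T, hT⟩ : ∃ T : MonoidAlgebra ℤ G →+* Module.End ℤ (ZLat G),
      ∀ g : G, g ≠ 1 → T (nrm ℤ g) = 0 :=
    ⟨Module.toModuleEnd ℤ (S := MonoidAlgebra ℤ G) (ZLat G), toModuleEnd_nrm⟩
  obtain ⟨Mx⟩ : Nonempty (Module.End ℤ (ZLat G) ≃ₐ[ℤ] Matrix (Fin d) (Fin d) ℤ) :=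
    ⟨LinearMap.toMatrixAlgEquiv b⟩
  clear b
  refine ⟨d, { toFun := fun g => Mx (T (MonoidAlgebra.of ℤ G g))
               map_one' := by rw [map_one, map_one, map_one]
               map_mul' := fun g h => by rw [map_mul, map_mul, map_mul] }, hd, ?_⟩
  intro g hg
  have h2 : ∑ i ∈ range (orderOf g), (Mx (T (MonoidAlgebra.of ℤ G g))) ^ i =
      Mx (T (nrm ℤ g)) := by
    unfold nrm
    rw [map_sum, map_sum]
    apply Finset.sum_congr rfl
    intro i _
    rw [map_pow, map_pow]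
  rw [hT g hg, map_zero] at h2
  exact h2

end Cfsg.Agent.Lib.Helper22.ZFormF
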