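import Mathlib
import Cfsg.Agent.Lib.Helper22.ZFormF

set_option autoImplicit false

namespace Cfsg.Agent.Lib.Helper22.ZFormG

open Finset Cfsg.Agent.Lib.Helper22.ZFormB Cfsg.Agent.Lib.Helper22.ZFormF

variable {G : Type*} [Group G]

/-- In a ring, if `x ^ n = 1` and `x w = w ⇒ w = 0`-type freeness is known, the geometric sum
is fixed by `x`. -/
theorem mul_geom_sum_of_pow_eq_one {R : Type*} [Ring R] (x : R) (n : ℕ) (hx : x ^ n = 1) :
    x * ∑ i ∈ range n, x ^ i = ∑ i ∈ range n, x ^ i := by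
  have := mul_geom_sum x n
  rw [hx, sub_self, sub_mul, one_mul, sub_eq_zero] at this
  exact this

/-- A fixed-point-free linear action kills all norm elements. -/
theorem geom_sum_eq_zero_of_fpf [Finite G] {k : Type*} [CommRing k] {V : Type*} [AddCommGroup V]
    [Module k V] (ρV : G →* Module.End k V)
    (hfpf : ∀ g : G, g ≠ 1 → ∀ v : V, ρV g v = v → v = 0) (g : G) (hg : g ≠ 1) :
    ∑ i ∈ range (orderOf g), ρV g ^ i = 0 := by
  apply LinearMap.ext
  intro v
  rw [LinearMap.zero_apply]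
  apply hfpf g hg
  have h1 : ρV g ^ orderOf g = 1 := by rw [← map_pow, pow_orderOf_eq_one, map_one]
  have h2 := mul_geom_sum_of_pow_eq_one (ρV g) (orderOf g) h1
  have h3 := congrArg (fun T : Module.End k V => T v) h2
  simpa using h3

theorem not_dvd_card_of_fpf [Finite G] (r : ℕ) [Fact r.Prime] {V : Type*} [AddCommGroup V]
    [Module (ZMod r) V] [Nontrivial V] (ρV : G →* Module.End (ZMod r) V)
    (hfpf : ∀ g : G, g ≠ 1 → ∀ v : V, ρV g v = v → v = 0) : ¬ r ∣ Nat.card G := by
  intro hdvd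
  have hrp : r.Prime := Fact.out
  obtain ⟨g, hg⟩ := exists_prime_orderOf_dvd_card' r hdvd
  have hg1 : g ≠ 1 := by
    intro h
    rw [h, orderOf_one] at hg
    exact hrp.one_lt.ne hg
  haveI : CharP (Module.End (ZMod r) V) r :=
    charP_of_injective_algebraMap
      (FaithfulSMul.algebraMap_injective (ZMod r) (Module.End (ZMod r) V)) r
  have hgr : g ^ r = 1 := by
    have := pow_orderOf_eq_one g
    rwa [hg] at this
  have h1 : ρV g ^ r = 1 := by rw [← map_pow, hgr, map_one]
  have h2 : (ρV g - 1) ^ r = 0 := by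
    rw [sub_pow_char_of_commute r (Commute.one_right _), h1, one_pow, sub_self]
  obtain ⟨v, hv⟩ := exists_ne (0 : V)
  have hex : ∃ j : ℕ, ((ρV g - 1) ^ j) v = 0 := ⟨r, by rw [h2]; rfl⟩
  classical
  have hj := Nat.find_spec hex
  have hjmin := fun m => Nat.find_min hex (m := m)
  set j := Nat.find hex with hj_def
  have hj0 : j ≠ 0 := by
    intro h0
    rw [h0, pow_zero] at hj
    exact hv hj
  obtain ⟨i, hi⟩ : ∃ i, j = i + 1 := ⟨j - 1, by omega⟩
  have h3 : ((ρV g - 1) ^ i) v ≠ 0 := hjmin i (by omega)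
  apply h3
  apply hfpf g hg1
  rw [hi, pow_succ'] at hj
  have h4 : (ρV g - 1) (((ρV g - 1) ^ i) v) = 0 := hj
  rw [LinearMap.sub_apply, sub_eq_zero] at h4
  exact h4

theorem one_not_mem_J_of_fpf [Finite G] (r : ℕ) [Fact r.Prime] {V : Type*} [AddCommGroup V]
    [Module (ZMod r) V] [Nontrivial V] (ρV : G →* Module.End (ZMod r) V)
    (hfpf : ∀ g : G, g ≠ 1 → ∀ v : V, ρV g v = v → v = 0) :
    (1 : MonoidAlgebra (ZMod r) G) ∉ J (ZMod r) G := by
  set Φ : MonoidAlgebra (ZMod r) G →ₐ[ZMod r] Module.End (ZMod r) V :=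
    MonoidAlgebra.lift (ZMod r) (Module.End (ZMod r) V) G ρV with hΦ
  have hΦof : ∀ g : G, Φ (MonoidAlgebra.of (ZMod r) G g) = ρV g := by
    intro g
    rw [hΦ, MonoidAlgebra.lift_of]
  have hker : ∀ x ∈ J (ZMod r) G, Φ x = 0 := by
    intro x hx
    unfold J at hx
    induction hx using Submodule.span_induction with
    | mem x hx =>
      obtain ⟨g, hg, rfl⟩ := hx
      unfold nrm
      rw [map_sum]
      have := geom_sum_eq_zero_of_fpf ρV hfpf g hg
      rw [← this]
      apply Finset.sum_congr rfl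
      intro i _
      rw [map_pow, hΦof]
    | zero => exact map_zero _
    | add x y _ _ hx hy => rw [map_add, hx, hy, add_zero]
    | smul a x _ hx => rw [smul_eq_mul, map_mul, hx, mul_zero]
  intro h1
  have := hker 1 h1
  rw [map_one] at this
  exact one_ne_zero this

/-- **Integral form** from a fixed-point-free representation in characteristic `r`. -/
theorem exists_zform_of_rep [Finite G] (r : ℕ) [Fact r.Prime] {V : Type*} [AddCommGroup V]
    [Module (ZMod r) V] [Nontrivial V] (ρV : G →* Module.End (ZMod r) V)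
    (hfpf : ∀ g : G, g ≠ 1 → ∀ v : V, ρV g v = v → v = 0) :
    ∃ (d : ℕ) (ρ : G →* Matrix (Fin d) (Fin d) ℤ), 0 < d ∧
      ∀ g : G, g ≠ 1 → ∑ i ∈ range (orderOf g), ρ g ^ i = 0 :=
  exists_zform r (not_dvd_card_of_fpf r ρV hfpf) (one_not_mem_J_of_fpf r ρV hfpf)

end Cfsg.Agent.Lib.Helper22.ZFormG
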