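import Mathlib
import Cfsg.Agent.Lib.Helper22.ZFormG

set_option autoImplicit false

namespace Cfsg.Agent.Lib.Helper22.ZFormH

open Finset Cfsg.Agent.Lib.Helper22.ZFormG

/-- **Integral form** from a fixed-point-free additive action on a nontrivial module over
`ZMod r`. -/
theorem exists_zform_of_add {G : Type*} [Group G] [Finite G] (r : ℕ) [Fact r.Prime]
    {V : Type*} [AddCommGroup V] [Module (ZMod r) V] [Nontrivial V] (ψ : G → V →+ V)
    (h1 : ∀ v : V, ψ 1 v = v) (hmul : ∀ (g h : G) (v : V), ψ (g * h) v = ψ g (ψ h v))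
    (hfpf : ∀ g : G, g ≠ 1 → ∀ v : V, ψ g v = v → v = 0) :
    ∃ (d : ℕ) (ρ : G →* Matrix (Fin d) (Fin d) ℤ), 0 < d ∧
      ∀ g : G, g ≠ 1 → ∑ i ∈ range (orderOf g), ρ g ^ i = 0 := by
  let ρV : G →* Module.End (ZMod r) V :=
    { toFun := fun g => AddMonoidHom.toZModLinearMap r (ψ g)
      map_one' := by
        apply LinearMap.ext
        intro x
        rw [Module.End.one_apply]
        exact h1 x
      map_mul' := fun g h => by
        apply LinearMap.ext
        intro x
        rw [Module.End.mul_apply]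
        exact hmul g h x }
  have hρV : ∀ (g : G) (x : V), ρV g x = ψ g x := fun g x => rfl
  apply exists_zform_of_rep r ρV
  intro g hg v hv
  rw [hρV] at hv
  exact hfpf g hg v hv

/-- **Integral form** from a fixed-point-free action on a nontrivial abelian group of
exponent `r`. -/
theorem exists_zform_of_mulAut {G : Type*} [Group G] [Finite G] (r : ℕ) [Fact r.Prime]
    {W : Type*} [CommGroup W] [Nontrivial W] (φ : G →* MulAut W) (hexp : ∀ w : W, w ^ r = 1)
    (hfpf : ∀ g : G, g ≠ 1 → ∀ w : W, φ g w = w → w = 1) :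
    ∃ (d : ℕ) (ρ : G →* Matrix (Fin d) (Fin d) ℤ), 0 < d ∧
      ∀ g : G, g ≠ 1 → ∑ i ∈ range (orderOf g), ρ g ^ i = 0 := by
  have hr : ∀ x : Additive W, r • x = 0 := fun x => by
    have := hexp x.toMul
    rw [← toMul_nsmul] at this
    exact this
  refine @exists_zform_of_add G _ _ r _ (Additive W) _ (AddCommGroup.zmodModule (n := r) hr) _
    (fun g => MonoidHom.toAdditive (φ g).toMonoidHom) ?_ ?_ ?_
  · intro v
    show Additive.ofMul (φ 1 v.toMul) = v
    rw [map_one]
    rfl
  · intro g h v
    show Additive.ofMul (φ (g * h) v.toMul) = Additive.ofMul (φ g (φ h v.toMul))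
    rw [map_mul]
    rfl
  · intro g hg v hv
    have h1 : φ g v.toMul = v.toMul := congrArg Additive.toMul hv
    have h2 := hfpf g hg _ h1
    exact congrArg Additive.ofMul h2

end Cfsg.Agent.Lib.Helper22.ZFormH
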