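import Mathlib
import Cfsg.Agent.S0035
import Cfsg.Agent.S0039
import Cfsg.Agent.S0042
import Cfsg.Agent.Lib.Helper22.ZFormH

set_option autoImplicit false

namespace Cfsg.Agent.Lib.Helper22.ZFormI

open Finset Cfsg.Agent.Lib.Helper22.ZFormH

/-- the subgroup of central elements of `N` of exponent `r` -/
def omegaZ {L : Type*} [Group L] (N : Subgroup L) (r : ℕ) : Subgroup L where
  carrier := {x | x ∈ N ∧ (∀ y ∈ N, y * x = x * y) ∧ x ^ r = 1}
  one_mem' := ⟨N.one_mem, fun y _ => by simp, one_pow r⟩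
  mul_mem' := by
    rintro a b ⟨ha, hac, har⟩ ⟨hb, hbc, hbr⟩
    refine ⟨N.mul_mem ha hb, fun y hy => ?_, ?_⟩
    · rw [← mul_assoc, hac y hy, mul_assoc, hbc y hy, ← mul_assoc]
    · have : Commute a b := hbc a ha
      rw [this.mul_pow, har, hbr, one_mul]
  inv_mem' := by
    rintro a ⟨ha, hac, har⟩
    refine ⟨N.inv_mem ha, fun y hy => ?_, by rw [inv_pow, har, inv_one]⟩
    have := hac y hy
    calc y * a⁻¹ = a⁻¹ * (a * y) * a⁻¹ := by group
      _ = a⁻¹ * (y * a) * a⁻¹ := by rw [this]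
      _ = a⁻¹ * y := by group

theorem mem_omegaZ {L : Type*} [Group L] (N : Subgroup L) (r : ℕ) (x : L) :
    x ∈ omegaZ N r ↔ x ∈ N ∧ (∀ y ∈ N, y * x = x * y) ∧ x ^ r = 1 := Iff.rfl

instance omegaZ_normal {L : Type*} [Group L] (N : Subgroup L) [hN : N.Normal] (r : ℕ) :
    (omegaZ N r).Normal := by
  refine ⟨fun x hx l => ?_⟩
  obtain ⟨hxN, hxc, hxr⟩ := hx
  refine ⟨hN.conj_mem x hxN l, fun y hy => ?_, by rw [conj_pow, hxr, mul_one, mul_inv_cancel]⟩
  have h1 : l⁻¹ * y * l ∈ N := by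
    have := hN.conj_mem y hy l⁻¹
    rwa [inv_inv] at this
  have h2 := hxc _ h1
  calc y * (l * x * l⁻¹) = l * (l⁻¹ * y * l * x) * l⁻¹ := by group
    _ = l * (x * (l⁻¹ * y * l)) * l⁻¹ := by rw [h2]
    _ = l * x * l⁻¹ * y := by group

instance omegaZ_commGroup {L : Type*} [Group L] (N : Subgroup L) (r : ℕ) :
    CommGroup (omegaZ N r) :=
  { (inferInstance : Group (omegaZ N r)) with
    mul_comm := fun a b => Subtype.ext (b.2.2.1 a a.2.1) }

/-- A Frobenius complement has an integral matrix representation in which every norm element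
of a nonidentity element vanishes. -/
theorem zform_of_frobenius_complement {G : Type*} [Group G] [Finite G]
    (hFC : ∃ (L : Type) (_ : Group L) (_ : Finite L) (H : Subgroup L),
      Cfsg.IsFrobeniusComplement H ∧ Nonempty (G ≃* H)) :
    ∃ (d : ℕ) (ρ : G →* Matrix (Fin d) (Fin d) ℤ), 0 < d ∧
      ∀ g : G, g ≠ 1 → ∑ i ∈ range (orderOf g), ρ g ^ i = 0 := by
  obtain ⟨L, _, _, H, hH, ⟨e⟩⟩ := hFC
  obtain ⟨N, hNset, hNn, hNnil⟩ := Cfsg.Agent.S0042.result H hH
  obtain ⟨N', hN'set, _, hN'c⟩ := Cfsg.Agent.S0035.result H hH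
  have hNN : N' = N := SetLike.coe_injective (hN'set.trans hNset.symm)
  rw [hNN] at hN'c
  haveI := hNn
  have hNbot : N ≠ ⊥ := by
    intro h
    rw [h] at hN'c
    exact hH.2.1 (Subgroup.isComplement'_bot_left.mp hN'c)
  have hfp := (Cfsg.Agent.S0039.result N H hN'c hNbot hH.1).mp hH
  haveI : Nontrivial N := (Subgroup.nontrivial_iff_ne_bot N).mpr hNbot
  have hZ : Subgroup.center N ≠ ⊥ := Group.IsNilpotent.center_ne_bot N
  haveI : Nontrivial (Subgroup.center N) := (Subgroup.nontrivial_iff_ne_bot _).mpr hZ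
  have hcard : Nat.card (Subgroup.center N) ≠ 1 := (Finite.one_lt_card).ne'
  obtain ⟨r, hr, hrdvd⟩ := Nat.exists_prime_and_dvd hcard
  haveI : Fact r.Prime := ⟨hr⟩
  obtain ⟨z, hz⟩ := exists_prime_orderOf_dvd_card' r hrdvd
  have hz1 : z ≠ 1 := by
    intro h
    rw [h, orderOf_one] at hz
    exact hr.one_lt.ne hz
  have hzr : z ^ r = 1 := by
    have := pow_orderOf_eq_one z
    rwa [hz] at this
  have hzW : ((z : N) : L) ∈ omegaZ N r := by
    refine ⟨(z : N).2, fun y hy => ?_, ?_⟩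
    · have := Subgroup.mem_center_iff.mp z.2 ⟨y, hy⟩
      exact congrArg Subtype.val this
    · have := congrArg (fun t : Subgroup.center N => ((t : N) : L)) hzr
      simpa using this
  haveI : Nontrivial (omegaZ N r) := by
    refine ⟨⟨⟨_, hzW⟩, 1, ?_⟩⟩
    intro h
    apply hz1
    have h2 : ((z : N) : L) = 1 := congrArg Subtype.val h
    apply Subtype.ext
    apply Subtype.ext
    simpa using h2
  let φ : G →* MulAut (omegaZ N r) :=
    (MulAut.conjNormal (H := omegaZ N r)).comp (H.subtype.comp e.toMonoidHom)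
  have hφ : ∀ (g : G) (w : omegaZ N r),
      ((φ g w : omegaZ N r) : L) = ((e g : H) : L) * w * ((e g : H) : L)⁻¹ := fun g w => rfl
  apply exists_zform_of_mulAut r φ
  · intro w
    exact Subtype.ext w.2.2.2
  · intro g hg w hw
    have h1 : ((e g : H) : L) ≠ 1 := by
      intro h
      apply hg
      have : e g = 1 := Subtype.ext h
      rwa [← map_one e, e.injective.eq_iff] at this
    have h2 := hfp (e g) (e g).2 h1
    have h3 : (w : L) ∈ N ⊓ Subgroup.centralizer {((e g : H) : L)} := by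
      refine ⟨w.2.1, ?_⟩
      show (w : L) ∈ Subgroup.centralizer {((e g : H) : L)}
      rw [Subgroup.mem_centralizer_iff]
      intro h hh
      rw [Set.mem_singleton_iff] at hh
      subst hh
      have h4 := hφ g w
      rw [hw] at h4
      calc ((e g : H) : L) * w = ((e g : H) : L) * w * ((e g : H) : L)⁻¹ * ((e g : H) : L) := by
            group
        _ = w * ((e g : H) : L) := by rw [← h4]
    rw [h2, Subgroup.mem_bot] at h3
    exact Subtype.ext h3

end Cfsg.Agent.Lib.Helper22.ZFormI
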