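import Mathlib
import Cfsg.Agent.S3359
import Cfsg.Agent.S4214

set_option autoImplicit false

namespace Cfsg.Agent.Lib.Helper22.SotFrobC

open Cfsg

universe u

theorem sl25_filter_card :
    (Finset.univ.filter (fun x : Matrix.SpecialLinearGroup (Fin 2) (ZMod 5) =>
      x ^ 5 = 1 ∧ x ≠ 1)).card = 24 := by
  decide +kernel

theorem sl25_card_order5 :
    Nat.card {y : Matrix.SpecialLinearGroup (Fin 2) (ZMod 5) // orderOf y = 5} = 24 := by
  classical
  haveI : Fact (Nat.Prime 5) := ⟨by norm_num⟩
  rw [Nat.card_eq_fintype_card, Fintype.card_subtype, ← sl25_filter_card]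
  congr 1
  apply Finset.filter_congr
  intro x _
  exact orderOf_eq_prime_iff

theorem sl25_card : Nat.card (Matrix.SpecialLinearGroup (Fin 2) (ZMod 5)) = 120 := by
  rw [Nat.card_eq_fintype_card]
  decide +kernel

theorem orderOf_eq_of_mem_card_prime {X : Type u} [Group X] [Finite X] (p : ℕ) [hp : Fact p.Prime]
    (H : Subgroup X) (hH : Nat.card H = p) {y : X} (hy : y ∈ H) (hy1 : y ≠ 1) :
    orderOf y = p ∧ Subgroup.zpowers y = H := by
  have h1 : orderOf y ∣ p := by
    rw [← hH]; exact Subgroup.orderOf_dvd_natCard H hy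
  have h2 : orderOf y = p := by
    rcases (Nat.dvd_prime hp.out).mp h1 with h | h
    · exact absurd (orderOf_eq_one_iff.mp h) hy1
    · exact h
  refine ⟨h2, ?_⟩
  have hle : Subgroup.zpowers y ≤ H := by
    rw [Subgroup.zpowers_le]; exact hy
  apply Subgroup.eq_of_le_of_card_ge hle
  rw [Nat.card_zpowers, hH, h2]

/-- elements of prime order versus subgroups of prime order -/
theorem card_orderOf_prime {X : Type u} [Group X] [Finite X] (p : ℕ) [hp : Fact p.Prime] :
    Nat.card {x : X // orderOf x = p} = Nat.card {H : Subgroup X // Nat.card H = p} * (p - 1) := by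
  classical
  haveI : Fintype {H : Subgroup X // Nat.card H = p} := Fintype.ofFinite _
  let f : {x : X // orderOf x = p} → {H : Subgroup X // Nat.card H = p} :=
    fun x => ⟨Subgroup.zpowers x.1, by rw [Nat.card_zpowers, x.2]⟩
  rw [Nat.card_congr (Equiv.sigmaFiberEquiv f).symm, Nat.card_sigma]
  have hfib : ∀ H : {H : Subgroup X // Nat.card H = p},
      Nat.card {x : {x : X // orderOf x = p} // f x = H} = p - 1 := by
    rintro ⟨H, hH⟩
    have e : {x : {x : X // orderOf x = p} // f x = ⟨H, hH⟩} ≃ {y : H // y ≠ 1} :=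
      { toFun := fun x => ⟨⟨x.1.1, by
            have h1 : Subgroup.zpowers x.1.1 = H := congrArg Subtype.val x.2
            have h2 := Subgroup.mem_zpowers x.1.1
            rwa [h1] at h2⟩, by
            intro h
            have h2 : x.1.1 = 1 := congrArg Subtype.val h
            have h3 := x.1.2
            rw [h2, orderOf_one] at h3
            exact hp.out.one_lt.ne h3⟩
        invFun := fun y => ⟨⟨y.1.1, (orderOf_eq_of_mem_card_prime p H hH y.1.2
              (fun h => y.2 (Subtype.ext h))).1⟩, by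
            apply Subtype.ext
            exact (orderOf_eq_of_mem_card_prime p H hH y.1.2
              (fun h => y.2 (Subtype.ext h))).2⟩
        left_inv := fun x => rfl
        right_inv := fun y => rfl }
    rw [Nat.card_congr e]
    have h1 : Nat.card {y : H // y ≠ 1} = Nat.card H - 1 := by
      haveI : Fintype H := Fintype.ofFinite _
      rw [Nat.card_eq_fintype_card, Nat.card_eq_fintype_card, Fintype.card_subtype_compl,
        Fintype.card_subtype_eq]
    rw [h1, hH]
  rw [Finset.sum_congr rfl (fun H _ => hfib H), Finset.sum_const, Finset.card_univ,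
    smul_eq_mul, Nat.card_eq_fintype_card]

/-- a solvable group with Sylow 5-subgroups of order 5 does not have 24 elements of order 5 -/
theorem not_solvable_of_card_order5 {X : Type u} [Group X] [Finite X] (n : ℕ)
    (hX : Nat.card X = 5 * n) (hn : Nat.Coprime 5 n)
    (h24 : Nat.card {x : X // orderOf x = 5} = 24) : ¬ Group.IsSolvable X := by
  intro hsol
  haveI := hsol
  haveI : Fact (Nat.Prime 5) := ⟨by norm_num⟩
  have h1 := card_orderOf_prime (X := X) 5
  rw [h24] at h1
  have h6 : Nat.card {H : Subgroup X // Nat.card H = 5} = 6 := by omega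
  obtain ⟨k, f, hprod, hf⟩ := Cfsg.Agent.S4214.result (G := X) 5 n hX hn
  rw [h6] at hprod
  have hone : ∀ i, f i = 1 := by
    intro i
    obtain ⟨⟨q, e, hq, hqe⟩, -, ⟨r, hr, hr5, hmod⟩⟩ := hf i
    have hdvd : f i ∣ 6 := by
      rw [hprod]
      exact Finset.dvd_prod_of_mem f (Finset.mem_univ i)
    have hr5' : r = 5 := (Nat.prime_dvd_prime_iff_eq hr (by norm_num)).mp hr5
    subst hr5'
    have hle : f i ≤ 6 := Nat.le_of_dvd (by norm_num) hdvd
    have hmod' : f i % 5 = 1 := by
      have := hmod
      unfold Nat.ModEq at this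
      simpa using this
    have hcases : f i = 1 ∨ f i = 6 := by omega
    rcases hcases with h | h
    · exact h
    · exfalso
      rw [h] at hqe
      have h2 : 2 ∣ q ^ e := by rw [← hqe]; norm_num
      have h3 : 3 ∣ q ^ e := by rw [← hqe]; norm_num
      have e2 := (Nat.prime_dvd_prime_iff_eq Nat.prime_two hq).mp (Nat.prime_two.dvd_of_dvd_pow h2)
      have e3 := (Nat.prime_dvd_prime_iff_eq Nat.prime_three hq).mp (Nat.prime_three.dvd_of_dvd_pow h3)
      omega
  rw [Finset.prod_congr rfl (fun i _ => hone i)] at hprod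
  simp at hprod

/-- a non-solvable Frobenius complement has exactly 24 elements of order 5 and a Sylow
5-subgroup of order 5 -/
theorem nonsolvable_complement_data {C : Type u} [Group C] [Finite C]
    (hns : ¬ Group.IsSolvable C)
    (hFC : ∃ (L : Type) (_ : Group L) (_ : Finite L) (H : Subgroup L),
      Cfsg.IsFrobeniusComplement H ∧ Nonempty (C ≃* H)) :
    Nat.card {y : C // orderOf y = 5} = 24 ∧ ∃ n : ℕ, Nat.card C = 5 * n ∧ Nat.Coprime 5 n := by
  obtain ⟨G₀, hG₀n, hidx, S, M, hsup, hinf, hcomm, ⟨e⟩, -, hM⟩ := Cfsg.Agent.S3359.result hns hFC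
  haveI : Fact (Nat.Prime 5) := ⟨by norm_num⟩
  have hcomm' : ∀ (s : S) (m : M), Commute (S.subtype s) (M.subtype m) :=
    fun s m => hcomm s.1 s.2 m.1 m.2
  let φ : S × M →* C := MonoidHom.noncommCoprod S.subtype M.subtype hcomm'
  have hφinj : Function.Injective φ := by
    rw [MonoidHom.noncommCoprod_injective]
    refine ⟨Subgroup.subtype_injective S, Subgroup.subtype_injective M, ?_⟩
    rw [Subgroup.range_subtype, Subgroup.range_subtype, disjoint_iff, hinf]
  have hφrange : φ.range = G₀ := by
    rw [MonoidHom.noncommCoprod_range, Subgroup.range_subtype, Subgroup.range_subtype, hsup]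
  have hM5 : Nat.Coprime (Nat.card M) 5 := Nat.Coprime.coprime_dvd_right (by norm_num) hM
  have hScard : Nat.card S = 120 := by
    rw [Nat.card_congr e.toEquiv, sl25_card]
  have hG₀card : Nat.card G₀ = 120 * Nat.card M := by
    rw [← hφrange, ← Nat.card_congr (MonoidHom.ofInjective hφinj).toEquiv, Nat.card_prod, hScard]
  -- elements of order 5 lie in G₀
  have hmem : ∀ x : C, orderOf x = 5 → x ∈ G₀ := by
    intro x hx
    rcases hidx with h1 | h2
    · rw [Subgroup.index_eq_one.mp h1]; exact Subgroup.mem_top x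
    · have h3 := Subgroup.mul_self_mem_of_index_two h2 x
      have h5 : x ^ 5 = 1 := by rw [← hx]; exact pow_orderOf_eq_one x
      have h6 : (x * x) ^ 3 = x := by
        rw [← pow_two, ← pow_mul]
        show x ^ (5 + 1) = x
        rw [pow_succ, h5, one_mul]
      rw [← h6]
      exact G₀.pow_mem h3 3
  -- the order of φ (s, m)
  have hiff : ∀ p : S × M, orderOf (φ p) = 5 ↔ orderOf p.1 = 5 ∧ p.2 = 1 := by
    intro p
    rw [orderOf_injective φ hφinj p, Prod.orderOf]
    have hd : orderOf p.2 ∣ Nat.card M := orderOf_dvd_natCard p.2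
    constructor
    · intro h
      have h1 : orderOf p.2 ∣ 5 := by rw [← h]; exact Nat.dvd_lcm_right _ _
      have h2 : orderOf p.2 = 1 :=
        Nat.Coprime.eq_one_of_dvd (Nat.Coprime.coprime_dvd_left hd hM5) h1
      rw [h2, Nat.lcm_one_right] at h
      exact ⟨h, orderOf_eq_one_iff.mp h2⟩
    · rintro ⟨h1, h2⟩
      rw [h1, h2, orderOf_one, Nat.lcm_one_right]
  have e1 : {p : S × M // orderOf (φ p) = 5} ≃ {x : C // orderOf x = 5} :=
    Equiv.ofBijective (fun p => ⟨φ p.1, p.2⟩) (by
      constructor
      · intro p q hpq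
        apply Subtype.ext
        apply hφinj
        exact congrArg Subtype.val hpq
      · rintro ⟨x, hx⟩
        have hx' : x ∈ φ.range := by rw [hφrange]; exact hmem x hx
        obtain ⟨p, rfl⟩ := hx'
        exact ⟨⟨p, hx⟩, rfl⟩)
  have e2 : {p : S × M // orderOf (φ p) = 5} ≃ {p : S × M // orderOf p.1 = 5 ∧ p.2 = 1} :=
    Equiv.subtypeEquivRight hiff
  have e3 : {p : S × M // orderOf p.1 = 5 ∧ p.2 = 1} ≃ {s : S // orderOf s = 5} :=
    { toFun := fun p => ⟨p.1.1, p.2.1⟩
      invFun := fun s => ⟨(s.1, 1), ⟨s.2, rfl⟩⟩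
      left_inv := by
        rintro ⟨⟨s, m⟩, h1, h2⟩
        simp only at h2
        subst h2
        rfl
      right_inv := fun s => rfl }
  have e4 : {s : S // orderOf s = 5} ≃
      {y : Matrix.SpecialLinearGroup (Fin 2) (ZMod 5) // orderOf y = 5} :=
    Equiv.subtypeEquiv e.toEquiv (fun s => by
      show orderOf s = 5 ↔ orderOf (e s) = 5
      rw [MulEquiv.orderOf_eq])
  refine ⟨?_, ?_⟩
  · rw [← Nat.card_congr e1, Nat.card_congr e2, Nat.card_congr e3, Nat.card_congr e4,
      sl25_card_order5]
  · refine ⟨G₀.index * 24 * Nat.card M, ?_, ?_⟩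
    · rw [← Subgroup.index_mul_card G₀, hG₀card]; ring
    · apply Nat.Coprime.mul_right
      · apply Nat.Coprime.mul_right
        · rcases hidx with h | h <;> rw [h] <;> norm_num
        · norm_num
      · exact hM5.symm

end Cfsg.Agent.Lib.Helper22.SotFrobC
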