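import Mathlib
import Cfsg.Agent.Lib.Helper22.SotFrobB
import Cfsg.Agent.Lib.Helper22.SotFrobC
import Cfsg.Agent.Lib.helper23.FrobSemi
import Cfsg.Agent.S0042

set_option autoImplicit false

namespace Cfsg.Agent.Lib.Helper22.SotFrobD

open Cfsg Cfsg.Agent.Lib.Helper22.SotFrobA Cfsg.Agent.Lib.Helper22.SotFrobB
  Cfsg.Agent.Lib.Helper22.SotFrobC

universe u v

/-- a group with a solvable normal subgroup and a solvable complement is solvable -/
theorem solvable_of_complement {X : Type u} [Group X] (N H : Subgroup X) [N.Normal]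
    (hc : Subgroup.IsComplement' N H) (hN : Group.IsSolvable N) (hH : Group.IsSolvable H) :
    Group.IsSolvable X := by
  have h1 : Group.IsSolvable ↥(N ⊔ H) := Cfsg.Agent.Lib.Helper22.SolvRad.solvable_sup N H hN hH
  rw [hc.sup_eq_top] at h1
  exact Group.isSolvable_of_surjective (f := (Subgroup.topEquiv : (⊤ : Subgroup X) ≃* X).toMonoidHom)
    (Subgroup.topEquiv : (⊤ : Subgroup X) ≃* X).surjective

/-- non-solvability of the complement is visible in the order type -/
theorem transfer {X₁ : Type u} {X₂ : Type v} [Group X₁] [Finite X₁] [Group X₂] [Finite X₂]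
    (C₁ : Subgroup X₁) (C₂ : Subgroup X₂) (hC₁ : Cfsg.IsFrobeniusComplement C₁)
    (hC₂ : Cfsg.IsFrobeniusComplement C₂)
    (hT : ∀ m : ℕ, Nat.card {g : X₁ // orderOf g = m} = Nat.card {h : X₂ // orderOf h = m})
    (hcard : Nat.card C₁ = Nat.card C₂) (hns : ¬ Group.IsSolvable C₁) :
    ¬ Group.IsSolvable C₂ := by
  obtain ⟨K₁, hK₁', hK₁n, hc₁⟩ := Cfsg.Agent.Lib.Helper1.frobenius_theorem C₁ hC₁
  obtain ⟨K₂, hK₂', hK₂n, hc₂⟩ := Cfsg.Agent.Lib.Helper1.frobenius_theorem C₂ hC₂
  have hK₁ := hK₁'.symm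
  have hK₂ := hK₂'.symm
  obtain ⟨h24, n, hn, hcop⟩ := nonsolvable_complement_data hns
    (Cfsg.Agent.Lib.helper23.exists_frobenius_type_zero C₁ hC₁)
  have hXX : Nat.card X₁ = Nat.card X₂ :=
    Cfsg.Agent.Lib.Helper22.OrdTypeA.card_eq_of_same hT
  have hKK : Nat.card K₁ = Nat.card K₂ := by
    have h1 := hc₁.card_mul_card
    have h2 := hc₂.card_mul_card
    rw [← hXX, ← h1, ← hcard] at h2
    exact (Nat.eq_of_mul_eq_mul_right Nat.card_pos h2).symm
  have hcop₁ := Cfsg.Agent.Lib.Helper22.FrobKernel.coprime K₁ C₁ hC₁ hK₁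
  have h5K₁ : Nat.Coprime 5 (Nat.card K₁) := by
    apply Nat.Coprime.symm
    apply Nat.Coprime.coprime_dvd_right _ hcop₁
    rw [hn]; exact Dvd.intro _ rfl
  have h5K₂ : Nat.Coprime 5 (Nat.card K₂) := by rw [← hKK]; exact h5K₁
  have e1 := card_orderOf_eq K₁ C₁ hC₁ hK₁ h5K₁ (by norm_num)
  have e2 := card_orderOf_eq K₂ C₂ hC₂ hK₂ h5K₂ (by norm_num)
  rw [hT 5, e2, h24, ← hKK] at e1
  have h24' : Nat.card {y : C₂ // orderOf y = 5} = 24 :=
    Nat.eq_of_mul_eq_mul_left Nat.card_pos e1
  exact not_solvable_of_card_order5 n (by rw [← hcard, hn]) hcop h24'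

/-- Thompson's problem for Frobenius groups -/
theorem main {F : Type u} {G : Type v} [Group F] [Finite F] [Group G] [Finite G]
    (C : Subgroup F) (hC : Cfsg.IsFrobeniusComplement C)
    (hT : ∀ m : ℕ, Nat.card {g : F // orderOf g = m} = Nat.card {h : G // orderOf h = m}) :
    (∃ C' : Subgroup G, Cfsg.IsFrobeniusComplement C') ∧
      (Group.IsSolvable G ↔ Group.IsSolvable F) := by
  classical
  obtain ⟨K, hK', hKn, hc⟩ := Cfsg.Agent.Lib.Helper1.frobenius_theorem C hC
  have hK := hK'.symm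
  have hnil : Group.IsNilpotent K := by
    obtain ⟨K₀, hK₀, -, hnil₀⟩ := Cfsg.Agent.S0042.result C hC
    have : K₀ = K := SetLike.coe_injective (hK₀.trans hK)
    rw [← this]; exact hnil₀
  set k := Nat.card K with hk
  set c := Nat.card C with hcdef
  have hcop : Nat.Coprime k c := Cfsg.Agent.Lib.Helper22.FrobKernel.coprime K C hC hK
  have hkc : k * c = Nat.card F := hc.card_mul_card
  have hFG : Nat.card F = Nat.card G := Cfsg.Agent.Lib.Helper22.OrdTypeA.card_eq_of_same hT
  have hk0 : k ≠ 0 := Nat.card_pos.ne'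
  have hc0 : c ≠ 0 := Nat.card_pos.ne'
  have hk1 : k ≠ 1 := by
    intro h
    exact Cfsg.Agent.Lib.Helper22.FrobKernel.kernel_ne_bot K C hC hK (Subgroup.card_eq_one.mp h)
  have hc1 : c ≠ 1 := by
    intro h
    exact hC.1 (Subgroup.card_eq_one.mp h)
  -- factorization of |G| at primes dividing k
  have hfac : ∀ p ∈ k.primeFactors, (Nat.card G).factorization p = k.factorization p := by
    intro p hp
    have hpp := Nat.prime_of_mem_primeFactors hp
    have hpk := Nat.dvd_of_mem_primeFactors hp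
    have hpc : ¬ p ∣ c := by
      intro h
      have := Nat.dvd_gcd hpk h
      rw [hcop] at this
      exact hpp.one_lt.ne' (Nat.dvd_one.mp this)
    rw [← hFG, ← hkc, Nat.factorization_mul hk0 hc0, Finsupp.add_apply,
      Nat.factorization_eq_zero_of_not_dvd hpc, add_zero]
  -- normal Sylow subgroups of G
  have hs : ∀ p ∈ k.primeFactors, p.Prime ∧ ∃ P : Subgroup G, P.Normal ∧
      Nat.card P = p ^ (Nat.card G).factorization p := by
    intro p hp
    have hpp := Nat.prime_of_mem_primeFactors hp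
    have hpk := Nat.dvd_of_mem_primeFactors hp
    haveI : Fact p.Prime := ⟨hpp⟩
    refine ⟨hpp, ?_⟩
    have h1 := card_pelts K C hC hK hnil hpk
    have h2 := Cfsg.Agent.Lib.Helper22.OrdTypeA.card_pred_eq_of_same hT (PPow p)
    rw [h2, hFG] at h1
    let P : Sylow p G := default
    exact ⟨P, sylow_normal_of_card_pelts h1 P, Sylow.card_eq_multiplicity P⟩
  obtain ⟨N, hNn, hNs, hNc⟩ := exists_normal_of_normal_sylows k.primeFactors hs
  have hNk : Nat.card N = k := by
    rw [hNc, Finset.prod_congr rfl (fun p hp => by rw [hfac p hp]),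
      ← Nat.prod_factorization_eq_prod_primeFactors (fun p e => p ^ e)]
    exact Nat.prod_factorization_pow_eq_self hk0
  have hNidx : N.index = c := by
    have h1 := Subgroup.card_mul_index N
    rw [hNk, ← hFG, ← hkc] at h1
    exact Nat.eq_of_mul_eq_mul_left (Nat.pos_of_ne_zero hk0) h1
  obtain ⟨H', hc'⟩ := Subgroup.exists_right_complement'_of_coprime (N := N)
    (by rw [hNk, hNidx]; exact hcop)
  have hH'c : Nat.card H' = c := by
    have h1 := hc'.card_mul_card
    rw [hNk, ← hFG, ← hkc] at h1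
    exact Nat.eq_of_mul_eq_mul_left (Nat.pos_of_ne_zero hk0) h1
  have hNbot : N ≠ ⊥ := by
    intro h
    rw [h, Subgroup.card_bot] at hNk
    exact hk1 hNk.symm
  have hH'bot : H' ≠ ⊥ := by
    intro h
    rw [h, Subgroup.card_bot] at hH'c
    exact hc1 hH'c.symm
  -- element orders of G
  have horders : ∀ y : G, orderOf y ∣ k ∨ orderOf y ∣ c := by
    intro y
    have h1 : Nat.card {h : G // orderOf h = orderOf y} ≠ 0 := by
      haveI : Nonempty {h : G // orderOf h = orderOf y} := ⟨⟨y, rfl⟩⟩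
      exact Nat.card_pos.ne'
    rw [← hT] at h1
    have h2 : Nonempty {g : F // orderOf g = orderOf y} := by
      by_contra hne
      rw [not_nonempty_iff] at hne
      exact h1 Nat.card_of_isEmpty
    obtain ⟨⟨x, hx⟩⟩ := h2
    rw [← hx]
    exact orderOf_dvd_or K C hK x
  have hfpf : ∀ h ∈ H', h ≠ 1 → N ⊓ Subgroup.centralizer {h} = ⊥ := by
    intro h hh hh1
    rw [eq_bot_iff]
    rintro n ⟨hnN, hnc⟩
    rw [Subgroup.mem_bot]
    by_contra hn1
    have hcomm : Commute h n := by
      have := Subgroup.mem_centralizer_iff.mp hnc h (Set.mem_singleton h)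
      exact this
    have hoh : orderOf h ∣ c := by rw [← hH'c]; exact Subgroup.orderOf_dvd_natCard H' hh
    have hon : orderOf n ∣ k := by rw [← hNk]; exact Subgroup.orderOf_dvd_natCard N hnN
    have hco : Nat.Coprime (orderOf h) (orderOf n) :=
      Nat.Coprime.coprime_dvd_left hoh (Nat.Coprime.coprime_dvd_right hon hcop.symm)
    have hmul := hcomm.orderOf_mul_eq_mul_orderOf_of_coprime hco
    rcases horders (h * n) with hd | hd
    · rw [hmul] at hd
      have h1 : orderOf h ∣ k := (Dvd.intro _ rfl).trans hd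
      have h2 : orderOf h = 1 :=
        Nat.eq_one_of_dvd_coprimes hcop h1 hoh
      exact hh1 (orderOf_eq_one_iff.mp h2)
    · rw [hmul] at hd
      have h1 : orderOf n ∣ c := (Dvd.intro_left _ rfl).trans hd
      have h2 : orderOf n = 1 :=
        Nat.eq_one_of_dvd_coprimes hcop hon h1
      exact hn1 (orderOf_eq_one_iff.mp h2)
  have hFC' : Cfsg.IsFrobeniusComplement H' :=
    (Cfsg.Agent.S0039.result N H' hc' hNbot hH'bot).mpr hfpf
  refine ⟨⟨H', hFC'⟩, ?_⟩
  have hKs : Group.IsSolvable K := by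
    haveI := hnil
    infer_instance
  have hcard : Nat.card C = Nat.card H' := hH'c.symm
  constructor
  · intro hG
    by_contra hF
    have hCns : ¬ Group.IsSolvable C := fun h => hF (solvable_of_complement K C hc hKs h)
    have hns2 := transfer C H' hC hFC' hT hcard hCns
    haveI := hG
    exact hns2 inferInstance
  · intro hF
    by_contra hG
    have hHns : ¬ Group.IsSolvable H' := fun h => hG (solvable_of_complement N H' hc' hNs h)
    have hns2 := transfer H' C hFC' hC (fun m => (hT m).symm) hcard.symm hHns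
    haveI := hF
    exact hns2 inferInstance

end Cfsg.Agent.Lib.Helper22.SotFrobD
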