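import Mathlib

set_option autoImplicit false

/-!
# Wreath product matrices preserving a bilinear form; symplectic reindexing
-/

namespace Cfsg.Agent.Lib.Helper22.SpDLA

open Matrix

section general

variable {F : Type*} [CommRing F]

/-- Reindexing preserves invariance of a form. -/
theorem submatrix_invariant {m n : Type*} [Fintype m] [Fintype n] [DecidableEq m] [DecidableEq n]
    (e : n ≃ m) (M Ω : Matrix m m F) (h : M * Ω * Mᵀ = Ω) :
    (M.submatrix e e) * (Ω.submatrix e e) * (M.submatrix e e)ᵀ = Ω.submatrix e e := by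
  rw [Matrix.transpose_submatrix, Matrix.submatrix_mul_equiv, Matrix.submatrix_mul_equiv, h]

variable {D : Type*} [Group D] {C : Type*} [Group C] [Fintype C] [DecidableEq C]
variable {ι : Type*} [Fintype ι] [DecidableEq ι]

/-- The block-monomial matrix attached to an element of the wreath product. -/
def wrMat (φ : D →* Matrix ι ι F) (w : D ≀ᵣ C) : Matrix (ι × C) (ι × C) F :=
  fun x y => if y.2 = w.right⁻¹ * x.2 then φ (w.left x.2) x.1 y.1 else 0

omit [Fintype C] in
theorem wrMat_apply (φ : D →* Matrix ι ι F) (w : D ≀ᵣ C) (x y : ι × C) :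
    wrMat φ w x y = if y.2 = w.right⁻¹ * x.2 then φ (w.left x.2) x.1 y.1 else 0 := rfl

omit [Fintype C] in
theorem wrMat_one (φ : D →* Matrix ι ι F) : wrMat φ (1 : D ≀ᵣ C) = 1 := by
  ext ⟨i, c⟩ ⟨j, d⟩
  rw [wrMat_apply]
  simp only [RegularWreathProduct.one_right, inv_one, one_mul, RegularWreathProduct.one_left,
    Pi.one_apply, map_one, Matrix.one_apply, Prod.mk.injEq]
  by_cases h1 : d = c
  · subst h1
    by_cases h2 : i = j
    · simp [h2]
    · simp [h2]
  · have h1' : ¬ c = d := fun h => h1 h.symm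
    simp [h1, h1']

theorem wrMat_mul (φ : D →* Matrix ι ι F) (a b : D ≀ᵣ C) :
    wrMat φ (a * b) = wrMat φ a * wrMat φ b := by
  ext ⟨i, c⟩ ⟨k, d⟩
  rw [Matrix.mul_apply, Fintype.sum_prod_type]
  have hkey : (a.right * b.right)⁻¹ * c = b.right⁻¹ * (a.right⁻¹ * c) := by group
  simp only [wrMat_apply, RegularWreathProduct.mul_right, RegularWreathProduct.mul_left,
    Pi.mul_apply, map_mul, hkey]
  rw [Finset.sum_comm]
  rw [Finset.sum_eq_single (a.right⁻¹ * c)]
  · simp only [if_true]
    by_cases h : d = b.right⁻¹ * (a.right⁻¹ * c)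
    · simp [h, Matrix.mul_apply]
    · simp [h]
  · intro c' _ hc'
    simp [hc']
  · intro h
    exact absurd (Finset.mem_univ _) h

/-- The wreath product homomorphism into matrices. -/
def wrHom (φ : D →* Matrix ι ι F) : (D ≀ᵣ C) →* Matrix (ι × C) (ι × C) F where
  toFun := wrMat φ
  map_one' := wrMat_one φ
  map_mul' := wrMat_mul φ

theorem wrHom_apply (φ : D →* Matrix ι ι F) (w : D ≀ᵣ C) : wrHom φ w = wrMat φ w := rfl

/-- The wreath matrices preserve the block diagonal form. -/
theorem wrMat_invariant (φ : D →* Matrix ι ι F) (Ω : Matrix ι ι F)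
    (h : ∀ g, φ g * Ω * (φ g)ᵀ = Ω) (w : D ≀ᵣ C) :
    wrMat φ w * blockDiagonal (fun _ : C => Ω) * (wrMat φ w)ᵀ = blockDiagonal (fun _ : C => Ω) := by
  ext ⟨i, c⟩ ⟨k, d⟩
  rw [Matrix.mul_apply, Fintype.sum_prod_type]
  simp only [Matrix.mul_apply, Fintype.sum_prod_type, Matrix.transpose_apply, wrMat_apply,
    Matrix.blockDiagonal_apply]
  have h1 := congrFun (congrFun (h (w.left c)) i) k
  rw [Matrix.mul_apply] at h1
  simp only [Matrix.mul_apply, Matrix.transpose_apply] at h1
  by_cases hcd : c = d
  · subst hcd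
    rw [if_pos rfl, ← h1]
    apply Finset.sum_congr rfl
    intro j _
    rw [Finset.sum_eq_single (w.right⁻¹ * c)]
    · simp only [if_true]
      congr 1
      apply Finset.sum_congr rfl
      intro j' _
      rw [Finset.sum_eq_single (w.right⁻¹ * c)]
      · simp
      · intro c' _ hc'
        simp [hc']
      · intro h'
        exact absurd (Finset.mem_univ _) h'
    · intro c' _ hc'
      simp [hc']
    · intro h'
      exact absurd (Finset.mem_univ _) h'
  · rw [if_neg hcd]
    apply Finset.sum_eq_zero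
    intro j _
    apply Finset.sum_eq_zero
    intro c' _
    by_cases h2 : c' = w.right⁻¹ * d
    · have h3 : ¬ (c' = w.right⁻¹ * c) := by
        intro h4
        apply hcd
        rw [h2] at h4
        exact (mul_left_cancel h4).symm
      rw [if_pos h2]
      have : (∑ x : ι, ∑ x_1 : C, (if x_1 = w.right⁻¹ * c then
          (φ (w.left c)) i x else 0) * if x_1 = c' then Ω x j else 0) = 0 := by
        apply Finset.sum_eq_zero
        intro x _
        apply Finset.sum_eq_zero
        intro x1 _
        by_cases h5 : x1 = c'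
        · rw [h5, if_neg h3, zero_mul]
        · rw [if_neg h5, mul_zero]
      rw [this, zero_mul]
    · rw [if_neg h2, mul_zero]

omit [Fintype C] in
/-- Nontriviality criterion. -/
theorem wrMat_ne_one (φ : D →* Matrix ι ι F) (w : D ≀ᵣ C) (hr : w.right = 1)
    (hl : φ (w.left 1) ≠ 1) : wrMat φ w ≠ 1 := by
  intro h
  apply hl
  ext i j
  have h1 := congrFun (congrFun h (i, 1)) (j, 1)
  rw [wrMat_apply] at h1
  simp only [hr, inv_one, one_mul, if_true] at h1
  rw [h1, Matrix.one_apply, Matrix.one_apply]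
  simp

end general

end Cfsg.Agent.Lib.Helper22.SpDLA
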