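import Mathlib
import Cfsg.Agent.Lib.Helper22.LinDLF
import Cfsg.Agent.Lib.Helper22.SpDLA

set_option autoImplicit false

/-!
# Lower bound for the derived length of Sylow 2-subgroups of symplectic groups
-/

namespace Cfsg.Agent.Lib.Helper22.SpDLB

open Matrix
open Cfsg.Agent.Lib.Helper22.SpDLA

section Jlemmas

variable {F : Type*} [CommRing F] {l : Type*} [DecidableEq l]
  {C : Type*} [DecidableEq C] {κ : Type*} [DecidableEq κ]
  {l' : Type*} [DecidableEq l']

theorem J_wreath :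
    (blockDiagonal (fun _ : C => J l F)).submatrix (Equiv.sumProdDistrib l l C).symm
      (Equiv.sumProdDistrib l l C).symm = J (l × C) F := by
  ext (⟨i, c⟩ | ⟨i, c⟩) (⟨j, d⟩ | ⟨j, d⟩) <;>
  simp [J, Matrix.blockDiagonal_apply, Matrix.one_apply, Prod.ext_iff] <;>
  split_ifs <;> simp_all

theorem J_pad :
    (fromBlocks (J l F) 0 0 (J κ F)).submatrix (Equiv.sumSumSumComm l κ l κ)
      (Equiv.sumSumSumComm l κ l κ) = J (l ⊕ κ) F := by
  ext ((i | i) | (i | i)) ((j | j) | (j | j)) <;>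
  simp [J, Matrix.one_apply]

theorem J_reindex (σ : l' ≃ l) :
    (J l F).submatrix (σ.sumCongr σ) (σ.sumCongr σ) = J l' F := by
  ext (i | i) (j | j) <;>
  simp [J, Matrix.one_apply]

end Jlemmas

universe u

/-- There is a finite 2-group with a symplectic matrix representation on `l ⊕ l` in which some
element of the `j`-th derived subgroup acts nontrivially. -/
def HasSp (F : Type u) [CommRing F] (l : Type) [Fintype l] [DecidableEq l] (j : ℕ) : Prop :=
  ∃ (Q : Type u) (_ : Group Q) (_ : Finite Q), IsPGroup 2 Q ∧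
    ∃ φ : Q →* Matrix (l ⊕ l) (l ⊕ l) F,
      (∀ g, φ g * J l F * (φ g)ᵀ = J l F) ∧ ∃ g ∈ derivedSeries Q j, φ g ≠ 1

variable {F : Type u} [CommRing F]

/-- Transport along an injective monoid homomorphism of matrix monoids preserving the
symplectic condition. -/
theorem HasSp.transport {l l' : Type} [Fintype l] [DecidableEq l] [Fintype l'] [DecidableEq l']
    {j : ℕ} (h : HasSp F l j)
    (T : Matrix (l ⊕ l) (l ⊕ l) F →* Matrix (l' ⊕ l') (l' ⊕ l') F)
    (hT : Function.Injective T)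
    (hTJ : ∀ M, M * J l F * Mᵀ = J l F → T M * J l' F * (T M)ᵀ = J l' F) :
    HasSp F l' j := by
  obtain ⟨Q, _, _, hQ, φ, hφ, g, hg, hne⟩ := h
  refine ⟨Q, inferInstance, inferInstance, hQ, T.comp φ, ?_, g, hg, ?_⟩
  · intro a
    exact hTJ _ (hφ a)
  · intro h1
    apply hne
    apply hT
    rw [map_one]
    exact h1

/-- Reindexing. -/
theorem HasSp.reindex {l l' : Type} [Fintype l] [DecidableEq l] [Fintype l'] [DecidableEq l']
    {j : ℕ} (h : HasSp F l j) (σ : l' ≃ l) : HasSp F l' j := by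
  apply h.transport
    ((Matrix.reindexAlgEquiv F F (σ.sumCongr σ).symm : _ ≃ₐ[F] _) : _ →* _)
  · exact (Matrix.reindexAlgEquiv F F (σ.sumCongr σ).symm).injective
  · intro M hM
    have h1 : ∀ N : Matrix (l ⊕ l) (l ⊕ l) F,
        ((Matrix.reindexAlgEquiv F F (σ.sumCongr σ).symm : _ ≃ₐ[F] _) : _ →* _) N
          = N.submatrix (σ.sumCongr σ) (σ.sumCongr σ) := by
      intro N
      show Matrix.reindexAlgEquiv F F (σ.sumCongr σ).symm N = _
      rw [Matrix.coe_reindexAlgEquiv, Matrix.reindex_apply, Equiv.symm_symm]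
    rw [h1]
    have := submatrix_invariant (σ.sumCongr σ) M (J l F) hM
    rwa [J_reindex] at this

/-- Padding. -/
theorem HasSp.pad {l κ : Type} [Fintype l] [DecidableEq l] [Fintype κ] [DecidableEq κ]
    {j : ℕ} (h : HasSp F l j) : HasSp F (l ⊕ κ) j := by
  let T0 : Matrix (l ⊕ l) (l ⊕ l) F →* Matrix ((l ⊕ l) ⊕ (κ ⊕ κ)) ((l ⊕ l) ⊕ (κ ⊕ κ)) F :=
    { toFun := fun M => fromBlocks M 0 0 1
      map_one' := Matrix.fromBlocks_one
      map_mul' := by
        intro A B
        rw [Matrix.fromBlocks_multiply]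
        simp }
  have hT0 : ∀ M, T0 M = fromBlocks M 0 0 1 := fun M => rfl
  let R : Matrix ((l ⊕ l) ⊕ (κ ⊕ κ)) ((l ⊕ l) ⊕ (κ ⊕ κ)) F →*
      Matrix ((l ⊕ κ) ⊕ (l ⊕ κ)) ((l ⊕ κ) ⊕ (l ⊕ κ)) F :=
    ((Matrix.reindexAlgEquiv F F (Equiv.sumSumSumComm l κ l κ).symm : _ ≃ₐ[F] _) : _ →* _)
  have hR : ∀ N, R N = N.submatrix (Equiv.sumSumSumComm l κ l κ) (Equiv.sumSumSumComm l κ l κ) := by
    intro N
    show Matrix.reindexAlgEquiv F F (Equiv.sumSumSumComm l κ l κ).symm N = _
    rw [Matrix.coe_reindexAlgEquiv, Matrix.reindex_apply, Equiv.symm_symm]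
  apply h.transport (R.comp T0)
  · intro A B hAB
    have h1 : T0 A = T0 B :=
      (Matrix.reindexAlgEquiv F F (Equiv.sumSumSumComm l κ l κ).symm).injective hAB
    rw [hT0, hT0] at h1
    exact (Matrix.fromBlocks_inj.mp h1).1
  · intro M hM
    rw [MonoidHom.comp_apply, hR, hT0]
    have h2 : fromBlocks M 0 0 (1 : Matrix (κ ⊕ κ) (κ ⊕ κ) F) * fromBlocks (J l F) 0 0 (J κ F) *
        (fromBlocks M 0 0 (1 : Matrix (κ ⊕ κ) (κ ⊕ κ) F))ᵀ = fromBlocks (J l F) 0 0 (J κ F) := by
      rw [Matrix.fromBlocks_transpose, Matrix.fromBlocks_multiply, Matrix.fromBlocks_multiply]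
      simp [hM]
    have := submatrix_invariant (Equiv.sumSumSumComm l κ l κ) _ _ h2
    rwa [J_pad] at this

/-- The wreath step. -/
theorem HasSp.wreath {l : Type} [Fintype l] [DecidableEq l] {j : ℕ} (h : HasSp F l j) :
    HasSp F (l × Multiplicative (ZMod 2)) (j + 1) := by
  classical
  obtain ⟨Q, _, _, hQ, φ, hφ, g, hg, hne⟩ := h
  let C := Multiplicative (ZMod 2)
  have hCcard : Nat.card C = 2 := by
    show Nat.card (Multiplicative (ZMod 2)) = 2
    rw [Nat.card_eq_fintype_card, Fintype.card_multiplicative, ZMod.card]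
  obtain ⟨c, hc⟩ : ∃ c : C, c ≠ 1 := by
    refine ⟨Multiplicative.ofAdd (1 : ZMod 2), ?_⟩
    intro h
    have := congrArg Multiplicative.toAdd h
    simp at this
  let R : Matrix ((l ⊕ l) × C) ((l ⊕ l) × C) F →*
      Matrix (l × C ⊕ l × C) (l × C ⊕ l × C) F :=
    ((Matrix.reindexAlgEquiv F F (Equiv.sumProdDistrib l l C) : _ ≃ₐ[F] _) : _ →* _)
  have hR : ∀ N, R N = N.submatrix (Equiv.sumProdDistrib l l C).symm
      (Equiv.sumProdDistrib l l C).symm := by
    intro N
    show Matrix.reindexAlgEquiv F F (Equiv.sumProdDistrib l l C) N = _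
    rw [Matrix.coe_reindexAlgEquiv, Matrix.reindex_apply]
  have hRinj : Function.Injective R :=
    (Matrix.reindexAlgEquiv F F (Equiv.sumProdDistrib l l C)).injective
  obtain ⟨w, hw, hwg⟩ := LinDLF.derivedSeries_le_map_ev (D := Q) c hc j hg
  rw [SetLike.mem_coe, Subgroup.mem_subgroupOf] at hw
  rw [LinDLF.ev_apply] at hwg
  refine ⟨Q ≀ᵣ C, inferInstance, inferInstance, ?_, R.comp (wrHom φ), ?_, w.1, hw, ?_⟩
  · obtain ⟨a, ha⟩ := IsPGroup.iff_card.mp hQ
    apply IsPGroup.of_card (n := a * 2 + 1)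
    rw [RegularWreathProduct.card, hCcard, ha, ← pow_mul, pow_succ]
  · intro a
    rw [MonoidHom.comp_apply, hR, wrHom_apply]
    have h2 := wrMat_invariant (C := C) φ (J l F) hφ a
    have := submatrix_invariant (Equiv.sumProdDistrib l l C).symm _ _ h2
    rwa [J_wreath] at this
  · intro h1
    have h2 : wrHom φ w.1 = 1 := by
      apply hRinj
      rw [map_one]
      exact h1
    rw [wrHom_apply] at h2
    refine wrMat_ne_one φ w.1 w.2 ?_ h2
    rw [hwg]
    exact hne

/-- The doubling step on `Fin`. -/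
theorem HasSp.fin_step {m j : ℕ} (h : HasSp F (Fin m) j) : HasSp F (Fin (2 * m)) (j + 1) := by
  have h1 := h.wreath
  have hcard : Fintype.card (Fin (2 * m)) = Fintype.card (Fin m × Multiplicative (ZMod 2)) := by
    rw [Fintype.card_prod, Fintype.card_fin, Fintype.card_fin, Fintype.card_multiplicative,
      ZMod.card, mul_comm]
  exact h1.reindex (Fintype.equivOfCardEq hcard)

/-- Padding on `Fin`. -/
theorem HasSp.fin_pad {m j : ℕ} (h : HasSp F (Fin m) j) (n : ℕ) (hmn : m ≤ n) :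
    HasSp F (Fin n) j := by
  have h1 : HasSp F (Fin m ⊕ Fin (n - m)) j := h.pad
  have hcard : Fintype.card (Fin n) = Fintype.card (Fin m ⊕ Fin (n - m)) := by
    rw [Fintype.card_sum, Fintype.card_fin, Fintype.card_fin, Fintype.card_fin]
    omega
  exact h1.reindex (Fintype.equivOfCardEq hcard)

theorem HasSp.iter (h : HasSp F (Fin 1) 1) (i : ℕ) : HasSp F (Fin (2 ^ i)) (i + 1) := by
  induction i with
  | zero => simpa using h
  | succ i ih =>
    have := ih.fin_step
    rwa [← pow_succ'] at this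

end Cfsg.Agent.Lib.Helper22.SpDLB
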