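import Mathlib
import Cfsg.Agent.Lib.Helper22.SpDLB

set_option autoImplicit false

/-!
# Base case: a quaternion group inside `Sp₂(F)`, and the final assembly
-/

namespace Cfsg.Agent.Lib.Helper22.SpDLC

open Matrix
open scoped commutatorElement
open Cfsg.Agent.Lib.Helper22.SpDLB

universe u

section base

variable {F : Type u} [Field F]

/-- The matrix `[[a, b], [b, -a]]` in block form. -/
def Im (a b : F) : Matrix (Fin 1 ⊕ Fin 1) (Fin 1 ⊕ Fin 1) F :=
  fromBlocks (Matrix.of fun _ _ => a) (Matrix.of fun _ _ => b) (Matrix.of fun _ _ => b)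
    (Matrix.of fun _ _ => -a)

theorem Im_mem (a b : F) (hab : a ^ 2 + b ^ 2 = -1) :
    Im a b * J (Fin 1) F * (Im a b)ᵀ = J (Fin 1) F := by
  ext (i | i) (j | j) <;>
  (obtain rfl : i = 0 := Subsingleton.elim _ _) <;>
  (obtain rfl : j = 0 := Subsingleton.elim _ _) <;>
  simp [Im, J, Matrix.mul_apply, Matrix.one_apply, Fintype.sum_sum_type] <;>
  first | linear_combination hab | linear_combination -hab | ring

theorem Im_sq (a b : F) (hab : a ^ 2 + b ^ 2 = -1) : Im a b * Im a b = -1 := by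
  ext (i | i) (j | j) <;>
  (obtain rfl : i = 0 := Subsingleton.elim _ _) <;>
  (obtain rfl : j = 0 := Subsingleton.elim _ _) <;>
  simp [Im, Matrix.mul_apply, Fintype.sum_sum_type] <;>
  first | linear_combination hab | linear_combination -hab | ring

theorem J_Im (a b : F) : J (Fin 1) F * Im a b = -(Im a b * J (Fin 1) F) := by
  ext (i | i) (j | j) <;>
  (obtain rfl : i = 0 := Subsingleton.elim _ _) <;>
  (obtain rfl : j = 0 := Subsingleton.elim _ _) <;>
  simp [Im, J, Matrix.mul_apply, Fintype.sum_sum_type]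

theorem Im_J_ne_zero (a b : F) (hab : a ^ 2 + b ^ 2 = -1) : Im a b * J (Fin 1) F ≠ 0 := by
  intro h
  have h1 : Im a b * J (Fin 1) F * (Im a b)ᵀ = 0 := by rw [h, Matrix.zero_mul]
  rw [Im_mem a b hab] at h1
  have h2 := congrFun (congrFun h1 (Sum.inr 0)) (Sum.inl 0)
  simp [J] at h2

end base

theorem HasSp_base {F : Type u} [Field F] [Finite F] (a b : F) (hab : a ^ 2 + b ^ 2 = -1)
    (h2 : (2 : F) ≠ 0) : HasSp F (Fin 1) 1 := by
  classical
  have : Fintype F := Fintype.ofFinite F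
  let G0 := ↥(symplecticGroup (Fin 1) F)
  have : Finite G0 := inferInstance
  let x : G0 := ⟨Im a b, SymplecticGroup.mem_iff.mpr (Im_mem a b hab)⟩
  let y : G0 := ⟨J (Fin 1) F, SymplecticGroup.J_mem (Fin 1) F⟩
  have hxx : x * x * (x * x) = 1 := by
    apply Subtype.ext
    show Im a b * Im a b * (Im a b * Im a b) = 1
    rw [Im_sq a b hab]
    simp
  have hyy : y * y * (y * y) = 1 := by
    apply Subtype.ext
    show J (Fin 1) F * J (Fin 1) F * (J (Fin 1) F * J (Fin 1) F) = 1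
    rw [J_squared]
    simp
  have hyx : y * x = x * x * x * y := by
    apply Subtype.ext
    show J (Fin 1) F * Im a b = Im a b * Im a b * Im a b * J (Fin 1) F
    rw [Im_sq a b hab, J_Im]
    simp
  have hx4 : x ^ 4 = 1 := by
    rw [show (4 : ℕ) = 2 + 2 from rfl, pow_add, pow_two]
    exact hxx
  have hy4 : y ^ 4 = 1 := by
    rw [show (4 : ℕ) = 2 + 2 from rfl, pow_add, pow_two]
    exact hyy
  have hconj : y * x * y⁻¹ = x ^ 3 := by
    rw [hyx, pow_succ, pow_two]
    exact mul_inv_cancel_right _ _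
  have hPx : IsPGroup 2 (Subgroup.zpowers x) := by
    intro g
    obtain ⟨g, hg⟩ := g
    obtain ⟨i, rfl⟩ := Subgroup.mem_zpowers_iff.mp hg
    refine ⟨2, ?_⟩
    apply Subtype.ext
    show (x ^ i) ^ (2 ^ 2) = 1
    rw [← zpow_natCast, ← _root_.zpow_mul, mul_comm, _root_.zpow_mul, zpow_natCast]
    norm_num
    rw [hx4, _root_.one_zpow]
  have hPy : IsPGroup 2 (Subgroup.zpowers y) := by
    intro g
    obtain ⟨g, hg⟩ := g
    obtain ⟨i, rfl⟩ := Subgroup.mem_zpowers_iff.mp hg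
    refine ⟨2, ?_⟩
    apply Subtype.ext
    show (y ^ i) ^ (2 ^ 2) = 1
    rw [← zpow_natCast, ← _root_.zpow_mul, mul_comm, _root_.zpow_mul, zpow_natCast]
    norm_num
    rw [hy4, _root_.one_zpow]
  have hnorm : Subgroup.zpowers y ≤ Subgroup.normalizer (Subgroup.zpowers x : Set G0) := by
    rw [Subgroup.zpowers_le]
    apply Subgroup.mem_normalizer_fintype
    intro n hn
    obtain ⟨i, rfl⟩ := Subgroup.mem_zpowers_iff.mp hn
    have : y * x ^ i * y⁻¹ = (y * x * y⁻¹) ^ i := by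
      rw [← MulAut.conj_apply, ← MulAut.conj_apply, map_zpow]
    rw [this, hconj]
    exact Subgroup.zpow_mem _ (Subgroup.pow_mem _ (Subgroup.mem_zpowers x) 3) i
  let Q : Subgroup G0 := Subgroup.zpowers y ⊔ Subgroup.zpowers x
  have hQ : IsPGroup 2 Q := IsPGroup.to_sup_of_normal_right' hPy hPx hnorm
  have hxQ : x ∈ Q := (le_sup_right : Subgroup.zpowers x ≤ Q) (Subgroup.mem_zpowers x)
  have hyQ : y ∈ Q := (le_sup_left : Subgroup.zpowers y ≤ Q) (Subgroup.mem_zpowers y)
  let φ : Q →* Matrix (Fin 1 ⊕ Fin 1) (Fin 1 ⊕ Fin 1) F :=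
    (symplecticGroup (Fin 1) F).subtype.comp Q.subtype
  refine ⟨Q, inferInstance, inferInstance, hQ, φ, ?_, ⁅(⟨x, hxQ⟩ : Q), (⟨y, hyQ⟩ : Q)⁆, ?_, ?_⟩
  · intro g
    exact SymplecticGroup.mem_iff.mp g.1.2
  · rw [derivedSeries_succ, derivedSeries_zero]
    exact Subgroup.commutator_mem_commutator (Subgroup.mem_top _) (Subgroup.mem_top _)
  · intro h1
    have h3 : ⁅(⟨x, hxQ⟩ : Q), (⟨y, hyQ⟩ : Q)⁆ = 1 := by
      apply Subtype.ext
      apply Subtype.ext
      exact h1
    rw [commutatorElement_eq_one_iff_mul_comm] at h3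
    have h4 : x * y = y * x := congrArg Subtype.val h3
    have h5 : Im a b * J (Fin 1) F = J (Fin 1) F * Im a b := congrArg Subtype.val h4
    rw [J_Im] at h5
    have h6 : (2 : F) • (Im a b * J (Fin 1) F) = 0 := by
      rw [two_smul]
      nth_rewrite 1 [h5]
      simp
    rcases smul_eq_zero.mp h6 with h | h
    · exact h2 h
    · exact Im_J_ne_zero a b hab h

/-- The lower bound: a 2-subgroup of `Sp_{2n}(F)` with nontrivial `k`-th derived subgroup, when
`2 ^ k ≤ 2 * n`, `k ≥ 1`. -/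
theorem exists_subgroup_sp {F : Type u} [Field F] [Fintype F] (hodd : Odd (Fintype.card F))
    (n k : ℕ) (hk : 1 ≤ k) (hkn : 2 ^ k ≤ 2 * n) :
    ∃ Q0 : Subgroup ↥(symplecticGroup (Fin n) F), IsPGroup 2 Q0 ∧ derivedSeries Q0 k ≠ ⊥ := by
  classical
  -- characteristic is not 2
  have h2 : (2 : F) ≠ 0 := by
    intro h
    have h3 : ((2 : ℕ) : F) = 0 := by exact_mod_cast h
    have := ringChar.charP F
    rw [CharP.cast_eq_zero_iff F (ringChar F)] at h3
    obtain ⟨m, hr, hcard⟩ := FiniteField.card F (ringChar F)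
    have h5 : ringChar F = 2 := (Nat.prime_dvd_prime_iff_eq hr Nat.prime_two).mp h3
    have h4 : 2 ∣ Fintype.card F := by
      rw [hcard, h5]
      exact dvd_pow_self _ m.ne_zero
    exact (Nat.not_even_iff_odd.mpr hodd) (even_iff_two_dvd.mpr h4)
  -- a, b with a² + b² = -1
  obtain ⟨a, b, hab⟩ : ∃ a b : F, a ^ 2 + b ^ 2 = -1 := by
    have := ringChar.charP F
    have hr : (ringChar F).Prime := CharP.char_is_prime F (ringChar F)
    have : NeZero (ringChar F) := ⟨hr.ne_zero⟩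
    obtain ⟨a, b, hab⟩ := CharP.sq_add_sq F (ringChar F) (-1)
    exact ⟨a, b, by simpa using hab⟩
  have hbase := HasSp_base a b hab h2
  obtain ⟨i, rfl⟩ : ∃ i, k = i + 1 := ⟨k - 1, by omega⟩
  have h1 : HasSp F (Fin (2 ^ i)) (i + 1) := hbase.iter i
  have h3 : 2 ^ i ≤ n := by
    rw [pow_succ] at hkn
    omega
  have h4 : HasSp F (Fin n) (i + 1) := h1.fin_pad n h3
  obtain ⟨Q, _, _, hQ, φ, hφ, g, hg, hne⟩ := h4
  let ψ : Q →* ↥(symplecticGroup (Fin n) F) :=
    φ.codRestrict (symplecticGroup (Fin n) F) (fun a => SymplecticGroup.mem_iff.mpr (hφ a))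
  refine ⟨ψ.range, hQ.of_surjective ψ.rangeRestrict ψ.rangeRestrict_surjective, ?_⟩
  intro hbot
  have h5 : (derivedSeries Q (i + 1)).map ψ.rangeRestrict ≤ derivedSeries ψ.range (i + 1) :=
    map_derivedSeries_le_derivedSeries ψ.rangeRestrict (i + 1)
  rw [hbot] at h5
  have h6 : ψ.rangeRestrict g = 1 := by
    have := h5 (Subgroup.mem_map_of_mem _ hg)
    exact (Subgroup.mem_bot).mp this
  have h7 : ψ g = 1 := by
    have := congrArg Subtype.val h6
    simpa using this
  apply hne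
  have := congrArg Subtype.val h7
  exact this

end Cfsg.Agent.Lib.Helper22.SpDLC
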