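import Mathlib
import Cfsg.Agent.Lib.helper7.CeA

/-!
# T2E row A1 (designer helper3): lifts of a root group with full torus action commute
Verbatim vs `Cfsg/Agent/Lib/helper3/T2E/SkelA.lean.txt` (abstract block: only Mathlib + helper7.CeA).
-/

set_option autoImplicit false

namespace Cfsg.Agent.Lib.helper3.T2E

open Cfsg.Agent.Lib.helper7.Ce Cfsg.Agent.Lib.helper15.St2

section Abstract

variable {Γ' : Type*} {G : Type*} [Group Γ'] [Group G] {σ : Γ' →* G} {F : Type*} [Field F]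

/-- the scalar `1/(1+a) - 1 - 1/a` is not zero when `a² + a + 1 ≠ 0` -/
theorem t2ea1h22_d_ne {a : F} (ha0 : a ≠ 0) (ha1 : a + 1 ≠ 0) (ha2 : a ^ 2 + a + 1 ≠ 0) :
    (1 + a)⁻¹ - (1 + a⁻¹) ≠ 0 := by
  have h1 : (1 : F) + a ≠ 0 := by rwa [add_comm]
  intro h
  apply ha2
  have e : ((1 + a)⁻¹ - (1 + a⁻¹)) * (a * (1 + a)) = -(a ^ 2 + a + 1) := by
    field_simp
    ring
  rw [h, zero_mul] at e
  have := neg_eq_zero.1 e.symm
  exact this

/-- a biadditive, diagonally invariant pairing on a field with `a² + a + 1 ≠ 0` is trivial -/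
theorem t2ea1h22_pairing (g : F → F → Γ')
    (hl : ∀ s s' t, g (s + s') t = g s t * g s' t) (hr : ∀ s t t', g s (t + t') = g s t * g s t')
    (hinv : ∀ c : F, c ≠ 0 → ∀ s t, g (c * s) (c * t) = g s t)
    (ha : ∃ a : F, a ≠ 0 ∧ a + 1 ≠ 0 ∧ a ^ 2 + a + 1 ≠ 0) : ∀ s t, g s t = 1 := by
  obtain ⟨a, ha0, ha1, ha2⟩ := ha
  have h1a : (1 : F) + a ≠ 0 := by rwa [add_comm]
  -- `g s 0 = 1`, `g s (-t) = (g s t)⁻¹`
  have hr0 : ∀ s, g s 0 = 1 := by
    intro s
    have := hr s 0 0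
    rw [add_zero] at this
    exact (mul_eq_left.1 this.symm)
  have hrneg : ∀ s t, g s (-t) = (g s t)⁻¹ := by
    intro s t
    have := hr s t (-t)
    rw [add_neg_cancel, hr0] at this
    exact eq_inv_of_mul_eq_one_right this.symm
  -- `g s t = g 1 (s⁻¹ t)` for `s ≠ 0`
  have hφ : ∀ s t, s ≠ 0 → g s t = g 1 (s⁻¹ * t) := by
    intro s t hs
    have := hinv s⁻¹ (inv_ne_zero hs) s t
    rw [inv_mul_cancel₀ hs] at this
    exact this.symm
  have key : ∀ t, g 1 (((1 + a)⁻¹ - (1 + a⁻¹)) * t) = 1 := by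
    intro t
    have e1 := hl 1 a t
    rw [hφ (1 + a) t h1a, hφ a t ha0] at e1
    have e2 : ((1 + a)⁻¹ - (1 + a⁻¹)) * t = (1 + a)⁻¹ * t + -(t + a⁻¹ * t) := by ring
    rw [e2, hr, hrneg, hr, e1]
    exact mul_inv_cancel _
  have hd := t2ea1h22_d_ne ha0 ha1 ha2
  have hone : ∀ u, g 1 u = 1 := by
    intro u
    have := key (((1 + a)⁻¹ - (1 + a⁻¹))⁻¹ * u)
    rwa [← mul_assoc, mul_inv_cancel₀ hd, one_mul] at this
  intro s t
  by_cases hs : s = 0
  · subst hs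
    have := hl 0 0 t
    rw [add_zero] at this
    exact (mul_eq_left.1 this.symm)
  · rw [hφ s t hs, hone]

-- ROW A1 [M]
theorem rootgroup_CL (h : IsCE σ) (x : F → G) (hadd : ∀ s t, x (s + t) = x s * x t)
    (hT : ∀ c : F, c ≠ 0 → ∃ g : G, ∀ t, cj g (x t) = x (c * t))
    (ha : ∃ a : F, a ≠ 0 ∧ a + 1 ≠ 0 ∧ a ^ 2 + a + 1 ≠ 0) : ∀ s t, CL σ (x s) (x t) := by
  have hcomm : ∀ s t, x s * x t = x t * x s := fun s t => by rw [← hadd, ← hadd, add_comm]
  have hlift : ∀ t, ∃ A, σ A = x t := fun t => h.surj (x t)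
  choose A hA using hlift
  obtain ⟨g, hg⟩ : ∃ g : F → F → Γ', ∀ s t, g s t = cm (A s) (A t) :=
    ⟨fun s t => cm (A s) (A t), fun _ _ => rfl⟩
  have hk : ∀ s t, σ (g s t) = 1 := by
    intro s t
    rw [hg, map_cm, hA, hA, cm_eq_one_iff]
    exact hcomm s t
  have hcen : ∀ s t (b : Γ'), g s t * b = b * g s t := fun s t b => h.comm_of_map_one (hk s t) b
  have hl : ∀ s s' t, g (s + s') t = g s t * g s' t := by
    intro s s' t
    have e1 : σ (A (s + s')) = σ (A s * A s') := by rw [map_mul, hA, hA, hA, hadd]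
    have e2 : cm (A (s + s')) (A t) = A s * g s' t * (A s)⁻¹ * g s t := by
      rw [h.cm_congr e1 rfl, cm_mul_left, hg, hg]
    have e3 := h.cj_of_map_one (hk s' t) (A s)
    unfold cj at e3
    rw [hg (s + s') t, e2, e3]
    exact hcen s' t _
  have hr : ∀ s t t', g s (t + t') = g s t * g s t' := by
    intro s t t'
    have e1 : σ (A (t + t')) = σ (A t * A t') := by rw [map_mul, hA, hA, hA, hadd]
    have e2 : cm (A s) (A (t + t')) = g s t * (A t * g s t' * (A t)⁻¹) := by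
      rw [h.cm_congr rfl e1, cm_mul_right, hg, hg]
    have e3 := h.cj_of_map_one (hk s t') (A t)
    unfold cj at e3
    rw [hg s (t + t'), e2, e3]
  have hinv : ∀ c : F, c ≠ 0 → ∀ s t, g (c * s) (c * t) = g s t := by
    intro c hc s t
    obtain ⟨gc, hgc⟩ := hT c hc
    obtain ⟨e, rfl⟩ := h.surj gc
    have e1 : σ (A (c * s)) = σ (cj e (A s)) := by rw [map_cj, hA, hA, hgc]
    have e2 : σ (A (c * t)) = σ (cj e (A t)) := by rw [map_cj, hA, hA, hgc]
    rw [hg (c * s) (c * t), h.cm_congr e1 e2, ← cj_cm, ← hg]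
    exact h.cj_of_map_one (hk s t) e
  have hone := t2ea1h22_pairing g hl hr hinv ha
  intro s t a b ha' hb'
  rw [← cm_eq_one_iff, h.cm_congr (ha'.trans (hA s).symm) (hb'.trans (hA t).symm), ← hg]
  exact hone s t

end Abstract

end Cfsg.Agent.Lib.helper3.T2E
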