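import Mathlib
import Cfsg.Agent.Lib.helper7.CeA
import Cfsg.Agent.Lib.Helper22.T2EA1

/-!
# T2E row A2 (designer helper3): existence of the additive torus-equivariant lift of a root group
Verbatim vs `Cfsg/Agent/Lib/helper3/T2E/SkelA.lean.txt` (abstract block: only Mathlib + helper7.CeA + row A1).
-/

set_option autoImplicit false

namespace Cfsg.Agent.Lib.helper3.T2E

open Cfsg.Agent.Lib.helper7.Ce Cfsg.Agent.Lib.helper15.St2

section Abstract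

variable {Γ' : Type*} {G : Type*} [Group Γ'] [Group G] {σ : Γ' →* G} {F : Type*} [Field F]

-- ROW A2 [M]
theorem rootlift_exists (h : IsCE σ) (x : F → G) (hadd : ∀ s t, x (s + t) = x s * x t) (T : Set G)
    (χ : G → F) (hTc : ∀ g ∈ T, ∀ g' ∈ T, g * g' = g' * g)
    (hTx : ∀ g ∈ T, ∀ t, cj g (x t) = x (χ g * t)) (hTs : ∀ c : F, c ≠ 0 → ∃ g ∈ T, χ g = c)
    (ha : ∃ a : F, a ≠ 0 ∧ a + 1 ≠ 0 ∧ a ^ 2 + a + 1 ≠ 0) :
    ∃ L : F → Γ', (∀ t, σ (L t) = x t) ∧ (∀ s t, L (s + t) = L s * L t) ∧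
      ∀ γ : Γ', σ γ ∈ T → ∀ t, cj γ (L t) = L (χ (σ γ) * t) := by
  -- lifts of the `x t` commute (row A1)
  have hCL : ∀ s t, CL σ (x s) (x t) := by
    apply rootgroup_CL h x hadd _ ha
    intro c hc
    obtain ⟨g, hgT, hg⟩ := hTs c hc
    exact ⟨g, fun t => by rw [hTx g hgT t, hg]⟩
  obtain ⟨a, ha0, ha1, -⟩ := ha
  -- `c₀ = a + 1 ≠ 0, 1`
  have hc1 : a + 1 - 1 ≠ 0 := by rwa [add_sub_cancel_right]
  obtain ⟨g₀, hg₀T, hg₀⟩ := hTs (a + 1) ha1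
  obtain ⟨e₀, he₀⟩ := h.surj g₀
  have hlift : ∀ t, ∃ A, σ A = x t := fun t => h.surj (x t)
  choose A hA using hlift
  have hx0 : x 0 = 1 := by
    have := hadd 0 0
    rw [add_zero] at this
    exact (mul_eq_left.1 this.symm)
  have hxneg : ∀ s, x (-s) = (x s)⁻¹ := by
    intro s
    have := hadd s (-s)
    rw [add_neg_cancel, hx0] at this
    exact eq_inv_of_mul_eq_one_right this.symm
  -- the image of `cm e₀ (A s)`
  have hmap : ∀ s, σ (cm e₀ (A s)) = x ((a + 1 - 1) * s) := by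
    intro s
    rw [map_cm, he₀, hA]
    have e1 : cm g₀ (x s) = cj g₀ (x s) * (x s)⁻¹ := by unfold cm cj; group
    rw [e1, hTx g₀ hg₀T, hg₀, ← hxneg, ← hadd]
    congr 1
    ring
  refine ⟨fun t => cm e₀ (A ((a + 1 - 1)⁻¹ * t)), ?_, ?_, ?_⟩
  · intro t
    show σ (cm e₀ (A ((a + 1 - 1)⁻¹ * t))) = x t
    rw [hmap, ← mul_assoc, mul_inv_cancel₀ hc1, one_mul]
  · intro s t
    show cm e₀ (A ((a + 1 - 1)⁻¹ * (s + t))) =
      cm e₀ (A ((a + 1 - 1)⁻¹ * s)) * cm e₀ (A ((a + 1 - 1)⁻¹ * t))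
    have e1 : σ (A ((a + 1 - 1)⁻¹ * (s + t)))
        = σ (A ((a + 1 - 1)⁻¹ * s) * A ((a + 1 - 1)⁻¹ * t)) := by
      rw [map_mul, hA, hA, hA, ← hadd, mul_add]
    rw [h.cm_congr rfl e1, cm_mul_right]
    have e2 := hCL ((a + 1 - 1)⁻¹ * s) ((a + 1 - 1) * ((a + 1 - 1)⁻¹ * t))
      (A ((a + 1 - 1)⁻¹ * s)) (cm e₀ (A ((a + 1 - 1)⁻¹ * t))) (hA _) (hmap _)
    rw [e2, mul_inv_cancel_right]
  · intro γ hγ t
    show cj γ (cm e₀ (A ((a + 1 - 1)⁻¹ * t))) = cm e₀ (A ((a + 1 - 1)⁻¹ * (χ (σ γ) * t)))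
    rw [cj_cm]
    have e1 : σ (cj γ e₀) = σ e₀ := by
      rw [map_cj, he₀]
      unfold cj
      rw [hTc (σ γ) hγ g₀ hg₀T, mul_inv_cancel_right]
    have e2 : σ (cj γ (A ((a + 1 - 1)⁻¹ * t))) = σ (A ((a + 1 - 1)⁻¹ * (χ (σ γ) * t))) := by
      rw [map_cj, hA, hA, hTx (σ γ) hγ]
      congr 1
      ring
    exact h.cm_congr e1 e2

end Abstract

end Cfsg.Agent.Lib.helper3.T2E
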