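import Mathlib
import Cfsg.Agent.Lib.helper17.T3.DefsC

/-!
# T3C row A1c (designer helper17): the adjoint `sharp` and its linearisation `cross` of a cubic datum
Verbatim vs `Cfsg/Agent/Lib/helper17/T3/SkelC.lean.txt`.
-/

set_option autoImplicit false

namespace Cfsg.Agent.Lib.helper17.T3

variable {F K : Type*} [Field F] [Field K] [Algebra F K]

namespace Cub

variable (C : Cub F K)

/-- [A1c] [S] -/
theorem mul_sharp (x : K) : x * C.sharp x = algebraMap F K (C.nm x) := by
  rw [C.hnm, Cub.sharp]; ring

/-- [A1c] [S] -/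
theorem sharp_mul (x y : K) : C.sharp (x * y) = C.sharp x * C.sharp y := by
  simp only [Cub.sharp, map_mul]; ring

/-- [A1c] [S] -/
theorem sharp_smul (c : F) (x : K) : C.sharp (c • x) = c ^ 2 • C.sharp x := by
  simp only [Cub.sharp, Algebra.smul_def, map_mul, map_pow, C.θF]; ring

/-- [A1c] [S] -/
theorem sharp_neg (x : K) : C.sharp (-x) = C.sharp x := by
  simp only [Cub.sharp, map_neg]; ring

/-- [A1c] [S] -/
theorem sharp_add (x y : K) : C.sharp (x + y) = C.sharp x + C.sharp y + C.cross x y := by
  simp only [Cub.sharp, Cub.cross, map_add]; ring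

/-- [A1c] [S] -/
theorem cross_comm (x y : K) : C.cross x y = C.cross y x := by
  simp only [Cub.cross]; ring

/-- [A1c] [S] -/
theorem cross_add_left (x x' y : K) : C.cross (x + x') y = C.cross x y + C.cross x' y := by
  simp only [Cub.cross, map_add]; ring

/-- [A1c] [S] -/
theorem cross_add_right (x y y' : K) : C.cross x (y + y') = C.cross x y + C.cross x y' := by
  simp only [Cub.cross, map_add]; ring

/-- [A1c] [S] -/
theorem cross_smul_left (c : F) (x y : K) : C.cross (c • x) y = c • C.cross x y := by
  simp only [Cub.cross, Algebra.smul_def, map_mul, C.θF]; ring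

/-- [A1c] [S] -/
theorem cross_smul_right (c : F) (x y : K) : C.cross x (c • y) = c • C.cross x y := by
  simp only [Cub.cross, Algebra.smul_def, map_mul, C.θF]; ring

/-- [A1c] [S] -/
theorem cross_neg_left (x y : K) : C.cross (-x) y = -C.cross x y := by
  simp only [Cub.cross, map_neg]; ring

/-- [A1c] [S] -/
theorem cross_mul (a x y : K) : C.cross (a * x) (a * y) = C.sharp a * C.cross x y := by
  simp only [Cub.cross, Cub.sharp, map_mul]; ring

end Cub

end Cfsg.Agent.Lib.helper17.T3
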