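import Mathlib
import Cfsg.Agent.Lib.helper17.T3.DefsC

/-!
# T3C row H3 (designer helper17): the torus element `hl j c` on the short root groups
Verbatim vs `Cfsg/Agent/Lib/helper17/T3/SkelC.lean.txt`.
-/

set_option autoImplicit false

namespace Cfsg.Agent.Lib.helper17.T3

open Cfsg.Agent.Lib.helper15.St2 Cfsg.Agent.Lib.helper7.Ce

variable {F K : Type*} [Field F] [Field K] [Algebra F K]

variable {C : Cub F K} {G Γ : Type*} [Group G] [Group Γ]

namespace SysT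

variable (S : SysT C G)

theorem t3ch3h22_cj_hl (j : ZMod 6) (c : F) (x : G) :
    cj (S.hl j c) x = cj (S.wl j c) (cj (S.wl j 1)⁻¹ x) := by
  rw [cj_cj]; rfl

theorem t3ch3h22_dhs0 (c : F) : dhs 0 c = c := rfl
theorem t3ch3h22_dhs1 (c : F) : dhs 1 c = c := rfl
theorem t3ch3h22_dhs2 (c : F) : dhs 2 c = 1 := rfl
theorem t3ch3h22_dhs3 (c : F) : dhs 3 c = c⁻¹ := rfl
theorem t3ch3h22_dhs4 (c : F) : dhs 4 c = c⁻¹ := rfl
theorem t3ch3h22_dhs5 (c : F) : dhs 5 c = 1 := rfl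

/-- [H3] [M] the torus element `hl j c = wl j c * (wl j 1)⁻¹` on the short root groups (`wl_s0 … wl_s5`). -/
theorem hl_xs (j i : ZMod 6) (c : F) (t : K) (hc : c ≠ 0) : cj (S.hl j c) (S.xs (j + i) t) = S.xs (j + i) (dhs i c • t) := by
  have hi : i = 0 ∨ i = 1 ∨ i = 2 ∨ i = 3 ∨ i = 4 ∨ i = 5 := by revert i; decide
  rcases hi with rfl | rfl | rfl | rfl | rfl | rfl
  · -- i = 0
    rw [add_zero, t3ch3h22_dhs0, t3ch3h22_cj_hl]
    have e : cj (S.wl j 1) (S.xs (j + 4) t) = S.xs j t := by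
      have := S.wl_s4 j 1 t one_ne_zero
      rw [one_smul] at this
      exact this
    rw [cj_inv_of e]
    exact S.wl_s4 j c t hc
  · -- i = 1
    rw [t3ch3h22_dhs1, t3ch3h22_cj_hl]
    have e : cj (S.wl j 1) (S.xs (j + 3) (-t)) = S.xs (j + 1) t := by
      have := S.wl_s3 j 1 (-t) one_ne_zero
      rw [one_smul, neg_neg] at this
      exact this
    rw [cj_inv_of e]
    have := S.wl_s3 j c (-t) hc
    rw [smul_neg, neg_neg] at this
    exact this
  · -- i = 2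
    rw [t3ch3h22_dhs2, one_smul, t3ch3h22_cj_hl]
    have e : cj (S.wl j 1) (S.xs (j + 2) t) = S.xs (j + 2) t := S.wl_s2 j 1 t one_ne_zero
    rw [cj_inv_of e]
    exact S.wl_s2 j c t hc
  · -- i = 3
    rw [t3ch3h22_dhs3, t3ch3h22_cj_hl]
    have e : cj (S.wl j 1) (S.xs (j + 1) t) = S.xs (j + 3) t := by
      have : cj (S.wl j 1) (S.xs (j + 1) t) = S.xs (j + 3) ((1 : F)⁻¹ • t) := S.wl_s1 j 1 t one_ne_zero
      rw [inv_one, one_smul] at this
      exact this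
    rw [cj_inv_of e]
    exact S.wl_s1 j c t hc
  · -- i = 4
    rw [t3ch3h22_dhs4, t3ch3h22_cj_hl]
    have e : cj (S.wl j 1) (S.xs j (-t)) = S.xs (j + 4) t := by
      have : cj (S.wl j 1) (S.xs j (-t)) = S.xs (j + 4) (-((1 : F)⁻¹ • (-t))) := S.wl_s0 j 1 (-t) one_ne_zero
      rw [inv_one, one_smul, neg_neg] at this
      exact this
    rw [cj_inv_of e]
    have := S.wl_s0 j c (-t) hc
    rw [smul_neg, neg_neg] at this
    exact this
  · -- i = 5
    rw [t3ch3h22_dhs5, one_smul, t3ch3h22_cj_hl]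
    have e : cj (S.wl j 1) (S.xs (j + 5) t) = S.xs (j + 5) t := S.wl_s5 j 1 t one_ne_zero
    rw [cj_inv_of e]
    exact S.wl_s5 j c t hc

end SysT

end Cfsg.Agent.Lib.helper17.T3
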