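import Mathlib
import Cfsg.Agent.Lib.helper8.T3M.Rel
import Cfsg.Agent.Lib.helper8.TDMU1
import Cfsg.Agent.Lib.Helper19.T3A.Defs
import Cfsg.Agent.Lib.Helper26.TD4VJ0

/-!
# Project T3M (designer helper8), row **H2** (helper22): `hl 2 c = hh 14 c` in `GG K`.

Extras (prefix `t3mh2h22_`): the `SL₂` identity `n(a) = D(a a'⁻¹) n(a')` and its image under helper26's `phi_root r`:
`X r a * X (23 - r) b * X r a * (X r a' * X (23 - r) b' * X r a')⁻¹ = hh r (a * a'⁻¹)` for `a b = -1 = a' b'`.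
-/

set_option autoImplicit false

namespace Cfsg.Agent.Lib.helper8.T3M

open Cfsg.Lie Cfsg.Lie.ChevalleyDatum Matrix
open Cfsg.Agent.Lib.helper8
open Cfsg.Agent.Lib.helper23.TD4V
open Cfsg.Agent.Lib.helper17.T3
open Cfsg.Agent.Lib.helper15.St2 Cfsg.Agent.Lib.helper7.Ce

universe u

variable {K : Type u} [Field K] {q : ℕ}

/-- in `SL₂`: `n(a) = D(a / a') n(a')`, `n(a) = U(a) L(b) U(a)` with `a b = -1` -/
theorem t3mh2h22_sl2 {a b a' b' d : K} (hab : a * b = -1) (hab' : a' * b' = -1) (hd : d = a * a'⁻¹) :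
    h8slU a * h8slL b * h8slU a = h8slD d * (h8slU a' * h8slL b' * h8slU a') := by
  have ha : a ≠ 0 := by
    rintro rfl
    rw [zero_mul] at hab
    exact absurd hab (by norm_num)
  have ha' : a' ≠ 0 := by
    rintro rfl
    rw [zero_mul] at hab'
    exact absurd hab' (by norm_num)
  have hd0 : d ≠ 0 := by
    rw [hd]
    exact mul_ne_zero ha (inv_ne_zero ha')
  have hb : b = -a⁻¹ := by
    field_simp
    linear_combination hab
  have hb' : b' = -a'⁻¹ := by
    field_simp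
    linear_combination hab'
  have hdi : d⁻¹ = a' * a⁻¹ := by
    rw [hd, mul_inv, inv_inv, mul_comm]
  apply Subtype.ext
  simp only [Matrix.SpecialLinearGroup.coe_mul, h8slU_val, h8slL_val, h8slD_val d hd0,
    Matrix.mul_fin_two]
  have h1 : ∀ x y z w x' y' z' w' : K, x = x' → y = y' → z = z' → w = w' →
      !![x, y; z, w] = !![x', y'; z', w'] := by
    intro x y z w x' y' z' w' h1 h2 h3 h4; rw [h1, h2, h3, h4]
  rw [hdi]
  subst hd hb hb'
  apply h1
  · field_simp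
    ring1
  · field_simp
    ring1
  · field_simp
    ring1
  · field_simp
    ring1

/-- `n_r(a) n_r(a')⁻¹ = h_r(a / a')` in `GG K` -/
theorem t3mh2h22_n_div (r r' : ℕ) (hrr : r + r' = 23) {a b a' b' d : K} (hab : a * b = -1)
    (hab' : a' * b' = -1) (hd : d = a * a'⁻¹) :
    (X r a * X r' b * X r a * (X r a' * X r' b' * X r a')⁻¹ : GG K) = hh r d := by
  have hr : r < 24 := by omega
  have e : r' = 23 - r := by omega
  subst e
  have ha : a ≠ 0 := by
    rintro rfl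
    rw [zero_mul] at hab
    exact absurd hab (by norm_num)
  have ha' : a' ≠ 0 := by
    rintro rfl
    rw [zero_mul] at hab'
    exact absurd hab' (by norm_num)
  have hd0 : d ≠ 0 := by
    rw [hd]
    exact mul_ne_zero ha (inv_ne_zero ha')
  obtain ⟨φ, hU, hL, hD⟩ := phi_root (K := K) r hr
  have h := congrArg φ (t3mh2h22_sl2 hab hab' hd)
  simp only [map_mul, hU, hL, hD d hd0] at h
  rw [h, mul_inv_cancel_right]

/-- **H2** [S-M].  `XL D 2 c = X 14 (-c)`, `XL D 5 c⁻¹ = X 9 c⁻¹`; `phi_root 14` (or `phiB`): `U(-c) L(c⁻¹) U(-c) (U(-1) L(1) U(-1))⁻¹ = D(c)`. -/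
theorem t3m_hl2 (D : Dat K q) {c : D.Fx} (hc : c ≠ 0) :
    XL D 2 c * XL D 5 c⁻¹ * XL D 2 c * (XL D 2 1 * XL D 5 1⁻¹ * XL D 2 1)⁻¹ = hh 14 (c : K) := by
  have hc' : (c : K) ≠ 0 := D.coe_ne_zero hc
  simp only [XL_def, val6_2, val6_5, XL3_2, XL3_5]
  have e1 : ((c⁻¹ : D.Fx) : K) = (c : K)⁻¹ := rfl
  have e2 : (((1 : D.Fx)⁻¹ : D.Fx) : K) = 1 := by
    rw [inv_one]; rfl
  have e3 : ((1 : D.Fx) : K) = 1 := rfl
  rw [e1, e2, e3]
  exact t3mh2h22_n_div 14 9 (by norm_num) (by field_simp) (by norm_num) (by field_simp)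

end Cfsg.Agent.Lib.helper8.T3M
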