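import Mathlib
import Cfsg.Prelude.Def_ChevStructure
import Cfsg.Agent.Lib.helper8.TD4.Defs
import Cfsg.Agent.Lib.Helper22.TD4R4core
import Cfsg.Agent.Lib.helper17.TD4A6
import Cfsg.Agent.Lib.Helper29.TD4B8

/-!
# Project TD4 (helper8, S2376), row R4 (`chi_orbit_unique`), verbatim: `td4r4_core` + A6 + B8.
-/

set_option autoImplicit false

namespace Cfsg.Agent.Lib.helper8.TD4

open Cfsg.Lie Cfsg.Lie.ChevalleyDatum Cfsg.Agent.Lib.helper8 Matrix

universe u v

section R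

variable {F : Type u} [Field F] (hB : H8Base.{u} chevD4)

/-- R4 [M] (cites A6 B8). B8: `χ r = v ^ kZ q r`, `v = χ 18`.  For `j = rho^[i] 18` (`i = 0, 4, 2, 3` for `j = 18, 13, 12, 19`) and `χ r = χ j`: apply `hrel` `6 - i` times to both: `χ (rho^[6-i] r) = (χ r)^(q^(6-i)) = (χ j)^(q^(6-i)) = χ (rho^[6] 18) = χ 18` (`rho^[6] s = s` and `rho s < 24` for `s < 24`: `decide`); A6 gives `rho^[6-i] r = 18 = rho^[6-i] j`; `rho` is injective on `r < 24` (`decide`). -/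
theorem chi_orbit_unique (q : ℕ) (hq : 2 ≤ q) (h : GL chevD4.Idx F)
    (hh : h ∈ chevD4.diagonalSubgroup F)
    (hrel : ∀ r < 24, h8chi chevD4 hB h (rho r) = h8chi chevD4 hB h r ^ q)
    (hord : orderOf (h8chi chevD4 hB h 18) = nT q) :
    ∀ j ∈ [18, 13, 12, 19], ∀ r < 24, h8chi chevD4 hB h r = h8chi chevD4 hB h j → r = j :=
  td4r4_core hB q h hrel (zpow_kZ_eq_self q hq _ hord) (chi_table hB q hq h hh hrel).2

end R

end Cfsg.Agent.Lib.helper8.TD4
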