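import Mathlib
import Cfsg.Prelude.Def_ChevStructure
import Cfsg.Agent.Lib.helper8.TD4.Defs
import Cfsg.Agent.Lib.Helper22.TD4R5core
import Cfsg.Agent.Lib.Helper22.TD4R1
import Cfsg.Agent.Lib.Helper29.TD4R3

/-!
# Project TD4 (helper8, S2376), row R5 (`cent_regular`), verbatim: `td4r5_core` + R1 + R3.
-/

set_option autoImplicit false

namespace Cfsg.Agent.Lib.helper8.TD4

open Cfsg.Lie Cfsg.Lie.ChevalleyDatum Cfsg.Agent.Lib.helper8 Matrix

universe u v

section R

variable {F : Type u} [Field F] (hB : H8Base.{u} chevD4)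

/-- R5 [S-M] (cites R1 R3). Copy `Helper26/G2TB7core.lean` (`g2tb7_core`) with `chevD4`; `hU` from R1, `hN` from R3. -/
theorem cent_regular (h : GL chevD4.Idx F) (hh : h ∈ chevD4.diagonalSubgroup F)
    (h1 : ∀ r < 24, h8chi chevD4 hB h r ≠ 1)
    (huniq : ∀ j ∈ [18, 13, 12, 19], ∀ r < 24,
      h8chi chevD4 hB h r = h8chi chevD4 hB h j → r = j)
    (g : GL chevD4.Idx F) (hg : g ∈ chevD4.group F) (hc : h * g = g * h) :
    g ∈ chevD4.diagonalSubgroup F :=
  td4r5_core h hh (fun u hu hcu => U_fixed hB h hh h1 u hu hcu)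
    (fun n hn hcn => N_fixed hB h hh huniq n hn hcn) g hg hc

end R

end Cfsg.Agent.Lib.helper8.TD4
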