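import Mathlib
import Cfsg.Agent.Lib.helper23.TD4V.Defs
import Cfsg.Agent.Lib.helper4.TD4VG
import Cfsg.Agent.Lib.Helper5.TD4VN2
import Cfsg.Agent.Lib.Helper5.TD4VN3
import Cfsg.Agent.Lib.Helper22.TD4VC0core

/-!
# Project TD4V (S2462), row C1 (`cov_d1`): core on the statements of the cited rows
(Q3 `iota_norm_Q'`, T1 `move_A`, T2 `move_B`, M1, N6 `Tr3_surj`, I2 `iota_mul`, I3 `iota_dg` `iota_upper`, L1 `cover1`,
CB `cov_big`, F1 `Ctx.t_ne` `Ctx.c_ne`).  N3 N4 (Helper5) are cited directly.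
-/

set_option autoImplicit false

namespace Cfsg.Agent.Lib.helper23.TD4V

open Cfsg.Lie Cfsg.Lie.ChevalleyDatum Matrix
open Cfsg.Agent.Lib.helper8 Cfsg.Agent.Lib.helper8.TD4
open Cfsg.Agent.Lib.helper23.P4V

universe u v

theorem td4vc1_core {F K : Type u} {E : Type v} [Field F] [Field K] [Field E] [Fintype F] [Fintype K]
    [Fintype E] (j : F →+* K) (ι : K →+* E) (q : ℕ) (t τ : K) (m : E) (c θ : F)
    (hX : Ctx j ι q t τ m c θ)
    (ht0 : t ≠ 0) (hc0 : c ≠ 0)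
    (hQ3 : ∀ (A : GL (Fin 2) F) (t : K) (_ : t ≠ 0) (u : GG K) (_ : u ∈ Q K q),
      (iota j q A t)⁻¹ * u * iota j q A t ∈ Q K q)
    (hT1 : ∀ (s r : K) (_ : 1 + s * r ≠ 0), Xa q s * Xma q r =
      Xma q (r / (1 + s * r)) * hJ hB q (1 + s * r) * Xa q (s / (1 + s * r)))
    (hT2 : ∀ (s r : K), Xab q s * Xma q r = Xma q r * X 14 (Tr3 q (s * r)) * Xab q s)
    (hXa : ∀ t : K, Xa q t ∈ Q K q) (hXma : ∀ t : K, Xma q t ∈ Qm K q)
    (hXab : ∀ t : K, Xab q t ∈ Q K q)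
    (hN6 : ∀ (r : K) (_ : r ≠ 0) (c : F), ∃ s : K, Tr3 q (s * r) = j c)
    (hI2 : ∀ (A B : GL (Fin 2) F) (t s : K) (_ : t ≠ 0) (_ : j (A : M2 F).det = Nm q t),
      iota j q (A * B) (t * s) = iota j q A t * iota j q B s)
    (hIdg : ∀ (A : GL (Fin 2) F) (c : F) (t : K) (_ : (A : M2 F) = !![1, 0; 0, c]),
      iota j q A t = hJ hB q t)
    (hIup : ∀ (A : GL (Fin 2) F) (c : F) (_ : (A : M2 F) = !![1, c; 0, 1]),
      iota j q A 1 = X 14 (j c))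
    (hL1 : ∀ (ν : F) (_ : ν ≠ 0) (A : M2 F) (_ : A.det = ν ^ 2),
      ∃ β : F, InSig ν (!![1, β; 0, 1] * A))
    (hCB : ∀ (v' : GG K) (_ : v' ∈ Qm K q) (u' : GG K) (_ : u' ∈ Q K q) (M : GL (Fin 2) F)
      (_ : InSig c (M : M2 F)), CovG q (x0 hB q t τ) (v' * iota j q M (t * t) * u'))
    (r : K) (hr : r ≠ 0) (A : GL (Fin 2) F) (t' : K)
    (ht' : t' ≠ 0) (hA : j (A : M2 F).det = Nm q t') (u : GG K) (hu : u ∈ Q K q) :
    CovG q (x0 hB q t τ) (Xma q r * iota j q A t' * u) := by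
  have hq := hX.hq
  have hF := hX.hF
  have hK := hX.hK
  -- the parameters
  obtain ⟨d, hd⟩ : ∃ d : K, d = t * t / t' := ⟨_, rfl⟩
  have hd0 : d ≠ 0 := by rw [hd]; exact div_ne_zero (mul_ne_zero ht0 ht0) ht'
  have hdt : d * t' = t * t := by rw [hd]; field_simp
  obtain ⟨s, hs⟩ : ∃ s : K, s = (d - 1) / r := ⟨_, rfl⟩
  have hsr : 1 + s * r = d := by rw [hs]; field_simp; ring
  -- `n` with `j n = Nm q d`
  obtain ⟨n, hn⟩ := exists_pre j q hq hF (Nm q d) (Nm_pow q hK d)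
  have hn0 : n ≠ 0 := by
    intro h
    rw [h, map_zero] at hn
    exact Nm_ne_zero q d hd0 hn.symm
  have hDdet : (!![1, 0; 0, n] : M2 F).det ≠ 0 := by
    rw [Matrix.det_fin_two_of]; simpa using hn0
  have hDdet' : ((mk2 !![1, 0; 0, n] hDdet : GL (Fin 2) F) : M2 F).det = n := by
    rw [mk2_val, Matrix.det_fin_two_of]; ring
  -- step 1
  have hid1 : Xa q s * Xma q r = Xma q (r / d) * hJ hB q d * Xa q (s / d) := by
    have := hT1 s r (by rw [hsr]; exact hd0)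
    rw [hsr] at this
    exact this
  refine td4vc0_core j q hQ3 _ (Xa q s) (Xma q r) (Xma q (r / d)) (hJ hB q d) (Xa q (s / d))
    (hXa s) (hXa (s / d)) hid1 A t' ht' u hu ?_
  intro u2 hu2
  -- the new Levi part
  have hlevi : hJ hB q d * iota j q A t' =
      iota j q (mk2 !![1, 0; 0, n] hDdet * A) (t * t) := by
    rw [← hdt, hI2 _ A d t' hd0 (by rw [hDdet', hn]), hIdg _ n d (mk2_val _ _)]
  rw [hlevi]
  have hdetDA : ((mk2 !![1, 0; 0, n] hDdet * A : GL (Fin 2) F) : M2 F).det = c ^ 2 := by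
    apply RingHom.injective j
    rw [Units.val_mul, Matrix.det_mul, hDdet', map_mul, hn, hA, ← Nm_mul, hdt, Nm_mul, ← hX.hc,
      map_pow, sq]
  obtain ⟨β, hβ⟩ := hL1 c hc0 _ hdetDA
  have hr'0 : r / d ≠ 0 := div_ne_zero hr hd0
  obtain ⟨s2, hs2⟩ := hN6 (r / d) hr'0 β
  have hid2 : Xab q s2 * Xma q (r / d) = Xma q (r / d) * X 14 (j β) * Xab q s2 := by
    rw [hT2 s2 (r / d), hs2]
  have hUdet : (!![1, β; 0, 1] : M2 F).det ≠ 0 := by
    rw [Matrix.det_fin_two_of]; simp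
  have hUdet' : ((mk2 !![1, β; 0, 1] hUdet : GL (Fin 2) F) : M2 F).det = 1 := by
    rw [mk2_val, Matrix.det_fin_two_of]; ring
  refine td4vc0_core j q hQ3 _ (Xab q s2) (Xma q (r / d)) (Xma q (r / d)) (X 14 (j β)) (Xab q s2)
    (hXab s2) (hXab s2) hid2 _ (t * t) (mul_ne_zero ht0 ht0) u2 hu2 ?_
  intro u3 hu3
  have hlevi2 : X 14 (j β) * iota j q (mk2 !![1, 0; 0, n] hDdet * A) (t * t) =
      iota j q (mk2 !![1, β; 0, 1] hUdet * (mk2 !![1, 0; 0, n] hDdet * A)) (t * t) := by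
    have h1 := hI2 (mk2 !![1, β; 0, 1] hUdet) (mk2 !![1, 0; 0, n] hDdet * A) 1 (t * t) one_ne_zero
      (by rw [hUdet', map_one, Nm_one])
    rw [one_mul] at h1
    rw [h1, hIup _ β (mk2_val _ _)]
  rw [hlevi2]
  refine hCB _ (hXma _) u3 hu3 _ ?_
  rw [Units.val_mul, mk2_val]
  exact hβ

end Cfsg.Agent.Lib.helper23.TD4V
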