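import Mathlib
import Cfsg.Agent.Lib.helper23.TD4V.Defs
import Cfsg.Agent.Lib.helper4.TD4VG
import Cfsg.Agent.Lib.Helper5.TD4VN2
import Cfsg.Agent.Lib.Helper5.TD4VN3
import Cfsg.Agent.Lib.Helper22.TD4VC0core

/-!
# Project TD4V (S2462), row C2 (`cov_d2`): core on the statements of the cited rows
(Q3 `iota_norm_Q'`, T8 `move_d2`, U8 `cell_mem`, L2 `cover2`, N5 `Nm_surj`, M1, M2, I2, I3, I4, CB, F1).
N2 N3 N4 (Helper5) are cited directly.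
-/

set_option autoImplicit false

namespace Cfsg.Agent.Lib.helper23.TD4V

open Cfsg.Lie Cfsg.Lie.ChevalleyDatum Matrix
open Cfsg.Agent.Lib.helper8 Cfsg.Agent.Lib.helper8.TD4
open Cfsg.Agent.Lib.helper23.P4V

universe u v

/-- `diag(1,n) L(x/n) U(y n) = L(x) U(y) diag(1,n)` -/
theorem td4vc2_mat {F : Type u} [Field F] (n x y : F) (hn : n ≠ 0) :
    (!![1, 0; 0, n] : M2 F) * !![1, 0; x / n, 1] * !![1, y * n; 0, 1] =
      !![1, 0; x, 1] * !![1, y; 0, 1] * !![1, 0; 0, n] := by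
  ext a b
  fin_cases a <;> fin_cases b <;> simp [Matrix.mul_apply, Fin.sum_univ_two] <;> field_simp

theorem td4vc2_Nm_div {K : Type u} [Field K] [Fintype K] (q : ℕ) (s d : K) (hd : d ≠ 0) :
    Nm q (s / d) = Nm q s / Nm q d := by
  have h1 : Nm q (s / d) * Nm q d = Nm q s := by
    rw [← Nm_mul, div_mul_cancel₀ s hd]
  rw [eq_div_iff (Nm_ne_zero q d hd), h1]

theorem td4vc2_core {F K : Type u} {E : Type v} [Field F] [Field K] [Field E] [Fintype F] [Fintype K]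
    [Fintype E] (j : F →+* K) (ι : K →+* E) (q : ℕ) (t τ : K) (m : E) (c θ : F)
    (hX : Ctx j ι q t τ m c θ)
    (ht0 : t ≠ 0) (hc0 : c ≠ 0)
    (hQ3 : ∀ (A : GL (Fin 2) F) (t : K) (_ : t ≠ 0) (u : GG K) (_ : u ∈ Q K q),
      (iota j q A t)⁻¹ * u * iota j q A t ∈ Q K q)
    (hT8 : ∀ (s B s0 r : K) (_ : r ^ q = r) (_ : 1 + s * (B ^ (q ^ 2) * r) ≠ 0),
      ∃ v ∈ QmK K, ∃ u ∈ QK K,
        Xa q s * X2ab q B * X 23 s0 * X 1 r =
          v * (hJ hB q (1 + s * (B ^ (q ^ 2) * r)) *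
            X 9 (Nm q (s / (1 + s * (B ^ (q ^ 2) * r))) * r) *
            X 14 (-(Nm q B * r ^ 2) + s0 * r)) * u)
    (hU8 : ∀ (v l u : GG K) (_ : v ∈ QmK K) (_ : l ∈ LK K) (_ : l ∈ twistedD4 K q) (_ : u ∈ QK K)
      (_ : v * l * u ∈ twistedD4 K q), v ∈ Qm K q ∧ u ∈ Q K q)
    (hL2 : ∀ (ν : F) (_ : ν ≠ 0) (A : M2 F) (_ : A.det = ν ^ 2),
      ∃ x y : F, x ≠ 0 ∧ InSig ν (!![1, 0; x, 1] * !![1, y; 0, 1] * A))
    (hN5 : ∀ (c : F) (_ : c ≠ 0), ∃ s : K, s ≠ 0 ∧ Nm q s = j c)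
    (hXa : ∀ t : K, Xa q t ∈ Q K q) (hX2ab : ∀ t : K, X2ab q t ∈ Q K q)
    (hX23 : ∀ (c : K) (_ : c ^ q = c), X 23 c ∈ Q K q)
    (hX1 : ∀ (c : K) (_ : c ^ q = c), X 1 c ∈ Qm K q)
    (hI2 : ∀ (A B : GL (Fin 2) F) (t s : K) (_ : t ≠ 0) (_ : j (A : M2 F).det = Nm q t),
      iota j q (A * B) (t * s) = iota j q A t * iota j q B s)
    (hIdg : ∀ (A : GL (Fin 2) F) (c : F) (t : K) (_ : (A : M2 F) = !![1, 0; 0, c]),
      iota j q A t = hJ hB q t)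
    (hIup : ∀ (A : GL (Fin 2) F) (c : F) (_ : (A : M2 F) = !![1, c; 0, 1]),
      iota j q A 1 = X 14 (j c))
    (hIlo : ∀ (A : GL (Fin 2) F) (c : F) (_ : (A : M2 F) = !![1, 0; c, 1]),
      iota j q A 1 = X 9 (j c))
    (hI4 : ∀ (A : GL (Fin 2) F) (t : K) (_ : t ≠ 0),
      iota j q A t ∈ twistedD4 K q ∧ iota j q A t ∈ LK K)
    (hCB : ∀ (v' : GG K) (_ : v' ∈ Qm K q) (u' : GG K) (_ : u' ∈ Q K q) (M : GL (Fin 2) F)
      (_ : InSig c (M : M2 F)), CovG q (x0 hB q t τ) (v' * iota j q M (t * t) * u'))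
    (r : F) (hr : r ≠ 0) (A : GL (Fin 2) F) (t' : K)
    (ht' : t' ≠ 0) (hA : j (A : M2 F).det = Nm q t') (u : GG K) (hu : u ∈ Q K q) :
    CovG q (x0 hB q t τ) (X 1 (j r) * iota j q A t' * u) := by
  have hq := hX.hq
  have hF := hX.hF
  have hK := hX.hK
  have hjinj : Function.Injective j := RingHom.injective j
  have hR0 : j r ≠ 0 := by
    intro h
    exact hr (hjinj (by rw [h, map_zero]))
  have hRq : j r ^ q = j r := j_pow j q hF r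
  -- the parameters
  obtain ⟨d, hd⟩ : ∃ d : K, d = t * t / t' := ⟨_, rfl⟩
  have hd0 : d ≠ 0 := by rw [hd]; exact div_ne_zero (mul_ne_zero ht0 ht0) ht'
  have hdt : d * t' = t * t := by rw [hd]; field_simp
  obtain ⟨n, hn⟩ := exists_pre j q hq hF (Nm q d) (Nm_pow q hK d)
  have hn0 : n ≠ 0 := by
    intro h
    rw [h, map_zero] at hn
    exact Nm_ne_zero q d hd0 hn.symm
  have hDdet : (!![1, 0; 0, n] : M2 F).det ≠ 0 := by
    rw [Matrix.det_fin_two_of]; simpa using hn0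
  have hDdet' : ((mk2 !![1, 0; 0, n] hDdet : GL (Fin 2) F) : M2 F).det = n := by
    rw [mk2_val, Matrix.det_fin_two_of]; ring
  have hdetDA : ((mk2 !![1, 0; 0, n] hDdet * A : GL (Fin 2) F) : M2 F).det = c ^ 2 := by
    apply hjinj
    rw [Units.val_mul, Matrix.det_mul, hDdet', map_mul, hn, hA, ← Nm_mul, hdt, Nm_mul, ← hX.hc,
      map_pow, sq]
  obtain ⟨x, y, hx0, hxy⟩ := hL2 c hc0 _ hdetDA
  obtain ⟨s, hs0, hs⟩ := hN5 (x / r) (div_ne_zero hx0 hr)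
  obtain ⟨r', hr'⟩ : ∃ r' : K, r' = (d - 1) / s := ⟨_, rfl⟩
  have hsr' : 1 + s * r' = d := by rw [hr']; field_simp; ring
  obtain ⟨B, hB'⟩ : ∃ B : K, B = (r' / j r) ^ q := ⟨_, rfl⟩
  have hBq2 : B ^ (q ^ 2) * j r = r' := by
    have h1 : B ^ (q ^ 2) = r' / j r := by
      rw [hB', ← pow_mul, ← pow_succ', show 2 + 1 = 3 from rfl, pow_q3 q hK]
    rw [h1, div_mul_cancel₀ _ hR0]
  obtain ⟨b, hb⟩ := exists_pre j q hq hF (Nm q B) (Nm_pow q hK B)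
  obtain ⟨s0, hs0'⟩ : ∃ s0 : K, s0 = j ((y * n + b * r ^ 2) / r) := ⟨_, rfl⟩
  have hs0q : s0 ^ q = s0 := by rw [hs0']; exact j_pow j q hF _
  -- T8
  obtain ⟨v, hv, u1, hu1, hid⟩ := hT8 s B s0 (j r) hRq (by rw [hBq2, hsr']; exact hd0)
  rw [hBq2, hsr'] at hid
  have e1 : Nm q (s / d) * j r = j (x / n) := by
    rw [td4vc2_Nm_div q s d hd0, hs, ← hn, map_div₀, map_div₀]
    field_simp
  have e2 : -(Nm q B * j r ^ 2) + s0 * j r = j (y * n) := by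
    rw [← hb, hs0', map_div₀, map_add, map_mul, map_mul, map_pow]
    field_simp
    ring
  rw [e1, e2] at hid
  -- the Levi part
  have hLdet : (!![1, 0; x / n, 1] : M2 F).det ≠ 0 := by
    rw [Matrix.det_fin_two_of]; simp
  have hLdet' : ((mk2 !![1, 0; x / n, 1] hLdet : GL (Fin 2) F) : M2 F).det = 1 := by
    rw [mk2_val, Matrix.det_fin_two_of]; ring
  have hUdet : (!![1, y * n; 0, 1] : M2 F).det ≠ 0 := by
    rw [Matrix.det_fin_two_of]; simp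
  have hlevi : hJ hB q d * X 9 (j (x / n)) * X 14 (j (y * n)) =
      iota j q (mk2 !![1, 0; 0, n] hDdet * mk2 !![1, 0; x / n, 1] hLdet *
        mk2 !![1, y * n; 0, 1] hUdet) d := by
    have h1 := hI2 (mk2 !![1, 0; 0, n] hDdet) (mk2 !![1, 0; x / n, 1] hLdet) d 1 hd0
      (by rw [hDdet', hn])
    have h2 := hI2 (mk2 !![1, 0; 0, n] hDdet * mk2 !![1, 0; x / n, 1] hLdet)
      (mk2 !![1, y * n; 0, 1] hUdet) (d * 1) 1 (by rw [mul_one]; exact hd0)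
      (by rw [Units.val_mul, Matrix.det_mul, hDdet', hLdet', mul_one, mul_one, hn])
    rw [mul_one, mul_one] at h2
    rw [mul_one] at h1
    rw [h2, h1, hIdg _ n d (mk2_val _ _), hIlo _ (x / n) (mk2_val _ _),
      hIup _ (y * n) (mk2_val _ _)]
  rw [hlevi] at hid
  obtain ⟨hlG, hlL⟩ := hI4 (mk2 !![1, 0; 0, n] hDdet * mk2 !![1, 0; x / n, 1] hLdet *
    mk2 !![1, y * n; 0, 1] hUdet) d hd0
  have hyQ : Xa q s * X2ab q B * X 23 s0 ∈ Q K q :=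
    mul_mem (mul_mem (hXa s) (hX2ab B)) (hX23 s0 hs0q)
  have hgG : v * iota j q (mk2 !![1, 0; 0, n] hDdet * mk2 !![1, 0; x / n, 1] hLdet *
      mk2 !![1, y * n; 0, 1] hUdet) d * u1 ∈ twistedD4 K q := by
    rw [← hid]
    exact mul_mem hyQ.2 (hX1 (j r) hRq).2
  obtain ⟨hvQm, hu1Q⟩ := hU8 v _ u1 hv hlL hlG hu1 hgG
  refine td4vc0_core j q hQ3 _ _ (X 1 (j r)) v _ u1 hyQ hu1Q hid A t' ht' u hu ?_
  intro u2 hu2
  have hlevi2 : iota j q (mk2 !![1, 0; 0, n] hDdet * mk2 !![1, 0; x / n, 1] hLdet *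
      mk2 !![1, y * n; 0, 1] hUdet) d * iota j q A t' =
      iota j q (mk2 !![1, 0; 0, n] hDdet * mk2 !![1, 0; x / n, 1] hLdet *
        mk2 !![1, y * n; 0, 1] hUdet * A) (t * t) := by
    rw [← hdt]
    refine (hI2 _ A d t' hd0 ?_).symm
    have hdet3 : ((mk2 !![1, 0; 0, n] hDdet * mk2 !![1, 0; x / n, 1] hLdet *
        mk2 !![1, y * n; 0, 1] hUdet : GL (Fin 2) F) : M2 F).det = n := by
      rw [Units.val_mul, Units.val_mul, Matrix.det_mul, Matrix.det_mul, hDdet', hLdet', mk2_val,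
        Matrix.det_fin_two_of]
      ring
    rw [hdet3, hn]
  rw [hlevi2]
  refine hCB v hvQm u2 hu2 _ ?_
  have hmat : ((mk2 !![1, 0; 0, n] hDdet * mk2 !![1, 0; x / n, 1] hLdet *
      mk2 !![1, y * n; 0, 1] hUdet * A : GL (Fin 2) F) : M2 F) =
      !![1, 0; x, 1] * !![1, y; 0, 1] *
        ((mk2 !![1, 0; 0, n] hDdet * A : GL (Fin 2) F) : M2 F) := by
    simp only [Units.val_mul, mk2_val]
    rw [td4vc2_mat n x y hn0, Matrix.mul_assoc]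
  rw [hmat]
  exact hxy

end Cfsg.Agent.Lib.helper23.TD4V
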