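import Mathlib
import Cfsg.Agent.Lib.helper8.TDM.Defs
import Cfsg.Agent.Lib.Helper26.TD4VN1
import Cfsg.Agent.Lib.helper23.TD4VComm0
import Cfsg.Agent.Lib.helper23.TD4VComm2
import Cfsg.Agent.Lib.helper23.TD4VComm3

/-!
# Project TDM = S2192 (designer helper8), row I1 (helper22), VERBATIM: the twisted root elements `Xa`, `Xab`, `X2ab` are additive.
-/

set_option autoImplicit false

namespace Cfsg.Agent.Lib.helper8.TDM

open Cfsg.Lie Cfsg.Lie.ChevalleyDatum Matrix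
open Cfsg.Agent.Lib.helper8 Cfsg.Agent.Lib.helper8.TD4
open Cfsg.Agent.Lib.helper23.TD4V

universe u

/-- `(a₁ a₂)(b₁ b₂)(c₁ c₂) = (a₁ b₁ c₁)(a₂ b₂ c₂)` if `a₂` commutes with `b₁`, `c₁` and `b₂` with `c₁`. -/
theorem tdmi1_six {G : Type*} [Group G] (a1 a2 b1 b2 c1 c2 : G) (h1 : a2 * b1 = b1 * a2) (h2 : a2 * c1 = c1 * a2)
    (h3 : b2 * c1 = c1 * b2) : a1 * a2 * (b1 * b2) * (c1 * c2) = (a1 * b1 * c1) * (a2 * b2 * c2) := by
  calc a1 * a2 * (b1 * b2) * (c1 * c2) = a1 * (a2 * b1) * b2 * c1 * c2 := by group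
    _ = a1 * (b1 * a2) * b2 * c1 * c2 := by rw [h1]
    _ = a1 * b1 * a2 * (b2 * c1) * c2 := by group
    _ = a1 * b1 * a2 * (c1 * b2) * c2 := by rw [h3]
    _ = a1 * b1 * (a2 * c1) * b2 * c2 := by group
    _ = a1 * b1 * (c1 * a2) * b2 * c2 := by rw [h2]
    _ = (a1 * b1 * c1) * (a2 * b2 * c2) := by group

section I

variable {K : Type u} [Field K] [Fintype K] (q : ℕ)

/-- `(s + t) ^ (q ^ 2) = s ^ (q ^ 2) + t ^ (q ^ 2)` -/
theorem tdmi1_frob2_add (hq : IsPrimePow q) (hK : Fintype.card K = q ^ 3) (s t : K) :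
    (s + t) ^ (q ^ 2) = s ^ (q ^ 2) + t ^ (q ^ 2) := by
  rw [pow_two, pow_mul, pow_mul, pow_mul, frob_add q hq hK, frob_add q hq hK]

/-- **I1** [S-M] (all three).  `frob_add`, `frob_neg`; `X_add` (`h8xU_add`); the three factors of each product commute (`td4vc_c_13_18`, `td4vc_c_12_18`, `td4vc_c_12_13`, … in helper23.TD4VComm0-3:
no sums among `18 13 12`, among `19 16 15`, among `20 21 17`). -/
theorem Xa_add (hq : IsPrimePow q) (hK : Fintype.card K = q ^ 3) (s t : K) :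
    Xa q (s + t) = Xa q s * Xa q t := by
  unfold Xa XA
  rw [frob_add q hq hK, tdmi1_frob2_add q hq hK, ← td4vc_add 18 (by norm_num), ← td4vc_add 13 (by norm_num),
    ← td4vc_add 12 (by norm_num)]
  exact tdmi1_six _ _ _ _ _ _ (td4vc_c_13_18 _ _) (td4vc_c_12_18 _ _) (td4vc_c_12_13 _ _)

theorem Xab_add (hq : IsPrimePow q) (hK : Fintype.card K = q ^ 3) (s t : K) :
    Xab q (s + t) = Xab q s * Xab q t := by
  unfold Xab XAB
  rw [frob_add q hq hK, tdmi1_frob2_add q hq hK, neg_add, neg_add, ← td4vc_add 19 (by norm_num),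
    ← td4vc_add 16 (by norm_num), ← td4vc_add 15 (by norm_num)]
  exact tdmi1_six _ _ _ _ _ _ (td4vc_c_16_19 _ _) (td4vc_c_15_19 _ _) (td4vc_c_15_16 _ _)

theorem X2ab_add (hq : IsPrimePow q) (hK : Fintype.card K = q ^ 3) (s t : K) :
    X2ab q (s + t) = X2ab q s * X2ab q t := by
  unfold X2ab X2AB
  rw [frob_add q hq hK, tdmi1_frob2_add q hq hK, neg_add, ← td4vc_add 20 (by norm_num),
    ← td4vc_add 21 (by norm_num), ← td4vc_add 17 (by norm_num)]
  exact tdmi1_six _ _ _ _ _ _ (td4vc_c_21_20 _ _) (td4vc_c_17_20 _ _) (td4vc_c_17_21 _ _)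

end I

end Cfsg.Agent.Lib.helper8.TDM
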