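import Mathlib
import Cfsg.Agent.Lib.helper8.TDM.Defs
import Cfsg.Agent.Lib.Helper10.TD4VE4b

/-!
# Project TDM = S2192 (designer helper8), row I10 (helper22), VERBATIM: the Weyl elements `n_w`, `nb`, `nJ` on the long root elements.
-/

set_option autoImplicit false

namespace Cfsg.Agent.Lib.helper8.TDM

open Cfsg.Lie Cfsg.Lie.ChevalleyDatum Matrix
open Cfsg.Agent.Lib.helper8 Cfsg.Agent.Lib.helper8.TD4
open Cfsg.Agent.Lib.helper23.TD4V

universe u

/-- the words `h8odW k` are words in the simple reflections -/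
theorem tdmi10_odW_lt (k : ℕ) (hk : k < 12) : ∀ i ∈ h8odW k, i < chevD4.rank := by
  interval_cases k <;> decide

/-- `n_w` conjugates `x_s(c)` to `x_{s'}(± c)`, `s' = w s` -/
theorem tdmi10_act {K : Type u} [Field K] (w : List ℕ) (hw : ∀ i ∈ w, i < chevD4.rank) (s s' : ℕ)
    (hs : s < chevD4.nroots) (h : h8sW chevD4 w s = s') :
    ∃ ε : K, (ε = 1 ∨ ε = -1) ∧ ∀ c : K, (h8nWU chevD4 hB w : GG K) * X s c *
      (h8nWU chevD4 hB w : GG K)⁻¹ = X s' (ε * c) := by
  obtain ⟨ε, hε, h1, -⟩ := td4ve4_act (K := K) w hw s hs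
  rw [h] at h1
  exact ⟨ε, hε, h1⟩

section I

variable {K : Type u} [Field K] [Fintype K] (q : ℕ)

/-- **I10** [S-M] (all three).  `td4ve4_act` (Helper10.TD4VE4b) with `w = h8odW k` / `[1]` (`td4ve4_nb_eq`) / `[0,2,3]`; `h8sW chevD4 w r` by `decide`; for the negative roots use the second part (`negIdx`). -/
theorem nk_X23 (k : ℕ) (hk : k < 12) :
    ∃ ε : K, (ε = 1 ∨ ε = -1) ∧ ∀ c : K, (h8nWU chevD4 hB (h8odW k) : GG K) * X 23 c *
      (h8nWU chevD4 hB (h8odW k) : GG K)⁻¹ = X (h8sW chevD4 (h8odW k) 23) (ε * c) := by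
  exact tdmi10_act (h8odW k) (tdmi10_odW_lt k hk) 23 _ (by decide) rfl

theorem nb_X (p : ℕ × ℕ) (hp : p ∈ [(22, 23), (23, 22), (9, 14), (0, 1), (14, 9), (1, 0)]) :
    ∃ ε : K, (ε = 1 ∨ ε = -1) ∧ ∀ c : K, (nb : GG K) * X p.1 c * nb⁻¹ = X p.2 (ε * c) := by
  rw [td4ve4_nb_eq]
  have hw : ∀ i ∈ [1], i < chevD4.rank := by decide
  simp only [List.mem_cons, List.not_mem_nil, or_false] at hp
  rcases hp with rfl | rfl | rfl | rfl | rfl | rfl
  · exact tdmi10_act [1] hw 22 23 (by decide) (by decide)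
  · exact tdmi10_act [1] hw 23 22 (by decide) (by decide)
  · exact tdmi10_act [1] hw 9 14 (by decide) (by decide)
  · exact tdmi10_act [1] hw 0 1 (by decide) (by decide)
  · exact tdmi10_act [1] hw 14 9 (by decide) (by decide)
  · exact tdmi10_act [1] hw 1 0 (by decide) (by decide)

theorem nJ_X (p : ℕ × ℕ) (hp : p ∈ [(14, 22), (22, 14), (23, 23), (9, 1), (1, 9), (0, 0)]) :
    ∃ ε : K, (ε = 1 ∨ ε = -1) ∧ ∀ c : K, (nJ : GG K) * X p.1 c * nJ⁻¹ = X p.2 (ε * c) := by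
  have hw : ∀ i ∈ [0, 2, 3], i < chevD4.rank := by decide
  simp only [List.mem_cons, List.not_mem_nil, or_false] at hp
  unfold nJ
  rcases hp with rfl | rfl | rfl | rfl | rfl | rfl
  · exact tdmi10_act [0, 2, 3] hw 14 22 (by decide) (by decide)
  · exact tdmi10_act [0, 2, 3] hw 22 14 (by decide) (by decide)
  · exact tdmi10_act [0, 2, 3] hw 23 23 (by decide) (by decide)
  · exact tdmi10_act [0, 2, 3] hw 9 1 (by decide) (by decide)
  · exact tdmi10_act [0, 2, 3] hw 1 9 (by decide) (by decide)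
  · exact tdmi10_act [0, 2, 3] hw 0 0 (by decide) (by decide)

end I

end Cfsg.Agent.Lib.helper8.TDM
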