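import Mathlib
import Cfsg.Agent.Lib.Helper22.TEMA6core
import Cfsg.Agent.Lib.Helper29.TEMA2
import Cfsg.Agent.Lib.Helper29.TEMA3
import Cfsg.Agent.Lib.Helper16.TEMC2
import Cfsg.Agent.Lib.Helper21.TEMC5
import Cfsg.Agent.Lib.Helper27.TEMP3
import Cfsg.Agent.Lib.helper15.TEMG3
import Cfsg.Agent.Lib.helper4.TEMR2

/-!
# Project TEM = S2191 (designer helper10), row A6 (helper22), VERBATIM: `u X a s u⁻¹ ∈ H` for the six long roots `a` orthogonal to `ρ`.
-/

set_option autoImplicit false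

namespace Cfsg.Agent.Lib.Helper10.TEM

open Cfsg.Lie Cfsg.Lie.ChevalleyDatum Matrix
open Cfsg.Agent.Lib.helper8

universe u

variable {K : Type u} [Field K] {q : ℕ} {f : K ≃+* K} {M H : Subgroup (GG K)}

-- ROW A6  [M]  (core on the statements of the cited rows)
theorem lemA_long (C : Ctx q f M H) (u : GG K) (hu : u ∈ UPsi K Psi1 ⊓ twistedE6 K q)
    (hconj : ∀ c : K, c ^ q = c → u * X 0 c * u⁻¹ ∈ H) :
    ∀ a ∈ [11, 27, 32, 39, 44, 60], ∀ s : K, s ^ q = s → u * X a s * u⁻¹ ∈ H :=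
  tema6_core C (fun b b' h => nrho_act b b' h) (fun b b' a h => comm_long b b' a h)
    (fun g hg c => comm_pairs Psi1 71 (by decide) g hg c)
    (fun g hg h hh => Q_comm g hg h hh)
    (fun g hg => one_rat C.hF 71 (by decide) g hg)
    (fun r hr hσ t ht => X_mem_G1 C.hF r hr hσ t ht)
    (fun r t ht => rat_X C.hF r t ht) u hu hconj

end Cfsg.Agent.Lib.Helper10.TEM
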