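import Cfsg.Agent.Lib.helper7.TO.Basic
import Cfsg.Agent.Lib.Helper21.TPC1

/-!
# Project TO (S5704, leader helper7), piece CLEM (helper22) :
`scalar_of_HB_mem_K0` (CLEM) and `scalar_of_EL_mem_K0` (KLEM), VERBATIM vs `helper7/TO/Skel`.
-/

set_option autoImplicit false
set_option linter.unusedVariables false
set_option linter.unusedSectionVars false

namespace Cfsg.Agent.Lib.helper7.TO

open Matrix Cfsg.Agent.Lib.helper7.TP Cfsg.Agent.Lib.Helper28.SympAbs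
open scoped Kronecker

variable {a b : ℕ} {F : Type*} [Field F]

/-- `z ⊗ w = x ⊗ y`, `w ≠ 0` : `z` is a multiple of `x`. -/
theorem toclem_ten_eq {z x : Fin a → F} {w y : Fin b → F} (hw : w ≠ 0)
    (h : ten z w = ten x y) : ∃ c : F, z = c • x := by
  obtain ⟨j, hj⟩ := Function.ne_iff.1 hw
  simp only [Pi.zero_apply] at hj
  refine ⟨y j / w j, ?_⟩
  funext i
  have h1 := congrFun h (i, j)
  simp only [ten] at h1
  rw [Pi.smul_apply, smul_eq_mul]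
  field_simp
  linear_combination h1

/-- a covector killing `w` and not `n`, for `n ∉ F w`. -/
theorem toclem_covec (w n : Fin b → F) (hw : w ≠ 0) (hn : ∀ l : F, n ≠ l • w) :
    ∃ r : Fin b → F, r ⬝ᵥ w = 0 ∧ r ⬝ᵥ n ≠ 0 := by
  classical
  obtain ⟨j, hj⟩ := Function.ne_iff.1 hw
  simp only [Pi.zero_apply] at hj
  by_contra hcon
  push Not at hcon
  apply hn (n j / w j)
  funext i
  have h1 := hcon (Pi.single i 1 - (w i / w j) • Pi.single j 1) (by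
    rw [sub_dotProduct, smul_dotProduct, single_dotProduct, single_dotProduct, one_mul, one_mul,
      smul_eq_mul, div_mul_cancel₀ _ hj, sub_self])
  rw [sub_dotProduct, smul_dotProduct, single_dotProduct, single_dotProduct, one_mul, one_mul,
    smul_eq_mul, sub_eq_zero] at h1
  rw [Pi.smul_apply, smul_eq_mul, h1]
  field_simp

/-- the key: an element of `K0` with `h (x ⊗ y₀) = x ⊗ y₀ + Z x ⊗ w'` for all `x`, where a covector
separates `y₀` from `w' ≠ 0`, has `Z` scalar. -/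
theorem toclem_key (h : Matrix.GeneralLinearGroup (Fin a × Fin b) F) (hK : h ∈ K0 a b F)
    (Z : Matrix (Fin a) (Fin a) F) (w' y₀ ψ : Fin b → F) (hw' : w' ≠ 0)
    (hψ1 : ψ ⬝ᵥ y₀ ≠ 0) (hψ2 : ψ ⬝ᵥ w' = 0)
    (hh : ∀ x : Fin a → F,
      (h : Matrix (Fin a × Fin b) (Fin a × Fin b) F) *ᵥ ten x y₀ = ten x y₀ + ten (Z *ᵥ x) w') :
    ∃ s : F, Z = s • (1 : Matrix (Fin a) (Fin a) F) := by
  classical
  by_cases ha : a = 0
  · subst ha
    exact ⟨0, Subsingleton.elim _ _⟩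
  have ha1 : 1 ≤ a := Nat.one_le_iff_ne_zero.mpr ha
  obtain ⟨α, β, hαβ⟩ := (mem_K0 h).1 hK
  apply tpc1_scalar_of_all_eigen ha1
  intro x
  by_cases hx : x = 0
  · exact ⟨0, by rw [hx, Matrix.mulVec_zero, smul_zero]⟩
  have h1 := hh x
  rw [hαβ, kron_mulVec_ten] at h1
  -- contract with ψ
  have h2 := congrArg (ctr ψ) h1
  rw [ctr_add, ctr_ten, ctr_ten, ctr_ten, hψ2, zero_smul, add_zero] at h2
  set d := ψ ⬝ᵥ y₀ with hd
  set c' := ψ ⬝ᵥ (β : Matrix (Fin b) (Fin b) F) *ᵥ y₀ with hc'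
  have hc'0 : c' ≠ 0 := by
    intro h0
    rw [h0, zero_smul] at h2
    exact hx ((smul_eq_zero.1 h2.symm).resolve_left hψ1)
  have hαx : (α : Matrix (Fin a) (Fin a) F) *ᵥ x = (d / c') • x := by
    rw [div_eq_inv_mul, ← smul_smul, ← h2, smul_smul, inv_mul_cancel₀ hc'0, one_smul]
  rw [hαx, ten_smul_left, ← ten_smul_right] at h1
  have h3 : ten (Z *ᵥ x) w' =
      ten x ((d / c') • (β : Matrix (Fin b) (Fin b) F) *ᵥ y₀ - y₀) := by
    rw [ten_sub_right, h1]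
    abel
  exact toclem_ten_eq hw' h3

/-- CLEM: an element of `K0` of the shape `IsHB` has `Z` scalar. -/
theorem scalar_of_HB_mem_K0 (C : Ctx a b F) (h : Matrix.GeneralLinearGroup (Fin a × Fin b) F)
    (hK : h ∈ K0 a b F) (Z Zs κ : Matrix (Fin a) (Fin a) F) (w n : Fin b → F) (hw : w ≠ 0)
    (hn : ∀ l : F, n ≠ l • w) (hwn : C.f₂ w n = 0) (hh : C.IsHB h Z Zs κ w n) :
    ∃ s : F, Z = s • (1 : Matrix (Fin a) (Fin a) F) := by
  obtain ⟨r, hr1, hr2⟩ := toclem_covec w n hw hn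
  obtain ⟨y₀, hy₀⟩ := rho_surj C.hf₂ r
  -- `f₂ x y₀ = r · x`
  have h1 : C.f₂ y₀ w = 0 := by rw [C.hf₂.skew, hy₀, hr1, neg_zero]
  have h2 : C.f₂ y₀ n ≠ 0 := by
    rw [C.hf₂.skew, hy₀]
    exact neg_ne_zero.mpr hr2
  set d := C.f₂ y₀ n with hd
  have hdw : d • w ≠ 0 := smul_ne_zero h2 hw
  apply toclem_key h hK Z (d • w) y₀ (C.fl₂ n) hdw
  · rw [C.fl₂_dot]; exact h2
  · rw [dotProduct_smul, C.fl₂_dot, hwn, smul_zero]
  · intro x
    rw [hh x y₀, h1, zero_smul, zero_smul, add_zero, add_zero, ten_smul_right]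

/-- KLEM: an element `1 + κ ⊗ w w*` of `K0` has `κ` scalar. -/
theorem scalar_of_EL_mem_K0 (C : Ctx a b F) (h : Matrix.GeneralLinearGroup (Fin a × Fin b) F)
    (hK : h ∈ K0 a b F) (κ : Matrix (Fin a) (Fin a) F) (w : Fin b → F) (hw : w ≠ 0)
    (hh : (h : Matrix (Fin a × Fin b) (Fin a × Fin b) F) = ELm κ w (C.fl₂ w)) :
    ∃ s : F, κ = s • (1 : Matrix (Fin a) (Fin a) F) := by
  obtain ⟨y₁, hy₁⟩ := (C.hf₂.nondegenerate w hw).1
  -- normalise `f₂ y₀ w = 1`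
  set y₀ := (C.f₂ y₁ w)⁻¹ • y₁ with hy₀
  have h1 : C.f₂ y₀ w = 1 := by
    rw [hy₀, C.hf₂.bilinear.smul_left, inv_mul_cancel₀ hy₁]
  apply toclem_key h hK κ w y₀ (C.fl₂ w) hw
  · rw [C.fl₂_dot, h1]; exact one_ne_zero
  · exact C.fl₂_self w
  · intro x
    rw [hh, ELm_mulVec, C.ctr_fl₂_ten, h1, one_smul]

end Cfsg.Agent.Lib.helper7.TO
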