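import Cfsg.Agent.Lib.Helper21.TOO.LDefs
import Cfsg.Agent.Lib.Helper21.TOO.LG1
import Cfsg.Agent.Lib.helper15.TOSTABBa
import Cfsg.Agent.Lib.Helper13.TOOGA6

/-!
# Project TOO, LOCAL block, row LS1 (`stabPt_of_unip`), part (a): helper lemmas

Port of `helper15.TOSTABBa` (project TO) to the orthogonal setting: the covector of `m ∈ B` is `m ᵥ* J2`
(`(m ᵥ* J2) ⬝ᵥ y = bf J2 m y`), general-vector formula for `1 ⊗ ρ_{w,m}`, contraction of the tensor form against a pure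
tensor, the perpendicular space of `A ⊗ w`.
-/

set_option autoImplicit false
set_option linter.unusedVariables false
set_option linter.unusedSectionVars false

namespace Cfsg.Agent.Lib.Helper28.TOO

open Matrix
open scoped Kronecker
open Cfsg.Agent.Lib.helper7.TP Cfsg.Agent.Lib.Helper21.TS

variable {a b : ℕ} {F : Type*} [Field F]
  {J1 : Matrix (Fin a) (Fin a) F} {J2 : Matrix (Fin b) (Fin b) F}

/-- the covector of `m`: `(m ᵥ* J) ⬝ᵥ y = bf J m y`. -/
theorem tools1_fl_dot {ι : Type*} [Fintype ι] (J : Matrix ι ι F) (m y : ι → F) :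
    (m ᵥ* J) ⬝ᵥ y = bf J m y := by
  rw [bf, Matrix.dotProduct_mulVec]

theorem tools1_ctr_fl_ten (J2 : Matrix (Fin b) (Fin b) F) (n : Fin b → F) (x : Fin a → F)
    (y : Fin b → F) : ctr (n ᵥ* J2) (ten x y) = bf J2 n y • x := by
  rw [ctr_ten, tools1_fl_dot]

theorem tools1_inv_mulVec {ι : Type*} [Fintype ι] [DecidableEq ι]
    (g : Matrix.GeneralLinearGroup ι F) (v : ι → F) :
    ((g⁻¹ : Matrix.GeneralLinearGroup ι F) : Matrix ι ι F) *ᵥ ((g : Matrix ι ι F) *ᵥ v) = v := by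
  rw [Matrix.mulVec_mulVec, ← Units.val_mul, inv_mul_cancel, Units.val_one, Matrix.one_mulVec]

theorem tools1_mulVec_inv {ι : Type*} [Fintype ι] [DecidableEq ι]
    (g : Matrix.GeneralLinearGroup ι F) (v : ι → F) :
    (g : Matrix ι ι F) *ᵥ (((g⁻¹ : Matrix.GeneralLinearGroup ι F) : Matrix ι ι F) *ᵥ v) = v := by
  rw [Matrix.mulVec_mulVec, ← Units.val_mul, mul_inv_cancel, Units.val_one, Matrix.one_mulVec]

theorem tools1_kron_sub (A : Matrix (Fin a) (Fin a) F) (B C : Matrix (Fin b) (Fin b) F) :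
    A ⊗ₖ (B - C) = A ⊗ₖ B - A ⊗ₖ C := by
  have h := Matrix.kronecker_add A (B - C) C
  rw [sub_add_cancel] at h
  exact eq_sub_of_add_eq h.symm

/-- `1 ⊗ ρ_{w,m}` on a general vector. -/
theorem tools1_kB_sieg_mulVec (J2 : Matrix (Fin b) (Fin b) F) (w m : Fin b → F)
    (v : Fin a × Fin b → F) :
    ((1 : Matrix (Fin a) (Fin a) F) ⊗ₖ sieg J2 w m) *ᵥ v =
      v + ten (ctr (m ᵥ* J2) v) w - ten (ctr (w ᵥ* J2) v) m
        - (bf J2 m m / 2) • ten (ctr (w ᵥ* J2) v) w := by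
  have key : (1 : Matrix (Fin a) (Fin a) F) ⊗ₖ sieg J2 w m =
      1 + (1 : Matrix (Fin a) (Fin a) F) ⊗ₖ Matrix.vecMulVec w (m ᵥ* J2)
        - (1 : Matrix (Fin a) (Fin a) F) ⊗ₖ Matrix.vecMulVec m (w ᵥ* J2)
        - (bf J2 m m / 2) • ((1 : Matrix (Fin a) (Fin a) F) ⊗ₖ Matrix.vecMulVec w (w ᵥ* J2)) := by
    rw [sieg, opm, opm, opm, tools1_kron_sub, tools1_kron_sub, Matrix.kronecker_add,
      Matrix.one_kronecker_one, Matrix.kronecker_smul]
  rw [key, Matrix.sub_mulVec, Matrix.sub_mulVec, Matrix.add_mulVec, Matrix.one_mulVec,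
    Matrix.smul_mulVec, kron_vecMulVec_mulVec, kron_vecMulVec_mulVec, kron_vecMulVec_mulVec,
    Matrix.one_mulVec, Matrix.one_mulVec]

/-- the tensor form against a pure tensor. -/
theorem tools1_bf_ten_right (hJ2 : J2ᵀ = J2) (V : Fin a × Fin b → F) (u : Fin a → F)
    (w : Fin b → F) :
    bf (JV J1 J2) V (ten u w) = bf J1 (ctr (w ᵥ* J2) V) u := by
  rw [tooga6_bf_ten_right]
  congr 1
  funext i
  rw [bf_symm hJ2, bf, Matrix.dotProduct_mulVec]
  simp only [ctr, dotProduct]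
  apply Finset.sum_congr rfl
  intro j _
  ring

/-- `(A ⊗ w)^⊥ = {Y | ctr (w ᵥ* J2) Y = 0}`. -/
theorem tools1_perp_Bline_iff (hJ2 : J2ᵀ = J2) (hdet1 : J1.det ≠ 0) (Y : Fin a × Fin b → F)
    (w : Fin b → F) :
    (∀ x : Fin a → F, bf (JV J1 J2) Y (ten x w) = 0) ↔ ctr (w ᵥ* J2) Y = 0 := by
  constructor
  · intro h
    by_contra hne
    obtain ⟨y, hy⟩ := bf_nondeg hdet1 hne
    apply hy
    rw [← tools1_bf_ten_right hJ2]
    exact h y
  · intro h x
    rw [tools1_bf_ten_right hJ2, h, bf_zero_left]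

end Cfsg.Agent.Lib.Helper28.TOO
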