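import Cfsg.Agent.Lib.Helper22.TOOLS1a
import Cfsg.Agent.Lib.helper6.TOOLG4

/-!
# Project TOO, LOCAL block, row LS1 (`stabPt_of_unip`), part (b): the similitude `μ`

Port of `helper15.TOSTABBb`.  `g ∈ M` with `g (x ⊗ w) = μ x ⊗ w`.  Conjugating the elements `1 ⊗ ρ_{w,m}` (`m ∈ w^⊥`) by `g`
and applying `Unip` one gets the structure of `g` on `A ⊗ w^⊥` modulo `A ⊗ w`, then `κ f₁(μ x', μ x) = f₁(x', x)` and
`ctr (w ᵥ* J2) (g (x ⊗ y)) = κ f₂(w, y) μ x`.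
-/

set_option autoImplicit false
set_option linter.unusedVariables false
set_option linter.unusedSectionVars false

namespace Cfsg.Agent.Lib.Helper28.TOO

open Matrix
open scoped Kronecker
open Cfsg.Agent.Lib.helper7.TP Cfsg.Agent.Lib.Helper21.TS

variable {a b : ℕ} {F : Type*} [Field F]
  {J1 : Matrix (Fin a) (Fin a) F} {J2 : Matrix (Fin b) (Fin b) F}

theorem tools1_ten_sub_right (u : Fin a → F) (y y' : Fin b → F) :
    ten u (y - y') = ten u y - ten u y' := by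
  funext p; simp [ten, mul_sub]

theorem tools1_kB_mem_T1 {β : Matrix.GeneralLinearGroup (Fin b) F} (h : β ∈ Om J2) :
    Cfsg.Agent.Lib.helper7.TO.kB a b F β ∈ T1 J1 J2 :=
  (le_sup_right : _ ≤ T1 J1 J2) (Subgroup.mem_map_of_mem _ h)

theorem tools1_kA_mem_T1 {α : Matrix.GeneralLinearGroup (Fin a) F} (h : α ∈ Om J1) :
    Cfsg.Agent.Lib.helper7.TO.kA a b F α ∈ T1 J1 J2 :=
  (le_sup_left : _ ≤ T1 J1 J2) (Subgroup.mem_map_of_mem _ h)

/-- the data of STAB(points) after the reduction `w' = w`. -/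
structure tools1_S (J1 : Matrix (Fin a) (Fin a) F) (J2 : Matrix (Fin b) (Fin b) F)
    (M : Subgroup (Matrix.GeneralLinearGroup (Fin a × Fin b) F))
    (g : Matrix.GeneralLinearGroup (Fin a × Fin b) F) (w : Fin b → F)
    (μ : Matrix.GeneralLinearGroup (Fin a) F) : Prop where
  C : OCtx J1 J2
  hT : T1 J1 J2 ≤ M
  hM : M ≤ OV J1 J2
  hU : Unip J2 M
  hg : g ∈ M
  hw : w ≠ 0
  hww : bf J2 w w = 0
  hμ : ∀ u : Fin a → F,
    (g : Matrix (Fin a × Fin b) (Fin a × Fin b) F) *ᵥ ten u w = ten ((μ : Matrix (Fin a) (Fin a) F) *ᵥ u) w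

namespace tools1_S

variable {M : Subgroup (Matrix.GeneralLinearGroup (Fin a × Fin b) F)}
  {g : Matrix.GeneralLinearGroup (Fin a × Fin b) F} {w : Fin b → F}
  {μ : Matrix.GeneralLinearGroup (Fin a) F}

theorem gi_ten (S : tools1_S J1 J2 M g w μ) (u : Fin a → F) :
    ((g⁻¹ : Matrix.GeneralLinearGroup (Fin a × Fin b) F) :
      Matrix (Fin a × Fin b) (Fin a × Fin b) F) *ᵥ ten u w =
      ten (((μ⁻¹ : Matrix.GeneralLinearGroup (Fin a) F) : Matrix (Fin a) (Fin a) F) *ᵥ u) w := by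
  have h := S.hμ (((μ⁻¹ : Matrix.GeneralLinearGroup (Fin a) F) : Matrix (Fin a) (Fin a) F) *ᵥ u)
  rw [tools1_mulVec_inv] at h
  rw [← h, tools1_inv_mulVec]

theorem iso (S : tools1_S J1 J2 M g w μ) (v v' : Fin a × Fin b → F) :
    bf (JV J1 J2) ((g : Matrix (Fin a × Fin b) (Fin a × Fin b) F) *ᵥ v)
      ((g : Matrix (Fin a × Fin b) (Fin a × Fin b) F) *ᵥ v') = bf (JV J1 J2) v v' :=
  (mem_Iso_iff_bf (JV J1 J2) g).1 (S.hM S.hg) v v'

/-- `g` preserves `(A ⊗ w)^⊥ = A ⊗ w^⊥`. -/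
theorem perp (S : tools1_S J1 J2 M g w μ) (Y : Fin a × Fin b → F) (hY : ctr (w ᵥ* J2) Y = 0) :
    ctr (w ᵥ* J2) ((g : Matrix (Fin a × Fin b) (Fin a × Fin b) F) *ᵥ Y) = 0 := by
  rw [← tools1_perp_Bline_iff S.C.sym2 S.C.det1]
  intro x
  have h := S.hμ (((μ⁻¹ : Matrix.GeneralLinearGroup (Fin a) F) : Matrix (Fin a) (Fin a) F) *ᵥ x)
  rw [tools1_mulVec_inv] at h
  rw [← h, S.iso]
  exact (tools1_perp_Bline_iff S.C.sym2 S.C.det1 Y w).2 hY _

/-- Step 1: for `m ∈ w^⊥`, `Unip` applied to `g⁻¹ (1 ⊗ ρ_{w,m}) g`. -/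
theorem L1 (S : tools1_S J1 J2 M g w μ) (ws : Fin b → F) (hws : bf J2 w ws = 1) (m : Fin b → F)
    (hm : bf J2 w m = 0) :
    ∃ (n₀ : Fin b → F) (Z : (Fin a → F) → (Fin a → F)), bf J2 w n₀ = 0 ∧
      (∀ x : Fin a → F, (g : Matrix (Fin a × Fin b) (Fin a × Fin b) F) *ᵥ ten x n₀ =
        ten (ctr (w ᵥ* J2) ((g : Matrix (Fin a × Fin b) (Fin a × Fin b) F) *ᵥ ten x ws)) m +
          ten (Z x) w) ∧
      (∀ n : Fin b → F, bf J2 w n = 0 → ∀ x : Fin a → F,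
        ctr (m ᵥ* J2) ((g : Matrix (Fin a × Fin b) (Fin a × Fin b) F) *ᵥ ten x n) =
          bf J2 n₀ n • ((μ : Matrix (Fin a) (Fin a) F) *ᵥ x)) := by
  have hmw : bf J2 m w = 0 := by rw [bf_symm S.C.sym2]; exact hm
  obtain ⟨β, hβO, hβ⟩ := sieg_mem_Om S.C.sym2 S.C.two S.C.det2 S.hww hm
  obtain ⟨σ, hσ⟩ : ∃ σ : Matrix.GeneralLinearGroup (Fin a × Fin b) F,
      σ = Cfsg.Agent.Lib.helper7.TO.kB a b F β := ⟨_, rfl⟩
  have hσM : σ ∈ M := by
    rw [hσ]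
    exact S.hT (tools1_kB_mem_T1 hβO)
  have hσv : ∀ v : Fin a × Fin b → F,
      (σ : Matrix (Fin a × Fin b) (Fin a × Fin b) F) *ᵥ v =
        v + ten (ctr (m ᵥ* J2) v) w - ten (ctr (w ᵥ* J2) v) m
          - (bf J2 m m / 2) • ten (ctr (w ᵥ* J2) v) w := by
    intro v
    rw [hσ, Cfsg.Agent.Lib.helper7.TO.kB_coe, hβ]
    exact tools1_kB_sieg_mulVec J2 w m v
  obtain ⟨h, hh⟩ : ∃ h : Matrix.GeneralLinearGroup (Fin a × Fin b) F, h = g⁻¹ * σ * g := ⟨_, rfl⟩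
  have hhM : h ∈ M := by
    rw [hh]
    exact M.mul_mem (M.mul_mem (M.inv_mem S.hg) hσM) S.hg
  have hhv : ∀ X : Fin a × Fin b → F,
      (g : Matrix (Fin a × Fin b) (Fin a × Fin b) F) *ᵥ
        ((h : Matrix (Fin a × Fin b) (Fin a × Fin b) F) *ᵥ X) =
      (σ : Matrix (Fin a × Fin b) (Fin a × Fin b) F) *ᵥ
        ((g : Matrix (Fin a × Fin b) (Fin a × Fin b) F) *ᵥ X) := by
    intro X
    rw [hh, Units.val_mul, Units.val_mul, ← Matrix.mulVec_mulVec, ← Matrix.mulVec_mulVec,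
      tools1_mulVec_inv]
  have hhv' : ∀ X : Fin a × Fin b → F,
      (h : Matrix (Fin a × Fin b) (Fin a × Fin b) F) *ᵥ X =
      ((g⁻¹ : Matrix.GeneralLinearGroup (Fin a × Fin b) F) :
        Matrix (Fin a × Fin b) (Fin a × Fin b) F) *ᵥ
        ((σ : Matrix (Fin a × Fin b) (Fin a × Fin b) F) *ᵥ
          ((g : Matrix (Fin a × Fin b) (Fin a × Fin b) F) *ᵥ X)) := by
    intro X
    rw [← hhv, tools1_inv_mulVec]
  -- the hypotheses of `Unip`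
  have h1 : ∀ x : Fin a → F,
      (h : Matrix (Fin a × Fin b) (Fin a × Fin b) F) *ᵥ ten x w = ten x w := by
    intro x
    rw [hhv', S.hμ, hσv, tools1_ctr_fl_ten, tools1_ctr_fl_ten, hmw, S.hww, zero_smul,
      tpns_ten_zero_left, tpns_ten_zero_left, smul_zero, add_zero, sub_zero, sub_zero, S.gi_ten,
      tools1_inv_mulVec]
  have h2 : ∀ n : Fin b → F, bf J2 w n = 0 → ∀ x : Fin a → F, ∃ x' : Fin a → F,
      (h : Matrix (Fin a × Fin b) (Fin a × Fin b) F) *ᵥ ten x n = ten x n + ten x' w := by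
    intro n hn x
    have hY : ctr (w ᵥ* J2) ((g : Matrix (Fin a × Fin b) (Fin a × Fin b) F) *ᵥ ten x n) = 0 := by
      apply S.perp
      rw [tools1_ctr_fl_ten, hn, zero_smul]
    refine ⟨((μ⁻¹ : Matrix.GeneralLinearGroup (Fin a) F) : Matrix (Fin a) (Fin a) F) *ᵥ
      ctr (m ᵥ* J2) ((g : Matrix (Fin a × Fin b) (Fin a × Fin b) F) *ᵥ ten x n), ?_⟩
    rw [hhv', hσv, hY, tpns_ten_zero_left, tpns_ten_zero_left, smul_zero, sub_zero, sub_zero,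
      Matrix.mulVec_add,
      tools1_inv_mulVec, S.gi_ten]
  obtain ⟨n₀, hn₀, hHB⟩ := S.hU h hhM w S.hw S.hww ⟨h1, h2⟩
  have hn₀w : bf J2 n₀ w = 0 := by rw [bf_symm S.C.sym2]; exact hn₀
  -- the relation (A)
  have hA : ∀ (x : Fin a → F) (y : Fin b → F),
      ten (ctr (m ᵥ* J2) ((g : Matrix (Fin a × Fin b) (Fin a × Fin b) F) *ᵥ ten x y)) w -
        ten (ctr (w ᵥ* J2) ((g : Matrix (Fin a × Fin b) (Fin a × Fin b) F) *ᵥ ten x y)) m -
        (bf J2 m m / 2) •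
          ten (ctr (w ᵥ* J2) ((g : Matrix (Fin a × Fin b) (Fin a × Fin b) F) *ᵥ ten x y)) w =
      (bf J2 n₀ y - bf J2 n₀ n₀ / 2 * bf J2 w y) • ten ((μ : Matrix (Fin a) (Fin a) F) *ᵥ x) w -
        bf J2 w y • ((g : Matrix (Fin a × Fin b) (Fin a × Fin b) F) *ᵥ ten x n₀) := by
    intro x y
    have e1 := hhv (ten x y)
    rw [hHB, kron_mulVec_ten, Matrix.one_mulVec, sieg_mulVec, hσv] at e1
    simp only [tools1_ten_sub_right, ten_add_right, ten_smul_right, Matrix.mulVec_add,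
      Matrix.mulVec_sub, Matrix.mulVec_smul, S.hμ] at e1
    have e2 : (g : Matrix (Fin a × Fin b) (Fin a × Fin b) F) *ᵥ ten x y +
        (ten (ctr (m ᵥ* J2) ((g : Matrix (Fin a × Fin b) (Fin a × Fin b) F) *ᵥ ten x y)) w -
        ten (ctr (w ᵥ* J2) ((g : Matrix (Fin a × Fin b) (Fin a × Fin b) F) *ᵥ ten x y)) m -
        (bf J2 m m / 2) •
          ten (ctr (w ᵥ* J2) ((g : Matrix (Fin a × Fin b) (Fin a × Fin b) F) *ᵥ ten x y)) w) =
        (g : Matrix (Fin a × Fin b) (Fin a × Fin b) F) *ᵥ ten x y +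
        ((bf J2 n₀ y - bf J2 n₀ n₀ / 2 * bf J2 w y) • ten ((μ : Matrix (Fin a) (Fin a) F) *ᵥ x) w -
        bf J2 w y • ((g : Matrix (Fin a × Fin b) (Fin a × Fin b) F) *ᵥ ten x n₀)) := by
      have e3 : ∀ A B C D : Fin a × Fin b → F, A + (B - C - D) = A + B - C - D := by
        intro A B C D; abel
      rw [e3, ← e1]
      module
    exact add_left_cancel e2
  refine ⟨n₀, fun x => -ctr (m ᵥ* J2) ((g : Matrix (Fin a × Fin b) (Fin a × Fin b) F) *ᵥ ten x ws) +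
      (bf J2 m m / 2) • ctr (w ᵥ* J2) ((g : Matrix (Fin a × Fin b) (Fin a × Fin b) F) *ᵥ ten x ws) +
      (bf J2 n₀ ws - bf J2 n₀ n₀ / 2) • ((μ : Matrix (Fin a) (Fin a) F) *ᵥ x), hn₀, ?_, ?_⟩
  · intro x
    have e := hA x ws
    rw [hws, mul_one, one_smul] at e
    rw [ten_add_left, ten_add_left, tpns_ten_neg_left, ten_smul_left, ten_smul_left]
    have e' : (g : Matrix (Fin a × Fin b) (Fin a × Fin b) F) *ᵥ ten x n₀ =
        (bf J2 n₀ ws - bf J2 n₀ n₀ / 2) • ten ((μ : Matrix (Fin a) (Fin a) F) *ᵥ x) w -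
        (ten (ctr (m ᵥ* J2) ((g : Matrix (Fin a × Fin b) (Fin a × Fin b) F) *ᵥ ten x ws)) w -
        ten (ctr (w ᵥ* J2) ((g : Matrix (Fin a × Fin b) (Fin a × Fin b) F) *ᵥ ten x ws)) m -
        (bf J2 m m / 2) •
          ten (ctr (w ᵥ* J2) ((g : Matrix (Fin a × Fin b) (Fin a × Fin b) F) *ᵥ ten x ws)) w) := by
      rw [e]; abel
    rw [e']
    abel
  · intro n hn x
    have e := hA x n
    have hY : ctr (w ᵥ* J2) ((g : Matrix (Fin a × Fin b) (Fin a × Fin b) F) *ᵥ ten x n) = 0 := by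
      apply S.perp
      rw [tools1_ctr_fl_ten, hn, zero_smul]
    rw [hY, tpns_ten_zero_left, tpns_ten_zero_left, smul_zero, sub_zero, sub_zero, hn, mul_zero,
      sub_zero, zero_smul,
      sub_zero, ← ten_smul_left] at e
    exact tpns_ten_left_inj e S.hw

/-- Step 2: `μ` is a similitude of `J1`. -/
theorem sim (S : tools1_S J1 J2 M g w μ) (ha : 1 ≤ a) (hb : 5 ≤ b) (ws : Fin b → F)
    (hws : bf J2 w ws = 1) :
    ∃ κ : F, κ ≠ 0 ∧
      (∀ x : Fin a → F,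
        ctr (w ᵥ* J2) ((g : Matrix (Fin a × Fin b) (Fin a × Fin b) F) *ᵥ ten x ws) =
          κ • ((μ : Matrix (Fin a) (Fin a) F) *ᵥ x)) ∧
      (∀ x' x : Fin a → F,
        κ * bf J1 ((μ : Matrix (Fin a) (Fin a) F) *ᵥ x') ((μ : Matrix (Fin a) (Fin a) F) *ᵥ x) =
          bf J1 x' x) := by
  obtain ⟨m, hm, -, hmm⟩ := exists_nonsing_perp2 S.C.sym2 S.C.two S.C.det2
    (by rw [Fintype.card_fin]; exact hb) S.hw S.hww S.hww S.hww
  have hmw : bf J2 m w = 0 := by rw [bf_symm S.C.sym2]; exact hm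
  obtain ⟨n₀, Z, hn₀, hS7, hS5⟩ := S.L1 ws hws m hm
  have hP : ∀ x : Fin a → F,
      ctr (w ᵥ* J2) ((g : Matrix (Fin a × Fin b) (Fin a × Fin b) F) *ᵥ ten x ws) =
        (bf J2 n₀ n₀ / bf J2 m m) • ((μ : Matrix (Fin a) (Fin a) F) *ᵥ x) := by
    intro x
    have e := hS5 n₀ hn₀ x
    rw [hS7 x, ctr_add, ctr_ten, ctr_ten, tools1_fl_dot, tools1_fl_dot, hmw, zero_smul,
      add_zero] at e
    rw [div_eq_inv_mul, ← smul_smul, ← e, smul_smul, inv_mul_cancel₀ hmm, one_smul]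
  have hwsw : bf J2 ws w = 1 := by rw [bf_symm S.C.sym2]; exact hws
  have hsim : ∀ x' x : Fin a → F,
      (bf J2 n₀ n₀ / bf J2 m m) *
        bf J1 ((μ : Matrix (Fin a) (Fin a) F) *ᵥ x') ((μ : Matrix (Fin a) (Fin a) F) *ᵥ x) =
          bf J1 x' x := by
    intro x' x
    have e := S.iso (ten x' ws) (ten x w)
    rw [S.hμ, tools1_bf_ten_right S.C.sym2, hP, bf_JV_ten, hwsw, mul_one, bf_smul_left] at e
    exact e
  refine ⟨bf J2 n₀ n₀ / bf J2 m m, ?_, hP, hsim⟩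
  intro h0
  have hv : (Pi.single (⟨0, by omega⟩ : Fin a) (1 : F) : Fin a → F) ≠ 0 := by
    intro h
    have := congrFun h ⟨0, by omega⟩
    simp at this
  obtain ⟨x, hx⟩ := bf_nondeg S.C.det1 hv
  apply hx
  rw [← hsim, h0, zero_mul]

/-- Step 3: the contraction against `w`. -/
theorem keyw (S : tools1_S J1 J2 M g w μ) (κ : F)
    (hsim : ∀ x' x : Fin a → F,
      κ * bf J1 ((μ : Matrix (Fin a) (Fin a) F) *ᵥ x') ((μ : Matrix (Fin a) (Fin a) F) *ᵥ x) =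
        bf J1 x' x) (x : Fin a → F) (y : Fin b → F) :
    ctr (w ᵥ* J2) ((g : Matrix (Fin a × Fin b) (Fin a × Fin b) F) *ᵥ ten x y) =
      (κ * bf J2 w y) • ((μ : Matrix (Fin a) (Fin a) F) *ᵥ x) := by
  by_contra hne
  have hD : ctr (w ᵥ* J2) ((g : Matrix (Fin a × Fin b) (Fin a × Fin b) F) *ᵥ ten x y) -
      (κ * bf J2 w y) • ((μ : Matrix (Fin a) (Fin a) F) *ᵥ x) ≠ 0 := sub_ne_zero.2 hne
  obtain ⟨x'', hx''⟩ := bf_nondeg S.C.det1 hD
  apply hx''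
  have h := S.hμ (((μ⁻¹ : Matrix.GeneralLinearGroup (Fin a) F) : Matrix (Fin a) (Fin a) F) *ᵥ x'')
  rw [tools1_mulVec_inv] at h
  have e1 : bf J1 (ctr (w ᵥ* J2) ((g : Matrix (Fin a × Fin b) (Fin a × Fin b) F) *ᵥ ten x y)) x'' =
      bf J1 x (((μ⁻¹ : Matrix.GeneralLinearGroup (Fin a) F) : Matrix (Fin a) (Fin a) F) *ᵥ x'') *
        bf J2 y w := by
    rw [← tools1_bf_ten_right S.C.sym2, ← h, S.iso, bf_JV_ten]
  have e2 := hsim x (((μ⁻¹ : Matrix.GeneralLinearGroup (Fin a) F) : Matrix (Fin a) (Fin a) F) *ᵥ x'')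
  rw [tools1_mulVec_inv] at e2
  rw [bf_sub_left, e1, bf_smul_left, ← e2, bf_symm S.C.sym2 y w]
  ring

end tools1_S

end Cfsg.Agent.Lib.Helper28.TOO
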