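import Cfsg.Agent.Lib.Helper22.TOOLS1b

/-!
# Project TOO, LOCAL block, row LS1 (`stabPt_of_unip`), part (c): similitudes normalise `Om J`, the twist by `α ⊗ 1`,
and the use of ALG (`alg_central_O`)

Port of `helper15.TOSTABBc`.
-/

set_option autoImplicit false
set_option linter.unusedVariables false
set_option linter.unusedSectionVars false

namespace Cfsg.Agent.Lib.Helper28.TOO

open Matrix
open scoped Kronecker
open Cfsg.Agent.Lib.helper7.TP Cfsg.Agent.Lib.Helper21.TS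

variable {a b : ℕ} {F : Type*} [Field F]
  {J1 : Matrix (Fin a) (Fin a) F} {J2 : Matrix (Fin b) (Fin b) F}

/-- conjugation by a similitude preserves `Iso J`. -/
theorem tools1_iso_conj_sim {ι : Type*} [Fintype ι] [DecidableEq ι] {J : Matrix ι ι F}
    (μ : Matrix.GeneralLinearGroup ι F) (κ : F)
    (hsim : ∀ x' x : ι → F,
      κ * bf J ((μ : Matrix ι ι F) *ᵥ x') ((μ : Matrix ι ι F) *ᵥ x) = bf J x' x)
    (x : Matrix.GeneralLinearGroup ι F) (hx : x ∈ Iso J) : μ * x * μ⁻¹ ∈ Iso J := by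
  rw [mem_Iso_iff_bf] at hx ⊢
  intro u v
  rw [Units.val_mul, Units.val_mul, ← Matrix.mulVec_mulVec, ← Matrix.mulVec_mulVec,
    ← Matrix.mulVec_mulVec, ← Matrix.mulVec_mulVec]
  have h1 := hsim ((x : Matrix ι ι F) *ᵥ (((μ⁻¹ : Matrix.GeneralLinearGroup ι F) : Matrix ι ι F) *ᵥ u))
    ((x : Matrix ι ι F) *ᵥ (((μ⁻¹ : Matrix.GeneralLinearGroup ι F) : Matrix ι ι F) *ᵥ v))
  have h2 := hsim (((μ⁻¹ : Matrix.GeneralLinearGroup ι F) : Matrix ι ι F) *ᵥ u)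
    (((μ⁻¹ : Matrix.GeneralLinearGroup ι F) : Matrix ι ι F) *ᵥ v)
  rw [tools1_mulVec_inv, tools1_mulVec_inv] at h2
  rw [hx] at h1
  by_cases hk0 : κ = 0
  · have hz : ∀ p q : ι → F, bf J p q = 0 := by
      intro p q
      rw [← hsim p q, hk0, zero_mul]
    rw [hz, hz]
  · have h3 : κ * bf J ((μ : Matrix ι ι F) *ᵥ ((x : Matrix ι ι F) *ᵥ
        (((μ⁻¹ : Matrix.GeneralLinearGroup ι F) : Matrix ι ι F) *ᵥ u)))
        ((μ : Matrix ι ι F) *ᵥ ((x : Matrix ι ι F) *ᵥ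
        (((μ⁻¹ : Matrix.GeneralLinearGroup ι F) : Matrix ι ι F) *ᵥ v))) = κ * bf J u v := by
      rw [h1, ← h2]
    exact mul_left_cancel₀ hk0 h3

/-- conjugation by a similitude preserves `Om J`. -/
theorem tools1_Om_conj_sim {ι : Type*} [Fintype ι] [DecidableEq ι] {J : Matrix ι ι F}
    (μ : Matrix.GeneralLinearGroup ι F) (κ : F)
    (hsim : ∀ x' x : ι → F,
      κ * bf J ((μ : Matrix ι ι F) *ᵥ x') ((μ : Matrix ι ι F) *ᵥ x) = bf J x' x)
    (α : Matrix.GeneralLinearGroup ι F) (hα : α ∈ Om J) : μ * α * μ⁻¹ ∈ Om J := by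
  let ψ : ↥(Iso J) →* ↥(Iso J) :=
    { toFun := fun x => ⟨μ * (x : Matrix.GeneralLinearGroup ι F) * μ⁻¹,
        tools1_iso_conj_sim μ κ hsim x x.2⟩
      map_one' := by
        apply Subtype.ext
        simp
      map_mul' := by
        intro x y
        apply Subtype.ext
        simp only [Subgroup.coe_mul]
        group }
  unfold Om at hα ⊢
  rw [Subgroup.mem_map] at hα ⊢
  obtain ⟨α₀, hα₀, rfl⟩ := hα
  refine ⟨ψ α₀, ?_, rfl⟩
  have h1 : (commutator ↥(Iso J)).map ψ ≤ commutator ↥(Iso J) := by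
    rw [commutator_def, Subgroup.map_commutator]
    exact Subgroup.commutator_mono le_top le_top
  exact h1 (Subgroup.mem_map_of_mem ψ hα₀)

namespace tools1_S

variable {M : Subgroup (Matrix.GeneralLinearGroup (Fin a × Fin b) F)}
  {g : Matrix.GeneralLinearGroup (Fin a × Fin b) F} {w : Fin b → F}
  {μ : Matrix.GeneralLinearGroup (Fin a) F}

/-- `μ α = (μ α μ⁻¹) μ`. -/
theorem comm (μ α : Matrix.GeneralLinearGroup (Fin a) F) (x : Fin a → F) :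
    (μ : Matrix (Fin a) (Fin a) F) *ᵥ ((α : Matrix (Fin a) (Fin a) F) *ᵥ x) =
      ((μ * α * μ⁻¹ : Matrix.GeneralLinearGroup (Fin a) F) : Matrix (Fin a) (Fin a) F) *ᵥ
        ((μ : Matrix (Fin a) (Fin a) F) *ᵥ x) := by
  rw [Units.val_mul, Units.val_mul, ← Matrix.mulVec_mulVec, ← Matrix.mulVec_mulVec,
    tools1_inv_mulVec]

/-- Step 4: conjugating `α ⊗ 1` by `g`. -/
theorem twist (S : tools1_S J1 J2 M g w μ) (ws : Fin b → F) (hws : bf J2 w ws = 1) (κ : F) (hκ : κ ≠ 0)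
    (hP : ∀ x : Fin a → F,
      ctr (w ᵥ* J2) ((g : Matrix (Fin a × Fin b) (Fin a × Fin b) F) *ᵥ ten x ws) =
        κ • ((μ : Matrix (Fin a) (Fin a) F) *ᵥ x))
    (hsim : ∀ x' x : Fin a → F,
      κ * bf J1 ((μ : Matrix (Fin a) (Fin a) F) *ᵥ x') ((μ : Matrix (Fin a) (Fin a) F) *ᵥ x) =
        bf J1 x' x)
    (α : Matrix.GeneralLinearGroup (Fin a) F) (hα : α ∈ Om J1) :
    ∃ (n_t : Fin b → F), bf J2 w n_t = 0 ∧
      ∀ (ψ : Fin b → F) (x : Fin a → F) (y : Fin b → F),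
        ctr ψ ((g : Matrix (Fin a × Fin b) (Fin a × Fin b) F) *ᵥ
            ten ((α : Matrix (Fin a) (Fin a) F) *ᵥ x) y) =
          ((μ * α * μ⁻¹ : Matrix.GeneralLinearGroup (Fin a) F) : Matrix (Fin a) (Fin a) F) *ᵥ
            ctr ψ ((g : Matrix (Fin a × Fin b) (Fin a × Fin b) F) *ᵥ ten x y) +
          (ψ ⬝ᵥ w) •
            (((μ * α * μ⁻¹ : Matrix.GeneralLinearGroup (Fin a) F) : Matrix (Fin a) (Fin a) F) *ᵥ
              ctr (n_t ᵥ* J2) ((g : Matrix (Fin a × Fin b) (Fin a × Fin b) F) *ᵥ ten x y) -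
            (bf J2 n_t n_t / 2) •
              (((μ * α * μ⁻¹ : Matrix.GeneralLinearGroup (Fin a) F) : Matrix (Fin a) (Fin a) F) *ᵥ
                ctr (w ᵥ* J2) ((g : Matrix (Fin a × Fin b) (Fin a × Fin b) F) *ᵥ ten x y))) -
          (ψ ⬝ᵥ n_t) •
            (((μ * α * μ⁻¹ : Matrix.GeneralLinearGroup (Fin a) F) : Matrix (Fin a) (Fin a) F) *ᵥ
              ctr (w ᵥ* J2) ((g : Matrix (Fin a × Fin b) (Fin a × Fin b) F) *ᵥ ten x y)) := by
  obtain ⟨α', hα'd⟩ : ∃ α' : Matrix.GeneralLinearGroup (Fin a) F, α' = μ * α * μ⁻¹ := ⟨_, rfl⟩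
  rw [← hα'd]
  have hα' : α' ∈ Om J1 := by
    rw [hα'd]
    exact tools1_Om_conj_sim μ κ hsim α hα
  have hcomm : ∀ x : Fin a → F,
      (μ : Matrix (Fin a) (Fin a) F) *ᵥ ((α : Matrix (Fin a) (Fin a) F) *ᵥ x) =
        (α' : Matrix (Fin a) (Fin a) F) *ᵥ ((μ : Matrix (Fin a) (Fin a) F) *ᵥ x) := by
    intro x
    rw [hα'd]
    exact comm μ α x
  obtain ⟨t, ht⟩ : ∃ t : Matrix.GeneralLinearGroup (Fin a × Fin b) F,
      t = Cfsg.Agent.Lib.helper7.TO.kA a b F α := ⟨_, rfl⟩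
  obtain ⟨t', ht'⟩ : ∃ t' : Matrix.GeneralLinearGroup (Fin a × Fin b) F,
      t' = Cfsg.Agent.Lib.helper7.TO.kA a b F α' := ⟨_, rfl⟩
  have htM : t ∈ M := by rw [ht]; exact S.hT (tools1_kA_mem_T1 hα)
  have ht'M : t' ∈ M := by rw [ht']; exact S.hT (tools1_kA_mem_T1 hα')
  obtain ⟨e, he⟩ : ∃ e : Matrix.GeneralLinearGroup (Fin a × Fin b) F, e = g * t * g⁻¹ * t'⁻¹ :=
    ⟨_, rfl⟩
  have heM : e ∈ M := by
    rw [he]
    exact M.mul_mem (M.mul_mem (M.mul_mem S.hg htM) (M.inv_mem S.hg)) (M.inv_mem ht'M)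
  have hrel : e * (t' * g) = g * t := by rw [he]; group
  have hrelv : ∀ X : Fin a × Fin b → F,
      (e : Matrix (Fin a × Fin b) (Fin a × Fin b) F) *ᵥ
        ((t' : Matrix (Fin a × Fin b) (Fin a × Fin b) F) *ᵥ
          ((g : Matrix (Fin a × Fin b) (Fin a × Fin b) F) *ᵥ X)) =
      (g : Matrix (Fin a × Fin b) (Fin a × Fin b) F) *ᵥ
        ((t : Matrix (Fin a × Fin b) (Fin a × Fin b) F) *ᵥ X) := by
    intro X
    have := congrArg (fun z : Matrix.GeneralLinearGroup (Fin a × Fin b) F =>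
      (z : Matrix (Fin a × Fin b) (Fin a × Fin b) F) *ᵥ X) hrel
    simp only [Units.val_mul, ← Matrix.mulVec_mulVec] at this
    exact this
  have htv : ∀ (x : Fin a → F) (y : Fin b → F),
      (t : Matrix (Fin a × Fin b) (Fin a × Fin b) F) *ᵥ ten x y =
        ten ((α : Matrix (Fin a) (Fin a) F) *ᵥ x) y := by
    intro x y
    rw [ht, Cfsg.Agent.Lib.helper7.TO.kA_mulVec_ten]
  have ht'v : ∀ (x : Fin a → F) (y : Fin b → F),
      (t' : Matrix (Fin a × Fin b) (Fin a × Fin b) F) *ᵥ ten x y =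
        ten ((α' : Matrix (Fin a) (Fin a) F) *ᵥ x) y := by
    intro x y
    rw [ht', Cfsg.Agent.Lib.helper7.TO.kA_mulVec_ten]
  have hct : ∀ (ψ : Fin b → F) (V : Fin a × Fin b → F),
      ctr ψ ((t' : Matrix (Fin a × Fin b) (Fin a × Fin b) F) *ᵥ V) =
        (α' : Matrix (Fin a) (Fin a) F) *ᵥ ctr ψ V := by
    intro ψ V
    rw [ht', Cfsg.Agent.Lib.helper7.TO.kA_coe, Cfsg.Agent.Lib.helper7.TO.tostabb_ctr_kronA]
  -- (i)
  have h1 : ∀ x : Fin a → F,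
      (e : Matrix (Fin a × Fin b) (Fin a × Fin b) F) *ᵥ ten x w = ten x w := by
    intro x
    have e1 := hrelv (ten (((μ⁻¹ : Matrix.GeneralLinearGroup (Fin a) F) : Matrix (Fin a) (Fin a) F) *ᵥ
      (((α'⁻¹ : Matrix.GeneralLinearGroup (Fin a) F) : Matrix (Fin a) (Fin a) F) *ᵥ x)) w)
    rw [S.hμ, tools1_mulVec_inv, ht'v, tools1_mulVec_inv, htv, S.hμ, hcomm, tools1_mulVec_inv,
      tools1_mulVec_inv] at e1
    exact e1
  -- (ii)
  have h2 : ∀ n : Fin b → F, bf J2 w n = 0 → ∀ x : Fin a → F, ∃ x' : Fin a → F,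
      (e : Matrix (Fin a × Fin b) (Fin a × Fin b) F) *ᵥ ten x n = ten x n + ten x' w := by
    intro n hn x
    obtain ⟨n₀, Z, hn₀, hS7, -⟩ := S.L1 ws hws n hn
    obtain ⟨x₁, hx₁⟩ : ∃ x₁ : Fin a → F,
        x₁ = κ⁻¹ • (((μ⁻¹ : Matrix.GeneralLinearGroup (Fin a) F) : Matrix (Fin a) (Fin a) F) *ᵥ
          (((α'⁻¹ : Matrix.GeneralLinearGroup (Fin a) F) : Matrix (Fin a) (Fin a) F) *ᵥ x)) :=
      ⟨_, rfl⟩
    have hPx₁ : κ • ((μ : Matrix (Fin a) (Fin a) F) *ᵥ x₁) =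
        ((α'⁻¹ : Matrix.GeneralLinearGroup (Fin a) F) : Matrix (Fin a) (Fin a) F) *ᵥ x := by
      rw [hx₁, Matrix.mulVec_smul, tools1_mulVec_inv, smul_smul, mul_inv_cancel₀ hκ, one_smul]
    have hPτ : κ • ((μ : Matrix (Fin a) (Fin a) F) *ᵥ ((α : Matrix (Fin a) (Fin a) F) *ᵥ x₁)) = x := by
      rw [hcomm, ← Matrix.mulVec_smul, hPx₁, tools1_mulVec_inv]
    have e1 := hrelv (ten x₁ n₀)
    rw [hS7 x₁, hP, hPx₁, Matrix.mulVec_add, ht'v, ht'v, tools1_mulVec_inv, Matrix.mulVec_add, h1,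
      htv, hS7, hP, hPτ] at e1
    refine ⟨Z ((α : Matrix (Fin a) (Fin a) F) *ᵥ x₁) - (α' : Matrix (Fin a) (Fin a) F) *ᵥ Z x₁, ?_⟩
    rw [tpns_ten_sub_left]
    rw [← eq_sub_iff_add_eq] at e1
    rw [e1]
    abel
  obtain ⟨n_t, hnt, hHB⟩ := S.hU e heM w S.hw S.hww ⟨h1, h2⟩
  refine ⟨n_t, hnt, ?_⟩
  intro ψ x y
  have e1 := hrelv (ten x y)
  rw [htv] at e1
  rw [← e1, hHB, tools1_kB_sieg_mulVec]
  simp only [ctr_add, tpns_ctr_sub, ctr_smul, ctr_ten, hct]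
  module

end tools1_S

/-- the use of ALG. -/
theorem tools1_algc
    (hALG : ∀ Z : Matrix (Fin a) (Fin a) F,
      (∀ α ∈ Om J1, ∃ s : F, Z - (α : Matrix (Fin a) (Fin a) F) * Z *
        ((α⁻¹ : Matrix.GeneralLinearGroup (Fin a) F) : Matrix (Fin a) (Fin a) F) =
          s • (1 : Matrix (Fin a) (Fin a) F)) →
      ∃ c : F, Z = c • (1 : Matrix (Fin a) (Fin a) F))
    (μ : Matrix.GeneralLinearGroup (Fin a) F) (E : Matrix (Fin a) (Fin a) F)
    (hE : ∀ α ∈ Om J1, ∃ s : F, ∀ x : Fin a → F,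
      E *ᵥ ((α : Matrix (Fin a) (Fin a) F) *ᵥ x) =
        ((μ * α * μ⁻¹ : Matrix.GeneralLinearGroup (Fin a) F) : Matrix (Fin a) (Fin a) F) *ᵥ (E *ᵥ x) +
          s • ((μ : Matrix (Fin a) (Fin a) F) *ᵥ ((α : Matrix (Fin a) (Fin a) F) *ᵥ x))) :
    ∃ ε : F, ∀ x : Fin a → F, E *ᵥ x = ε • ((μ : Matrix (Fin a) (Fin a) F) *ᵥ x) := by
  have hcomm' : ∀ (α : Matrix.GeneralLinearGroup (Fin a) F) (z : Fin a → F),
      ((μ⁻¹ : Matrix.GeneralLinearGroup (Fin a) F) : Matrix (Fin a) (Fin a) F) *ᵥ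
        (((μ * α * μ⁻¹ : Matrix.GeneralLinearGroup (Fin a) F) : Matrix (Fin a) (Fin a) F) *ᵥ z) =
      (α : Matrix (Fin a) (Fin a) F) *ᵥ
        (((μ⁻¹ : Matrix.GeneralLinearGroup (Fin a) F) : Matrix (Fin a) (Fin a) F) *ᵥ z) := by
    intro α z
    rw [Units.val_mul, Units.val_mul, ← Matrix.mulVec_mulVec, ← Matrix.mulVec_mulVec,
      tools1_inv_mulVec]
  have hZ : ∀ α ∈ Om J1, ∃ s : F,
      ((μ⁻¹ : Matrix.GeneralLinearGroup (Fin a) F) : Matrix (Fin a) (Fin a) F) * E -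
        (α : Matrix (Fin a) (Fin a) F) *
          (((μ⁻¹ : Matrix.GeneralLinearGroup (Fin a) F) : Matrix (Fin a) (Fin a) F) * E) *
        ((α⁻¹ : Matrix.GeneralLinearGroup (Fin a) F) : Matrix (Fin a) (Fin a) F) =
        s • (1 : Matrix (Fin a) (Fin a) F) := by
    intro α hα
    obtain ⟨s, hs⟩ := hE α hα
    refine ⟨s, ?_⟩
    have h1 : ((μ⁻¹ : Matrix.GeneralLinearGroup (Fin a) F) : Matrix (Fin a) (Fin a) F) * E *
        (α : Matrix (Fin a) (Fin a) F) =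
        (α : Matrix (Fin a) (Fin a) F) *
          (((μ⁻¹ : Matrix.GeneralLinearGroup (Fin a) F) : Matrix (Fin a) (Fin a) F) * E) +
          s • (α : Matrix (Fin a) (Fin a) F) := by
      rw [Matrix.ext_iff_mulVec]
      intro x
      rw [← Matrix.mulVec_mulVec, ← Matrix.mulVec_mulVec, hs, Matrix.mulVec_add, Matrix.mulVec_smul,
        tools1_inv_mulVec, hcomm', Matrix.add_mulVec, ← Matrix.mulVec_mulVec, ← Matrix.mulVec_mulVec,
        Matrix.smul_mulVec]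
    have h2 : (α : Matrix (Fin a) (Fin a) F) *
        ((α⁻¹ : Matrix.GeneralLinearGroup (Fin a) F) : Matrix (Fin a) (Fin a) F) = 1 := by
      rw [← Units.val_mul, mul_inv_cancel, Units.val_one]
    have h3 : ((μ⁻¹ : Matrix.GeneralLinearGroup (Fin a) F) : Matrix (Fin a) (Fin a) F) * E =
        (((μ⁻¹ : Matrix.GeneralLinearGroup (Fin a) F) : Matrix (Fin a) (Fin a) F) * E *
          (α : Matrix (Fin a) (Fin a) F)) *
        ((α⁻¹ : Matrix.GeneralLinearGroup (Fin a) F) : Matrix (Fin a) (Fin a) F) := by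
      rw [Matrix.mul_assoc (((μ⁻¹ : Matrix.GeneralLinearGroup (Fin a) F) :
        Matrix (Fin a) (Fin a) F) * E), h2, Matrix.mul_one]
    rw [h1, Matrix.add_mul, Matrix.smul_mul, h2] at h3
    rw [sub_eq_iff_eq_add']
    exact h3
  obtain ⟨ε, hε⟩ := hALG _ hZ
  refine ⟨ε, fun x => ?_⟩
  have h := congrArg (fun Z : Matrix (Fin a) (Fin a) F => (μ : Matrix (Fin a) (Fin a) F) *ᵥ (Z *ᵥ x)) hε
  simp only [← Matrix.mulVec_mulVec, tools1_mulVec_inv, Matrix.smul_mulVec, Matrix.one_mulVec,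
    Matrix.mulVec_smul] at h
  exact h

end Cfsg.Agent.Lib.Helper28.TOO
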