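import Cfsg.Agent.Lib.Helper22.TOOLS1c
import Cfsg.Agent.Lib.helper15.TOSTABBc

/-!
# Project TOO, LOCAL block, row LS1 (`stabPt_of_unip`), part (d): the core theorem

`tools1_core` = `stabPt_of_unip` with the statements of LA4 (`alg_central_O` for `J1`) and LG3 (`om_trans_pt` for `J2`) as
hypotheses.  Port of `helper15.TOSTABBd`.
-/

set_option autoImplicit false
set_option linter.unusedVariables false
set_option linter.unusedSectionVars false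

namespace Cfsg.Agent.Lib.Helper28.TOO

open Matrix
open scoped Kronecker
open Cfsg.Agent.Lib.helper7.TP Cfsg.Agent.Lib.Helper21.TS

variable {a b : ℕ} {F : Type*} [Field F]
  {J1 : Matrix (Fin a) (Fin a) F} {J2 : Matrix (Fin b) (Fin b) F}
  {M : Subgroup (Matrix.GeneralLinearGroup (Fin a × Fin b) F)}

/-- the case `w' = w`. -/
theorem tools1_same (C : OCtx J1 J2) (ha : 1 ≤ a) (hb : 5 ≤ b)
    (hALG : ∀ Z : Matrix (Fin a) (Fin a) F,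
      (∀ α ∈ Om J1, ∃ s : F, Z - (α : Matrix (Fin a) (Fin a) F) * Z *
        ((α⁻¹ : Matrix.GeneralLinearGroup (Fin a) F) : Matrix (Fin a) (Fin a) F) =
          s • (1 : Matrix (Fin a) (Fin a) F)) →
      ∃ c : F, Z = c • (1 : Matrix (Fin a) (Fin a) F))
    (hT : T1 J1 J2 ≤ M) (hM : M ≤ OV J1 J2) (hU : Unip J2 M)
    (g : Matrix.GeneralLinearGroup (Fin a × Fin b) F) (hg : g ∈ M) (w : Fin b → F) (hw : w ≠ 0)
    (hww : bf J2 w w = 0)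
    (h : ∀ x : Fin a → F, ∃ x' : Fin a → F,
      (g : Matrix (Fin a × Fin b) (Fin a × Fin b) F) *ᵥ ten x w = ten x' w) :
    g ∈ K0 a b F := by
  classical
  obtain ⟨G, hGd⟩ : ∃ G : Matrix (Fin a × Fin b) (Fin a × Fin b) F,
      (g : Matrix (Fin a × Fin b) (Fin a × Fin b) F) = G := ⟨_, rfl⟩
  rw [hGd] at h
  have hGiG : ∀ v : Fin a × Fin b → F,
      ((g⁻¹ : Matrix.GeneralLinearGroup (Fin a × Fin b) F) :
        Matrix (Fin a × Fin b) (Fin a × Fin b) F) *ᵥ (G *ᵥ v) = v := by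
    intro v
    rw [← hGd, tools1_inv_mulVec]
  -- the matrix `μ`
  obtain ⟨j₁, hj₁⟩ := tpns_exists_ne hw
  obtain ⟨μm, hμdef⟩ : ∃ μm : Matrix (Fin a) (Fin a) F,
      μm = (w j₁)⁻¹ • tpns_mat G (Pi.single j₁ 1) w := ⟨_, rfl⟩
  have hμm : ∀ u : Fin a → F, G *ᵥ ten u w = ten (μm *ᵥ u) w := by
    intro u
    obtain ⟨u', hu'⟩ := h u
    rw [hu', hμdef, Matrix.smul_mulVec, tpns_mat_mulVec, hu', ctr_ten, single_one_dotProduct,
      smul_smul, inv_mul_cancel₀ hj₁, one_smul]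
  have hμinj : ∀ u : Fin a → F, μm *ᵥ u = 0 → u = 0 := by
    intro u hu
    have h1 := hμm u
    rw [hu, tpns_ten_zero_left] at h1
    have h2 := hGiG (ten u w)
    rw [h1, Matrix.mulVec_zero] at h2
    exact tpns_ten_eq_zero h2.symm hw
  have hμunit : IsUnit μm := by
    rw [← Matrix.mulVec_injective_iff_isUnit]
    intro u u' huu
    have h1 : μm *ᵥ (u - u') = 0 := by
      rw [Matrix.mulVec_sub]
      exact sub_eq_zero.2 huu
    exact sub_eq_zero.1 (hμinj _ h1)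
  have hμdet : IsUnit μm.det := (Matrix.isUnit_iff_isUnit_det μm).1 hμunit
  obtain ⟨μ, hμv⟩ : ∃ μ : Matrix.GeneralLinearGroup (Fin a) F,
      (μ : Matrix (Fin a) (Fin a) F) = μm :=
    ⟨Matrix.GeneralLinearGroup.mkOfDetNeZero μm hμdet.ne_zero, rfl⟩
  have hμ : ∀ u : Fin a → F, G *ᵥ ten u w = ten ((μ : Matrix (Fin a) (Fin a) F) *ᵥ u) w := by
    intro u
    rw [hμv]
    exact hμm u
  have S : tools1_S J1 J2 M g w μ := ⟨C, hT, hM, hU, hg, hw, hww, by rw [hGd]; exact hμ⟩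
  -- `ws` with `bf J2 w ws = 1`
  obtain ⟨x₀, hx₀⟩ := bf_nondeg C.det2 hw
  obtain ⟨ws, hwsdef⟩ : ∃ ws : Fin b → F, ws = (bf J2 w x₀)⁻¹ • x₀ := ⟨_, rfl⟩
  have hws : bf J2 w ws = 1 := by
    rw [hwsdef, bf_smul_right, inv_mul_cancel₀ hx₀]
  obtain ⟨κ, hκ, hP, hsim⟩ := S.sim ha hb ws hws
  have hcomm := tools1_S.comm μ
  have hkeyw := S.keyw κ hsim
  rw [hGd] at hkeyw
  -- (U1)
  have hU1 : ∀ ψ : Fin b → F, ψ ⬝ᵥ w = 0 → ∀ y : Fin b → F, ∃ ε : F, ∀ x : Fin a → F,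
      ctr ψ (G *ᵥ ten x y) = ε • ((μ : Matrix (Fin a) (Fin a) F) *ᵥ x) := by
    intro ψ hψ y
    have hE : ∀ α ∈ Om J1, ∃ s : F, ∀ x : Fin a → F,
        tpns_mat G ψ y *ᵥ ((α : Matrix (Fin a) (Fin a) F) *ᵥ x) =
          ((μ * α * μ⁻¹ : Matrix.GeneralLinearGroup (Fin a) F) : Matrix (Fin a) (Fin a) F) *ᵥ
            (tpns_mat G ψ y *ᵥ x) +
            s • ((μ : Matrix (Fin a) (Fin a) F) *ᵥ ((α : Matrix (Fin a) (Fin a) F) *ᵥ x)) := by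
      intro α hα
      obtain ⟨n_t, hnt, htw⟩ := S.twist ws hws κ hκ hP hsim α hα
      rw [hGd] at htw
      refine ⟨-((ψ ⬝ᵥ n_t) * (κ * bf J2 w y)), fun x => ?_⟩
      rw [tpns_mat_mulVec, tpns_mat_mulVec, htw ψ x y, hψ, zero_smul, add_zero, hkeyw,
        Matrix.mulVec_smul, ← hcomm, smul_smul, neg_smul, sub_eq_add_neg]
    obtain ⟨ε, hε⟩ := tools1_algc hALG μ (tpns_mat G ψ y) hE
    refine ⟨ε, fun x => ?_⟩
    rw [← tpns_mat_mulVec, hε]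
  -- (U2)
  have hU2 : ∀ (ψ y : Fin b → F), ∃ ε : F, ∀ x : Fin a → F,
      ctr ψ (G *ᵥ ten x y) = ε • ((μ : Matrix (Fin a) (Fin a) F) *ᵥ x) := by
    intro ψ y
    have hE : ∀ α ∈ Om J1, ∃ s : F, ∀ x : Fin a → F,
        tpns_mat G ψ y *ᵥ ((α : Matrix (Fin a) (Fin a) F) *ᵥ x) =
          ((μ * α * μ⁻¹ : Matrix.GeneralLinearGroup (Fin a) F) : Matrix (Fin a) (Fin a) F) *ᵥ
            (tpns_mat G ψ y *ᵥ x) +
            s • ((μ : Matrix (Fin a) (Fin a) F) *ᵥ ((α : Matrix (Fin a) (Fin a) F) *ᵥ x)) := by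
      intro α hα
      obtain ⟨n_t, hnt, htw⟩ := S.twist ws hws κ hκ hP hsim α hα
      rw [hGd] at htw
      have hnt' : (n_t ᵥ* J2) ⬝ᵥ w = 0 := by
        rw [tools1_fl_dot, bf_symm C.sym2, hnt]
      obtain ⟨ε₁, hε₁⟩ := hU1 (n_t ᵥ* J2) hnt' y
      refine ⟨(ψ ⬝ᵥ w) * (ε₁ - bf J2 n_t n_t / 2 * (κ * bf J2 w y)) - (ψ ⬝ᵥ n_t) * (κ * bf J2 w y),
        fun x => ?_⟩
      rw [tpns_mat_mulVec, tpns_mat_mulVec, htw ψ x y, hkeyw, hε₁, hcomm]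
      simp only [Matrix.mulVec_smul]
      module
    obtain ⟨ε, hε⟩ := tools1_algc hALG μ (tpns_mat G ψ y) hE
    refine ⟨ε, fun x => ?_⟩
    rw [← tpns_mat_mulVec, hε]
  -- the matrix `β`
  obtain ⟨i₀, hi₀⟩ : ∃ i₀ : Fin a, i₀ = ⟨0, by omega⟩ := ⟨_, rfl⟩
  obtain ⟨e₀, he₀⟩ : ∃ e₀ : Fin a → F, e₀ = Pi.single i₀ 1 := ⟨_, rfl⟩
  have he₀0 : e₀ ≠ 0 := by
    intro h0
    have := congrFun h0 i₀
    rw [he₀, Pi.single_eq_same] at this
    exact one_ne_zero this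
  have hm₀ : (μ : Matrix (Fin a) (Fin a) F) *ᵥ e₀ ≠ 0 := fun h0 => he₀0 (hμinj _ (by rw [← hμv]; exact h0))
  obtain ⟨i₁, hi₁⟩ := tpns_exists_ne hm₀
  obtain ⟨β, hβdef⟩ : ∃ β : Matrix (Fin b) (Fin b) F,
      β = (((μ : Matrix (Fin a) (Fin a) F) *ᵥ e₀) i₁)⁻¹ • LinearMap.toMatrix'
      ((Cfsg.Agent.Lib.helper7.TO.tostabb_rowL i₁).comp
        ((Matrix.toLin' G).comp (Cfsg.Agent.Lib.helper7.TO.tostabb_tenR e₀))) := ⟨_, rfl⟩
  have hβ : ∀ (y : Fin b → F) (k : Fin b),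
      (β *ᵥ y) k = (((μ : Matrix (Fin a) (Fin a) F) *ᵥ e₀) i₁)⁻¹ * (G *ᵥ ten e₀ y) (i₁, k) := by
    intro y k
    rw [hβdef, Matrix.smul_mulVec, LinearMap.toMatrix'_mulVec]
    rfl
  have hmain : ∀ (x : Fin a → F) (y : Fin b → F),
      G *ᵥ ten x y = ten ((μ : Matrix (Fin a) (Fin a) F) *ᵥ x) (β *ᵥ y) := by
    intro x y
    funext p
    obtain ⟨i, k⟩ := p
    obtain ⟨ε, hε⟩ := hU2 (Pi.single k 1) y
    have h1 : (G *ᵥ ten e₀ y) (i₁, k) = ε * ((μ : Matrix (Fin a) (Fin a) F) *ᵥ e₀) i₁ := by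
      have h := congrFun (hε e₀) i₁
      rw [tpns_ctr_single, Pi.smul_apply, smul_eq_mul] at h
      exact h
    have h2 : (G *ᵥ ten x y) (i, k) = ε * ((μ : Matrix (Fin a) (Fin a) F) *ᵥ x) i := by
      have h := congrFun (hε x) i
      rw [tpns_ctr_single, Pi.smul_apply, smul_eq_mul] at h
      exact h
    have hεv : ε = (β *ᵥ y) k := by
      rw [hβ, h1, mul_comm ε, ← mul_assoc, inv_mul_cancel₀ hi₁, one_mul]
    rw [h2, hεv]
    simp only [ten]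
    ring
  have hGeq : G = (μ : Matrix (Fin a) (Fin a) F) ⊗ₖ β := by
    apply Cfsg.Agent.Lib.helper7.TO.mat_ext_ten
    intro x y
    rw [hmain, kron_mulVec_ten]
  have hGdet : G.det ≠ 0 := by
    have hu : IsUnit G := by
      rw [← hGd]
      exact Units.isUnit g
    exact ((Matrix.isUnit_iff_isUnit_det G).1 hu).ne_zero
  have hβdet : β.det ≠ 0 := by
    intro h0
    apply hGdet
    rw [hGeq, Matrix.det_kronecker, h0, Fintype.card_fin, Fintype.card_fin, zero_pow (by omega),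
      mul_zero]
  exact (mem_K0 g).2 ⟨μ, Matrix.GeneralLinearGroup.mkOfDetNeZero β hβdet, by rw [hGd, hGeq]; rfl⟩

/-- `stabPt_of_unip` with the statements of LA4 (for `J1`) and LG3 (for `J2`) as hypotheses. -/
theorem tools1_core (C : OCtx J1 J2) (ha : 1 ≤ a) (hb : 5 ≤ b)
    (hALG : ∀ Z : Matrix (Fin a) (Fin a) F,
      (∀ α ∈ Om J1, ∃ s : F, Z - (α : Matrix (Fin a) (Fin a) F) * Z *
        ((α⁻¹ : Matrix.GeneralLinearGroup (Fin a) F) : Matrix (Fin a) (Fin a) F) =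
          s • (1 : Matrix (Fin a) (Fin a) F)) →
      ∃ c : F, Z = c • (1 : Matrix (Fin a) (Fin a) F))
    (hTR : ∀ w w' : Fin b → F, w ≠ 0 → w' ≠ 0 → bf J2 w w = 0 → bf J2 w' w' = 0 →
      ∃ β ∈ Om J2, ∃ c : F, c ≠ 0 ∧ (β : Matrix (Fin b) (Fin b) F) *ᵥ w = c • w')
    (hT : T1 J1 J2 ≤ M) (hM : M ≤ OV J1 J2) (hU : Unip J2 M) : StabPt J2 M := by
  intro g hg w w' hw hw' hww hww' h
  obtain ⟨β₀, hβ₀O, c, hc, hβ₀w⟩ := hTR w' w hw' hw hww' hww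
  have hkM : Cfsg.Agent.Lib.helper7.TO.kB a b F β₀ ∈ M := hT (tools1_kB_mem_T1 hβ₀O)
  have hg'M : Cfsg.Agent.Lib.helper7.TO.kB a b F β₀ * g ∈ M := M.mul_mem hkM hg
  have hg'K : Cfsg.Agent.Lib.helper7.TO.kB a b F β₀ * g ∈ K0 a b F := by
    apply tools1_same C ha hb hALG hT hM hU _ hg'M w hw hww
    intro x
    obtain ⟨x', hx'⟩ := h x
    refine ⟨c • x', ?_⟩
    rw [Units.val_mul, ← Matrix.mulVec_mulVec, hx', Cfsg.Agent.Lib.helper7.TO.kB_mulVec_ten, hβ₀w,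
      ten_smul_right, ten_smul_left]
  have : g = (Cfsg.Agent.Lib.helper7.TO.kB a b F β₀)⁻¹ *
      (Cfsg.Agent.Lib.helper7.TO.kB a b F β₀ * g) := by group
  rw [this]
  exact (K0 a b F).mul_mem ((K0 a b F).inv_mem (Cfsg.Agent.Lib.helper7.TO.kB_mem_K0 β₀)) hg'K

end Cfsg.Agent.Lib.Helper28.TOO
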