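import Cfsg.Agent.Lib.Helper22.TOSTABA4d

/-!
# Project TO, piece STABA4: `stabA_of_ntsA` (`a ≥ 3`).

`g ∈ M` with `g (u ⊗ B) = u ⊗ B`, `g (u ⊗ y) = u ⊗ μ y`.  With `α₁ x = ctr (fl₂ ŷ) (g (x ⊗ y₀))`
(`f₂ (μ y₀) ŷ = 1`): stage 1 gives `g = α₁ ⊗ μ` on `u^⊥ ⊗ B`, then `g ≡ α₁ ⊗ μ` modulo `u ⊗ B`
everywhere (isometry), stage 2 gives `g = α₁ ⊗ μ`.
-/

set_option autoImplicit false
set_option linter.unusedVariables false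
set_option linter.unusedSectionVars false

namespace Cfsg.Agent.Lib.helper7.TO

open Matrix Cfsg.Agent.Lib.helper7.TP Cfsg.Agent.Lib.Helper28.SympAbs
open scoped Kronecker

variable {a b : ℕ} {F : Type*} [Field F]

namespace Tostaba4H

variable {C : Ctx a b F} {M : Subgroup (Matrix.GeneralLinearGroup (Fin a × Fin b) F)}
  {g : Matrix.GeneralLinearGroup (Fin a × Fin b) F} {u : Fin a → F} {μ : Matrix (Fin b) (Fin b) F}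

/-- stage 1: `g = α₁ ⊗ μ` on `u^⊥ ⊗ B`. -/
theorem r1 [Fintype F] (H : Tostaba4H C M g u μ) (hb : 6 ≤ b) (ŷ y₀ : Fin b → F)
    (h1 : C.f₂ (μ *ᵥ y₀) ŷ = 1) (ν : F) (hν : ν ≠ 0)
    (hsim : ∀ y y' : Fin b → F, C.f₂ (μ *ᵥ y) (μ *ᵥ y') = ν⁻¹ * C.f₂ y y') (x : Fin a → F)
    (hx : C.f₁ x u = 0) (y : Fin b → F) :
    g.val *ᵥ ten x y = ten (tostaba4_al C g ŷ y₀ *ᵥ x) (μ *ᵥ y) := by
  apply H.stage hb ŷ y₀ h1 ν hν hsim x (fun y => H.front ŷ y₀ h1 x hx y)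
  intro w c
  obtain ⟨x₀, c₀, hx₀, hr⟩ := H.rel ŷ y₀ h1 ν hν hsim w c
  refine ⟨C.f₁ x x₀, fun y => ?_⟩
  rw [hr x y, hx, zero_smul, zero_mul, zero_smul, add_zero, add_zero]

/-- after stage 1 the elements `e_t` are `τ_u(s) ⊗ 1`. -/
theorem rel' [Fintype F] (H : Tostaba4H C M g u μ) (hb : 6 ≤ b) (ŷ y₀ : Fin b → F)
    (h1 : C.f₂ (μ *ᵥ y₀) ŷ = 1) (ν : F) (hν : ν ≠ 0)
    (hsim : ∀ y y' : Fin b → F, C.f₂ (μ *ᵥ y) (μ *ᵥ y') = ν⁻¹ * C.f₂ y y')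
    (w : Fin b → F) (c : F) :
    ∃ s : F, ∀ (x : Fin a → F) (y : Fin b → F),
      g.val *ᵥ ten x (tvm C.f₂ w c *ᵥ y) =
        (C.tvB (μ *ᵥ w) (c * ν)).val *ᵥ (g.val *ᵥ (ten x y + (s * C.f₁ x u) • ten u y)) := by
  obtain ⟨x₀, c₀, hx₀, hr⟩ := H.rel ŷ y₀ h1 ν hν hsim w c
  have hy0 : y₀ ≠ 0 := by
    rintro rfl
    rw [Matrix.mulVec_zero, Cfsg.Agent.Lib.Helper28.SympAbs.f_zero_left C.hf₂] at h1
    exact zero_ne_one h1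
  -- `x₀ ∈ (u^⊥)^⊥ = F u`
  have hperp : ∀ m : Fin a → F, C.f₁ m u = 0 → C.f₁ x₀ m = 0 := by
    intro m hm
    have e1 := hr m (tvm C.f₂ w (-c) *ᵥ y₀)
    have e0 : tvm C.f₂ w c *ᵥ (tvm C.f₂ w (-c) *ᵥ y₀) = y₀ := by
      rw [Matrix.mulVec_mulVec, tvm_mul_tvm C.hf₂, add_neg_cancel, tvm_zero, Matrix.one_mulVec]
    have hτv : tvm C.f₂ (μ *ᵥ w) (c * ν) *ᵥ (μ *ᵥ (tvm C.f₂ w (-c) *ᵥ y₀)) = μ *ᵥ y₀ := by
      rw [Matrix.mulVec_mulVec, tostaba4_tau_mu C.hf₂ μ ν hν hsim w c, ← Matrix.mulVec_mulVec, e0]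
    rw [e0, hm, zero_smul, zero_mul, zero_smul, add_zero, add_zero, Matrix.mulVec_add,
      Matrix.mulVec_smul, H.r1 hb ŷ y₀ h1 ν hν hsim m hm, H.r1 hb ŷ y₀ h1 ν hν hsim m hm, H.hμ,
      Matrix.mulVec_add, Matrix.mulVec_smul, tostaba4_tvB_ten, tostaba4_tvB_ten, hτv] at e1
    have e2 : C.f₁ m x₀ • ten u (μ *ᵥ y₀) = 0 := by
      have := congrArg (fun z => z - ten (tostaba4_al C g ŷ y₀ *ᵥ m) (μ *ᵥ y₀)) e1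
      simp only [sub_self, add_sub_cancel_left] at this
      exact this.symm
    have hμy : ten u (μ *ᵥ y₀) ≠ 0 := by
      intro h0
      rcases ten_eq_zero h0 with h | h
      · exact H.hu h
      · apply hy0
        rw [← H.inv_mu y₀, h, Matrix.mulVec_zero]
    rcases smul_eq_zero.1 e2 with h0 | h0
    · rw [C.hf₁.skew, h0, neg_zero]
    · exact absurd h0 hμy
  obtain ⟨l, hl⟩ := tostaba4_perp_perp C.hf₁ H.hu x₀ hperp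
  refine ⟨l + l + c₀, fun x y => ?_⟩
  rw [hr x y, hl, C.hf₁.bilinear.smul_right, ten_smul_left]
  congr 2
  rw [smul_smul, add_assoc, add_assoc, ← add_smul, ← add_smul]
  congr 2
  ring

/-- the semi-isometry property of `α₁`. -/
theorem si [Fintype F] (H : Tostaba4H C M g u μ) (hb : 6 ≤ b) (ŷ y₀ : Fin b → F)
    (h1 : C.f₂ (μ *ᵥ y₀) ŷ = 1) (ν : F) (hν : ν ≠ 0)
    (hsim : ∀ y y' : Fin b → F, C.f₂ (μ *ᵥ y) (μ *ᵥ y') = ν⁻¹ * C.f₂ y y') (x m : Fin a → F)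
    (hm : C.f₁ m u = 0) :
    C.f₁ (tostaba4_al C g ŷ y₀ *ᵥ x) (tostaba4_al C g ŷ y₀ *ᵥ m) = ν * C.f₁ x m := by
  have e1 : ten (tostaba4_al C g ŷ y₀ *ᵥ m) ŷ = g.val *ᵥ ten m (μ⁻¹ *ᵥ ŷ) := by
    rw [H.r1 hb ŷ y₀ h1 ν hν hsim m hm, H.mu_inv]
  have e2 : C.f₂ y₀ (μ⁻¹ *ᵥ ŷ) = ν := by
    have := hsim y₀ (μ⁻¹ *ᵥ ŷ)
    rw [H.mu_inv, h1] at this
    field_simp at this
    exact this.symm
  rw [tostaba4_al_mulVec C g ŷ y₀ x, ← C.f_ten_right_B, e1, C.G_f (H.hG H.hg), C.f_ten, e2]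
  ring

/-- `α₁` maps `u^⊥` onto `u^⊥`. -/
theorem al_surj [Fintype F] (H : Tostaba4H C M g u μ) (hb : 6 ≤ b) (ŷ y₀ : Fin b → F)
    (h1 : C.f₂ (μ *ᵥ y₀) ŷ = 1) (ν : F) (hν : ν ≠ 0)
    (hsim : ∀ y y' : Fin b → F, C.f₂ (μ *ᵥ y) (μ *ᵥ y') = ν⁻¹ * C.f₂ y y') :
    IsUnit (tostaba4_al C g ŷ y₀) ∧
    ∀ m : Fin a → F, C.f₁ m u = 0 → ∃ m' : Fin a → F, C.f₁ m' u = 0 ∧
      tostaba4_al C g ŷ y₀ *ᵥ m' = m := by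
  have hinj0 : ∀ z : Fin a → F, tostaba4_al C g ŷ y₀ *ᵥ z = 0 → z = 0 := by
    intro z hz
    have hperp : ∀ m : Fin a → F, C.f₁ m u = 0 → C.f₁ z m = 0 := by
      intro m hm
      have := H.si hb ŷ y₀ h1 ν hν hsim z m hm
      rw [hz, Cfsg.Agent.Lib.Helper28.SympAbs.f_zero_left C.hf₁] at this
      rcases mul_eq_zero.1 this.symm with h0 | h0
      · exact absurd h0 hν
      · exact h0
    obtain ⟨l, hl⟩ := tostaba4_perp_perp C.hf₁ H.hu z hperp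
    rw [hl, Matrix.mulVec_smul, H.al_u ŷ y₀ h1] at hz
    rcases smul_eq_zero.1 hz with h0 | h0
    · rw [hl, h0, zero_smul]
    · exact absurd h0 H.hu
  have hunit : IsUnit (tostaba4_al C g ŷ y₀) := by
    rw [← Matrix.mulVec_injective_iff_isUnit]
    intro z z' hzz
    have h0 : tostaba4_al C g ŷ y₀ *ᵥ (z - z') = 0 := by
      rw [Matrix.mulVec_sub]
      exact sub_eq_zero.2 hzz
    exact sub_eq_zero.1 (hinj0 _ h0)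
  refine ⟨hunit, fun m hm => ?_⟩
  have hdet : IsUnit (tostaba4_al C g ŷ y₀).det := (Matrix.isUnit_iff_isUnit_det _).1 hunit
  refine ⟨(tostaba4_al C g ŷ y₀)⁻¹ *ᵥ m, ?_, ?_⟩
  · have e1 : tostaba4_al C g ŷ y₀ *ᵥ ((tostaba4_al C g ŷ y₀)⁻¹ *ᵥ m) = m := by
      rw [Matrix.mulVec_mulVec, Matrix.mul_nonsing_inv _ hdet, Matrix.one_mulVec]
    have hu0 : C.f₁ u u = 0 := C.hf₁.alternating u
    have := H.si hb ŷ y₀ h1 ν hν hsim ((tostaba4_al C g ŷ y₀)⁻¹ *ᵥ m) u hu0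
    rw [e1, H.al_u ŷ y₀ h1, hm] at this
    rcases mul_eq_zero.1 this.symm with h0 | h0
    · exact absurd h0 hν
    · exact h0
  · rw [Matrix.mulVec_mulVec, Matrix.mul_nonsing_inv _ hdet, Matrix.one_mulVec]

/-- `g ≡ α₁ ⊗ μ` modulo `u ⊗ B` everywhere. -/
theorem r2 [Fintype F] (H : Tostaba4H C M g u μ) (hb : 6 ≤ b) (ŷ y₀ : Fin b → F)
    (h1 : C.f₂ (μ *ᵥ y₀) ŷ = 1) (ν : F) (hν : ν ≠ 0)
    (hsim : ∀ y y' : Fin b → F, C.f₂ (μ *ᵥ y) (μ *ᵥ y') = ν⁻¹ * C.f₂ y y') (x : Fin a → F)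
    (y : Fin b → F) :
    g.val *ᵥ ten x y - ten (tostaba4_al C g ŷ y₀ *ᵥ x) (μ *ᵥ y) ∈ Aline (b := b) u := by
  apply tostaba4_Aline_of_perp C H.hu
  intro m hm y'
  obtain ⟨m', hm', hmm'⟩ := (H.al_surj hb ŷ y₀ h1 ν hν hsim).2 m hm
  have e1 : ten m y' = g.val *ᵥ ten m' (μ⁻¹ *ᵥ y') := by
    rw [H.r1 hb ŷ y₀ h1 ν hν hsim m' hm', H.mu_inv, hmm']
  have e2 : C.f₂ (μ *ᵥ y) y' = ν⁻¹ * C.f₂ y (μ⁻¹ *ᵥ y') := by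
    rw [← hsim, H.mu_inv]
  rw [C.f_sub_left, e1, C.G_f (H.hG H.hg), ← e1, C.f_ten, C.f_ten, ← hmm',
    H.si hb ŷ y₀ h1 ν hν hsim x m' hm', e2]
  field_simp
  ring

/-- stage 2: `g = α₁ ⊗ μ`. -/
theorem r3 [Fintype F] (H : Tostaba4H C M g u μ) (hb : 6 ≤ b) (ŷ y₀ : Fin b → F)
    (h1 : C.f₂ (μ *ᵥ y₀) ŷ = 1) (ν : F) (hν : ν ≠ 0)
    (hsim : ∀ y y' : Fin b → F, C.f₂ (μ *ᵥ y) (μ *ᵥ y') = ν⁻¹ * C.f₂ y y') (x : Fin a → F)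
    (y : Fin b → F) :
    g.val *ᵥ ten x y = ten (tostaba4_al C g ŷ y₀ *ᵥ x) (μ *ᵥ y) := by
  apply H.stage hb ŷ y₀ h1 ν hν hsim x (fun y => H.r2 hb ŷ y₀ h1 ν hν hsim x y)
  intro w c
  obtain ⟨s, hs⟩ := H.rel' hb ŷ y₀ h1 ν hν hsim w c
  exact ⟨s * C.f₁ x u, fun y => hs x y⟩

/-- the case `u' = u`. -/
theorem mem_K0 [Fintype F] (H : Tostaba4H C M g u μ) (ha : 3 ≤ a) (hb : 6 ≤ b) :
    g ∈ K0 a b F := by
  classical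
  -- `y₀`, `ŷ`
  obtain ⟨j₀, hj₀⟩ : ∃ j₀ : Fin b, j₀ = ⟨0, by omega⟩ := ⟨_, rfl⟩
  obtain ⟨y₀, hy₀def⟩ : ∃ y₀ : Fin b → F, y₀ = Pi.single j₀ 1 := ⟨_, rfl⟩
  have hy₀ : y₀ ≠ 0 := by
    intro h0
    have := congrFun h0 j₀
    rw [hy₀def, Pi.single_eq_same, Pi.zero_apply] at this
    exact one_ne_zero this
  have hμy₀ : μ *ᵥ y₀ ≠ 0 := by
    intro h0
    apply hy₀
    rw [← H.inv_mu y₀, h0, Matrix.mulVec_zero]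
  obtain ⟨z, hz⟩ := (C.hf₂.nondegenerate _ hμy₀).2
  obtain ⟨ŷ, hŷdef⟩ : ∃ ŷ : Fin b → F, ŷ = (C.f₂ (μ *ᵥ y₀) z)⁻¹ • z := ⟨_, rfl⟩
  have h1 : C.f₂ (μ *ᵥ y₀) ŷ = 1 := by
    rw [hŷdef, C.hf₂.bilinear.smul_right, inv_mul_cancel₀ hz]
  obtain ⟨ν, hν, hsim⟩ := H.simil ha ŷ y₀ h1
  have hmat : g.val = tostaba4_al C g ŷ y₀ ⊗ₖ μ := by
    apply mat_ext_ten
    intro x y
    rw [H.r3 hb ŷ y₀ h1 ν hν hsim x y, kron_mulVec_ten]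
  obtain ⟨α, hα⟩ := (H.al_surj hb ŷ y₀ h1 ν hν hsim).1
  obtain ⟨β, hβ⟩ := (Matrix.isUnit_iff_isUnit_det μ).2 H.hdet
  exact (TP.mem_K0 g).2 ⟨α, β, by rw [hα, hβ]; exact hmat⟩

end Tostaba4H

/-- STABA4: the case `a ≥ 3` (mirror of STABB). -/
theorem stabA_of_ntsA [Fintype F] (C : Ctx a b F) (ha : 3 ≤ a) (hb : 6 ≤ b)
    (M : Subgroup (Matrix.GeneralLinearGroup (Fin a × Fin b) F)) (hT : C.T1 ≤ M) (hG : M ≤ C.G)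
    (hN : C.NtsA M) : StabA M := by
  classical
  intro g hg u u' hu hu' h
  -- WLOG `u' = u`
  have hW : ∀ x ∈ (⊤ : Submodule F (Fin a → F)), x ≠ 0 →
      ∃ t ∈ (⊤ : Submodule F (Fin a → F)), C.f₁ x t ≠ 0 := by
    intro x _ hx
    obtain ⟨t, ht⟩ := (C.hf₁.nondegenerate x hx).2
    exact ⟨t, Submodule.mem_top, ht⟩
  obtain ⟨α₀, hα₀T, hα₀, -, -⟩ := trans_vec C.hf₁ ⊤ hW u' u Submodule.mem_top Submodule.mem_top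
    hu' hu
  obtain ⟨g', hg'def⟩ : ∃ g' : Matrix.GeneralLinearGroup (Fin a × Fin b) F,
      g' = kA a b F α₀ * g := ⟨_, rfl⟩
  have hg'M : g' ∈ M := by
    rw [hg'def]
    exact M.mul_mem (hT (C.kA_mem_T1 hα₀T)) hg
  have hg'u : ∀ y : Fin b → F, ∃ y' : Fin b → F, g'.val *ᵥ ten u y = ten u y' := by
    intro y
    obtain ⟨y', hy'⟩ := h y
    refine ⟨y', ?_⟩
    rw [hg'def, Units.val_mul, ← Matrix.mulVec_mulVec, hy', kA_mulVec_ten, hα₀]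
  -- the matrix `μ`
  obtain ⟨i₀, hi₀⟩ := tpns_exists_ne hu
  obtain ⟨φ₀, hφ₀def⟩ : ∃ φ₀ : Fin a → F, φ₀ = Pi.single i₀ (u i₀)⁻¹ := ⟨_, rfl⟩
  have hφ₀ : φ₀ ⬝ᵥ u = 1 := by
    rw [hφ₀def, single_dotProduct, inv_mul_cancel₀ hi₀]
  obtain ⟨μ, hμdef⟩ : ∃ μ : Matrix (Fin b) (Fin b) F, μ = tostaba4_Bm g'.val φ₀ u := ⟨_, rfl⟩
  have hμ : ∀ y : Fin b → F, g'.val *ᵥ ten u y = ten u (μ *ᵥ y) := by
    intro y
    obtain ⟨y', hy'⟩ := hg'u y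
    rw [hμdef, tostaba4_Bm_mulVec, hy', ctrA_ten, hφ₀, one_smul]
  have hμinj : ∀ y : Fin b → F, μ *ᵥ y = 0 → y = 0 := by
    intro y hy
    have e1 := hμ y
    rw [hy, ten_zero_right] at e1
    have e2 := Ctx.inv_mulVec_mulVec g' (ten u y)
    rw [e1, Matrix.mulVec_zero] at e2
    rcases ten_eq_zero e2.symm with h0 | h0
    · exact absurd h0 hu
    · exact h0
  have hμunit : IsUnit μ := by
    rw [← Matrix.mulVec_injective_iff_isUnit]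
    intro y y' hyy
    have h0 : μ *ᵥ (y - y') = 0 := by
      rw [Matrix.mulVec_sub]
      exact sub_eq_zero.2 hyy
    exact sub_eq_zero.1 (hμinj _ h0)
  have H : Tostaba4H C M g' u μ :=
    ⟨hT, hG, hN, hg'M, hu, hμ, (Matrix.isUnit_iff_isUnit_det μ).1 hμunit⟩
  have hK : g' ∈ K0 a b F := H.mem_K0 ha hb
  have hfin : g = (kA a b F α₀)⁻¹ * g' := by rw [hg'def]; group
  rw [hfin]
  exact (K0 a b F).mul_mem ((K0 a b F).inv_mem (kA_mem_K0 α₀)) hK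

end Cfsg.Agent.Lib.helper7.TO
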