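import Cfsg.Agent.Lib.helper7.TO.Basic
import Cfsg.Agent.Lib.helper4.TPNS
import Cfsg.Agent.Lib.Helper20.TOALGC

/-!
# Project TO, piece STABA4 (part a): linear algebra on `A ⊗ B`, the elements `s_m` of `Q_u`.
-/

set_option autoImplicit false
set_option linter.unusedVariables false
set_option linter.unusedSectionVars false

namespace Cfsg.Agent.Lib.helper7.TO

open Matrix Cfsg.Agent.Lib.helper7.TP Cfsg.Agent.Lib.Helper28.SympAbs
open scoped Kronecker

variable {a b : ℕ} {F : Type*} [Field F]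

/-! ### A. linear algebra -/

/-- the two contractions commute. -/
theorem tostaba4_ctr_comm (φ : Fin a → F) (ψ : Fin b → F) (D : Fin a × Fin b → F) :
    φ ⬝ᵥ ctr ψ D = ψ ⬝ᵥ ctrA φ D := by
  simp only [dotProduct, ctr, ctrA, Finset.mul_sum]
  rw [Finset.sum_comm]
  refine Finset.sum_congr rfl fun j _ => ?_
  refine Finset.sum_congr rfl fun i _ => ?_
  ring

theorem tostaba4_ctrA_sub (φ : Fin a → F) (v v' : Fin a × Fin b → F) :
    ctrA φ (v - v') = ctrA φ v - ctrA φ v' := by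
  have h := ctrA_add φ (v - v') v'
  rw [sub_add_cancel] at h
  rw [h, add_sub_cancel_right]

theorem tostaba4_ctrA_zero (φ : Fin a → F) : ctrA φ (0 : Fin a × Fin b → F) = 0 := by
  funext j
  simp [ctrA]

/-- a vector all of whose `B`-contractions lie on the line `F u` lies in `u ⊗ B`. -/
theorem tostaba4_Aline_of_ctr (u : Fin a → F) (D : Fin a × Fin b → F)
    (h : ∀ ψ : Fin b → F, ∃ l : F, ctr ψ D = l • u) : D ∈ Aline (b := b) u := by
  classical
  choose l hl using fun j : Fin b => h (Pi.single j 1)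
  refine (mem_Aline u D).2 ⟨l, ?_⟩
  funext p
  obtain ⟨i, j⟩ := p
  have h1 := congrFun (hl j) i
  rw [tpns_ctr_single] at h1
  simp only [Pi.smul_apply, smul_eq_mul] at h1
  simp only [ten]
  rw [h1]
  ring

/-- `(u^⊥)^⊥ = F u`. -/
theorem tostaba4_perp_perp {n : ℕ} {f : (Fin n → F) → (Fin n → F) → F}
    (hf : Cfsg.Geo.IsSymplecticForm f) {u : Fin n → F} (hu : u ≠ 0) (x : Fin n → F)
    (h : ∀ m : Fin n → F, f m u = 0 → f x m = 0) : ∃ l : F, x = l • u := by
  obtain ⟨us, hus⟩ := toalgc_partner hf hu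
  refine ⟨f us x, ?_⟩
  by_contra hne
  have hne' : x - f us x • u ≠ 0 := sub_ne_zero.mpr hne
  obtain ⟨z, hz⟩ := (hf.nondegenerate _ hne').2
  apply hz
  -- `z = (z - f z u • us) + f z u • us`
  have hz1 : f (z - f z u • us) u = 0 := by
    rw [f_sub_left hf, hf.bilinear.smul_left, hus, mul_one, sub_self]
  have e1 : f x (z - f z u • us) = 0 := h _ hz1
  have e2 : f u (z - f z u • us) = 0 := by rw [hf.skew, hz1, neg_zero]
  have e3 : f (x - f us x • u) (z - f z u • us) = 0 := by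
    rw [f_sub_left hf, hf.bilinear.smul_left, e1, e2, mul_zero, sub_zero]
  have e4 : f (x - f us x • u) us = 0 := by
    rw [f_sub_left hf, hf.bilinear.smul_left, hf.skew u us, hus, hf.skew x us]
    ring
  have hzz : z = (z - f z u • us) + f z u • us := by abel
  rw [hzz, hf.bilinear.add_right, e3, hf.bilinear.smul_right, e4, mul_zero, add_zero]

/-- a vector killed by all contractions `m^* ⊗ 1`, `m ∈ u^⊥`, lies in `u ⊗ B`. -/
theorem tostaba4_Aline_of_ctrA (C : Ctx a b F) {u : Fin a → F} (hu : u ≠ 0)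
    (D : Fin a × Fin b → F)
    (h : ∀ m : Fin a → F, C.f₁ m u = 0 → ctrA (C.fl₁ m) D = 0) :
    D ∈ Aline (b := b) u := by
  apply tostaba4_Aline_of_ctr
  intro ψ
  apply tostaba4_perp_perp C.hf₁ hu
  intro m hm
  rw [← C.fl₁_dot, tostaba4_ctr_comm, h m hm, dotProduct_zero]

/-- `(u^⊥ ⊗ B)^⊥ = u ⊗ B`. -/
theorem tostaba4_Aline_of_perp (C : Ctx a b F) {u : Fin a → F} (hu : u ≠ 0)
    (D : Fin a × Fin b → F)
    (h : ∀ m : Fin a → F, C.f₁ m u = 0 → ∀ y : Fin b → F, C.f D (ten m y) = 0) :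
    D ∈ Aline (b := b) u :=
  tostaba4_Aline_of_ctrA C hu D fun m hm => (C.perp_Aline_iff D m).1 (h m hm)

/-- a vector outside `F u` in `u^⊥` has a partner inside `u^⊥`. -/
theorem tostaba4_pair_in_perp {n : ℕ} {f : (Fin n → F) → (Fin n → F) → F}
    (hf : Cfsg.Geo.IsSymplecticForm f) (hn : 3 ≤ n) {u : Fin n → F} (hu : u ≠ 0) :
    ∃ x x' : Fin n → F, f x u = 0 ∧ f x' u = 0 ∧ f x x' = 1 := by
  obtain ⟨x, hx, hxl⟩ := toalgc_perp_out hf hn hu
  have hex : ∃ m : Fin n → F, f m u = 0 ∧ f x m ≠ 0 := by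
    by_contra hcon
    push Not at hcon
    obtain ⟨l, hl⟩ := tostaba4_perp_perp hf hu x hcon
    exact hxl l hl
  obtain ⟨m, hm, hxm⟩ := hex
  refine ⟨x, (f x m)⁻¹ • m, hx, ?_, ?_⟩
  · rw [hf.bilinear.smul_left, hm, mul_zero]
  · rw [hf.bilinear.smul_right, inv_mul_cancel₀ hxm]

/-- `y ↦ ten x y` as a linear map. -/
def tostaba4_tenR (x : Fin a → F) : (Fin b → F) →ₗ[F] (Fin a × Fin b → F) where
  toFun y := ten x y
  map_add' y y' := ten_add_right x y y'
  map_smul' c y := ten_smul_right c x y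

/-- `ctrA φ` as a linear map. -/
def tostaba4_ctrAL (φ : Fin a → F) : (Fin a × Fin b → F) →ₗ[F] (Fin b → F) where
  toFun v := ctrA φ v
  map_add' v v' := ctrA_add φ v v'
  map_smul' c v := ctrA_smul φ c v

/-- the matrix of `y ↦ ctrA φ (G (x ⊗ y))`. -/
noncomputable def tostaba4_Bm (G : Matrix (Fin a × Fin b) (Fin a × Fin b) F) (φ x : Fin a → F) :
    Matrix (Fin b) (Fin b) F :=
  LinearMap.toMatrix' ((tostaba4_ctrAL φ).comp ((Matrix.toLin' G).comp (tostaba4_tenR x)))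

theorem tostaba4_Bm_mulVec (G : Matrix (Fin a × Fin b) (Fin a × Fin b) F) (φ x : Fin a → F)
    (y : Fin b → F) : tostaba4_Bm G φ x *ᵥ y = ctrA φ (G *ᵥ ten x y) := by
  rw [tostaba4_Bm, LinearMap.toMatrix'_mulVec]
  rfl

/-! ### B. the elements `s_m` of `Q_u` -/

/-- for `m ∈ u^⊥` the map `x ↦ x + f(x,m) u + f(x,u) m` is a product of three transvections. -/
theorem tostaba4_sm {n : ℕ} {f : (Fin n → F) → (Fin n → F) → F}
    (hf : Cfsg.Geo.IsSymplecticForm f) (u m : Fin n → F) (hm : f m u = 0) :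
    ∃ s ∈ TT f, ∀ x : Fin n → F,
      (s : Matrix (Fin n) (Fin n) F) *ᵥ x = x + f x m • u + f x u • m := by
  refine ⟨tvg hf (u + m) 1 * tvg hf u (-1) * tvg hf m (-1),
    (TT f).mul_mem ((TT f).mul_mem (tvg_mem_TT hf _ _) (tvg_mem_TT hf _ _)) (tvg_mem_TT hf _ _), ?_⟩
  intro x
  have hum : f u m = 0 := by rw [hf.skew, hm, neg_zero]
  have e1 : f (x + (-1 * f x m) • m) u = f x u := by
    rw [hf.bilinear.add_left, hf.bilinear.smul_left, hm, mul_zero, add_zero]
  have e2 : f (x + (-1 * f x m) • m + (-1 * f x u) • u) (u + m) = f x u + f x m := by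
    rw [hf.bilinear.add_left, hf.bilinear.add_left, hf.bilinear.smul_left, hf.bilinear.smul_left,
      hf.bilinear.add_right, hf.bilinear.add_right, hf.bilinear.add_right, hf.alternating,
      hf.alternating, hm, hum]
    ring
  rw [Units.val_mul, Units.val_mul, ← Matrix.mulVec_mulVec, ← Matrix.mulVec_mulVec, tvg_coe, tvg_coe,
    tvg_coe, tvm_mulVec hf m, tvm_mulVec hf u, tvm_mulVec hf (u + m), e1, e2]
  simp only [smul_add, add_smul, neg_mul, neg_smul, one_mul]
  abel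

/-- the action of `s_m ⊗ 1` on an arbitrary vector. -/
theorem tostaba4_kA_sm (C : Ctx a b F) (s : Matrix.GeneralLinearGroup (Fin a) F) (u m : Fin a → F)
    (hs : ∀ x : Fin a → F,
      (s : Matrix (Fin a) (Fin a) F) *ᵥ x = x + C.f₁ x m • u + C.f₁ x u • m)
    (Y : Fin a × Fin b → F) :
    ((kA a b F s : Matrix.GeneralLinearGroup (Fin a × Fin b) F) :
      Matrix (Fin a × Fin b) (Fin a × Fin b) F) *ᵥ Y =
      Y + ten u (ctrA (C.fl₁ m) Y) + ten m (ctrA (C.fl₁ u) Y) := by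
  have hmat : ((kA a b F s : Matrix.GeneralLinearGroup (Fin a × Fin b) F) :
      Matrix (Fin a × Fin b) (Fin a × Fin b) F) =
      1 + Matrix.vecMulVec u (C.fl₁ m) ⊗ₖ (1 : Matrix (Fin b) (Fin b) F) +
        Matrix.vecMulVec m (C.fl₁ u) ⊗ₖ (1 : Matrix (Fin b) (Fin b) F) := by
    apply mat_ext_ten
    intro x y
    rw [kA_mulVec_ten, hs, Matrix.add_mulVec, Matrix.add_mulVec, Matrix.one_mulVec,
      vecMulVec_kron_mulVec, vecMulVec_kron_mulVec, Matrix.one_mulVec, Matrix.one_mulVec,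
      C.ctrA_fl₁_ten, C.ctrA_fl₁_ten, ten_add_left, ten_add_left, ten_smul_left, ten_smul_left,
      ten_smul_right, ten_smul_right]
  rw [hmat, Matrix.add_mulVec, Matrix.add_mulVec, Matrix.one_mulVec, vecMulVec_kron_mulVec,
    vecMulVec_kron_mulVec, Matrix.one_mulVec, Matrix.one_mulVec]

end Cfsg.Agent.Lib.helper7.TO
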