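import Cfsg.Agent.Lib.Helper22.TOSTABA4a

/-!
# Project TO, piece STABA4 (part b): the front end.
`g ∈ M` with `g (u ⊗ y) = u ⊗ μ y`.  `NtsA` applied to `g⁻¹ (s_m ⊗ 1) g` gives the shape of `g` on
`u^⊥ ⊗ B` modulo `u ⊗ B`; `μ` is a similitude; the relation `g t = t' g e_t` for `t = 1 ⊗ τ_w(c)`.
-/

set_option autoImplicit false
set_option linter.unusedVariables false
set_option linter.unusedSectionVars false

namespace Cfsg.Agent.Lib.helper7.TO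

open Matrix Cfsg.Agent.Lib.helper7.TP Cfsg.Agent.Lib.Helper28.SympAbs
open scoped Kronecker

variable {a b : ℕ} {F : Type*} [Field F]

/-- the standing hypotheses of STABA4 (case `u' = u`). -/
structure Tostaba4H (C : Ctx a b F) (M : Subgroup (Matrix.GeneralLinearGroup (Fin a × Fin b) F))
    (g : Matrix.GeneralLinearGroup (Fin a × Fin b) F) (u : Fin a → F)
    (μ : Matrix (Fin b) (Fin b) F) : Prop where
  hT : C.T1 ≤ M
  hG : M ≤ C.G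
  hN : C.NtsA M
  hg : g ∈ M
  hu : u ≠ 0
  hμ : ∀ y : Fin b → F, g.val *ᵥ ten u y = ten u (μ *ᵥ y)
  hdet : IsUnit μ.det

/-- `α₁ = ⟨ŷ| g |y₀⟩`: the matrix of `x ↦ ctr (fl₂ ŷ) (g (x ⊗ y₀))`. -/
noncomputable def tostaba4_al (C : Ctx a b F) (g : Matrix.GeneralLinearGroup (Fin a × Fin b) F)
    (ŷ y₀ : Fin b → F) : Matrix (Fin a) (Fin a) F :=
  tpns_mat g.val (C.fl₂ ŷ) y₀

theorem tostaba4_al_mulVec (C : Ctx a b F) (g : Matrix.GeneralLinearGroup (Fin a × Fin b) F)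
    (ŷ y₀ : Fin b → F) (x : Fin a → F) :
    tostaba4_al C g ŷ y₀ *ᵥ x = ctr (C.fl₂ ŷ) (g.val *ᵥ ten x y₀) := by
  rw [tostaba4_al, tpns_mat_mulVec]

theorem tostaba4_tvB_ten (C : Ctx a b F) (w : Fin b → F) (c : F) (x : Fin a → F) (y : Fin b → F) :
    (C.tvB w c).val *ᵥ ten x y = ten x (tvm C.f₂ w c *ᵥ y) := by
  rw [C.tvB_eq_kB, kB_mulVec_ten, tvg_coe]

theorem tostaba4_tvB_inv_ten (C : Ctx a b F) (w : Fin b → F) (c : F) (x : Fin a → F)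
    (y : Fin b → F) :
    ((C.tvB w c)⁻¹).val *ᵥ ten x y = ten x (tvm C.f₂ w (-c) *ᵥ y) := by
  rw [C.tvB_eq_kB, ← map_inv, kB_mulVec_ten]
  rfl

namespace Tostaba4H

variable {C : Ctx a b F} {M : Subgroup (Matrix.GeneralLinearGroup (Fin a × Fin b) F)}
  {g : Matrix.GeneralLinearGroup (Fin a × Fin b) F} {u : Fin a → F} {μ : Matrix (Fin b) (Fin b) F}

theorem mu_inv (H : Tostaba4H C M g u μ) (y : Fin b → F) : μ *ᵥ (μ⁻¹ *ᵥ y) = y := by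
  rw [Matrix.mulVec_mulVec, Matrix.mul_nonsing_inv μ H.hdet, Matrix.one_mulVec]

theorem inv_mu (H : Tostaba4H C M g u μ) (y : Fin b → F) : μ⁻¹ *ᵥ (μ *ᵥ y) = y := by
  rw [Matrix.mulVec_mulVec, Matrix.nonsing_inv_mul μ H.hdet, Matrix.one_mulVec]

theorem ginv_u (H : Tostaba4H C M g u μ) (y : Fin b → F) :
    (g⁻¹).val *ᵥ ten u y = ten u (μ⁻¹ *ᵥ y) := by
  have h1 : ten u y = g.val *ᵥ ten u (μ⁻¹ *ᵥ y) := by rw [H.hμ, H.mu_inv]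
  rw [h1, Ctx.inv_mulVec_mulVec]

theorem g_Aline (H : Tostaba4H C M g u μ) {X : Fin a × Fin b → F} (hX : X ∈ Aline (b := b) u) :
    g.val *ᵥ X ∈ Aline (b := b) u := by
  obtain ⟨y, rfl⟩ := (mem_Aline u X).1 hX
  exact (mem_Aline u _).2 ⟨_, H.hμ y⟩

theorem ginv_Aline (H : Tostaba4H C M g u μ) {X : Fin a × Fin b → F}
    (hX : X ∈ Aline (b := b) u) : (g⁻¹).val *ᵥ X ∈ Aline (b := b) u := by
  obtain ⟨y, rfl⟩ := (mem_Aline u X).1 hX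
  exact (mem_Aline u _).2 ⟨_, H.ginv_u y⟩

/-- `g` preserves `u^⊥ ⊗ B`. -/
theorem pres_perp (H : Tostaba4H C M g u μ) (x : Fin a → F) (hx : C.f₁ x u = 0) (y : Fin b → F) :
    ctrA (C.fl₁ u) (g.val *ᵥ ten x y) = 0 := by
  rw [← C.perp_Aline_iff]
  intro y'
  have h1 : ten u y' = g.val *ᵥ ten u (μ⁻¹ *ᵥ y') := by rw [H.hμ, H.mu_inv]
  rw [h1, C.G_f (H.hG H.hg), C.f_ten, hx, zero_mul]

/-- `NtsA` applied to `g⁻¹ (s_m ⊗ 1) g`. -/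
theorem front_ctr (H : Tostaba4H C M g u μ) (m : Fin a → F) (hm : C.f₁ m u = 0) :
    ∃ ρ : Fin a → F, ∀ x : Fin a → F, C.f₁ x u = 0 → ∀ y : Fin b → F,
      ctrA (C.fl₁ m) (g.val *ᵥ ten x y) = C.f₁ x ρ • (μ *ᵥ y) := by
  obtain ⟨s, hsT, hs⟩ := tostaba4_sm C.hf₁ u m hm
  have hum : C.f₁ u m = 0 := by rw [C.hf₁.skew, hm, neg_zero]
  have hkM : kA a b F s ∈ M := H.hT (C.kA_mem_T1 hsT)
  obtain ⟨h, hhdef⟩ : ∃ h : Matrix.GeneralLinearGroup (Fin a × Fin b) F,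
      h = g⁻¹ * kA a b F s * g := ⟨_, rfl⟩
  have hhM : h ∈ M := by
    rw [hhdef]
    exact M.mul_mem (M.mul_mem (M.inv_mem H.hg) hkM) H.hg
  have hhv : ∀ X : Fin a × Fin b → F,
      h.val *ᵥ X = (g⁻¹).val *ᵥ ((kA a b F s).val *ᵥ (g.val *ᵥ X)) := by
    intro X
    rw [hhdef, Units.val_mul, Units.val_mul, ← Matrix.mulVec_mulVec, ← Matrix.mulVec_mulVec]
  have hsu : (s : Matrix (Fin a) (Fin a) F) *ᵥ u = u := by
    rw [hs, hum, C.hf₁.alternating, zero_smul, zero_smul, add_zero, add_zero]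
  -- the two hypotheses of `NtsA`
  have ha : ∀ y : Fin b → F, h.val *ᵥ ten u y = ten u y := by
    intro y
    rw [hhv, H.hμ, kA_mulVec_ten, hsu, ← H.hμ, Ctx.inv_mulVec_mulVec]
  have hkY : ∀ x : Fin a → F, C.f₁ x u = 0 → ∀ y : Fin b → F,
      (kA a b F s).val *ᵥ (g.val *ᵥ ten x y) =
        g.val *ᵥ ten x y + ten u (ctrA (C.fl₁ m) (g.val *ᵥ ten x y)) := by
    intro x hx y
    rw [tostaba4_kA_sm C s u m hs, H.pres_perp x hx y, ten_zero_right, add_zero]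
  have hb : ∀ x : Fin a → F, C.f₁ x u = 0 → ∀ y : Fin b → F, ∃ y' : Fin b → F,
      h.val *ᵥ ten x y = ten x y + ten u y' := by
    intro x hx y
    refine ⟨μ⁻¹ *ᵥ ctrA (C.fl₁ m) (g.val *ᵥ ten x y), ?_⟩
    rw [hhv, hkY x hx y, Matrix.mulVec_add, Ctx.inv_mulVec_mulVec, H.ginv_u]
  obtain ⟨ρ, c₀, hρ, hHA⟩ := H.hN h hhM u H.hu ha hb
  refine ⟨ρ, fun x hx y => ?_⟩
  -- `(s_m ⊗ 1) g = g h`
  have hrel : (kA a b F s).val *ᵥ (g.val *ᵥ ten x y) = g.val *ᵥ (h.val *ᵥ ten x y) := by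
    rw [hhv, Ctx.mulVec_inv_mulVec]
  rw [hkY x hx y, hHA x y, hx, zero_smul, zero_smul, add_zero, add_zero, Matrix.one_mulVec,
    Matrix.mulVec_add, Matrix.mulVec_smul, H.hμ] at hrel
  have h2 : ten u (ctrA (C.fl₁ m) (g.val *ᵥ ten x y)) = ten u (C.f₁ x ρ • (μ *ᵥ y)) := by
    rw [ten_smul_right]
    exact add_left_cancel hrel
  exact ten_right_inj H.hu h2

theorem al_u (H : Tostaba4H C M g u μ) (ŷ y₀ : Fin b → F) (h1 : C.f₂ (μ *ᵥ y₀) ŷ = 1) :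
    tostaba4_al C g ŷ y₀ *ᵥ u = u := by
  rw [tostaba4_al_mulVec, H.hμ, C.ctr_fl₂_ten, h1, one_smul]

theorem al_perp (H : Tostaba4H C M g u μ) (ŷ y₀ : Fin b → F) (x : Fin a → F)
    (hx : C.f₁ x u = 0) : C.f₁ (tostaba4_al C g ŷ y₀ *ᵥ x) u = 0 := by
  rw [← C.fl₁_dot, tostaba4_al_mulVec, tostaba4_ctr_comm, H.pres_perp x hx, dotProduct_zero]

/-- the front end: `g (x ⊗ y) ≡ α₁ x ⊗ μ y` modulo `u ⊗ B` for `x ∈ u^⊥`. -/
theorem front (H : Tostaba4H C M g u μ) (ŷ y₀ : Fin b → F) (h1 : C.f₂ (μ *ᵥ y₀) ŷ = 1)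
    (x : Fin a → F) (hx : C.f₁ x u = 0) (y : Fin b → F) :
    g.val *ᵥ ten x y - ten (tostaba4_al C g ŷ y₀ *ᵥ x) (μ *ᵥ y) ∈ Aline (b := b) u := by
  apply tostaba4_Aline_of_ctrA C H.hu
  intro m hm
  obtain ⟨ρ, hρ⟩ := H.front_ctr m hm
  have e1 : C.f₁ (tostaba4_al C g ŷ y₀ *ᵥ x) m = C.f₁ x ρ := by
    rw [← C.fl₁_dot, tostaba4_al_mulVec, tostaba4_ctr_comm, hρ x hx y₀, dotProduct_smul, C.fl₂_dot,
      h1, smul_eq_mul, mul_one]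
  rw [tostaba4_ctrA_sub, hρ x hx y, C.ctrA_fl₁_ten, e1, sub_self]

end Tostaba4H

end Cfsg.Agent.Lib.helper7.TO
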