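import Cfsg.Agent.Lib.Helper22.TOSTABA4b

/-!
# Project TO, piece STABA4 (part c): `μ` is a similitude; the relation `g t = t' g e_t`.
-/

set_option autoImplicit false
set_option linter.unusedVariables false
set_option linter.unusedSectionVars false

namespace Cfsg.Agent.Lib.helper7.TO

open Matrix Cfsg.Agent.Lib.helper7.TP Cfsg.Agent.Lib.Helper28.SympAbs
open scoped Kronecker

variable {a b : ℕ} {F : Type*} [Field F]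

/-- `τ_{μ w}(c ν) μ = μ τ_w(c)` for a similitude `μ` with multiplier `ν⁻¹`. -/
theorem tostaba4_tau_mu {n : ℕ} {f : (Fin n → F) → (Fin n → F) → F}
    (hf : Cfsg.Geo.IsSymplecticForm f) (μ : Matrix (Fin n) (Fin n) F) (ν : F) (hν : ν ≠ 0)
    (hsim : ∀ y y' : Fin n → F, f (μ *ᵥ y) (μ *ᵥ y') = ν⁻¹ * f y y') (w : Fin n → F) (c : F) :
    tvm f (μ *ᵥ w) (c * ν) * μ = μ * tvm f w c := by
  rw [Matrix.ext_iff_mulVec]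
  intro y
  rw [← Matrix.mulVec_mulVec, ← Matrix.mulVec_mulVec, tvm_mulVec hf, tvm_mulVec hf, hsim,
    Matrix.mulVec_add, Matrix.mulVec_smul]
  congr 2
  field_simp

namespace Tostaba4H

variable {C : Ctx a b F} {M : Subgroup (Matrix.GeneralLinearGroup (Fin a × Fin b) F)}
  {g : Matrix.GeneralLinearGroup (Fin a × Fin b) F} {u : Fin a → F} {μ : Matrix (Fin b) (Fin b) F}

/-- the explicit shape on `u^⊥ ⊗ B`. -/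
theorem front_ex (H : Tostaba4H C M g u μ) (ŷ y₀ : Fin b → F) (h1 : C.f₂ (μ *ᵥ y₀) ŷ = 1)
    (x : Fin a → F) (hx : C.f₁ x u = 0) (y : Fin b → F) :
    ∃ d : Fin b → F,
      g.val *ᵥ ten x y = ten (tostaba4_al C g ŷ y₀ *ᵥ x) (μ *ᵥ y) + ten u d := by
  obtain ⟨d, hd⟩ := (mem_Aline u _).1 (H.front ŷ y₀ h1 x hx y)
  exact ⟨d, by rw [← hd]; abel⟩

/-- `μ` is a similitude. -/
theorem simil (H : Tostaba4H C M g u μ) (ha : 3 ≤ a) (ŷ y₀ : Fin b → F)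
    (h1 : C.f₂ (μ *ᵥ y₀) ŷ = 1) :
    ∃ ν : F, ν ≠ 0 ∧ ∀ y y' : Fin b → F, C.f₂ (μ *ᵥ y) (μ *ᵥ y') = ν⁻¹ * C.f₂ y y' := by
  obtain ⟨x, x', hx, hx', hxx'⟩ := tostaba4_pair_in_perp C.hf₁ ha H.hu
  have key : ∀ y y' : Fin b → F,
      C.f₂ y y' = C.f₁ (tostaba4_al C g ŷ y₀ *ᵥ x) (tostaba4_al C g ŷ y₀ *ᵥ x') *
        C.f₂ (μ *ᵥ y) (μ *ᵥ y') := by
    intro y y'
    obtain ⟨d, hd⟩ := H.front_ex ŷ y₀ h1 x hx y
    obtain ⟨d', hd'⟩ := H.front_ex ŷ y₀ h1 x' hx' y'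
    have e0 := C.G_f (H.hG H.hg) (ten x y) (ten x' y')
    rw [hd, hd', C.f_ten, hxx', one_mul, C.hf.add_left, C.hf.add_right, C.hf.add_right, C.f_ten,
      C.f_ten, C.f_ten, C.f_ten, H.al_perp ŷ y₀ x hx, C.hf₁.alternating,
      C.hf₁.skew u, H.al_perp ŷ y₀ x' hx'] at e0
    rw [← e0]
    ring
  have hy0 : y₀ ≠ 0 := by
    rintro rfl
    rw [Matrix.mulVec_zero, Cfsg.Agent.Lib.Helper28.SympAbs.f_zero_left C.hf₂] at h1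
    exact zero_ne_one h1
  obtain ⟨y', hy'⟩ := (C.hf₂.nondegenerate y₀ hy0).2
  have hκ : C.f₁ (tostaba4_al C g ŷ y₀ *ᵥ x) (tostaba4_al C g ŷ y₀ *ᵥ x') ≠ 0 := by
    intro h0
    apply hy'
    rw [key y₀ y', h0, zero_mul]
  refine ⟨_, hκ, fun y y' => ?_⟩
  rw [key y y', ← mul_assoc, inv_mul_cancel₀ hκ, one_mul]

/-- the relation `g t = t' g e_t`, `t = 1 ⊗ τ_w(c)`, `t' = 1 ⊗ τ_{μ w}(c ν)`, `e_t ∈ Q_u ⊗ 1`. -/
theorem rel (H : Tostaba4H C M g u μ) (ŷ y₀ : Fin b → F) (h1 : C.f₂ (μ *ᵥ y₀) ŷ = 1) (ν : F)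
    (hν : ν ≠ 0) (hsim : ∀ y y' : Fin b → F, C.f₂ (μ *ᵥ y) (μ *ᵥ y') = ν⁻¹ * C.f₂ y y')
    (w : Fin b → F) (c : F) :
    ∃ (x₀ : Fin a → F) (c₀ : F), C.f₁ x₀ u = 0 ∧ ∀ (x : Fin a → F) (y : Fin b → F),
      g.val *ᵥ ten x (tvm C.f₂ w c *ᵥ y) =
        (C.tvB (μ *ᵥ w) (c * ν)).val *ᵥ (g.val *ᵥ (ten x y + C.f₁ x x₀ • ten u y +
          C.f₁ x u • ten x₀ y + (C.f₁ x u * c₀) • ten u y)) := by
  have hτ := tostaba4_tau_mu C.hf₂ μ ν hν hsim w c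
  have hτv : ∀ z : Fin b → F,
      tvm C.f₂ (μ *ᵥ w) (c * ν) *ᵥ (μ *ᵥ z) = μ *ᵥ (tvm C.f₂ w c *ᵥ z) := by
    intro z
    rw [Matrix.mulVec_mulVec, hτ, ← Matrix.mulVec_mulVec]
  obtain ⟨t, htdef⟩ : ∃ t : Matrix.GeneralLinearGroup (Fin a × Fin b) F, t = C.tvB w c := ⟨_, rfl⟩
  obtain ⟨t', ht'def⟩ : ∃ t' : Matrix.GeneralLinearGroup (Fin a × Fin b) F,
      t' = C.tvB (μ *ᵥ w) (c * ν) := ⟨_, rfl⟩
  have htM : t ∈ M := by rw [htdef]; exact H.hT (C.tvB_mem_T1 w c)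
  have ht'M : t' ∈ M := by rw [ht'def]; exact H.hT (C.tvB_mem_T1 _ _)
  have ht : ∀ (x : Fin a → F) (y : Fin b → F), t.val *ᵥ ten x y = ten x (tvm C.f₂ w c *ᵥ y) := by
    intro x y; rw [htdef, tostaba4_tvB_ten]
  have ht' : ∀ (x : Fin a → F) (y : Fin b → F),
      t'.val *ᵥ ten x y = ten x (tvm C.f₂ (μ *ᵥ w) (c * ν) *ᵥ y) := by
    intro x y; rw [ht'def, tostaba4_tvB_ten]
  have ht'i : ∀ (x : Fin a → F) (y : Fin b → F),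
      (t'⁻¹).val *ᵥ ten x y = ten x (tvm C.f₂ (μ *ᵥ w) (-(c * ν)) *ᵥ y) := by
    intro x y; rw [ht'def, tostaba4_tvB_inv_ten]
  obtain ⟨e, hedef⟩ : ∃ e : Matrix.GeneralLinearGroup (Fin a × Fin b) F,
      e = g⁻¹ * t'⁻¹ * g * t := ⟨_, rfl⟩
  have heM : e ∈ M := by
    rw [hedef]
    exact M.mul_mem (M.mul_mem (M.mul_mem (M.inv_mem H.hg) (M.inv_mem ht'M)) H.hg) htM
  have hev : ∀ X : Fin a × Fin b → F,
      e.val *ᵥ X = (g⁻¹).val *ᵥ ((t'⁻¹).val *ᵥ (g.val *ᵥ (t.val *ᵥ X))) := by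
    intro X
    rw [hedef, Units.val_mul, Units.val_mul, Units.val_mul, ← Matrix.mulVec_mulVec,
      ← Matrix.mulVec_mulVec, ← Matrix.mulVec_mulVec]
  -- hypothesis (a) of `NtsA`
  have hea : ∀ y : Fin b → F, e.val *ᵥ ten u y = ten u y := by
    intro y
    have e1 : g.val *ᵥ (t.val *ᵥ ten u y) = t'.val *ᵥ (g.val *ᵥ ten u y) := by
      rw [ht, H.hμ, H.hμ, ht', hτv]
    rw [hev, e1, Ctx.inv_mulVec_mulVec, Ctx.inv_mulVec_mulVec]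
  -- hypothesis (b) of `NtsA`
  have heb : ∀ x : Fin a → F, C.f₁ x u = 0 → ∀ y : Fin b → F, ∃ y' : Fin b → F,
      e.val *ᵥ ten x y = ten x y + ten u y' := by
    intro x hx y
    obtain ⟨d₁, hd₁⟩ := H.front_ex ŷ y₀ h1 x hx y
    obtain ⟨d₂, hd₂⟩ := H.front_ex ŷ y₀ h1 x hx (tvm C.f₂ w c *ᵥ y)
    have e1 : g.val *ᵥ (t.val *ᵥ ten x y) =
        t'.val *ᵥ (g.val *ᵥ ten x y) +
          ten u (d₂ - tvm C.f₂ (μ *ᵥ w) (c * ν) *ᵥ d₁) := by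
      rw [ht, hd₂, hd₁, Matrix.mulVec_add, ht', ht', hτv, ten_sub_right]
      abel
    refine ⟨μ⁻¹ *ᵥ (tvm C.f₂ (μ *ᵥ w) (-(c * ν)) *ᵥ
      (d₂ - tvm C.f₂ (μ *ᵥ w) (c * ν) *ᵥ d₁)), ?_⟩
    rw [hev, e1, Matrix.mulVec_add, Matrix.mulVec_add, Ctx.inv_mulVec_mulVec,
      Ctx.inv_mulVec_mulVec, ht'i, H.ginv_u]
  obtain ⟨x₀, c₀, hx₀, hHA⟩ := H.hN e heM u H.hu hea heb
  refine ⟨x₀, c₀, hx₀, fun x y => ?_⟩
  have hrel : g.val *ᵥ (t.val *ᵥ ten x y) = t'.val *ᵥ (g.val *ᵥ (e.val *ᵥ ten x y)) := by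
    rw [hev, Ctx.mulVec_inv_mulVec, Ctx.mulVec_inv_mulVec]
  rw [ht] at hrel
  rw [hrel, ← ht'def, hHA x y, Matrix.one_mulVec, Matrix.smul_mulVec, Matrix.one_mulVec,
    ten_smul_right, smul_smul]

end Tostaba4H

end Cfsg.Agent.Lib.helper7.TO
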