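import Cfsg.Agent.Lib.Helper22.TOSTABA4c

/-!
# Project TO, piece STABA4 (part d): the stage lemma (ALGC) .
-/

set_option autoImplicit false
set_option linter.unusedVariables false
set_option linter.unusedSectionVars false

namespace Cfsg.Agent.Lib.helper7.TO

open Matrix Cfsg.Agent.Lib.helper7.TP Cfsg.Agent.Lib.Helper28.SympAbs
open scoped Kronecker

variable {a b : ℕ} {F : Type*} [Field F]

/-- matrix algebra behind the stage lemma: from `Z τ = τ' Z + s μ τ` and `τ' μ = μ τ` to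
`ζ - τ ζ τ⁻¹ = s`, `ζ = μ⁻¹ Z`. -/
theorem tostaba4_alg {n : ℕ} (μ Z τ τm τ' : Matrix (Fin n) (Fin n) F) (s : F)
    (hdet : IsUnit μ.det) (hττ : τ * τm = 1) (hτμ : τ' * μ = μ * τ)
    (hZ : Z * τ = τ' * Z + s • (μ * τ)) :
    μ⁻¹ * Z - τ * (μ⁻¹ * Z) * τm = s • (1 : Matrix (Fin n) (Fin n) F) := by
  have h1 : μ⁻¹ * μ = 1 := Matrix.nonsing_inv_mul μ hdet
  have h2 : μ * μ⁻¹ = 1 := Matrix.mul_nonsing_inv μ hdet
  have h3 : μ⁻¹ * τ' = τ * μ⁻¹ := by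
    calc μ⁻¹ * τ' = μ⁻¹ * τ' * (μ * μ⁻¹) := by rw [h2, Matrix.mul_one]
      _ = μ⁻¹ * (τ' * μ) * μ⁻¹ := by simp only [Matrix.mul_assoc]
      _ = μ⁻¹ * (μ * τ) * μ⁻¹ := by rw [hτμ]
      _ = (μ⁻¹ * μ) * τ * μ⁻¹ := by simp only [Matrix.mul_assoc]
      _ = τ * μ⁻¹ := by rw [h1, Matrix.one_mul]
  have h4 : μ⁻¹ * Z * τ = τ * (μ⁻¹ * Z) + s • τ := by
    calc μ⁻¹ * Z * τ = μ⁻¹ * (Z * τ) := by rw [Matrix.mul_assoc]
      _ = μ⁻¹ * (τ' * Z + s • (μ * τ)) := by rw [hZ]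
      _ = (μ⁻¹ * τ') * Z + s • ((μ⁻¹ * μ) * τ) := by
          rw [Matrix.mul_add, Matrix.mul_smul]
          simp only [Matrix.mul_assoc]
      _ = τ * (μ⁻¹ * Z) + s • τ := by rw [h3, h1, Matrix.one_mul, Matrix.mul_assoc]
  have h5 : μ⁻¹ * Z = μ⁻¹ * Z * τ * τm := by
    rw [Matrix.mul_assoc (μ⁻¹ * Z) τ τm, hττ, Matrix.mul_one]
  have h6 : μ⁻¹ * Z * τ * τm = τ * (μ⁻¹ * Z) * τm + s • (1 : Matrix (Fin n) (Fin n) F) := by
    rw [h4, Matrix.add_mul, Matrix.smul_mul, hττ]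
  rw [sub_eq_iff_eq_add']
  exact h5.trans h6

namespace Tostaba4H

variable {C : Ctx a b F} {M : Subgroup (Matrix.GeneralLinearGroup (Fin a × Fin b) F)}
  {g : Matrix.GeneralLinearGroup (Fin a × Fin b) F} {u : Fin a → F} {μ : Matrix (Fin b) (Fin b) F}

/-- the stage lemma: a vector `x` for which `g (x ⊗ y) ≡ α₁ x ⊗ μ y` modulo `u ⊗ B` and for which
the relation holds with `e_t (x ⊗ y) = x ⊗ y + s u ⊗ y` has `g (x ⊗ y) = α₁ x ⊗ μ y`. -/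
theorem stage [Fintype F] (H : Tostaba4H C M g u μ) (hb : 6 ≤ b) (ŷ y₀ : Fin b → F)
    (h1 : C.f₂ (μ *ᵥ y₀) ŷ = 1) (ν : F) (hν : ν ≠ 0)
    (hsim : ∀ y y' : Fin b → F, C.f₂ (μ *ᵥ y) (μ *ᵥ y') = ν⁻¹ * C.f₂ y y') (x : Fin a → F)
    (hx : ∀ y : Fin b → F,
      g.val *ᵥ ten x y - ten (tostaba4_al C g ŷ y₀ *ᵥ x) (μ *ᵥ y) ∈ Aline (b := b) u)
    (hrel : ∀ (w : Fin b → F) (c : F), ∃ s : F, ∀ y : Fin b → F,
      g.val *ᵥ ten x (tvm C.f₂ w c *ᵥ y) =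
        (C.tvB (μ *ᵥ w) (c * ν)).val *ᵥ (g.val *ᵥ (ten x y + s • ten u y))) :
    ∀ y : Fin b → F, g.val *ᵥ ten x y = ten (tostaba4_al C g ŷ y₀ *ᵥ x) (μ *ᵥ y) := by
  classical
  obtain ⟨i₀, hi₀⟩ := tpns_exists_ne H.hu
  obtain ⟨φ₀, hφ₀def⟩ : ∃ φ₀ : Fin a → F, φ₀ = Pi.single i₀ (u i₀)⁻¹ := ⟨_, rfl⟩
  have hφ₀ : φ₀ ⬝ᵥ u = 1 := by
    rw [hφ₀def, single_dotProduct, inv_mul_cancel₀ hi₀]
  obtain ⟨al, haldef⟩ : ∃ al : Matrix (Fin a) (Fin a) F, al = tostaba4_al C g ŷ y₀ := ⟨_, rfl⟩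
  rw [← haldef] at hx ⊢
  obtain ⟨Z, hZdef⟩ : ∃ Z : Matrix (Fin b) (Fin b) F,
      Z = tostaba4_Bm g.val φ₀ x - (φ₀ ⬝ᵥ (al *ᵥ x)) • μ := ⟨_, rfl⟩
  have hZ : ∀ y : Fin b → F, g.val *ᵥ ten x y = ten (al *ᵥ x) (μ *ᵥ y) + ten u (Z *ᵥ y) := by
    intro y
    obtain ⟨d, hd⟩ := (mem_Aline u _).1 (hx y)
    have e1 : Z *ᵥ y = d := by
      rw [hZdef, Matrix.sub_mulVec, tostaba4_Bm_mulVec, Matrix.smul_mulVec, ← ctrA_ten,
        ← tostaba4_ctrA_sub, hd, ctrA_ten, hφ₀, one_smul]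
    rw [e1, ← hd]
    abel
  -- the commutation relation for every transvection
  have hcomm : ∀ (w : Fin b → F) (c : F), ∃ s : F,
      Z * tvm C.f₂ w c = tvm C.f₂ (μ *ᵥ w) (c * ν) * Z + s • (μ * tvm C.f₂ w c) := by
    intro w c
    obtain ⟨s, hs⟩ := hrel w c
    refine ⟨s, ?_⟩
    have hτ := tostaba4_tau_mu C.hf₂ μ ν hν hsim w c
    have hτv : ∀ z : Fin b → F,
        tvm C.f₂ (μ *ᵥ w) (c * ν) *ᵥ (μ *ᵥ z) = μ *ᵥ (tvm C.f₂ w c *ᵥ z) := by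
      intro z
      rw [Matrix.mulVec_mulVec, hτ, ← Matrix.mulVec_mulVec]
    rw [Matrix.ext_iff_mulVec]
    intro y
    have e1 := hs y
    rw [hZ, Matrix.mulVec_add, Matrix.mulVec_smul, hZ, H.hμ, Matrix.mulVec_add, Matrix.mulVec_add,
      Matrix.mulVec_smul, tostaba4_tvB_ten, tostaba4_tvB_ten, tostaba4_tvB_ten,
      hτv, add_assoc] at e1
    have e2 := add_left_cancel e1
    rw [← ten_smul_right, ← ten_add_right] at e2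
    have e3 := ten_right_inj H.hu e2
    rw [← Matrix.mulVec_mulVec, e3, Matrix.add_mulVec, ← Matrix.mulVec_mulVec, Matrix.smul_mulVec,
      ← Matrix.mulVec_mulVec]
  -- ALGC
  have halg : ∃ l : F, μ⁻¹ * Z = l • (1 : Matrix (Fin b) (Fin b) F) := by
    apply alg_central C.hf₂ (by omega) (by omega)
    intro w c
    obtain ⟨s, hs⟩ := hcomm w c
    refine ⟨s, ?_⟩
    apply tostaba4_alg μ Z (tvm C.f₂ w c) (tvm C.f₂ w (-c)) (tvm C.f₂ (μ *ᵥ w) (c * ν)) s H.hdet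
      (by rw [tvm_mul_tvm C.hf₂, add_neg_cancel, tvm_zero])
      (tostaba4_tau_mu C.hf₂ μ ν hν hsim w c) hs
  obtain ⟨l, hl⟩ := halg
  have hZl : Z = l • μ := by
    calc Z = (μ * μ⁻¹) * Z := by rw [Matrix.mul_nonsing_inv μ H.hdet, Matrix.one_mul]
      _ = μ * (μ⁻¹ * Z) := by rw [Matrix.mul_assoc]
      _ = l • μ := by rw [hl, Matrix.mul_smul, Matrix.mul_one]
  -- the normalisation `α₁ x = ctr (fl₂ ŷ) (g (x ⊗ y₀))` forces `l = 0`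
  have hl0 : l = 0 := by
    have e1 : al *ᵥ x = ctr (C.fl₂ ŷ) (g.val *ᵥ ten x y₀) := by
      rw [haldef, tostaba4_al_mulVec]
    rw [hZ, ctr_add, C.ctr_fl₂_ten, C.ctr_fl₂_ten, h1, one_smul, hZl, Matrix.smul_mulVec,
      C.hf₂.bilinear.smul_left, h1, mul_one] at e1
    have e2 : l • u = 0 := by
      have := congrArg (fun z => z - al *ᵥ x) e1
      simp only [sub_self, add_sub_cancel_left] at this
      exact this.symm
    rcases smul_eq_zero.1 e2 with h0 | h0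
    · exact h0
    · exact absurd h0 H.hu
  intro y
  rw [hZ, hZl, hl0, zero_smul, Matrix.zero_mulVec, ten_zero_right, add_zero]

end Tostaba4H

end Cfsg.Agent.Lib.helper7.TO
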