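import Cfsg.Agent.Lib.Helper21.TS.Basic
import Cfsg.Agent.Lib.Helper20.TSNOT3

/-!
# Project TS, piece PURE3: three non-zero vectors of `V`: some pure tensor is non-orthogonal to all of them.
-/

set_option autoImplicit false
set_option linter.unusedSectionVars false
set_option linter.unusedVariables false

namespace Cfsg.Agent.Lib.Helper21.TS

open Matrix
open scoped Kronecker
open Cfsg.Agent.Lib.helper7.TP

variable {ι : Type*} [Fintype ι] [DecidableEq ι] {a b : ℕ} {F : Type*} [Field F]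
  {J1 : Matrix (Fin a) (Fin a) F} {J2 : Matrix (Fin b) (Fin b) F}
  {M : Subgroup (Matrix.GeneralLinearGroup (Fin a × Fin b) F)}

/-- `(u ⊗ w) ⬝ᵥ y = ∑ i, (∑ j, w j * y (i, j)) * u i`. -/
theorem tspure3_dot (u : Fin a → F) (w : Fin b → F) (y : Fin a × Fin b → F) :
    ten u w ⬝ᵥ y = (fun i => (fun j => y (i, j)) ⬝ᵥ w) ⬝ᵥ u := by
  simp only [dotProduct, ten, Fintype.sum_prod_type]
  apply Finset.sum_congr rfl
  intro i _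
  rw [Finset.sum_mul]
  apply Finset.sum_congr rfl
  intro j _
  ring

/-- a non-zero vector of `V` has a non-zero row. -/
theorem tspure3_row (y : Fin a × Fin b → F) (hy : y ≠ 0) :
    ∃ i : Fin a, (fun j => y (i, j)) ≠ 0 := by
  obtain ⟨p, hp⟩ := Function.ne_iff.mp hy
  obtain ⟨i, j⟩ := p
  exact ⟨i, fun h => hp (congrFun h j)⟩

/-- three non-zero vectors `y_k` of `V`: some pure tensor has non-zero dot product with all of them. -/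
theorem tspure3_dot3 (two : (2 : F) ≠ 0) (y₁ y₂ y₃ : Fin a × Fin b → F) (h₁ : y₁ ≠ 0) (h₂ : y₂ ≠ 0)
    (h₃ : y₃ ≠ 0) :
    ∃ (u : Fin a → F) (w : Fin b → F), ten u w ⬝ᵥ y₁ ≠ 0 ∧ ten u w ⬝ᵥ y₂ ≠ 0 ∧ ten u w ⬝ᵥ y₃ ≠ 0 := by
  obtain ⟨i₁, hi₁⟩ := tspure3_row y₁ h₁
  obtain ⟨i₂, hi₂⟩ := tspure3_row y₂ h₂
  obtain ⟨i₃, hi₃⟩ := tspure3_row y₃ h₃
  obtain ⟨w, hw₁, hw₂, hw₃⟩ := not3 two _ _ _ hi₁ hi₂ hi₃
  have hY : ∀ (y : Fin a × Fin b → F) (i : Fin a), (fun j => y (i, j)) ⬝ᵥ w ≠ 0 →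
      (fun i => (fun j => y (i, j)) ⬝ᵥ w) ≠ 0 := by
    intro y i hi h
    exact hi (congrFun h i)
  obtain ⟨u, hu₁, hu₂, hu₃⟩ := not3 two _ _ _ (hY y₁ i₁ hw₁) (hY y₂ i₂ hw₂) (hY y₃ i₃ hw₃)
  refine ⟨u, w, ?_, ?_, ?_⟩
  · rw [tspure3_dot]; exact hu₁
  · rw [tspure3_dot]; exact hu₂
  · rw [tspure3_dot]; exact hu₃

/-- `JV` is invertible. -/
theorem tspure3_detJV (C : Ctx J1 J2) : (JV J1 J2).det ≠ 0 := by
  rw [JV, Matrix.det_kronecker]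
  exact mul_ne_zero (pow_ne_zero _ C.det1) (pow_ne_zero _ C.det2)

/-- `JV *ᵥ x ≠ 0` for `x ≠ 0`. -/
theorem tspure3_mulVec_ne (C : Ctx J1 J2) (x : Fin a × Fin b → F) (hx : x ≠ 0) :
    JV J1 J2 *ᵥ x ≠ 0 := by
  intro h
  obtain ⟨z, hz⟩ := bf_nondeg' (tspure3_detJV C) hx
  apply hz
  simp only [bf]
  rw [h, dotProduct_zero]

/-- PURE3 [M]. three non-zero vectors of `V`: some pure tensor is non-orthogonal to all of them. -/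
theorem pure3 (C : Ctx J1 J2) (x₁ x₂ x₃ : Fin a × Fin b → F) (h₁ : x₁ ≠ 0) (h₂ : x₂ ≠ 0) (h₃ : x₃ ≠ 0) :
    ∃ (u : Fin a → F) (w : Fin b → F), bf (JV J1 J2) (ten u w) x₁ ≠ 0 ∧ bf (JV J1 J2) (ten u w) x₂ ≠ 0 ∧
      bf (JV J1 J2) (ten u w) x₃ ≠ 0 := by
  obtain ⟨u, w, hu₁, hu₂, hu₃⟩ := tspure3_dot3 C.two _ _ _ (tspure3_mulVec_ne C x₁ h₁)
    (tspure3_mulVec_ne C x₂ h₂) (tspure3_mulVec_ne C x₃ h₃)
  exact ⟨u, w, hu₁, hu₂, hu₃⟩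

end Cfsg.Agent.Lib.Helper21.TS
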