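import Cfsg.Agent.Lib.Helper22.TSSTABAe

/-!
# Project TS, A-side STAB: `stabA_of_ntsA`.
`NtsA` (`M ∩ R_u = Q_u ⊗ 1`) ⟹ an element of `M` that maps `u ⊗ B` into `u' ⊗ B` lies in `K0`.
Port of the TO piece STABA4 (Helper22.TOSTABA4) to the TS vocabulary; the `B`-transvections of TO
are replaced by the reflections `1 ⊗ r_w`.
-/

set_option autoImplicit false
set_option linter.unusedVariables false
set_option linter.unusedSectionVars false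

namespace Cfsg.Agent.Lib.Helper21.TS

open Matrix
open scoped Kronecker
open Cfsg.Agent.Lib.helper7.TP
open Cfsg.Agent.Lib.helper7

variable {a b : ℕ} {F : Type*} [Field F]

namespace TsstabaH

variable {J1 : Matrix (Fin a) (Fin a) F} {J2 : Matrix (Fin b) (Fin b) F}
  {M : Subgroup (Matrix.GeneralLinearGroup (Fin a × Fin b) F)}
  {g : Matrix.GeneralLinearGroup (Fin a × Fin b) F} {u : Fin a → F} {μ : Matrix (Fin b) (Fin b) F}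

/-- the relation for a reflection, with the raw Kronecker matrix. -/
theorem rel_rf (H : TsstabaH J1 J2 M g u μ) (ŷ y₀ : Fin b → F) (h1 : bf J2 (μ *ᵥ y₀) ŷ = 1)
    (ν : F) (hν : ν ≠ 0)
    (hsim : ∀ y y' : Fin b → F, bf J2 (μ *ᵥ y) (μ *ᵥ y') = ν⁻¹ * bf J2 y y')
    (w : Fin b → F) (hw : bf J2 w w ≠ 0) :
    ∃ (x₀ : Fin a → F) (c₀ : F), bf J1 x₀ u = 0 ∧ ∀ (x : Fin a → F) (y : Fin b → F),
      g.val *ᵥ ten x (tsstaba_rfm J2 w *ᵥ y) =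
        ((1 : Matrix (Fin a) (Fin a) F) ⊗ₖ tsstaba_rfm J2 (μ *ᵥ w)) *ᵥ
          (g.val *ᵥ (ten x y + bf J1 x x₀ • ten u y +
            bf J1 x u • ten x₀ y + (bf J1 x u * c₀) • ten u y)) := by
  have hμw : bf J2 (μ *ᵥ w) (μ *ᵥ w) ≠ 0 := by
    rw [hsim]
    exact mul_ne_zero (inv_ne_zero hν) hw
  obtain ⟨x₀, c₀, hx₀, hr⟩ := H.rel ŷ y₀ h1 (tsstaba_rfG J2 w hw) (tsstaba_rfG J2 (μ *ᵥ w) hμw)
    (tsstaba_rfG_mem_Iso H.C.sym w hw) (tsstaba_rfG_mem_Iso H.C.sym _ hμw)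
    (tsstaba_rf_mu J2 μ ν hν hsim w hw)
  refine ⟨x₀, c₀, hx₀, fun x y => ?_⟩
  have := hr x y
  rw [kronG_coe, Units.val_one, tsstaba_rfG_coe, tsstaba_rfG_coe] at this
  exact this

/-- stage 1: `g = α₁ ⊗ μ` on `u^⊥ ⊗ B`. -/
theorem r1 (H : TsstabaH J1 J2 M g u μ) (hb : 3 ≤ b) (ŷ y₀ : Fin b → F)
    (h1 : bf J2 (μ *ᵥ y₀) ŷ = 1) (ν : F) (hν : ν ≠ 0)
    (hsim : ∀ y y' : Fin b → F, bf J2 (μ *ᵥ y) (μ *ᵥ y') = ν⁻¹ * bf J2 y y') (x : Fin a → F)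
    (hx : bf J1 x u = 0) (y : Fin b → F) :
    g.val *ᵥ ten x y = ten (tsstaba_al J2 g ŷ y₀ *ᵥ x) (μ *ᵥ y) := by
  apply H.stage hb ŷ y₀ h1 ν hν hsim x (fun y => H.front ŷ y₀ h1 x hx y)
  intro w hw
  obtain ⟨x₀, c₀, hx₀, hr⟩ := H.rel_rf ŷ y₀ h1 ν hν hsim w hw
  refine ⟨bf J1 x x₀, fun y => ?_⟩
  rw [hr x y, hx, zero_smul, zero_mul, zero_smul, add_zero, add_zero]

/-- after stage 1 the elements `e_t` are `τ_u(s) ⊗ 1`. -/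
theorem rel' (H : TsstabaH J1 J2 M g u μ) (hb : 3 ≤ b) (ŷ y₀ : Fin b → F)
    (h1 : bf J2 (μ *ᵥ y₀) ŷ = 1) (ν : F) (hν : ν ≠ 0)
    (hsim : ∀ y y' : Fin b → F, bf J2 (μ *ᵥ y) (μ *ᵥ y') = ν⁻¹ * bf J2 y y')
    (w : Fin b → F) (hw : bf J2 w w ≠ 0) :
    ∃ s : F, ∀ (x : Fin a → F) (y : Fin b → F),
      g.val *ᵥ ten x (tsstaba_rfm J2 w *ᵥ y) =
        ((1 : Matrix (Fin a) (Fin a) F) ⊗ₖ tsstaba_rfm J2 (μ *ᵥ w)) *ᵥ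
          (g.val *ᵥ (ten x y + (s * bf J1 x u) • ten u y)) := by
  obtain ⟨x₀, c₀, hx₀, hr⟩ := H.rel_rf ŷ y₀ h1 ν hν hsim w hw
  have hy0 : y₀ ≠ 0 := by
    rintro rfl
    rw [Matrix.mulVec_zero, bf_zero_left] at h1
    exact zero_ne_one h1
  -- `x₀ ∈ (u^⊥)^⊥ = F u`
  have hperp : ∀ m : Fin a → F, bf J1 m u = 0 → bf J1 x₀ m = 0 := by
    intro m hm
    have e1 := hr m (tsstaba_rfm J2 w *ᵥ y₀)
    have e0 : tsstaba_rfm J2 w *ᵥ (tsstaba_rfm J2 w *ᵥ y₀) = y₀ := by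
      rw [Matrix.mulVec_mulVec, tsstaba_rfm_mul_self J2 hw, Matrix.one_mulVec]
    have hτv : tsstaba_rfm J2 (μ *ᵥ w) *ᵥ (μ *ᵥ (tsstaba_rfm J2 w *ᵥ y₀)) = μ *ᵥ y₀ := by
      rw [Matrix.mulVec_mulVec, tsstaba_rf_mu J2 μ ν hν hsim w hw, ← Matrix.mulVec_mulVec, e0]
    rw [e0, hm, zero_smul, zero_mul, zero_smul, add_zero, add_zero, Matrix.mulVec_add,
      Matrix.mulVec_smul, H.r1 hb ŷ y₀ h1 ν hν hsim m hm, H.r1 hb ŷ y₀ h1 ν hν hsim m hm, H.hμ,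
      Matrix.mulVec_add, Matrix.mulVec_smul, kron_mulVec_ten, kron_mulVec_ten, Matrix.one_mulVec,
      Matrix.one_mulVec, hτv] at e1
    have e2 : bf J1 m x₀ • ten u (μ *ᵥ y₀) = 0 := by
      have := congrArg (fun z => z - ten (tsstaba_al J2 g ŷ y₀ *ᵥ m) (μ *ᵥ y₀)) e1
      simp only [sub_self, add_sub_cancel_left] at this
      exact this.symm
    have hμy : ten u (μ *ᵥ y₀) ≠ 0 := by
      intro h0
      rcases TO.ten_eq_zero h0 with h | h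
      · exact H.hu h
      · apply hy0
        rw [← H.inv_mu y₀, h, Matrix.mulVec_zero]
    rcases smul_eq_zero.1 e2 with h0 | h0
    · rw [bf_alt H.C.alt, h0, neg_zero]
    · exact absurd h0 hμy
  obtain ⟨l, hl⟩ := TO.tostaba4_perp_perp (tsstaba_symp H.C.alt H.C.two H.C.det1) H.hu x₀ hperp
  refine ⟨l + l + c₀, fun x y => ?_⟩
  rw [hr x y, hl, bf_smul_right, ten_smul_left]
  congr 2
  rw [smul_smul, add_assoc, add_assoc, ← add_smul, ← add_smul]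
  congr 2
  ring

/-- the semi-isometry property of `α₁`. -/
theorem si (H : TsstabaH J1 J2 M g u μ) (hb : 3 ≤ b) (ŷ y₀ : Fin b → F)
    (h1 : bf J2 (μ *ᵥ y₀) ŷ = 1) (ν : F) (hν : ν ≠ 0)
    (hsim : ∀ y y' : Fin b → F, bf J2 (μ *ᵥ y) (μ *ᵥ y') = ν⁻¹ * bf J2 y y') (x m : Fin a → F)
    (hm : bf J1 m u = 0) :
    bf J1 (tsstaba_al J2 g ŷ y₀ *ᵥ x) (tsstaba_al J2 g ŷ y₀ *ᵥ m) = ν * bf J1 x m := by
  have e1 : ten (tsstaba_al J2 g ŷ y₀ *ᵥ m) ŷ = g.val *ᵥ ten m (μ⁻¹ *ᵥ ŷ) := by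
    rw [H.r1 hb ŷ y₀ h1 ν hν hsim m hm, H.mu_inv]
  have e2 : bf J2 y₀ (μ⁻¹ *ᵥ ŷ) = ν := by
    have := hsim y₀ (μ⁻¹ *ᵥ ŷ)
    rw [H.mu_inv, h1] at this
    field_simp at this
    exact this.symm
  rw [tsstaba_al_mulVec J2 g ŷ y₀ x, ← tsstaba_bf_ten_right', e1, H.iso, bf_JV_ten, e2]
  ring

/-- `α₁` maps `u^⊥` onto `u^⊥`. -/
theorem al_surj (H : TsstabaH J1 J2 M g u μ) (hb : 3 ≤ b) (ŷ y₀ : Fin b → F)
    (h1 : bf J2 (μ *ᵥ y₀) ŷ = 1) (ν : F) (hν : ν ≠ 0)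
    (hsim : ∀ y y' : Fin b → F, bf J2 (μ *ᵥ y) (μ *ᵥ y') = ν⁻¹ * bf J2 y y') :
    IsUnit (tsstaba_al J2 g ŷ y₀) ∧
    ∀ m : Fin a → F, bf J1 m u = 0 → ∃ m' : Fin a → F, bf J1 m' u = 0 ∧
      tsstaba_al J2 g ŷ y₀ *ᵥ m' = m := by
  have hinj0 : ∀ z : Fin a → F, tsstaba_al J2 g ŷ y₀ *ᵥ z = 0 → z = 0 := by
    intro z hz
    have hperp : ∀ m : Fin a → F, bf J1 m u = 0 → bf J1 z m = 0 := by
      intro m hm
      have := H.si hb ŷ y₀ h1 ν hν hsim z m hm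
      rw [hz, bf_zero_left] at this
      rcases mul_eq_zero.1 this.symm with h0 | h0
      · exact absurd h0 hν
      · exact h0
    obtain ⟨l, hl⟩ := TO.tostaba4_perp_perp (tsstaba_symp H.C.alt H.C.two H.C.det1) H.hu z hperp
    rw [hl, Matrix.mulVec_smul, H.al_u ŷ y₀ h1] at hz
    rcases smul_eq_zero.1 hz with h0 | h0
    · rw [hl, h0, zero_smul]
    · exact absurd h0 H.hu
  have hunit : IsUnit (tsstaba_al J2 g ŷ y₀) := by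
    rw [← Matrix.mulVec_injective_iff_isUnit]
    intro z z' hzz
    have h0 : tsstaba_al J2 g ŷ y₀ *ᵥ (z - z') = 0 := by
      rw [Matrix.mulVec_sub]
      exact sub_eq_zero.2 hzz
    exact sub_eq_zero.1 (hinj0 _ h0)
  refine ⟨hunit, fun m hm => ?_⟩
  have hdet : IsUnit (tsstaba_al J2 g ŷ y₀).det := (Matrix.isUnit_iff_isUnit_det _).1 hunit
  refine ⟨(tsstaba_al J2 g ŷ y₀)⁻¹ *ᵥ m, ?_, ?_⟩
  · have e1 : tsstaba_al J2 g ŷ y₀ *ᵥ ((tsstaba_al J2 g ŷ y₀)⁻¹ *ᵥ m) = m := by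
      rw [Matrix.mulVec_mulVec, Matrix.mul_nonsing_inv _ hdet, Matrix.one_mulVec]
    have hu0 : bf J1 u u = 0 := bf_self_alt H.C.alt H.C.two u
    have := H.si hb ŷ y₀ h1 ν hν hsim ((tsstaba_al J2 g ŷ y₀)⁻¹ *ᵥ m) u hu0
    rw [e1, H.al_u ŷ y₀ h1, hm] at this
    rcases mul_eq_zero.1 this.symm with h0 | h0
    · exact absurd h0 hν
    · exact h0
  · rw [Matrix.mulVec_mulVec, Matrix.mul_nonsing_inv _ hdet, Matrix.one_mulVec]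

/-- `g ≡ α₁ ⊗ μ` modulo `u ⊗ B` everywhere. -/
theorem r2 (H : TsstabaH J1 J2 M g u μ) (hb : 3 ≤ b) (ŷ y₀ : Fin b → F)
    (h1 : bf J2 (μ *ᵥ y₀) ŷ = 1) (ν : F) (hν : ν ≠ 0)
    (hsim : ∀ y y' : Fin b → F, bf J2 (μ *ᵥ y) (μ *ᵥ y') = ν⁻¹ * bf J2 y y') (x : Fin a → F)
    (y : Fin b → F) :
    g.val *ᵥ ten x y - ten (tsstaba_al J2 g ŷ y₀ *ᵥ x) (μ *ᵥ y) ∈ TO.Aline (b := b) u := by
  apply tsstaba_Aline_of_perp H.C H.hu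
  intro m hm y'
  obtain ⟨m', hm', hmm'⟩ := (H.al_surj hb ŷ y₀ h1 ν hν hsim).2 m hm
  have e1 : ten m y' = g.val *ᵥ ten m' (μ⁻¹ *ᵥ y') := by
    rw [H.r1 hb ŷ y₀ h1 ν hν hsim m' hm', H.mu_inv, hmm']
  have e2 : bf J2 (μ *ᵥ y) y' = ν⁻¹ * bf J2 y (μ⁻¹ *ᵥ y') := by
    rw [← hsim, H.mu_inv]
  rw [bf_sub_left, e1, H.iso, ← e1, bf_JV_ten, bf_JV_ten, ← hmm',
    H.si hb ŷ y₀ h1 ν hν hsim x m' hm', e2]
  field_simp
  ring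

/-- stage 2: `g = α₁ ⊗ μ`. -/
theorem r3 (H : TsstabaH J1 J2 M g u μ) (hb : 3 ≤ b) (ŷ y₀ : Fin b → F)
    (h1 : bf J2 (μ *ᵥ y₀) ŷ = 1) (ν : F) (hν : ν ≠ 0)
    (hsim : ∀ y y' : Fin b → F, bf J2 (μ *ᵥ y) (μ *ᵥ y') = ν⁻¹ * bf J2 y y') (x : Fin a → F)
    (y : Fin b → F) :
    g.val *ᵥ ten x y = ten (tsstaba_al J2 g ŷ y₀ *ᵥ x) (μ *ᵥ y) := by
  apply H.stage hb ŷ y₀ h1 ν hν hsim x (fun y => H.r2 hb ŷ y₀ h1 ν hν hsim x y)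
  intro w hw
  obtain ⟨s, hs⟩ := H.rel' hb ŷ y₀ h1 ν hν hsim w hw
  exact ⟨s * bf J1 x u, fun y => hs x y⟩

/-- the case `u' = u`. -/
theorem mem_K0 (H : TsstabaH J1 J2 M g u μ) (ha : 3 ≤ a) (hb : 3 ≤ b) :
    g ∈ K0 a b F := by
  classical
  -- `y₀`, `ŷ`
  obtain ⟨j₀, hj₀⟩ : ∃ j₀ : Fin b, j₀ = ⟨0, by omega⟩ := ⟨_, rfl⟩
  obtain ⟨y₀, hy₀def⟩ : ∃ y₀ : Fin b → F, y₀ = Pi.single j₀ 1 := ⟨_, rfl⟩
  have hy₀ : y₀ ≠ 0 := by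
    intro h0
    have := congrFun h0 j₀
    rw [hy₀def, Pi.single_eq_same, Pi.zero_apply] at this
    exact one_ne_zero this
  have hμy₀ : μ *ᵥ y₀ ≠ 0 := by
    intro h0
    apply hy₀
    rw [← H.inv_mu y₀, h0, Matrix.mulVec_zero]
  obtain ⟨z, hz⟩ := bf_nondeg H.C.det2 hμy₀
  obtain ⟨ŷ, hŷdef⟩ : ∃ ŷ : Fin b → F, ŷ = (bf J2 (μ *ᵥ y₀) z)⁻¹ • z := ⟨_, rfl⟩
  have h1 : bf J2 (μ *ᵥ y₀) ŷ = 1 := by
    rw [hŷdef, bf_smul_right, inv_mul_cancel₀ hz]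
  obtain ⟨ν, hν, hsim⟩ := H.simil ha ŷ y₀ h1
  have hmat : g.val = tsstaba_al J2 g ŷ y₀ ⊗ₖ μ := by
    apply TO.mat_ext_ten
    intro x y
    rw [H.r3 hb ŷ y₀ h1 ν hν hsim x y, kron_mulVec_ten]
  obtain ⟨α, hα⟩ := (H.al_surj hb ŷ y₀ h1 ν hν hsim).1
  obtain ⟨β, hβ⟩ := (Matrix.isUnit_iff_isUnit_det μ).2 H.hdet
  exact (TP.mem_K0 g).2 ⟨α, β, by rw [hα, hβ]; exact hmat⟩

end TsstabaH

/-- **A-side STAB**: an element of `M` that maps the line `u ⊗ B` into a line `u' ⊗ B` lies in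
`K0` (all `a ≥ 3`, `b ≥ 3`; the hypothesis `LamF` is not used). -/
theorem stabA_of_ntsA {J1 : Matrix (Fin a) (Fin a) F} {J2 : Matrix (Fin b) (Fin b) F}
    {M : Subgroup (Matrix.GeneralLinearGroup (Fin a × Fin b) F)}
    (C : Ctx J1 J2) (ha : 3 ≤ a) (hb : 3 ≤ b) (hT0 : T0 J1 J2 ≤ M) (hMS : M ≤ SpV J1 J2)
    (hL : LamF J1 M) (hN : NtsA J1 M) : StabA M := by
  classical
  intro g hg u u' hu hu' h
  -- WLOG `u' = u`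
  obtain ⟨α₀, hα₀T, hα₀⟩ := sp_trans C.alt C.two C.det1 hu' hu
  obtain ⟨k, hkdef⟩ : ∃ k : Matrix.GeneralLinearGroup (Fin a × Fin b) F,
      k = kronG α₀ (1 : Matrix.GeneralLinearGroup (Fin b) F) := ⟨_, rfl⟩
  obtain ⟨g', hg'def⟩ : ∃ g' : Matrix.GeneralLinearGroup (Fin a × Fin b) F,
      g' = k * g := ⟨_, rfl⟩
  have hkM : k ∈ M := by
    rw [hkdef]
    exact hT0 (kronG_mem_T0 hα₀T (Subgroup.one_mem _))
  have hg'M : g' ∈ M := by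
    rw [hg'def]
    exact M.mul_mem hkM hg
  have hg'u : ∀ y : Fin b → F, ∃ y' : Fin b → F, g'.val *ᵥ ten u y = ten u y' := by
    intro y
    obtain ⟨y', hy'⟩ := h y
    refine ⟨y', ?_⟩
    rw [hg'def, Units.val_mul, ← Matrix.mulVec_mulVec, hy', hkdef, kronG_mulVec_ten, hα₀,
      Units.val_one, Matrix.one_mulVec]
  -- the matrix `μ`
  obtain ⟨i₀, hi₀⟩ := tpns_exists_ne hu
  obtain ⟨φ₀, hφ₀def⟩ : ∃ φ₀ : Fin a → F, φ₀ = Pi.single i₀ (u i₀)⁻¹ := ⟨_, rfl⟩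
  have hφ₀ : φ₀ ⬝ᵥ u = 1 := by
    rw [hφ₀def, single_dotProduct, inv_mul_cancel₀ hi₀]
  obtain ⟨μ, hμdef⟩ : ∃ μ : Matrix (Fin b) (Fin b) F, μ = TO.tostaba4_Bm g'.val φ₀ u := ⟨_, rfl⟩
  have hμ : ∀ y : Fin b → F, g'.val *ᵥ ten u y = ten u (μ *ᵥ y) := by
    intro y
    obtain ⟨y', hy'⟩ := hg'u y
    rw [hμdef, TO.tostaba4_Bm_mulVec, hy', TO.ctrA_ten, hφ₀, one_smul]
  have hμinj : ∀ y : Fin b → F, μ *ᵥ y = 0 → y = 0 := by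
    intro y hy
    have e1 := hμ y
    rw [hy, TO.ten_zero_right] at e1
    have e2 := TO.Ctx.inv_mulVec_mulVec g' (ten u y)
    rw [e1, Matrix.mulVec_zero] at e2
    rcases TO.ten_eq_zero e2.symm with h0 | h0
    · exact absurd h0 hu
    · exact h0
  have hμunit : IsUnit μ := by
    rw [← Matrix.mulVec_injective_iff_isUnit]
    intro y y' hyy
    have h0 : μ *ᵥ (y - y') = 0 := by
      rw [Matrix.mulVec_sub]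
      exact sub_eq_zero.2 hyy
    exact sub_eq_zero.1 (hμinj _ h0)
  have H : TsstabaH J1 J2 M g' u μ :=
    ⟨C, hT0, hMS, hN, hg'M, hu, hμ, (Matrix.isUnit_iff_isUnit_det μ).1 hμunit⟩
  have hK : g' ∈ K0 a b F := H.mem_K0 ha hb
  have hfin : g = k⁻¹ * g' := by rw [hg'def]; group
  rw [hfin]
  have hkK : k ∈ K0 a b F := by rw [hkdef]; exact kronG_mem_K0 _ _
  exact (K0 a b F).mul_mem ((K0 a b F).inv_mem hkK) hK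

end Cfsg.Agent.Lib.Helper21.TS
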