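import Cfsg.Agent.Lib.Helper1.TSNTDefs
import Cfsg.Agent.Lib.Helper22.TOSTABA4a
import Cfsg.Agent.Lib.helper8.TSTRANSA

/-!
# Project TS, A-side STAB (part a): linear algebra on `A ⊗ B` in the Gram-matrix vocabulary,
the elements `s_m` of `Q_u`, reflections of `B`.
-/

set_option autoImplicit false
set_option linter.unusedVariables false
set_option linter.unusedSectionVars false

namespace Cfsg.Agent.Lib.Helper21.TS

open Matrix
open scoped Kronecker
open Cfsg.Agent.Lib.helper7.TP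
open Cfsg.Agent.Lib.helper7

variable {ι : Type*} [Fintype ι] [DecidableEq ι] {a b : ℕ} {F : Type*} [Field F]

/-! ### A. covectors and contractions -/

/-- the covector of `m`: `tsstaba_fl J m ⬝ᵥ x = bf J x m`. -/
def tsstaba_fl (J : Matrix ι ι F) (m : ι → F) : ι → F := J *ᵥ m

theorem tsstaba_fl_dot (J : Matrix ι ι F) (m x : ι → F) : tsstaba_fl J m ⬝ᵥ x = bf J x m := by
  rw [tsstaba_fl, dotProduct_comm]
  rfl

theorem tsstaba_ctrA_fl_ten (J1 : Matrix (Fin a) (Fin a) F) (m x : Fin a → F) (y : Fin b → F) :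
    TO.ctrA (tsstaba_fl J1 m) (ten x y) = bf J1 x m • y := by
  rw [TO.ctrA_ten, tsstaba_fl_dot]

theorem tsstaba_ctr_fl_ten (J2 : Matrix (Fin b) (Fin b) F) (n : Fin b → F) (x : Fin a → F)
    (y : Fin b → F) : ctr (tsstaba_fl J2 n) (ten x y) = bf J2 y n • x := by
  rw [ctr_ten, tsstaba_fl_dot]

/-- `f(D, m ⊗ y) = f₂(⟨m| D, y)`. -/
theorem tsstaba_bf_ten_right (J1 : Matrix (Fin a) (Fin a) F) (J2 : Matrix (Fin b) (Fin b) F)
    (D : Fin a × Fin b → F) (m : Fin a → F) (y : Fin b → F) :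
    bf (JV J1 J2) D (ten m y) = bf J2 (TO.ctrA (tsstaba_fl J1 m) D) y := by
  simp only [bf, JV]
  rw [kron_mulVec_ten]
  simp only [dotProduct, ten, TO.ctrA, tsstaba_fl, Fintype.sum_prod_type, Finset.sum_mul]
  rw [Finset.sum_comm]
  refine Finset.sum_congr rfl fun j _ => ?_
  refine Finset.sum_congr rfl fun i _ => ?_
  ring

/-- `f(D, x ⊗ n) = f₁(D |n⟩, x)`. -/
theorem tsstaba_bf_ten_right' (J1 : Matrix (Fin a) (Fin a) F) (J2 : Matrix (Fin b) (Fin b) F)
    (D : Fin a × Fin b → F) (x : Fin a → F) (n : Fin b → F) :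
    bf (JV J1 J2) D (ten x n) = bf J1 (ctr (tsstaba_fl J2 n) D) x := by
  simp only [bf, JV]
  rw [kron_mulVec_ten]
  simp only [dotProduct, ten, ctr, tsstaba_fl, Fintype.sum_prod_type, Finset.sum_mul]
  refine Finset.sum_congr rfl fun i _ => ?_
  refine Finset.sum_congr rfl fun j _ => ?_
  ring

/-- the form `bf J` of an alternating invertible Gram matrix is a symplectic form. -/
theorem tsstaba_symp {n : ℕ} {J : Matrix (Fin n) (Fin n) F} (hJ : Jᵀ = -J) (two : (2 : F) ≠ 0)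
    (hdet : J.det ≠ 0) : Cfsg.Geo.IsSymplecticForm (bf J) where
  bilinear :=
    { add_left := fun x y v => bf_add_left J x y v
      smul_left := fun c x v => bf_smul_left J c x v
      add_right := fun v x y => bf_add_right J v x y
      smul_right := fun c v x => bf_smul_right J c v x }
  skew := fun v w => bf_alt hJ v w
  alternating := fun v => bf_self_alt hJ two v
  nondegenerate := fun v hv => ⟨bf_nondeg' hdet hv, bf_nondeg hdet hv⟩

theorem tsstaba_bf_eq_zero {J : Matrix ι ι F} (hdet : J.det ≠ 0) {x : ι → F}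
    (h : ∀ y, bf J x y = 0) : x = 0 := by
  by_contra hx
  obtain ⟨y, hy⟩ := bf_nondeg hdet hx
  exact hy (h y)

/-- a vector killed by all contractions `m^* ⊗ 1`, `m ∈ u^⊥`, lies in `u ⊗ B`. -/
theorem tsstaba_Aline_of_ctrA {J1 : Matrix (Fin a) (Fin a) F} (hJ : J1ᵀ = -J1) (two : (2 : F) ≠ 0)
    (hdet : J1.det ≠ 0) {u : Fin a → F} (hu : u ≠ 0) (D : Fin a × Fin b → F)
    (h : ∀ m : Fin a → F, bf J1 m u = 0 → TO.ctrA (tsstaba_fl J1 m) D = 0) :
    D ∈ TO.Aline (b := b) u := by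
  apply TO.tostaba4_Aline_of_ctr
  intro ψ
  apply TO.tostaba4_perp_perp (tsstaba_symp hJ two hdet) hu
  intro m hm
  rw [← tsstaba_fl_dot, TO.tostaba4_ctr_comm, h m hm, dotProduct_zero]

/-- `(u^⊥ ⊗ B)^⊥ = u ⊗ B`. -/
theorem tsstaba_Aline_of_perp {J1 : Matrix (Fin a) (Fin a) F} {J2 : Matrix (Fin b) (Fin b) F}
    (C : Ctx J1 J2) {u : Fin a → F} (hu : u ≠ 0) (D : Fin a × Fin b → F)
    (h : ∀ m : Fin a → F, bf J1 m u = 0 → ∀ y : Fin b → F, bf (JV J1 J2) D (ten m y) = 0) :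
    D ∈ TO.Aline (b := b) u := by
  apply tsstaba_Aline_of_ctrA C.alt C.two C.det1 hu
  intro m hm
  apply tsstaba_bf_eq_zero C.det2
  intro y
  rw [← tsstaba_bf_ten_right, h m hm y]

/-! ### B. the elements `s_m` of `Q_u` -/

/-- for `m ∈ u^⊥` the map `x ↦ x + f(x,m) u + f(x,u) m` is a product of three transvections. -/
theorem tsstaba_sm {J : Matrix ι ι F} (hJ : Jᵀ = -J) (two : (2 : F) ≠ 0) (u m : ι → F)
    (hm : bf J m u = 0) :
    ∃ s ∈ Iso J, ∀ x : ι → F,
      (s : Matrix ι ι F) *ᵥ x = x + bf J x m • u + bf J x u • m := by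
  have hz := fun v : ι → F => bf_self_alt hJ two v
  refine ⟨tvG J (u + m) (hz _) (-1) * tvG J u (hz _) 1 * tvG J m (hz _) 1,
    (Iso J).mul_mem ((Iso J).mul_mem (tvG_mem_Iso hJ _ _ _) (tvG_mem_Iso hJ _ _ _))
      (tvG_mem_Iso hJ _ _ _), ?_⟩
  intro x
  have hum : bf J u m = 0 := by rw [bf_alt hJ, hm, neg_zero]
  have hmx : bf J m x = -bf J x m := bf_alt hJ m x
  have hux : bf J u x = -bf J x u := bf_alt hJ u x
  rw [Units.val_mul, Units.val_mul, ← Matrix.mulVec_mulVec, ← Matrix.mulVec_mulVec, tvG_coe, tvG_coe,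
    tvG_coe, tvm_mulVec J m, tvm_mulVec J u, tvm_mulVec J (u + m)]
  simp only [bf_add_left, bf_add_right, bf_smul_right, hz, hum, hm, hmx, hux]
  simp only [smul_add, add_smul, neg_mul, neg_smul, one_mul, mul_zero, add_zero, mul_neg]
  abel

/-- the action of `s_m ⊗ 1` on an arbitrary vector. -/
theorem tsstaba_kron_sm (J1 : Matrix (Fin a) (Fin a) F) (s : Matrix.GeneralLinearGroup (Fin a) F)
    (u m : Fin a → F)
    (hs : ∀ x : Fin a → F,
      (s : Matrix (Fin a) (Fin a) F) *ᵥ x = x + bf J1 x m • u + bf J1 x u • m)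
    (Y : Fin a × Fin b → F) :
    ((kronG s (1 : Matrix.GeneralLinearGroup (Fin b) F) :
      Matrix.GeneralLinearGroup (Fin a × Fin b) F) :
      Matrix (Fin a × Fin b) (Fin a × Fin b) F) *ᵥ Y =
      Y + ten u (TO.ctrA (tsstaba_fl J1 m) Y) + ten m (TO.ctrA (tsstaba_fl J1 u) Y) := by
  have hmat : ((kronG s (1 : Matrix.GeneralLinearGroup (Fin b) F) :
      Matrix.GeneralLinearGroup (Fin a × Fin b) F) :
      Matrix (Fin a × Fin b) (Fin a × Fin b) F) =
      1 + Matrix.vecMulVec u (tsstaba_fl J1 m) ⊗ₖ (1 : Matrix (Fin b) (Fin b) F) +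
        Matrix.vecMulVec m (tsstaba_fl J1 u) ⊗ₖ (1 : Matrix (Fin b) (Fin b) F) := by
    apply TO.mat_ext_ten
    intro x y
    rw [kronG_mulVec_ten, hs, Units.val_one, Matrix.one_mulVec, Matrix.add_mulVec,
      Matrix.add_mulVec, Matrix.one_mulVec,
      TO.vecMulVec_kron_mulVec, TO.vecMulVec_kron_mulVec, Matrix.one_mulVec, Matrix.one_mulVec,
      tsstaba_ctrA_fl_ten, tsstaba_ctrA_fl_ten, ten_add_left, ten_add_left, ten_smul_left,
      ten_smul_left, ten_smul_right, ten_smul_right]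
  rw [hmat, Matrix.add_mulVec, Matrix.add_mulVec, Matrix.one_mulVec, TO.vecMulVec_kron_mulVec,
    TO.vecMulVec_kron_mulVec, Matrix.one_mulVec, Matrix.one_mulVec]

/-! ### C. reflections -/

/-- the reflection in the non-singular vector `w`. -/
noncomputable def tsstaba_rfm (J : Matrix ι ι F) (w : ι → F) : Matrix ι ι F :=
  tvm J w (-2 / bf J w w)

theorem tsstaba_rfm_mulVec (J : Matrix ι ι F) (w x : ι → F) :
    tsstaba_rfm J w *ᵥ x = x - (2 * bf J w x / bf J w w) • w := by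
  rw [tsstaba_rfm, tvm_mulVec, sub_eq_add_neg, ← neg_smul]
  congr 2
  ring

theorem tsstaba_rfm_mul_self (J : Matrix ι ι F) {w : ι → F} (hw : bf J w w ≠ 0) :
    tsstaba_rfm J w * tsstaba_rfm J w = 1 := by
  rw [Matrix.ext_iff_mulVec]
  intro x
  rw [← Matrix.mulVec_mulVec, tsstaba_rfm_mulVec, tsstaba_rfm_mulVec, Matrix.one_mulVec,
    bf_sub_right, bf_smul_right, sub_sub, ← add_smul]
  have : 2 * bf J w x / bf J w w +
      2 * (bf J w x - 2 * bf J w x / bf J w w * bf J w w) / bf J w w = 0 := by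
    field_simp
    ring
  rw [this, zero_smul, sub_zero]

/-- the reflection as an element of `GL`. -/
noncomputable def tsstaba_rfG (J : Matrix ι ι F) (w : ι → F) (hw : bf J w w ≠ 0) :
    Matrix.GeneralLinearGroup ι F :=
  ⟨tsstaba_rfm J w, tsstaba_rfm J w, tsstaba_rfm_mul_self J hw, tsstaba_rfm_mul_self J hw⟩

@[simp] theorem tsstaba_rfG_coe (J : Matrix ι ι F) (w : ι → F) (hw : bf J w w ≠ 0) :
    ((tsstaba_rfG J w hw : Matrix.GeneralLinearGroup ι F) : Matrix ι ι F) = tsstaba_rfm J w := rfl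

theorem tsstaba_rfG_inv (J : Matrix ι ι F) (w : ι → F) (hw : bf J w w ≠ 0) :
    (((tsstaba_rfG J w hw)⁻¹ : Matrix.GeneralLinearGroup ι F) : Matrix ι ι F) = tsstaba_rfm J w := rfl

theorem tsstaba_rfG_mem_Iso {J : Matrix ι ι F} (hJ : Jᵀ = J) (w : ι → F) (hw : bf J w w ≠ 0) :
    tsstaba_rfG J w hw ∈ Iso J := by
  rw [mem_Iso_iff_bf]
  intro x y
  rw [tsstaba_rfG_coe, tsstaba_rfm_mulVec, tsstaba_rfm_mulVec, bf_sub_left, bf_sub_right,
    bf_sub_right, bf_smul_left, bf_smul_left, bf_smul_right, bf_smul_right, bf_symm hJ x w]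
  field_simp
  ring

end Cfsg.Agent.Lib.Helper21.TS
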