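import Cfsg.Agent.Lib.Helper22.TSSTABAa

/-!
# Project TS, A-side STAB (part b): the front end.
`g ∈ M` with `g (u ⊗ y) = u ⊗ μ y`.  `NtsA` applied to `g⁻¹ (s_m ⊗ 1) g` gives the shape of `g` on
`u^⊥ ⊗ B` modulo `u ⊗ B`.
-/

set_option autoImplicit false
set_option linter.unusedVariables false
set_option linter.unusedSectionVars false

namespace Cfsg.Agent.Lib.Helper21.TS

open Matrix
open scoped Kronecker
open Cfsg.Agent.Lib.helper7.TP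
open Cfsg.Agent.Lib.helper7

variable {a b : ℕ} {F : Type*} [Field F]

/-- the standing hypotheses of the A-side STAB (case `u' = u`). -/
structure TsstabaH (J1 : Matrix (Fin a) (Fin a) F) (J2 : Matrix (Fin b) (Fin b) F)
    (M : Subgroup (Matrix.GeneralLinearGroup (Fin a × Fin b) F))
    (g : Matrix.GeneralLinearGroup (Fin a × Fin b) F) (u : Fin a → F)
    (μ : Matrix (Fin b) (Fin b) F) : Prop where
  C : Ctx J1 J2
  hT : T0 J1 J2 ≤ M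
  hS : M ≤ SpV J1 J2
  hN : NtsA J1 M
  hg : g ∈ M
  hu : u ≠ 0
  hμ : ∀ y : Fin b → F, g.val *ᵥ ten u y = ten u (μ *ᵥ y)
  hdet : IsUnit μ.det

/-- `α₁ = ⟨ŷ| g |y₀⟩`: the matrix of `x ↦ ctr (fl₂ ŷ) (g (x ⊗ y₀))`. -/
noncomputable def tsstaba_al (J2 : Matrix (Fin b) (Fin b) F)
    (g : Matrix.GeneralLinearGroup (Fin a × Fin b) F) (ŷ y₀ : Fin b → F) :
    Matrix (Fin a) (Fin a) F :=
  TP.tpns_mat g.val (tsstaba_fl J2 ŷ) y₀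

theorem tsstaba_al_mulVec (J2 : Matrix (Fin b) (Fin b) F)
    (g : Matrix.GeneralLinearGroup (Fin a × Fin b) F) (ŷ y₀ : Fin b → F) (x : Fin a → F) :
    tsstaba_al J2 g ŷ y₀ *ᵥ x = ctr (tsstaba_fl J2 ŷ) (g.val *ᵥ ten x y₀) := by
  rw [tsstaba_al, TP.tpns_mat_mulVec]

namespace TsstabaH

variable {J1 : Matrix (Fin a) (Fin a) F} {J2 : Matrix (Fin b) (Fin b) F}
  {M : Subgroup (Matrix.GeneralLinearGroup (Fin a × Fin b) F)}
  {g : Matrix.GeneralLinearGroup (Fin a × Fin b) F} {u : Fin a → F} {μ : Matrix (Fin b) (Fin b) F}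

theorem iso (H : TsstabaH J1 J2 M g u μ) (X Y : Fin a × Fin b → F) :
    bf (JV J1 J2) (g.val *ᵥ X) (g.val *ᵥ Y) = bf (JV J1 J2) X Y :=
  (mem_Iso_iff_bf _ g).mp (H.hS H.hg) X Y

theorem mu_inv (H : TsstabaH J1 J2 M g u μ) (y : Fin b → F) : μ *ᵥ (μ⁻¹ *ᵥ y) = y := by
  rw [Matrix.mulVec_mulVec, Matrix.mul_nonsing_inv μ H.hdet, Matrix.one_mulVec]

theorem inv_mu (H : TsstabaH J1 J2 M g u μ) (y : Fin b → F) : μ⁻¹ *ᵥ (μ *ᵥ y) = y := by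
  rw [Matrix.mulVec_mulVec, Matrix.nonsing_inv_mul μ H.hdet, Matrix.one_mulVec]

theorem ginv_u (H : TsstabaH J1 J2 M g u μ) (y : Fin b → F) :
    (g⁻¹).val *ᵥ ten u y = ten u (μ⁻¹ *ᵥ y) := by
  have h1 : ten u y = g.val *ᵥ ten u (μ⁻¹ *ᵥ y) := by rw [H.hμ, H.mu_inv]
  rw [h1, TO.Ctx.inv_mulVec_mulVec]

/-- `g` preserves `u^⊥ ⊗ B`. -/
theorem pres_perp (H : TsstabaH J1 J2 M g u μ) (x : Fin a → F) (hx : bf J1 x u = 0)
    (y : Fin b → F) : TO.ctrA (tsstaba_fl J1 u) (g.val *ᵥ ten x y) = 0 := by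
  apply tsstaba_bf_eq_zero H.C.det2
  intro y'
  have h1 : ten u y' = g.val *ᵥ ten u (μ⁻¹ *ᵥ y') := by rw [H.hμ, H.mu_inv]
  rw [← tsstaba_bf_ten_right, h1, H.iso, bf_JV_ten, hx, zero_mul]

/-- `NtsA` applied to `g⁻¹ (s_m ⊗ 1) g`. -/
theorem front_ctr (H : TsstabaH J1 J2 M g u μ) (m : Fin a → F) (hm : bf J1 m u = 0) :
    ∃ ρ : Fin a → F, ∀ x : Fin a → F, bf J1 x u = 0 → ∀ y : Fin b → F,
      TO.ctrA (tsstaba_fl J1 m) (g.val *ᵥ ten x y) = bf J1 x ρ • (μ *ᵥ y) := by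
  obtain ⟨s, hsT, hs⟩ := tsstaba_sm H.C.alt H.C.two u m hm
  have hum : bf J1 u m = 0 := by rw [bf_alt H.C.alt, hm, neg_zero]
  have hkM : kronG s (1 : Matrix.GeneralLinearGroup (Fin b) F) ∈ M :=
    H.hT (kronG_mem_T0 hsT (Subgroup.one_mem _))
  obtain ⟨h, hhdef⟩ : ∃ h : Matrix.GeneralLinearGroup (Fin a × Fin b) F,
      h = g⁻¹ * kronG s (1 : Matrix.GeneralLinearGroup (Fin b) F) * g := ⟨_, rfl⟩
  have hhM : h ∈ M := by
    rw [hhdef]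
    exact M.mul_mem (M.mul_mem (M.inv_mem H.hg) hkM) H.hg
  have hhv : ∀ X : Fin a × Fin b → F,
      h.val *ᵥ X = (g⁻¹).val *ᵥ ((kronG s (1 : Matrix.GeneralLinearGroup (Fin b) F)).val *ᵥ
        (g.val *ᵥ X)) := by
    intro X
    rw [hhdef, Units.val_mul, Units.val_mul, ← Matrix.mulVec_mulVec, ← Matrix.mulVec_mulVec]
  have hsu : (s : Matrix (Fin a) (Fin a) F) *ᵥ u = u := by
    rw [hs, hum, bf_self_alt H.C.alt H.C.two, zero_smul, zero_smul, add_zero, add_zero]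
  -- the two hypotheses of `NtsA`
  have ha : ∀ y : Fin b → F, h.val *ᵥ ten u y = ten u y := by
    intro y
    rw [hhv, H.hμ, kronG_mulVec_ten, hsu, Units.val_one, Matrix.one_mulVec, ← H.hμ,
      TO.Ctx.inv_mulVec_mulVec]
  have hkY : ∀ x : Fin a → F, bf J1 x u = 0 → ∀ y : Fin b → F,
      (kronG s (1 : Matrix.GeneralLinearGroup (Fin b) F)).val *ᵥ (g.val *ᵥ ten x y) =
        g.val *ᵥ ten x y + ten u (TO.ctrA (tsstaba_fl J1 m) (g.val *ᵥ ten x y)) := by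
    intro x hx y
    rw [tsstaba_kron_sm J1 s u m hs, H.pres_perp x hx y, TO.ten_zero_right, add_zero]
  have hb : ∀ x : Fin a → F, bf J1 x u = 0 → ∀ y : Fin b → F, ∃ y' : Fin b → F,
      h.val *ᵥ ten x y = ten x y + ten u y' := by
    intro x hx y
    refine ⟨μ⁻¹ *ᵥ TO.ctrA (tsstaba_fl J1 m) (g.val *ᵥ ten x y), ?_⟩
    rw [hhv, hkY x hx y, Matrix.mulVec_add, TO.Ctx.inv_mulVec_mulVec, H.ginv_u]
  obtain ⟨ρ, c₀, hρ, hHA⟩ := H.hN h hhM u H.hu ha hb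
  refine ⟨ρ, fun x hx y => ?_⟩
  -- `(s_m ⊗ 1) g = g h`
  have hrel : (kronG s (1 : Matrix.GeneralLinearGroup (Fin b) F)).val *ᵥ (g.val *ᵥ ten x y) =
      g.val *ᵥ (h.val *ᵥ ten x y) := by
    rw [hhv, TO.Ctx.mulVec_inv_mulVec]
  rw [hkY x hx y, hHA x y, hx, zero_smul, zero_smul, add_zero, add_zero, Matrix.one_mulVec,
    Matrix.mulVec_add, Matrix.mulVec_smul, H.hμ] at hrel
  have h2 : ten u (TO.ctrA (tsstaba_fl J1 m) (g.val *ᵥ ten x y)) =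
      ten u (bf J1 x ρ • (μ *ᵥ y)) := by
    rw [ten_smul_right]
    exact add_left_cancel hrel
  exact TO.ten_right_inj H.hu h2

theorem al_u (H : TsstabaH J1 J2 M g u μ) (ŷ y₀ : Fin b → F) (h1 : bf J2 (μ *ᵥ y₀) ŷ = 1) :
    tsstaba_al J2 g ŷ y₀ *ᵥ u = u := by
  rw [tsstaba_al_mulVec, H.hμ, tsstaba_ctr_fl_ten, h1, one_smul]

theorem al_perp (H : TsstabaH J1 J2 M g u μ) (ŷ y₀ : Fin b → F) (x : Fin a → F)
    (hx : bf J1 x u = 0) : bf J1 (tsstaba_al J2 g ŷ y₀ *ᵥ x) u = 0 := by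
  rw [← tsstaba_fl_dot, tsstaba_al_mulVec, TO.tostaba4_ctr_comm, H.pres_perp x hx, dotProduct_zero]

/-- the front end: `g (x ⊗ y) ≡ α₁ x ⊗ μ y` modulo `u ⊗ B` for `x ∈ u^⊥`. -/
theorem front (H : TsstabaH J1 J2 M g u μ) (ŷ y₀ : Fin b → F) (h1 : bf J2 (μ *ᵥ y₀) ŷ = 1)
    (x : Fin a → F) (hx : bf J1 x u = 0) (y : Fin b → F) :
    g.val *ᵥ ten x y - ten (tsstaba_al J2 g ŷ y₀ *ᵥ x) (μ *ᵥ y) ∈ TO.Aline (b := b) u := by
  apply tsstaba_Aline_of_ctrA H.C.alt H.C.two H.C.det1 H.hu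
  intro m hm
  obtain ⟨ρ, hρ⟩ := H.front_ctr m hm
  have e1 : bf J1 (tsstaba_al J2 g ŷ y₀ *ᵥ x) m = bf J1 x ρ := by
    rw [← tsstaba_fl_dot, tsstaba_al_mulVec, TO.tostaba4_ctr_comm, hρ x hx y₀, dotProduct_smul,
      tsstaba_fl_dot, h1, smul_eq_mul, mul_one]
  rw [TO.tostaba4_ctrA_sub, hρ x hx y, tsstaba_ctrA_fl_ten, e1, sub_self]

/-- the explicit shape on `u^⊥ ⊗ B`. -/
theorem front_ex (H : TsstabaH J1 J2 M g u μ) (ŷ y₀ : Fin b → F) (h1 : bf J2 (μ *ᵥ y₀) ŷ = 1)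
    (x : Fin a → F) (hx : bf J1 x u = 0) (y : Fin b → F) :
    ∃ d : Fin b → F,
      g.val *ᵥ ten x y = ten (tsstaba_al J2 g ŷ y₀ *ᵥ x) (μ *ᵥ y) + ten u d := by
  obtain ⟨d, hd⟩ := (TO.mem_Aline u _).1 (H.front ŷ y₀ h1 x hx y)
  exact ⟨d, by rw [← hd]; abel⟩

end TsstabaH

end Cfsg.Agent.Lib.Helper21.TS
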