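import Cfsg.Agent.Lib.Helper22.TSSTABAb

/-!
# Project TS, A-side STAB (part c): `μ` is a similitude; the relation `g t = t' g e_t` for
`t = 1 ⊗ τ`, `t' = 1 ⊗ τ'`, `τ' μ = μ τ`.
-/

set_option autoImplicit false
set_option linter.unusedVariables false
set_option linter.unusedSectionVars false

namespace Cfsg.Agent.Lib.Helper21.TS

open Matrix
open scoped Kronecker
open Cfsg.Agent.Lib.helper7.TP
open Cfsg.Agent.Lib.helper7

variable {a b : ℕ} {F : Type*} [Field F]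

theorem tsstaba_kron_one_ten (τ : Matrix.GeneralLinearGroup (Fin b) F) (x : Fin a → F)
    (y : Fin b → F) :
    (kronG (1 : Matrix.GeneralLinearGroup (Fin a) F) τ).val *ᵥ ten x y = ten x (τ.val *ᵥ y) := by
  rw [kronG_mulVec_ten, Units.val_one, Matrix.one_mulVec]

theorem tsstaba_kron_one_inv_ten (τ : Matrix.GeneralLinearGroup (Fin b) F) (x : Fin a → F)
    (y : Fin b → F) :
    ((kronG (1 : Matrix.GeneralLinearGroup (Fin a) F) τ)⁻¹).val *ᵥ ten x y =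
      ten x ((τ⁻¹).val *ᵥ y) := by
  have h : (kronG (1 : Matrix.GeneralLinearGroup (Fin a) F) τ)⁻¹ =
      kronG (1 : Matrix.GeneralLinearGroup (Fin a) F) τ⁻¹ := by
    apply Units.ext
    show ((1⁻¹ : Matrix.GeneralLinearGroup (Fin a) F) : Matrix (Fin a) (Fin a) F) ⊗ₖ _ = _
    rw [inv_one]
    rfl
  rw [h, tsstaba_kron_one_ten]

/-- `r_{μ w} μ = μ r_w` for a similitude `μ`. -/
theorem tsstaba_rf_mu (J : Matrix (Fin b) (Fin b) F) (μ : Matrix (Fin b) (Fin b) F) (ν : F)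
    (hν : ν ≠ 0)
    (hsim : ∀ y y' : Fin b → F, bf J (μ *ᵥ y) (μ *ᵥ y') = ν⁻¹ * bf J y y') (w : Fin b → F)
    (hw : bf J w w ≠ 0) :
    tsstaba_rfm J (μ *ᵥ w) * μ = μ * tsstaba_rfm J w := by
  rw [Matrix.ext_iff_mulVec]
  intro y
  rw [← Matrix.mulVec_mulVec, ← Matrix.mulVec_mulVec, tsstaba_rfm_mulVec, tsstaba_rfm_mulVec, hsim,
    hsim, Matrix.mulVec_sub, Matrix.mulVec_smul]
  congr 2
  field_simp

namespace TsstabaH

variable {J1 : Matrix (Fin a) (Fin a) F} {J2 : Matrix (Fin b) (Fin b) F}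
  {M : Subgroup (Matrix.GeneralLinearGroup (Fin a × Fin b) F)}
  {g : Matrix.GeneralLinearGroup (Fin a × Fin b) F} {u : Fin a → F} {μ : Matrix (Fin b) (Fin b) F}

/-- `μ` is a similitude. -/
theorem simil (H : TsstabaH J1 J2 M g u μ) (ha : 3 ≤ a) (ŷ y₀ : Fin b → F)
    (h1 : bf J2 (μ *ᵥ y₀) ŷ = 1) :
    ∃ ν : F, ν ≠ 0 ∧ ∀ y y' : Fin b → F, bf J2 (μ *ᵥ y) (μ *ᵥ y') = ν⁻¹ * bf J2 y y' := by
  obtain ⟨x, x', hx, hx', hxx'⟩ :=
    TO.tostaba4_pair_in_perp (tsstaba_symp H.C.alt H.C.two H.C.det1) ha H.hu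
  have huu : bf J1 u u = 0 := bf_self_alt H.C.alt H.C.two u
  have key : ∀ y y' : Fin b → F,
      bf J2 y y' = bf J1 (tsstaba_al J2 g ŷ y₀ *ᵥ x) (tsstaba_al J2 g ŷ y₀ *ᵥ x') *
        bf J2 (μ *ᵥ y) (μ *ᵥ y') := by
    intro y y'
    obtain ⟨d, hd⟩ := H.front_ex ŷ y₀ h1 x hx y
    obtain ⟨d', hd'⟩ := H.front_ex ŷ y₀ h1 x' hx' y'
    have e0 := H.iso (ten x y) (ten x' y')
    rw [hd, hd', bf_JV_ten, hxx', one_mul, bf_add_left, bf_add_right, bf_add_right, bf_JV_ten,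
      bf_JV_ten, bf_JV_ten, bf_JV_ten, H.al_perp ŷ y₀ x hx, huu,
      bf_alt H.C.alt u, H.al_perp ŷ y₀ x' hx'] at e0
    rw [← e0]
    ring
  have hy0 : y₀ ≠ 0 := by
    rintro rfl
    rw [Matrix.mulVec_zero, bf_zero_left] at h1
    exact zero_ne_one h1
  obtain ⟨y', hy'⟩ := bf_nondeg H.C.det2 hy0
  have hκ : bf J1 (tsstaba_al J2 g ŷ y₀ *ᵥ x) (tsstaba_al J2 g ŷ y₀ *ᵥ x') ≠ 0 := by
    intro h0
    apply hy'
    rw [key y₀ y', h0, zero_mul]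
  refine ⟨_, hκ, fun y y' => ?_⟩
  rw [key y y', ← mul_assoc, inv_mul_cancel₀ hκ, one_mul]

/-- the relation `g t = t' g e_t`, `t = 1 ⊗ τ`, `t' = 1 ⊗ τ'`, `e_t ∈ Q_u ⊗ 1`. -/
theorem rel (H : TsstabaH J1 J2 M g u μ) (ŷ y₀ : Fin b → F) (h1 : bf J2 (μ *ᵥ y₀) ŷ = 1)
    (τ τ' : Matrix.GeneralLinearGroup (Fin b) F) (hτ : τ ∈ Iso J2) (hτ' : τ' ∈ Iso J2)
    (hc : τ'.val * μ = μ * τ.val) :
    ∃ (x₀ : Fin a → F) (c₀ : F), bf J1 x₀ u = 0 ∧ ∀ (x : Fin a → F) (y : Fin b → F),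
      g.val *ᵥ ten x (τ.val *ᵥ y) =
        (kronG (1 : Matrix.GeneralLinearGroup (Fin a) F) τ').val *ᵥ
          (g.val *ᵥ (ten x y + bf J1 x x₀ • ten u y +
            bf J1 x u • ten x₀ y + (bf J1 x u * c₀) • ten u y)) := by
  have hτv : ∀ z : Fin b → F, τ'.val *ᵥ (μ *ᵥ z) = μ *ᵥ (τ.val *ᵥ z) := by
    intro z
    rw [Matrix.mulVec_mulVec, hc, ← Matrix.mulVec_mulVec]
  obtain ⟨t, htdef⟩ : ∃ t : Matrix.GeneralLinearGroup (Fin a × Fin b) F,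
      t = kronG (1 : Matrix.GeneralLinearGroup (Fin a) F) τ := ⟨_, rfl⟩
  obtain ⟨t', ht'def⟩ : ∃ t' : Matrix.GeneralLinearGroup (Fin a × Fin b) F,
      t' = kronG (1 : Matrix.GeneralLinearGroup (Fin a) F) τ' := ⟨_, rfl⟩
  have htM : t ∈ M := by rw [htdef]; exact H.hT (kronG_mem_T0 (Subgroup.one_mem _) hτ)
  have ht'M : t' ∈ M := by rw [ht'def]; exact H.hT (kronG_mem_T0 (Subgroup.one_mem _) hτ')
  have ht : ∀ (x : Fin a → F) (y : Fin b → F), t.val *ᵥ ten x y = ten x (τ.val *ᵥ y) := by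
    intro x y; rw [htdef, tsstaba_kron_one_ten]
  have ht' : ∀ (x : Fin a → F) (y : Fin b → F), t'.val *ᵥ ten x y = ten x (τ'.val *ᵥ y) := by
    intro x y; rw [ht'def, tsstaba_kron_one_ten]
  have ht'i : ∀ (x : Fin a → F) (y : Fin b → F),
      (t'⁻¹).val *ᵥ ten x y = ten x ((τ'⁻¹).val *ᵥ y) := by
    intro x y; rw [ht'def, tsstaba_kron_one_inv_ten]
  obtain ⟨e, hedef⟩ : ∃ e : Matrix.GeneralLinearGroup (Fin a × Fin b) F,
      e = g⁻¹ * t'⁻¹ * g * t := ⟨_, rfl⟩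
  have heM : e ∈ M := by
    rw [hedef]
    exact M.mul_mem (M.mul_mem (M.mul_mem (M.inv_mem H.hg) (M.inv_mem ht'M)) H.hg) htM
  have hev : ∀ X : Fin a × Fin b → F,
      e.val *ᵥ X = (g⁻¹).val *ᵥ ((t'⁻¹).val *ᵥ (g.val *ᵥ (t.val *ᵥ X))) := by
    intro X
    rw [hedef, Units.val_mul, Units.val_mul, Units.val_mul, ← Matrix.mulVec_mulVec,
      ← Matrix.mulVec_mulVec, ← Matrix.mulVec_mulVec]
  -- hypothesis (a) of `NtsA`
  have hea : ∀ y : Fin b → F, e.val *ᵥ ten u y = ten u y := by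
    intro y
    have e1 : g.val *ᵥ (t.val *ᵥ ten u y) = t'.val *ᵥ (g.val *ᵥ ten u y) := by
      rw [ht, H.hμ, H.hμ, ht', hτv]
    rw [hev, e1, TO.Ctx.inv_mulVec_mulVec, TO.Ctx.inv_mulVec_mulVec]
  -- hypothesis (b) of `NtsA`
  have heb : ∀ x : Fin a → F, bf J1 x u = 0 → ∀ y : Fin b → F, ∃ y' : Fin b → F,
      e.val *ᵥ ten x y = ten x y + ten u y' := by
    intro x hx y
    obtain ⟨d₁, hd₁⟩ := H.front_ex ŷ y₀ h1 x hx y
    obtain ⟨d₂, hd₂⟩ := H.front_ex ŷ y₀ h1 x hx (τ.val *ᵥ y)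
    have e1 : g.val *ᵥ (t.val *ᵥ ten x y) =
        t'.val *ᵥ (g.val *ᵥ ten x y) + ten u (d₂ - τ'.val *ᵥ d₁) := by
      rw [ht, hd₂, hd₁, Matrix.mulVec_add, ht', ht', hτv, TO.ten_sub_right]
      abel
    refine ⟨μ⁻¹ *ᵥ ((τ'⁻¹).val *ᵥ (d₂ - τ'.val *ᵥ d₁)), ?_⟩
    rw [hev, e1, Matrix.mulVec_add, Matrix.mulVec_add, TO.Ctx.inv_mulVec_mulVec,
      TO.Ctx.inv_mulVec_mulVec, ht'i, H.ginv_u]
  obtain ⟨x₀, c₀, hx₀, hHA⟩ := H.hN e heM u H.hu hea heb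
  refine ⟨x₀, c₀, hx₀, fun x y => ?_⟩
  have hrel : g.val *ᵥ (t.val *ᵥ ten x y) = t'.val *ᵥ (g.val *ᵥ (e.val *ᵥ ten x y)) := by
    rw [hev, TO.Ctx.mulVec_inv_mulVec, TO.Ctx.mulVec_inv_mulVec]
  rw [ht] at hrel
  rw [hrel, ← ht'def, hHA x y, Matrix.one_mulVec, Matrix.smul_mulVec, Matrix.one_mulVec,
    ten_smul_right, smul_smul]

end TsstabaH

end Cfsg.Agent.Lib.Helper21.TS
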