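import Cfsg.Agent.Lib.Helper22.TSSTABAc

/-!
# Project TS, A-side STAB (part d): the algebra lemma (a matrix that commutes with every
reflection up to scalars is a scalar) and the stage lemma.
-/

set_option autoImplicit false
set_option linter.unusedVariables false
set_option linter.unusedSectionVars false

namespace Cfsg.Agent.Lib.Helper21.TS

open Matrix
open scoped Kronecker
open Cfsg.Agent.Lib.helper7.TP
open Cfsg.Agent.Lib.helper7

variable {a b : ℕ} {F : Type*} [Field F]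

/-! ### A. the algebra lemma -/

/-- from `Z τ = τ' Z + s μ τ` and `τ' μ = μ τ` to `ζ τ = τ ζ + s τ`, `ζ = μ⁻¹ Z`. -/
theorem tsstaba_alg {n : ℕ} (μ Z τ τ' : Matrix (Fin n) (Fin n) F) (s : F)
    (hdet : IsUnit μ.det) (hτμ : τ' * μ = μ * τ)
    (hZ : Z * τ = τ' * Z + s • (μ * τ)) :
    μ⁻¹ * Z * τ = τ * (μ⁻¹ * Z) + s • τ := by
  have h1 : μ⁻¹ * μ = 1 := Matrix.nonsing_inv_mul μ hdet
  have h2 : μ * μ⁻¹ = 1 := Matrix.mul_nonsing_inv μ hdet
  have h3 : μ⁻¹ * τ' = τ * μ⁻¹ := by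
    calc μ⁻¹ * τ' = μ⁻¹ * τ' * (μ * μ⁻¹) := by rw [h2, Matrix.mul_one]
      _ = μ⁻¹ * (τ' * μ) * μ⁻¹ := by simp only [Matrix.mul_assoc]
      _ = μ⁻¹ * (μ * τ) * μ⁻¹ := by rw [hτμ]
      _ = (μ⁻¹ * μ) * τ * μ⁻¹ := by simp only [Matrix.mul_assoc]
      _ = τ * μ⁻¹ := by rw [h1, Matrix.one_mul]
  calc μ⁻¹ * Z * τ = μ⁻¹ * (Z * τ) := by rw [Matrix.mul_assoc]
    _ = μ⁻¹ * (τ' * Z + s • (μ * τ)) := by rw [hZ]
    _ = (μ⁻¹ * τ') * Z + s • ((μ⁻¹ * μ) * τ) := by
        rw [Matrix.mul_add, Matrix.mul_smul]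
        simp only [Matrix.mul_assoc]
    _ = τ * (μ⁻¹ * Z) + s • τ := by rw [h3, h1, Matrix.one_mul, Matrix.mul_assoc]

/-- a non-singular vector is an eigenvector of a matrix that commutes with its reflection up to a
scalar multiple of the reflection. -/
theorem tsstaba_eig {n : ℕ} {J : Matrix (Fin n) (Fin n) F} (two : (2 : F) ≠ 0)
    (ζ : Matrix (Fin n) (Fin n) F) (w : Fin n → F) (hw : bf J w w ≠ 0) (s : F)
    (h : ζ * tsstaba_rfm J w = tsstaba_rfm J w * ζ + s • tsstaba_rfm J w) :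
    ∃ l : F, ζ *ᵥ w = l • w := by
  have hrw : tsstaba_rfm J w *ᵥ w = -w := by
    rw [tsstaba_rfm_mulVec]
    have : 2 * bf J w w / bf J w w = 2 := by field_simp
    rw [this, two_smul]
    abel
  have h1 := congrArg (fun X : Matrix (Fin n) (Fin n) F => X *ᵥ w) h
  simp only [Matrix.add_mulVec, Matrix.smul_mulVec, ← Matrix.mulVec_mulVec, hrw, Matrix.mulVec_neg,
    tsstaba_rfm_mulVec] at h1
  refine ⟨(2 * bf J w (ζ *ᵥ w) / bf J w w + s) / 2, ?_⟩
  have h2 : (2 : F) • (ζ *ᵥ w) = (2 * bf J w (ζ *ᵥ w) / bf J w w + s) • w := by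
    linear_combination (norm := module) -h1
  calc ζ *ᵥ w = ((2 : F)⁻¹ * 2) • (ζ *ᵥ w) := by rw [inv_mul_cancel₀ two, one_smul]
    _ = (2 : F)⁻¹ • ((2 : F) • (ζ *ᵥ w)) := by rw [mul_smul]
    _ = (2 : F)⁻¹ • ((2 * bf J w (ζ *ᵥ w) / bf J w w + s) • w) := by rw [h2]
    _ = ((2 * bf J w (ζ *ᵥ w) / bf J w w + s) / 2) • w := by
        rw [smul_smul, inv_mul_eq_div]

/-- eigenvectors `x`, `x'` whose sum is an eigenvector have the same eigenvalue. -/
theorem tsstaba_eig_add {n : ℕ} (ζ : Matrix (Fin n) (Fin n) F) {x x' : Fin n → F} {l l' k : F}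
    (hx0 : x ≠ 0) (hx0' : x' ≠ 0) (hx : ζ *ᵥ x = l • x) (hx' : ζ *ᵥ x' = l' • x')
    (hs : ζ *ᵥ (x + x') = k • (x + x')) : l = l' := by
  have e1 : (l - k) • x = (k - l') • x' := by
    rw [Matrix.mulVec_add, hx, hx'] at hs
    linear_combination (norm := module) hs
  have e2 : (l * (l - k)) • x = (l' * (k - l')) • x' := by
    have := congrArg (fun z => ζ *ᵥ z) e1
    simp only [Matrix.mulVec_smul, hx, hx'] at this
    linear_combination (norm := module) this
  have e3 : ((l - l') * (l - k)) • x = 0 := by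
    linear_combination (norm := module) e2 - l' • e1
  by_contra hne
  have hlk : l - k = 0 := by
    rcases smul_eq_zero.1 e3 with h0 | h0
    · rcases mul_eq_zero.1 h0 with h0 | h0
      · exact absurd (sub_eq_zero.1 h0) hne
      · exact h0
    · exact absurd h0 hx0
  rw [hlk, zero_smul] at e1
  rcases smul_eq_zero.1 e1.symm with h0 | h0
  · apply hne
    have := sub_eq_zero.1 hlk
    rw [this]
    exact sub_eq_zero.1 h0
  · exact hx0' h0

section scalar

variable {n : ℕ} {J : Matrix (Fin n) (Fin n) F}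

theorem tsstaba_Q_add (hJ : Jᵀ = J) (x y : Fin n → F) :
    bf J (x + y) (x + y) = bf J x x + 2 * bf J x y + bf J y y := by
  rw [bf_add_left, bf_add_right, bf_add_right, bf_symm hJ y x]
  ring

theorem tsstaba_Q_sub (hJ : Jᵀ = J) (x y : Fin n → F) :
    bf J (x - y) (x - y) = bf J x x - 2 * bf J x y + bf J y y := by
  rw [bf_sub_left, bf_sub_right, bf_sub_right, bf_symm hJ y x]
  ring

/-- two non-singular eigenvectors with different eigenvalues are orthogonal of opposite norms. -/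
theorem tsstaba_eig_pair (hJ : Jᵀ = J) (two : (2 : F) ≠ 0) (ζ : Matrix (Fin n) (Fin n) F)
    (hev : ∀ w : Fin n → F, bf J w w ≠ 0 → ∃ l : F, ζ *ᵥ w = l • w)
    {p p' : Fin n → F} {l l' : F} (hp : bf J p p ≠ 0) (hp' : bf J p' p' ≠ 0)
    (hl : ζ *ᵥ p = l • p) (hl' : ζ *ᵥ p' = l' • p') (hne : l ≠ l') :
    bf J p p' = 0 ∧ bf J p' p' = -bf J p p := by
  have hp0 : p ≠ 0 := by rintro rfl; exact hp (bf_zero_left J 0)
  have hp0' : p' ≠ 0 := by rintro rfl; exact hp' (bf_zero_left J 0)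
  have h1 : bf J (p + p') (p + p') = 0 := by
    by_contra h
    obtain ⟨k, hk⟩ := hev _ h
    exact hne (tsstaba_eig_add ζ hp0 hp0' hl hl' hk)
  have h2 : bf J (p - p') (p - p') = 0 := by
    by_contra h
    obtain ⟨k, hk⟩ := hev _ h
    have hn0 : -p' ≠ 0 := neg_ne_zero.2 hp0'
    have hln : ζ *ᵥ (-p') = l' • (-p') := by rw [Matrix.mulVec_neg, hl', smul_neg]
    rw [sub_eq_add_neg] at hk
    exact hne (tsstaba_eig_add ζ hp0 hn0 hl hln hk)
  rw [tsstaba_Q_add hJ] at h1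
  rw [tsstaba_Q_sub hJ] at h2
  have h3 : (2 : F) * (2 * bf J p p') = 0 := by linear_combination h1 - h2
  have h4 : bf J p p' = 0 := by
    rcases mul_eq_zero.1 h3 with h | h
    · exact absurd h two
    · rcases mul_eq_zero.1 h with h | h
      · exact absurd h two
      · exact h
  refine ⟨h4, ?_⟩
  rw [h4] at h1
  linear_combination h1

/-- a non-singular vector orthogonal to two given orthogonal non-singular vectors (`n ≥ 3`). -/
theorem tsstaba_third (hJ : Jᵀ = J) (two : (2 : F) ≠ 0) (hdet : J.det ≠ 0) (hn : 3 ≤ n)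
    {w₀ w : Fin n → F} (hw₀ : bf J w₀ w₀ ≠ 0) (hw : bf J w w ≠ 0) (h0 : bf J w₀ w = 0) :
    ∃ z : Fin n → F, bf J z z ≠ 0 ∧ bf J z w₀ = 0 ∧ bf J z w = 0 := by
  have hw0w : bf J w w₀ = 0 := by rw [bf_symm hJ, h0]
  obtain ⟨z₀, hz₀, hz₀1, hz₀2⟩ := tpns_common_ker hn (tsstaba_fl J w₀) (tsstaba_fl J w)
  rw [tsstaba_fl_dot] at hz₀1 hz₀2
  by_cases hq : bf J z₀ z₀ = 0
  · obtain ⟨y', hy'⟩ := bf_nondeg hdet hz₀
    obtain ⟨z₁, hz₁def⟩ : ∃ z₁ : Fin n → F,
        z₁ = y' - (bf J y' w₀ / bf J w₀ w₀) • w₀ - (bf J y' w / bf J w w) • w := ⟨_, rfl⟩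
    have e1 : bf J z₁ w₀ = 0 := by
      rw [hz₁def, bf_sub_left, bf_sub_left, bf_smul_left, bf_smul_left, hw0w]
      field_simp
      ring
    have e2 : bf J z₁ w = 0 := by
      rw [hz₁def, bf_sub_left, bf_sub_left, bf_smul_left, bf_smul_left, h0]
      field_simp
      ring
    have e3 : bf J z₀ z₁ ≠ 0 := by
      rw [hz₁def, bf_sub_right, bf_sub_right, bf_smul_right, bf_smul_right, hz₀1, hz₀2, mul_zero,
        mul_zero, sub_zero, sub_zero]
      exact hy'
    by_cases hq1 : bf J z₁ z₁ = 0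
    · refine ⟨z₀ + z₁, ?_, ?_, ?_⟩
      · rw [tsstaba_Q_add hJ, hq, hq1, zero_add, add_zero]
        exact mul_ne_zero two e3
      · rw [bf_add_left, hz₀1, e1, add_zero]
      · rw [bf_add_left, hz₀2, e2, add_zero]
    · exact ⟨z₁, hq1, e1, e2⟩
  · exact ⟨z₀, hq, hz₀1, hz₀2⟩

/-- all non-singular vectors are eigenvectors ⟹ the matrix is a scalar (`n ≥ 3`). -/
theorem tsstaba_scalar (hJ : Jᵀ = J) (two : (2 : F) ≠ 0) (hdet : J.det ≠ 0) (hn : 3 ≤ n)
    (ζ : Matrix (Fin n) (Fin n) F)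
    (hev : ∀ w : Fin n → F, bf J w w ≠ 0 → ∃ l : F, ζ *ᵥ w = l • w) :
    ∃ l : F, ζ = l • (1 : Matrix (Fin n) (Fin n) F) := by
  classical
  -- a non-singular vector
  have hex : ∃ w₀ : Fin n → F, bf J w₀ w₀ ≠ 0 := by
    have hx0 : (Pi.single (⟨0, by omega⟩ : Fin n) (1 : F) : Fin n → F) ≠ 0 := by
      intro h
      have := congrFun h ⟨0, by omega⟩
      rw [Pi.single_eq_same, Pi.zero_apply] at this
      exact one_ne_zero this
    obtain ⟨x, hx⟩ : ∃ x : Fin n → F, x ≠ 0 := ⟨_, hx0⟩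
    obtain ⟨y, hy⟩ := bf_nondeg hdet hx
    by_cases h1 : bf J x x = 0
    · by_cases h2 : bf J y y = 0
      · refine ⟨x + y, ?_⟩
        rw [tsstaba_Q_add hJ, h1, h2, zero_add, add_zero]
        exact mul_ne_zero two hy
      · exact ⟨y, h2⟩
    · exact ⟨x, h1⟩
  obtain ⟨w₀, hw₀⟩ := hex
  obtain ⟨l, hl⟩ := hev w₀ hw₀
  -- every non-singular vector has the eigenvalue `l`
  have hall : ∀ w : Fin n → F, bf J w w ≠ 0 → ζ *ᵥ w = l • w := by
    intro w hw
    obtain ⟨l', hl'⟩ := hev w hw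
    by_cases hne : l = l'
    · rw [hne]; exact hl'
    · exfalso
      obtain ⟨h0, hQ⟩ := tsstaba_eig_pair hJ two ζ hev hw₀ hw hl hl' hne
      obtain ⟨z, hz, hz1, hz2⟩ := tsstaba_third hJ two hdet hn hw₀ hw h0
      obtain ⟨l'', hl''⟩ := hev z hz
      have hw₀z : bf J w₀ z = 0 := by rw [bf_symm hJ, hz1]
      have hwz : bf J w z = 0 := by rw [bf_symm hJ, hz2]
      by_cases hc : l'' = l
      · -- `z` has eigenvalue `l ≠ l'`
        have hzl : ζ *ᵥ z = l • z := by rw [← hc]; exact hl''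
        obtain ⟨-, hQ1⟩ := tsstaba_eig_pair hJ two ζ hev hw hz hl' hzl (Ne.symm hne)
        have hsum : bf J (w₀ + z) (w₀ + z) ≠ 0 := by
          rw [tsstaba_Q_add hJ, hw₀z, hQ1, hQ]
          intro h
          have h3 : (2 : F) * bf J w₀ w₀ = 0 := by linear_combination h
          rcases mul_eq_zero.1 h3 with h | h
          · exact absurd h two
          · exact hw₀ h
        have hsl : ζ *ᵥ (w₀ + z) = l • (w₀ + z) := by
          rw [Matrix.mulVec_add, hl, hzl, smul_add]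
        obtain ⟨-, hQ2⟩ := tsstaba_eig_pair hJ two ζ hev hsum hw hsl hl' hne
        rw [tsstaba_Q_add hJ, hw₀z, hQ1, hQ] at hQ2
        apply hw₀
        linear_combination hQ2
      · -- `z` has an eigenvalue `≠ l`
        obtain ⟨-, hQ1⟩ := tsstaba_eig_pair hJ two ζ hev hw₀ hz hl hl'' (Ne.symm hc)
        by_cases hc' : l'' = l'
        · have hzl : ζ *ᵥ z = l' • z := by rw [← hc']; exact hl''
          have hsum : bf J (w + z) (w + z) ≠ 0 := by
            rw [tsstaba_Q_add hJ, hwz, hQ1, hQ]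
            intro h
            have h3 : (2 : F) * bf J w₀ w₀ = 0 := by linear_combination -h
            rcases mul_eq_zero.1 h3 with h | h
            · exact absurd h two
            · exact hw₀ h
          have hsl : ζ *ᵥ (w + z) = l' • (w + z) := by
            rw [Matrix.mulVec_add, hl', hzl, smul_add]
          obtain ⟨-, hQ2⟩ := tsstaba_eig_pair hJ two ζ hev hw₀ hsum hl hsl hne
          rw [tsstaba_Q_add hJ, hwz, hQ1, hQ] at hQ2
          apply hw₀
          linear_combination -hQ2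
        · obtain ⟨-, hQ2⟩ := tsstaba_eig_pair hJ two ζ hev hw hz hl' hl'' (Ne.symm hc')
          rw [hQ1, hQ, neg_neg] at hQ2
          apply hw₀
          have h3 : (2 : F) * bf J w₀ w₀ = 0 := by linear_combination -hQ2
          rcases mul_eq_zero.1 h3 with h | h
          · exact absurd h two
          · exact h
  -- every vector
  refine ⟨l, ?_⟩
  rw [Matrix.ext_iff_mulVec]
  intro x
  rw [Matrix.smul_mulVec, Matrix.one_mulVec]
  by_cases hx : bf J x x = 0
  · by_cases h1 : bf J (x + w₀) (x + w₀) = 0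
    · have h2 : bf J (x - w₀) (x - w₀) ≠ 0 := by
        rw [tsstaba_Q_add hJ, hx] at h1
        rw [tsstaba_Q_sub hJ, hx]
        intro h
        have h3 : (2 : F) * bf J w₀ w₀ = 0 := by linear_combination h1 + h
        rcases mul_eq_zero.1 h3 with h | h
        · exact absurd h two
        · exact hw₀ h
      have e := hall _ h2
      rw [Matrix.mulVec_sub, hl] at e
      linear_combination (norm := module) e
    · have e := hall _ h1
      rw [Matrix.mulVec_add, hl] at e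
      linear_combination (norm := module) e
  · exact hall x hx

end scalar

end Cfsg.Agent.Lib.Helper21.TS
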