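import Cfsg.Agent.Lib.Helper22.TSSTABAd

/-!
# Project TS, A-side STAB (part e): the stage lemma.
-/

set_option autoImplicit false
set_option linter.unusedVariables false
set_option linter.unusedSectionVars false

namespace Cfsg.Agent.Lib.Helper21.TS

open Matrix
open scoped Kronecker
open Cfsg.Agent.Lib.helper7.TP
open Cfsg.Agent.Lib.helper7

variable {a b : ℕ} {F : Type*} [Field F]

namespace TsstabaH

variable {J1 : Matrix (Fin a) (Fin a) F} {J2 : Matrix (Fin b) (Fin b) F}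
  {M : Subgroup (Matrix.GeneralLinearGroup (Fin a × Fin b) F)}
  {g : Matrix.GeneralLinearGroup (Fin a × Fin b) F} {u : Fin a → F} {μ : Matrix (Fin b) (Fin b) F}

/-- the stage lemma: a vector `x` for which `g (x ⊗ y) ≡ α₁ x ⊗ μ y` modulo `u ⊗ B` and for which
the relation holds with `e_t (x ⊗ y) = x ⊗ y + s u ⊗ y` (for every reflection) has
`g (x ⊗ y) = α₁ x ⊗ μ y`. -/
theorem stage (H : TsstabaH J1 J2 M g u μ) (hb : 3 ≤ b) (ŷ y₀ : Fin b → F)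
    (h1 : bf J2 (μ *ᵥ y₀) ŷ = 1) (ν : F) (hν : ν ≠ 0)
    (hsim : ∀ y y' : Fin b → F, bf J2 (μ *ᵥ y) (μ *ᵥ y') = ν⁻¹ * bf J2 y y') (x : Fin a → F)
    (hx : ∀ y : Fin b → F,
      g.val *ᵥ ten x y - ten (tsstaba_al J2 g ŷ y₀ *ᵥ x) (μ *ᵥ y) ∈ TO.Aline (b := b) u)
    (hrel : ∀ w : Fin b → F, bf J2 w w ≠ 0 → ∃ s : F, ∀ y : Fin b → F,
      g.val *ᵥ ten x (tsstaba_rfm J2 w *ᵥ y) =
        ((1 : Matrix (Fin a) (Fin a) F) ⊗ₖ tsstaba_rfm J2 (μ *ᵥ w)) *ᵥ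
          (g.val *ᵥ (ten x y + s • ten u y))) :
    ∀ y : Fin b → F, g.val *ᵥ ten x y = ten (tsstaba_al J2 g ŷ y₀ *ᵥ x) (μ *ᵥ y) := by
  classical
  obtain ⟨i₀, hi₀⟩ := tpns_exists_ne H.hu
  obtain ⟨φ₀, hφ₀def⟩ : ∃ φ₀ : Fin a → F, φ₀ = Pi.single i₀ (u i₀)⁻¹ := ⟨_, rfl⟩
  have hφ₀ : φ₀ ⬝ᵥ u = 1 := by
    rw [hφ₀def, single_dotProduct, inv_mul_cancel₀ hi₀]
  obtain ⟨al, haldef⟩ : ∃ al : Matrix (Fin a) (Fin a) F, al = tsstaba_al J2 g ŷ y₀ := ⟨_, rfl⟩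
  rw [← haldef] at hx ⊢
  obtain ⟨Z, hZdef⟩ : ∃ Z : Matrix (Fin b) (Fin b) F,
      Z = TO.tostaba4_Bm g.val φ₀ x - (φ₀ ⬝ᵥ (al *ᵥ x)) • μ := ⟨_, rfl⟩
  have hZ : ∀ y : Fin b → F, g.val *ᵥ ten x y = ten (al *ᵥ x) (μ *ᵥ y) + ten u (Z *ᵥ y) := by
    intro y
    obtain ⟨d, hd⟩ := (TO.mem_Aline u _).1 (hx y)
    have e1 : Z *ᵥ y = d := by
      rw [hZdef, Matrix.sub_mulVec, TO.tostaba4_Bm_mulVec, Matrix.smul_mulVec, ← TO.ctrA_ten,
        ← TO.tostaba4_ctrA_sub, hd, TO.ctrA_ten, hφ₀, one_smul]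
    rw [e1, ← hd]
    abel
  -- the commutation relation for every reflection
  have hcomm : ∀ w : Fin b → F, bf J2 w w ≠ 0 → ∃ s : F,
      Z * tsstaba_rfm J2 w = tsstaba_rfm J2 (μ *ᵥ w) * Z + s • (μ * tsstaba_rfm J2 w) := by
    intro w hw
    obtain ⟨s, hs⟩ := hrel w hw
    refine ⟨s, ?_⟩
    have hτ := tsstaba_rf_mu J2 μ ν hν hsim w hw
    have hτv : ∀ z : Fin b → F,
        tsstaba_rfm J2 (μ *ᵥ w) *ᵥ (μ *ᵥ z) = μ *ᵥ (tsstaba_rfm J2 w *ᵥ z) := by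
      intro z
      rw [Matrix.mulVec_mulVec, hτ, ← Matrix.mulVec_mulVec]
    rw [Matrix.ext_iff_mulVec]
    intro y
    have e1 := hs y
    rw [hZ, Matrix.mulVec_add, Matrix.mulVec_smul, hZ, H.hμ, Matrix.mulVec_add, Matrix.mulVec_add,
      Matrix.mulVec_smul, kron_mulVec_ten, kron_mulVec_ten, kron_mulVec_ten, Matrix.one_mulVec,
      Matrix.one_mulVec, hτv, add_assoc] at e1
    have e2 := add_left_cancel e1
    rw [← ten_smul_right, ← ten_add_right] at e2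
    have e3 := TO.ten_right_inj H.hu e2
    rw [← Matrix.mulVec_mulVec, e3, Matrix.add_mulVec, ← Matrix.mulVec_mulVec, Matrix.smul_mulVec,
      ← Matrix.mulVec_mulVec]
  -- the algebra lemma
  have halg : ∃ l : F, μ⁻¹ * Z = l • (1 : Matrix (Fin b) (Fin b) F) := by
    apply tsstaba_scalar H.C.sym H.C.two H.C.det2 hb
    intro w hw
    obtain ⟨s, hs⟩ := hcomm w hw
    exact tsstaba_eig H.C.two (μ⁻¹ * Z) w hw s
      (tsstaba_alg μ Z (tsstaba_rfm J2 w) (tsstaba_rfm J2 (μ *ᵥ w)) s H.hdet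
        (tsstaba_rf_mu J2 μ ν hν hsim w hw) hs)
  obtain ⟨l, hl⟩ := halg
  have hZl : Z = l • μ := by
    calc Z = (μ * μ⁻¹) * Z := by rw [Matrix.mul_nonsing_inv μ H.hdet, Matrix.one_mul]
      _ = μ * (μ⁻¹ * Z) := by rw [Matrix.mul_assoc]
      _ = l • μ := by rw [hl, Matrix.mul_smul, Matrix.mul_one]
  -- the normalisation `α₁ x = ctr (fl₂ ŷ) (g (x ⊗ y₀))` forces `l = 0`
  have hl0 : l = 0 := by
    have e1 : al *ᵥ x = ctr (tsstaba_fl J2 ŷ) (g.val *ᵥ ten x y₀) := by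
      rw [haldef, tsstaba_al_mulVec]
    rw [hZ, ctr_add, tsstaba_ctr_fl_ten, tsstaba_ctr_fl_ten, h1, one_smul, hZl, Matrix.smul_mulVec,
      bf_smul_left, h1, mul_one] at e1
    have e2 : l • u = 0 := by
      have := congrArg (fun z => z - al *ᵥ x) e1
      simp only [sub_self, add_sub_cancel_left] at this
      exact this.symm
    rcases smul_eq_zero.1 e2 with h0 | h0
    · exact h0
    · exact absurd h0 H.hu
  intro y
  rw [hZ, hZl, hl0, zero_smul, Matrix.zero_mulVec, TO.ten_zero_right, add_zero]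

end TsstabaH

end Cfsg.Agent.Lib.Helper21.TS
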