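import Mathlib
import Cfsg.Prelude.Def_ChevStructure
import Cfsg.Agent.Lib.helper14.TWI.Defs
import Cfsg.Agent.Lib.helper23.INVSAMEPERM
import Cfsg.Agent.Lib.helper8.ChevIE7b

/-!
# Project TWI, piece COMMO (core) : conjugating `h n_w` by words `v` with `v w v⁻¹ = w` on the roots (helper22)
-/

set_option autoImplicit false
set_option linter.unusedVariables false

namespace Cfsg.Agent.Lib.helper14.TWI

open Cfsg.Lie Cfsg.Lie.ChevalleyDatum Cfsg.Agent.Lib.helper8 Cfsg.Agent.Lib.helper14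
  Cfsg.Agent.Lib.helper14.INV

universe u

variable {F : Type u} [Field F]

/-- one step: conjugation by `n_O` for a word `O` with `O w O⁻¹ = w` on the roots -/
theorem twicommo_step (D : ChevalleyDatum) (hB : H8Base.{u} D)
    (hA : H8ReflAll D) (hBN : H8BN D) (hW : H8BN2 D) (hO2 : H8Ord2 D)
    (w : List ℕ) (hw : ValidW D w) (h0 : GL D.Idx F) (hh : h0 ∈ D.diagonalSubgroup F)
    (O : List ℕ) (hOv : ValidW D O)
    (hcomm : ∀ r < D.nroots, h8sW D (O ++ w ++ O.reverse) r = h8sW D w r) :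
    ∃ h1 ∈ D.diagonalSubgroup F,
      (h8nWU D hB O : GL D.Idx F) * (h0 * (h8nWU D hB w : GL D.Idx F)) *
        (h8nWU D hB O : GL D.Idx F)⁻¹ = h1 * (h8nWU D hB w : GL D.Idx F) := by
  have hnwN : (h8nWU D hB w : GL D.Idx F) ∈ D.monomialSubgroup F := h8nWU_mem_N D hB hA w hw
  have h1N : h0 * (h8nWU D hB w : GL D.Idx F) ∈ D.monomialSubgroup F :=
    Subgroup.mul_mem _ (h8H_le_N D hh) hnwN
  obtain ⟨h2N, ha2'⟩ := conjN_act (F := F) D hB hA O w hOv hw h0 hh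
  have ha1 : ∀ r < D.nroots, H8Act D hB (h0 * (h8nWU D hB w : GL D.Idx F)) r (h8sW D w r) :=
    fun r hr => h8act_mul D hB h0 _ r _ _ (h8nWU_act D hB hA w hw r hr)
      (h8perm_H_id D hB h0 hh _ (h8sW_lt D hA w hw r hr))
  have ha2 : ∀ r < D.nroots, H8Act D hB ((h8nWU D hB O : GL D.Idx F) *
      (h0 * (h8nWU D hB w : GL D.Idx F)) * (h8nWU D hB O : GL D.Idx F)⁻¹) r (h8sW D w r) := by
    intro r hr
    have := ha2' r hr
    rwa [hcomm r hr] at this
  have hk := N_same_perm D hB hA hBN hW hO2 _ _ h1N h2N (h8sW D w) ha1 ha2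
  have hnorm := h8nWU_mem_normalizer_H (F := F) D hB hA w hw
  rw [Subgroup.mem_normalizer_iff] at hnorm
  refine ⟨h0 * ((h8nWU D hB w : GL D.Idx F) * ((h0 * (h8nWU D hB w : GL D.Idx F))⁻¹ *
      ((h8nWU D hB O : GL D.Idx F) * (h0 * (h8nWU D hB w : GL D.Idx F)) *
        (h8nWU D hB O : GL D.Idx F)⁻¹)) * (h8nWU D hB w : GL D.Idx F)⁻¹),
    Subgroup.mul_mem _ hh ((hnorm _).1 hk), ?_⟩
  group

/-- COMMO, with the commutation on the roots as a hypothesis -/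
theorem twicommo_core (D : ChevalleyDatum) (hB : H8Base.{u} D)
    (hA : H8ReflAll D) (hBN : H8BN D) (hW : H8BN2 D) (hO2 : H8Ord2 D)
    (w : List ℕ) (hw : ValidW D w) (h0 : GL D.Idx F) (hh : h0 ∈ D.diagonalSubgroup F)
    (vs : List (List ℕ))
    (hvs : ∀ O ∈ vs, ValidW D O ∧
      ∀ r < D.nroots, h8sW D (O ++ w ++ O.reverse) r = h8sW D w r) :
    ∃ h1 ∈ D.diagonalSubgroup F,
      (h8nWU D hB vs.flatten : GL D.Idx F) * (h0 * (h8nWU D hB w : GL D.Idx F)) *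
        (h8nWU D hB vs.flatten : GL D.Idx F)⁻¹ = h1 * (h8nWU D hB w : GL D.Idx F) := by
  induction vs with
  | nil =>
    refine ⟨h0, hh, ?_⟩
    have : (h8nWU D hB ([] : List (List ℕ)).flatten : GL D.Idx F) = 1 := rfl
    rw [this, one_mul, inv_one, mul_one]
  | cons O vs ih =>
    obtain ⟨h1', hh1', e⟩ := ih (fun O' hO' => hvs O' (List.mem_cons_of_mem _ hO'))
    obtain ⟨hOv, hcomm⟩ := hvs O List.mem_cons_self
    obtain ⟨h1, hh1, e2⟩ := twicommo_step D hB hA hBN hW hO2 w hw h1' hh1' O hOv hcomm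
    refine ⟨h1, hh1, ?_⟩
    rw [List.flatten_cons, h8nWU_append, ← e2, ← e]
    group

end Cfsg.Agent.Lib.helper14.TWI
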