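import Mathlib
import Cfsg.Prelude.Def_ChevStructure
import Cfsg.Agent.Lib.helper14.TWI.Defs
import Cfsg.Agent.Lib.Helper16.TWIORB1
import Cfsg.Agent.Lib.helper8.ChevCox2

/-!
# Project TWI : a word permuting the fundamental roots of an orbit commutes with the product of its reflections
(helper22; used by COMMO, same statement as ORB2 under another name)
-/

set_option autoImplicit false
set_option linter.unusedVariables false

namespace Cfsg.Agent.Lib.helper14.TWI

open Cfsg.Lie Cfsg.Lie.ChevalleyDatum Cfsg.Agent.Lib.helper8 Cfsg.Agent.Lib.helper14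
  Cfsg.Agent.Lib.helper14.INV

universe u

/-- the fundamental roots of an orbit are distinct -/
theorem twiorb2b_simple_inj (D : ChevalleyDatum) (hB0 : H8Base.{0} D) (hBN : H8BN D)
    (hW : H8BN2 D) (hO2 : H8Ord2 D) (O : List ℕ) (hO : IsOrb D O) (j j' : ℕ) (hj : j ∈ O)
    (hj' : j' ∈ O) (h : D.simple j = D.simple j') : j = j' := by
  by_contra hne
  obtain ⟨_, hlt, horth⟩ := hO
  have h1 := horth j hj j' hj' hne
  rw [← h, h8reflectRoot_simple] at h1
  have hp := h8simple_pos D hBN j (hlt j hj)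
  have := (h8posneg_iff D hB0 hBN hW hO2 _ hp.1).1 (by rw [h1]; exact hp)
  exact this hp

/-- conjugating a product of fundamental reflections by a word mapping their roots to fundamental roots -/
theorem twiorb2b_conj_list (D : ChevalleyDatum) (hB0 : H8Base.{0} D) (hA : H8ReflAll D)
    (hBN : H8BN D) (hW : H8BN2 D) (hO2 : H8Ord2 D) (w : List ℕ) (hw : ValidW D w) (k : ℕ → ℕ)
    (L : List ℕ)
    (hL : ∀ j ∈ L, j < D.rank ∧ k j < D.rank ∧ h8sW D w (D.simple j) = D.simple (k j)) :
    h8wPerm D hA w * h8wPerm D hA L * (h8wPerm D hA w)⁻¹ = h8wPerm D hA (L.map k) := by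
  induction L with
  | nil =>
    unfold h8wPerm
    simp
  | cons j L ih =>
    obtain ⟨hj, hkj, e⟩ := hL j List.mem_cons_self
    have h1 := h8W_conj_simple D hB0 hA hBN hW hO2 w hw (k j) j hkj hj e
    have e1 : h8wPerm D hA (j :: L) = h8sPerm D hA j * h8wPerm D hA L := by
      unfold h8wPerm; rw [List.map_cons, List.prod_cons]
    have e2 : h8wPerm D hA ((j :: L).map k) = h8sPerm D hA (k j) * h8wPerm D hA (L.map k) := by
      unfold h8wPerm; rw [List.map_cons, List.map_cons, List.prod_cons]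
    rw [e1, e2, ← h1, ← ih (fun j' hj' => hL j' (List.mem_cons_of_mem _ hj'))]
    group

/-- the product of the reflections of an orbit does not depend on the order -/
theorem twiorb2b_perm_prod (D : ChevalleyDatum) (hB0 : H8Base.{0} D) (hA : H8ReflAll D)
    (hBN : H8BN D) (hW : H8BN2 D) (hO2 : H8Ord2 D) (O : List ℕ) (hO : IsOrb D O) (L : List ℕ)
    (hperm : L.Perm O) : h8wPerm D hA L = h8wPerm D hA O := by
  unfold h8wPerm
  apply List.Perm.prod_eq' (hperm.map _)
  rw [List.pairwise_map]
  have hndL : L.Nodup := hperm.nodup_iff.mpr hO.1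
  refine List.Pairwise.imp_of_mem ?_ hndL
  intro a b ha hb hne
  have haO := hperm.subset ha
  have hbO := hperm.subset hb
  have har := hO.2.1 a haO
  have hbr := hO.2.1 b hbO
  have hv : ∀ i ∈ [a], i < D.rank := by
    intro i hi
    rw [List.mem_singleton] at hi
    rw [hi]; exact har
  have h1 := h8W_conj_simple D hB0 hA hBN hW hO2 [a] hv b b hbr hbr (hO.2.2 a haO b hbO hne)
  have e : h8wPerm D hA [a] = h8sPerm D hA a := by
    unfold h8wPerm
    simp
  rw [e] at h1
  exact mul_inv_eq_iff_eq_mul.mp h1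

/-- a word permuting the fundamental roots of an orbit commutes with the product of its reflections (ORB2) -/
theorem twiorb2b_comm_w (D : ChevalleyDatum) (hB0 : H8Base.{0} D) (hA : H8ReflAll D) (hBN : H8BN D)
    (hW : H8BN2 D) (hO2 : H8Ord2 D) (O : List ℕ) (hO : IsOrb D O) (w : List ℕ) (hw : ValidW D w)
    (hp : PermO D w O) :
    ∀ r < D.nroots, h8sW D (O ++ w ++ O.reverse) r = h8sW D w r := by
  classical
  let k : ℕ → ℕ := fun j => if h : j ∈ O then Classical.choose (hp j h) else 0
  have hk : ∀ j ∈ O, k j ∈ O ∧ h8sW D w (D.simple j) = D.simple (k j) := by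
    intro j hj
    have := Classical.choose_spec (hp j hj)
    simp only [k, dif_pos hj]
    exact this
  have hlt := hO.2.1
  have hwr : ValidW D w.reverse := fun i hi => hw i (List.mem_reverse.mp hi)
  -- `k` is injective on `O`
  have hinj : ∀ j ∈ O, ∀ j' ∈ O, k j = k j' → j = j' := by
    intro j hj j' hj' e
    apply twiorb2b_simple_inj D hB0 hBN hW hO2 O hO j j' hj hj'
    have e1 : h8sW D w (D.simple j) = h8sW D w (D.simple j') := by
      rw [(hk j hj).2, (hk j' hj').2, e]
    have h2 := h8sW_reverse D hA w.reverse hwr (D.simple j) (h8simple_pos D hBN j (hlt j hj)).1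
    have h3 := h8sW_reverse D hA w.reverse hwr (D.simple j') (h8simple_pos D hBN j' (hlt j' hj')).1
    rw [List.reverse_reverse] at h2 h3
    rw [← h2, e1, h3]
  have hnd : (O.map k).Nodup := List.Nodup.map_on hinj hO.1
  have hsub : O.map k ⊆ O := by
    intro x hx
    obtain ⟨j, hj, rfl⟩ := List.mem_map.mp hx
    exact (hk j hj).1
  have hperm : (O.map k).Perm O :=
    (List.subperm_of_subset hnd hsub).perm_of_length_le (by rw [List.length_map])
  have h1 := twiorb2b_conj_list D hB0 hA hBN hW hO2 w hw k O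
    (fun j hj => ⟨hlt j hj, hlt _ (hk j hj).1, (hk j hj).2⟩)
  rw [twiorb2b_perm_prod D hB0 hA hBN hW hO2 O hO _ hperm] at h1
  have h2 : h8wPerm D hA w * h8wPerm D hA O = h8wPerm D hA O * h8wPerm D hA w :=
    mul_inv_eq_iff_eq_mul.mp h1
  obtain ⟨_, _, m3, m4⟩ := orb_sW D hB0 hA hBN hW hO2 O hO
  intro r hr
  have h3 := congrArg (fun π : Equiv.Perm (Fin D.nroots) => (π ⟨r, hr⟩).val) h2
  simp only [Equiv.Perm.mul_apply] at h3
  rw [h8wPerm_val D hA w hw, h8wPerm_val D hA O hlt, h8wPerm_val D hA O hlt,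
    h8wPerm_val D hA w hw] at h3
  rw [h8sW_append, h8sW_append, m4 r hr]
  show h8sW D O (h8sW D w (h8sW D O r)) = h8sW D w r
  rw [h3]
  exact m3 _ (h8sW_lt D hA w hw r hr)

end Cfsg.Agent.Lib.helper14.TWI
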