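import Mathlib
import Cfsg.Prelude.Def_ChevStructure
import Cfsg.Agent.Lib.helper14.TWI.Defs
import Cfsg.Agent.Lib.Helper22.TWICOMMOcore
import Cfsg.Agent.Lib.Helper22.TWIORB2b

/-!
# Project TWI, piece COMMO : conjugating `h n_w` by a product of orbits permuted by `w` (helper22)
-/

set_option autoImplicit false
set_option linter.unusedVariables false

namespace Cfsg.Agent.Lib.helper14.TWI

open Cfsg.Lie Cfsg.Lie.ChevalleyDatum Cfsg.Agent.Lib.helper8 Cfsg.Agent.Lib.helper14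
  Cfsg.Agent.Lib.helper14.INV

universe u

variable {F : Type u} [Field F]

/-- COMMO : conjugating `h n_w` by a product of orbits permuted by `w` gives `h' n_w` -/
theorem conj_N_by_orbs (D : ChevalleyDatum) (hB : H8Base.{u} D) (hB0 : H8Base.{0} D)
    (hA : H8ReflAll D) (hC : H8CommAll.{u} D) (hBN : H8BN D) (hW : H8BN2 D) (hO2 : H8Ord2 D)
    (w : List ℕ) (hw : ValidW D w) (h0 : GL D.Idx F) (hh : h0 ∈ D.diagonalSubgroup F)
    (vs : List (List ℕ)) (hvs : ∀ O ∈ vs, IsOrb D O ∧ PermO D w O) :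
    ∃ h1 ∈ D.diagonalSubgroup F,
      (h8nWU D hB vs.flatten : GL D.Idx F) * (h0 * (h8nWU D hB w : GL D.Idx F)) *
        (h8nWU D hB vs.flatten : GL D.Idx F)⁻¹ = h1 * (h8nWU D hB w : GL D.Idx F) :=
  twicommo_core D hB hA hBN hW hO2 w hw h0 hh vs fun O hO =>
    ⟨(hvs O hO).1.2.1, twiorb2b_comm_w D hB0 hA hBN hW hO2 O (hvs O hO).1 w hw (hvs O hO).2⟩

end Cfsg.Agent.Lib.helper14.TWI
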