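import Mathlib
import Cfsg.Prelude.Def_ChevStructure
import Cfsg.Prelude.Def_LieTwisted
import Cfsg.Agent.Lib.helper14.TWI.Defs
import Cfsg.Agent.Lib.helper14.INVNCb
import Cfsg.Agent.Lib.helper14.INVFUSEb
import Cfsg.Agent.Lib.helper14.TWIFUSES
import Cfsg.Agent.Lib.helper6.TWIE6.Defs

/-!
# Project TWIE6, piece FUSEA : the fusion by coefficient-one moves (helper22)
-/

set_option autoImplicit false
set_option linter.unusedVariables false

namespace Cfsg.Agent.Lib.helper6.TWIE6

open Cfsg.Lie Cfsg.Lie.ChevalleyDatum Cfsg.Agent.Lib.helper8 Cfsg.Agent.Lib.helper14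
  Cfsg.Agent.Lib.helper14.INV Cfsg.Agent.Lib.helper14.TWI

universe u

variable {K : Type u} [Field K]

/-- the product of the elements of a block -/
theorem twie6fusea_block (D : ChevalleyDatum) (hB : H8Base.{u} D) (b : Bool) (l : List ℕ) :
    ((l.map fun s => if b then h8xU D hB s (1 : K) else h8nU D hB (D.simple s) (1 : K)).prod) =
      if b then (w1 D hB l : GL D.Idx K) else h8nWU D hB l := by
  cases b with
  | true =>
    simp only [if_true]
    induction l with
    | nil => rw [w1_nil]; rfl
    | cons s l ih => rw [List.map_cons, List.prod_cons, ih, w1_cons]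
  | false =>
    simp only [Bool.false_eq_true, if_false]
    rfl

/-- the conjugating element of a list of block moves lies in a subgroup containing the elements of the blocks (same statement
as piece FUSEM, under another name) -/
theorem twie6fusea_blocks_mem (D : ChevalleyDatum) (hB : H8Base.{u} D) (G₁ : Subgroup (GL D.Idx K))
    (bs : List (Bool × List ℕ))
    (hbs : ∀ b ∈ bs, if b.1 then (w1 D hB b.2 : GL D.Idx K) ∈ G₁
      else (h8nWU D hB b.2 : GL D.Idx K) ∈ G₁) :
    (((te6Moves bs).reverse.map fun m => if m.1 then h8xU D hB m.2 (1 : K)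
        else h8nU D hB (D.simple m.2) (1 : K)).prod) ∈ G₁ := by
  induction bs with
  | nil =>
    have : te6Moves [] = [] := rfl
    rw [this]
    simp only [List.reverse_nil, List.map_nil, List.prod_nil]
    exact Subgroup.one_mem _
  | cons b bs ih =>
    have e : te6Moves (b :: bs) = (b.2.reverse.map fun s => (b.1, s)) ++ te6Moves bs := by
      unfold te6Moves
      rw [List.flatMap_cons]
    rw [e, List.reverse_append, List.map_append, List.prod_append]
    apply Subgroup.mul_mem
    · exact ih (fun b' hb' => hbs b' (List.mem_cons_of_mem _ hb'))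
    · rw [← List.map_reverse, List.reverse_reverse, List.map_map]
      have e2 : ((fun m : Bool × ℕ => if m.1 then h8xU D hB m.2 (1 : K)
          else h8nU D hB (D.simple m.2) (1 : K)) ∘ fun s => (b.1, s)) =
          fun s => if b.1 then h8xU D hB s (1 : K) else h8nU D hB (D.simple s) (1 : K) := rfl
      rw [e2, twie6fusea_block]
      have := hbs b List.mem_cons_self
      split_ifs at this ⊢ with hb
      · exact this
      · exact this

set_option maxRecDepth 100000 in
theorem twie6fusea_chk : ∀ k < 11,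
    fuseb_ok chevE6 60 (te6Moves (te6FuseBlocks.getD k [])) (te6Std.getD k []) = true ∧
    fuseb_run chevE6 60 (te6Moves (te6FuseBlocks.getD k [])) (te6Std.getD k []) =
      te6Mid.getD k [] := by
  decide +kernel

theorem twie6fusea_blocks_chk : ∀ k < 11, ∀ b ∈ te6FuseBlocks.getD k [],
    if b.1 then b.2 ∈ te6RhoOrbs else b.2 ∈ te6Orbs := by
  decide +kernel

/-- FUSEA : the fusion by coefficient-one moves, by elements of a subgroup containing the orbit products -/
theorem te6_fuse_core [CharP K 2] (hB : H8Base.{u} chevE6) (G₁ : Subgroup (GL chevE6.Idx K))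
    (hmemW : ∀ R ∈ te6RhoOrbs, (w1 chevE6 hB R : GL chevE6.Idx K) ∈ G₁)
    (hmemN : ∀ O ∈ te6Orbs, (h8nWU chevE6 hB O : GL chevE6.Idx K) ∈ G₁) (k : ℕ) (hk : k < 11) :
    CjS chevE6 G₁ (w1 chevE6 hB (te6Std.getD k []) : GL chevE6.Idx K)
      (w1 chevE6 hB (te6Mid.getD k [])) := by
  have hD : chevE6 ∈ [chevG2, chevB2, chevD4, chevF4, chevE6, chevE7, chevE8] := by simp
  have hA := h8reflAll chevE6 hD
  have hC := h8commAll.{u} chevE6 hD
  have hBN := h8bn_all chevE6 hD
  obtain ⟨hO, hO2⟩ := h8ord_all chevE6 hD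
  obtain ⟨c1, c2⟩ := twie6fusea_chk k hk
  have e := fuseb_run_elt (K := K) chevE6 hB hA hC hBN hO 60
    (te6Moves (te6FuseBlocks.getD k [])) (te6Std.getD k []) c1
  rw [c2] at e
  refine ⟨_, ?_, e⟩
  apply twie6fusea_blocks_mem chevE6 hB G₁
  intro b hb
  have h1 := twie6fusea_blocks_chk k hk b hb
  split_ifs at h1 ⊢ with hb1
  · exact hmemW _ h1
  · exact hmemN _ h1

end Cfsg.Agent.Lib.helper6.TWIE6
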