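import Mathlib
import Cfsg.Prelude.Def_ChevStructure
import Cfsg.Prelude.Def_ChevF4
import Cfsg.Prelude.Def_LieTwisted
import Cfsg.Agent.Lib.helper14.TWI.Defs
import Cfsg.Agent.Lib.helper8.ChevTF32
import Cfsg.Agent.Lib.helper8.ChevSolv
import Cfsg.Agent.Lib.helper8.ChevCore

/-!
# Project TWIF4, piece HODD : core (`n_k² = 1` as a hypothesis) (helper22)
-/

set_option autoImplicit false
set_option linter.unusedVariables false
set_option linter.style.haveILetI false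

namespace Cfsg.Agent.Lib.helper8.TWIF4

open Cfsg.Lie Cfsg.Lie.ChevalleyDatum Cfsg.Agent.Lib.helper8 Cfsg.Agent.Lib.helper14
  Cfsg.Agent.Lib.helper14.INV Cfsg.Agent.Lib.helper14.TWI

universe u

variable {K : Type u} [Field K]

/-- abstract form (same statement as piece HODDA, under another name): an involution `h n`, `n` an involution
normalising the abelian group `A ∋ h` of odd order, is conjugate to `n` under `A` -/
theorem twif4hodd_abs {G : Type*} [Group G] (A : Subgroup G) [Finite A] (hodd : Odd (Nat.card A))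
    (hcomm : ∀ a ∈ A, ∀ b ∈ A, a * b = b * a) (n : G) (hn : n * n = 1)
    (hnorm : ∀ a ∈ A, n * a * n⁻¹ ∈ A) (h : G) (hh : h ∈ A) (hsq : (h * n) * (h * n) = 1) :
    ∃ c ∈ A, c * (h * n) * c⁻¹ = n := by
  obtain ⟨f, hf⟩ := hodd
  have hninv : n⁻¹ = n := inv_eq_of_mul_eq_one_left hn
  -- `n h n⁻¹ = h⁻¹`
  have hconj : n * h * n⁻¹ = h⁻¹ := by
    rw [hninv]
    have h1 : h * (n * h * n) = 1 := by
      have : h * (n * h * n) = (h * n) * (h * n) := by group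
      rw [this, hsq]
    exact eq_inv_of_mul_eq_one_right h1
  have hpow : ∀ j : ℕ, n * h ^ j * n⁻¹ = (h ^ j)⁻¹ := by
    intro j
    have h1 : n * h ^ j * n⁻¹ = (n * h * n⁻¹) ^ j := by
      rw [conj_pow]
    rw [h1, hconj, inv_pow]
  have hA : h ^ (Nat.card A) = 1 := by
    have h1 : (⟨h, hh⟩ : A) ^ (Nat.card A) = 1 := pow_card_eq_one'
    have h2 := congrArg Subtype.val h1
    rw [Subgroup.coe_pow, Subgroup.coe_one] at h2
    exact h2
  refine ⟨h ^ f, Subgroup.pow_mem _ hh f, ?_⟩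
  have h1 : h ^ f * (h * n) * (h ^ f)⁻¹ = h ^ f * h * (n * (h ^ f)⁻¹ * n⁻¹) * n := by
    group
  have h2 : n * (h ^ f)⁻¹ * n⁻¹ = h ^ f := by
    have := hpow f
    have h3 : n * (h ^ f)⁻¹ * n⁻¹ = (n * h ^ f * n⁻¹)⁻¹ := by group
    rw [h3, this, inv_inv]
  rw [h1, h2]
  have h4 : h ^ f * h * h ^ f = h ^ (2 * f + 1) := by
    rw [two_mul, pow_succ, pow_add]
    group
  rw [h4, ← hf, hA, one_mul]

/-- HODD core : an involution `h n_w` of `²F₄(q)` is conjugate to `n_w` (`n_w² = 1` as a hypothesis) -/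
theorem twif4hodd_core [Fintype K] {m : ℕ} (hK : Fintype.card K = 2 ^ (2 * m + 1))
    (hB : H8Base.{u} chevF4) (k : ℕ) (h0 : GL chevF4.Idx K)
    (hh : h0 ∈ chevF4.diagonalSubgroup K)
    (hnsq : (h8nWU chevF4 hB (h8ofW k) : GL chevF4.Idx K) * h8nWU chevF4 hB (h8ofW k) = 1)
    (hmG : h0 * (h8nWU chevF4 hB (h8ofW k) : GL chevF4.Idx K) ∈ twistedF4 K (2 ^ m))
    (hsq : (h0 * (h8nWU chevF4 hB (h8ofW k) : GL chevF4.Idx K)) *
      (h0 * (h8nWU chevF4 hB (h8ofW k) : GL chevF4.Idx K)) = 1) :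
    ∃ c ∈ twistedF4 K (2 ^ m), c * (h0 * (h8nWU chevF4 hB (h8ofW k) : GL chevF4.Idx K)) * c⁻¹ =
      h8nWU chevF4 hB (h8ofW k) := by
  classical
  have hD : chevF4 ∈ [chevG2, chevB2, chevD4, chevF4, chevE6, chevE7, chevE8] := by simp
  have hA := h8reflAll chevF4 hD
  set n : GL chevF4.Idx K := h8nWU chevF4 hB (h8ofW k) with hn
  have hnG : n ∈ twistedF4 K (2 ^ m) := h8tf_nk_mem hK hB k
  have hnN : n ∈ Subgroup.normalizer (chevF4.diagonalSubgroup K : Set (GL chevF4.Idx K)) :=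
    h8nWU_mem_normalizer_H chevF4 hB hA (h8ofW k) (h8of_F2 k)
  have h0G : h0 ∈ twistedF4 K (2 ^ m) := by
    have : h0 = (h0 * n) * n⁻¹ := by group
    rw [this]
    exact Subgroup.mul_mem _ hmG (Subgroup.inv_mem _ hnG)
  set A : Subgroup (GL chevF4.Idx K) := chevF4.diagonalSubgroup K ⊓ twistedF4 K (2 ^ m) with hAdef
  haveI : Finite ↥A := inferInstance
  have hodd : Odd (Nat.card ↥A) := by
    rw [hAdef, h8tf_H_card hK]
    apply Odd.pow
    have h1 : 1 ≤ 2 ^ (2 * m + 1) := Nat.one_le_two_pow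
    have h2 : Even (2 ^ (2 * m + 1)) := by
      rw [pow_succ]
      exact even_two.mul_left _
    exact Nat.Even.sub_odd h1 h2 odd_one
  have hcomm : ∀ a ∈ A, ∀ b ∈ A, a * b = b * a :=
    fun a ha b hb => h8_H_comm chevF4 hB a b ha.1 hb.1
  have hnorm : ∀ a ∈ A, n * a * n⁻¹ ∈ A := by
    intro a ha
    refine ⟨?_, ?_⟩
    · exact (Subgroup.mem_normalizer_iff.mp hnN a).mp ha.1
    · exact Subgroup.mul_mem _ (Subgroup.mul_mem _ hnG ha.2) (Subgroup.inv_mem _ hnG)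
  obtain ⟨c, hc, hcc⟩ := twif4hodd_abs A hodd hcomm n hnsq hnorm h0 ⟨hh, h0G⟩ hsq
  exact ⟨c, hc.2, hcc⟩

end Cfsg.Agent.Lib.helper8.TWIF4
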