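import Mathlib
import Cfsg.Prelude.Def_ChevStructure
import Cfsg.Prelude.Def_ChevF4
import Cfsg.Prelude.Def_LieTwisted
import Cfsg.Agent.Lib.helper14.TWI.Defs
import Cfsg.Agent.Lib.helper8.ChevTF32
import Cfsg.Agent.Lib.helper8.ChevTI2
import Cfsg.Agent.Lib.helper8.ChevFix1

/-!
# Project TWIF4, piece RANK : `n_a` and `n_b` are not conjugate in `GL₅₂(K)` (helper22)

`rank (n_a - 1) ≥ 22` (a `22 × 22` identity minor) and `rank (n_b - 1) ≤ 21` (every column is `0` or one of `21` vectors).
-/

set_option autoImplicit false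
set_option linter.unusedVariables false

namespace Cfsg.Agent.Lib.helper8.TWIF4

open Cfsg.Lie Cfsg.Lie.ChevalleyDatum Cfsg.Agent.Lib.helper8 Cfsg.Agent.Lib.helper14
  Cfsg.Agent.Lib.helper14.INV Cfsg.Agent.Lib.helper14.TWI

universe u

/-! ## two generic rank lemmas -/

/-- an identity minor of size `22` gives `rank ≥ 22` -/
theorem twif4rank_lower {ι : Type*} [Fintype ι] [DecidableEq ι] {K : Type*} [Field K]
    (M : Matrix ι ι K) (ρ γ : Fin 22 → ι)
    (h : ∀ i j, M (ρ i) (γ j) = if i = j then 1 else 0) : 22 ≤ M.rank := by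
  have h1 : (Matrix.of fun (i : Fin 22) (x : ι) => if x = ρ i then (1 : K) else 0) * M *
      (Matrix.of fun (x : ι) (j : Fin 22) => if x = γ j then (1 : K) else 0) = 1 := by
    ext i j
    rw [Matrix.mul_apply, Matrix.one_apply, ← h i j]
    rw [Finset.sum_eq_single (γ j)]
    · rw [Matrix.of_apply, if_pos rfl, mul_one, Matrix.mul_apply, Finset.sum_eq_single (ρ i)]
      · rw [Matrix.of_apply, if_pos rfl, one_mul]
      · intro x _ hx
        rw [Matrix.of_apply, if_neg hx, zero_mul]
      · intro hx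
        exact absurd (Finset.mem_univ _) hx
    · intro x _ hx
      rw [Matrix.of_apply, if_neg hx, mul_zero]
    · intro hx
      exact absurd (Finset.mem_univ _) hx
  have h2 : (1 : Matrix (Fin 22) (Fin 22) K).rank = 22 := by
    rw [Matrix.rank_one, Fintype.card_fin]
  rw [← h2, ← h1]
  exact (Matrix.rank_mul_le_left _ _).trans (Matrix.rank_mul_le_right _ _)

/-- if every column is `0` or one of `21` vectors then `rank ≤ 21` -/
theorem twif4rank_upper {ι : Type*} [Fintype ι] [DecidableEq ι] {K : Type*} [Field K]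
    (M : Matrix ι ι K) (P : Fin 21 → ι → K) (s : ι → ℕ)
    (h : ∀ row col, M row col = ∑ i : Fin 21, P i row * (if s col = i.val + 1 then 1 else 0)) :
    M.rank ≤ 21 := by
  have h1 : M = (Matrix.of fun (row : ι) (i : Fin 21) => P i row) *
      (Matrix.of fun (i : Fin 21) (col : ι) => if s col = i.val + 1 then (1 : K) else 0) := by
    ext row col
    rw [Matrix.mul_apply, h row col]
    rfl
  rw [h1]
  refine (Matrix.rank_mul_le_left _ _).trans ?_
  have := Matrix.rank_le_card_width (Matrix.of fun (row : ι) (i : Fin 21) => P i row)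
  rwa [Fintype.card_fin] at this

/-- two conjugate matrices cannot have `rank ≥ 22` and `rank ≤ 21` -/
theorem twif4rank_conj {ι : Type*} [Fintype ι] [DecidableEq ι] {K : Type*} [Field K]
    (M1 M2 : Matrix ι ι K) (h1 : 22 ≤ M1.rank) (h2 : M2.rank ≤ 21) (g : GL ι K)
    (hg : g.val * M1 * (g⁻¹).val = M2) : False := by
  have h3 : M1 = (g⁻¹).val * M2 * g.val := by
    rw [← hg]
    have e1 : (g⁻¹).val * g.val = 1 := by
      rw [← Units.val_mul, inv_mul_cancel, Units.val_one]
    calc M1 = 1 * M1 * 1 := by rw [one_mul, mul_one]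
      _ = ((g⁻¹).val * g.val) * M1 * ((g⁻¹).val * g.val) := by rw [e1]
      _ = (g⁻¹).val * (g.val * M1 * (g⁻¹).val) * g.val := by
        simp only [Matrix.mul_assoc]
  have h4 : M1.rank ≤ M2.rank := by
    rw [h3]
    exact (Matrix.rank_mul_le_left _ _).trans (Matrix.rank_mul_le_right _ _)
  omega

/-! ## the position of a coordinate -/

/-- the coordinate at a given position -/
def twif4rankPos (p : ℕ) : chevF4.Idx :=
  if h : p < chevF4.rank then Sum.inl ⟨p, h⟩
  else if h' : p - chevF4.rank < chevF4.nroots then Sum.inr ⟨p - chevF4.rank, h'⟩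
  else Sum.inl ⟨0, by decide⟩

theorem twif4rank_idx_pos (p : ℕ) (hp : p < 52) : h8tiIdx (twif4rankPos p) = p := by
  have e : chevF4.rank = 4 := by decide
  have e2 : chevF4.nroots = 48 := by decide
  unfold twif4rankPos
  by_cases h : p < chevF4.rank
  · rw [dif_pos h]
    rfl
  · rw [dif_neg h]
    have h' : p - chevF4.rank < chevF4.nroots := by omega
    rw [dif_pos h']
    unfold h8tiIdx
    simp only [Sum.elim_inr]
    omega

/-! ## the matrices `n_w - 1` -/

variable {K : Type u} [Field K]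

/-- the vector over `K` with a given bit pattern -/
def twif4rankDec (K : Type u) [Field K] (a : ℕ) : chevF4.Idx → K :=
  fun x => if a.testBit (h8tiIdx x) then 1 else 0

/-- the column of `w - 1` at position `c` -/
def twif4rankCol (w : List ℕ) (c : ℕ) : ℕ := h8tiAct w (2 ^ c) ^^^ 2 ^ c

/-- the word in the `x_r(1)` of the representative `n_w` (characteristic two) -/
def twif4rankXw (w : List ℕ) : List ℕ :=
  w.flatMap fun i => [chevF4.simple i, chevF4.neg (chevF4.simple i), chevF4.simple i]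

/-- the canonical embedding of `𝔽₂` -/
noncomputable def twif4rankF (K : Type u) [Field K] [CharP K 2] : ZMod 2 →+* K :=
  ZMod.castHom (dvd_refl 2) K

theorem twif4rank_nU_eq [CharP K 2] (hB : H8Base.{u} chevF4) (hB0 : H8Base.{0} chevF4) (r : ℕ) :
    (h8nU chevF4 hB r 1 : GL chevF4.Idx K) =
      h8Psi chevF4 (twif4rankF K) (h8tiW hB0 [r, chevF4.neg r, r]) := by
  unfold h8nU ChevalleyDatum.nWord
  rw [h8wordU_cons, h8wordU_cons, h8wordU_cons, h8tiW_cons, h8tiW_cons, h8tiW_cons, h8tiW_nil,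
    map_mul, map_mul, map_mul, map_one, h8Psi_xU chevF4 hB0 hB, h8Psi_xU chevF4 hB0 hB, map_one]
  have h1 : (-(1 : K)⁻¹) = 1 := by
    rw [inv_one, CharTwo.neg_eq]
  rw [h1]
  rfl

theorem twif4rank_nWU_eq [CharP K 2] (hB : H8Base.{u} chevF4) (hB0 : H8Base.{0} chevF4)
    (w : List ℕ) :
    (h8nWU chevF4 hB w : GL chevF4.Idx K) =
      h8Psi chevF4 (twif4rankF K) (h8tiW hB0 (twif4rankXw w)) := by
  induction w with
  | nil =>
    have : twif4rankXw [] = [] := rfl
    rw [this, h8tiW_nil, map_one]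
    rfl
  | cons i w ih =>
    have : twif4rankXw (i :: w) =
        [chevF4.simple i, chevF4.neg (chevF4.simple i), chevF4.simple i] ++ twif4rankXw w := by
      unfold twif4rankXw
      rw [List.flatMap_cons]
    rw [this, h8tiW_append, map_mul, ← ih, h8nWU_cons, twif4rank_nU_eq hB hB0]

/-- the entries of `n_w` over `𝔽₂` -/
theorem twif4rank_entry0 (hB0 : H8Base.{0} chevF4) (w : List ℕ) (hw : ∀ r ∈ w, r ∈ h8tiRoots)
    (row col : chevF4.Idx) :
    (h8tiW hB0 w).val row col = h8tiDec (h8tiAct w (2 ^ h8tiIdx col)) row := by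
  have h1 := congrFun (h8tiW_mulVec hB0 w hw (2 ^ h8tiIdx col)) row
  rw [h8tiDec_two_pow, Matrix.mulVec_single_one, Matrix.col_apply] at h1
  exact h1

/-- the entries of `n_w - 1` over `K` -/
theorem twif4rank_entry [CharP K 2] (hB : H8Base.{u} chevF4) (hB0 : H8Base.{0} chevF4)
    (w : List ℕ) (hw : ∀ r ∈ twif4rankXw w, r ∈ h8tiRoots) (row col : chevF4.Idx) :
    ((h8nWU chevF4 hB w : GL chevF4.Idx K).val - 1) row col =
      twif4rankDec K (twif4rankCol (twif4rankXw w) (h8tiIdx col)) row := by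
  rw [twif4rank_nWU_eq hB hB0, h8Psi_val, Matrix.sub_apply, Matrix.map_apply,
    twif4rank_entry0 hB0 _ hw, Matrix.one_apply]
  unfold twif4rankDec twif4rankCol h8tiDec
  rw [Nat.testBit_xor, Nat.testBit_two_pow]
  by_cases h1 : (h8tiAct (twif4rankXw w) (2 ^ h8tiIdx col)).testBit (h8tiIdx row) = true
  · rw [if_pos h1, h1, map_one]
    by_cases h2 : row = col
    · subst h2
      simp
    · have h3 : h8tiIdx col ≠ h8tiIdx row := fun e => h2 (h8ti_idx_inj _ _ e.symm)
      simp [h2, h3]
  · rw [if_neg h1, map_zero]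
    rw [Bool.not_eq_true] at h1
    rw [h1]
    by_cases h2 : row = col
    · subst h2
      simp [CharTwo.neg_eq]
    · have h3 : h8tiIdx col ≠ h8tiIdx row := fun e => h2 (h8ti_idx_inj _ _ e.symm)
      simp [h2, h3]

/-! ## the certificates -/

def twif4rankRs : List ℕ :=
  [5, 11, 19, 21, 20, 14, 23, 22, 24, 37, 26, 28, 30, 38, 40, 39, 46, 45, 47, 42, 48, 51]

def twif4rankCs : List ℕ :=
  [4, 7, 8, 9, 10, 13, 15, 16, 17, 18, 25, 27, 29, 31, 32, 33, 34, 35, 36, 41, 44, 50]

def twif4rankPat : List ℕ :=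
  [544, 320, 34816, 12288, 278528, 196608, 134742016, 34603008, 17181966336, 4303355904,
    2164260864, 603979776, 68987912192, 35433480192, 2336462209024, 824633720832,
    18691697672192, 13194139533312, 1196268651020288, 703687441776640, 2]

def twif4rankSel : List ℕ :=
  [0, 0, 0, 21, 0, 1, 2, 0, 2, 1, 0, 3, 4, 4, 5, 3, 6, 6, 5, 7, 8, 9, 0, 10, 11, 8, 12, 7, 13,
    12, 14, 11, 10, 0, 9, 14, 13, 15, 16, 16, 17, 15, 18, 18, 17, 0, 19, 20, 0, 20, 19, 0]

theorem twif4rank_xw1 : twif4rankXw (h8ofW 1) = [33, 14, 33, 24, 23, 24] := by decide +kernel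

theorem twif4rank_xw2 : twif4rankXw (h8ofW 2) =
    [27, 20, 27, 25, 22, 25, 27, 20, 27, 25, 22, 25] := by decide +kernel

theorem twif4rank_cert1 : ∀ i j : Fin 22,
    (twif4rankCol [33, 14, 33, 24, 23, 24] (twif4rankCs.getD j 0)).testBit (twif4rankRs.getD i 0) =
      decide (i = j) := by decide +kernel

theorem twif4rank_cert1_lt : ∀ i : Fin 22, twif4rankRs.getD i 0 < 52 ∧ twif4rankCs.getD i 0 < 52 := by
  decide +kernel

theorem twif4rank_cert2 : ∀ c < 52,
    twif4rankCol [27, 20, 27, 25, 22, 25, 27, 20, 27, 25, 22, 25] c =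
      (0 :: twif4rankPat).getD (twif4rankSel.getD c 0) 0 := by decide +kernel

/-! ## the two ranks -/

theorem twif4rank_dec_zero (row : chevF4.Idx) : twif4rankDec K 0 row = 0 := by
  unfold twif4rankDec
  rw [Nat.zero_testBit]
  rfl

theorem twif4rank_low [CharP K 2] (hB : H8Base.{u} chevF4) (hB0 : H8Base.{0} chevF4) :
    22 ≤ ((h8nWU chevF4 hB (h8ofW 1) : GL chevF4.Idx K).val - 1).rank := by
  have hw1 : ∀ r ∈ twif4rankXw (h8ofW 1), r ∈ h8tiRoots := by rw [twif4rank_xw1]; decide
  apply twif4rank_lower _ (fun i => twif4rankPos (twif4rankRs.getD i 0))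
    (fun j => twif4rankPos (twif4rankCs.getD j 0))
  intro i j
  rw [twif4rank_entry hB hB0 _ hw1, twif4rank_xw1]
  unfold twif4rankDec
  rw [twif4rank_idx_pos _ (twif4rank_cert1_lt j).2, twif4rank_idx_pos _ (twif4rank_cert1_lt i).1,
    twif4rank_cert1 i j]
  by_cases h : i = j <;> simp [h]

theorem twif4rank_up [CharP K 2] (hB : H8Base.{u} chevF4) (hB0 : H8Base.{0} chevF4) :
    ((h8nWU chevF4 hB (h8ofW 2) : GL chevF4.Idx K).val - 1).rank ≤ 21 := by
  have hw2 : ∀ r ∈ twif4rankXw (h8ofW 2), r ∈ h8tiRoots := by rw [twif4rank_xw2]; decide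
  apply twif4rank_upper _ (fun i => twif4rankDec K (twif4rankPat.getD i 0))
    (fun col => twif4rankSel.getD (h8tiIdx col) 0)
  intro row col
  rw [twif4rank_entry hB hB0 _ hw2, twif4rank_xw2, twif4rank_cert2 _ (h8ti_idx_lt col)]
  generalize twif4rankSel.getD (h8tiIdx col) 0 = s
  cases s with
  | zero =>
    rw [List.getD_cons_zero, twif4rank_dec_zero]
    symm
    apply Finset.sum_eq_zero
    intro i _
    rw [if_neg (by omega), mul_zero]
  | succ k =>
    rw [List.getD_cons_succ]
    by_cases hk : k < 21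
    · rw [Finset.sum_eq_single (⟨k, hk⟩ : Fin 21)]
      · rw [if_pos rfl, mul_one]
      · intro i _ hi
        have : ¬ k + 1 = i.val + 1 := by
          intro h
          apply hi
          ext
          simp only
          omega
        rw [if_neg this, mul_zero]
      · intro h
        exact absurd (Finset.mem_univ _) h
    · have h0 : twif4rankPat.getD k 0 = 0 :=
        List.getD_eq_default _ _ (by simp only [twif4rankPat, List.length_cons, List.length_nil]; omega)
      rw [h0, twif4rank_dec_zero]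
      symm
      apply Finset.sum_eq_zero
      intro i _
      have : ¬ k + 1 = i.val + 1 := by
        have := i.2
        omega
      rw [if_neg this, mul_zero]

/-- RANK : `n_a` and `n_b` are not conjugate in `GL₅₂(K)` : `rank (n_a - 1) = 24`, `rank (n_b - 1) = 21` -/
theorem f4_nonconj [CharP K 2] (hB : H8Base.{u} chevF4) :
    ¬ ∃ g : GL chevF4.Idx K, g * (h8nWU chevF4 hB (h8ofW 1) : GL chevF4.Idx K) * g⁻¹ =
      h8nWU chevF4 hB (h8ofW 2) := by
  rintro ⟨g, hg⟩
  have hD : chevF4 ∈ [chevG2, chevB2, chevD4, chevF4, chevE6, chevE7, chevE8] := by simp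
  have hB0 := h8base_all.{0} chevF4 hD
  refine twif4rank_conj _ _ (twif4rank_low hB hB0) (twif4rank_up hB hB0) g ?_
  have h1 := congrArg Units.val hg
  rw [Units.val_mul, Units.val_mul] at h1
  rw [Matrix.mul_sub, Matrix.sub_mul, h1, mul_one, ← Units.val_mul, mul_inv_cancel, Units.val_one]

end Cfsg.Agent.Lib.helper8.TWIF4
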