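import Mathlib
import Cfsg.Prelude.Def_ChevStructure
import Cfsg.Agent.Lib.helper14.TWI.Defs
import Cfsg.Agent.Lib.Helper22.INVM2a

/-!
# Project TWI, piece M2C : the cell-level form of the cell jump `w ↦ s_i w s_i` (helper22)
-/

set_option autoImplicit false
set_option linter.unusedVariables false

namespace Cfsg.Agent.Lib.helper14.TWI

open Cfsg.Lie Cfsg.Lie.ChevalleyDatum Cfsg.Agent.Lib.helper8 Cfsg.Agent.Lib.helper14
  Cfsg.Agent.Lib.helper14.INV

universe u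

variable {F : Type u} [Field F]

/-- M2C : the cell-level form of M2a -/
theorem cell_conj_neg_cell (D : ChevalleyDatum) (hB : H8Base.{u} D) (hA : H8ReflAll D)
    (hC : H8CommAll.{u} D) (hBN : H8BN D) (hW : H8BN2 D)
    (w : List ℕ) (hw : ValidW D w) (y : GL D.Idx F) (hy : InCell D hB y w) (i : ℕ) (hi : i < D.rank)
    (hinv : ∀ r < D.nroots, h8sW D w (h8sW D w r) = r)
    (hpos : D.IsPosRoot (h8sW D w (D.simple i))) (hne : h8sW D w (D.simple i) ≠ D.simple i) :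
    InCell D hB (h8xU D hB (D.neg (D.simple i)) (1 : F) * y *
        (h8xU D hB (D.neg (D.simple i)) (1 : F))⁻¹) (i :: (w ++ [i])) := by
  obtain ⟨c1, hc1, c2, hc2, rfl⟩ := hy
  have hpi := h8simple_pos D hBN i hi
  have hp := hpi.1
  have hniN : h8nU D hB (D.simple i) (1 : F) ∈ D.monomialSubgroup F := h8nU_mem_N D hB _ hp
  have hnwN : (h8nWU D hB w : GL D.Idx F) ∈ D.monomialSubgroup F := h8nWU_mem_N D hB hA w hw
  -- `n_w⁻¹` acts `p_i ↦ w p_i`
  have a1 : H8Act D hB (h8nWU D hB w : GL D.Idx F)⁻¹ (D.simple i) (h8sW D w (D.simple i)) := by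
    have h1 := h8nWU_act (F := F) D hB hA w hw _ hpos.1
    rw [hinv _ hp] at h1
    exact h8act_inv D hB _ _ _ h1
  -- `n_i n_w` acts `p_i ↦ s_i w p_i`
  have a2 : H8Act D hB (h8nU D hB (D.simple i) (1 : F) * (h8nWU D hB w : GL D.Idx F))
      (D.simple i) (D.reflectRoot i (h8sW D w (D.simple i))) :=
    h8act_mul D hB _ _ _ _ _ (h8nWU_act (F := F) D hB hA w hw _ hp)
      (h8act_nU (F := F) D hB hA i hi _ hpos.1)
  have hpos2 := (h8spChk_spec D i (hBN.sp i hi) _ hpos hne).1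
  have E := h8x_neg_eq D hB (D.simple i) (1 : F) one_ne_zero
  have hcell := invm2a_alg (D.borelSubgroup F) (h8xU D hB (D.neg (D.simple i)) (1 : F))
    (h8xU D hB (D.simple i) (1 : F)⁻¹) (h8hU D hB (D.simple i) (-(1 : F)⁻¹))
    (h8nU D hB (D.simple i) (1 : F)) c1 (h8nWU D hB w : GL D.Idx F) c2 E
    (h8U_le_B D (h8xU_mem_U D hB _ hpi _))
    (h8H_le_B D (h8hU_mem_H D hB _ hp _ (neg_ne_zero.2 (inv_ne_zero one_ne_zero))))
    hc1 hc2
    (fun b hb => invm2a_left D hB hA hC hBN i hi _ hnwN _ hpos a1 b hb)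
    (fun b hb => invm2a_right D hB hA hC hBN i hi _ (Subgroup.mul_mem _ hniN hnwN) _ hpos2 a2 b hb)
  obtain ⟨b1, hb1, b2, hb2, e⟩ := hcell
  refine ⟨b1, hb1, b2, hb2, ?_⟩
  rw [e, h8nWU_cons, h8nWU_append, h8nWU_cons]
  congr 3
  unfold h8nWU
  simp

end Cfsg.Agent.Lib.helper14.TWI
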