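import Mathlib
import Cfsg.Prelude.Def_ChevStructure
import Cfsg.Agent.Lib.helper14.TWI.Defs
import Cfsg.Agent.Lib.Helper22.INVM2a

/-!
# Project TWI, piece MULR : `n B n_x ⊆ B n n_x B` for an orbit `x` whose roots `n` keeps positive (helper22)
-/

set_option autoImplicit false
set_option linter.unusedVariables false

namespace Cfsg.Agent.Lib.helper14.TWI

open Cfsg.Lie Cfsg.Lie.ChevalleyDatum Cfsg.Agent.Lib.helper8 Cfsg.Agent.Lib.helper14
  Cfsg.Agent.Lib.helper14.INV

universe u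

variable {F : Type u} [Field F]

/-- one step: `n B n_j ⊆ B n n_j B` when `n` maps `p_j` to a positive root -/
theorem twimulr_step (D : ChevalleyDatum) (hB : H8Base.{u} D) (hA : H8ReflAll D)
    (hC : H8CommAll.{u} D) (hBN : H8BN D) (j : ℕ) (hj : j < D.rank) (n : GL D.Idx F)
    (hn : n ∈ D.monomialSubgroup F) (r' : ℕ) (hr' : D.IsPosRoot r')
    (hact : H8Act D hB n (D.simple j) r') (b : GL D.Idx F) (hb : b ∈ D.borelSubgroup F) :
    ∃ b1 ∈ D.borelSubgroup F, ∃ b2 ∈ D.borelSubgroup F,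
      n * b * h8nU D hB (D.simple j) (1 : F) = b1 * (n * h8nU D hB (D.simple j) 1) * b2 := by
  have hss := h8nU_sq_mem_H (F := F) D hB (D.simple j) (h8simple_pos D hBN j hj).1
  obtain ⟨b1, hb1, b2, hb2, e⟩ := invm2a_right D hB hA hC hBN j hj n hn r' hr' hact
    (b * (h8nU D hB (D.simple j) (1 : F) * h8nU D hB (D.simple j) 1))
    (Subgroup.mul_mem _ hb (h8H_le_B D hss))
  refine ⟨b1, hb1, b2, hb2, ?_⟩
  rw [← e]
  group

/-- MULR : `n B n_x ⊆ B n n_x B` when `n` maps the roots of the orbit `x` to positive roots -/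
theorem cell_mul_right_orb (D : ChevalleyDatum) (hB : H8Base.{u} D) (hA : H8ReflAll D)
    (hC : H8CommAll.{u} D) (hBN : H8BN D) (x : List ℕ) (hx : IsOrb D x) (n : GL D.Idx F)
    (hn : n ∈ D.monomialSubgroup F) (σ : ℕ → ℕ) (hact : ∀ r < D.nroots, H8Act D hB n r (σ r))
    (hpos : ∀ j ∈ x, D.IsPosRoot (σ (D.simple j))) (b : GL D.Idx F)
    (hb : b ∈ D.borelSubgroup F) :
    ∃ b1 ∈ D.borelSubgroup F, ∃ b2 ∈ D.borelSubgroup F,
      n * b * (h8nWU D hB x : GL D.Idx F) = b1 * (n * (h8nWU D hB x : GL D.Idx F)) * b2 := by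
  induction x generalizing n σ b with
  | nil =>
    refine ⟨1, Subgroup.one_mem _, b, hb, ?_⟩
    unfold h8nWU
    simp
  | cons j x ih =>
    obtain ⟨hnd, hlt, horth⟩ := hx
    have hj : j < D.rank := hlt j List.mem_cons_self
    have hjx : j ∉ x := (List.nodup_cons.mp hnd).1
    have hx' : IsOrb D x := ⟨(List.nodup_cons.mp hnd).2,
      fun k hk => hlt k (List.mem_cons_of_mem _ hk),
      fun k hk l hl hkl => horth k (List.mem_cons_of_mem _ hk) l (List.mem_cons_of_mem _ hl) hkl⟩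
    have hpj := (h8simple_pos D hBN j hj).1
    obtain ⟨b1, hb1, b2, hb2, e1⟩ := twimulr_step D hB hA hC hBN j hj n hn _
      (hpos j List.mem_cons_self) (hact _ hpj) b hb
    have hn' : n * h8nU D hB (D.simple j) (1 : F) ∈ D.monomialSubgroup F :=
      Subgroup.mul_mem _ hn (h8nU_mem_N D hB _ hpj)
    have hact' : ∀ r < D.nroots, H8Act D hB (n * h8nU D hB (D.simple j) (1 : F)) r
        (σ (D.reflectRoot j r)) := fun r hr =>
      h8act_mul D hB _ _ _ _ _ (h8act_nU (F := F) D hB hA j hj r hr)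
        (hact _ (h8refl_lt D hA j hj r hr))
    have hpos' : ∀ k ∈ x, D.IsPosRoot (σ (D.reflectRoot j (D.simple k))) := by
      intro k hk
      have hjk : j ≠ k := fun h => hjx (h ▸ hk)
      rw [horth j List.mem_cons_self k (List.mem_cons_of_mem _ hk) hjk]
      exact hpos k (List.mem_cons_of_mem _ hk)
    obtain ⟨b3, hb3, b4, hb4, e2⟩ := ih hx' (n * h8nU D hB (D.simple j) (1 : F)) hn'
      (fun r => σ (D.reflectRoot j r)) hact' hpos' b2 hb2
    refine ⟨b1 * b3, Subgroup.mul_mem _ hb1 hb3, b4, hb4, ?_⟩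
    rw [h8nWU_cons]
    have e3 : n * b * (h8nU D hB (D.simple j) (1 : F) * (h8nWU D hB x : GL D.Idx F)) =
        (n * b * h8nU D hB (D.simple j) (1 : F)) * (h8nWU D hB x : GL D.Idx F) := by group
    rw [e3, e1]
    have e4 : b1 * (n * h8nU D hB (D.simple j) (1 : F)) * b2 * (h8nWU D hB x : GL D.Idx F) =
        b1 * ((n * h8nU D hB (D.simple j) (1 : F)) * b2 * (h8nWU D hB x : GL D.Idx F)) := by group
    rw [e4, e2]
    group

end Cfsg.Agent.Lib.helper14.TWI
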