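import Mathlib
import Cfsg.Agent.S4115
import Cfsg.Agent.Lib.Helper1.Fitting
import Cfsg.Agent.Lib.Helper22.Sylow2

set_option autoImplicit false

namespace Cfsg.Agent.Lib.Helper22.TiHallA

open Subgroup

universe u
variable {G : Type u} [Group G] [Finite G]

/-- basic properties of the largest normal subgroup of order coprime to `|H|` -/
theorem core_props (H : Subgroup G) (O : Subgroup G)
    (hO : O = sSup {K : Subgroup G | K.Normal ∧ (Nat.card K).Coprime (Nat.card H)}) :
    O.Normal ∧ (Nat.card O).Coprime (Nat.card H) ∧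
      ∀ K : Subgroup G, K.Normal → (Nat.card K).Coprime (Nat.card H) → K ≤ O := by
  have h := Cfsg.Agent.Lib.Helper1.sSup_normal_coprime (Nat.card H)
    {K : Subgroup G | K.Normal ∧ (Nat.card K).Coprime (Nat.card H)} (fun N hN => hN)
  rw [← hO] at h
  refine ⟨h.1, h.2, fun K hK hc => ?_⟩
  rw [hO]
  exact le_sSup ⟨hK, hc⟩

omit [Finite G] in
/-- the first step of the series above `O` is a `π`-step -/
theorem exists_step (H O : Subgroup G) (hOn : O.Normal)
    (hOc : (Nat.card O).Coprime (Nat.card H))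
    (hOmax : ∀ K : Subgroup G, K.Normal → (Nat.card K).Coprime (Nat.card H) → K ≤ O)
    (hH : H ≠ ⊥)
    (n : ℕ) (M : Fin (n + 1) → Subgroup G) (hlast : M (Fin.last n) = ⊤)
    (h0 : M 0 = ⊥)
    (hmono : Monotone M) (hMn : ∀ i, (M i).Normal)
    (hfac : ∀ i : Fin n, (∀ q : ℕ, q.Prime → q ∣ (M i.castSucc).relIndex (M i.succ) →
        q ∣ Nat.card H) ∨ ((M i.castSucc).relIndex (M i.succ)).Coprime (Nat.card H)) :
    ∃ L : Subgroup G, L.Normal ∧ O ≤ L ∧ O.relIndex L ≠ 1 ∧
      ∀ q : ℕ, q.Prime → q ∣ O.relIndex L → q ∣ Nat.card H := by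
  have hex : ∃ i : Fin n, M i.castSucc ≤ O ∧ ¬ M i.succ ≤ O := by
    by_contra hcon
    push Not at hcon
    have hall : ∀ i : Fin (n + 1), M i ≤ O := by
      intro i
      induction i using Fin.induction with
      | zero => rw [h0]; exact bot_le
      | succ i ih => exact hcon i ih
    have htop : O = ⊤ := by
      rw [eq_top_iff, ← hlast]
      exact hall _
    rw [htop, Subgroup.card_top] at hOc
    have h1 : Nat.card H = 1 :=
      Nat.Coprime.eq_one_of_dvd hOc.symm (Subgroup.card_subgroup_dvd_card H)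
    exact hH (Subgroup.card_eq_one.mp h1)
  obtain ⟨i, hi1, hi2⟩ := hex
  have hle : M i.castSucc ≤ M i.succ := hmono (Fin.castSucc_lt_succ).le
  rcases hfac i with hπ | hπ'
  · have := hMn i.succ
    refine ⟨M i.succ ⊔ O, Subgroup.sup_normal _ _, le_sup_right, ?_, ?_⟩
    · rw [Subgroup.relIndex_sup_right, Ne, Subgroup.relIndex_eq_one]
      exact hi2
    · intro q hq hqd
      rw [Subgroup.relIndex_sup_right, ← Subgroup.inf_relIndex_right] at hqd
      apply hπ q hq
      exact dvd_trans hqd (Subgroup.relIndex_dvd_of_le_left (M i.succ) (le_inf hi1 hle))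
  · exfalso
    apply hi2
    apply hOmax _ (hMn _)
    rw [← Cfsg.Agent.Lib.Helper1.card_mul_relIndex_of_le hle]
    apply Nat.Coprime.mul_left _ hπ'
    exact Nat.Coprime.coprime_dvd_left (Subgroup.card_dvd_of_le hi1) hOc

/-- a normal subgroup `L ≥ O` with `L/O` a `π`-group lies in `O H` when `H` is a Hall
`π`-subgroup -/
theorem le_sup_of_pi (H O L : Subgroup G) [O.Normal] [hLn : L.Normal] (hOL : O ≤ L)
    (hHallG : (Nat.card H).Coprime H.index)
    (hπ : ∀ q : ℕ, q.Prime → q ∣ O.relIndex L → q ∣ Nat.card H) : L ≤ O ⊔ H := by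
  set Y : Subgroup G := O ⊔ H with hY
  have hr1 : (Y.relIndex (Y ⊔ L)).Coprime (Nat.card H) := by
    have h1 : Y.relIndex (Y ⊔ L) ∣ H.relIndex (Y ⊔ L) :=
      Subgroup.relIndex_dvd_of_le_left _ le_sup_right
    have h2 : H.relIndex (Y ⊔ L) ∣ H.index :=
      Subgroup.relIndex_dvd_index_of_le (le_trans le_sup_right le_sup_left)
    exact (Nat.Coprime.coprime_dvd_right (dvd_trans h1 h2) hHallG).symm
  have hr2 : Y.relIndex (Y ⊔ L) = (Y ⊓ L).relIndex L := by
    have e1 := Cfsg.Agent.Lib.Helper1.card_mul_relIndex_of_le (le_sup_left : Y ≤ Y ⊔ L)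
    have e2 := card_sup_normal Y L
    have e3 := Cfsg.Agent.Lib.Helper1.card_mul_relIndex_of_le (inf_le_left : Y ⊓ L ≤ Y)
    have e4 := Cfsg.Agent.Lib.Helper1.card_mul_relIndex_of_le (inf_le_right : Y ⊓ L ≤ L)
    rw [Subgroup.inf_relIndex_left] at e3
    have hpos1 : 0 < Nat.card (Y ⊓ L : Subgroup G) := Nat.card_pos
    have hpos2 : 0 < L.relIndex Y := by
      rcases Nat.eq_zero_or_pos (L.relIndex Y) with h | h
      · rw [h, mul_zero] at e3
        exact absurd e3.symm (Nat.card_pos (α := Y)).ne'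
      · exact h
    have : Nat.card (Y ⊓ L : Subgroup G) * L.relIndex Y * Y.relIndex (Y ⊔ L) =
        Nat.card (Y ⊓ L : Subgroup G) * L.relIndex Y * (Y ⊓ L).relIndex L := by
      calc Nat.card (Y ⊓ L : Subgroup G) * L.relIndex Y * Y.relIndex (Y ⊔ L)
          = Nat.card Y * Y.relIndex (Y ⊔ L) := by rw [e3]
        _ = Nat.card L * L.relIndex Y := by rw [e1, e2]
        _ = Nat.card (Y ⊓ L : Subgroup G) * (Y ⊓ L).relIndex L * L.relIndex Y := by rw [e4]
        _ = Nat.card (Y ⊓ L : Subgroup G) * L.relIndex Y * (Y ⊓ L).relIndex L := by ring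
    exact Nat.eq_of_mul_eq_mul_left (Nat.mul_pos hpos1 hpos2) this
  have hr3 : Y.relIndex (Y ⊔ L) ∣ O.relIndex L := by
    rw [hr2]
    exact Subgroup.relIndex_dvd_of_le_left L (le_inf le_sup_left hOL)
  have hr : Y.relIndex (Y ⊔ L) = 1 := by
    by_contra hne
    obtain ⟨q, hq, hqd⟩ := Nat.exists_prime_and_dvd hne
    have h1 := hπ q hq (dvd_trans hqd hr3)
    have := Nat.eq_one_of_dvd_coprimes hr1 hqd h1
    exact hq.one_lt.ne' this
  rw [Subgroup.relIndex_eq_one] at hr
  exact le_trans le_sup_right hr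

/-- `G = O N_G(H)` -/
theorem sup_normalizer_eq_top (H : Subgroup G) (hTI : Cfsg.IsTISubset (H : Set G))
    (hHall : (Nat.card H).Coprime (H.subgroupOf (Subgroup.normalizer (H : Set G))).index)
    (O L : Subgroup G) [hOn : O.Normal] [hLn : L.Normal] (hOL : O ≤ L)
    (hne : O.relIndex L ≠ 1)
    (hπ : ∀ q : ℕ, q.Prime → q ∣ O.relIndex L → q ∣ Nat.card H) :
    O ⊔ normalizer (H : Set G) = ⊤ := by
  have hHallG := Cfsg.Agent.S4115.hall_in_G H hTI hHall
  have hLY : L ≤ O ⊔ H := le_sup_of_pi H O L hOL hHallG hπ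
  obtain ⟨p, hp, hpd⟩ := Nat.exists_prime_and_dvd hne
  have hpf : Fact p.Prime := ⟨hp⟩
  have hpH : p ∣ Nat.card H := hπ p hp hpd
  have hpL : p ∣ Nat.card L := dvd_trans hpd (Subgroup.relIndex_dvd_card O L)
  let P : Sylow p L := default
  set S₀ : Subgroup G := (P : Subgroup L).map L.subtype with hS₀
  have hS₀card : Nat.card S₀ = p ^ (Nat.card L).factorization p := by
    rw [hS₀, Subgroup.card_map_of_injective L.subtype_injective]
    exact P.card_eq_multiplicity
  have hpS : p ∣ Nat.card S₀ := by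
    rw [hS₀card]
    apply dvd_pow_self
    have := (hp.dvd_iff_one_le_factorization (Nat.card_pos (α := L)).ne').mp hpL
    omega
  have hcardH : Nat.card S₀ ∣ Nat.card H := by
    have h1 : Nat.card S₀ ∣ Nat.card H * H.index := by
      rw [Subgroup.card_mul_index]
      exact Subgroup.card_subgroup_dvd_card S₀
    apply Nat.Coprime.dvd_of_dvd_mul_right _ h1
    rw [hS₀card]
    apply Nat.Coprime.pow_left
    rw [Nat.Prime.coprime_iff_not_dvd hp]
    intro hd
    have := Nat.eq_one_of_dvd_coprimes hHallG hpH hd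
    exact hp.one_lt.ne' this
  obtain ⟨g, hg⟩ := Cfsg.Agent.S4115.conj_into H hTI hHall S₀
    (fun y hy => dvd_trans (Subgroup.orderOf_dvd_natCard S₀ hy) hcardH)
  have hfr : normalizer (S₀ : Set G) ⊔ L = ⊤ := Sylow.normalizer_sup_eq_top P
  -- a nontrivial element of `S₀`
  have hS₀ne : S₀ ≠ ⊥ := by
    intro e
    rw [e, Subgroup.card_bot] at hpS
    exact hp.one_lt.ne' (Nat.dvd_one.mp hpS)
  obtain ⟨x, hxS, hx1⟩ := (Subgroup.ne_bot_iff_exists_ne_one.mp hS₀ne |>
    fun ⟨x, hx⟩ => ⟨(x : G), x.2, fun h => hx (Subtype.ext h)⟩ : ∃ x : G, x ∈ S₀ ∧ x ≠ 1)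
  have hx'1 : g⁻¹ * x * g ≠ 1 := by
    intro e
    apply hx1
    have : x = g * (g⁻¹ * x * g) * g⁻¹ := by group
    rw [this, e]
    group
  have hnorm : ∀ n' ∈ normalizer (S₀ : Set G), g⁻¹ * n' * g ∈ normalizer (H : Set G) := by
    intro n' hn'
    apply Cfsg.Agent.S4115.ti_mem_normalizer H hTI _ _ (hg x hxS) hx'1
    have h1 : n' * x * n'⁻¹ ∈ S₀ := (Subgroup.mem_normalizer_iff.mp hn' x).mp hxS
    have e : g⁻¹ * n' * g * (g⁻¹ * x * g) * (g⁻¹ * n' * g)⁻¹ = g⁻¹ * (n' * x * n'⁻¹) * g := by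
      group
    rw [e]
    exact hg _ h1
  rw [eq_top_iff]
  intro y _
  have hy : g * y * g⁻¹ ∈ ((normalizer (S₀ : Set G) ⊔ L : Subgroup G) : Set G) := by
    rw [hfr]; trivial
  rw [Subgroup.mul_normal] at hy
  obtain ⟨n', hn', l, hl, hnl⟩ := Set.mem_mul.mp hy
  have e : y = (g⁻¹ * n' * g) * (g⁻¹ * l * g) := by
    have : y = g⁻¹ * (g * y * g⁻¹) * g := by group
    rw [this, ← hnl]
    group
  rw [e]
  apply Subgroup.mul_mem
  · exact Subgroup.mem_sup_right (hnorm n' hn')
  · have h1 : g⁻¹ * l * g ∈ L := by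
      have := hLn.conj_mem l hl g⁻¹
      rwa [inv_inv] at this
    exact (sup_le le_sup_left (le_trans Subgroup.le_normalizer le_sup_right) :
      O ⊔ H ≤ O ⊔ normalizer (H : Set G)) (hLY h1)

/-- `O H` is normal in `G = O N_G(H)` -/
theorem sup_normal (H O : Subgroup G) [hOn : O.Normal]
    (htop : O ⊔ normalizer (H : Set G) = ⊤) : (O ⊔ H).Normal := by
  rw [← Subgroup.normalizer_eq_top_iff, eq_top_iff, ← htop]
  apply sup_le
  · exact le_trans le_sup_left Subgroup.le_normalizer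
  · intro n hn
    apply Subgroup.mem_normalizer_fintype
    intro x hx
    have hx' : x ∈ ((O ⊔ H : Subgroup G) : Set G) := hx
    rw [Subgroup.normal_mul] at hx'
    obtain ⟨o, ho, h, hh, rfl⟩ := Set.mem_mul.mp hx'
    have e : n * (o * h) * n⁻¹ = (n * o * n⁻¹) * (n * h * n⁻¹) := by group
    rw [e]
    apply Subgroup.mul_mem
    · exact Subgroup.mem_sup_left (hOn.conj_mem o ho n)
    · exact Subgroup.mem_sup_right ((Subgroup.mem_normalizer_iff.mp hn h).mp hh)

end Cfsg.Agent.Lib.Helper22.TiHallA
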