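import Mathlib
import Cfsg.Agent.S3359
import Cfsg.Agent.S0040
import Cfsg.Agent.Lib.Helper22.FrobKernel
import Cfsg.Agent.Lib.helper23.FrobSemi
import Cfsg.Agent.Lib.Helper22.SotFrobC

set_option autoImplicit false

namespace Cfsg.Agent.Lib.Helper22.TiHallB

universe u

/-- `SL(2,5)` is not solvable -/
theorem sl25_not_solvable :
    ¬ Group.IsSolvable (Matrix.SpecialLinearGroup (Fin 2) (ZMod 5)) :=
  Cfsg.Agent.Lib.Helper22.SotFrobC.not_solvable_of_card_order5 24
    Cfsg.Agent.Lib.Helper22.SotFrobC.sl25_card (by norm_num)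
    Cfsg.Agent.Lib.Helper22.SotFrobC.sl25_card_order5

/-- the structural data of an abstract Frobenius complement used below -/
theorem frob_data {X : Type u} [Group X] [Finite X]
    (hFC : ∃ (F : Type u) (_ : Group F) (_ : Finite F) (C : Subgroup F),
      Cfsg.IsFrobeniusComplement C ∧ Nonempty (X ≃* C)) :
    (∀ p : ℕ, p.Prime → p ≠ 2 → ∀ P : Subgroup X, IsPGroup p P → IsCyclic P) ∧
    (∀ x y : X, orderOf x = 2 → orderOf y = 2 → x = y) ∧
    (¬ Group.IsSolvable X → ∃ S : Subgroup X,
      Nonempty (S ≃* Matrix.SpecialLinearGroup (Fin 2) (ZMod 5))) := by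
  obtain ⟨F, _, _, C, hC, ⟨e⟩⟩ := hFC
  obtain ⟨N, hN, hNn, hc⟩ := Cfsg.Agent.Lib.Helper1.frobenius_theorem C hC
  have hK : N ≠ ⊥ := FrobKernel.kernel_ne_bot N C hC hN.symm
  have hfpf := FrobKernel.fpf N C hC hN.symm
  refine ⟨?_, ?_, ?_⟩
  · intro p hp hp2 P hP
    have hpf : Fact p.Prime := ⟨hp⟩
    have hP' : IsPGroup p (P.map e.toMonoidHom) := hP.map _
    obtain ⟨S, hS⟩ := hP'.exists_le_sylow
    rcases Cfsg.Agent.S0040.result N C hc hK hfpf p S with hcyc | ⟨n, ⟨f⟩⟩
    · let φ : P →* S :=
        { toFun := fun x => ⟨e x, hS (Subgroup.mem_map_of_mem _ x.2)⟩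
          map_one' := by
            apply Subtype.ext
            simp
          map_mul' := by
            intro x y
            apply Subtype.ext
            simp }
      apply isCyclic_of_injective φ
      intro x y hxy
      have h1 : e x = e y := congrArg Subtype.val hxy
      exact Subtype.ext (e.injective h1)
    · exfalso
      have h1 : Nat.card S = 4 * 2 ^ n := by
        rw [Nat.card_congr f.toEquiv, Nat.card_eq_fintype_card, QuaternionGroup.card]
      obtain ⟨k, hk⟩ := IsPGroup.iff_card.mp S.2
      have h2 : 2 ∣ p ^ k := by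
        rw [← hk, h1]
        exact Dvd.intro _ (by ring : 2 * (2 * 2 ^ n) = 4 * 2 ^ n)
      have h3 := (Nat.prime_dvd_prime_iff_eq Nat.prime_two hp).mp (Nat.prime_two.dvd_of_dvd_pow h2)
      exact hp2 h3.symm
  · intro x y hx hy
    have hx1 : x ≠ 1 := by
      intro h
      rw [h, orderOf_one] at hx
      omega
    have hy1 : y ≠ 1 := by
      intro h
      rw [h, orderOf_one] at hy
      omega
    have hx2 : x * x = 1 := by
      rw [← pow_two, ← hx, pow_orderOf_eq_one]
    have hy2 : y * y = 1 := by
      rw [← pow_two, ← hy, pow_orderOf_eq_one]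
    have key := FrobKernel.involution_unique N C hC hN.symm (t := ((e x : C) : F))
      (t' := ((e y : C) : F)) (e x).2
      (by
        intro h
        apply hx1
        have : e x = 1 := Subtype.ext h
        exact e.injective (this.trans (map_one e).symm))
      (by
        have : ((e x * e x : C) : F) = 1 := by rw [← map_mul, hx2, map_one]; rfl
        exact this)
      (e y).2
      (by
        intro h
        apply hy1
        have : e y = 1 := Subtype.ext h
        exact e.injective (this.trans (map_one e).symm))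
      (by
        have : ((e y * e y : C) : F) = 1 := by rw [← map_mul, hy2, map_one]; rfl
        exact this)
    exact e.injective (Subtype.ext key)
  · intro hns
    obtain ⟨L', hg, hf, C', hC', ⟨e'⟩⟩ :=
      Cfsg.Agent.Lib.helper23.exists_frobenius_type_zero C hC
    obtain ⟨G₀, -, -, S, M, -, -, -, hS, -, -⟩ :=
      Cfsg.Agent.S3359.result hns ⟨L', hg, hf, C', hC', ⟨e.trans e'⟩⟩
    exact ⟨S, hS⟩

end Cfsg.Agent.Lib.Helper22.TiHallB
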