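import Mathlib
import Cfsg.Agent.Lib.Helper1.CFitting
import Cfsg.Agent.Lib.Helper1.Fitting
import Cfsg.Agent.Lib.helper6.QAut
import Cfsg.Agent.Lib.Helper22.SolvRad

set_option autoImplicit false

namespace Cfsg.Agent.Lib.Helper22.TiHallC

open Subgroup
open scoped commutatorElement

universe u
variable {G : Type u} [Group G]

/-- an element normalizing the solvable subgroup `H`, of order coprime to `|H|`, centralizing
every `O_p(H)`, centralizes `H` -/
theorem centralizes_of_pCores [Finite G] (H : Subgroup G) [Group.IsSolvable H]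
    (g : G) (hg : g ∈ Subgroup.normalizer (H : Set G))
    (hcop : (orderOf g).Coprime (Nat.card H))
    (hF : ∀ p : ℕ, p.Prime → ∀ x : H, x ∈ Cfsg.pCore p H → g * (x : G) * g⁻¹ = x) :
    ∀ h ∈ H, g * h * g⁻¹ = h := by
  let Z : Subgroup H :=
    { carrier := {x : H | g * (x : G) * g⁻¹ = x}
      one_mem' := by simp
      mul_mem' := by
        intro a b ha hb
        have ha' : g * (a : G) * g⁻¹ = a := ha
        have hb' : g * (b : G) * g⁻¹ = b := hb
        show g * ((a * b : H) : G) * g⁻¹ = ((a * b : H) : G)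
        have e : g * ((a * b : H) : G) * g⁻¹ = (g * a * g⁻¹) * (g * b * g⁻¹) := by
          push_cast; group
        rw [e, ha', hb']; rfl
      inv_mem' := by
        intro a ha
        have ha' : g * (a : G) * g⁻¹ = a := ha
        show g * ((a⁻¹ : H) : G) * g⁻¹ = ((a⁻¹ : H) : G)
        have e : g * ((a⁻¹ : H) : G) * g⁻¹ = (g * a * g⁻¹)⁻¹ := by push_cast; group
        rw [e, ha']; rfl }
  have hZmem : ∀ x : H, x ∈ Z → g * (x : G) * g⁻¹ = x := fun x hx => hx
  have hFZ : Cfsg.fittingSubgroup H ≤ Z := by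
    rw [Cfsg.Agent.Lib.Helper1.fittingSubgroup_eq_iSup_pCore]
    apply iSup_le
    intro p x hx
    exact hF p p.2 x hx
  have hnF := Cfsg.Agent.Lib.Helper1.fittingSubgroup_normal (G := H)
  intro r hr
  have hr' : g * r * g⁻¹ ∈ H := (Subgroup.mem_normalizer_iff.mp hg r).mp hr
  set c : H := (⟨r, hr⟩ : H)⁻¹ * ⟨g * r * g⁻¹, hr'⟩ with hc
  have hcG : (c : G) = r⁻¹ * (g * r * g⁻¹) := rfl
  have hcc : c ∈ Subgroup.centralizer (Cfsg.fittingSubgroup H : Set H) := by
    rw [Subgroup.mem_centralizer_iff]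
    intro f hf
    have h1 : g * (f : G) * g⁻¹ = f := hZmem f (hFZ hf)
    have hconj : (⟨r, hr⟩ : H) * f * (⟨r, hr⟩ : H)⁻¹ ∈ Cfsg.fittingSubgroup H :=
      hnF.conj_mem f hf _
    have h2 : g * (r * (f : G) * r⁻¹) * g⁻¹ = r * (f : G) * r⁻¹ := hZmem _ (hFZ hconj)
    have e1 : g⁻¹ * (f : G) = f * g⁻¹ := by
      have : (f : G) = g⁻¹ * (g * (f : G) * g⁻¹) * g := by group
      rw [h1] at this
      calc g⁻¹ * (f : G) = (g⁻¹ * f * g) * g⁻¹ := by group
        _ = f * g⁻¹ := by rw [← this]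
    have e2 : g * r * (f : G) = r * f * r⁻¹ * g * r := by
      calc g * r * (f : G) = (g * (r * (f : G) * r⁻¹) * g⁻¹) * g * r := by group
        _ = r * f * r⁻¹ * g * r := by rw [h2]
    apply Subtype.ext
    show (f : G) * (c : G) = (c : G) * (f : G)
    rw [hcG]
    calc (f : G) * (r⁻¹ * (g * r * g⁻¹)) = r⁻¹ * (r * f * r⁻¹ * g * r) * g⁻¹ := by group
      _ = r⁻¹ * (g * r * f) * g⁻¹ := by rw [e2]
      _ = r⁻¹ * (g * r) * (f * g⁻¹) := by group
      _ = r⁻¹ * (g * r) * (g⁻¹ * f) := by rw [e1]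
      _ = r⁻¹ * (g * r * g⁻¹) * f := by group
  have hcF : c ∈ Cfsg.fittingSubgroup H :=
    Cfsg.Agent.Lib.Helper1.centralizer_fittingSubgroup_le hcc
  have hcZ : g * (c : G) * g⁻¹ = c := hZmem c (hFZ hcF)
  have hrc : g * r * g⁻¹ = r * (c : G) := by rw [hcG]; group
  have hpow : ∀ k : ℕ, g ^ k * r * (g ^ k)⁻¹ = r * (c : G) ^ k := by
    intro k
    induction k with
    | zero => simp
    | succ k ih =>
      have e : g ^ (k + 1) * r * (g ^ (k + 1))⁻¹ = g * (g ^ k * r * (g ^ k)⁻¹) * g⁻¹ := by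
        rw [pow_succ']; group
      rw [e, ih]
      have e2 : g * (r * (c : G) ^ k) * g⁻¹ = (g * r * g⁻¹) * (g * (c : G) * g⁻¹) ^ k := by
        rw [conj_pow]; group
      rw [e2, hrc, hcZ, pow_succ', mul_assoc]
  have h3 := hpow (orderOf g)
  rw [pow_orderOf_eq_one, one_mul, inv_one, mul_one] at h3
  have h4 : (c : G) ^ orderOf g = 1 := left_eq_mul.mp h3
  have h5 : orderOf (c : G) ∣ orderOf g := orderOf_dvd_of_pow_eq_one h4
  have h6 : orderOf (c : G) ∣ Nat.card H := by
    rw [Subgroup.orderOf_coe]; exact orderOf_dvd_natCard c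
  have h7 : orderOf (c : G) = 1 := Nat.eq_one_of_dvd_coprimes hcop h5 h6
  rw [hrc, orderOf_eq_one_iff.mp h7, mul_one]

/-- conjugation by an element of `N_G(H)` preserves `O_p(H)` -/
theorem pCore_conj_mem (H : Subgroup G) (p : ℕ) [Fact p.Prime] (g : G)
    (hg : g ∈ Subgroup.normalizer (H : Set G)) (x : G)
    (hx : x ∈ (Cfsg.pCore p H).map H.subtype) :
    g * x * g⁻¹ ∈ (Cfsg.pCore p H).map H.subtype := by
  obtain ⟨x', hx', rfl⟩ := hx
  set α : MulAut H := H.normalizerMonoidHom ⟨g, hg⟩ with hα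
  have hn : (Cfsg.pCore p H).Normal := Cfsg.Agent.Lib.Helper1.pCore_normal p
  have hn' : ((Cfsg.pCore p H).map α.toMonoidHom).Normal :=
    hn.map α.toMonoidHom α.surjective
  have hp' : IsPGroup p ((Cfsg.pCore p H).map α.toMonoidHom) :=
    (Cfsg.Agent.Lib.Helper1.pCore_isPGroup p).map _
  have hle := Cfsg.Agent.Lib.Helper1.le_pCore hn' hp'
  have h1 : α x' ∈ Cfsg.pCore p H := hle (Subgroup.mem_map_of_mem _ hx')
  exact ⟨α x', h1, rfl⟩

/-- commutators of elements normalizing a cyclic subgroup centralize it -/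
theorem commutator_le_centralizer_of_cyclic (R Q : Subgroup G) [IsCyclic R]
    (hQ : Q ≤ normalizer (R : Set G)) : ⁅Q, Q⁆ ≤ centralizer (R : Set G) := by
  rw [Subgroup.commutator_le]
  intro a ha b hb
  have hcomm : ∀ α β : MulAut R, α * β = β * α := by
    intro α β
    apply (IsCyclic.mulAutMulEquiv R).injective
    rw [map_mul, map_mul, mul_comm]
  have h1 : R.normalizerMonoidHom ⁅(⟨a, hQ ha⟩ : normalizer (R : Set G)), ⟨b, hQ hb⟩⁆ = 1 := by
    rw [map_commutatorElement, commutatorElement_eq_one_iff_commute]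
    exact hcomm _ _
  have hker : ⁅(⟨a, hQ ha⟩ : normalizer (R : Set G)), ⟨b, hQ hb⟩⁆ ∈
      R.normalizerMonoidHom.ker := h1
  rw [Subgroup.normalizerMonoidHom_ker, Subgroup.mem_subgroupOf] at hker
  exact hker

/-- commutators of `Q` act on `H` with cube one -/
theorem commutator_cube_centralizes [Finite G] (H Q : Subgroup G)
    (hQN : Q ≤ normalizer (H : Set G))
    (hcop : (Nat.card Q).Coprime (Nat.card H)) [Group.IsSolvable H]
    (hcyc : ∀ p : ℕ, p.Prime → p ≠ 2 → ∀ P : Subgroup H, IsPGroup p P → IsCyclic P)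
    (h2 : ∀ x y : H, orderOf x = 2 → orderOf y = 2 → x = y)
    (γ : G) (hγ : γ ∈ ⁅Q, Q⁆) : ∀ h ∈ H, γ ^ 3 * h * (γ ^ 3)⁻¹ = h := by
  have hγQ : γ ∈ Q := Subgroup.commutator_le_self Q hγ
  have hgQ : γ ^ 3 ∈ Q := Q.pow_mem hγQ 3
  have hcop' : (orderOf (γ ^ 3)).Coprime (Nat.card H) :=
    Nat.Coprime.coprime_dvd_left (Subgroup.orderOf_dvd_natCard Q hgQ) hcop
  apply centralizes_of_pCores H (γ ^ 3) (hQN hgQ) hcop'
  intro p hp x hx
  have hpf : Fact p.Prime := ⟨hp⟩
  set Fp : Subgroup G := (Cfsg.pCore p H).map H.subtype with hFp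
  have hxFp : (x : G) ∈ Fp := ⟨x, hx, rfl⟩
  have hQFp : Q ≤ normalizer (Fp : Set G) := by
    intro q hq
    apply Subgroup.mem_normalizer_fintype
    intro y hy
    exact pCore_conj_mem H p q (hQN hq) y hy
  by_cases hp2 : p = 2
  · subst hp2
    by_cases h2H : 2 ∣ Nat.card H
    · have hodd : Odd (Nat.card Q) := by
        rw [← Nat.not_even_iff_odd, even_iff_two_dvd]
        intro hd
        have := Nat.eq_one_of_dvd_coprimes hcop hd h2H
        omega
      have hR : IsPGroup 2 Fp := (Cfsg.Agent.Lib.Helper1.pCore_isPGroup 2).map _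
      have huniq : ∀ a ∈ Fp, ∀ b ∈ Fp, orderOf a = 2 → orderOf b = 2 → a = b := by
        rintro _ ⟨a, -, rfl⟩ _ ⟨b, -, rfl⟩ ha hb
        have ha' : orderOf a = 2 := by rw [← ha]; exact (Subgroup.orderOf_coe a).symm
        have hb' : orderOf b = 2 := by rw [← hb]; exact (Subgroup.orderOf_coe b).symm
        rw [h2 a b ha' hb']
      have hpow : γ ^ Nat.card Q = 1 := by
        have := pow_card_eq_one' (G := Q) (x := ⟨γ, hγQ⟩)
        exact congrArg Subtype.val this
      exact (Cfsg.Agent.Lib.helper6.QAut.conj_lemma Fp hR huniq γ (hQFp hγQ) hodd hpow).2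
        x hxFp
    · have hbot : Cfsg.pCore 2 H = ⊥ := by
        obtain ⟨k, hk⟩ := IsPGroup.iff_card.mp (Cfsg.Agent.Lib.Helper1.pCore_isPGroup (G := H) 2)
        rw [← Subgroup.card_eq_one, hk]
        rcases Nat.eq_zero_or_pos k with rfl | hkpos
        · rfl
        · exfalso
          apply h2H
          have h1 : 2 ∣ Nat.card (Cfsg.pCore 2 H) := by
            rw [hk]; exact dvd_pow_self 2 hkpos.ne'
          exact dvd_trans h1 (Subgroup.card_subgroup_dvd_card _)
      rw [hbot, Subgroup.mem_bot] at hx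
      rw [hx]
      simp
  · have hc1 : IsCyclic (Cfsg.pCore p H) :=
      hcyc p hp hp2 _ (Cfsg.Agent.Lib.Helper1.pCore_isPGroup p)
    have hc2 : IsCyclic Fp := by
      let ψ : Cfsg.pCore p H →* Fp :=
        (H.subtype.comp (Cfsg.pCore p H).subtype).codRestrict Fp
          (fun y => ⟨y, y.2, rfl⟩)
      apply isCyclic_of_surjective ψ
      rintro ⟨_, y, hy, rfl⟩
      exact ⟨⟨y, hy⟩, rfl⟩
    have hle := commutator_le_centralizer_of_cyclic Fp Q hQFp
    have h1 : γ ^ 3 ∈ centralizer (Fp : Set G) := Subgroup.pow_mem _ (hle hγ) 3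
    rw [Subgroup.mem_centralizer_iff] at h1
    have h3 := h1 x hxFp
    rw [← h3, mul_inv_cancel_right]

/-- a group `Q` acting coprimely on a solvable group `H` with cyclic odd Sylow subgroups and a
unique involution is solvable as soon as `C_Q(H)` is -/
theorem solvable_of_coprime_action [Finite G] (H Q : Subgroup G)
    (hQN : Q ≤ normalizer (H : Set G))
    (hcop : (Nat.card Q).Coprime (Nat.card H)) [Group.IsSolvable H]
    (hcyc : ∀ p : ℕ, p.Prime → p ≠ 2 → ∀ P : Subgroup H, IsPGroup p P → IsCyclic P)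
    (h2 : ∀ x y : H, orderOf x = 2 → orderOf y = 2 → x = y)
    (hD : Group.IsSolvable (Q ⊓ centralizer (H : Set G) : Subgroup G)) :
    Group.IsSolvable Q := by
  have h3f : Fact (Nat.Prime 3) := ⟨Nat.prime_three⟩
  let φ : Q →* MulAut H := H.normalizerMonoidHom.comp (Subgroup.inclusion hQN)
  have hφ : ∀ (q : Q) (h : H), ((φ q h : H) : G) = (q : G) * h * (q : G)⁻¹ := by
    intro q h
    rfl
  -- the kernel
  have hker : Group.IsSolvable φ.ker := by
    let ι : φ.ker →* (Q ⊓ centralizer (H : Set G) : Subgroup G) :=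
      (Q.subtype.comp φ.ker.subtype).codRestrict _ (by
        intro x
        refine ⟨x.1.2, ?_⟩
        show ((x.1 : Q) : G) ∈ centralizer (H : Set G)
        rw [Subgroup.mem_centralizer_iff]
        intro h hh
        have h1 : φ x.1 = 1 := x.2
        have h2' : ((φ x.1 ⟨h, hh⟩ : H) : G) = h := by rw [h1]; rfl
        rw [hφ] at h2'
        have : ((x.1 : Q) : G) * h = h * ((x.1 : Q) : G) := by
          calc ((x.1 : Q) : G) * h = ((x.1 : Q) : G) * h * ((x.1 : Q) : G)⁻¹ * ((x.1 : Q) : G) := by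
                group
            _ = h * ((x.1 : Q) : G) := by
                have h3 : ((x.1 : Q) : G) * (⟨h, hh⟩ : H) * ((x.1 : Q) : G)⁻¹ = h := h2'
                rw [h3]
        exact this.symm)
    apply Group.isSolvable_of_isSolvable_injective (f := ι)
    intro x y hxy
    have h1 : ((x.1 : Q) : G) = ((y.1 : Q) : G) :=
      congrArg (fun z : (Q ⊓ centralizer (H : Set G) : Subgroup G) => (z : G)) hxy
    exact Subtype.ext (Subtype.ext h1)
  -- the range
  have hrange : Group.IsSolvable φ.range := by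
    apply SolvRad.solvable_of_commutator_pgroup 3
    intro γ'
    refine ⟨1, ?_⟩
    have hmap : commutator φ.range = (commutator Q).map φ.rangeRestrict := by
      rw [_root_.commutator_def, _root_.commutator_def, Subgroup.map_commutator,
        Subgroup.map_top_of_surjective _ φ.rangeRestrict_surjective]
    have hγ' : (γ' : φ.range) ∈ (commutator Q).map φ.rangeRestrict := hmap ▸ γ'.2
    obtain ⟨γ, hγ, hγe⟩ := hγ'
    have hγG : (γ : G) ∈ ⁅Q, Q⁆ := by
      rw [← Subgroup.map_subtype_commutator]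
      exact ⟨γ, hγ, rfl⟩
    have hcent := commutator_cube_centralizes H Q hQN hcop hcyc h2 (γ : G) hγG
    have h1 : φ (γ ^ 3) = 1 := by
      apply MulEquiv.ext
      intro h
      apply Subtype.ext
      rw [hφ]
      exact hcent h h.2
    apply Subtype.ext
    apply Subtype.ext
    show (((γ' : φ.range) ^ 3 ^ 1 : φ.range) : MulAut H) = 1
    rw [← hγe, pow_one, ← map_pow]
    exact h1
  exact Group.isSolvable_of_ker_le_range φ.ker.subtype φ.rangeRestrict
    (by rw [MonoidHom.ker_rangeRestrict, Subgroup.range_subtype])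

end Cfsg.Agent.Lib.Helper22.TiHallC
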