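import Mathlib
import Cfsg.Agent.S4115
import Cfsg.Agent.Lib.Helper22.TiHallA
import Cfsg.Agent.Lib.Helper22.TiHallB
import Cfsg.Agent.Lib.Helper22.TiHallC
import Cfsg.Agent.Lib.Helper22.SchurZassenhaus

set_option autoImplicit false

namespace Cfsg.Agent.Lib.Helper22.TiHallD

open Subgroup

universe u
variable {G : Type u} [Group G] [Finite G]

/-- `H` is an abstract Frobenius complement (it acts as one on `O`) -/
theorem frob_complement (H : Subgroup G)
    (hTI : Cfsg.IsTISubset (H : Set G)) (hnn : ¬ H.Normal)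
    (O : Subgroup G) (hOn : O.Normal) (hOc : (Nat.card O).Coprime (Nat.card H))
    (htop : O ⊔ Subgroup.normalizer (H : Set G) = ⊤) :
    ∃ (F : Type u) (_ : Group F) (_ : Finite F) (C : Subgroup F),
      Cfsg.IsFrobeniusComplement C ∧ Nonempty (H ≃* C) := by
  set Y : Subgroup G := O ⊔ H with hY
  have hHY : H ≤ Y := le_sup_right
  have hOY : O ≤ Y := le_sup_left
  set H' : Subgroup Y := H.subgroupOf Y with hH'
  set M' : Subgroup Y := O.subgroupOf Y with hM'
  have hM'n : M'.Normal := Subgroup.normal_subgroupOf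
  have hcardH' : Nat.card H' = Nat.card H :=
    Nat.card_congr (Subgroup.subgroupOfEquivOfLe hHY).toEquiv
  have hcardM' : Nat.card M' = Nat.card O :=
    Nat.card_congr (Subgroup.subgroupOfEquivOfLe hOY).toEquiv
  have hcardY : Nat.card Y = Nat.card O * Nat.card H := card_sup_of_coprime O H hOc
  have hM' : M'.IsComplement' H' := by
    apply Subgroup.isComplement'_of_coprime
    · rw [hcardH', hcardM', hcardY]
    · rw [hcardH', hcardM']; exact hOc
  -- TI
  have hTI' : Cfsg.IsTISubset (H' : Set Y) := by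
    intro g hg x hx hconj
    have hgG : (g : G) ∉ normalizer (H : Set G) := by
      intro hgN
      apply hg
      rw [Subgroup.mem_normalizer_iff]
      intro y
      rw [hH', Subgroup.mem_subgroupOf, Subgroup.mem_subgroupOf]
      exact Subgroup.mem_normalizer_iff.mp hgN (y : G)
    have hx' : (x : G) ∈ H := Subgroup.mem_subgroupOf.mp hx
    have hconj' : (g : G) * (x : G) * (g : G)⁻¹ ∈ H := Subgroup.mem_subgroupOf.mp hconj
    exact Subtype.ext (hTI (g : G) hgG (x : G) hx' hconj')
  -- Hall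
  have hHall' : (Nat.card H').Coprime
      (H'.subgroupOf (Subgroup.normalizer (H' : Set Y))).index := by
    have h1 : (H'.subgroupOf (Subgroup.normalizer (H' : Set Y))).index ∣ H'.index :=
      Subgroup.relIndex_dvd_index_of_le Subgroup.le_normalizer
    rw [hM'.index_eq_card, hcardM'] at h1
    rw [hcardH']
    exact (Nat.Coprime.coprime_dvd_left h1 hOc).symm
  -- non-normal
  have hnn' : ¬ H'.Normal := by
    intro hn
    apply hnn
    have hON : O ≤ normalizer (H : Set G) := by
      intro o ho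
      apply Subgroup.mem_normalizer_fintype
      intro h hh
      have := hn.conj_mem ⟨h, hHY hh⟩ (Subgroup.mem_subgroupOf.mpr hh) ⟨o, hOY ho⟩
      exact Subgroup.mem_subgroupOf.mp this
    rw [← Subgroup.normalizer_eq_top_iff, eq_top_iff, ← htop]
    exact sup_le hON le_rfl
  obtain ⟨F, hF1, hF2, C, hC, ⟨e⟩⟩ :=
    Cfsg.Agent.S4115.part2 H' hTI' hHall' hnn' M' hM'n hM'
  exact ⟨F, hF1, hF2, C, hC, ⟨(Subgroup.subgroupOfEquivOfLe hHY).symm.trans e⟩⟩

omit [Finite G] in
/-- a complement `Q` to `H` in `N_G(H)` -/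
theorem exists_complement (H : Subgroup G)
    (hHall : (Nat.card H).Coprime (H.subgroupOf (Subgroup.normalizer (H : Set G))).index) :
    ∃ Q : Subgroup G, Q ≤ normalizer (H : Set G) ∧ (Nat.card Q).Coprime (Nat.card H) ∧
      ∀ n ∈ normalizer (H : Set G), ∃ h ∈ H, ∃ q ∈ Q, n = h * q := by
  have hHn : (H.subgroupOf (normalizer (H : Set G))).Normal := Subgroup.normal_in_normalizer
  have hcard : Nat.card (H.subgroupOf (normalizer (H : Set G))) = Nat.card H :=
    Nat.card_congr (Subgroup.subgroupOfEquivOfLe Subgroup.le_normalizer).toEquiv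
  obtain ⟨Q', hQ'⟩ := Subgroup.exists_right_complement'_of_coprime
    (N := H.subgroupOf (normalizer (H : Set G))) (by rw [hcard]; exact hHall)
  refine ⟨Q'.map (normalizer (H : Set G)).subtype, ?_, ?_, ?_⟩
  · rintro _ ⟨q, _, rfl⟩
    exact q.2
  · rw [Subgroup.card_map_of_injective (Subgroup.subtype_injective _), ← hQ'.symm.index_eq_card]
    exact hHall.symm
  · intro n hn
    obtain ⟨⟨h, q⟩, hhq, _⟩ := hQ'.existsUnique (⟨n, hn⟩ : normalizer (H : Set G))
    have hhq' : (h : normalizer (H : Set G)) * (q : normalizer (H : Set G)) = ⟨n, hn⟩ := hhq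
    refine ⟨((h : normalizer (H : Set G)) : G), Subgroup.mem_subgroupOf.mp h.2,
      ((q : normalizer (H : Set G)) : G), ⟨q, q.2, rfl⟩, ?_⟩
    have := congrArg Subtype.val hhq'
    exact this.symm

/-- `C_Q(H) ≤ O` -/
theorem centralizer_le_core (H : Subgroup G)
    (O : Subgroup G) (hOn : O.Normal) (hOc : (Nat.card O).Coprime (Nat.card H))
    (hOmax : ∀ K : Subgroup G, K.Normal → (Nat.card K).Coprime (Nat.card H) → K ≤ O)
    (htop : O ⊔ Subgroup.normalizer (H : Set G) = ⊤)
    (Q : Subgroup G) (hQN : Q ≤ normalizer (H : Set G))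
    (hQc : (Nat.card Q).Coprime (Nat.card H))
    (hdec : ∀ n ∈ normalizer (H : Set G), ∃ h ∈ H, ∃ q ∈ Q, n = h * q) :
    Q ⊓ centralizer (H : Set G) ≤ O := by
  set D : Subgroup G := Q ⊓ centralizer (H : Set G) with hD
  have hmemOD : ∀ x, x ∈ O ⊔ D → ∃ o ∈ O, ∃ d ∈ D, x = o * d := by
    intro x hx
    have hx' : x ∈ ((O ⊔ D : Subgroup G) : Set G) := hx
    rw [Subgroup.normal_mul] at hx'
    obtain ⟨o, ho, d, hd, rfl⟩ := Set.mem_mul.mp hx'
    exact ⟨o, ho, d, hd, rfl⟩
  have hHnorm : H ≤ normalizer ((O ⊔ D : Subgroup G) : Set G) := by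
    intro h hh
    apply Subgroup.mem_normalizer_fintype
    intro x hx
    obtain ⟨o, ho, d, hd, rfl⟩ := hmemOD x hx
    have hdc := Subgroup.mem_centralizer_iff.mp hd.2 h hh
    have e : h * (o * d) * h⁻¹ = (h * o * h⁻¹) * d := by
      calc h * (o * d) * h⁻¹ = h * o * (h⁻¹ * (h * d)) * h⁻¹ := by group
        _ = h * o * (h⁻¹ * (d * h)) * h⁻¹ := by rw [hdc]
        _ = (h * o * h⁻¹) * d := by group
    rw [e]
    exact Subgroup.mul_mem _ (Subgroup.mem_sup_left (hOn.conj_mem o ho h))
      (Subgroup.mem_sup_right hd)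
  have hQnorm : Q ≤ normalizer ((O ⊔ D : Subgroup G) : Set G) := by
    intro q hq
    apply Subgroup.mem_normalizer_fintype
    intro x hx
    obtain ⟨o, ho, d, hd, rfl⟩ := hmemOD x hx
    have e : q * (o * d) * q⁻¹ = (q * o * q⁻¹) * (q * d * q⁻¹) := by group
    rw [e]
    apply Subgroup.mul_mem _ (Subgroup.mem_sup_left (hOn.conj_mem o ho q))
    apply Subgroup.mem_sup_right
    refine ⟨Q.mul_mem (Q.mul_mem hq hd.1) (Q.inv_mem hq), ?_⟩
    show q * d * q⁻¹ ∈ centralizer (H : Set G)
    rw [Subgroup.mem_centralizer_iff]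
    intro h hh
    have hqN := hQN (Q.inv_mem hq)
    have h1 : q⁻¹ * h * q⁻¹⁻¹ ∈ H := (Subgroup.mem_normalizer_iff.mp hqN h).mp hh
    have hdc := Subgroup.mem_centralizer_iff.mp hd.2 _ h1
    calc h * (q * d * q⁻¹) = q * ((q⁻¹ * h * q⁻¹⁻¹) * d) * q⁻¹ := by group
      _ = q * (d * (q⁻¹ * h * q⁻¹⁻¹)) * q⁻¹ := by rw [hdc]
      _ = q * d * q⁻¹ * h := by group
  have hnorm : (O ⊔ D).Normal := by
    rw [← Subgroup.normalizer_eq_top_iff, eq_top_iff, ← htop]
    apply sup_le
    · exact le_trans le_sup_left Subgroup.le_normalizer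
    · intro n hn
      obtain ⟨h, hh, q, hq, rfl⟩ := hdec n hn
      exact Subgroup.mul_mem _ (hHnorm hh) (hQnorm hq)
  have hcop : (Nat.card (O ⊔ D : Subgroup G)).Coprime (Nat.card H) := by
    have h1 : Nat.card (O ⊔ D : Subgroup G) ∣ Nat.card D * Nat.card O := by
      rw [sup_comm]
      exact Cfsg.Agent.Lib.Helper1.card_sup_dvd_mul D O
    apply Nat.Coprime.coprime_dvd_left h1
    apply Nat.Coprime.mul_left _ hOc
    exact Nat.Coprime.coprime_dvd_left (Subgroup.card_dvd_of_le inf_le_left) hQc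
  exact le_trans le_sup_right (hOmax _ hnorm hcop)

/-- the solvability criterion -/
theorem solvable_main (H : Subgroup G)
    (hTI : Cfsg.IsTISubset (H : Set G)) (hnn : ¬ H.Normal)
    (hHall : (Nat.card H).Coprime (H.subgroupOf (Subgroup.normalizer (H : Set G))).index)
    (O : Subgroup G) (hOn : O.Normal) (hOc : (Nat.card O).Coprime (Nat.card H))
    (hOmax : ∀ K : Subgroup G, K.Normal → (Nat.card K).Coprime (Nat.card H) → K ≤ O)
    (htop : O ⊔ Subgroup.normalizer (H : Set G) = ⊤)
    (hOs : Group.IsSolvable O)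
    (hnoSL : ∀ K : Subgroup G, K ≤ H →
      ¬ Nonempty (K ≃* Matrix.SpecialLinearGroup (Fin 2) (ZMod 5))) :
    Group.IsSolvable G := by
  obtain ⟨hcyc, h2, hsl⟩ := TiHallB.frob_data (X := H) (frob_complement H hTI hnn O hOn hOc htop)
  have hHs : Group.IsSolvable H := by
    by_contra hns
    obtain ⟨S, ⟨e⟩⟩ := hsl hns
    apply hnoSL (S.map H.subtype) (Subgroup.map_subtype_le S)
    exact ⟨(S.equivMapOfInjective H.subtype H.subtype_injective).symm.trans e⟩
  have hYs : Group.IsSolvable (O ⊔ H : Subgroup G) := SolvRad.solvable_sup O H hOs hHs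
  obtain ⟨Q, hQN, hQc, hdec⟩ := exists_complement H hHall
  have hDO := centralizer_le_core H O hOn hOc hOmax htop Q hQN hQc hdec
  have hDs : Group.IsSolvable (Q ⊓ centralizer (H : Set G) : Subgroup G) :=
    Group.isSolvable_of_isSolvable_injective (f := Subgroup.inclusion hDO)
      (Subgroup.inclusion_injective hDO)
  have hQs : Group.IsSolvable Q :=
    TiHallC.solvable_of_coprime_action H Q hQN hQc hcyc h2 hDs
  have hYn : (O ⊔ H).Normal := TiHallA.sup_normal H O htop
  have hall : Group.IsSolvable ((O ⊔ H) ⊔ Q : Subgroup G) := SolvRad.solvable_sup _ Q hYs hQs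
  have htop' : (O ⊔ H) ⊔ Q = ⊤ := by
    rw [eq_top_iff, ← htop]
    apply sup_le
    · exact le_trans le_sup_left le_sup_left
    · intro n hn
      obtain ⟨h, hh, q, hq, rfl⟩ := hdec n hn
      exact Subgroup.mul_mem _ (Subgroup.mem_sup_left (Subgroup.mem_sup_right hh))
        (Subgroup.mem_sup_right hq)
  rw [htop'] at hall
  exact Group.isSolvable_of_surjective (f := (Subgroup.topEquiv (G := G)).toMonoidHom)
    Subgroup.topEquiv.surjective

end Cfsg.Agent.Lib.Helper22.TiHallD
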