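import Mathlib
import Cfsg.Agent.S4115
import Cfsg.Agent.S0877
import Cfsg.Agent.Lib.Lead.Coprime
import Cfsg.Agent.Lib.Helper1.Hall
import Cfsg.Agent.Lib.Helper22.TiHallA
import Cfsg.Agent.Lib.Helper22.TiHallB
import Cfsg.Agent.Lib.Helper22.TiHallD
import Cfsg.Agent.Lib.Helper22.TiHallE

set_option autoImplicit false

namespace Cfsg.Agent.Lib.Helper22.TiHallF

open Subgroup
open scoped Pointwise

universe u
variable {G : Type u} [Group G]

/-- the order of a complement of `H` in `N_G(H)` -/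
theorem card_complement (H Q : Subgroup G)
    (hQ : Q ≤ Subgroup.normalizer (H : Set G)) (hQH : Q ⊓ H = ⊥)
    (hQH' : Q ⊔ H = Subgroup.normalizer (H : Set G)) :
    (H.subgroupOf (Subgroup.normalizer (H : Set G))).index = Nat.card Q := by
  set N := Subgroup.normalizer (H : Set G) with hN
  have hHN : H ≤ N := Subgroup.le_normalizer
  have hHn : (H.subgroupOf N).Normal := Subgroup.normal_in_normalizer
  have h1 : Q.subgroupOf N ⊔ H.subgroupOf N = ⊤ := by
    rw [← Subgroup.subgroupOf_sup hQ hHN, hQH', Subgroup.subgroupOf_self]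
  have h2 : H.subgroupOf N ⊓ Q.subgroupOf N = ⊥ := by
    rw [eq_bot_iff]
    rintro x ⟨hx1, hx2⟩
    rw [Subgroup.mem_bot]
    have h3 : (x : G) ∈ Q ⊓ H := ⟨Subgroup.mem_subgroupOf.mp hx2, Subgroup.mem_subgroupOf.mp hx1⟩
    rw [hQH, Subgroup.mem_bot] at h3
    exact Subtype.ext h3
  rw [← Subgroup.relIndex_top_right, ← h1, Subgroup.relIndex_sup_right,
    ← Subgroup.inf_relIndex_right, h2, Subgroup.relIndex_bot_left]
  exact Cfsg.Agent.S0001.card_subgroupOf_of_le hQ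

/-- fusion in `C_H(Q)` is controlled by `C_H(Q)` -/
theorem fusion [Finite G] (H Q : Subgroup G) (hTI : Cfsg.IsTISubset (H : Set G))
    [Group.IsSolvable H]
    (hQN : Q ≤ normalizer (H : Set G)) (hQH' : Q ⊔ H = normalizer (H : Set G))
    (hcop : (Nat.card Q).Coprime (Nat.card H)) :
    ∀ x ∈ H ⊓ centralizer (Q : Set G), ∀ y ∈ H ⊓ centralizer (Q : Set G), IsConj x y →
      ∃ c ∈ H ⊓ centralizer (Q : Set G), c * x * c⁻¹ = y := by
  intro x hx y hy hxy
  obtain ⟨g, hg⟩ := isConj_iff.mp hxy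
  by_cases hx1 : x = 1
  · refine ⟨1, Subgroup.one_mem _, ?_⟩
    rw [← hg, hx1]
    simp
  have hgN : g ∈ normalizer (H : Set G) :=
    Cfsg.Agent.S4115.ti_mem_normalizer H hTI g x hx.1 hx1 (hg ▸ hy.1)
  have hgQH : g ∈ ((Q ⊔ H : Subgroup G) : Set G) := by
    rw [hQH']; exact hgN
  rw [Subgroup.coe_mul_of_left_le_normalizer_right Q H hQN] at hgQH
  obtain ⟨q, hq, h, hh, rfl⟩ := Set.mem_mul.mp hgQH
  have hq' : q ∈ Q := hq
  have hh' : h ∈ H := hh
  have hxQ : ∀ b ∈ Q, b * x = x * b := fun b hb => Subgroup.mem_centralizer_iff.mp hx.2 b hb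
  have hyQ : ∀ b ∈ Q, b * y = y * b := fun b hb => Subgroup.mem_centralizer_iff.mp hy.2 b hb
  have hhxy : h * x * h⁻¹ = y := by
    have e : h * x * h⁻¹ = q⁻¹ * (q * h * x * (q * h)⁻¹) * q := by group
    rw [e, hg]
    have := hyQ q hq'
    calc q⁻¹ * y * q = q⁻¹ * (y * q) := by group
      _ = q⁻¹ * (q * y) := by rw [this]
      _ = y := by group
  set D : Subgroup G := H ⊓ centralizer ({x} : Set G) with hD
  have hDmem : ∀ w, w ∈ D ↔ w ∈ H ∧ x * w = w * x := by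
    intro w
    rw [hD, Subgroup.mem_inf, Subgroup.mem_centralizer_iff]
    constructor
    · rintro ⟨h1, h2⟩
      exact ⟨h1, h2 x rfl⟩
    · rintro ⟨h1, h2⟩
      refine ⟨h1, fun z hz => ?_⟩
      rw [Set.mem_singleton_iff.mp hz]
      exact h2
  have hDH : D ≤ H := inf_le_left
  have hAD : Q ≤ normalizer (D : Set G) := by
    intro b hb
    apply Subgroup.mem_normalizer_fintype
    intro d hd
    have hd' := (hDmem d).mp hd
    apply (hDmem _).mpr
    refine ⟨(Subgroup.mem_normalizer_iff.mp (hQN hb) d).mp hd'.1, ?_⟩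
    have hbx := hxQ b hb
    have hbx' : b⁻¹ * x = x * b⁻¹ := by
      calc b⁻¹ * x = b⁻¹ * (x * b) * b⁻¹ := by group
        _ = b⁻¹ * (b * x) * b⁻¹ := by rw [hbx]
        _ = x * b⁻¹ := by group
    calc x * (b * d * b⁻¹) = (x * b) * d * b⁻¹ := by group
      _ = (b * x) * d * b⁻¹ := by rw [hbx]
      _ = b * (x * d) * b⁻¹ := by group
      _ = b * (d * x) * b⁻¹ := by rw [hd'.2]
      _ = b * d * (x * b⁻¹) := by group
      _ = b * d * (b⁻¹ * x) := by rw [hbx']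
      _ = b * d * b⁻¹ * x := by group
  have hcopD : (Nat.card Q).Coprime (Nat.card D) :=
    Nat.Coprime.coprime_dvd_right (Subgroup.card_dvd_of_le hDH) hcop
  have hsolvD : Group.IsSolvable D := Cfsg.Agent.Lib.Lead.solvable_of_le hDH
  have hcoset : ∀ a ∈ Q, h⁻¹ * (a * h * a⁻¹) ∈ D := by
    intro a ha
    apply (hDmem _).mpr
    have haN := hQN ha
    have h1 : a * h * a⁻¹ ∈ H := (Subgroup.mem_normalizer_iff.mp haN h).mp hh'
    refine ⟨H.mul_mem (H.inv_mem hh') h1, ?_⟩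
    have hax := hxQ a ha
    have hay := hyQ a ha
    have hax' : a⁻¹ * x = x * a⁻¹ := by
      calc a⁻¹ * x = a⁻¹ * (x * a) * a⁻¹ := by group
        _ = a⁻¹ * (a * x) * a⁻¹ := by rw [hax]
        _ = x * a⁻¹ := by group
    have hxh : x * h⁻¹ = h⁻¹ * y := by rw [← hhxy]; group
    have hhx : h * x = y * h := by rw [← hhxy]; group
    calc x * (h⁻¹ * (a * h * a⁻¹)) = (x * h⁻¹) * (a * h * a⁻¹) := by group
      _ = (h⁻¹ * y) * (a * h * a⁻¹) := by rw [hxh]
      _ = h⁻¹ * (y * a) * h * a⁻¹ := by group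
      _ = h⁻¹ * (a * y) * h * a⁻¹ := by rw [hay]
      _ = h⁻¹ * a * (y * h) * a⁻¹ := by group
      _ = h⁻¹ * a * (h * x) * a⁻¹ := by rw [hhx]
      _ = h⁻¹ * a * h * (x * a⁻¹) := by group
      _ = h⁻¹ * a * h * (a⁻¹ * x) := by rw [hax']
      _ = h⁻¹ * (a * h * a⁻¹) * x := by group
  obtain ⟨d, hd, hcd⟩ := Cfsg.Agent.Lib.Lead.coset_fixed Q D hAD hcopD (Or.inr hsolvD) h hcoset
  have hd' := (hDmem d).mp hd
  refine ⟨h * d, ⟨H.mul_mem hh' hd'.1, hcd⟩, ?_⟩
  calc h * d * x * (h * d)⁻¹ = h * (d * x) * d⁻¹ * h⁻¹ := by group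
    _ = h * (x * d) * d⁻¹ * h⁻¹ := by rw [hd'.2]
    _ = h * x * h⁻¹ := by group
    _ = y := hhxy

/-- subgroups of order dividing `|C|` are conjugate into the Hall subgroup `C` of `H` -/
theorem conj_into_hall [Finite G] (H : Subgroup G) (hTI : Cfsg.IsTISubset (H : Set G))
    (hHall : (Nat.card H).Coprime (H.subgroupOf (Subgroup.normalizer (H : Set G))).index)
    [Group.IsSolvable H] (C : Subgroup G) (hCH : C ≤ H)
    (hC : (Nat.card C).Coprime (C.relIndex H))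
    (E : Subgroup G) (hE : Nat.card E ∣ Nat.card C) :
    ∃ g : G, E.map (MulAut.conj g).toMonoidHom ≤ C := by
  have hCdvd : Nat.card C ∣ Nat.card H := Subgroup.card_dvd_of_le hCH
  obtain ⟨g, hg⟩ := Cfsg.Agent.S4115.conj_into H hTI hHall E
    (fun y hy => dvd_trans (Subgroup.orderOf_dvd_natCard E hy) (dvd_trans hE hCdvd))
  set E₀ : Subgroup G := E.map (MulAut.conj g⁻¹).toMonoidHom with hE₀
  have hE₀H : E₀ ≤ H := by
    rintro _ ⟨y, hy, rfl⟩
    have := hg y hy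
    simpa [MulAut.conj_apply] using this
  have hE₀card : Nat.card E₀ = Nat.card E :=
    Subgroup.card_map_of_injective (MulAut.conj g⁻¹).injective
  have hcardH : Nat.card H = Nat.card C * C.relIndex H :=
    (Cfsg.Agent.Lib.Helper1.card_mul_relIndex_of_le hCH).symm
  obtain ⟨h, hh⟩ := Cfsg.Agent.Lib.Helper1.hall_le_conj (G := H) (Nat.card C) (C.relIndex H)
    hcardH hC (C.subgroupOf H) (E₀.subgroupOf H)
    (Cfsg.Agent.S0001.card_subgroupOf_of_le hCH)
    (by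
      rw [Cfsg.Agent.S0001.card_subgroupOf_of_le hE₀H, hE₀card]
      exact Nat.Coprime.coprime_dvd_left hE hC)
  refine ⟨(h : G)⁻¹ * g⁻¹, ?_⟩
  rintro _ ⟨y, hy, rfl⟩
  have hy₀ : g⁻¹ * y * g ∈ E₀ := by
    refine ⟨y, hy, ?_⟩
    simp
  have h1 : (⟨g⁻¹ * y * g, hE₀H hy₀⟩ : H) ∈ E₀.subgroupOf H := Subgroup.mem_subgroupOf.mpr hy₀
  have h2 := hh h1
  rw [Subgroup.mem_pointwise_smul_iff_inv_smul_mem] at h2
  simp only [MulAut.smul_def, MulAut.conj_inv_apply] at h2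
  have h3 := Subgroup.mem_subgroupOf.mp h2
  have e : (MulAut.conj ((h : G)⁻¹ * g⁻¹)).toMonoidHom y = (h : G)⁻¹ * (g⁻¹ * y * g) * (h : G) := by
    simp [mul_assoc]
  rw [e]
  exact h3

end Cfsg.Agent.Lib.Helper22.TiHallF
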