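import Mathlib

set_option autoImplicit false

/-! Project U34 (S3663, coordinator helper14), piece U34-M: the module of differences of an
invariant code. -/

namespace Cfsg.Agent.Lib.Helper22.U34

open Subgroup

/-- The difference map `f ↦ ((i, j) ↦ f i - f j)`. -/
def delta (n r : ℕ) : (Fin n → ZMod r) →+ (Fin n → Fin n → ZMod r) where
  toFun f := fun i j => f i - f j
  map_zero' := by funext i j; simp
  map_add' f g := by funext i j; simp; abel

theorem delta_apply (n r : ℕ) (f : Fin n → ZMod r) (i j : Fin n) :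
    delta n r f i j = f i - f j := rfl

/-- The module of differences. -/
def diffMod {n r : ℕ} (D : AddSubgroup (Fin n → ZMod r)) : AddSubgroup (Fin n → Fin n → ZMod r) :=
  D.map (delta n r)

/-- The action of a permutation on a function of two variables. -/
def act {n r : ℕ} (y : Equiv.Perm (Fin n)) (h : Fin n → Fin n → ZMod r) :
    Fin n → Fin n → ZMod r := fun i j => h (y⁻¹ i) (y⁻¹ j)

theorem act_mem {n r : ℕ} (L : Subgroup (Equiv.Perm (Fin n))) (D : AddSubgroup (Fin n → ZMod r))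
    (hinv : ∀ g ∈ L, ∀ f ∈ D, (fun i => f (g i)) ∈ D) (y : ↥L)
    (h : Fin n → Fin n → ZMod r) (hh : h ∈ diffMod D) :
    act (y : Equiv.Perm (Fin n)) h ∈ diffMod D := by
  obtain ⟨f, hf, rfl⟩ := hh
  refine ⟨fun i => f ((y : Equiv.Perm (Fin n))⁻¹ i), hinv _ (inv_mem y.2) f hf, ?_⟩
  funext i j
  rfl

/-- The action of `L` on the module of differences. -/
@[instance_reducible]
def diffAction {n r : ℕ} (L : Subgroup (Equiv.Perm (Fin n))) (D : AddSubgroup (Fin n → ZMod r))
    (hinv : ∀ g ∈ L, ∀ f ∈ D, (fun i => f (g i)) ∈ D) : DistribMulAction ↥L ↥(diffMod D) where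
  smul y v := ⟨act (y : Equiv.Perm (Fin n)) v.1, act_mem L D hinv y v.1 v.2⟩
  one_smul v := by
    apply Subtype.ext
    funext i j
    show (v.1 : Fin n → Fin n → ZMod r) (((1 : ↥L) : Equiv.Perm (Fin n))⁻¹ i)
      (((1 : ↥L) : Equiv.Perm (Fin n))⁻¹ j) = v.1 i j
    simp
  mul_smul y y' v := by
    apply Subtype.ext
    funext i j
    show (v.1 : Fin n → Fin n → ZMod r) (((y * y' : ↥L) : Equiv.Perm (Fin n))⁻¹ i)
      (((y * y' : ↥L) : Equiv.Perm (Fin n))⁻¹ j)
      = v.1 ((y' : Equiv.Perm (Fin n))⁻¹ ((y : Equiv.Perm (Fin n))⁻¹ i))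
        ((y' : Equiv.Perm (Fin n))⁻¹ ((y : Equiv.Perm (Fin n))⁻¹ j))
    simp [mul_inv_rev, Equiv.Perm.mul_apply]
  smul_zero y := by
    apply Subtype.ext
    funext i j
    rfl
  smul_add y v w := by
    apply Subtype.ext
    funext i j
    rfl

theorem exists_module {n : ℕ} (L : Subgroup (Equiv.Perm (Fin n))) (r : ℕ) [Fact r.Prime]
    (D : AddSubgroup (Fin n → ZMod r))
    (hinv : ∀ g ∈ L, ∀ f ∈ D, (fun i => f (g i)) ∈ D)
    (hnc : ∃ f ∈ D, ∃ i j, f i ≠ f j) :
    ∃ (V : Type) (_ : AddCommGroup V) (_ : Finite V) (_ : Nontrivial V)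
      (_ : DistribMulAction ↥L V),
      (∀ v : V, r • v = 0) ∧
      ∀ y : ↥L, (orderOf y).Coprime r → (∃ v : V, v ≠ 0 ∧ y • v = v) →
        ∃ f ∈ D, (∃ i j, f i ≠ f j) ∧ ∀ i, f ((y : Equiv.Perm (Fin n)) i) = f i := by
  classical
  have hrp : r.Prime := Fact.out
  have : NeZero r := ⟨hrp.ne_zero⟩
  have hnt : Nontrivial ↥(diffMod D) := by
    obtain ⟨f, hf, i, j, hij⟩ := hnc
    refine ⟨⟨⟨delta n r f, ⟨f, hf, rfl⟩⟩, 0, ?_⟩⟩
    intro h
    have h1 := congrArg (fun v : ↥(diffMod D) => (v : Fin n → Fin n → ZMod r) i j) h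
    simp only [delta_apply] at h1
    exact hij (sub_eq_zero.1 h1)
  refine ⟨↥(diffMod D), inferInstance, inferInstance, hnt, diffAction L D hinv, ?_, ?_⟩
  · intro v
    apply Subtype.ext
    funext i j
    show (r • (v : Fin n → Fin n → ZMod r)) i j = 0
    simp
  · intro y hy
    rintro ⟨⟨h, hh⟩, hne, hfixv⟩
    obtain ⟨f, hf, rfl⟩ := hh
    -- the fixed-vector equation
    have hfx : ∀ i j, f ((y : Equiv.Perm (Fin n))⁻¹ i) - f ((y : Equiv.Perm (Fin n))⁻¹ j)
        = f i - f j := by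
      intro i j
      have := congrArg (fun v : ↥(diffMod D) => (v : Fin n → Fin n → ZMod r) i j) hfixv
      exact this
    -- non-zero entry
    have hne' : ∃ i j, f i ≠ f j := by
      by_contra hcon
      push Not at hcon
      apply hne
      apply Subtype.ext
      funext i j
      show f i - f j = 0
      rw [hcon i j, sub_self]
    obtain ⟨i0, j0, hij0⟩ := hne'
    set c : ZMod r := f ((y : Equiv.Perm (Fin n))⁻¹ i0) - f i0 with hc
    have hstep : ∀ i, f ((y : Equiv.Perm (Fin n))⁻¹ i) = f i + c := by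
      intro i
      have := hfx i i0
      rw [hc]
      linear_combination this
    have hiter : ∀ (m : ℕ) (i : Fin n),
        f ((((y : Equiv.Perm (Fin n))⁻¹) ^ m) i) = f i + m • c := by
      intro m
      induction m with
      | zero => intro i; simp
      | succ m ih =>
        intro i
        rw [pow_succ', Equiv.Perm.mul_apply, hstep, ih, succ_nsmul, add_assoc]
    have hord : ((y : Equiv.Perm (Fin n))⁻¹) ^ (orderOf y) = 1 := by
      rw [inv_pow, inv_eq_one, ← Subgroup.coe_pow, pow_orderOf_eq_one, Subgroup.coe_one]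
    have hmc : (orderOf y) • c = 0 := by
      have := hiter (orderOf y) i0
      rw [hord, Equiv.Perm.one_apply] at this
      exact (left_eq_add.1 this)
    have hc0 : c = 0 := by
      rw [nsmul_eq_mul] at hmc
      have hu : IsUnit ((orderOf y : ℕ) : ZMod r) := (ZMod.isUnit_iff_coprime _ _).2 hy
      exact (hu.mul_right_eq_zero).1 hmc
    refine ⟨f, hf, ⟨i0, j0, hij0⟩, ?_⟩
    intro i
    have := hstep ((y : Equiv.Perm (Fin n)) i)
    rw [hc0, add_zero] at this
    simpa using this.symm
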