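import Mathlib

set_option autoImplicit false

/-! Project U34 (S3663, coordinator helper14), piece U34-S: transfer of an invariant word along
the conjugacy of Sylow subgroups of prime order. -/

namespace Cfsg.Agent.Lib.Helper22.U34

open Subgroup

/-- A subgroup of order `q` in a group whose order is not divisible by `q ^ 2` is a Sylow
`q`-subgroup: a Sylow subgroup containing it is equal to it. -/
theorem sylow_eq_of_card {G : Type*} [Group G] [Finite G] (q : ℕ) [Fact q.Prime]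
    (hq : ¬ q ^ 2 ∣ Nat.card G) (K : Subgroup G) (hK : Nat.card K = q) (P : Sylow q G)
    (hKP : K ≤ P) : (P : Subgroup G) = K := by
  have hqp : q.Prime := Fact.out
  obtain ⟨e, he⟩ := IsPGroup.iff_card.1 P.isPGroup'
  have hdvd : Nat.card (P : Subgroup G) ∣ Nat.card G := Subgroup.card_subgroup_dvd_card _
  have hKd : Nat.card K ∣ Nat.card (P : Subgroup G) := Subgroup.card_dvd_of_le hKP
  have he1 : e = 1 := by
    rcases Nat.lt_or_ge e 2 with h2 | h2
    · interval_cases e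
      · exfalso
        rw [he, hK, pow_zero] at hKd
        exact hqp.one_lt.ne' (Nat.dvd_one.1 hKd)
      · rfl
    · exfalso
      apply hq
      rw [he] at hdvd
      exact (pow_dvd_pow q h2).trans hdvd
  rw [he1, pow_one] at he
  symm
  apply Subgroup.eq_of_le_of_card_ge hKP
  rw [he, hK]

/-- Two elements of prime order `q` in a group of order not divisible by `q ^ 2`: one is
conjugate to a power of the other. -/
theorem exists_conj_eq_pow {G : Type*} [Group G] [Finite G] (q : ℕ) [Fact q.Prime]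
    (hq : ¬ q ^ 2 ∣ Nat.card G) (g y : G) (hg : orderOf g = q) (hy : orderOf y = q) :
    ∃ (x : G) (m : ℕ), x⁻¹ * g * x = y ^ m := by
  have hqp : q.Prime := Fact.out
  have hcg : Nat.card (zpowers g) = q := by rw [Nat.card_zpowers, hg]
  have hcy : Nat.card (zpowers y) = q := by rw [Nat.card_zpowers, hy]
  have hpg : IsPGroup q (zpowers g) := IsPGroup.of_card (n := 1) (by rw [hcg, pow_one])
  have hpy : IsPGroup q (zpowers y) := IsPGroup.of_card (n := 1) (by rw [hcy, pow_one])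
  obtain ⟨P, hP⟩ := hpg.exists_le_sylow
  obtain ⟨Q, hQ⟩ := hpy.exists_le_sylow
  have hP' := sylow_eq_of_card q hq _ hcg P hP
  have hQ' := sylow_eq_of_card q hq _ hcy Q hQ
  obtain ⟨x, hx⟩ := MulAction.exists_smul_eq G Q P
  have hgP : g ∈ (P : Subgroup G) := by rw [hP']; exact mem_zpowers g
  rw [← hx, Sylow.coe_subgroup_smul, Subgroup.mem_pointwise_smul_iff_inv_smul_mem, hQ'] at hgP
  have h1 : x⁻¹ * g * x ∈ zpowers y := by
    simpa [MulAut.smul_def, MulAut.conj_apply] using hgP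
  obtain ⟨m, hm⟩ := (mem_zpowers_iff).1 h1
  have hfin : IsOfFinOrder y := isOfFinOrder_of_finite y
  obtain ⟨m', hm'⟩ := (hfin.mem_powers_iff_mem_zpowers).2 ⟨m, hm⟩
  exact ⟨x, m', hm'.symm⟩

theorem invariant_word_transfer {n : ℕ} (L : Subgroup (Equiv.Perm (Fin n))) [Finite ↥L] (r q : ℕ)
    [Fact q.Prime] (D : AddSubgroup (Fin n → ZMod r))
    (hinv : ∀ g ∈ L, ∀ f ∈ D, (fun i => f (g i)) ∈ D)
    (hq : ¬ q ^ 2 ∣ Nat.card ↥L) (g y : ↥L) (hg : orderOf g = q) (hy : orderOf y = q)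
    (h : ∃ f ∈ D, (∃ i j, f i ≠ f j) ∧ ∀ i, f ((y : Equiv.Perm (Fin n)) i) = f i) :
    ∃ f ∈ D, (∃ i j, f i ≠ f j) ∧ ∀ i, f ((g : Equiv.Perm (Fin n)) i) = f i := by
  obtain ⟨f, hfD, ⟨i, j, hij⟩, hfy⟩ := h
  obtain ⟨x, m, hx⟩ := exists_conj_eq_pow q hq g y hg hy
  have hpow : ∀ (k : ℕ) (i : Fin n), f (((y ^ k : ↥L) : Equiv.Perm (Fin n)) i) = f i := by
    intro k
    induction k with
    | zero => intro i; simp
    | succ k ih =>
      intro i
      rw [pow_succ]
      show f ((((y ^ k : ↥L) : Equiv.Perm (Fin n)) * (y : Equiv.Perm (Fin n))) i) = f i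
      rw [Equiv.Perm.mul_apply, ih, hfy]
  have hx2 : x⁻¹ * g = y ^ m * x⁻¹ := by
    rw [← hx]; group
  refine ⟨fun i => f (((x⁻¹ : ↥L) : Equiv.Perm (Fin n)) i), hinv _ (x⁻¹).2 f hfD, ⟨(x : Equiv.Perm (Fin n)) i, (x : Equiv.Perm (Fin n)) j, ?_⟩, ?_⟩
  · show f (((x⁻¹ : ↥L) : Equiv.Perm (Fin n)) ((x : Equiv.Perm (Fin n)) i))
      ≠ f (((x⁻¹ : ↥L) : Equiv.Perm (Fin n)) ((x : Equiv.Perm (Fin n)) j))
    simpa using hij
  · intro i
    show f (((x⁻¹ : ↥L) : Equiv.Perm (Fin n)) ((g : Equiv.Perm (Fin n)) i))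
      = f (((x⁻¹ : ↥L) : Equiv.Perm (Fin n)) i)
    have h1 : ((x⁻¹ : ↥L) : Equiv.Perm (Fin n)) ((g : Equiv.Perm (Fin n)) i)
        = ((y ^ m : ↥L) : Equiv.Perm (Fin n)) (((x⁻¹ : ↥L) : Equiv.Perm (Fin n)) i) := by
      have := congrArg (fun z : ↥L => (z : Equiv.Perm (Fin n)) i) hx2
      simpa [Equiv.Perm.mul_apply] using this
    rw [h1, hpow]
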