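import Mathlib

set_option autoImplicit false

/-!
# U35-A (helper14's project U35 = S2149): the Sylow counting argument

`min_index_fifty`: a simple group of order `126000` with a TI Sylow `5`-subgroup whose normaliser
has order `1000` and a self-centralising non-real element of order `7` has no proper subgroup of
index `< 50`.
-/

namespace Cfsg.Agent.Lib.Helper22.U35

open Subgroup

/-- A simple group embeds in `Perm (G ⧸ H)` for `H ≠ ⊤`. -/
theorem card_dvd_factorial_index {G : Type*} [Group G] [Finite G] [IsSimpleGroup G]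
    (H : Subgroup G) (hH : H ≠ ⊤) : Nat.card G ∣ (H.index).factorial := by
  classical
  have hker : (MulAction.toPermHom G (G ⧸ H)).ker = H.normalCore :=
    (Subgroup.normalCore_eq_ker H).symm
  have hinj : Function.Injective (MulAction.toPermHom G (G ⧸ H)) := by
    rw [← MonoidHom.ker_eq_bot_iff, hker]
    rcases (H.normalCore_normal).eq_bot_or_eq_top with h | h
    · exact h
    · exact absurd (top_le_iff.mp (h ▸ H.normalCore_le)) hH
  have h1 := Subgroup.card_dvd_of_injective _ hinj
  rwa [Nat.card_perm, ← Subgroup.index_eq_card] at h1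

/-- If a finite group acts on a finite set, fixing `x0` and freely off `x0`, then the size of the
set is `≡ 1` modulo the group order. -/
theorem card_modEq_one_of_free {A X : Type*} [Group A] [MulAction A X] [Finite A] [Finite X]
    (x0 : X) (hfix : ∀ a : A, a • x0 = x0)
    (hfree : ∀ (a : A) (x : X), x ≠ x0 → a • x = x → a = 1) :
    Nat.card X ≡ 1 [MOD Nat.card A] := by
  classical
  let S : SubMulAction A X :=
    { carrier := {x | x ≠ x0}
      smul_mem' := by
        intro a x hx h
        apply hx
        have h1 : a⁻¹ • (a • x) = a⁻¹ • x0 := by rw [h]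
        rwa [inv_smul_smul, hfix] at h1 }
  have hst : ∀ b : S, MulAction.stabilizer A b = ⊥ := by
    intro b
    rw [eq_bot_iff]
    intro a ha
    rw [Subgroup.mem_bot]
    have h1 : a • b = b := MulAction.mem_stabilizer_iff.1 ha
    have h2 : a • (b : X) = b := by
      have h3 := congrArg Subtype.val h1
      simpa using h3
    exact hfree a b b.2 h2
  have e := MulAction.selfEquivOrbitsQuotientProd hst
  have h1 : Nat.card S = Nat.card (Quotient (MulAction.orbitRel A S)) * Nat.card A := by
    rw [Nat.card_congr e, Nat.card_prod]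
  have h2 : Nat.card X = Nat.card S + 1 := by
    have h3 : Nat.card S = ({x0}ᶜ : Set X).ncard := by
      rw [← Nat.card_coe_set_eq]
      rfl
    have h4 := Set.ncard_add_ncard_compl ({x0} : Set X)
    rw [Set.ncard_singleton] at h4
    omega
  rw [h2, h1]
  have h5 : Nat.card (Quotient (MulAction.orbitRel A S)) * Nat.card A ≡ 0 [MOD Nat.card A] :=
    Nat.modEq_zero_iff_dvd.2 (dvd_mul_left _ _)
  simpa using h5.add_right 1

/-- If the Sylow `p`-subgroups of `H` pairwise meet trivially then `n_p(H) ≡ 1 (mod |Q|)`. -/
theorem card_sylow_modEq_one_of_ti {H : Type*} [Group H] [Finite H] {p : ℕ} [Fact p.Prime]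
    (Q : Sylow p H)
    (hti : ∀ Q' : Sylow p H, Q' ≠ Q → (Q : Subgroup H) ⊓ (Q' : Subgroup H) = ⊥) :
    Nat.card (Sylow p H) ≡ 1 [MOD Nat.card Q] := by
  refine card_modEq_one_of_free (A := (Q : Subgroup H)) (X := Sylow p H) Q ?_ ?_
  · intro a
    rw [Subgroup.smul_def, Sylow.smul_eq_iff_mem_normalizer]
    exact le_normalizer a.2
  · intro a Q' hQ' ha
    rw [Subgroup.smul_def, Sylow.smul_eq_iff_mem_normalizer] at ha
    have h1 : (a : H) ∈ (Q : Subgroup H) ⊓ (Q' : Subgroup H) := by
      rw [← IsPGroup.inf_normalizer_sylow Q.2 Q']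
      exact ⟨a.2, ha⟩
    rw [hti Q' hQ', Subgroup.mem_bot] at h1
    exact Subtype.ext h1

end Cfsg.Agent.Lib.Helper22.U35
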