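import Mathlib

set_option autoImplicit false

/-!
# U35-A2 (helper14's project U35 = S2149): the `7`-part of the Sylow counting argument

`seven_part`: in a group of order `126000` with a self-centralising non-real element of order `7`,
every subgroup `H` of order divisible by `7` has a Sylow `7`-normaliser of order `7` or `21`, of
index `≡ 1 (mod 7)`.
-/

namespace Cfsg.Agent.Lib.Helper22.U35

open Subgroup
open scoped Pointwise

/-- Transfer of "self-centralising" along an automorphism. -/
theorem selfCentralizing_map {G : Type*} [Group G] (φ : G ≃* G) (s : G)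
    (hCs : ∀ g : G, g * s = s * g → g ∈ zpowers s) :
    ∀ g : G, g * φ s = φ s * g → g ∈ zpowers (φ s) := by
  intro g hg
  have h1 : φ.symm g * s = s * φ.symm g := by
    apply φ.injective
    simp [hg]
  obtain ⟨k, hk⟩ := Subgroup.mem_zpowers_iff.1 (hCs _ h1)
  refine Subgroup.mem_zpowers_iff.2 ⟨k, ?_⟩
  rw [← map_zpow, hk]
  simp

/-- Transfer of "not real" along an automorphism. -/
theorem notReal_map {G : Type*} [Group G] (φ : G ≃* G) (s : G)
    (hinv : ∀ g : G, g * s * g⁻¹ ≠ s⁻¹) :
    ∀ g : G, g * φ s * g⁻¹ ≠ (φ s)⁻¹ := by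
  intro g hg
  apply hinv (φ.symm g)
  apply φ.injective
  simp [hg]

/-- Transfer of "self-centralising" between generators of the same cyclic group. -/
theorem selfCentralizing_of_zpowers_eq {G : Type*} [Group G] (u t : G)
    (h : zpowers u = zpowers t)
    (hCu : ∀ g : G, g * u = u * g → g ∈ zpowers u) :
    ∀ g : G, g * t = t * g → g ∈ zpowers t := by
  intro g hg
  rw [← h]
  apply hCu
  have hu : u ∈ zpowers t := h ▸ Subgroup.mem_zpowers u
  obtain ⟨i, hi⟩ := Subgroup.mem_zpowers_iff.1 hu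
  rw [← hi]
  have hc : Commute g t := hg
  exact (hc.zpow_right i)

/-- Transfer of "not real" between generators of the same cyclic group. -/
theorem notReal_of_zpowers_eq {G : Type*} [Group G] (u t : G)
    (h : zpowers u = zpowers t)
    (hinv : ∀ g : G, g * u * g⁻¹ ≠ u⁻¹) :
    ∀ g : G, g * t * g⁻¹ ≠ t⁻¹ := by
  intro g hg
  apply hinv g
  have hu : u ∈ zpowers t := h ▸ Subgroup.mem_zpowers u
  obtain ⟨i, hi⟩ := Subgroup.mem_zpowers_iff.1 hu
  rw [← hi, ← conj_zpow, hg, inv_zpow]

/-- Every element of order `7` inherits the two properties of `s`. -/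
theorem seven_facts {G : Type*} [Group G] [Finite G]
    (hcard : Nat.card G = 126000)
    (s : G) (hs : orderOf s = 7)
    (hCs : ∀ g : G, g * s = s * g → g ∈ zpowers s)
    (hinv : ∀ g : G, g * s * g⁻¹ ≠ s⁻¹) (t : G) (ht : orderOf t = 7) :
    (∀ g : G, g * t = t * g → g ∈ zpowers t) ∧ (∀ g : G, g * t * g⁻¹ ≠ t⁻¹) := by
  have : Fact (Nat.Prime 7) := ⟨by norm_num⟩
  have hsyl : ∀ x : G, orderOf x = 7 →
      IsPGroup 7 (zpowers x) ∧ ¬ 7 ∣ (zpowers x).index := by
    intro x hx
    have hc : Nat.card (zpowers x) = 7 := by rw [Nat.card_zpowers, hx]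
    refine ⟨IsPGroup.of_card (n := 1) (by rw [hc]; norm_num), ?_⟩
    have h1 := Subgroup.card_mul_index (zpowers x)
    rw [hc, hcard] at h1
    intro h2
    omega
  let S : Sylow 7 G := (hsyl s hs).1.toSylow (hsyl s hs).2
  let T : Sylow 7 G := (hsyl t ht).1.toSylow (hsyl t ht).2
  obtain ⟨g, hg⟩ := MulAction.exists_smul_eq G S T
  have hST : MulAut.conj g • zpowers s = zpowers t := by
    have h1 := congrArg Sylow.toSubgroup hg
    rw [Sylow.coe_subgroup_smul] at h1
    exact h1
  set u : G := MulAut.conj g s with hu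
  have hut : u ∈ zpowers t := by
    rw [← hST]
    exact Subgroup.smul_mem_pointwise_smul s (MulAut.conj g) (zpowers s) (Subgroup.mem_zpowers s)
  have hou : orderOf u = 7 := by
    rw [hu, MulEquiv.orderOf_eq, hs]
  have hzp : zpowers u = zpowers t := by
    apply Subgroup.eq_of_le_of_card_ge (Subgroup.zpowers_le.2 hut)
    rw [Nat.card_zpowers, Nat.card_zpowers, hou, ht]
  exact ⟨selfCentralizing_of_zpowers_eq u t hzp (selfCentralizing_map (MulAut.conj g) s hCs),
    notReal_of_zpowers_eq u t hzp (notReal_map (MulAut.conj g) s hinv)⟩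

/-- A subgroup of order `7 * r` with `r ∣ 6`, of odd order, has order `7` or `21`. -/
theorem seven_or_twentyone (b r : ℕ) (hb : b = 7 * r) (hr : r ∣ 6) (hodd : ¬ 2 ∣ b) :
    b = 7 ∨ b = 21 := by
  have hr6 : r ≤ 6 := Nat.le_of_dvd (by norm_num) hr
  interval_cases r <;> omega

/-- The `7`-part: `|N_H(T)| ∈ {7, 21}` and `n_7(H) ≡ 1 (mod 7)` for `7 ∣ |H|`. -/
theorem seven_part {G : Type*} [Group G] [Finite G]
    (hcard : Nat.card G = 126000)
    (s : G) (hs : orderOf s = 7)
    (hCs : ∀ g : G, g * s = s * g → g ∈ zpowers s)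
    (hinv : ∀ g : G, g * s * g⁻¹ ≠ s⁻¹)
    (H : Subgroup G) (h7 : 7 ∣ Nat.card H) :
    ∃ b n7 : ℕ, (b = 7 ∨ b = 21) ∧ b * n7 = Nat.card H ∧ n7 % 7 = 1 := by
  have : Fact (Nat.Prime 7) := ⟨by norm_num⟩
  obtain ⟨t, ht⟩ := exists_prime_orderOf_dvd_card' (G := H) 7 h7
  have htG : orderOf (t : G) = 7 := by rw [Subgroup.orderOf_coe, ht]
  obtain ⟨hF1, hF2⟩ := seven_facts hcard s hs hCs hinv (t : G) htG
  -- the two facts inside `H`
  have hC : ∀ x : H, x * t = t * x → x ∈ zpowers t := by
    intro x hx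
    have h1 : (x : G) * (t : G) = (t : G) * (x : G) := by
      have := congrArg Subtype.val hx
      simpa using this
    obtain ⟨i, hi⟩ := Subgroup.mem_zpowers_iff.1 (hF1 _ h1)
    refine Subgroup.mem_zpowers_iff.2 ⟨i, ?_⟩
    apply Subtype.ext
    rw [← hi]
    simp
  have hR : ∀ x : H, x * t * x⁻¹ ≠ t⁻¹ := by
    intro x hx
    apply hF2 (x : G)
    have := congrArg Subtype.val hx
    simpa using this
  -- `T = ⟨t⟩` is a Sylow `7`-subgroup of `H`
  have hcT : Nat.card (zpowers t) = 7 := by rw [Nat.card_zpowers, ht]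
  have hpT : IsPGroup 7 (zpowers t) := IsPGroup.of_card (n := 1) (by rw [hcT]; norm_num)
  have hHdvd : Nat.card H ∣ 126000 := hcard ▸ Subgroup.card_subgroup_dvd_card H
  have hiT : ¬ 7 ∣ (zpowers t).index := by
    have h1 := Subgroup.card_mul_index (zpowers t)
    rw [hcT] at h1
    intro h2
    obtain ⟨c, hc⟩ := h2
    obtain ⟨d, hd⟩ := hHdvd
    rw [← h1, hc] at hd
    have h49 : 49 ∣ 126000 := ⟨c * d, by rw [hd]; ring⟩
    omega
  let T : Sylow 7 H := hpT.toSylow hiT
  have hTcoe : (T : Subgroup H) = zpowers t := rfl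
  have h1 : Nat.card (Sylow 7 H) ≡ 1 [MOD 7] := card_sylow_modEq_one 7 H
  have h2 : Nat.card (Sylow 7 H) = (normalizer ((T : Subgroup H) : Set H)).index :=
    Sylow.card_eq_index_normalizer T
  rw [hTcoe] at h2
  refine ⟨Nat.card (normalizer ((zpowers t : Subgroup H) : Set H)),
    (normalizer ((zpowers t : Subgroup H) : Set H)).index, ?_, Subgroup.card_mul_index _, ?_⟩
  swap
  · rw [← h2]; exact h1
  -- the order of the normaliser
  have hcent : centralizer ((zpowers t : Subgroup H) : Set H) = zpowers t := by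
    apply le_antisymm
    · intro x hx
      apply hC
      exact (Subgroup.mem_centralizer_iff.1 hx t (Subgroup.mem_zpowers t)).symm
    · intro x hx
      rw [Subgroup.mem_centralizer_iff]
      intro y hy
      obtain ⟨i, rfl⟩ := Subgroup.mem_zpowers_iff.1 hx
      obtain ⟨j, rfl⟩ := Subgroup.mem_zpowers_iff.1 (hy : y ∈ zpowers t)
      exact ((Commute.refl t).zpow_zpow j i).eq
  have key := card_dvd_of_injective _
    (QuotientGroup.kerLift_injective (zpowers t : Subgroup H).normalizerMonoidHom)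
  rw [normalizerMonoidHom_ker, ← index, ← relIndex, hcent] at key
  have hcyc : IsCyclic (zpowers t : Subgroup H) := inferInstance
  rw [hcyc.card_mulAut, hcT] at key
  have htot : Nat.totient 7 = 6 := by decide
  rw [htot] at key
  have hle : (zpowers t : Subgroup H) ≤ normalizer ((zpowers t : Subgroup H) : Set H) :=
    le_normalizer
  have hmul := Subgroup.relIndex_mul_relIndex (⊥ : Subgroup H) _ _ bot_le hle
  rw [relIndex_bot_left, relIndex_bot_left, hcT] at hmul
  refine seven_or_twentyone _ _ hmul.symm key ?_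
  -- the normaliser has odd order
  intro h2dvd
  have : Fact (Nat.Prime 2) := ⟨by norm_num⟩
  obtain ⟨u, hu⟩ := exists_prime_orderOf_dvd_card'
    (G := normalizer ((zpowers t : Subgroup H) : Set H)) 2 h2dvd
  have huH : orderOf (u : H) = 2 := by rw [Subgroup.orderOf_coe, hu]
  have hmem : (u : H) * t * (u : H)⁻¹ ∈ zpowers t :=
    (Subgroup.mem_normalizer_iff.1 u.2 t).1 (Subgroup.mem_zpowers t)
  obtain ⟨j, hj⟩ := Subgroup.mem_zpowers_iff.1 hmem
  have hu2 : (u : H) * (u : H) = 1 := by
    have := pow_orderOf_eq_one (u : H)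
    rwa [huH, pow_two] at this
  have hjj : t ^ (j * j) = t := by
    rw [zpow_mul, hj, conj_zpow, hj]
    have : (u : H)⁻¹ = (u : H) := inv_eq_of_mul_eq_one_right hu2
    rw [this, ← mul_assoc, ← mul_assoc, hu2, one_mul, mul_assoc, hu2, mul_one]
  have hdvd : (7 : ℤ) ∣ j * j - 1 := by
    have h3 : t ^ (j * j - 1) = 1 := by
      rw [zpow_sub, zpow_one, hjj, mul_inv_cancel]
    have := orderOf_dvd_iff_zpow_eq_one.2 h3
    rwa [ht] at this
  have hfac : j * j - 1 = (j - 1) * (j + 1) := by ring
  rw [hfac] at hdvd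
  have hp7 : Prime (7 : ℤ) := by
    rw [Int.prime_iff_natAbs_prime]; norm_num
  rcases hp7.dvd_or_dvd hdvd with h | h
  · -- `u` centralises `t`
    have h4 : t ^ j = t := by
      have h5 : t ^ (j - 1) = 1 := by
        apply orderOf_dvd_iff_zpow_eq_one.1
        rw [ht]; exact_mod_cast h
      have : t ^ j = t ^ (j - 1) * t := by
        rw [← zpow_add_one]; congr 1; ring
      rw [this, h5, one_mul]
    rw [h4] at hj
    have h6 : (u : H) * t = t * (u : H) := by
      have := congrArg (· * (u : H)) hj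
      simpa [mul_assoc] using this.symm
    have h7' := orderOf_dvd_of_mem_zpowers (hC _ h6)
    rw [huH, ht] at h7'
    omega
  · -- `u` inverts `t`
    have h4 : t ^ j = t⁻¹ := by
      have h5 : t ^ (j + 1) = 1 := by
        apply orderOf_dvd_iff_zpow_eq_one.1
        rw [ht]; exact_mod_cast h
      rw [zpow_add_one] at h5
      exact eq_inv_of_mul_eq_one_left h5
    rw [h4] at hj
    exact hR _ hj.symm

end Cfsg.Agent.Lib.Helper22.U35
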