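import Cfsg.Agent.Lib.helper15.UD.Defs

/-! # UD (helper15, S5655) piece ALLPAIRS : `all_pairs` -/

set_option autoImplicit false
set_option linter.unusedVariables false
set_option linter.unusedSectionVars false

namespace Cfsg.Agent.Lib.helper15.UD

open Matrix Cfsg.Agent.Lib.Helper28 Cfsg.Agent.Lib.Helper29.ExtrL

variable {n q : ℕ} {F : Type*} [Field F] [Fintype F] {σ : F ≃+* F}

section main
variable {t k : ℕ}

theorem allpairs_symm (D : Fin t → Submodule F (Fin n → F))
    (M : Subgroup (Matrix.GeneralLinearGroup (Fin n) F)) (a b : Fin t)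
    (hG : PairGood q σ D M a b) : PairGood q σ D M b a := by
  intro x hx y hy h0
  rw [add_comm] at h0 ⊢
  exact hG y hy x hx h0

theorem allpairs_prop1 (D : Fin t → Submodule F (Fin n → F))
    (M : Subgroup (Matrix.GeneralLinearGroup (Fin n) F)) (hMG : M ≤ GS n F q)
    (hperm : ∀ c d : Fin t, ∃ g ∈ M, ∀ l, ∀ x ∈ D l,
      (g : Matrix (Fin n) (Fin n) F) *ᵥ x ∈ D (Equiv.swap c d l))
    (a b c : Fin t) (hab : a ≠ b) (hca : c ≠ a) (hG : PairGood q σ D M a b) :
    PairGood q σ D M a c := by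
  obtain ⟨h, hhM, hh⟩ := hperm b c
  intro x hx y hy h0
  have hiso : ∀ (m : Matrix.GeneralLinearGroup (Fin n) F), m ∈ M → ∀ u w,
      Cfsg.hermForm n F q ((m : Matrix (Fin n) (Fin n) F) *ᵥ u)
        ((m : Matrix (Fin n) (Fin n) F) *ᵥ w) = Cfsg.hermForm n F q u w :=
    fun m hm u w => (Subgroup.mem_inf.mp (hMG hm)).1 u w
  have h1 : (h : Matrix (Fin n) (Fin n) F) *ᵥ x ∈ D a := by
    have := hh a x hx
    rwa [Equiv.swap_apply_of_ne_of_ne hab hca.symm] at this
  have h2 : (h : Matrix (Fin n) (Fin n) F) *ᵥ y ∈ D b := by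
    have := hh c y hy
    rwa [Equiv.swap_apply_right] at this
  have h3 : Cfsg.hermForm n F q ((h : Matrix (Fin n) (Fin n) F) *ᵥ x + (h : Matrix (Fin n) (Fin n) F) *ᵥ y)
      ((h : Matrix (Fin n) (Fin n) F) *ᵥ x + (h : Matrix (Fin n) (Fin n) F) *ᵥ y) = 0 := by
    rw [← Matrix.mulVec_add, hiso h hhM, h0]
  have h5 := hG _ h1 _ h2 h3
  have h6 := UMax.XS_conj M (M.inv_mem hhM) (hiso _ (M.inv_mem hhM)) h5
  rw [Matrix.mulVec_add, DecGen.gl_cancel, DecGen.gl_cancel] at h6
  exact h6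

/-- ALLPAIRS [S-M] port of `S5647.prop1 / all_pairs`. -/
theorem all_pairs (hc : Ctx n q F σ) (D : Fin t → Submodule F (Fin n → F))
    (M : Subgroup (Matrix.GeneralLinearGroup (Fin n) F)) (hMG : M ≤ GS n F q)
    (hperm : ∀ c d : Fin t, ∃ g ∈ M, ∀ l, ∀ x ∈ D l,
      (g : Matrix (Fin n) (Fin n) F) *ᵥ x ∈ D (Equiv.swap c d l))
    (i j : Fin t) (hij : i ≠ j) (hG : PairGood q σ D M i j) :
    ∀ a b, a ≠ b → PairGood q σ D M a b := by
  have s1 : ∀ c, c ≠ i → PairGood q σ D M i c := by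
    intro c hci
    by_cases hcj : c = j
    · rw [hcj]
      exact hG
    · exact allpairs_prop1 D M hMG hperm i j c hij hci hG
  have s2 : ∀ c, c ≠ i → ∀ d, d ≠ c → PairGood q σ D M c d := by
    intro c hci d hdc
    have h1 : PairGood q σ D M c i := allpairs_symm D M i c (s1 c hci)
    by_cases hdi : d = i
    · rw [hdi]
      exact h1
    · exact allpairs_prop1 D M hMG hperm c i d hci hdc h1
  intro a b hab
  by_cases hai : a = i
  · rw [hai]
    exact s1 b (fun h => hab (hai.trans h.symm))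
  · exact s2 a hai b (fun h => hab h.symm)

end main

end Cfsg.Agent.Lib.helper15.UD
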