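import Cfsg.Agent.Lib.helper15.UD.Defs

/-! # UD (helper15, S5655) piece BLOCKXS : `block_XS` -/

set_option autoImplicit false
set_option linter.unusedVariables false
set_option linter.unusedSectionVars false

namespace Cfsg.Agent.Lib.helper15.UD

open Matrix Cfsg.Agent.Lib.Helper28 Cfsg.Agent.Lib.Helper29.ExtrL

variable {n q : ℕ} {F : Type*} [Field F] [Fintype F] {σ : F ≃+* F}

section main
variable {t k : ℕ}

/-- membership in `GS` -/
theorem blockxs_mem_GS (g : Matrix.GeneralLinearGroup (Fin n) F) :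
    g ∈ GS n F q ↔
      (∀ x y, Cfsg.hermForm n F q ((g : Matrix (Fin n) (Fin n) F) *ᵥ x)
        ((g : Matrix (Fin n) (Fin n) F) *ᵥ y) = Cfsg.hermForm n F q x y) ∧
        g ∈ Cfsg.Geo.specialLinear (Fin n) F := by
  constructor
  · intro h
    exact ⟨fun x y => (Subgroup.mem_inf.mp h).1 x y, (Subgroup.mem_inf.mp h).2⟩
  · rintro ⟨h1, h2⟩
    exact Subgroup.mem_inf.mpr ⟨fun x y => h1 x y, h2⟩

/-- BLOCKXS [S] the isotropic vectors of a block lie in `ZZ q σ M`. -/
theorem block_XS (hc : Ctx n q F σ) (D : Fin t → Submodule F (Fin n → F))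
    (hD : Cfsg.Geo.IsNondegenerateMDecomposition (Cfsg.hermForm n F q) k D)
    (M : Subgroup (Matrix.GeneralLinearGroup (Fin n) F)) (hHM : HD q D ≤ M)
    (i : Fin t) (v : Fin n → F) (hv : v ∈ D i) (hv0 : Cfsg.hermForm n F q v v = 0) :
    v ∈ ZZ q σ M := by
  have hf := hc.form
  refine ⟨hv0, fun c hcs g hg => ?_⟩
  apply hHM
  refine Subgroup.mem_inf.mpr ⟨?_, ?_⟩
  · apply DecGen.stab_of_maps D hD.decomp.finrank_eq g 1
    intro j x hx
    rw [hg x, Equiv.Perm.one_apply]
    by_cases hji : j = i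
    · subst hji
      exact (D j).add_mem hx ((D j).smul_mem _ hv)
    · have h0 : Cfsg.hermForm n F q x (c • v) = 0 :=
        hD.orthogonal j i hji x hx (c • v) ((D i).smul_mem c hv)
      rw [h0, zero_smul, add_zero]
      exact hx
  · exact UMax.UT_mem_G hf (GS n F q) blockxs_mem_GS hv0 hcs hg

end main

end Cfsg.Agent.Lib.helper15.UD
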