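import Mathlib
import Cfsg.Agent.Lib.Helper5.UNI.Defs
import Cfsg.Agent.Lib.helper14.StChev
import Cfsg.Agent.Lib.helper8.ChevTits1

/-!
# Project UNI (helper5, S2314), row G2C (`uni_h2J`): core version.

`unig2c_core` is `uni_h2J` with the statement of G2A (`uni_subN_act`, for the given data) as the
hypothesis `hG2A`.
-/

set_option autoImplicit false

namespace Cfsg.Agent.Lib.Helper5.UNI

open Cfsg.Lie Cfsg.Lie.ChevalleyDatum Cfsg.Agent.Lib.helper8 Cfsg.Agent.Lib.helper3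
  Cfsg.Agent.Lib.helper14

section Chevalley

universe u

variable {F : Type u} [Field F]

/-- the fundamental root `p_j`, `j ∈ J`, lies in `Φ_J` -/
theorem unig2c_simple_sub (D : ChevalleyDatum) (hBN : H8BN D) (hT : uniTabChk D = true)
    (J : Set ℕ) (j : ℕ) (hj : j < D.rank) (hjJ : j ∈ J) : D.InRootSub J (D.simple j) := by
  refine ⟨(h8simple_pos D hBN j hj).1, ?_⟩
  intro i hi hiJ
  unfold uniTabChk at hT
  simp only [Bool.and_eq_true, List.all_eq_true, List.mem_range, decide_eq_true_eq] at hT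
  have h := hT.1.2 j hj i hi
  rw [h, if_neg]
  intro hij
  exact hiJ (hij ▸ hjJ)

section PLevel

variable (D : ChevalleyDatum) (hB : H8Base.{u} D) (P : Cfsg.BNPair ↥(D.group F))
  (σ : ℕ → ↥(D.group F))

/-- `N_J ≤ N` -/
theorem unig2c_subN_le (hBN : H8BN D)
    (hPN : P.N = (D.monomialSubgroup F).subgroupOf (D.group F))
    (hσv : ∀ i, i < D.rank → ((σ i : ↥(D.group F)) : GL D.Idx F) = h8nU D hB (D.simple i) 1)
    (J : Finset ℕ) (hJ : ∀ j ∈ J, j < D.rank) : subN P (σ '' (J : Set ℕ)) ≤ P.N := by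
  unfold subN
  apply sup_le
  · rw [Subgroup.closure_le]
    rintro _ ⟨j, hj, rfl⟩
    have hjr := hJ j (Finset.mem_coe.1 hj)
    show σ j ∈ P.N
    rw [hPN, Subgroup.mem_subgroupOf, hσv j hjr]
    exact h8nU_mem_N D hB _ (h8simple_pos D hBN j hjr).1
  · exact inf_le_right

/-- G2c core: `uni_h2J` with the statement of G2a as a hypothesis -/
theorem unig2c_core (hA : H8ReflAll D) (hC : H8CommAll.{u} D) (hBN : H8BN D) (hW : H8BN2 D)
    (hO2 : H8Ord2 D) (hT : uniTabChk D = true)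
    (hPB : P.B = (D.borelSubgroup F).subgroupOf (D.group F))
    (hPN : P.N = (D.monomialSubgroup F).subgroupOf (D.group F))
    (hσv : ∀ i, i < D.rank → ((σ i : ↥(D.group F)) : GL D.Idx F) = h8nU D hB (D.simple i) 1)
    (J : Finset ℕ) (hJ : ∀ j ∈ J, j < D.rank) (w : List ℕ) (hw : IsLongWord D (J : Set ℕ) w)
    (n : ↥(D.group F)) (hn : (n : GL D.Idx F) = h8nWU D hB w)
    (hG2A : ∀ m : ↥(D.group F), m ∈ subN P (σ '' (J : Set ℕ)) →
      ∀ r : ℕ, D.InRootSub (J : Set ℕ) r →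
        ∃ r', D.InRootSub (J : Set ℕ) r' ∧ H8Act D hB (m : GL D.Idx F) r r') :
    ∀ m ∈ subN P (σ '' (J : Set ℕ)), (∀ j ∈ J, ¬ Pp P (σ j) m) → ∀ j ∈ J, Pp P (σ j) (m * n) := by
  intro m hm hall j hj
  have hjr := hJ j hj
  have hwr : ∀ i ∈ w, i < D.rank := fun i hi => (hw.1 i hi).1
  have hNG := h8_N_le_group (F := F) D hB
  have hmN : m ∈ P.N := unig2c_subN_le D hB P σ hBN hPN hσv J hJ hm
  have hnN : n ∈ P.N := by
    rw [hPN, Subgroup.mem_subgroupOf, hn]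
    exact h8nWU_mem_N D hB hA w hwr
  have hminv : m⁻¹ ∈ subN P (σ '' (J : Set ℕ)) := Subgroup.inv_mem _ hm
  obtain ⟨ρ, hρJ, hact0⟩ := hG2A m⁻¹ hminv (D.simple j)
    (unig2c_simple_sub D hBN hT (J : Set ℕ) j hjr (Finset.mem_coe.2 hj))
  have hact : H8Act D hB (m : GL D.Idx F)⁻¹ (D.simple j) ρ := by
    rw [Subgroup.coe_inv] at hact0
    exact hact0
  have hρlt : ρ < D.nroots := hρJ.1
  rcases h8posOrNeg D hB hBN.negOK hW.neglt ρ hρlt with hp | hn'
  · exact absurd (st_Pp_of_pos D hB P hPB hA hC hBN hPN j hjr (hσv j hjr) hmN ρ hact hp)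
      (hall j hj)
  · have hρneg : D.IsNegRoot ρ := by
      have := h8neg_of_pos D hB hO2 _ hn'
      rwa [(hO2.negneg ρ hρlt).2] at this
    have hact2 : H8Act D hB ((m * n : ↥(D.group F)) : GL D.Idx F)⁻¹ (D.simple j)
        (h8sW D w.reverse ρ) := by
      have e : ((m * n : ↥(D.group F)) : GL D.Idx F)⁻¹ =
          (h8nWU D hB w : GL D.Idx F)⁻¹ * (m : GL D.Idx F)⁻¹ := by
        rw [Subgroup.coe_mul, mul_inv_rev, hn]
      rw [e]
      exact h8act_mul D hB _ _ _ _ _ hact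
        (h8actN_act D hB _ _ _ (h8actN_word_inv D hB hA w hwr ρ hρlt))
    exact st_Pp_of_pos D hB P hPB hA hC hBN hPN j hjr (hσv j hjr) (P.N.mul_mem hmN hnN) _
      hact2 (hw.2.2.2.2 ρ hρneg hρJ)

end PLevel

end Chevalley

end Cfsg.Agent.Lib.Helper5.UNI
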