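import Mathlib
import Cfsg.Agent.Lib.Helper5.UNI.Defs
import Cfsg.Agent.Lib.Helper22.UNIG2Ccore
import Cfsg.Agent.Lib.Helper11.UNIG2A

/-!
# Project UNI (helper5, S2314), row G2C (`uni_h2J`), verbatim: `unig2c_core` + G2A.
-/

set_option autoImplicit false

namespace Cfsg.Agent.Lib.Helper5.UNI

open Cfsg.Lie Cfsg.Lie.ChevalleyDatum Cfsg.Agent.Lib.helper8 Cfsg.Agent.Lib.helper3
  Cfsg.Agent.Lib.helper14

section Chevalley

universe u

variable {F : Type u} [Field F]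

section PLevel

variable (D : ChevalleyDatum) (hB : H8Base.{u} D) (P : Cfsg.BNPair ↥(D.group F))
  (σ : ℕ → ↥(D.group F))

/-- G2c: an element of `N_J` all of whose `j ∈ J` are left descents becomes `J`-ascending after
right multiplication by `n_J` -/
theorem uni_h2J (hA : H8ReflAll D) (hC : H8CommAll.{u} D) (hBN : H8BN D) (hW : H8BN2 D)
    (hO2 : H8Ord2 D) (hT : uniTabChk D = true)
    (hPB : P.B = (D.borelSubgroup F).subgroupOf (D.group F))
    (hPN : P.N = (D.monomialSubgroup F).subgroupOf (D.group F))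
    (hσv : ∀ i, i < D.rank → ((σ i : ↥(D.group F)) : GL D.Idx F) = h8nU D hB (D.simple i) 1)
    (J : Finset ℕ) (hJ : ∀ j ∈ J, j < D.rank) (w : List ℕ) (hw : IsLongWord D (J : Set ℕ) w)
    (n : ↥(D.group F)) (hn : (n : GL D.Idx F) = h8nWU D hB w) :
    ∀ m ∈ subN P (σ '' (J : Set ℕ)), (∀ j ∈ J, ¬ Pp P (σ j) m) → ∀ j ∈ J, Pp P (σ j) (m * n) :=
  unig2c_core D hB P σ hA hC hBN hW hO2 hT hPB hPN hσv J hJ w hw n hn
    (fun m hm r hr => uni_subN_act D hB P σ hA hBN J hJ m hm hPB hPN hσv r hr)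

end PLevel

end Chevalley

end Cfsg.Agent.Lib.Helper5.UNI
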