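import Mathlib
import Cfsg.Agent.Lib.Helper5.UNI.Defs
import Cfsg.Agent.S2327

/-!
# Project UNI (helper5, S2314), row G6 (`uni_st_one`), verbatim.
-/

set_option autoImplicit false

namespace Cfsg.Agent.Lib.Helper5.UNI

open Cfsg.Lie Cfsg.Lie.ChevalleyDatum

section Chevalley

universe u

variable {F : Type u} [Field F]

theorem unig6_fpc_one {G : Type*} [Group G] (H : Subgroup G) :
    Cfsg.fixedPointCharacter H 1 = ((H.index : ℤ) : ℂ) := by
  unfold Cfsg.fixedPointCharacter
  rw [MulAction.fixedBy_one_eq_univ, Nat.card_congr (Equiv.Set.univ _)]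
  rw [Int.cast_natCast]
  rfl

/-- G6: the alternating sum of the indices of the standard parabolic subgroups is `q ^ N` -/
theorem uni_st_one [Fintype F] (D : ChevalleyDatum)
    (hD : D ∈ [chevG2, chevB2, chevD4, chevF4, chevE6, chevE7, chevE8]) :
    ∑ K ∈ (Finset.range D.rank).powerset, (-1 : ℤ) ^ K.card * ((D.parabolicIn F K).index : ℤ) =
      (Fintype.card F : ℤ) ^ (D.nroots / 2) := by
  have h := Cfsg.Agent.S2327.result (F := F) D hD
  unfold Cfsg.Lie.ChevalleyDatum.steinbergCharacter at h
  apply Int.cast_injective (α := ℂ)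
  rw [Int.cast_sum, Int.cast_pow, Int.cast_natCast, ← h]
  apply Finset.sum_congr rfl
  intro K _
  rw [unig6_fpc_one, Int.cast_mul, Int.cast_pow, Int.cast_neg, Int.cast_one]

end Chevalley

end Cfsg.Agent.Lib.Helper5.UNI
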