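import Mathlib
import Cfsg.Agent.Lib.Helper11.UNS.Defs

/-!
# Project UNS (helper11, S2316), row T1 (`B_eq_sup`), verbatim.
-/

set_option autoImplicit false

namespace Cfsg.Agent.Lib.Helper11.UNS

open Matrix Cfsg.Agent.Lib.helper14.SpBN Cfsg.Agent.Lib.helper3 Cfsg.Agent.Lib.helper14
  Cfsg.Agent.Lib.Helper5.UNI

universe u

variable {F : Type u} [Field F] {m : ℕ}

/-- T1 [S]  `b = (b * (diagSp b hb)⁻¹) * diagSp b hb` (`mul_diagSp_inv_mem`, `diagSp_mem`, SpBNk). -/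
theorem B_eq_sup : Bsp m F = Uup m F ⊔ (Bsp m F ⊓ Nsp m F) := by
  apply le_antisymm
  · intro b hb
    have e : b = (b * (diagSp b hb)⁻¹) * diagSp b hb := by group
    rw [e]
    exact Subgroup.mul_mem_sup (mul_diagSp_inv_mem b hb) (diagSp_mem b hb)
  · exact sup_le Uup_le_Bsp inf_le_left

end Cfsg.Agent.Lib.Helper11.UNS
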