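import Cfsg.Agent.Lib.helper6.UTP.Defs
import Cfsg.Agent.Lib.helper7.TP.MeetA
import Cfsg.Agent.Lib.Helper19.UTPKRON
import Cfsg.Agent.Lib.Helper24.UTPISOSUB

/-!
# Project UTP (S5670, leader helper6), piece ALG (helper22) :
`lamAu_add lamAu_neg lamAu_smul lamAu_conj` VERBATIM vs `helper6/UTP/Skel`; extras `utpalg_*`.
Port of `Helper20/TPALG.lean`.
-/

set_option autoImplicit false
set_option linter.unusedVariables false
set_option linter.unusedSectionVars false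

namespace Cfsg.Agent.Lib.helper6.UTP

open Matrix
open scoped Kronecker
open Cfsg.Agent.Lib.helper7.TP

variable {F : Type*} [Field F] {a b : ℕ}

/-- ALG1 [S] -/
theorem lamAu_add (σ : F ≃+* F) (M : Subgroup (Matrix.GeneralLinearGroup (Fin a × Fin b) F))
    (ζ ζ' : Matrix (Fin a) (Fin a) F) (h : LamAu σ M ζ) (h' : LamAu σ M ζ') : LamAu σ M (ζ + ζ') := by
  rw [LamAu_iff] at h h' ⊢
  intro w hψ
  have : EL (ζ + ζ') w (cj σ w) hψ = EL ζ w (cj σ w) hψ * EL ζ' w (cj σ w) hψ := by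
    apply Units.ext
    rw [Units.val_mul, EL_coe, EL_coe, EL_coe, ELm_mul_ELm _ _ _ _ hψ]
  rw [this]
  exact M.mul_mem (h w hψ) (h' w hψ)

/-- ALG2 [S] -/
theorem lamAu_neg (σ : F ≃+* F) (M : Subgroup (Matrix.GeneralLinearGroup (Fin a × Fin b) F))
    (ζ : Matrix (Fin a) (Fin a) F) (h : LamAu σ M ζ) : LamAu σ M (-ζ) := by
  rw [LamAu_iff] at h ⊢
  intro w hψ
  have : EL (-ζ) w (cj σ w) hψ = (EL ζ w (cj σ w) hψ)⁻¹ := by
    apply Units.ext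
    rfl
  rw [this]
  exact M.inv_mem (h w hψ)

/-- `ν • w` is isotropic when `w` is. -/
theorem utpalg_iso_smul (σ : F ≃+* F) (ν : F) (w : Fin b → F) (hw : cj σ w ⬝ᵥ w = 0) :
    cj σ (ν • w) ⬝ᵥ (ν • w) = 0 := by
  rw [cj_smul, smul_dotProduct, dotProduct_smul, hw, smul_zero, smul_zero]

/-- `ELm ζ (ν w) (ν w)* = ELm (ν σ(ν) ζ) w w*`. -/
theorem utpalg_ELm_smul (σ : F ≃+* F) (ν : F) (ζ : Matrix (Fin a) (Fin a) F) (w : Fin b → F) :
    ELm ζ (ν • w) (cj σ (ν • w)) = ELm ((ν * σ ν) • ζ) w (cj σ w) := by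
  rw [ELm, ELm, cj_smul, Matrix.smul_vecMulVec, Matrix.vecMulVec_smul, smul_smul,
    Matrix.kronecker_smul, Matrix.smul_kronecker]

/-- ALG3 [S-M] `Λ` is an `F₀`-space: `ELm ζ (ν w) (ν w)* = ELm (ν σ(ν) ζ) w w*` and the norm is onto `F₀`. -/
theorem lamAu_smul [Finite F] (σ : F ≃+* F) (hσ : Inv2 σ)
    (M : Subgroup (Matrix.GeneralLinearGroup (Fin a × Fin b) F)) (s : F) (hs : σ s = s)
    (ζ : Matrix (Fin a) (Fin a) F) (h : LamAu σ M ζ) : LamAu σ M (s • ζ) := by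
  obtain ⟨ν, hν⟩ := utpisosub_norm σ hσ s hs
  intro w g hw hg
  apply h (ν • w) g (utpalg_iso_smul σ ν w hw)
  rw [hg, utpalg_ELm_smul, hν]

/-- the element `α ⊗ 1` of `T0u`. -/
theorem utpalg_kron_one_mem (σ : F ≃+* F) (hσ : Inv2 σ)
    (α : Matrix.GeneralLinearGroup (Fin a) F) (hα : α ∈ GUm σ (Fin a))
    (hdet : (α : Matrix (Fin a) (Fin a) F).det = 1) :
    ∃ A : Matrix.GeneralLinearGroup (Fin a × Fin b) F, A ∈ T0u σ a b ∧
      (A : Matrix (Fin a × Fin b) (Fin a × Fin b) F) =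
        (α : Matrix (Fin a) (Fin a) F) ⊗ₖ (1 : Matrix (Fin b) (Fin b) F) := by
  have hd : ((α : Matrix (Fin a) (Fin a) F) ⊗ₖ (1 : Matrix (Fin b) (Fin b) F)).det = 1 := by
    rw [Matrix.det_kronecker, hdet, Matrix.det_one, one_pow, one_pow, one_mul]
  have hd0 : ((α : Matrix (Fin a) (Fin a) F) ⊗ₖ (1 : Matrix (Fin b) (Fin b) F)).det ≠ 0 := by
    rw [hd]; exact one_ne_zero
  refine ⟨Matrix.GeneralLinearGroup.mkOfDetNeZero _ hd0, ?_, rfl⟩
  refine kron_mem σ hσ α 1 hα (Subgroup.one_mem _) ?_ _ rfl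
  rw [hdet, one_pow, one_mul]
  change (1 : Matrix (Fin b) (Fin b) F).det ^ a = 1
  rw [Matrix.det_one, one_pow]

/-- ALG4 [S-M] conjugation by `α ⊗ 1 ∈ T0u`, `α ∈ SU_a`. -/
theorem lamAu_conj (σ : F ≃+* F) (hσ : Inv2 σ)
    (M : Subgroup (Matrix.GeneralLinearGroup (Fin a × Fin b) F)) (hTM : T0u σ a b ≤ M)
    (α : Matrix.GeneralLinearGroup (Fin a) F) (hα : α ∈ GUm σ (Fin a))
    (hdet : (α : Matrix (Fin a) (Fin a) F).det = 1)
    (ζ : Matrix (Fin a) (Fin a) F) (h : LamAu σ M ζ) :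
    LamAu σ M ((α : Matrix (Fin a) (Fin a) F) * ζ * ((α⁻¹ : Matrix.GeneralLinearGroup (Fin a) F) :
      Matrix (Fin a) (Fin a) F)) := by
  rw [LamAu_iff] at h ⊢
  intro w hψ
  obtain ⟨A, hAT, hAv⟩ := utpalg_kron_one_mem (b := b) σ hσ α hα hdet
  have hαi : ((α⁻¹ : Matrix.GeneralLinearGroup (Fin a) F) : Matrix (Fin a) (Fin a) F) *
      (α : Matrix (Fin a) (Fin a) F) = 1 := by
    rw [← Units.val_mul, inv_mul_cancel, Units.val_one]
  have : EL ((α : Matrix (Fin a) (Fin a) F) * ζ * ((α⁻¹ : Matrix.GeneralLinearGroup (Fin a) F) :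
      Matrix (Fin a) (Fin a) F)) w (cj σ w) hψ = A * EL ζ w (cj σ w) hψ * A⁻¹ := by
    rw [eq_mul_inv_iff_mul_eq]
    apply Units.ext
    rw [Units.val_mul, Units.val_mul, EL_coe, EL_coe, hAv, ELm, ELm, Matrix.add_mul, Matrix.mul_add,
      Matrix.one_mul, Matrix.mul_one, ← Matrix.mul_kronecker_mul, ← Matrix.mul_kronecker_mul,
      Matrix.mul_one, Matrix.one_mul, Matrix.mul_assoc, Matrix.mul_assoc, hαi, Matrix.mul_one]
  rw [this]
  exact M.mul_mem (M.mul_mem (hTM hAT) (h w hψ)) (M.inv_mem (hTM hAT))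

end Cfsg.Agent.Lib.helper6.UTP
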