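import Cfsg.Agent.Lib.helper6.UTP.Defs
import Cfsg.Agent.Lib.Helper24.UTPISOSUB

/-!
# Project UTP (S5670, leader helper6), piece FAR (helper22) : the core `utpfar_core` = `nt_le_far` with the
statements of MEET (`meet_u`) and NOISO (`no_iso_ker`) at the given `M` as hypotheses.
-/

set_option autoImplicit false
set_option linter.unusedVariables false
set_option linter.unusedSectionVars false

namespace Cfsg.Agent.Lib.helper6.UTP

open Matrix
open scoped Kronecker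
open Cfsg.Agent.Lib.helper7.TP

variable {F : Type*} [Field F] {a b : ℕ}

theorem utpfar_ten_ne_zero {u : Fin a → F} {w : Fin b → F} (hu : u ≠ 0) (hw : w ≠ 0) :
    ten u w ≠ 0 := by
  obtain ⟨i, hi⟩ := Function.ne_iff.1 hu
  obtain ⟨j, hj⟩ := Function.ne_iff.1 hw
  intro h
  have h1 := congrFun h (i, j)
  simp only [ten, Pi.zero_apply] at h1 hi hj
  rcases mul_eq_zero.1 h1 with h2 | h2
  · exact hi h2
  · exact hj h2

theorem utpfar_ten_zero_left (w : Fin b → F) : ten (0 : Fin a → F) w = 0 := by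
  funext p
  simp [ten]

/-- FAR, with MEET and NOISO as hypotheses. -/
theorem utpfar_core [Finite F] (σ : F ≃+* F) (hσ : Inv2 σ)
    (ha : 1 ≤ a) (hab : a + 2 ≤ b)
    (M : Subgroup (Matrix.GeneralLinearGroup (Fin a × Fin b) F))
    (hmeet : ∀ (g : Matrix.GeneralLinearGroup (Fin a × Fin b) F), g ∈ M → g ∉ K0 a b F →
      ∀ (w₀ : Fin b → F), w₀ ≠ 0 → cj σ w₀ ⬝ᵥ w₀ = 0 →
      ∀ (w : Fin b → F), w ≠ 0 → cj σ w ⬝ᵥ w = 0 → ∀ (u : Fin a → F),
      ctr (cj σ w₀) (((g⁻¹ : Matrix.GeneralLinearGroup (Fin a × Fin b) F) :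
        Matrix (Fin a × Fin b) (Fin a × Fin b) F) *ᵥ ten u w) = 0 →
      ∃ u₀ : Fin a → F,
        ten u w = (g : Matrix (Fin a × Fin b) (Fin a × Fin b) F) *ᵥ ten u₀ w₀)
    (hnoiso : ∀ (g : Matrix.GeneralLinearGroup (Fin a × Fin b) F), g ∈ M → g ∉ K0 a b F →
      ∀ (w₀ : Fin b → F), w₀ ≠ 0 → cj σ w₀ ⬝ᵥ w₀ = 0 → ∀ (u₀ : Fin a → F), u₀ ≠ 0 →
      ∀ (w : Fin b → F), w ≠ 0 → cj σ w ⬝ᵥ w = 0 →
      ctr (cj σ w) ((g : Matrix (Fin a × Fin b) (Fin a × Fin b) F) *ᵥ ten u₀ w₀) ≠ 0) :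
    M ≤ K0 a b F := by
  classical
  intro g hg
  by_contra hgK
  -- an isotropic `w₀`
  obtain ⟨w₀, -, hw₀, h₀⟩ := exists_iso_in σ hσ (⊤ : Submodule F (Fin b → F)) (by
    rw [finrank_top, Module.finrank_fin_fun]; omega)
  -- `u ≠ 0`
  set u : Fin a → F := Pi.single ⟨0, ha⟩ 1 with hu
  have hu0 : u ≠ 0 := by
    intro h
    have := congrFun h ⟨0, ha⟩
    simp [hu] at this
  -- the map `w ↦ ctr w₀* (g⁻¹ (u ⊗ w))`
  let L : (Fin b → F) →ₗ[F] (Fin a → F) :=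
    { toFun := fun w => ctr (cj σ w₀) (((g⁻¹ : Matrix.GeneralLinearGroup (Fin a × Fin b) F) :
        Matrix (Fin a × Fin b) (Fin a × Fin b) F) *ᵥ ten u w)
      map_add' := by
        intro w w'
        rw [ten_add_right, Matrix.mulVec_add, ctr_add]
      map_smul' := by
        intro c w
        rw [ten_smul_right, Matrix.mulVec_smul, ctr_smul, RingHom.id_apply] }
  have hL : ∀ w, L w = ctr (cj σ w₀) (((g⁻¹ : Matrix.GeneralLinearGroup (Fin a × Fin b) F) :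
        Matrix (Fin a × Fin b) (Fin a × Fin b) F) *ᵥ ten u w) := fun w => rfl
  have hker : 2 ≤ Module.finrank F (LinearMap.ker L) := by
    have h1 := LinearMap.finrank_range_add_finrank_ker L
    have h2 : Module.finrank F (LinearMap.range L) ≤ a := by
      have := Submodule.finrank_le (LinearMap.range L)
      rwa [Module.finrank_fin_fun] at this
    rw [Module.finrank_fin_fun] at h1
    omega
  obtain ⟨w, hwk, hw, h⟩ := exists_iso_in σ hσ (LinearMap.ker L) hker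
  have hv : ctr (cj σ w₀) (((g⁻¹ : Matrix.GeneralLinearGroup (Fin a × Fin b) F) :
      Matrix (Fin a × Fin b) (Fin a × Fin b) F) *ᵥ ten u w) = 0 := by
    rw [← hL]; exact LinearMap.mem_ker.mp hwk
  obtain ⟨u₀, hu₀⟩ := hmeet g hg hgK w₀ hw₀ h₀ w hw h u hv
  have hu₀0 : u₀ ≠ 0 := by
    intro h0
    rw [h0, utpfar_ten_zero_left, Matrix.mulVec_zero] at hu₀
    exact utpfar_ten_ne_zero hu0 hw hu₀
  apply hnoiso g hg hgK w₀ hw₀ h₀ u₀ hu₀0 w hw h
  rw [← hu₀, ctr_ten, h, zero_smul]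

end Cfsg.Agent.Lib.helper6.UTP
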