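import Mathlib
import Cfsg.Prelude.Def_GeometricClasses
import Cfsg.Agent.Lib.Helper27.ASC.Defs
import Cfsg.Agent.Lib.Lead.ASCU.Defs
import Cfsg.Agent.Lib.helper2.UXDefs
import Cfsg.Agent.Lib.Helper19.ASU.Defs
import Cfsg.Agent.Lib.Helper19.ASUADJ
import Cfsg.Agent.Lib.Helper24.UXFLD62.Defs

set_option autoImplicit false
set_option linter.unusedVariables false
set_option linter.unusedSectionVars false

/-!
# Project UX, piece FLD62-NORM (helper22) : the normaliser of `K` in `GU` permutes the hyperbolic pairs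

`fld62_norm_pair`, `fld62_norm_V0`, verbatim vs `Helper24/UXFLD62/Skel.lean.txt`.
-/

namespace Cfsg.Agent.Lib.helper2.UX

open Cfsg Cfsg.Geo Cfsg.Agent.Lib.Helper27.ASC Cfsg.Agent.Lib.Lead.ASCU Cfsg.Agent.Lib.Helper19.ASU
open scoped MatrixGroups Matrix

variable {F : Type*} [Field F] [Fintype F]

theorem uxfld62norm_inv_mul (g : GL (Fin 6) F) :
    ((g⁻¹ : GL (Fin 6) F) : Matrix (Fin 6) (Fin 6) F) * (g : Matrix (Fin 6) (Fin 6) F) = 1 := by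
  rw [← Units.val_mul, inv_mul_cancel, Units.val_one]

theorem uxfld62norm_mul_inv (g : GL (Fin 6) F) :
    (g : Matrix (Fin 6) (Fin 6) F) * ((g⁻¹ : GL (Fin 6) F) : Matrix (Fin 6) (Fin 6) F) = 1 := by
  rw [← Units.val_mul, mul_inv_cancel, Units.val_one]

/-- `g⁻¹ k g ∈ K` for `g ∈ N(K)` -/
theorem uxfld62norm_conj_inv_mem (K : Subalgebra F (Matrix (Fin 6) (Fin 6) F)) (g : GL (Fin 6) F)
    (hgN : g ∈ subalgebraNormalizer K) (k : Matrix (Fin 6) (Fin 6) F) (hk : k ∈ K) :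
    ((g⁻¹ : GL (Fin 6) F) : Matrix (Fin 6) (Fin 6) F) * k * (g : Matrix (Fin 6) (Fin 6) F) ∈ K := by
  have h := ((subalgebraNormalizer K).inv_mem hgN) k
  rw [inv_inv] at h
  exact h.1 hk

/-- `g k g⁻¹ ∈ K` for `g ∈ N(K)` -/
theorem uxfld62norm_conj_mem (K : Subalgebra F (Matrix (Fin 6) (Fin 6) F)) (g : GL (Fin 6) F)
    (hgN : g ∈ subalgebraNormalizer K) (k : Matrix (Fin 6) (Fin 6) F) (hk : k ∈ K) :
    (g : Matrix (Fin 6) (Fin 6) F) * k * ((g⁻¹ : GL (Fin 6) F) : Matrix (Fin 6) (Fin 6) F) ∈ K :=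
  (hgN k).1 hk

/-- `k (g u) = g ((g⁻¹ k g) u)` -/
theorem uxfld62norm_move (g : GL (Fin 6) F) (k : Matrix (Fin 6) (Fin 6) F) (u : Fin 6 → F) :
    k *ᵥ ((g : Matrix (Fin 6) (Fin 6) F) *ᵥ u) =
      (g : Matrix (Fin 6) (Fin 6) F) *ᵥ
        ((((g⁻¹ : GL (Fin 6) F) : Matrix (Fin 6) (Fin 6) F) * k * (g : Matrix (Fin 6) (Fin 6) F)) *ᵥ u) := by
  rw [Matrix.mulVec_mulVec, Matrix.mulVec_mulVec, ← mul_assoc, ← mul_assoc, uxfld62norm_mul_inv, one_mul]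

/-- `(g⁻¹ k g)* = g⁻¹ k* g` for `g ∈ GU` -/
theorem uxfld62norm_adj_conj_inv (hF2 : Fintype.card F = 2 ^ 2) (g : GL (Fin 6) F) (hgU : g ∈ GU 6 F 2)
    (k : Matrix (Fin 6) (Fin 6) F) :
    uadj 2 (((g⁻¹ : GL (Fin 6) F) : Matrix (Fin 6) (Fin 6) F) * k * (g : Matrix (Fin 6) (Fin 6) F)) =
      ((g⁻¹ : GL (Fin 6) F) : Matrix (Fin 6) (Fin 6) F) * uadj 2 k * (g : Matrix (Fin 6) (Fin 6) F) := by
  rw [uadj_mul hF2, uadj_mul hF2, uadj_of_mem hF2 hgU, uadj_of_mem hF2 ((GU 6 F 2).inv_mem hgU), inv_inv, mul_assoc]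

/-- `(g k g⁻¹)* = g k* g⁻¹` for `g ∈ GU` -/
theorem uxfld62norm_adj_conj (hF2 : Fintype.card F = 2 ^ 2) (g : GL (Fin 6) F) (hgU : g ∈ GU 6 F 2)
    (k : Matrix (Fin 6) (Fin 6) F) :
    uadj 2 ((g : Matrix (Fin 6) (Fin 6) F) * k * ((g⁻¹ : GL (Fin 6) F) : Matrix (Fin 6) (Fin 6) F)) =
      (g : Matrix (Fin 6) (Fin 6) F) * uadj 2 k * ((g⁻¹ : GL (Fin 6) F) : Matrix (Fin 6) (Fin 6) F) := by
  rw [uadj_mul hF2, uadj_mul hF2, uadj_of_mem hF2 hgU, uadj_of_mem hF2 ((GU 6 F 2).inv_mem hgU), inv_inv, mul_assoc]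

/-- NORM : `g ∈ N(K) ⊓ GU` maps hyperbolic pairs to hyperbolic pairs. -/
theorem fld62_norm_pair (hF : Fintype.card F = 4) (K : Subalgebra F (Matrix (Fin 6) (Fin 6) F))
    (hK : IsFieldSubalgebra 3 K) (hstar : ∀ k ∈ K, uadj 2 k ∈ K) {u w : Fin 6 → F} (hp : Fld62Pair K u w)
    (g : GL (Fin 6) F) (hgN : g ∈ subalgebraNormalizer K) (hgU : g ∈ GU 6 F 2) :
    Fld62Pair K ((g : Matrix (Fin 6) (Fin 6) F) *ᵥ u) ((g : Matrix (Fin 6) (Fin 6) F) *ᵥ w) := by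
  have hF2 : Fintype.card F = 2 ^ 2 := by rw [hF]; norm_num
  have hiso : ∀ a b : Fin 6 → F, hermForm 6 F 2 ((g : Matrix (Fin 6) (Fin 6) F) *ᵥ a)
      ((g : Matrix (Fin 6) (Fin 6) F) *ᵥ b) = hermForm 6 F 2 a b := fun a b => hgU a b
  refine ⟨?_, ?_, ?_, ?_⟩
  · intro k hk
    rw [uxfld62norm_move, hiso]
    exact hp.iso_u _ (uxfld62norm_conj_inv_mem K g hgN k hk)
  · intro k hk
    rw [uxfld62norm_move, hiso]
    exact hp.iso_w _ (uxfld62norm_conj_inv_mem K g hgN k hk)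
  · intro k hk
    rw [uxfld62norm_move, hiso, uxfld62norm_move g k, hiso, ← uxfld62norm_adj_conj_inv hF2 g hgU]
    exact hp.symm _ (uxfld62norm_conj_inv_mem K g hgN k hk)
  · rw [hiso]
    exact hp.one

/-- NORM : `g (a u + b w) = (g a g⁻¹) g u + (g b g⁻¹) g w`. -/
theorem fld62_norm_V0 (hF : Fintype.card F = 4) (K : Subalgebra F (Matrix (Fin 6) (Fin 6) F))
    (hK : IsFieldSubalgebra 3 K) (hstar : ∀ k ∈ K, uadj 2 k ∈ K) (u w : Fin 6 → F)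
    (g : GL (Fin 6) F) (hgN : g ∈ subalgebraNormalizer K) (hgU : g ∈ GU 6 F 2) :
    ∀ v ∈ fld62V0 K u w, (g : Matrix (Fin 6) (Fin 6) F) *ᵥ v ∈
      fld62V0 K ((g : Matrix (Fin 6) (Fin 6) F) *ᵥ u) ((g : Matrix (Fin 6) (Fin 6) F) *ᵥ w) := by
  have hF2 : Fintype.card F = 2 ^ 2 := by rw [hF]; norm_num
  rintro v ⟨a, ha, b, hb, rfl⟩
  have hmem : ∀ c ∈ fld62K0 K,
      (g : Matrix (Fin 6) (Fin 6) F) * c * ((g⁻¹ : GL (Fin 6) F) : Matrix (Fin 6) (Fin 6) F) ∈ fld62K0 K := by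
    intro c hc
    refine ⟨uxfld62norm_conj_mem K g hgN c hc.1, ?_⟩
    rw [uxfld62norm_adj_conj hF2 g hgU, hc.2]
  have hmove : ∀ (c : Matrix (Fin 6) (Fin 6) F) (z : Fin 6 → F),
      (g : Matrix (Fin 6) (Fin 6) F) *ᵥ (c *ᵥ z) =
        ((g : Matrix (Fin 6) (Fin 6) F) * c * ((g⁻¹ : GL (Fin 6) F) : Matrix (Fin 6) (Fin 6) F)) *ᵥ
          ((g : Matrix (Fin 6) (Fin 6) F) *ᵥ z) := by
    intro c z
    rw [Matrix.mulVec_mulVec, Matrix.mulVec_mulVec, mul_assoc, uxfld62norm_inv_mul, mul_one]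
  refine ⟨_, hmem a ha, _, hmem b hb, ?_⟩
  rw [Matrix.mulVec_add, hmove a u, hmove b w]

end Cfsg.Agent.Lib.helper2.UX
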