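import Mathlib
import Cfsg.Prelude.Def_GeometricClasses
import Cfsg.Agent.Lib.Helper27.ASC.Defs
import Cfsg.Agent.Lib.Lead.ASCU.Defs
import Cfsg.Agent.Lib.helper2.UXDefs
import Cfsg.Agent.Lib.Helper19.ASU.Defs
import Cfsg.Agent.Lib.Helper19.ASUADJ
import Cfsg.Agent.Lib.Helper24.UXFLD62.Defs
import Cfsg.Agent.Lib.Helper1.ASGCLIF4

set_option autoImplicit false
set_option linter.unusedVariables false
set_option linter.unusedSectionVars false

/-!
# Project UX, piece FLD62-POLAR (helper22) : core, with the K0A / K0B / COORD statements as hypotheses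

`uxfld62polar_core` : the conclusion of `fld62_polar` from `fld62_K0_sqrt`, `fld62_ell_nondeg`, `fld62_form`, `fld62_coord_surj`
(as hypotheses, for the pair `(u, w)`).  `uxfld62polar_abs` : the algebra in a field of characteristic 2 with an involution.
-/

namespace Cfsg.Agent.Lib.helper2.UX

open Cfsg Cfsg.Geo Cfsg.Agent.Lib.Helper27.ASC Cfsg.Agent.Lib.Lead.ASCU Cfsg.Agent.Lib.Helper19.ASU
open scoped MatrixGroups Matrix

/-- polar decomposition in a field with an involution whose fixed field is closed under square roots -/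
theorem uxfld62polar_decomp {L : Type*} [Field L] (σ : L →+* L) (hσ : ∀ z, σ (σ z) = z)
    (hsqrt : ∀ d, σ d = d → ∃ e, σ e = e ∧ e * e = d) (z : L) (hz : z ≠ 0) :
    ∃ κ e : L, σ κ * κ = 1 ∧ σ e = e ∧ e ≠ 0 ∧ z = κ * e := by
  have hσz : σ z ≠ 0 := by
    intro h
    apply hz
    rw [← hσ z, h, map_zero]
  obtain ⟨e, he, hee⟩ := hsqrt (z * σ z) (by rw [map_mul, hσ, mul_comm])
  have he0 : e ≠ 0 := by
    intro h
    rw [h, mul_zero] at hee
    exact mul_ne_zero hz hσz hee.symm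
  refine ⟨z / e, e, ?_, he, he0, ?_⟩
  · rw [map_div₀, he]
    field_simp
    rw [sq, hee, mul_comm]
  · field_simp

/-- the pair lemma -/
theorem uxfld62polar_pair {L : Type*} [Field L] (h2 : (2 : L) = 0) (σ : L →+* L) (hσ : ∀ z, σ (σ z) = z)
    (hsqrt : ∀ d, σ d = d → ∃ e, σ e = e ∧ e * e = d) (α β : L) (hne : α ≠ 0 ∨ β ≠ 0)
    (h : α * σ β + β * σ α = 0) :
    ∃ κ a b : L, σ κ * κ = 1 ∧ σ a = a ∧ σ b = b ∧ α = κ * a ∧ β = κ * b := by
  by_cases hα : α = 0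
  · have hβ : β ≠ 0 := by
      rcases hne with h' | h'
      · exact absurd hα h'
      · exact h'
    obtain ⟨κ, e, hκ, he, he0, hz⟩ := uxfld62polar_decomp σ hσ hsqrt β hβ
    exact ⟨κ, 0, e, hκ, map_zero σ, he, by rw [hα, mul_zero], hz⟩
  · obtain ⟨κ, e, hκ, he, he0, hz⟩ := uxfld62polar_decomp σ hσ hsqrt α hα
    have hκ0 : κ ≠ 0 := by
      intro h0
      rw [h0, mul_zero] at hκ
      exact zero_ne_one hκ
    have hneg : ∀ t : L, -t = t := by
      intro t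
      have : t + t = 0 := by linear_combination t * h2
      linear_combination -this
    -- `κ σβ = β σκ`
    have hkey : κ * σ β = β * σ κ := by
      have h1 : α * σ β = β * σ α := by
        have := hneg (β * σ α)
        linear_combination h + this
      rw [hz, map_mul, he] at h1
      have h3 : e * (κ * σ β) = e * (β * σ κ) := by linear_combination h1
      exact mul_left_cancel₀ he0 h3
    refine ⟨κ, e, β * σ κ, hκ, he, ?_, hz, ?_⟩
    · rw [map_mul, hσ, mul_comm, hkey]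
    · linear_combination (-β) * hκ

/-- POLAR, abstract form -/
theorem uxfld62polar_abs {L : Type*} [Field L] (h2 : (2 : L) = 0) (σ : L →+* L) (hσ : ∀ z, σ (σ z) = z)
    (hsqrt : ∀ d, σ d = d → ∃ e, σ e = e ∧ e * e = d)
    (α β γ δ : L) (h1 : α * σ β + β * σ α = 0) (h1' : γ * σ δ + δ * σ γ = 0)
    (hc : σ (α * σ δ + β * σ γ) = α * σ δ + β * σ γ) (hc0 : α * σ δ + β * σ γ ≠ 0) :
    ∃ κ a b a' b' : L, σ κ * κ = 1 ∧ σ a = a ∧ σ b = b ∧ σ a' = a' ∧ σ b' = b' ∧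
      α = κ * a ∧ β = κ * b ∧ γ = κ * a' ∧ δ = κ * b' := by
  have hne : α ≠ 0 ∨ β ≠ 0 := by
    by_contra hcon
    push Not at hcon
    apply hc0
    rw [hcon.1, hcon.2, zero_mul, zero_mul, add_zero]
  have hne' : γ ≠ 0 ∨ δ ≠ 0 := by
    by_contra hcon
    push Not at hcon
    apply hc0
    rw [hcon.1, hcon.2, map_zero, mul_zero, mul_zero, add_zero]
  obtain ⟨κ, a, b, hκ, ha, hb, hα, hβ⟩ := uxfld62polar_pair h2 σ hσ hsqrt α β hne h1
  obtain ⟨κ', a', b', hκ', ha', hb', hγ, hδ⟩ := uxfld62polar_pair h2 σ hσ hsqrt γ δ hne' h1'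
  have hneg : ∀ t : L, -t = t := by
    intro t
    have : t + t = 0 := by linear_combination t * h2
    linear_combination -this
  set t := κ * σ κ' with ht
  set m := a * b' + b * a' with hm
  have hcm : α * σ δ + β * σ γ = t * m := by
    rw [hα, hβ, hγ, hδ, map_mul, map_mul, hb', ha']
    ring
  have hσm : σ m = m := by
    rw [hm, map_add, map_mul, map_mul, ha, hb, ha', hb']
  rw [hcm] at hc hc0
  have hm0 : m ≠ 0 := right_ne_zero_of_mul hc0
  have ht0 : t ≠ 0 := left_ne_zero_of_mul hc0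
  have hσt : σ t = t := by
    rw [map_mul, hσm] at hc
    exact mul_right_cancel₀ hm0 hc
  have hnorm : σ t * t = 1 := by
    rw [ht, map_mul, hσ]
    calc σ κ * κ' * (κ * σ κ') = (σ κ * κ) * (σ κ' * κ') := by ring
      _ = 1 := by rw [hκ, hκ', one_mul]
  have ht1 : t = 1 := by
    rw [hσt] at hnorm
    have h3 : (t + 1) * (t + 1) = 0 := by linear_combination hnorm + (t + 1) * h2
    have h4 : t + 1 = 0 := by
      rcases mul_eq_zero.mp h3 with h | h <;> exact h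
    have := hneg 1
    linear_combination h4 + this
  have hκκ' : κ' = κ := by
    have : κ * (σ κ' * κ') = t * κ' := by rw [ht]; ring
    rw [hκ', ht1, mul_one, one_mul] at this
    exact this.symm
  refine ⟨κ, a, b, a', b', hκ, ha, hb, ha', hb', hα, hβ, ?_, ?_⟩
  · rw [hγ, hκκ']
  · rw [hδ, hκκ']

variable {F : Type*} [Field F] [Fintype F]

/-- POLAR, core : the conclusion of `fld62_polar` from the statements of `fld62_K0_sqrt`, `fld62_ell_nondeg`, `fld62_form`,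
`fld62_coord_surj` for the pair `(u, w)`. -/
theorem uxfld62polar_core (hF : Fintype.card F = 4) (K : Subalgebra F (Matrix (Fin 6) (Fin 6) F))
    (hK : IsFieldSubalgebra 3 K) (hstar : ∀ k ∈ K, uadj 2 k ∈ K) {u w x y : Fin 6 → F}
    (hp : Fld62Pair K u w) (hp' : Fld62Pair K x y)
    (hsqrt : ∀ d ∈ fld62K0 K, ∃ e ∈ fld62K0 K, e * e = d)
    (hnondeg : ∀ c : Matrix (Fin 6) (Fin 6) F, c ∈ K →
      (∀ k ∈ K, hermForm 6 F 2 ((k * c) *ᵥ u) w = 0) → c = 0)
    (hform : ∀ α β γ δ : Matrix (Fin 6) (Fin 6) F, α ∈ K → β ∈ K → γ ∈ K → δ ∈ K →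
      hermForm 6 F 2 (α *ᵥ u + β *ᵥ w) (γ *ᵥ u + δ *ᵥ w) =
        hermForm 6 F 2 ((α * uadj 2 δ + β * uadj 2 γ) *ᵥ u) w)
    (hsurj : ∀ z : Fin 6 → F, ∃ a ∈ K, ∃ b ∈ K, z = a *ᵥ u + b *ᵥ w) :
    ∃ κ ∈ K, uadj 2 κ * κ = 1 ∧ (∃ v ∈ fld62V0 K u w, x = κ *ᵥ v) ∧ (∃ v ∈ fld62V0 K u w, y = κ *ᵥ v) := by
  classical
  have hF2 : Fintype.card F = 2 ^ 2 := by rw [hF]; norm_num
  have h2F : (2 : F) = 0 := by
    have h4 : ((Fintype.card F : ℕ) : F) = 0 := FiniteField.cast_card_eq_zero F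
    rw [hF] at h4
    have h5 : (2 : F) * 2 = 0 := by
      have : ((4 : ℕ) : F) = 2 * 2 := by norm_num
      rw [← this]
      exact h4
    rcases mul_eq_zero.mp h5 with h | h <;> exact h
  let _instK : Field K := (asgclif_isField K hK (by norm_num)).toField
  -- the involution on `K`
  let σ : K →+* K :=
    { toFun := fun z => ⟨uadj 2 (z : Matrix (Fin 6) (Fin 6) F), hstar _ z.2⟩
      map_one' := by
        apply Subtype.ext
        show uadj 2 (1 : Matrix (Fin 6) (Fin 6) F) = 1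
        exact uadj_one hF2
      map_mul' := by
        intro a b
        apply Subtype.ext
        show uadj 2 ((a : Matrix (Fin 6) (Fin 6) F) * (b : Matrix (Fin 6) (Fin 6) F)) =
          uadj 2 (a : Matrix (Fin 6) (Fin 6) F) * uadj 2 (b : Matrix (Fin 6) (Fin 6) F)
        rw [uadj_mul hF2]
        exact hK.comm _ (hstar _ b.2) _ (hstar _ a.2)
      map_zero' := by
        apply Subtype.ext
        show uadj 2 (0 : Matrix (Fin 6) (Fin 6) F) = 0
        exact uadj_zero hF2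
      map_add' := by
        intro a b
        apply Subtype.ext
        show uadj 2 ((a : Matrix (Fin 6) (Fin 6) F) + (b : Matrix (Fin 6) (Fin 6) F)) =
          uadj 2 (a : Matrix (Fin 6) (Fin 6) F) + uadj 2 (b : Matrix (Fin 6) (Fin 6) F)
        exact uadj_add hF2 _ _ }
  have hσcoe : ∀ z : K, ((σ z : K) : Matrix (Fin 6) (Fin 6) F) = uadj 2 (z : Matrix (Fin 6) (Fin 6) F) := fun z => rfl
  have hσσ : ∀ z : K, σ (σ z) = z := by
    intro z
    apply Subtype.ext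
    rw [hσcoe, hσcoe, uadj_uadj hF2]
  have h2K : (2 : K) = 0 := by
    rw [← one_add_one_eq_two]
    apply Subtype.ext
    show (1 : Matrix (Fin 6) (Fin 6) F) + 1 = 0
    rw [← two_smul F (1 : Matrix (Fin 6) (Fin 6) F), h2F, zero_smul]
  have hsqrtK : ∀ d : K, σ d = d → ∃ e : K, σ e = e ∧ e * e = d := by
    intro d hd
    have hd0 : (d : Matrix (Fin 6) (Fin 6) F) ∈ fld62K0 K := by
      refine ⟨d.2, ?_⟩
      rw [← hσcoe, hd]
    obtain ⟨e, he, hee⟩ := hsqrt _ hd0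
    refine ⟨⟨e, he.1⟩, ?_, ?_⟩
    · apply Subtype.ext
      rw [hσcoe]
      exact he.2
    · apply Subtype.ext
      exact hee
  -- the functional `ℓ`
  set ℓ : Matrix (Fin 6) (Fin 6) F → F := fun k => hermForm 6 F 2 (k *ᵥ u) w with hℓ
  have hℓadd : ∀ A B : Matrix (Fin 6) (Fin 6) F, ℓ (A + B) = ℓ A + ℓ B := by
    intro A B
    show hermForm 6 F 2 ((A + B) *ᵥ u) w = hermForm 6 F 2 (A *ᵥ u) w + hermForm 6 F 2 (B *ᵥ u) w
    rw [Matrix.add_mulVec, Cfsg.Agent.Lib.Helper28.Herm.herm_add_left]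
  -- coordinates
  obtain ⟨α, hα, β, hβ, hx⟩ := hsurj x
  obtain ⟨γ, hγ, δ, hδ, hy⟩ := hsurj y
  have hkx : ∀ k : Matrix (Fin 6) (Fin 6) F, k *ᵥ x = (k * α) *ᵥ u + (k * β) *ᵥ w := by
    intro k
    rw [hx, Matrix.mulVec_add, Matrix.mulVec_mulVec, Matrix.mulVec_mulVec]
  have hky : ∀ k : Matrix (Fin 6) (Fin 6) F, k *ᵥ y = (k * γ) *ᵥ u + (k * δ) *ᵥ w := by
    intro k
    rw [hy, Matrix.mulVec_add, Matrix.mulVec_mulVec, Matrix.mulVec_mulVec]
  -- (1) `α β* + β α* = 0`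
  have c1 : α * uadj 2 β + β * uadj 2 α = 0 := by
    apply hnondeg _ (K.add_mem (K.mul_mem hα (hstar _ hβ)) (K.mul_mem hβ (hstar _ hα)))
    intro k hk
    have h := hp'.iso_u k hk
    rw [hkx k] at h
    rw [hx] at h
    rw [hform _ _ _ _ (K.mul_mem hk hα) (K.mul_mem hk hβ) hα hβ] at h
    rw [← h]
    congr 2
    rw [mul_add, mul_assoc, mul_assoc]
  -- (2) `γ δ* + δ γ* = 0`
  have c2 : γ * uadj 2 δ + δ * uadj 2 γ = 0 := by
    apply hnondeg _ (K.add_mem (K.mul_mem hγ (hstar _ hδ)) (K.mul_mem hδ (hstar _ hγ)))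
    intro k hk
    have h := hp'.iso_w k hk
    rw [hky k] at h
    rw [hy] at h
    rw [hform _ _ _ _ (K.mul_mem hk hγ) (K.mul_mem hk hδ) hγ hδ] at h
    rw [← h]
    congr 2
    rw [mul_add, mul_assoc, mul_assoc]
  -- (3) `c = α δ* + β γ*`
  set c : Matrix (Fin 6) (Fin 6) F := α * uadj 2 δ + β * uadj 2 γ with hcdef
  have hcK : c ∈ K := K.add_mem (K.mul_mem hα (hstar _ hδ)) (K.mul_mem hβ (hstar _ hγ))
  have hkxy : ∀ k ∈ K, hermForm 6 F 2 (k *ᵥ x) y = ℓ (k * c) := by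
    intro k hk
    rw [hkx k]
    rw [hy]
    rw [hform _ _ _ _ (K.mul_mem hk hα) (K.mul_mem hk hβ) hγ hδ]
    show _ = hermForm 6 F 2 ((k * c) *ᵥ u) w
    congr 2
    rw [hcdef, mul_add, mul_assoc, mul_assoc]
  have c3 : uadj 2 c = c := by
    have hzero : c + uadj 2 c = 0 := by
      apply hnondeg _ (K.add_mem hcK (hstar _ hcK))
      intro k hk
      -- use `k*`
      have hk' := hstar k hk
      have h := hp'.symm (uadj 2 k) hk'
      rw [uadj_uadj hF2, hkxy k hk, hkxy _ hk'] at h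
      have h3 := hp.symm (uadj 2 k * c) (K.mul_mem hk' hcK)
      rw [uadj_mul hF2, uadj_uadj hF2] at h3
      -- h : ℓ (k c) = (ℓ (k* c))^2 ; h3 : ℓ (c* k) = (ℓ (k* c))^2
      have h4 : ℓ (k * c) = ℓ (uadj 2 c * k) := by rw [h]; exact h3.symm
      have h5 : uadj 2 c * k = k * uadj 2 c := hK.comm _ (hstar _ hcK) _ hk
      rw [h5] at h4
      show ℓ (k * (c + uadj 2 c)) = 0
      rw [mul_add, hℓadd, h4]
      have : ℓ (k * uadj 2 c) + ℓ (k * uadj 2 c) = 2 * ℓ (k * uadj 2 c) := by ring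
      rw [this, h2F, zero_mul]
    have hneg : -uadj 2 c = uadj 2 c := by
      have : uadj 2 c + uadj 2 c = 0 := by
        rw [← two_smul F (uadj 2 c), h2F, zero_smul]
      exact neg_eq_of_add_eq_zero_left this
    have h6 : c = -uadj 2 c := eq_neg_of_add_eq_zero_left hzero
    rw [hneg] at h6
    exact h6.symm
  have c4 : c ≠ 0 := by
    intro h0
    have h := hp'.one
    have h1 := hkxy 1 K.one_mem
    rw [Matrix.one_mulVec, one_mul, h0] at h1
    rw [h1] at h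
    have : ℓ 0 = 0 := by
      show hermForm 6 F 2 ((0 : Matrix (Fin 6) (Fin 6) F) *ᵥ u) w = 0
      rw [Matrix.zero_mulVec, Cfsg.Agent.Lib.Helper28.Herm.herm_zero_left]
    rw [this] at h
    exact zero_ne_one h
  -- apply the abstract lemma
  have habs := uxfld62polar_abs h2K σ hσσ hsqrtK ⟨α, hα⟩ ⟨β, hβ⟩ ⟨γ, hγ⟩ ⟨δ, hδ⟩
    (by apply Subtype.ext; exact c1) (by apply Subtype.ext; exact c2)
    (by apply Subtype.ext; exact c3)
    (by intro h0; exact c4 (congrArg Subtype.val h0))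
  obtain ⟨κ, a, b, a', b', hκ, ha, hb, ha', hb', eα, eβ, eγ, eδ⟩ := habs
  have hK0 : ∀ z : K, σ z = z → (z : Matrix (Fin 6) (Fin 6) F) ∈ fld62K0 K := by
    intro z hz
    refine ⟨z.2, ?_⟩
    rw [← hσcoe, hz]
  refine ⟨κ, κ.2, congrArg Subtype.val hκ, ?_, ?_⟩
  · refine ⟨(a : Matrix (Fin 6) (Fin 6) F) *ᵥ u + (b : Matrix (Fin 6) (Fin 6) F) *ᵥ w,
      ⟨a, hK0 a ha, b, hK0 b hb, rfl⟩, ?_⟩
    have e1 : α = (κ : Matrix (Fin 6) (Fin 6) F) * (a : Matrix (Fin 6) (Fin 6) F) := congrArg Subtype.val eα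
    have e2 : β = (κ : Matrix (Fin 6) (Fin 6) F) * (b : Matrix (Fin 6) (Fin 6) F) := congrArg Subtype.val eβ
    rw [hx, e1, e2, Matrix.mulVec_add, Matrix.mulVec_mulVec, Matrix.mulVec_mulVec]
  · refine ⟨(a' : Matrix (Fin 6) (Fin 6) F) *ᵥ u + (b' : Matrix (Fin 6) (Fin 6) F) *ᵥ w,
      ⟨a', hK0 a' ha', b', hK0 b' hb', rfl⟩, ?_⟩
    have e1 : γ = (κ : Matrix (Fin 6) (Fin 6) F) * (a' : Matrix (Fin 6) (Fin 6) F) := congrArg Subtype.val eγ
    have e2 : δ = (κ : Matrix (Fin 6) (Fin 6) F) * (b' : Matrix (Fin 6) (Fin 6) F) := congrArg Subtype.val eδ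
    rw [hy, e1, e2, Matrix.mulVec_add, Matrix.mulVec_mulVec, Matrix.mulVec_mulVec]

end Cfsg.Agent.Lib.helper2.UX
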