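import Mathlib
import Cfsg.Prelude.Def_GeometricClasses
import Cfsg.Agent.Lib.Helper27.ASC.Defs
import Cfsg.Agent.Lib.Lead.ASCU.Defs
import Cfsg.Agent.Lib.helper2.UXDefs
import Cfsg.Agent.Lib.Helper19.ASU.Defs
import Cfsg.Agent.Lib.Helper19.ASUADJ
import Cfsg.Agent.Lib.Helper24.UXFLD62.Defs
import Cfsg.Agent.Lib.Helper22.UXFLD62POLARcore
import Cfsg.Agent.Lib.Helper24.UXFLD62K0B
import Cfsg.Agent.Lib.Helper20.UXFLD62COORD

set_option autoImplicit false
set_option linter.unusedVariables false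
set_option linter.unusedSectionVars false

/-!
# Project UX, piece FLD62-POLAR (helper22) : `fld62_polar`, verbatim vs `Helper24/UXFLD62/Skel.lean.txt`

`= uxfld62polar_core` (Helper22.UXFLD62POLARcore) + `fld62_K0_sqrt` (helper24) + `fld62_ell_nondeg`, `fld62_form`,
`fld62_coord_surj` (helper20).
-/

namespace Cfsg.Agent.Lib.helper2.UX

open Cfsg Cfsg.Geo Cfsg.Agent.Lib.Helper27.ASC Cfsg.Agent.Lib.Lead.ASCU Cfsg.Agent.Lib.Helper19.ASU
open scoped MatrixGroups Matrix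

variable {F : Type*} [Field F] [Fintype F]

/-- POLAR : two hyperbolic pairs differ by `κ ∈ K`, `κ* κ = 1` : `x, y ∈ κ V₀`. -/
theorem fld62_polar (hF : Fintype.card F = 4) (K : Subalgebra F (Matrix (Fin 6) (Fin 6) F))
    (hK : IsFieldSubalgebra 3 K) (hstar : ∀ k ∈ K, uadj 2 k ∈ K) {u w x y : Fin 6 → F}
    (hp : Fld62Pair K u w) (hp' : Fld62Pair K x y) :
    ∃ κ ∈ K, uadj 2 κ * κ = 1 ∧ (∃ v ∈ fld62V0 K u w, x = κ *ᵥ v) ∧ (∃ v ∈ fld62V0 K u w, y = κ *ᵥ v) :=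
  uxfld62polar_core hF K hK hstar hp hp' (fld62_K0_sqrt hF K hK hstar)
    (fun c hc h => fld62_ell_nondeg hF K hK hstar hp c hc h)
    (fun α β γ δ hα hβ hγ hδ => fld62_form hF K hK hstar hp α β γ δ hα hβ hγ hδ)
    (fun z => fld62_coord_surj hF K hK hstar hp z)

end Cfsg.Agent.Lib.helper2.UX
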