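import Mathlib
import Cfsg.Agent.Lib.Helper27.VF.Defs
import Cfsg.Agent.Lib.Helper27.VF.NF
import Cfsg.Agent.Lib.Helper22.VFFGb
import Cfsg.Agent.Lib.Helper22.VFSTB
import Cfsg.Agent.Lib.Helper22.VFT12

/-!
# Project VF, piece T3 (`fusion_sub`)

Every conjugation map `c_g : P → T` (`g ∈ G`, `P ≤ T`) induced inside the concrete multiple
HNN extension is a composite of inner automorphisms of `T` and of the maps `e i`, `(e i).symm`.
-/

set_option autoImplicit false

namespace Cfsg.Agent.Lib.Helper27.VF

universe u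
variable {T : Type u} [Group T]

/-- comparing left components in `ι₀ q * w = w * ι₀ u` -/
theorem h22_left_fixed (D : Datum T) (w : D.G₀) (q u : T)
    (h : D.ι₀ q * w = w * D.ι₀ u) : D.act (lam T q) w.left = w.left := by
  have h1 := congrArg SemidirectProduct.left h
  rw [SemidirectProduct.mul_left, SemidirectProduct.mul_left, ι₀_left, ι₀_left, ι₀_right,
    one_mul, map_one, mul_one] at h1
  exact h1

/-- the first letter of `tb i b * r` is fixed by `λ q` whenever `ι₀ q` is the conjugate of
some `ι₀ u` under `tb i b * r` -/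
theorem h22_first_fixed (D : Datum T) (n : ℕ) (i : D.I) (b : Bool) (r : D.G₀)
    (hr : D.R n r) (hlen : D.len (D.tb i b * r) = n + 1) (q u : T)
    (h : D.ι₀ q * (D.tb i b * r) = (D.tb i b * r) * D.ι₀ u) :
    lam T q • D.yl i b = D.yl i b := by
  have hfix := h22_left_fixed D _ q u h
  have hrl : nm r.left = n := (R_mem_len D n r hr).2
  set w' : FreeGroup D.X := D.act (D.tb i b).right r.left with hw'
  have hleft : (D.tb i b * r).left = lt (D.yl i b) b * w' := by
    rw [SemidirectProduct.mul_left, tb_left]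
  have hnw' : nm w' = n := by rw [hw', nm_act, hrl]
  have hn1 : nm (lt (D.yl i b) b * w') = nm w' + 1 := by
    rw [← hleft, hnw']; exact hlen
  rw [hleft, map_mul, act_lt] at hfix
  have h2 : nm (lt (lam T q • D.yl i b) b * D.act (lam T q) w') =
      nm (D.act (lam T q) w') + 1 := by
    rw [hfix, nm_act, hn1]
  exact (first_unique _ _ b b _ _ hfix h2 hn1).1

/-- the induction: all conjugation maps induced by elements in normal form are in `C` -/
theorem h22_fusion_R (D : Datum T) (C : (P : Subgroup T) → (P →* T) → Prop)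
    (hC1 : ∀ (P : Subgroup T) (s : T), C P ((MulAut.conj s).toMonoidHom.comp P.subtype))
    (hC2 : ∀ (P : Subgroup T) (ψ : P →* T) (i : D.I) (h : ∀ u, ψ u ∈ D.A i), C P ψ →
      C P ((D.B i).subtype.comp ((D.e i).toMonoidHom.comp (ψ.codRestrict (D.A i) h))))
    (hC3 : ∀ (P : Subgroup T) (ψ : P →* T) (i : D.I) (h : ∀ u, ψ u ∈ D.B i), C P ψ →
      C P ((D.A i).subtype.comp ((D.e i).symm.toMonoidHom.comp (ψ.codRestrict (D.B i) h))))
    (hC4 : ∀ (P : Subgroup T) (ψ : P →* T) (s : T), C P ψ →
      C P ((MulAut.conj s).toMonoidHom.comp ψ))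
    (n : ℕ) : ∀ (g : D.G₀), D.R n g → ∀ (P : Subgroup T) (ψ : P →* T),
      (∀ u : P, D.ι₀ (ψ u) = g * D.ι₀ (u : T) * g⁻¹) → C P ψ := by
  induction n with
  | zero =>
    intro g hg P ψ h
    cases hg with
    | base s =>
      have : ψ = (MulAut.conj s).toMonoidHom.comp P.subtype := by
        ext u
        apply ι₀_injective D
        rw [h u]
        simp [map_mul, map_inv]
      rw [this]
      exact hC1 P s
  | succ n ih =>
    intro g hg P ψ h
    cases hg with
    | step _ s i b r hr hlen =>
      -- the conjugate by `s⁻¹`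
      set ψ₁ : P →* T := (MulAut.conj s⁻¹).toMonoidHom.comp ψ with hψ₁
      have hψ₁u : ∀ u : P, ψ₁ u = s⁻¹ * ψ u * s := by
        intro u; simp [hψ₁]
      have hψψ₁ : ψ = (MulAut.conj s).toMonoidHom.comp ψ₁ := by
        ext u
        simp [hψ₁, mul_assoc]
      -- the basic commutation relation
      have hcomm : ∀ u : P, D.ι₀ (ψ₁ u) * (D.tb i b * r) = (D.tb i b * r) * D.ι₀ (u : T) := by
        intro u
        have h1 := h u
        rw [hψ₁u, map_mul, map_mul, h1, map_inv]
        group
      have hfix : ∀ u : P, lam T (ψ₁ u) • D.yl i b = D.yl i b := fun u =>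
        h22_first_fixed D n i b r hr hlen (ψ₁ u) u (hcomm u)
      -- conjugation by `r`
      have hr_conj : ∀ u : P, r * D.ι₀ (u : T) * r⁻¹ =
          (D.tb i b)⁻¹ * D.ι₀ (ψ₁ u) * D.tb i b := by
        intro u
        have h1 := hcomm u
        have h2 : D.ι₀ (ψ₁ u) * D.tb i b = D.tb i b * (r * D.ι₀ (u : T) * r⁻¹) := by
          have : D.ι₀ (ψ₁ u) * D.tb i b = (D.ι₀ (ψ₁ u) * (D.tb i b * r)) * r⁻¹ := by group
          rw [this, h1]; group
        rw [mul_assoc (D.tb i b)⁻¹, h2, inv_mul_cancel_left]
      cases b with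
      | true =>
        have hB : ∀ u : P, ψ₁ u ∈ D.B i := by
          intro u
          have h1 := hfix u
          simp only [Datum.yl, if_true] at h1
          exact (lam_mem_H_iff D _ i).1 ((smul_x_iff D _ i).1 h1)
        set ψ' : P →* T :=
          (D.A i).subtype.comp ((D.e i).symm.toMonoidHom.comp (ψ₁.codRestrict (D.B i) hB))
          with hψ'
        have hA' : ∀ u : P, ψ' u ∈ D.A i := by
          intro u; simp [hψ']
        have hih : C P ψ' := by
          apply ih r hr P ψ'
          intro u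
          rw [hr_conj u]
          have h3 := t_rel_symm D i ⟨ψ₁ u, hB u⟩
          simp only [Datum.tb, if_true]
          rw [h3]
          rfl
        have h4 := hC2 P ψ' i hA' hih
        have h5 : (D.B i).subtype.comp ((D.e i).toMonoidHom.comp (ψ'.codRestrict (D.A i) hA'))
            = ψ₁ := by
          ext u
          simp [hψ']
        rw [h5] at h4
        rw [hψψ₁]
        exact hC4 P ψ₁ s h4
      | false =>
        have hA : ∀ u : P, ψ₁ u ∈ D.A i := by
          intro u
          have h1 := hfix u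
          simp only [Datum.yl, Bool.false_eq_true, if_false] at h1
          apply conj_mem_H D _ i
          apply (smul_x_iff D _ i).1
          rw [mul_smul, mul_smul, h1, smul_inv_smul]
        set ψ' : P →* T :=
          (D.B i).subtype.comp ((D.e i).toMonoidHom.comp (ψ₁.codRestrict (D.A i) hA))
          with hψ'
        have hB' : ∀ u : P, ψ' u ∈ D.B i := by
          intro u; simp [hψ']
        have hih : C P ψ' := by
          apply ih r hr P ψ'
          intro u
          rw [hr_conj u]
          have h3 := t_rel D i ⟨ψ₁ u, hA u⟩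
          simp only [Datum.tb, Bool.false_eq_true, if_false, inv_inv]
          rw [h3]
          rfl
        have h4 := hC3 P ψ' i hB' hih
        have h5 : (D.A i).subtype.comp
            ((D.e i).symm.toMonoidHom.comp (ψ'.codRestrict (D.B i) hB')) = ψ₁ := by
          ext u
          simp [hψ']
        rw [h5] at h4
        rw [hψψ₁]
        exact hC4 P ψ₁ s h4

/-- VF-T3 -/
theorem fusion_sub (D : Datum T) (C : (P : Subgroup T) → (P →* T) → Prop)
    (hC1 : ∀ (P : Subgroup T) (s : T), C P ((MulAut.conj s).toMonoidHom.comp P.subtype))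
    (hC2 : ∀ (P : Subgroup T) (ψ : P →* T) (i : D.I) (h : ∀ u, ψ u ∈ D.A i), C P ψ →
      C P ((D.B i).subtype.comp ((D.e i).toMonoidHom.comp (ψ.codRestrict (D.A i) h))))
    (hC3 : ∀ (P : Subgroup T) (ψ : P →* T) (i : D.I) (h : ∀ u, ψ u ∈ D.B i), C P ψ →
      C P ((D.A i).subtype.comp ((D.e i).symm.toMonoidHom.comp (ψ.codRestrict (D.B i) h))))
    (hC4 : ∀ (P : Subgroup T) (ψ : P →* T) (s : T), C P ψ →
      C P ((MulAut.conj s).toMonoidHom.comp ψ))
    (g : D.G₀) (hg : g ∈ D.G) (P : Subgroup T) (ψ : P →* T)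
    (h : ∀ u : P, D.ι₀ (ψ u) = g * D.ι₀ (u : T) * g⁻¹) : C P ψ := by
  obtain ⟨n, hn⟩ := exists_R D g hg
  exact h22_fusion_R D C hC1 hC2 hC3 hC4 n g hn P ψ h

end Cfsg.Agent.Lib.Helper27.VF
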