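import Mathlib
import Cfsg.Agent.Lib.Lead.W2P.Defs

/-!
# Project W2P, piece FOUR (helper22)
-/

set_option autoImplicit false
set_option linter.unusedVariables false
set_option linter.unusedSectionVars false
open scoped ComplexConjugate
open Classical

namespace Cfsg.Agent.Lib.Lead.W2P

open MulAction Cfsg.Agent.Lib.helper6.PermChar Cfsg.Agent.Lib.Helper25

universe u v

/-- a primitive group of degree 4 is not regular -/
theorem w2pfour_stab_ne_bot {α : Type*} [Fintype α] [DecidableEq α] (hα : Fintype.card α = 4)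
    (G : Subgroup (Equiv.Perm α)) (hG : IsPreprimitive G α) (a : α) :
    stabilizer G a ≠ ⊥ := by
  intro hbot
  have : Nontrivial α := by
    rw [← Fintype.one_lt_card_iff_nontrivial, hα]; norm_num
  have hco := IsPreprimitive.isCoatom_stabilizer_of_isPreprimitive (G := G) a
  rw [hbot] at hco
  have : IsPretransitive G α := hG.toIsPretransitive
  have hcard : Nat.card G = 4 := by
    rw [← Nat.card_congr (orbitProdStabilizerEquivGroup G a), Nat.card_prod, hbot,
      Subgroup.card_bot, mul_one, orbit_eq_univ, Nat.card_congr (Equiv.Set.univ α),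
      Nat.card_eq_fintype_card, hα]
  have : Fact (Nat.Prime 2) := ⟨Nat.prime_two⟩
  obtain ⟨x, hx⟩ := exists_prime_orderOf_dvd_card' (G := G) 2 (by rw [hcard]; norm_num)
  have h1 : Subgroup.zpowers x ≠ ⊥ := by
    intro h
    rw [Subgroup.zpowers_eq_bot] at h
    rw [h, orderOf_one] at hx
    norm_num at hx
  have h2 := hco.2 _ (bot_lt_iff_ne_bot.2 h1)
  have h3 : Nat.card (Subgroup.zpowers x) = 2 := by rw [Nat.card_zpowers, hx]
  rw [h2, Subgroup.card_top, hcard] at h3
  norm_num at h3

/-- FOUR : a primitive group of degree 4 is doubly transitive -/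
theorem four_two_trans {α : Type*} [Fintype α] [DecidableEq α] (hα : Fintype.card α = 4)
    (G : Subgroup (Equiv.Perm α)) (hG : IsPreprimitive G α) : IsMultiplyPretransitive G α 2 := by
  have hne : Nonempty α := by
    rw [← Fintype.card_pos_iff, hα]; norm_num
  obtain ⟨a⟩ := hne
  have hst := w2pfour_stab_ne_bot hα G hG a
  obtain ⟨⟨h, hh⟩, hh1'⟩ := (Subgroup.ne_bot_iff_exists_ne_one (H := stabilizer G a)).1 hst
  have hh1 : h ≠ 1 := fun e => hh1' (Subtype.ext e)
  have hσ1 : (h : Equiv.Perm α) ≠ 1 := fun e => hh1 (Subtype.ext e)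
  have ha : (h : Equiv.Perm α) a = a := hh
  have ha' : a ∉ (h : Equiv.Perm α).support := by
    rw [Equiv.Perm.notMem_support]; exact ha
  have hlt : (h : Equiv.Perm α).support.card < Fintype.card α :=
    Finset.card_lt_univ_of_notMem ha'
  have hsum := Equiv.Perm.sum_cycleType (h : Equiv.Perm α)
  have hpos := Equiv.Perm.card_cycleType_pos.2 hσ1
  have hge : Multiset.card (h : Equiv.Perm α).cycleType • 2 ≤ (h : Equiv.Perm α).cycleType.sum :=
    Multiset.card_nsmul_le_sum (fun x hx => Equiv.Perm.two_le_of_mem_cycleType hx)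
  rw [smul_eq_mul] at hge
  have hcyc : (h : Equiv.Perm α).IsCycle := by
    rw [← Equiv.Perm.card_cycleType_eq_one]
    omega
  have hk := hcyc.two_le_card_support
  have hsn : (((h : Equiv.Perm α).support : Set α)ᶜ).ncard =
      (3 - (h : Equiv.Perm α).support.card) + 1 := by
    rw [Set.ncard_compl, Nat.card_eq_fintype_card, hα, Set.ncard_coe_finset]
    omega
  have hsn' : (3 - (h : Equiv.Perm α).support.card) + 2 < Nat.card α := by
    rw [Nat.card_eq_fintype_card, hα]
    omega
  exact hG.is_two_pretransitive hsn hsn' (Equiv.Perm.isPretransitive_of_isCycle_mem hcyc h.2)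

end Cfsg.Agent.Lib.Lead.W2P
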