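import Mathlib
import Cfsg.Agent.Lib.Lead.W2P.Defs

/-!
# Project W2P, piece JORDAN (helper22)
-/

set_option autoImplicit false
set_option linter.unusedVariables false
set_option linter.unusedSectionVars false
open scoped ComplexConjugate
open Classical

namespace Cfsg.Agent.Lib.Lead.W2P

open MulAction Cfsg.Agent.Lib.helper6.PermChar Cfsg.Agent.Lib.Helper25

universe u v

/-- JORDAN : a primitive group of degree `2p` containing an element of order `p` with a fixed point is doubly
transitive -/
theorem jordan_two_trans {α : Type*} [Fintype α] [DecidableEq α] {p : ℕ} (hp : p.Prime) (hodd : p ≠ 2)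
    (hα : Fintype.card α = 2 * p) (G : Subgroup (Equiv.Perm α)) (hG : IsPreprimitive G α)
    (g : G) (hg : orderOf g = p) (a : α) (ha : g • a = a) : IsMultiplyPretransitive G α 2 := by
  have hσ : orderOf (g : Equiv.Perm α) = p := by rw [Subgroup.orderOf_coe, hg]
  have hσp : (orderOf (g : Equiv.Perm α)).Prime := by rw [hσ]; exact hp
  obtain ⟨n, hn⟩ := Equiv.Perm.cycleType_prime_order hσp
  have hsum := Equiv.Perm.sum_cycleType (g : Equiv.Perm α)
  rw [hn, Multiset.sum_replicate, hσ, smul_eq_mul] at hsum
  have ha' : a ∉ (g : Equiv.Perm α).support := by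
    rw [Equiv.Perm.notMem_support]
    exact ha
  have hlt : (g : Equiv.Perm α).support.card < Fintype.card α := by
    apply Finset.card_lt_univ_of_notMem ha'
  have hn0 : n = 0 := by
    rw [← hsum, hα] at hlt
    by_contra h
    have : 2 ≤ n + 1 := by omega
    have := Nat.mul_le_mul_right p this
    omega
  subst hn0
  have hcyc : (g : Equiv.Perm α).IsCycle := by
    rw [← Equiv.Perm.card_cycleType_eq_one, hn]
    simp
  have hcard : (g : Equiv.Perm α).support.card = p := by rw [← hsum]; simp
  have hp2 := hp.two_le
  have hsn : (((g : Equiv.Perm α).support : Set α)ᶜ).ncard = (p - 1) + 1 := by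
    rw [Set.ncard_compl, Nat.card_eq_fintype_card, hα, Set.ncard_coe_finset, hcard]
    omega
  have hsn' : (p - 1) + 2 < Nat.card α := by
    rw [Nat.card_eq_fintype_card, hα]
    omega
  exact hG.is_two_pretransitive hsn hsn' (Equiv.Perm.isPretransitive_of_isCycle_mem hcyc g.2)

end Cfsg.Agent.Lib.Lead.W2P
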