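import Cfsg.Agent.Lib.helper15.WB.Defs
import Cfsg.Agent.Lib.Helper28.UHerm

set_option autoImplicit false

/-!
# WB-D (helper15's project WB = S2335/S2334): trace-pairing duality on Hermitian matrices
-/

namespace Cfsg.Agent.Lib.Helper22.WBD

open Matrix Cfsg.Agent.Lib.helper15.SUn Cfsg.Agent.Lib.helper15.WB

section D

variable {F : Type*} [Field F] [Fintype F] {q : ℕ} {σ : F ≃+* F} {m : ℕ}

theorem dualChar_zero (χ0 : AddChar F ℂ) : dualChar σ m χ0 0 = 1 := by
  apply DFunLike.ext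
  intro H
  rw [dualChar_apply, ZeroMemClass.coe_zero, Matrix.zero_mul, Matrix.trace_zero,
    AddChar.map_zero_eq_one, AddChar.one_apply]

theorem dualChar_comp_cg (hσ2 : ∀ x, σ (σ x) = x) (χ0 : AddChar F ℂ)
    (A : Matrix (Fin m) (Fin m) F) (X : ↥(Herm σ m)) :
    (dualChar σ m χ0 X).compAddMonoidHom (cgHom σ hσ2 A) =
      dualChar σ m χ0 ⟨cg σ ((A.map σ)ᵀ) X, cg_mem_Herm hσ2 _ X.2⟩ := by
  apply DFunLike.ext
  intro H
  rw [AddChar.compAddMonoidHom_apply, dualChar_apply, dualChar_apply, coe_cgHom]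
  congr 1
  have h2 : (((A.map σ)ᵀ).map σ)ᵀ = A := by
    ext i j
    simp [hσ2]
  show Matrix.trace ((X : Matrix (Fin m) (Fin m) F) * cg σ A H) =
    Matrix.trace (cg σ ((A.map σ)ᵀ) X * (H : Matrix (Fin m) (Fin m) F))
  unfold cg
  rw [h2]
  generalize (X : Matrix (Fin m) (Fin m) F) = X0
  generalize (H : Matrix (Fin m) (Fin m) F) = H0
  calc Matrix.trace (X0 * (A * H0 * (A.map σ)ᵀ))
      = Matrix.trace ((X0 * (A * H0)) * (A.map σ)ᵀ) := by
        simp only [Matrix.mul_assoc]
    _ = Matrix.trace ((A.map σ)ᵀ * (X0 * (A * H0))) :=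
        Matrix.trace_mul_comm _ _
    _ = Matrix.trace ((A.map σ)ᵀ * X0 * A * H0) := by
        simp only [Matrix.mul_assoc]

/-- additivity of the dual character in the matrix -/
theorem dualChar_sub_apply (χ0 : AddChar F ℂ) (X X' H : ↥(Herm σ m)) :
    dualChar σ m χ0 (X - X') H = dualChar σ m χ0 X H / dualChar σ m χ0 X' H := by
  rw [dualChar_apply, dualChar_apply, dualChar_apply, ← AddChar.map_sub_eq_div,
    AddSubgroupClass.coe_sub, Matrix.sub_mul, Matrix.trace_sub]

/-- the test matrix `t E_ji + σ(t) E_ij` -/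
theorem testMat_mem (hσ2 : ∀ x, σ (σ x) = x) (i j : Fin m) (t : F) :
    (Matrix.single j i t + Matrix.single i j (σ t) : Matrix (Fin m) (Fin m) F) ∈ Herm σ m := by
  intro k l
  simp only [Matrix.add_apply, Matrix.single_apply, map_add, apply_ite σ, map_zero, hσ2]
  rw [add_comm]
  congr 1 <;> simp only [and_comm]

theorem trace_mul_testMat (Z : Matrix (Fin m) (Fin m) F) (i j : Fin m) (t : F) :
    Matrix.trace (Z * (Matrix.single j i t + Matrix.single i j (σ t))) =
      t * Z i j + σ t * Z j i := by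
  rw [Matrix.mul_add, Matrix.trace_add, Matrix.trace_mul_single, Matrix.trace_mul_single]
  simp only [MulOpposite.smul_eq_mul_unop, MulOpposite.unop_op]
  ring

theorem dualChar_injective (hF : Fintype.card F = q ^ 2) (hσ : ∀ x, σ x = x ^ q)
    (χ0 : AddChar F ℂ) (h1 : χ0 1 ≠ 1) : Function.Injective (dualChar σ m χ0) := by
  obtain ⟨σ', hσ', hf⟩ := Cfsg.Agent.Lib.Helper28.UHerm.herm_unitary hF 1
  have hσσ : σ' = σ := by
    apply RingEquiv.ext
    intro x
    rw [hσ', hσ]
  subst hσσ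
  have hσ2 : ∀ x, σ' (σ' x) = x := hf.involutive
  intro X X' hXX
  by_contra hne
  have hZ : ((X - X' : ↥(Herm σ' m)) : Matrix (Fin m) (Fin m) F) ≠ 0 := by
    intro h
    apply hne
    have : X - X' = 0 := Subtype.ext h
    exact sub_eq_zero.1 this
  have hall : ∀ H : ↥(Herm σ' m), dualChar σ' m χ0 (X - X') H = 1 := by
    intro H
    rw [dualChar_sub_apply, hXX, div_self]
    have h5 : dualChar σ' m χ0 X' H * dualChar σ' m χ0 X' (-H) = 1 := by
      rw [← AddChar.map_add_eq_mul, add_neg_cancel, AddChar.map_zero_eq_one]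
    exact left_ne_zero_of_mul_eq_one h5
  set Z : Matrix (Fin m) (Fin m) F := ((X - X' : ↥(Herm σ' m)) : Matrix (Fin m) (Fin m) F)
    with hZdef
  have hZH : IsHerm σ' Z := (X - X').2
  obtain ⟨i, j, hij⟩ : ∃ i j, Z i j ≠ 0 := by
    by_contra hcon
    push Not at hcon
    apply hZ
    ext i j
    exact hcon i j
  obtain ⟨a, ha⟩ := Cfsg.Agent.Lib.Helper28.UForm.trace_surj hf 1 (map_one σ')
  have key := hall ⟨_, testMat_mem hσ2 i j (a / Z i j)⟩
  rw [dualChar_apply] at key
  change χ0 (Matrix.trace (Z * (Matrix.single j i (a / Z i j) +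
    Matrix.single i j (σ' (a / Z i j))))) = 1 at key
  rw [trace_mul_testMat] at key
  have h3 : a / Z i j * Z i j + σ' (a / Z i j) * Z j i = 1 := by
    rw [← hZH i j, ← map_mul, div_mul_cancel₀ _ hij]
    exact ha
  rw [h3] at key
  exact h1 key

theorem dualChar_bijective (hF : Fintype.card F = q ^ 2) (hσ : ∀ x, σ x = x ^ q)
    (χ0 : AddChar F ℂ) (h1 : χ0 1 ≠ 1) : Function.Bijective (dualChar σ m χ0) := by
  classical
  apply (dualChar_injective hF hσ χ0 h1).bijective_of_nat_card_le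
  have : Fintype ↥(Herm σ m) := Fintype.ofFinite _
  rw [Nat.card_eq_fintype_card, Nat.card_eq_fintype_card, AddChar.card_eq]

end D

end Cfsg.Agent.Lib.Helper22.WBD
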