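import Mathlib

set_option autoImplicit false

namespace Cfsg.Agent.Lib.Helper22.ZFormJ

open Finset

theorem fpf_of_geom_sum {G : Type*} [Group G] [Finite G] {K : Type*} [Field K] [CharZero K]
    {E : Type*} [AddCommGroup E] [Module K E]
    (T : G →* Module.End K E) (hT : ∀ g : G, g ≠ 1 → ∑ i ∈ range (orderOf g), T g ^ i = 0)
    (g : G) (hg : g ≠ 1) (x : E) (hx : T g x = x) : x = 0 := by
  have h1 := congrArg (fun f : Module.End K E => f x) (hT g hg)
  simp only [LinearMap.sum_apply, LinearMap.zero_apply] at h1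
  have h2' : ∀ i : ℕ, (T g ^ i) x = x := by
    intro i
    induction i with
    | zero => simp
    | succ i ih => rw [pow_succ, Module.End.mul_apply, hx, ih]
  have h2 : ∀ i ∈ range (orderOf g), (T g ^ i) x = x := fun i _ => h2' i
  rw [Finset.sum_congr rfl h2, Finset.sum_const, Finset.card_range] at h1
  have h3 : (orderOf g : K) • x = 0 := by
    rw [Nat.cast_smul_eq_nsmul]
    exact h1
  rcases smul_eq_zero.mp h3 with h | h
  · exfalso
    have : orderOf g = 0 := by exact_mod_cast h
    exact (orderOf_pos g).ne' this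
  · exact h

theorem exists_irreducible_fpf {G : Type*} [Group G] [Finite G] {K : Type*} [Field K]
    [CharZero K] {E : Type*} [AddCommGroup E] [Module K E] [FiniteDimensional K E] [Nontrivial E]
    (T : G →* Module.End K E) (hT : ∀ g : G, g ≠ 1 → ∑ i ∈ range (orderOf g), T g ^ i = 0) :
    ∃ (n : ℕ) (ρ : G →* GL (Fin n) K), 0 < n ∧ Function.Injective ρ ∧
      (∀ W : Submodule K (Fin n → K),
        (∀ g : G, ∀ w ∈ W, ((ρ g : GL (Fin n) K) : Matrix (Fin n) (Fin n) K).mulVec w ∈ W) →
          W = ⊥ ∨ W = ⊤) ∧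
      ∀ g : G, g ≠ 1 → ∀ v : Fin n → K,
        ((ρ g : GL (Fin n) K) : Matrix (Fin n) (Fin n) K).mulVec v = v → v = 0 := by
  classical
  have hfpfE := fpf_of_geom_sum T hT
  -- minimal invariant subspace
  let S : Set (Submodule K E) := {W | W ≠ ⊥ ∧ ∀ g : G, ∀ w ∈ W, T g w ∈ W}
  have hex : ∃ m : ℕ, ∃ W ∈ S, Module.finrank K W = m :=
    ⟨_, ⊤, ⟨top_ne_bot, fun _ _ _ => Submodule.mem_top⟩, rfl⟩
  obtain ⟨W, hWS, hWm⟩ := Nat.find_spec hex
  have hmin : ∀ W' ∈ S, Module.finrank K W ≤ Module.finrank K W' := by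
    intro W' hW'
    rw [hWm]
    exact Nat.find_min' hex ⟨W', hW', rfl⟩
  obtain ⟨hWbot, hWinv⟩ := hWS
  set n := Module.finrank K W with hn
  have hnpos : 0 < n := by
    rw [hn]
    exact Module.finrank_pos_iff.mpr ((Submodule.nontrivial_iff_ne_bot).mpr hWbot)
  let b : Module.Basis (Fin n) K W := Module.finBasis K W
  -- restricted action
  let T' : G →* Module.End K W :=
    { toFun := fun g => (T g).restrict (hWinv g)
      map_one' := by
        apply LinearMap.ext
        intro x
        apply Subtype.ext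
        rw [LinearMap.coe_restrict_apply, map_one]
        rfl
      map_mul' := fun g h => by
        apply LinearMap.ext
        intro x
        apply Subtype.ext
        rw [LinearMap.coe_restrict_apply, map_mul]
        rfl }
  have hT' : ∀ (g : G) (x : W), ((T' g x : W) : E) = T g x := fun g x => rfl
  let ρm : G →* Matrix (Fin n) (Fin n) K :=
    (LinearMap.toMatrixAlgEquiv b).toRingEquiv.toRingHom.toMonoidHom.comp T'
  have hρm : ∀ g : G, ρm g = LinearMap.toMatrix b b (T' g) := fun g => rfl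
  have hmv : ∀ (g : G) (x : W), (ρm g).mulVec (b.repr x) = b.repr (T' g x) := by
    intro g x
    rw [hρm]
    exact LinearMap.toMatrix_mulVec_repr b b (T' g) x
  have hfpf : ∀ g : G, g ≠ 1 → ∀ v : Fin n → K, (ρm g).mulVec v = v → v = 0 := by
    intro g hg v hv
    obtain ⟨x, rfl⟩ : ∃ x : W, b.equivFun x = v := ⟨b.equivFun.symm v, b.equivFun.apply_symm_apply v⟩
    have h1 : (ρm g).mulVec (b.repr x) = b.repr x := hv
    rw [hmv] at h1
    have h2 : T' g x = x := b.repr.injective (DFunLike.coe_injective h1)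
    have h3 : T g x = x := by rw [← hT', h2]
    have h4 := hfpfE g hg _ h3
    have h5 : x = 0 := Subtype.ext h4
    rw [h5, map_zero]
  refine ⟨n, ρm.toHomUnits, hnpos, ?_, ?_, ?_⟩
  · -- injective
    rw [injective_iff_map_eq_one]
    intro g hg
    by_contra hg1
    have h1 : ρm g = 1 := by
      have := congrArg (fun u : (Matrix (Fin n) (Fin n) K)ˣ => (u : Matrix (Fin n) (Fin n) K)) hg
      simpa using this
    have h2 := hfpf g hg1 (fun _ => 1) (by rw [h1, Matrix.one_mulVec])
    have h3 := congrFun h2 ⟨0, hnpos⟩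
    simp at h3
  · -- irreducible
    intro U hU
    have hU' : ∀ g : G, ∀ w ∈ U, (ρm g).mulVec w ∈ U := hU
    let W'' : Submodule K E := (U.comap b.equivFun.toLinearMap).map W.subtype
    have hW''le : W'' ≤ W := by
      rintro y ⟨x, _, rfl⟩
      exact x.2
    have hW''inv : ∀ g : G, ∀ w ∈ W'', T g w ∈ W'' := by
      rintro g y ⟨x, hx, rfl⟩
      refine ⟨T' g x, ?_, rfl⟩
      have h1 : b.equivFun x ∈ U := hx
      have h2 := hU' g _ h1
      have h3 : (ρm g).mulVec (b.equivFun x) = b.equivFun (T' g x) := hmv g x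
      rw [h3] at h2
      exact h2
    by_cases hbot : W'' = ⊥
    · left
      rw [eq_bot_iff]
      intro v hv
      obtain ⟨x, rfl⟩ : ∃ x : W, b.equivFun x = v := ⟨b.equivFun.symm v, b.equivFun.apply_symm_apply v⟩
      have h1 : (x : E) ∈ W'' := ⟨x, hv, rfl⟩
      rw [hbot, Submodule.mem_bot] at h1
      have h2 : x = 0 := Subtype.ext h1
      rw [h2, map_zero]
      exact Submodule.zero_mem _
    · right
      have h1 := hmin W'' ⟨hbot, hW''inv⟩
      have h2 : W'' = W := Submodule.eq_of_le_of_finrank_le hW''le h1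
      rw [eq_top_iff]
      intro v _
      obtain ⟨x, rfl⟩ : ∃ x : W, b.equivFun x = v := ⟨b.equivFun.symm v, b.equivFun.apply_symm_apply v⟩
      have h3 : (x : E) ∈ W'' := by rw [h2]; exact x.2
      obtain ⟨x', hx', hxx'⟩ := h3
      have h4 : x' = x := Subtype.ext hxx'
      rw [← h4]
      exact hx'
  · intro g hg v hv
    exact hfpf g hg v hv

end Cfsg.Agent.Lib.Helper22.ZFormJ
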